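import Mathlib

/-!
# Numerical lemmas on eventually polynomial functions (helper11, Hilbert–Samuel project)
-/

set_option autoImplicit false
open Polynomial Filter

namespace Groth.Agent.Lib.Helper11.HS

/-- `f` agrees with the polynomial `P` at all large natural numbers. -/
def IsEvPoly (f : ℕ → ℤ) (P : ℚ[X]) : Prop := ∃ N : ℕ, ∀ n, N ≤ n → (f n : ℚ) = P.eval (n : ℚ)

theorem IsEvPoly.unique {f : ℕ → ℤ} {P Q : ℚ[X]} (hP : IsEvPoly f P) (hQ : IsEvPoly f Q) :
    P = Q := by
  obtain ⟨N, hN⟩ := hP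
  obtain ⟨N', hN'⟩ := hQ
  refine Polynomial.eq_of_infinite_eval_eq P Q ?_
  refine Set.infinite_of_injective_forall_mem (f := fun n : ℕ => ((n + N + N' : ℕ) : ℚ)) ?_ ?_
  · intro a b h
    simpa using h
  · intro n
    show P.eval _ = Q.eval _
    rw [← hN _ (by omega), ← hN' _ (by omega)]

/-- the forward difference of a polynomial -/
noncomputable def Δ (P : ℚ[X]) : ℚ[X] := P.comp (X + 1) - P

theorem Δ_eval (P : ℚ[X]) (a : ℚ) : (Δ P).eval a = P.eval (a + 1) - P.eval a := by
  simp [Δ]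

theorem Δ_add (P Q : ℚ[X]) : Δ (P + Q) = Δ P + Δ Q := by
  simp only [Δ, add_comp]; ring

theorem Δ_zero : Δ 0 = 0 := by simp [Δ]

/-- shifting the variable does not change the leading term -/
theorem degree_comp_add_sub_lt (P : ℚ[X]) (c : ℚ) (t : ℕ) (hP : P.degree < ((t + 1 : ℕ) : WithBot ℕ)) :
    (P.comp (X + C c) - P).degree < (t : WithBot ℕ) := by
  by_cases hP0 : P = 0
  · subst hP0; simp only [zero_comp, sub_zero, degree_zero]; exact WithBot.bot_lt_coe t
  have h1 : (P.comp (X + C c)).degree = P.degree := by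
    rw [degree_eq_natDegree hP0, degree_eq_natDegree]
    · rw [natDegree_comp, natDegree_X_add_C, mul_one]
    · intro h
      apply hP0
      have := congrArg (fun q : ℚ[X] => q.comp (X - C c)) h
      simpa [comp_assoc] using this
  have h2 : (P.comp (X + C c)).leadingCoeff = P.leadingCoeff := by
    rw [leadingCoeff_comp (by rw [natDegree_X_add_C]; exact one_ne_zero), leadingCoeff_X_add_C,
      one_pow, mul_one]
  have hlt : (P.comp (X + C c) - P).degree < P.degree := by
    have hne : P.comp (X + C c) ≠ 0 := by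
      intro h; rw [h, degree_zero] at h1; exact hP0 (degree_eq_bot.1 h1.symm)
    exact h1 ▸ degree_sub_lt_left h1 hne h2
  -- P.degree ≤ t
  have hPt : P.degree ≤ (t : WithBot ℕ) := by
    rw [degree_eq_natDegree hP0] at hP ⊢
    have : P.natDegree < t + 1 := by exact_mod_cast hP
    exact_mod_cast Nat.lt_succ_iff.1 this
  exact lt_of_lt_of_le hlt hPt

theorem degree_Δ_lt (P : ℚ[X]) (t : ℕ) (hP : P.degree < ((t + 1 : ℕ) : WithBot ℕ)) :
    (Δ P).degree < (t : WithBot ℕ) := by
  have := degree_comp_add_sub_lt P 1 t hP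
  simpa [Δ] using this

/-- every polynomial of degree `< t` is the forward difference of one of degree `< t + 1`. -/
theorem exists_antidiff (t : ℕ) : ∀ Q : ℚ[X], Q.degree < (t : WithBot ℕ) →
    ∃ P : ℚ[X], P.degree < ((t + 1 : ℕ) : WithBot ℕ) ∧ Δ P = Q := by
  induction t with
  | zero =>
    intro Q hQ
    have : Q = 0 := by
      rw [← degree_eq_bot]
      by_contra h
      rw [degree_eq_natDegree (fun h0 => h (degree_eq_bot.2 h0))] at hQ
      have : (Q.natDegree : ℕ) < 0 := by exact_mod_cast hQ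
      omega
    subst this
    exact ⟨0, by simp only [degree_zero]; exact WithBot.bot_lt_coe _, Δ_zero⟩
  | succ t ih =>
    intro Q hQ
    set a := Q.coeff t with ha
    set P₀ : ℚ[X] := C (a / (t + 1)) * X ^ (t + 1) with hP₀
    have hP₀deg : P₀.degree < ((t + 1 + 1 : ℕ) : WithBot ℕ) := by
      refine lt_of_le_of_lt (degree_C_mul_X_pow_le _ _) ?_
      exact_mod_cast Nat.lt_succ_self _
    have hΔdeg : (Δ P₀).degree < ((t + 1 : ℕ) : WithBot ℕ) := degree_Δ_lt P₀ (t + 1) hP₀deg
    have hcoef : (Δ P₀).coeff t = a := by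
      simp only [Δ, hP₀, mul_comp, C_comp, pow_comp, X_comp, coeff_sub, coeff_C_mul]
      rw [coeff_X_pow, if_neg (by omega), mul_zero, sub_zero, coeff_X_add_one_pow]
      simp only [Nat.choose_succ_self_right, Nat.cast_add, Nat.cast_one]
      field_simp
    have hQ' : (Q - Δ P₀).degree < (t : WithBot ℕ) := by
      rw [degree_lt_iff_coeff_zero]
      intro m hm
      rw [coeff_sub]
      rcases Nat.eq_or_lt_of_le hm with h | h
      · rw [← h, hcoef, sub_self]
      · have h1 : Q.coeff m = 0 := coeff_eq_zero_of_degree_lt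
          (lt_of_lt_of_le hQ (by exact_mod_cast h))
        have h2 : (Δ P₀).coeff m = 0 := coeff_eq_zero_of_degree_lt
          (lt_of_lt_of_le hΔdeg (by exact_mod_cast h))
        rw [h1, h2, sub_zero]
    obtain ⟨P₁, hP₁deg, hP₁⟩ := ih _ hQ'
    refine ⟨P₀ + P₁, ?_, ?_⟩
    · refine lt_of_le_of_lt (degree_add_le _ _) (max_lt hP₀deg ?_)
      exact lt_trans hP₁deg (by exact_mod_cast Nat.lt_succ_self _)
    · rw [Δ_add, hP₁]; ring

/-- if the forward difference of `f` is eventually polynomial of degree `< t`, then `f` is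
eventually polynomial of degree `< t + 1`. -/
theorem IsEvPoly.of_diff {f : ℕ → ℤ} {Q : ℚ[X]} (t : ℕ) (hQ : Q.degree < (t : WithBot ℕ))
    (h : IsEvPoly (fun n => f (n + 1) - f n) Q) :
    ∃ P : ℚ[X], P.degree < ((t + 1 : ℕ) : WithBot ℕ) ∧ IsEvPoly f P := by
  obtain ⟨P₀, hP₀deg, hP₀⟩ := exists_antidiff t Q hQ
  obtain ⟨N, hN⟩ := h
  -- adjust the constant
  set c : ℚ := (f N : ℚ) - P₀.eval (N : ℚ) with hc
  refine ⟨P₀ + C c, ?_, N, ?_⟩
  · refine lt_of_le_of_lt (degree_add_le _ _) (max_lt hP₀deg ?_)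
    exact lt_of_le_of_lt degree_C_le (by exact_mod_cast Nat.succ_pos t)
  · intro n hn
    induction n, hn using Nat.le_induction with
    | base => simp [hc]
    | succ n hn ih =>
      have h1 := hN n hn
      rw [← hP₀, Δ_eval] at h1
      simp only [eval_add, eval_C] at ih ⊢
      push_cast at h1 ⊢
      linarith

theorem eventually_pos_of_leadingCoeff_pos (P : ℚ[X]) (h : 0 < P.leadingCoeff) :
    ∃ N : ℕ, ∀ n : ℕ, N ≤ n → 0 < P.eval (n : ℚ) := by
  by_cases hdeg : 0 < P.degree
  · have h1 := P.tendsto_atTop_of_leadingCoeff_nonneg hdeg h.le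
    have h2 := h1.comp (tendsto_natCast_atTop_atTop (R := ℚ))
    have h3 := h2.eventually_gt_atTop 0
    rw [eventually_atTop] at h3
    obtain ⟨N, hN⟩ := h3
    exact ⟨N, fun n hn => hN n hn⟩
  · have hle : P.degree ≤ 0 := not_lt.1 hdeg
    rw [eq_C_of_degree_le_zero hle] at h ⊢
    rw [leadingCoeff_C] at h
    exact ⟨0, fun n _ => by simpa using h⟩

theorem leadingCoeff_pos_of_eventually_nonneg (P : ℚ[X]) (hP : P ≠ 0)
    (h : ∃ N : ℕ, ∀ n : ℕ, N ≤ n → 0 ≤ P.eval (n : ℚ)) : 0 < P.leadingCoeff := by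
  by_contra hcon
  have hlt : P.leadingCoeff < 0 :=
    lt_of_le_of_ne (not_lt.1 hcon) (fun h0 => hP (leadingCoeff_eq_zero.1 h0))
  have : 0 < (-P).leadingCoeff := by rw [leadingCoeff_neg]; linarith
  obtain ⟨N, hN⟩ := eventually_pos_of_leadingCoeff_pos (-P) this
  obtain ⟨N', hN'⟩ := h
  have h1 := hN (max N N') (le_max_left _ _)
  have h2 := hN' (max N N') (le_max_right _ _)
  rw [eval_neg] at h1
  linarith

/-- comparison of degrees from eventual comparison of values -/
theorem degree_le_of_eventually_le (P Q : ℚ[X])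
    (h : ∃ N : ℕ, ∀ n : ℕ, N ≤ n → 0 ≤ P.eval (n : ℚ) ∧ P.eval (n : ℚ) ≤ Q.eval (n : ℚ)) :
    P.degree ≤ Q.degree := by
  by_contra hcon
  have hlt : Q.degree < P.degree := not_le.1 hcon
  have hP : P ≠ 0 := by
    rintro rfl
    rw [degree_zero] at hlt
    exact not_lt_bot hlt
  obtain ⟨N, hN⟩ := h
  have hlc := leadingCoeff_pos_of_eventually_nonneg P hP ⟨N, fun n hn => (hN n hn).1⟩
  have hD : (P - Q).leadingCoeff = P.leadingCoeff := leadingCoeff_sub_of_degree_lt hlt
  obtain ⟨N', hN'⟩ := eventually_pos_of_leadingCoeff_pos (P - Q) (hD ▸ hlc)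
  have h1 := hN' (max N N') (le_max_right _ _)
  have h2 := (hN (max N N') (le_max_left _ _)).2
  rw [eval_sub] at h1
  linarith

/-- a polynomial whose forward difference vanishes is constant -/
theorem degree_le_zero_of_Δ_eq_zero (P : ℚ[X]) (h : Δ P = 0) : P.degree ≤ 0 := by
  have hconst : ∀ n : ℕ, P.eval (n : ℚ) = P.eval 0 := by
    intro n
    induction n with
    | zero => simp
    | succ n ih =>
      have := Δ_eval P (n : ℚ)
      rw [h, eval_zero] at this
      push_cast
      linarith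
  have : P = C (P.eval 0) := by
    refine Polynomial.eq_of_infinite_eval_eq _ _ ?_
    refine Set.infinite_of_injective_forall_mem (f := fun n : ℕ => (n : ℚ)) Nat.cast_injective ?_
    intro n
    show P.eval _ = (C (P.eval 0)).eval _
    rw [hconst n, eval_C]
  rw [this]
  exact degree_C_le

theorem degree_lt_succ_of_degree_Δ_lt (P : ℚ[X]) (t : ℕ) (h : (Δ P).degree < (t : WithBot ℕ)) :
    P.degree < ((t + 1 : ℕ) : WithBot ℕ) := by
  obtain ⟨P', hP'deg, hP'⟩ := exists_antidiff t (Δ P) h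
  have h0 : Δ (P - P') = 0 := by
    have : P - P' = P + (-1 : ℚ[X]) * P' := by ring
    simp only [Δ] at hP' ⊢
    rw [sub_comp, sub_sub_sub_comm, hP', sub_self]
  have h1 := degree_le_zero_of_Δ_eq_zero _ h0
  have : P = (P - P') + P' := by ring
  rw [this]
  refine lt_of_le_of_lt (degree_add_le _ _) (max_lt (lt_of_le_of_lt h1 ?_) hP'deg)
  exact_mod_cast Nat.succ_pos t


end Groth.Agent.Lib.Helper11.HS
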