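import Mathlib
import Groth.Agent.Lib.Helper11.HSNum

/-!
# Graded Hilbert–Serre theorem, abstract form (helper11, Hilbert–Samuel project)

`R` is a Noetherian commutative `A`-algebra generated by elements `x i`.  A finitely generated
`R`-module `G` is given a grading through a family of `A`-linear orthogonal projections `π n`
with `x i • π n v = π (n+1) (x i • v)`.  If the graded pieces have finite length over `A`, their
lengths are eventually a polynomial in `n` of degree `< s` (`s` = number of generators).
-/

set_option autoImplicit false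
universe u v w
open Polynomial

namespace Groth.Agent.Lib.Helper11.HS

variable {A : Type u} [CommRing A] {R : Type v} [CommRing R] [Algebra A R]
  {s : ℕ} (x : Fin s → R)

/-- A grading on an `R`-module given by `A`-linear orthogonal projections, for which the `x i`
have degree one. -/
structure GrProj (G : Type w) [AddCommGroup G] [Module A G] [Module R G]
    [IsScalarTower A R G] where
  π : ℕ → G →ₗ[A] G
  π_same : ∀ n v, π n (π n v) = π n v
  π_ne : ∀ m n v, m ≠ n → π m (π n v) = 0
  fin : ∀ v, ∃ N, (∀ n, N ≤ n → π n v = 0) ∧ ∑ n ∈ Finset.range N, π n v = v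
  smul : ∀ i n v, x i • π n v = π (n + 1) (x i • v)

namespace GrProj

variable {x} {G : Type w} [AddCommGroup G] [Module A G] [Module R G] [IsScalarTower A R G]
  (P : GrProj (A := A) x G)

/-- the graded pieces -/
def piece (n : ℕ) : Submodule A G := LinearMap.range (P.π n)

theorem mem_piece_iff (n : ℕ) (v : G) : v ∈ P.piece n ↔ P.π n v = v := by
  constructor
  · rintro ⟨w, rfl⟩; exact P.π_same n w
  · intro h; exact ⟨v, h⟩

theorem π_zero_smul (i : Fin s) (v : G) : P.π 0 (x i • v) = 0 := by
  obtain ⟨N, -, hN⟩ := P.fin v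
  conv_lhs => rw [← hN]
  rw [Finset.smul_sum, map_sum]
  refine Finset.sum_eq_zero fun n _ => ?_
  rw [P.smul, P.π_ne 0 (n + 1) _ (by omega)]

theorem smul_mem_piece (i : Fin s) (n : ℕ) {v : G} (hv : v ∈ P.piece n) :
    x i • v ∈ P.piece (n + 1) := by
  rw [mem_piece_iff] at hv ⊢
  rw [← P.smul, hv]

end GrProj

section KerCoker

variable {x} {G : Type w} [AddCommGroup G] [Module A G] [Module R G] [IsScalarTower A R G]
  (P : GrProj (A := A) x G) (y : R) (j : Fin s) (hy : x j = y)

/-- the kernel of multiplication by `y` -/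
abbrev kerY : Submodule R G := LinearMap.ker (LinearMap.lsmul R G y)

/-- the image of multiplication by `y` -/
abbrev imY : Submodule R G := LinearMap.range (LinearMap.lsmul R G y)

theorem mem_kerY (v : G) : v ∈ kerY (G := G) y ↔ y • v = 0 := by
  rw [LinearMap.mem_ker, LinearMap.lsmul_apply]

theorem mem_imY (v : G) : v ∈ imY (G := G) y ↔ ∃ w : G, y • w = v := by
  simp [imY, LinearMap.mem_range, LinearMap.lsmul_apply]

include hy in
theorem π_mem_kerY (n : ℕ) {v : G} (hv : v ∈ kerY (G := G) y) : P.π n v ∈ kerY (G := G) y := by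
  rw [mem_kerY] at hv ⊢
  rw [← hy, P.smul, hy, hv, map_zero]

include hy in
theorem π_mem_imY (n : ℕ) {v : G} (hv : v ∈ imY (G := G) y) : P.π n v ∈ imY (G := G) y := by
  rw [mem_imY] at hv ⊢
  obtain ⟨w, rfl⟩ := hv
  rcases n with _ | n
  · exact ⟨0, by rw [smul_zero, ← hy, P.π_zero_smul]⟩
  · exact ⟨P.π n w, by rw [← hy, P.smul]⟩

/-- the induced grading on the kernel of `y` -/
noncomputable def kerGr : GrProj (A := A) x (kerY (G := G) y) where
  π n :=
    { toFun := fun v => ⟨P.π n v, π_mem_kerY P y j hy n v.2⟩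
      map_add' := fun _ _ => by ext; simp
      map_smul' := fun _ _ => by ext; simp }
  π_same n v := by ext; exact P.π_same n v
  π_ne m n v h := by ext; exact P.π_ne m n v h
  fin v := by
    obtain ⟨N, h1, h2⟩ := P.fin (v : G)
    refine ⟨N, fun n hn => ?_, ?_⟩
    · ext; exact h1 n hn
    · ext
      simp only [Submodule.coe_sum, LinearMap.coe_mk, AddHom.coe_mk]
      exact h2
  smul i n v := by ext; exact P.smul i n v

@[simp] theorem kerGr_π_coe (n : ℕ) (v : kerY (G := G) y) :
    (((kerGr P y j hy).π n v : kerY (G := G) y) : G) = P.π n (v : G) := rfl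

/-- the projections descend to the quotient by `y G`. -/
noncomputable def cokerπ (n : ℕ) : (G ⧸ imY (G := G) y) →ₗ[A] (G ⧸ imY (G := G) y) :=
  (Submodule.Quotient.restrictScalarsEquiv A (imY (G := G) y)).toLinearMap ∘ₗ
    (Submodule.mapQ ((imY (G := G) y).restrictScalars A) ((imY (G := G) y).restrictScalars A)
      (P.π n) (fun v hv => π_mem_imY P y j hy n hv)) ∘ₗ
    (Submodule.Quotient.restrictScalarsEquiv A (imY (G := G) y)).symm.toLinearMap

theorem cokerπ_mk (n : ℕ) (v : G) :
    cokerπ P y j hy n (Submodule.Quotient.mk v) = Submodule.Quotient.mk (P.π n v) := by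
  simp only [cokerπ, LinearMap.comp_apply, LinearEquiv.coe_coe,
    Submodule.Quotient.restrictScalarsEquiv_symm_mk, Submodule.mapQ_apply,
    Submodule.Quotient.restrictScalarsEquiv_mk]

/-- the induced grading on the cokernel of `y` -/
noncomputable def cokerGr : GrProj (A := A) x (G ⧸ imY (G := G) y) where
  π n := cokerπ P y j hy n
  π_same n v := by
    obtain ⟨v, rfl⟩ := Submodule.Quotient.mk_surjective _ v
    rw [cokerπ_mk, cokerπ_mk, P.π_same]
  π_ne m n v h := by
    obtain ⟨v, rfl⟩ := Submodule.Quotient.mk_surjective _ v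
    rw [cokerπ_mk, cokerπ_mk, P.π_ne m n v h, Submodule.Quotient.mk_zero]
  fin v := by
    obtain ⟨v, rfl⟩ := Submodule.Quotient.mk_surjective _ v
    obtain ⟨N, h1, h2⟩ := P.fin v
    refine ⟨N, fun n hn => ?_, ?_⟩
    · rw [cokerπ_mk, h1 n hn, Submodule.Quotient.mk_zero]
    · simp only [cokerπ_mk]
      conv_rhs => rw [← h2]
      exact (map_sum (Submodule.mkQ (imY (G := G) y)) _ _).symm
  smul i n v := by
    obtain ⟨v, rfl⟩ := Submodule.Quotient.mk_surjective _ v
    rw [cokerπ_mk, ← Submodule.Quotient.mk_smul, P.smul, ← Submodule.Quotient.mk_smul, cokerπ_mk]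

end KerCoker

section LengthIdentity

variable {x} {G : Type w} [AddCommGroup G] [Module A G] [Module R G] [IsScalarTower A R G]
  (P : GrProj (A := A) x G) (y : R) (j : Fin s) (hy : x j = y)

/-- inclusion of the piece of the kernel -/
noncomputable def αmap (n : ℕ) : (kerGr P y j hy).piece n →ₗ[A] P.piece n where
  toFun v := ⟨((v : kerY (G := G) y) : G), by
    have h := ((kerGr P y j hy).mem_piece_iff n v.1).1 v.2
    rw [P.mem_piece_iff]
    exact congrArg Subtype.val h⟩
  map_add' _ _ := rfl
  map_smul' _ _ := rfl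

/-- multiplication by `y` on pieces -/
noncomputable def μmap (n : ℕ) : P.piece n →ₗ[A] P.piece (n + 1) where
  toFun v := ⟨y • (v : G), hy ▸ P.smul_mem_piece j n v.2⟩
  map_add' v w := by ext; simp
  map_smul' a v := by
    ext
    simp only [Submodule.coe_smul, RingHom.id_apply]
    exact smul_comm y a (v : G)

/-- projection to the piece of the cokernel -/
noncomputable def βmap (n : ℕ) : P.piece n →ₗ[A] (cokerGr P y j hy).piece n where
  toFun v := ⟨Submodule.Quotient.mk (v : G), by
    rw [(cokerGr P y j hy).mem_piece_iff]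
    show cokerπ P y j hy n _ = _
    rw [cokerπ_mk, (P.mem_piece_iff n _).1 v.2]⟩
  map_add' _ _ := rfl
  map_smul' _ _ := rfl

theorem αmap_injective (n : ℕ) : Function.Injective (αmap P y j hy n) := by
  intro v w h
  have : ((v : kerY (G := G) y) : G) = ((w : kerY (G := G) y) : G) :=
    congrArg (fun z : P.piece n => (z : G)) h
  exact Subtype.ext (Subtype.ext this)

theorem βmap_surjective (n : ℕ) : Function.Surjective (βmap P y j hy n) := by
  rintro ⟨w, hw⟩
  obtain ⟨v, rfl⟩ := Submodule.Quotient.mk_surjective _ w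
  rw [(cokerGr P y j hy).mem_piece_iff] at hw
  have hw' : cokerπ P y j hy n (Submodule.Quotient.mk v) = Submodule.Quotient.mk v := hw
  rw [cokerπ_mk] at hw'
  refine ⟨⟨P.π n v, ⟨v, rfl⟩⟩, ?_⟩
  exact Subtype.ext hw'

theorem exact_α_μ (n : ℕ) : Function.Exact (αmap P y j hy n) (μmap P y j hy n) := by
  intro v
  constructor
  · intro hv
    have h0 : y • (v : G) = 0 := congrArg Subtype.val hv
    have hk : (v : G) ∈ kerY (G := G) y := (mem_kerY y _).2 h0
    refine ⟨⟨⟨(v : G), hk⟩, ?_⟩, ?_⟩
    · rw [(kerGr P y j hy).mem_piece_iff]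
      exact Subtype.ext ((P.mem_piece_iff n _).1 v.2)
    · exact Subtype.ext rfl
  · rintro ⟨w, rfl⟩
    have : y • ((w : kerY (G := G) y) : G) = 0 := (mem_kerY y _).1 (w : kerY (G := G) y).2
    exact Subtype.ext this

theorem range_μ_eq_ker_β (n : ℕ) :
    LinearMap.range (μmap P y j hy n) = LinearMap.ker (βmap P y j hy (n + 1)) := by
  ext v
  constructor
  · rintro ⟨w, rfl⟩
    rw [LinearMap.mem_ker]
    apply Subtype.ext
    show Submodule.Quotient.mk (y • (w : G)) = 0
    rw [Submodule.Quotient.mk_eq_zero, mem_imY]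
    exact ⟨_, rfl⟩
  · intro hv
    rw [LinearMap.mem_ker] at hv
    have h0 : (Submodule.Quotient.mk (v : G) : G ⧸ imY (G := G) y) = 0 := congrArg Subtype.val hv
    rw [Submodule.Quotient.mk_eq_zero, mem_imY] at h0
    obtain ⟨w, hw⟩ := h0
    refine ⟨⟨P.π n w, ⟨w, rfl⟩⟩, ?_⟩
    apply Subtype.ext
    show y • P.π n w = (v : G)
    rw [← hy, P.smul, hy, hw, (P.mem_piece_iff (n + 1) _).1 v.2]

theorem length_identity (n : ℕ) :
    Module.length A (P.piece n) + Module.length A ((cokerGr P y j hy).piece (n + 1)) =
      Module.length A ((kerGr P y j hy).piece n) + Module.length A (P.piece (n + 1)) := by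
  have h1 := Module.length_eq_add_of_exact (αmap P y j hy n) (μmap P y j hy n).rangeRestrict
    (αmap_injective P y j hy n) (LinearMap.surjective_rangeRestrict _) (by
      intro v
      rw [← exact_α_μ P y j hy n v]
      constructor
      · intro h; exact congrArg Subtype.val h
      · intro h; exact Subtype.ext h)
  have h2 := Module.length_eq_add_of_exact (LinearMap.range (μmap P y j hy n)).subtype
    (βmap P y j hy (n + 1)) (Submodule.subtype_injective _) (βmap_surjective P y j hy (n + 1)) (by
      rw [LinearMap.exact_iff, Submodule.range_subtype, range_μ_eq_ker_β])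
  rw [h1, h2]
  ring

end LengthIdentity


section Main

variable {x}

/-- the length of the `n`-th piece as an integer -/
noncomputable def GrProj.len {G : Type w} [AddCommGroup G] [Module A G] [Module R G]
    [IsScalarTower A R G] (P : GrProj (A := A) x G) (n : ℕ) : ℤ :=
  ((Module.length A (P.piece n)).toNat : ℤ)

/-- if every `x i` acts as zero, `R` acts through `A`. -/
theorem exists_smul_eq_of_kill (hx : Algebra.adjoin A (Set.range x) = ⊤)
    {G : Type w} [AddCommGroup G] [Module A G] [Module R G] [IsScalarTower A R G]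
    (hkill : ∀ (i : Fin s) (v : G), x i • v = 0) (r : R) :
    ∃ a : A, ∀ v : G, r • v = a • v := by
  have hr : r ∈ Algebra.adjoin A (Set.range x) := hx ▸ Algebra.mem_top
  induction hr using Algebra.adjoin_induction with
  | mem r hr =>
    obtain ⟨i, rfl⟩ := hr
    exact ⟨0, fun v => by rw [hkill, zero_smul]⟩
  | algebraMap a => exact ⟨a, fun v => algebraMap_smul R a v⟩
  | add r₁ r₂ _ _ h₁ h₂ =>
    obtain ⟨a₁, h₁⟩ := h₁
    obtain ⟨a₂, h₂⟩ := h₂
    exact ⟨a₁ + a₂, fun v => by rw [add_smul, add_smul, h₁, h₂]⟩
  | mul r₁ r₂ _ _ h₁ h₂ =>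
    obtain ⟨a₁, h₁⟩ := h₁
    obtain ⟨a₂, h₂⟩ := h₂
    exact ⟨a₁ * a₂, fun v => by rw [mul_smul, mul_smul, h₂, h₁]⟩

theorem hilbertSerre_base (hx : Algebra.adjoin A (Set.range x) = ⊤)
    {G : Type w} [AddCommGroup G] [Module A G] [Module R G] [IsScalarTower A R G]
    [Module.Finite R G] (P : GrProj (A := A) x G)
    (hkill : ∀ (i : Fin s) (v : G), x i • v = 0) :
    ∃ N : ℕ, ∀ n, N ≤ n → P.piece n = ⊥ := by
  obtain ⟨S, hS⟩ := (Module.finite_def (R := R) (M := G)).1 inferInstance
  -- the A-span of S is everything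
  have hSA : Submodule.span A (S : Set G) = ⊤ := by
    rw [eq_top_iff]
    intro v hvtop
    clear hvtop
    have hv : v ∈ Submodule.span R (S : Set G) := hS ▸ Submodule.mem_top
    induction hv using Submodule.span_induction with
    | mem v hv => exact Submodule.subset_span hv
    | zero => exact zero_mem _
    | add v w _ _ hv hw => exact add_mem hv hw
    | smul r v _ hv =>
      obtain ⟨a, ha⟩ := exists_smul_eq_of_kill hx hkill r
      rw [ha]; exact Submodule.smul_mem _ _ hv
  choose Nv hNv using fun v : G => P.fin v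
  refine ⟨S.sup Nv, fun n hn => ?_⟩
  have hzero : P.π n = 0 := by
    apply LinearMap.ext_on_range (v := fun v : S => (v : G))
    · rw [Subtype.range_coe_subtype]; exact hSA
    · intro v
      rw [LinearMap.zero_apply]
      exact (hNv v).1 n (le_trans (Finset.le_sup v.2) hn)
  rw [GrProj.piece, hzero, LinearMap.range_zero]

theorem hilbertSerre [IsNoetherianRing R] (hx : Algebra.adjoin A (Set.range x) = ⊤) (t : ℕ) :
    t ≤ s → ∀ (G : Type w) [AddCommGroup G] [Module A G] [Module R G] [IsScalarTower A R G]
      [Module.Finite R G] (P : GrProj (A := A) x G)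
      (_hkill : ∀ i : Fin s, t ≤ (i : ℕ) → ∀ v : G, x i • v = 0)
      (_hfl : ∀ n, IsFiniteLength A (P.piece n)),
      ∃ Q : ℚ[X], Q.degree < (t : WithBot ℕ) ∧ IsEvPoly P.len Q := by
  induction t with
  | zero =>
    intro _ G _ _ _ _ _ P hkill _
    obtain ⟨N, hN⟩ := hilbertSerre_base hx P (fun i v => hkill i (Nat.zero_le _) v)
    refine ⟨0, by simp only [degree_zero]; exact WithBot.bot_lt_coe _, N, fun n hn => ?_⟩
    have : Module.length A (P.piece n) = 0 := by
      rw [hN n hn, Module.length_eq_zero_iff]; infer_instance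
    simp [GrProj.len, this]
  | succ t ih =>
    intro hts G _ _ _ _ _ P hkill hfl
    let j : Fin s := ⟨t, hts⟩
    set y := x j with hy
    have hnoeth : IsNoetherian R G := isNoetherian_of_isNoetherianRing_of_finite R G
    have hKfin : Module.Finite R (kerY (G := G) y) :=
      Module.Finite.iff_fg.2 (IsNoetherian.noetherian _)
    -- kernel
    have hkillK : ∀ i : Fin s, t ≤ (i : ℕ) → ∀ v : kerY (G := G) y, x i • v = 0 := by
      intro i hi v
      apply Subtype.ext
      rw [Submodule.coe_smul, Submodule.coe_zero]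
      rcases Nat.eq_or_lt_of_le hi with h | h
      · have : i = j := Fin.ext h.symm
        rw [this]
        exact (mem_kerY y _).1 v.2
      · exact hkill i h _
    have hflK : ∀ n, IsFiniteLength A ((kerGr P y j rfl).piece n) := fun n =>
      (hfl n).of_injective (αmap_injective P y j rfl n)
    obtain ⟨QK, hQK, NK, hNK⟩ := ih (by omega) (kerY (G := G) y) (kerGr P y j rfl) hkillK hflK
    -- cokernel
    have hkillL : ∀ i : Fin s, t ≤ (i : ℕ) → ∀ v : G ⧸ imY (G := G) y, x i • v = 0 := by
      intro i hi v
      obtain ⟨v, rfl⟩ := Submodule.Quotient.mk_surjective _ v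
      rw [← Submodule.Quotient.mk_smul]
      rcases Nat.eq_or_lt_of_le hi with h | h
      · have : i = j := Fin.ext h.symm
        rw [this, Submodule.Quotient.mk_eq_zero, mem_imY]
        exact ⟨v, rfl⟩
      · rw [hkill i h, Submodule.Quotient.mk_zero]
    have hflL : ∀ n, IsFiniteLength A ((cokerGr P y j rfl).piece n) := fun n =>
      (hfl n).of_surjective (βmap_surjective P y j rfl n)
    obtain ⟨QL, hQL, NL, hNL⟩ := ih (by omega) (G ⧸ imY (G := G) y) (cokerGr P y j rfl) hkillL hflL
    -- the difference
    have hdiff : IsEvPoly (fun n => P.len (n + 1) - P.len n) (QL.comp (X + 1) - QK) := by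
      refine ⟨max NK NL, fun n hn => ?_⟩
      have h1 := hNK n (le_trans (le_max_left _ _) hn)
      have h2 := hNL (n + 1) (le_trans (le_max_right _ _) (Nat.le_succ_of_le hn))
      have hid := length_identity P y j rfl n
      have e1 := Module.length_ne_top_iff.2 (hfl n)
      have e2 := Module.length_ne_top_iff.2 (hfl (n + 1))
      have e3 := Module.length_ne_top_iff.2 (hflK n)
      have e4 := Module.length_ne_top_iff.2 (hflL (n + 1))
      have hid' : P.len n + (cokerGr P y j rfl).len (n + 1) =
          (kerGr P y j rfl).len n + P.len (n + 1) := by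
        simp only [GrProj.len]
        have := congrArg ENat.toNat hid
        rw [ENat.toNat_add e1 e4, ENat.toNat_add e3 e2] at this
        exact_mod_cast this
      simp only [eval_sub, eval_comp, eval_add, eval_X, eval_one]
      push_cast at h2
      rw [← h1, ← h2]
      have := congrArg (fun z : ℤ => (z : ℚ)) hid'
      push_cast at this ⊢
      linarith
    have hdeg : (QL.comp (X + 1) - QK).degree < (t : WithBot ℕ) := by
      refine lt_of_le_of_lt (degree_sub_le _ _) (max_lt ?_ hQK)
      by_cases h0 : QL = 0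
      · subst h0; simp only [zero_comp, degree_zero]; exact WithBot.bot_lt_coe _
      · have : (QL.comp (X + 1)).degree ≤ QL.degree := by
          rw [degree_eq_natDegree h0]
          refine le_trans degree_le_natDegree ?_
          have := natDegree_comp (p := QL) (q := (X + 1 : ℚ[X]))
          have h1 : (X + 1 : ℚ[X]).natDegree = 1 := natDegree_X_add_C (1 : ℚ)
          rw [h1, mul_one] at this
          exact_mod_cast this.le
        exact lt_of_le_of_lt this hQL
    exact IsEvPoly.of_diff t hdeg hdiff

end Main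


end Groth.Agent.Lib.Helper11.HS
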