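import Mathlib
import Groth.Agent.Lib.Helper11.HSGraded

/-!
# The associated graded module `gr_I(M)` as a module over the Rees algebra (helper11, HS project)
-/

set_option autoImplicit false
universe u
open Polynomial PolynomialModule

namespace Groth.Agent.Lib.Helper11.HS

section Model

variable {A : Type u} [CommRing A] (I : Ideal A) (M : Type u) [AddCommGroup M] [Module A M]

/-- the shifted `I`-adic filtration -/
def shiftFil : I.Filtration M where
  N n := I ^ (n + 1) • ⊤
  mono n := by
    rw [pow_succ' I (n + 1), mul_smul]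
    exact Submodule.smul_le_right
  smul_le n := by
    rw [pow_succ' I (n + 1), mul_smul]

/-- the Rees module `⊕ Iⁿ M` -/
noncomputable abbrev Rees : Submodule (reesAlgebra I) (PolynomialModule A M) :=
  (I.stableFiltration (⊤ : Submodule A M)).submodule
/-- `⊕ Iⁿ⁺¹ M` -/
noncomputable abbrev ReesPlus : Submodule (reesAlgebra I) (PolynomialModule A M) :=
  (shiftFil I M).submodule

noncomputable instance instACGRees : AddCommGroup ↥(Rees I M) := (Rees I M).addCommGroup

theorem mem_Rees (f : PolynomialModule A M) :
    f ∈ Rees I M ↔ ∀ n, f.coeff n ∈ I ^ n • (⊤ : Submodule A M) := Iff.rfl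

theorem mem_ReesPlus (f : PolynomialModule A M) :
    f ∈ ReesPlus I M ↔ ∀ n, f.coeff n ∈ I ^ (n + 1) • (⊤ : Submodule A M) := Iff.rfl

/-- the associated graded module as a module over the Rees algebra -/
noncomputable abbrev GrMod : Type u := ↥(Rees I M) ⧸ (ReesPlus I M).comap (Rees I M).subtype

noncomputable example : Module A (GrMod I M) := inferInstance
example : IsScalarTower A (reesAlgebra I) (GrMod I M) := inferInstance

theorem single_mem_Rees (n : ℕ) {m : M} (hm : m ∈ I ^ n • (⊤ : Submodule A M)) :
    single A n m ∈ Rees I M := by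
  intro k
  rw [coeff_single, Finsupp.single_apply]
  split_ifs with h
  · subst h; exact hm
  · exact zero_mem _

/-- `n`-th coefficient projection on the Rees module -/
noncomputable def cproj (n : ℕ) : ↥(Rees I M) →ₗ[A] ↥(Rees I M) where
  toFun f := ⟨single A n ((f : PolynomialModule A M).coeff n), single_mem_Rees I M n (f.2 n)⟩
  map_add' f g := by
    apply Subtype.ext
    simp [single_add]
  map_smul' a f := by
    apply Subtype.ext
    simp only [RingHom.id_apply]
    show single A n ((a • (f : PolynomialModule A M)).coeff n) = a • single A n _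
    rw [← single_smul]
    rfl


theorem cproj_coe (n : ℕ) (f : ↥(Rees I M)) :
    ((cproj I M n f : ↥(Rees I M)) : PolynomialModule A M) =
      single A n ((f : PolynomialModule A M).coeff n) := rfl

theorem cproj_mem_plus (n : ℕ) {f : ↥(Rees I M)}
    (hf : f ∈ (ReesPlus I M).comap (Rees I M).subtype) :
    cproj I M n f ∈ (ReesPlus I M).comap (Rees I M).subtype := by
  rw [Submodule.mem_comap] at hf ⊢
  intro k
  show ((cproj I M n f : ↥(Rees I M)) : PolynomialModule A M).coeff k ∈ _
  rw [cproj_coe, coeff_single, Finsupp.single_apply]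
  split_ifs with h
  · subst h; exact hf n
  · exact zero_mem _

end Model

section MapQA

variable {A : Type u} [CommRing A] {R : Type*} [CommRing R] [Algebra A R]
  {E : Type*} [AddCommGroup E] [Module A E] [Module R E] [IsScalarTower A R E]

/-- an `A`-linear map preserving an `R`-submodule descends to the quotient. -/
noncomputable def mapQA (Q : Submodule R E) (φ : E →ₗ[A] E) (h : ∀ v ∈ Q, φ v ∈ Q) :
    (E ⧸ Q) →ₗ[A] (E ⧸ Q) :=
  (Submodule.Quotient.restrictScalarsEquiv A Q).toLinearMap ∘ₗ
    (Submodule.mapQ (Q.restrictScalars A) (Q.restrictScalars A) φ (fun v hv => h v hv)) ∘ₗ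
    (Submodule.Quotient.restrictScalarsEquiv A Q).symm.toLinearMap

theorem mapQA_mk (Q : Submodule R E) (φ : E →ₗ[A] E) (h : ∀ v ∈ Q, φ v ∈ Q) (v : E) :
    mapQA Q φ h (Submodule.Quotient.mk v) = Submodule.Quotient.mk (φ v) := by
  simp only [mapQA, LinearMap.comp_apply, LinearEquiv.coe_coe,
    Submodule.Quotient.restrictScalarsEquiv_symm_mk, Submodule.mapQ_apply,
    Submodule.Quotient.restrictScalarsEquiv_mk]

end MapQA

section Model2

variable {A : Type u} [CommRing A] (I : Ideal A) (M : Type u) [AddCommGroup M] [Module A M]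
  {s : ℕ} (g : Fin s → A) (hg : ∀ i, g i ∈ I)

/-- the degree one generators of the Rees algebra -/
noncomputable def xgen (i : Fin s) : reesAlgebra I :=
  ⟨monomial 1 (g i), reesAlgebra.monomial_mem.2 (by rw [pow_one]; exact hg i)⟩

theorem cproj_same (n : ℕ) (f : ↥(Rees I M)) : cproj I M n (cproj I M n f) = cproj I M n f := by
  apply Subtype.ext
  rw [cproj_coe, cproj_coe, coeff_single, Finsupp.single_eq_same]

theorem cproj_ne (m n : ℕ) (f : ↥(Rees I M)) (h : m ≠ n) : cproj I M m (cproj I M n f) = 0 := by
  apply Subtype.ext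
  rw [cproj_coe, cproj_coe, coeff_single, Finsupp.single_eq_of_ne h, single_zero]
  rfl

theorem cproj_fin (f : ↥(Rees I M)) :
    ∃ N, (∀ n, N ≤ n → cproj I M n f = 0) ∧ ∑ n ∈ Finset.range N, cproj I M n f = f := by
  classical
  have hsup : ∀ k, (f : PolynomialModule A M).coeff k ≠ 0 →
      k < (f : PolynomialModule A M).coeff.support.sup id + 1 := by
    intro k hk
    have := Finset.le_sup (f := id) (Finsupp.mem_support_iff.2 hk)
    simp only [id] at this
    omega
  refine ⟨(f : PolynomialModule A M).coeff.support.sup id + 1, fun n hn => ?_, ?_⟩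
  · apply Subtype.ext
    rw [cproj_coe]
    have : (f : PolynomialModule A M).coeff n = 0 := by
      by_contra h
      have := hsup n h
      omega
    rw [this, single_zero]; rfl
  · apply Subtype.ext
    rw [Submodule.coe_sum]
    simp only [cproj_coe]
    apply PolynomialModule.coeff_injective
    rw [PolynomialModule.coeff_sum]
    simp only [coeff_single]
    ext k
    rw [Finsupp.finset_sum_apply]
    simp only [Finsupp.single_apply]
    rw [Finset.sum_ite_eq']
    split_ifs with h
    · rfl
    · rw [Finset.mem_range] at h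
      by_contra hne
      exact h (hsup k (Ne.symm hne))

theorem cproj_smul (i : Fin s) (n : ℕ) (f : ↥(Rees I M)) :
    xgen I g hg i • cproj I M n f = cproj I M (n + 1) (xgen I g hg i • f) := by
  apply Subtype.ext
  rw [Submodule.coe_smul, cproj_coe, cproj_coe, Submodule.coe_smul]
  show (monomial 1 (g i) : A[X]) • single A n _ =
    single A (n + 1) (((monomial 1 (g i) : A[X]) • (f : PolynomialModule A M)).coeff (n + 1))
  rw [monomial_smul_single, monomial_smul_apply, if_pos (by omega), add_comm 1 n]
  simp

end Model2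

section Model3

variable {A : Type u} [CommRing A] (I : Ideal A) (M : Type u) [AddCommGroup M] [Module A M]
  {s : ℕ} (g : Fin s → A) (hg : ∀ i, g i ∈ I)

/-- the grading on the associated graded module -/
noncomputable def grProj : GrProj (A := A) (xgen I g hg) (GrMod I M) where
  π n := mapQA _ (cproj I M n) (fun _ hv => cproj_mem_plus I M n hv)
  π_same n v := by
    obtain ⟨v, rfl⟩ := Submodule.Quotient.mk_surjective _ v
    rw [mapQA_mk, mapQA_mk, cproj_same]
  π_ne m n v h := by
    obtain ⟨v, rfl⟩ := Submodule.Quotient.mk_surjective _ v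
    rw [mapQA_mk, mapQA_mk, cproj_ne I M m n v h, Submodule.Quotient.mk_zero]
  fin v := by
    obtain ⟨v, rfl⟩ := Submodule.Quotient.mk_surjective _ v
    obtain ⟨N, h1, h2⟩ := cproj_fin I M v
    refine ⟨N, fun n hn => ?_, ?_⟩
    · rw [mapQA_mk, h1 n hn, Submodule.Quotient.mk_zero]
    · simp only [mapQA_mk]
      conv_rhs => rw [← h2]
      exact (map_sum (Submodule.mkQ ((ReesPlus I M).comap (Rees I M).subtype)) _ _).symm
  smul i n v := by
    obtain ⟨v, rfl⟩ := Submodule.Quotient.mk_surjective _ v
    rw [mapQA_mk, ← Submodule.Quotient.mk_smul, cproj_smul, ← Submodule.Quotient.mk_smul, mapQA_mk]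

theorem grProj_π_mk (n : ℕ) (f : ↥(Rees I M)) :
    (grProj I M g hg).π n (Submodule.Quotient.mk f) = Submodule.Quotient.mk (cproj I M n f) :=
  mapQA_mk _ _ _ _

/-- the generators generate the Rees algebra -/
theorem adjoin_xgen (hI : I = Ideal.span (Set.range g)) :
    Algebra.adjoin A (Set.range (xgen I g hg)) = ⊤ := by
  have h1 : Algebra.adjoin A ((reesAlgebra I).val '' Set.range (xgen I g hg)) = reesAlgebra I := by
    have : (reesAlgebra I).val '' Set.range (xgen I g hg) =
        (monomial 1 : A →ₗ[A] A[X]) '' Set.range g := by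
      ext p
      constructor
      · rintro ⟨_, ⟨i, rfl⟩, rfl⟩
        exact ⟨g i, ⟨i, rfl⟩, rfl⟩
      · rintro ⟨_, ⟨i, rfl⟩, rfl⟩
        exact ⟨xgen I g hg i, ⟨i, rfl⟩, rfl⟩
    rw [this]
    conv_rhs => rw [← adjoin_monomial_eq_reesAlgebra, hI]
    rw [Submodule.map_span, Algebra.adjoin_span]
  rw [← AlgHom.map_adjoin] at h1
  apply Subalgebra.map_injective (f := (reesAlgebra I).val) Subtype.val_injective
  rw [h1, Algebra.map_top, Subalgebra.range_val]

end Model3


end Groth.Agent.Lib.Helper11.HS
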