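import Mathlib
import Groth.Agent.Lib.Helper11.HSRees
import Groth.Agent.Lib.Helper24.SystemOfParams

/-!
# Samuel function: transition maps and finite length (helper11, HS project)
-/

set_option autoImplicit false
universe u
open Polynomial PolynomialModule

namespace Groth.Agent.Lib.Helper11.HS

section FiniteLength

variable {A : Type u} [CommRing A] (I : Ideal A) (M : Type u) [AddCommGroup M] [Module A M]

/-- the transition map `M/Iⁿ⁺¹M → M/IⁿM` -/
noncomputable def trans (n : ℕ) :
    (M ⧸ (I ^ (n + 1) • ⊤ : Submodule A M)) →ₗ[A] (M ⧸ (I ^ n • ⊤ : Submodule A M)) :=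
  Submodule.mapQ _ _ LinearMap.id (by
    rw [Submodule.comap_id, pow_succ' I n, mul_smul]
    exact Submodule.smul_le_right)

theorem trans_mk (n : ℕ) (m : M) :
    trans I M n (Submodule.Quotient.mk m) = Submodule.Quotient.mk m := rfl

theorem trans_surjective (n : ℕ) : Function.Surjective (trans I M n) := by
  intro v
  obtain ⟨m, rfl⟩ := Submodule.Quotient.mk_surjective _ v
  exact ⟨Submodule.Quotient.mk m, rfl⟩

/-- `IⁿM → M/Iⁿ⁺¹M` -/
noncomputable def θmap (n : ℕ) :
    ↥(I ^ n • ⊤ : Submodule A M) →ₗ[A] (M ⧸ (I ^ (n + 1) • ⊤ : Submodule A M)) :=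
  (Submodule.mkQ _) ∘ₗ (Submodule.subtype _)

theorem range_θmap (n : ℕ) : LinearMap.range (θmap I M n) = LinearMap.ker (trans I M n) := by
  ext v
  obtain ⟨m, rfl⟩ := Submodule.Quotient.mk_surjective _ v
  rw [LinearMap.mem_ker, trans_mk, Submodule.Quotient.mk_eq_zero]
  constructor
  · rintro ⟨w, hw⟩
    have : (Submodule.Quotient.mk (w : M) : M ⧸ (I ^ (n + 1) • ⊤ : Submodule A M)) =
        Submodule.Quotient.mk m := hw
    rw [Submodule.Quotient.eq] at this
    have h2 : I ^ (n + 1) • (⊤ : Submodule A M) ≤ I ^ n • ⊤ := by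
      rw [pow_succ' I n, mul_smul]; exact Submodule.smul_le_right
    have := h2 this
    have h3 := sub_mem w.2 this
    simpa using h3
  · intro hm
    exact ⟨⟨m, hm⟩, rfl⟩

theorem ker_θmap (n : ℕ) :
    LinearMap.ker (θmap I M n) = (I ^ (n + 1) • ⊤ : Submodule A M).comap (Submodule.subtype _) := by
  ext w
  rw [LinearMap.mem_ker, Submodule.mem_comap]
  show Submodule.Quotient.mk (w : M) = 0 ↔ _
  rw [Submodule.Quotient.mk_eq_zero]; rfl

/-- `length (M/Iⁿ⁺¹M) = length (range θ) + length (M/IⁿM)` -/
theorem length_succ (n : ℕ) :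
    Module.length A (M ⧸ (I ^ (n + 1) • ⊤ : Submodule A M)) =
      Module.length A (LinearMap.range (θmap I M n)) +
        Module.length A (M ⧸ (I ^ n • ⊤ : Submodule A M)) :=
  Module.length_eq_add_of_exact (LinearMap.range (θmap I M n)).subtype (trans I M n)
    (Submodule.subtype_injective _) (trans_surjective I M n) (by
      rw [LinearMap.exact_iff, Submodule.range_subtype, range_θmap])

variable [IsNoetherianRing A] [Module.Finite A M]

/-- if `M/IM` has finite length, so has every `M/IⁿM`. -/
theorem isFiniteLength_quot_pow (hfl : IsFiniteLength A (M ⧸ (I • ⊤ : Submodule A M))) (n : ℕ) :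
    IsFiniteLength A (M ⧸ (I ^ n • ⊤ : Submodule A M)) := by
  rcases n with _ | n
  · have : Subsingleton (M ⧸ (I ^ 0 • ⊤ : Submodule A M)) := by
      rw [pow_zero, Ideal.one_eq_top, Submodule.top_smul]
      exact Submodule.Quotient.subsingleton_iff.2 rfl
    exact IsFiniteLength.of_subsingleton
  · apply Groth.Agent.Lib.Helper24.isFiniteLength_of_supportDim_le_zero
    have h0 := Groth.Agent.Lib.Helper24.supportDim_le_zero_of_isFiniteLength hfl
    have : Module.support A (M ⧸ (I ^ (n + 1) • ⊤ : Submodule A M)) =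
        Module.support A (M ⧸ (I • ⊤ : Submodule A M)) := by
      rw [Module.support_quotient, Module.support_quotient,
        PrimeSpectrum.zeroLocus_pow _ (Nat.succ_ne_zero n)]
    unfold Module.supportDim at h0 ⊢
    rw [this]; exact h0

theorem isFiniteLength_range_θmap (hfl : IsFiniteLength A (M ⧸ (I • ⊤ : Submodule A M)))
    (n : ℕ) : IsFiniteLength A (LinearMap.range (θmap I M n)) :=
  (isFiniteLength_quot_pow I M hfl (n + 1)).of_injective (Submodule.subtype_injective _)

end FiniteLength

end Groth.Agent.Lib.Helper11.HS
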