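import Mathlib
import Groth.Agent.Lib.Helper11.HSRees
import Groth.Agent.Lib.Helper24.SystemOfParams
import Groth.Agent.Lib.Helper11.HSSamuelA

/-!
# Hilbert–Samuel polynomial: existence (helper11, HS project)

`samuel_isEvPoly_of_gens`: for `A` Noetherian, `M` finite, `I = (g₁,…,g_s)` with `M/IM` of finite
length, `n ↦ length (M/IⁿM)` is eventually a polynomial of degree `≤ s`.
-/

set_option autoImplicit false
universe u
open Polynomial PolynomialModule

namespace Groth.Agent.Lib.Helper11.HS

section Pieces

variable {A : Type u} [CommRing A] (I : Ideal A) (M : Type u) [AddCommGroup M] [Module A M]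
  {s : ℕ} (g : Fin s → A) (hg : ∀ i, g i ∈ I)

/-- `IⁿM → gr_I(M)`, landing in the degree `n` piece -/
noncomputable def ψmap (n : ℕ) : ↥(I ^ n • ⊤ : Submodule A M) →ₗ[A] GrMod I M where
  toFun m := Submodule.Quotient.mk ⟨single A n (m : M), single_mem_Rees I M n m.2⟩
  map_add' m m' := by
    rw [← Submodule.Quotient.mk_add]
    congr 1
    apply Subtype.ext
    simp [single_add]
  map_smul' a m := by
    rw [← Submodule.Quotient.mk_smul]
    congr 1
    apply Subtype.ext
    simp only [Submodule.coe_smul, RingHom.id_apply]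
    exact single_smul n a (m : M)

theorem range_ψmap (n : ℕ) : LinearMap.range (ψmap I M n) = (grProj I M g hg).piece n := by
  ext v
  constructor
  · rintro ⟨m, rfl⟩
    rw [GrProj.mem_piece_iff]
    show (grProj I M g hg).π n (Submodule.Quotient.mk _) = Submodule.Quotient.mk _
    rw [grProj_π_mk]
    congr 1
    apply Subtype.ext
    rw [cproj_coe]
    simp
  · intro hv
    rw [GrProj.mem_piece_iff] at hv
    obtain ⟨f, rfl⟩ := Submodule.Quotient.mk_surjective _ v
    rw [grProj_π_mk] at hv
    refine ⟨⟨(f : PolynomialModule A M).coeff n, f.2 n⟩, ?_⟩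
    rw [← hv]
    rfl

theorem ker_ψmap (n : ℕ) :
    LinearMap.ker (ψmap I M n) = (I ^ (n + 1) • ⊤ : Submodule A M).comap (Submodule.subtype _) := by
  ext m
  rw [LinearMap.mem_ker, Submodule.mem_comap]
  show Submodule.Quotient.mk _ = 0 ↔ _
  rw [Submodule.Quotient.mk_eq_zero, Submodule.mem_comap]
  show single A n (m : M) ∈ ReesPlus I M ↔ _
  rw [mem_ReesPlus]
  constructor
  · intro h
    have := h n
    simpa using this
  · intro h k
    rw [coeff_single, Finsupp.single_apply]
    split_ifs with hk
    · subst hk; exact h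
    · exact zero_mem _

theorem length_piece (n : ℕ) :
    Module.length A ((grProj I M g hg).piece n) = Module.length A (LinearMap.range (θmap I M n)) := by
  rw [← range_ψmap]
  have e : LinearMap.range (ψmap I M n) ≃ₗ[A] LinearMap.range (θmap I M n) :=
    (LinearMap.quotKerEquivRange (ψmap I M n)).symm.trans
      ((Submodule.quotEquivOfEq _ _ ((ker_ψmap I M n).trans (ker_θmap I M n).symm)).trans
        (LinearMap.quotKerEquivRange (θmap I M n)))
  exact e.length_eq

end Pieces

section Samuel

variable {A : Type u} [CommRing A] [IsNoetherianRing A] (I : Ideal A) (M : Type u) [AddCommGroup M]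
  [Module A M] [Module.Finite A M]

/-- the Samuel function `n ↦ length (M/IⁿM)` as an integer valued function -/
noncomputable def samuel (n : ℕ) : ℤ :=
  ((Module.length A (M ⧸ (I ^ n • ⊤ : Submodule A M))).toNat : ℤ)

instance finite_GrMod : Module.Finite (reesAlgebra I) (GrMod I M) := by
  have h1 : (Rees I M).FG := by
    rw [Ideal.Filtration.submodule_fg_iff_stable]
    · exact I.stableFiltration_stable ⊤
    · intro i; exact IsNoetherian.noetherian _
  have : Module.Finite (reesAlgebra I) ↥(Rees I M) := Module.Finite.iff_fg.2 h1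
  infer_instance

/-- **Hilbert–Samuel**: if `M/IM` has finite length and `I` is generated by `s` elements, the
Samuel function is eventually a polynomial of degree at most `s`. -/
theorem samuel_isEvPoly_of_gens {s : ℕ} (g : Fin s → A) (hI : I = Ideal.span (Set.range g))
    (hfl : IsFiniteLength A (M ⧸ (I • ⊤ : Submodule A M))) :
    ∃ P : ℚ[X], P.degree < ((s + 1 : ℕ) : WithBot ℕ) ∧ IsEvPoly (samuel I M) P := by
  have hg : ∀ i, g i ∈ I := fun i => hI ▸ Ideal.subset_span ⟨i, rfl⟩
  have hflp : ∀ n, IsFiniteLength A ((grProj I M g hg).piece n) := by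
    intro n
    rw [← Module.length_ne_top_iff, length_piece, Module.length_ne_top_iff]
    exact isFiniteLength_range_θmap I M hfl n
  obtain ⟨Q, hQdeg, hQ⟩ := hilbertSerre (A := A) (R := reesAlgebra I) (x := xgen I g hg)
    (adjoin_xgen I g hg hI) s le_rfl (GrMod I M) (grProj I M g hg)
    (fun i hi => absurd i.2 (by omega)) hflp
  refine IsEvPoly.of_diff s hQdeg ?_
  obtain ⟨N, hN⟩ := hQ
  refine ⟨N, fun n hn => ?_⟩
  rw [← hN n hn]
  have h1 := length_succ I M n
  have e1 := Module.length_ne_top_iff.2 (isFiniteLength_range_θmap I M hfl n)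
  have e2 := Module.length_ne_top_iff.2 (isFiniteLength_quot_pow I M hfl n)
  have h2 := congrArg ENat.toNat h1
  rw [ENat.toNat_add e1 e2, ← length_piece I M g hg] at h2
  simp only [samuel, GrProj.len]
  have h3 : ((Module.length A (M ⧸ (I ^ (n + 1) • ⊤ : Submodule A M))).toNat : ℤ) =
      ((Module.length A ((grProj I M g hg).piece n)).toNat : ℤ) +
        ((Module.length A (M ⧸ (I ^ n • ⊤ : Submodule A M))).toNat : ℤ) := by
    exact_mod_cast h2
  rw [h3]
  push_cast
  ring

end Samuel

end Groth.Agent.Lib.Helper11.HS
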