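import Mathlib
import Groth.Agent.Lib.Helper11.HSSamuel

/-!
# Inequalities between Samuel functions (helper11, HS project)
-/

set_option autoImplicit false
universe u
open Polynomial Pointwise

namespace Groth.Agent.Lib.Helper11.HS

section Ineq

variable {A : Type u} [CommRing A] (I : Ideal A) (M : Type u) [AddCommGroup M] [Module A M]

/-- shorthand for `M/IᵏM` -/
abbrev Sq (k : ℕ) : Type u := M ⧸ (I ^ k • ⊤ : Submodule A M)

/-- a surjection induces surjections on `M/IᵏM`. -/
theorem length_Sq_le_of_surjective {M'' : Type u} [AddCommGroup M''] [Module A M'']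
    (f : M →ₗ[A] M'') (hf : Function.Surjective f) (k : ℕ) :
    Module.length A (Sq I M'' k) ≤ Module.length A (Sq I M k) := by
  have hle : (I ^ k • ⊤ : Submodule A M) ≤ (I ^ k • ⊤ : Submodule A M'').comap f := by
    rw [← Submodule.map_le_iff_le_comap, Submodule.map_smul'']
    exact Submodule.smul_mono le_rfl le_top
  refine Module.length_le_of_surjective (Submodule.mapQ _ _ f hle) ?_
  intro v
  obtain ⟨m, rfl⟩ := Submodule.Quotient.mk_surjective _ v
  obtain ⟨m', rfl⟩ := hf m
  exact ⟨Submodule.Quotient.mk m', rfl⟩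

variable (x : A)

/-- `M → M/IᵏM`, `m ↦ x m` -/
noncomputable def βmapx (k : ℕ) : M →ₗ[A] Sq I M k :=
  (Submodule.mkQ _) ∘ₗ (LinearMap.lsmul A M x)

theorem βmapx_apply (k : ℕ) (m : M) : βmapx I M x k m = Submodule.Quotient.mk (x • m) := rfl

/-- `M/IᵏM → (M/xM)/Iᵏ(M/xM)` -/
noncomputable def qmapx (k : ℕ) : Sq I M k →ₗ[A] Sq I (QuotSMulTop x M) k :=
  Submodule.mapQ _ _ (Submodule.mkQ _) (by
    rw [← Submodule.map_le_iff_le_comap, Submodule.map_smul'']
    exact Submodule.smul_mono le_rfl le_top)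

theorem qmapx_surjective (k : ℕ) : Function.Surjective (qmapx I M x k) := by
  intro v
  obtain ⟨m, rfl⟩ := Submodule.Quotient.mk_surjective _ v
  obtain ⟨m', rfl⟩ := Submodule.Quotient.mk_surjective _ m
  exact ⟨Submodule.Quotient.mk m', rfl⟩

theorem mk_mem_smul_top_iff (k : ℕ) (m : M) :
    (Submodule.Quotient.mk m : QuotSMulTop x M) ∈ (I ^ k • ⊤ : Submodule A (QuotSMulTop x M)) ↔
      ∃ m' : M, m - x • m' ∈ (I ^ k • ⊤ : Submodule A M) := by
  have hmap : (I ^ k • ⊤ : Submodule A (QuotSMulTop x M)) =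
      Submodule.map (Submodule.mkQ (x • (⊤ : Submodule A M))) (I ^ k • ⊤ : Submodule A M) := by
    rw [Submodule.map_smul'', Submodule.map_top, Submodule.range_mkQ]
  rw [hmap]
  constructor
  · rintro ⟨m₁, hm₁, h⟩
    have : (Submodule.Quotient.mk m₁ : QuotSMulTop x M) = Submodule.Quotient.mk m := h
    rw [Submodule.Quotient.eq, Submodule.mem_smul_pointwise_iff_exists] at this
    obtain ⟨m', -, hm'⟩ := this
    refine ⟨-m', ?_⟩
    have : m - x • -m' = m₁ := by
      rw [smul_neg, sub_neg_eq_add, hm']; abel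
    rw [this]; exact hm₁
  · rintro ⟨m', hm'⟩
    refine ⟨m - x • m', hm', ?_⟩
    show (Submodule.Quotient.mk (m - x • m') : QuotSMulTop x M) = Submodule.Quotient.mk m
    rw [Submodule.Quotient.eq]
    have : m - x • m' - m = x • (-m') := by rw [smul_neg]; abel
    rw [this]
    exact Submodule.smul_mem_pointwise_smul _ _ _ Submodule.mem_top

theorem range_βmapx_eq_ker_qmapx (k : ℕ) :
    LinearMap.range (βmapx I M x k) = LinearMap.ker (qmapx I M x k) := by
  ext v
  obtain ⟨m, rfl⟩ := Submodule.Quotient.mk_surjective _ v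
  rw [LinearMap.mem_ker]
  show _ ↔ (Submodule.Quotient.mk (Submodule.Quotient.mk m : QuotSMulTop x M) :
    Sq I (QuotSMulTop x M) k) = 0
  rw [Submodule.Quotient.mk_eq_zero, mk_mem_smul_top_iff]
  constructor
  · rintro ⟨m', hm'⟩
    rw [βmapx_apply, Submodule.Quotient.eq] at hm'
    refine ⟨m', ?_⟩
    have := neg_mem hm'
    rwa [neg_sub] at this
  · rintro ⟨m', hm'⟩
    refine ⟨m', ?_⟩
    rw [βmapx_apply, Submodule.Quotient.eq]
    have := neg_mem hm'
    rwa [neg_sub] at this

/-- `length (M/IᵏM) = length (range β) + length ((M/xM)/Iᵏ(M/xM))` -/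
theorem length_Sq_eq (k : ℕ) :
    Module.length A (Sq I M k) = Module.length A (LinearMap.range (βmapx I M x k)) +
      Module.length A (Sq I (QuotSMulTop x M) k) :=
  Module.length_eq_add_of_exact (LinearMap.range (βmapx I M x k)).subtype (qmapx I M x k)
    (Submodule.subtype_injective _) (qmapx_surjective I M x k) (by
      rw [LinearMap.exact_iff, Submodule.range_subtype, range_βmapx_eq_ker_qmapx])

/-- for `x ∈ I`: `length (range β_{n+1}) ≤ length (M/IⁿM)` -/
theorem length_range_βmapx_le (hx : x ∈ I) (n : ℕ) :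
    Module.length A (LinearMap.range (βmapx I M x (n + 1))) ≤ Module.length A (Sq I M n) := by
  have hker : (I ^ n • ⊤ : Submodule A M) ≤ LinearMap.ker (βmapx I M x (n + 1)) := by
    intro m hm
    rw [LinearMap.mem_ker, βmapx_apply, Submodule.Quotient.mk_eq_zero, pow_succ', mul_smul]
    exact Submodule.smul_mem_smul hx hm
  let φ : Sq I M n →ₗ[A] LinearMap.range (βmapx I M x (n + 1)) :=
    Submodule.liftQ _ (βmapx I M x (n + 1)).rangeRestrict (by
      intro m hm
      rw [LinearMap.mem_ker]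
      apply Subtype.ext
      exact LinearMap.mem_ker.1 (hker hm))
  refine Module.length_le_of_surjective φ ?_
  rintro ⟨_, m, rfl⟩
  exact ⟨Submodule.Quotient.mk m, rfl⟩

end Ineq

section AR

variable {A : Type u} [CommRing A] [IsNoetherianRing A] (I : Ideal A) (M : Type u)
  [AddCommGroup M] [Module A M] [Module.Finite A M]

/-- Artin–Rees in the form used here -/
theorem artinRees (N : Submodule A M) :
    ∃ c : ℕ, ∀ n : ℕ, (I ^ (n + c) • ⊤ : Submodule A M) ⊓ N ≤ I ^ n • N := by
  obtain ⟨c, hc⟩ := I.exists_pow_inf_eq_pow_smul N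
  refine ⟨c, fun n => ?_⟩
  rw [hc (n + c) (Nat.le_add_left c n), Nat.add_sub_cancel]
  exact Submodule.smul_mono le_rfl inf_le_right

/-- sub-modules: `length (M'/IⁿM') ≤ length (M/Iⁿ⁺ᶜM)` -/
theorem length_Sq_le_of_injective {M' : Type u} [AddCommGroup M'] [Module A M']
    (f : M' →ₗ[A] M) (hf : Function.Injective f) :
    ∃ c : ℕ, ∀ n : ℕ, Module.length A (Sq I M' n) ≤ Module.length A (Sq I M (n + c)) := by
  obtain ⟨c, hc⟩ := artinRees I M (LinearMap.range f)
  refine ⟨c, fun n => ?_⟩
  have hcomap : (I ^ (n + c) • ⊤ : Submodule A M).comap f ≤ (I ^ n • ⊤ : Submodule A M') := by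
    intro m' hm'
    have h1 : f m' ∈ (I ^ (n + c) • ⊤ : Submodule A M) ⊓ LinearMap.range f := ⟨hm', m', rfl⟩
    have h2 := hc n h1
    have h3 : (I ^ n • LinearMap.range f : Submodule A M) =
        Submodule.map f (I ^ n • ⊤ : Submodule A M') := by
      rw [Submodule.map_smul'', Submodule.map_top]
    rw [h3] at h2
    obtain ⟨m'', hm'', h⟩ := h2
    rwa [← hf h]
  have h1 : Module.length A (Sq I M' n) ≤
      Module.length A (M' ⧸ (I ^ (n + c) • ⊤ : Submodule A M).comap f) := by
    refine Module.length_le_of_surjective (Submodule.mapQ _ _ LinearMap.id (by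
      rw [Submodule.comap_id]; exact hcomap)) ?_
    intro v
    obtain ⟨m, rfl⟩ := Submodule.Quotient.mk_surjective _ v
    exact ⟨Submodule.Quotient.mk m, rfl⟩
  have h2 : Module.length A (M' ⧸ (I ^ (n + c) • ⊤ : Submodule A M).comap f) ≤
      Module.length A (Sq I M (n + c)) := by
    refine Module.length_le_of_injective (Submodule.mapQ _ _ f le_rfl) ?_
    rw [← LinearMap.ker_eq_bot, Submodule.ker_mapQ, Submodule.mkQ_map_self]
  exact h1.trans h2

variable (x : A)

/-- regular elements: `length (M/IⁿM) ≤ length (range β_{n+c})` -/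
theorem length_Sq_le_length_range_βmapx (hx : IsSMulRegular M x) :
    ∃ c : ℕ, ∀ n : ℕ, Module.length A (Sq I M n) ≤
      Module.length A (LinearMap.range (βmapx I M x (n + c))) := by
  obtain ⟨c, hc⟩ := artinRees I M (x • (⊤ : Submodule A M))
  refine ⟨c, fun n => ?_⟩
  have hker : LinearMap.ker (βmapx I M x (n + c)) ≤ (I ^ n • ⊤ : Submodule A M) := by
    intro m hm
    rw [LinearMap.mem_ker, βmapx_apply, Submodule.Quotient.mk_eq_zero] at hm
    have h1 : x • m ∈ (I ^ (n + c) • ⊤ : Submodule A M) ⊓ x • (⊤ : Submodule A M) :=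
      ⟨hm, Submodule.smul_mem_pointwise_smul _ _ _ Submodule.mem_top⟩
    have h2 := hc n h1
    have h3 : (I ^ n • (x • (⊤ : Submodule A M)) : Submodule A M) =
        x • (I ^ n • ⊤ : Submodule A M) := by
      show _ = Submodule.map (DistribSMul.toLinearMap A M x) _
      rw [Submodule.map_smul'']
      rfl
    rw [h3, Submodule.mem_smul_pointwise_iff_exists] at h2
    obtain ⟨m'', hm'', h⟩ := h2
    rwa [← hx h]
  rw [← (LinearMap.quotKerEquivRange (βmapx I M x (n + c))).length_eq]
  refine Module.length_le_of_surjective (Submodule.mapQ _ _ LinearMap.id (by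
    rw [Submodule.comap_id]; exact hker)) ?_
  intro v
  obtain ⟨m, rfl⟩ := Submodule.Quotient.mk_surjective _ v
  exact ⟨Submodule.Quotient.mk m, rfl⟩

end AR


end Groth.Agent.Lib.Helper11.HS
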