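import Mathlib
import Groth.Agent.Lib.Helper11.HSIneq

/-!
# Samuel polynomial: definition (helper11, HS project)
-/

set_option autoImplicit false
set_option linter.unusedSectionVars false
universe u
open Polynomial Pointwise

namespace Groth.Agent.Lib.Helper11.HS

section Deg

variable {A : Type u} [CommRing A] [IsNoetherianRing A] (I : Ideal A)

/-- all the quotients `M/IⁿM` have finite length -/
def FL (M : Type u) [AddCommGroup M] [Module A M] : Prop :=
  ∀ n, IsFiniteLength A (Sq I M n)

variable (M : Type u) [AddCommGroup M] [Module A M] [Module.Finite A M]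

theorem FL_of_isFiniteLength (hfl : IsFiniteLength A (M ⧸ (I • ⊤ : Submodule A M))) : FL I M :=
  fun n => isFiniteLength_quot_pow I M hfl n

theorem FL.isFiniteLength_quot {M} [AddCommGroup M] [Module A M] (h : FL I M) :
    IsFiniteLength A (M ⧸ (I • ⊤ : Submodule A M)) :=
  (Submodule.quotEquivOfEq _ _ (by rw [pow_one])).isFiniteLength (h 1)

theorem FL.of_surjective {M M'' : Type u} [AddCommGroup M] [Module A M] [AddCommGroup M'']
    [Module A M''] (h : FL I M) (f : M →ₗ[A] M'') (hf : Function.Surjective f) : FL I M'' := by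
  intro n
  rw [← Module.length_ne_top_iff]
  exact ne_top_of_le_ne_top (Module.length_ne_top_iff.2 (h n)) (length_Sq_le_of_surjective I M f hf n)

theorem FL.of_injective {M M' : Type u} [AddCommGroup M] [Module A M] [Module.Finite A M]
    [AddCommGroup M'] [Module A M'] (h : FL I M) (f : M' →ₗ[A] M) (hf : Function.Injective f) :
    FL I M' := by
  obtain ⟨c, hc⟩ := length_Sq_le_of_injective I M f hf
  intro n
  rw [← Module.length_ne_top_iff]
  exact ne_top_of_le_ne_top (Module.length_ne_top_iff.2 (h (n + c))) (hc n)

theorem samuel_le_of_length_le {M M' : Type u} [AddCommGroup M] [Module A M] [AddCommGroup M']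
    [Module A M'] (h' : FL I M') {n m : ℕ}
    (hle : Module.length A (Sq I M n) ≤ Module.length A (Sq I M' m)) :
    samuel I M n ≤ samuel I M' m := by
  unfold samuel
  exact_mod_cast ENat.toNat_le_toNat hle (Module.length_ne_top_iff.2 (h' m))

theorem samuel_nonneg {M : Type u} [AddCommGroup M] [Module A M] (n : ℕ) : 0 ≤ samuel I M n := by
  unfold samuel; positivity

/-- existence of the Samuel polynomial -/
theorem exists_samuelPoly (h : FL I M) : ∃ P : ℚ[X], IsEvPoly (samuel I M) P := by
  obtain ⟨s, g, hg⟩ := (Submodule.fg_iff_exists_fin_generating_family).1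
    (IsNoetherian.noetherian I : I.FG)
  obtain ⟨P, -, hP⟩ := samuel_isEvPoly_of_gens I M g hg.symm (h.isFiniteLength_quot)
  exact ⟨P, hP⟩

open Classical in
/-- the Samuel polynomial of `M` with respect to `I` (`0` if there is none) -/
noncomputable def samuelPoly (M : Type u) [AddCommGroup M] [Module A M] : ℚ[X] :=
  if h : ∃ P : ℚ[X], IsEvPoly (samuel I M) P then h.choose else 0

theorem samuelPoly_spec (h : FL I M) : IsEvPoly (samuel I M) (samuelPoly I M) := by
  unfold samuelPoly
  rw [dif_pos (exists_samuelPoly I M h)]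
  exact (exists_samuelPoly I M h).choose_spec

theorem samuelPoly_eq {P : ℚ[X]} (h : IsEvPoly (samuel I M) P) : samuelPoly I M = P := by
  have hex : ∃ P : ℚ[X], IsEvPoly (samuel I M) P := ⟨P, h⟩
  unfold samuelPoly
  rw [dif_pos hex]
  exact hex.choose_spec.unique h

end Deg

end Groth.Agent.Lib.Helper11.HS
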