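import Mathlib
import Groth.Agent.Lib.Helper11.HSDegA

set_option autoImplicit false
set_option linter.unusedSectionVars false
universe u
open Polynomial Pointwise

namespace Groth.Agent.Lib.Helper11.HS

theorem degree_comp_X_add_C (P : ℚ[X]) (c : ℚ) : (P.comp (X + C c)).degree = P.degree := by
  by_cases hP0 : P = 0
  · subst hP0; simp
  rw [degree_eq_natDegree hP0, degree_eq_natDegree]
  · rw [natDegree_comp, natDegree_X_add_C, mul_one]
  · intro h
    apply hP0
    have := congrArg (fun q : ℚ[X] => q.comp (X - C c)) h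
    simpa [comp_assoc] using this

section Deg2

variable {A : Type u} [CommRing A] [IsNoetherianRing A] (I : Ideal A)
  (M : Type u) [AddCommGroup M] [Module A M] [Module.Finite A M]

/-- bounding the degree of a Samuel polynomial by an eventual upper bound -/
theorem degree_samuelPoly_le_of_le (h : FL I M) (Q : ℚ[X])
    (hQ : ∃ N : ℕ, ∀ n : ℕ, N ≤ n → (samuel I M n : ℚ) ≤ Q.eval (n : ℚ)) :
    (samuelPoly I M).degree ≤ Q.degree := by
  obtain ⟨N₀, hN₀⟩ := samuelPoly_spec I M h
  obtain ⟨N, hN⟩ := hQ
  refine degree_le_of_eventually_le _ _ ⟨max N₀ N, fun n hn => ?_⟩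
  rw [← hN₀ n (le_trans (le_max_left _ _) hn)]
  exact ⟨by exact_mod_cast samuel_nonneg I n, hN n (le_trans (le_max_right _ _) hn)⟩

/-- quotients have smaller degree -/
theorem degree_samuelPoly_le_of_surjective (h : FL I M) {M'' : Type u} [AddCommGroup M'']
    [Module A M''] [Module.Finite A M''] (f : M →ₗ[A] M'') (hf : Function.Surjective f) :
    (samuelPoly I M'').degree ≤ (samuelPoly I M).degree := by
  obtain ⟨N₀, hN₀⟩ := samuelPoly_spec I M h
  refine degree_samuelPoly_le_of_le I M'' (h.of_surjective I f hf) _ ⟨N₀, fun n hn => ?_⟩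
  rw [← hN₀ n hn]
  exact_mod_cast samuel_le_of_length_le I h (length_Sq_le_of_surjective I M f hf n)

/-- submodules have smaller degree -/
theorem degree_samuelPoly_le_of_injective (h : FL I M) {M' : Type u} [AddCommGroup M']
    [Module A M'] [Module.Finite A M'] (f : M' →ₗ[A] M) (hf : Function.Injective f) :
    (samuelPoly I M').degree ≤ (samuelPoly I M).degree := by
  obtain ⟨N₀, hN₀⟩ := samuelPoly_spec I M h
  obtain ⟨c, hc⟩ := length_Sq_le_of_injective I M f hf
  rw [← degree_comp_X_add_C (samuelPoly I M) (c : ℚ)]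
  refine degree_samuelPoly_le_of_le I M' (h.of_injective I f hf) _ ⟨N₀, fun n hn => ?_⟩
  have h1 := samuel_le_of_length_le I h (hc n)
  have h2 := hN₀ (n + c) (by omega)
  simp only [eval_comp, eval_add, eval_X, eval_C]
  push_cast at h2
  rw [← h2]
  exact_mod_cast h1

/-- finite length modules have degree `≤ 0` -/
theorem degree_samuelPoly_le_zero_of_isFiniteLength (hM : IsFiniteLength A M) :
    (samuelPoly I M).degree ≤ 0 := by
  have h : FL I M := fun n => hM.of_surjective (Submodule.mkQ_surjective _)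
  refine le_trans (degree_samuelPoly_le_of_le I M h (C ((Module.length A M).toNat : ℚ))
    ⟨0, fun n _ => ?_⟩) degree_C_le
  rw [eval_C]
  unfold samuel
  have : Module.length A (Sq I M n) ≤ Module.length A M :=
    Module.length_le_of_surjective _ (Submodule.mkQ_surjective _)
  exact_mod_cast ENat.toNat_le_toNat this (Module.length_ne_top_iff.2 hM)

variable (x : A)

/-- the key identity in integer form -/
theorem samuel_eq_add (h : FL I M) (k : ℕ) :
    samuel I M k = ((Module.length A (LinearMap.range (βmapx I M x k))).toNat : ℤ) +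
      samuel I (QuotSMulTop x M) k := by
  have h1 := length_Sq_eq I M x k
  have e0 := Module.length_ne_top_iff.2 (h k)
  have e1 : Module.length A (LinearMap.range (βmapx I M x k)) ≠ ⊤ :=
    ne_top_of_le_ne_top e0 (h1 ▸ le_self_add)
  have e2 : Module.length A (Sq I (QuotSMulTop x M) k) ≠ ⊤ :=
    ne_top_of_le_ne_top e0 (h1 ▸ le_add_self)
  have h2 := congrArg ENat.toNat h1
  rw [ENat.toNat_add e1 e2] at h2
  unfold samuel
  exact_mod_cast h2

/-- `x ∈ I`: the degree drops by at most one -/
theorem degree_samuelPoly_lt_succ_of_mem (h : FL I M) (hx : x ∈ I) (t : ℕ)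
    (ht : (samuelPoly I (QuotSMulTop x M)).degree < (t : WithBot ℕ)) :
    (samuelPoly I M).degree < ((t + 1 : ℕ) : WithBot ℕ) := by
  have hq : FL I (QuotSMulTop x M) := h.of_surjective I _ (Submodule.mkQ_surjective _)
  obtain ⟨N₀, hN₀⟩ := samuelPoly_spec I M h
  obtain ⟨N₁, hN₁⟩ := samuelPoly_spec I (QuotSMulTop x M) hq
  apply degree_lt_succ_of_degree_Δ_lt
  refine lt_of_le_of_lt ?_ ht
  rw [← degree_comp_X_add_C (samuelPoly I (QuotSMulTop x M)) 1]
  refine degree_le_of_eventually_le _ _ ⟨max N₀ N₁, fun n hn => ?_⟩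
  have a1 := hN₀ n (le_trans (le_max_left _ _) hn)
  have a2 := hN₀ (n + 1) (by have := le_trans (le_max_left _ _) hn; omega)
  have a3 := hN₁ (n + 1) (by have := le_trans (le_max_right _ _) hn; omega)
  rw [Δ_eval]
  simp only [eval_comp, eval_add, eval_X, eval_C]
  push_cast at a2 a3
  rw [← a1, ← a2, ← a3]
  -- χ(n) ≤ χ(n+1) ≤ χ(n) + χ_x(n+1)
  have b1 : samuel I M n ≤ samuel I M (n + 1) :=
    samuel_le_of_length_le I h (Module.length_le_of_surjective _ (trans_surjective I M n))
  have b2 := samuel_eq_add I M x h (n + 1)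
  have b3 : ((Module.length A (LinearMap.range (βmapx I M x (n + 1)))).toNat : ℤ) ≤ samuel I M n := by
    unfold samuel
    exact_mod_cast ENat.toNat_le_toNat (length_range_βmapx_le I M x hx n)
      (Module.length_ne_top_iff.2 (h n))
  constructor
  · have : (samuel I M n : ℚ) ≤ samuel I M (n + 1) := by exact_mod_cast b1
    linarith
  · have : (samuel I M (n + 1) : ℚ) ≤ samuel I M n + samuel I (QuotSMulTop x M) (n + 1) := by
      rw [b2]; push_cast
      have : ((Module.length A (LinearMap.range (βmapx I M x (n + 1)))).toNat : ℚ) ≤ samuel I M n := by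
        exact_mod_cast b3
      linarith
    linarith

/-- `x` regular: the degree drops -/
theorem degree_samuelPoly_lt_of_regular (h : FL I M) (hx : IsSMulRegular M x) (t : ℕ)
    (ht : (samuelPoly I M).degree < ((t + 1 : ℕ) : WithBot ℕ)) :
    (samuelPoly I (QuotSMulTop x M)).degree < (t : WithBot ℕ) := by
  have hq : FL I (QuotSMulTop x M) := h.of_surjective I _ (Submodule.mkQ_surjective _)
  obtain ⟨N₀, hN₀⟩ := samuelPoly_spec I M h
  obtain ⟨N₁, hN₁⟩ := samuelPoly_spec I (QuotSMulTop x M) hq
  obtain ⟨c, hc⟩ := length_Sq_le_length_range_βmapx I M x hx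
  rw [← degree_comp_X_add_C (samuelPoly I (QuotSMulTop x M)) (c : ℚ)]
  refine lt_of_le_of_lt ?_ (degree_comp_add_sub_lt (samuelPoly I M) (c : ℚ) t ht)
  refine degree_le_of_eventually_le _ _ ⟨max N₀ N₁, fun n hn => ?_⟩
  have a1 := hN₀ n (le_trans (le_max_left _ _) hn)
  have a2 := hN₀ (n + c) (by have := le_trans (le_max_left _ _) hn; omega)
  have a3 := hN₁ (n + c) (by have := le_trans (le_max_right _ _) hn; omega)
  simp only [eval_comp, eval_add, eval_X, eval_C, eval_sub]
  push_cast at a2 a3
  rw [← a1, ← a2, ← a3]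
  have b2 := samuel_eq_add I M x h (n + c)
  have e0 := Module.length_ne_top_iff.2 (h (n + c))
  have e1 : Module.length A (LinearMap.range (βmapx I M x (n + c))) ≠ ⊤ :=
    ne_top_of_le_ne_top e0 ((length_Sq_eq I M x (n + c)) ▸ le_self_add)
  have b3 : samuel I M n ≤ ((Module.length A (LinearMap.range (βmapx I M x (n + c)))).toNat : ℤ) := by
    unfold samuel
    exact_mod_cast ENat.toNat_le_toNat (hc n) e1
  constructor
  · exact_mod_cast samuel_nonneg I (n + c)
  · have : (samuel I M n : ℚ) ≤
        ((Module.length A (LinearMap.range (βmapx I M x (n + c)))).toNat : ℚ) := by exact_mod_cast b3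
    have b2' : (samuel I M (n + c) : ℚ) =
        ((Module.length A (LinearMap.range (βmapx I M x (n + c)))).toNat : ℚ) +
          samuel I (QuotSMulTop x M) (n + c) := by exact_mod_cast b2
    linarith

end Deg2

end Groth.Agent.Lib.Helper11.HS
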