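import Mathlib
import Groth.Agent.Lib.Helper11.HSDeg
import Groth.Agent.Lib.Helper24.SystemOfParams

/-!
# Preparations for the dimension theorem `deg χ = dim` (helper11, HS project)
-/

set_option autoImplicit false
set_option linter.unusedSectionVars false
universe u
open Polynomial Pointwise

namespace Groth.Agent.Lib.Helper11.HS

section DimA

variable {A : Type u} [CommRing A] [IsNoetherianRing A] (I : Ideal A)
  (M : Type u) [AddCommGroup M] [Module A M] [Module.Finite A M]

theorem pow_smul_top_ne_top [Nontrivial M] (hI : I ≤ Ring.jacobson A) (n : ℕ) (hn : 1 ≤ n) :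
    (I ^ n • ⊤ : Submodule A M) ≠ ⊤ := by
  have h1 : I ^ n ≤ (Module.annihilator A M).jacobson :=
    (Ideal.pow_le_self (by omega)).trans (hI.trans Ideal.ringJacobson_le_jacobson)
  exact (Submodule.top_ne_ideal_smul_of_le_jacobson_annihilator h1).symm

theorem one_le_samuel [Nontrivial M] (h : FL I M) (hI : I ≤ Ring.jacobson A) (n : ℕ) (hn : 1 ≤ n) :
    1 ≤ samuel I M n := by
  have hnt : Nontrivial (Sq I M n) :=
    Submodule.Quotient.nontrivial_iff.2 (pow_smul_top_ne_top I M hI n hn)
  have h1 : 0 < Module.length A (Sq I M n) := Module.length_pos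
  have h2 := Module.length_ne_top_iff.2 (h n)
  unfold samuel
  have : 0 < (Module.length A (Sq I M n)).toNat := ENat.toNat_pos h1.ne' h2
  exact_mod_cast this

theorem samuelPoly_ne_zero [Nontrivial M] (h : FL I M) (hI : I ≤ Ring.jacobson A) :
    samuelPoly I M ≠ 0 := by
  intro h0
  obtain ⟨N₀, hN₀⟩ := samuelPoly_spec I M h
  have := hN₀ (N₀ + 1) (by omega)
  rw [h0, eval_zero] at this
  have h1 := one_le_samuel I M h hI (N₀ + 1) (by omega)
  have : (samuel I M (N₀ + 1) : ℚ) = 0 := this
  have : samuel I M (N₀ + 1) = 0 := by exact_mod_cast this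
  omega

theorem samuelPoly_eq_zero_of_subsingleton [Subsingleton M] : samuelPoly I M = 0 := by
  apply samuelPoly_eq
  refine ⟨0, fun n _ => ?_⟩
  rw [eval_zero]
  unfold samuel
  have : Module.length A (Sq I M n) = 0 := Module.length_eq_zero_iff.2 inferInstance
  rw [this]; simp

end DimA

section Ext

variable {A : Type u} [CommRing A] (I : Ideal A) (M : Type u) [AddCommGroup M] [Module A M]
  (N : Submodule A M)

/-- `M/IᵏM → (M/N)/Iᵏ(M/N)` -/
noncomputable def qmapN (k : ℕ) : Sq I M k →ₗ[A] Sq I (M ⧸ N) k :=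
  Submodule.mapQ _ _ (Submodule.mkQ N) (by
    rw [← Submodule.map_le_iff_le_comap, Submodule.map_smul'']
    exact Submodule.smul_mono le_rfl le_top)

theorem qmapN_surjective (k : ℕ) : Function.Surjective (qmapN I M N k) := by
  intro v
  obtain ⟨m, rfl⟩ := Submodule.Quotient.mk_surjective _ v
  obtain ⟨m', rfl⟩ := Submodule.Quotient.mk_surjective _ m
  exact ⟨Submodule.Quotient.mk m', rfl⟩

theorem ker_qmapN_le (k : ℕ) :
    LinearMap.ker (qmapN I M N k) ≤ Submodule.map (Submodule.mkQ (I ^ k • ⊤ : Submodule A M)) N := by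
  intro v hv
  obtain ⟨m, rfl⟩ := Submodule.Quotient.mk_surjective _ v
  rw [LinearMap.mem_ker] at hv
  have hv' : (Submodule.Quotient.mk (Submodule.Quotient.mk m : M ⧸ N) : Sq I (M ⧸ N) k) = 0 := hv
  rw [Submodule.Quotient.mk_eq_zero] at hv'
  have hmap : (I ^ k • ⊤ : Submodule A (M ⧸ N)) =
      Submodule.map (Submodule.mkQ N) (I ^ k • ⊤ : Submodule A M) := by
    rw [Submodule.map_smul'', Submodule.map_top, Submodule.range_mkQ]
  rw [hmap] at hv'
  obtain ⟨m₁, hm₁, h⟩ := hv'
  have h' : (Submodule.Quotient.mk m₁ : M ⧸ N) = Submodule.Quotient.mk m := h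
  rw [Submodule.Quotient.eq] at h'
  refine ⟨m - m₁, ?_, ?_⟩
  · have := neg_mem h'
    rwa [neg_sub] at this
  · show (Submodule.Quotient.mk (m - m₁) : Sq I M k) = Submodule.Quotient.mk m
    rw [Submodule.Quotient.eq]
    have : m - m₁ - m = -m₁ := by abel
    rw [this]
    exact neg_mem hm₁

/-- `length (M/IᵏM) ≤ length N + length ((M/N)/Iᵏ(M/N))` -/
theorem length_Sq_le_add (k : ℕ) :
    Module.length A (Sq I M k) ≤ Module.length A N + Module.length A (Sq I (M ⧸ N) k) := by
  have h1 : Module.length A (Sq I M k) = Module.length A (LinearMap.ker (qmapN I M N k)) +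
      Module.length A (Sq I (M ⧸ N) k) :=
    Module.length_eq_add_of_exact (LinearMap.ker (qmapN I M N k)).subtype (qmapN I M N k)
      (Submodule.subtype_injective _) (qmapN_surjective I M N k) (by
        rw [LinearMap.exact_iff, Submodule.range_subtype])
  rw [h1]
  gcongr
  refine le_trans (Module.length_le_of_injective (Submodule.inclusion (ker_qmapN_le I M N k))
    (Submodule.inclusion_injective _)) ?_
  refine Module.length_le_of_surjective
    ((Submodule.mkQ (I ^ k • ⊤ : Submodule A M)).submoduleMap N) ?_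
  exact LinearMap.submoduleMap_surjective _ _

end Ext

section Ext2

variable {A : Type u} [CommRing A] [IsNoetherianRing A] (I : Ideal A)
  (M : Type u) [AddCommGroup M] [Module A M] [Module.Finite A M] (N : Submodule A M)

/-- killing a finite length submodule does not change the degree (if positive) -/
theorem degree_samuelPoly_le_max (h : FL I M) (hN : IsFiniteLength A N) :
    (samuelPoly I M).degree ≤ max (samuelPoly I (M ⧸ N)).degree 0 := by
  have hq : FL I (M ⧸ N) := h.of_surjective I _ (Submodule.mkQ_surjective _)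
  obtain ⟨N₁, hN₁⟩ := samuelPoly_spec I (M ⧸ N) hq
  refine le_trans (degree_samuelPoly_le_of_le I M h
    (samuelPoly I (M ⧸ N) + C ((Module.length A N).toNat : ℚ)) ⟨N₁, fun n hn => ?_⟩) ?_
  · rw [eval_add, eval_C, ← hN₁ n hn]
    have e1 := Module.length_ne_top_iff.2 hN
    have e2 := Module.length_ne_top_iff.2 (hq n)
    have h1 := ENat.toNat_le_toNat (length_Sq_le_add I M N n) (by simp [e1, e2])
    rw [ENat.toNat_add e1 e2] at h1
    unfold samuel
    have : ((Module.length A (Sq I M n)).toNat : ℚ) ≤
        (((Module.length A N).toNat + (Module.length A (Sq I (M ⧸ N) n)).toNat : ℕ) : ℚ) := by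
      exact_mod_cast h1
    push_cast at this ⊢
    linarith
  · refine le_trans (degree_add_le _ _) (max_le_max le_rfl degree_C_le)

end Ext2

section Gam

variable {A : Type u} [CommRing A] (I : Ideal A) (M : Type u) [AddCommGroup M] [Module A M]

/-- the `I`-power torsion submodule `Γ_I(M)` -/
def Gam : Submodule A M where
  carrier := {m | ∃ n : ℕ, ∀ a ∈ I ^ n, a • m = 0}
  add_mem' := by
    rintro m₁ m₂ ⟨n₁, h₁⟩ ⟨n₂, h₂⟩
    refine ⟨max n₁ n₂, fun a ha => ?_⟩
    rw [smul_add, h₁ a (Ideal.pow_le_pow_right (le_max_left _ _) ha),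
      h₂ a (Ideal.pow_le_pow_right (le_max_right _ _) ha), add_zero]
  zero_mem' := ⟨0, fun a _ => smul_zero a⟩
  smul_mem' := by
    rintro c m ⟨n, h⟩
    exact ⟨n, fun a ha => by rw [smul_comm, h a ha, smul_zero]⟩

theorem mem_Gam {m : M} : m ∈ Gam I M ↔ ∃ n : ℕ, ∀ a ∈ I ^ n, a • m = 0 := Iff.rfl

variable [IsNoetherianRing A] [Module.Finite A M]

theorem exists_pow_smul_Gam : ∃ n : ℕ, ∀ a ∈ I ^ n, ∀ m ∈ Gam I M, a • m = 0 := by
  obtain ⟨S, hS⟩ := (IsNoetherian.noetherian (Gam I M) : (Gam I M).FG)
  have hmem : ∀ s ∈ S, s ∈ Gam I M := fun s hs => hS ▸ Submodule.subset_span hs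
  choose! n hn using hmem
  refine ⟨S.sup n, fun a ha m hm => ?_⟩
  rw [← hS] at hm
  induction hm using Submodule.span_induction with
  | mem s hs => exact hn s hs a (Ideal.pow_le_pow_right (Finset.le_sup hs) ha)
  | zero => exact smul_zero a
  | add x y _ _ hx hy => rw [smul_add, hx, hy, add_zero]
  | smul c x _ hx => rw [smul_comm, hx, smul_zero]

theorem isFiniteLength_Gam (h : FL I M) : IsFiniteLength A (Gam I M) := by
  obtain ⟨n, hn⟩ := exists_pow_smul_Gam I M
  have h1 : FL I (Gam I M) := h.of_injective I (Gam I M).subtype (Submodule.subtype_injective _)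
  have h2 : (I ^ n • ⊤ : Submodule A (Gam I M)) = ⊥ := by
    rw [eq_bot_iff, Submodule.smul_le]
    intro a ha m _
    rw [Submodule.mem_bot]
    apply Subtype.ext
    exact hn a ha m.1 m.2
  exact (Submodule.quotEquivOfEqBot _ h2).isFiniteLength (h1 n)

/-- `M/Γ_I(M)` has no `I`-torsion -/
theorem mem_Gam_of_smul_mem (m : M) (hm : ∀ a ∈ I, a • m ∈ Gam I M) : m ∈ Gam I M := by
  obtain ⟨T, hT⟩ := (IsNoetherian.noetherian I : I.FG)
  have hmem : ∀ t ∈ T, t • m ∈ Gam I M := fun t ht => hm t (hT ▸ Submodule.subset_span ht)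
  choose! n hn using hmem
  refine ⟨T.sup n + 1, fun a ha => ?_⟩
  rw [pow_succ] at ha
  refine Submodule.mul_induction_on ha (fun a ha b hb => ?_) (fun x y hx hy => ?_)
  · rw [← hT] at hb
    rw [mul_smul]
    induction hb using Submodule.span_induction with
    | mem t ht => exact hn t ht a (Ideal.pow_le_pow_right (Finset.le_sup ht) ha)
    | zero => rw [zero_smul, smul_zero]
    | add x y _ _ hx hy => rw [add_smul, smul_add, hx, hy, add_zero]
    | smul c x _ hx => rw [smul_eq_mul, mul_smul, smul_comm, hx, smul_zero]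
  · rw [add_smul, hx, hy, add_zero]

/-- a module without `I`-torsion has an `M`-regular element in `I` -/
theorem exists_regular_of_no_torsion (N : Type u) [AddCommGroup N] [Module A N] [Module.Finite A N]
    (hN : ∀ m : N, (∀ a ∈ I, a • m = 0) → m = 0) : ∃ x ∈ I, IsSMulRegular N x := by
  cases subsingleton_or_nontrivial N
  · exact ⟨0, I.zero_mem, IsSMulRegular.zero⟩
  by_contra! hcon
  have hsub : (I : Set A) ⊆ ⋃ p ∈ associatedPrimes A N, (p : Set A) := by
    rw [biUnion_associatedPrimes_eq_compl_regular A N]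
    exact fun r hr => hcon r hr
  obtain ⟨Ia, hIa⟩ := associatedPrimes.nonempty A N
  obtain ⟨p, hp, hle⟩ := (Ideal.subset_union_prime_finite (associatedPrimes.finite A N) Ia Ia
    (fun I hin _ _ => IsAssociatedPrime.isPrime hin)).1 hsub
  obtain ⟨hprime, m, hm⟩ := isAssociatedPrime_iff.1 (AssociatedPrimes.mem_iff.1 hp)
  have h0 : m = 0 := hN m (fun a ha => by
    have := hle ha
    rw [hm, Submodule.mem_colon_singleton, Submodule.mem_bot] at this
    exact this)
  apply hprime.ne_top
  rw [hm, h0, Ideal.eq_top_iff_one, Submodule.mem_colon_singleton, smul_zero]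
  exact Submodule.zero_mem _

/-- `M/Γ_I(M)` has a regular element in `I` -/
theorem exists_regular_quot_Gam : ∃ x ∈ I, IsSMulRegular (M ⧸ Gam I M) x := by
  apply exists_regular_of_no_torsion
  intro v hv
  obtain ⟨m, rfl⟩ := Submodule.Quotient.mk_surjective _ v
  rw [Submodule.Quotient.mk_eq_zero]
  apply mem_Gam_of_smul_mem
  intro a ha
  have := hv a ha
  rwa [← Submodule.Quotient.mk_smul, Submodule.Quotient.mk_eq_zero] at this

end Gam

section SuppDim

variable {A : Type u} [CommRing A] (M : Type u) [AddCommGroup M] [Module A M]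

theorem length_le_supportDim_of_head_mem {M' : Type u} [AddCommGroup M'] [Module A M']
    (p : LTSeries (Module.support A M)) (h : p.head.1 ∈ Module.support A M') :
    (p.length : WithBot ℕ∞) ≤ Module.supportDim A M' := by
  let q : LTSeries (Module.support A M') :=
    { length := p.length
      toFun := fun i => ⟨(p i).1, Module.mem_support_mono (p.monotone (Fin.zero_le i)) h⟩
      step := fun i => p.step i }
  exact Order.LTSeries.length_le_krullDim q

theorem supportDim_le_max_of_submodule (N : Submodule A M) :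
    Module.supportDim A M ≤ max (Module.supportDim A N) (Module.supportDim A (M ⧸ N)) := by
  unfold Module.supportDim Order.krullDim
  refine iSup_le fun p => ?_
  have hsupp := Module.support_of_exact (LinearMap.exact_subtype_mkQ N)
    (Submodule.subtype_injective N) (Submodule.mkQ_surjective N)
  have hp : p.head.1 ∈ Module.support A N ∪ Module.support A (M ⧸ N) := hsupp ▸ p.head.2
  rcases hp with hp | hp
  · exact le_trans (length_le_supportDim_of_head_mem M p hp) (le_max_left _ _)
  · exact le_trans (length_le_supportDim_of_head_mem M p hp) (le_max_right _ _)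

end SuppDim

end Groth.Agent.Lib.Helper11.HS
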