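import Mathlib
import Groth.Agent.Lib.Helper11.HSDimA

/-!
# Dimension theorem: degree of the Samuel polynomial = dimension of the support (helper11, HS project)
-/

set_option autoImplicit false
set_option linter.unusedSectionVars false
universe u
open Polynomial Pointwise

namespace Groth.Agent.Lib.Helper11.HS

section Dim

variable {A : Type u} [CommRing A] [IsNoetherianRing A] (I : Ideal A)

theorem supportDim_eq_zero_of_isFiniteLength (M : Type u) [AddCommGroup M] [Module A M]
    [Module.Finite A M] [Nontrivial M] (h : IsFiniteLength A M) : Module.supportDim A M = 0 := by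
  have h1 := Groth.Agent.Lib.Helper24.supportDim_le_zero_of_isFiniteLength h
  have h2 := Module.supportDim_ne_bot_of_nontrivial A M
  refine le_antisymm h1 ?_
  obtain ⟨n, hn⟩ := WithBot.ne_bot_iff_exists.1 h2
  rw [← hn]
  exact WithBot.coe_le_coe.2 zero_le

theorem natDegree_samuelPoly_step (hI : I ≤ Ring.jacobson A)
    (M : Type u) [AddCommGroup M] [Module A M] [Module.Finite A M] [Nontrivial M] (h : FL I M)
    (ih : ∀ (Q : Type u) [AddCommGroup Q] [Module A Q] [Module.Finite A Q] [Nontrivial Q],
      FL I Q → (samuelPoly I Q).natDegree < (samuelPoly I M).natDegree →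
        ((samuelPoly I Q).natDegree : WithBot ℕ∞) = Module.supportDim A Q) :
    ((samuelPoly I M).natDegree : WithBot ℕ∞) = Module.supportDim A M := by
  have hΓ : IsFiniteLength A (Gam I M) := isFiniteLength_Gam I M h
  cases subsingleton_or_nontrivial (M ⧸ Gam I M) with
  | inl hss =>
    have htop : Gam I M = ⊤ := Submodule.Quotient.subsingleton_iff.1 hss
    have hM : IsFiniteLength A M := by
      rw [htop] at hΓ
      exact (Submodule.topEquiv (R := A) (M := M)).isFiniteLength hΓ
    rw [supportDim_eq_zero_of_isFiniteLength M hM]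
    have := degree_samuelPoly_le_zero_of_isFiniteLength I M hM
    have h0 : (samuelPoly I M).natDegree = 0 := natDegree_eq_zero_iff_degree_le_zero.2 this
    rw [h0]; rfl
  | inr hnt =>
    obtain ⟨x, hxI, hx⟩ := exists_regular_quot_Gam I M
    have hxJ : x ∈ (Module.annihilator A (M ⧸ Gam I M)).jacobson :=
      Ideal.ringJacobson_le_jacobson (hI hxI)
    have hntQ : Nontrivial (QuotSMulTop x (M ⧸ Gam I M)) :=
      Submodule.Quotient.nontrivial_iff.2
        (Submodule.top_ne_pointwise_smul_of_mem_jacobson_annihilator hxJ).symm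
    have hM'' : FL I (M ⧸ Gam I M) := h.of_surjective I _ (Submodule.mkQ_surjective _)
    have hQ : FL I (QuotSMulTop x (M ⧸ Gam I M)) :=
      hM''.of_surjective I _ (Submodule.mkQ_surjective _)
    have ne1 := samuelPoly_ne_zero I (M ⧸ Gam I M) hM'' hI
    have ne2 := samuelPoly_ne_zero I (QuotSMulTop x (M ⧸ Gam I M)) hQ hI
    have ne0 := samuelPoly_ne_zero I M h hI
    -- degrees
    have d1 := degree_samuelPoly_lt_of_regular I (M ⧸ Gam I M) x hM'' hx
      (samuelPoly I (M ⧸ Gam I M)).natDegree (by
        rw [degree_eq_natDegree ne1]; exact_mod_cast Nat.lt_succ_self _)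
    rw [degree_eq_natDegree ne2] at d1
    have d1' : (samuelPoly I (QuotSMulTop x (M ⧸ Gam I M))).natDegree <
        (samuelPoly I (M ⧸ Gam I M)).natDegree := by exact_mod_cast d1
    have d2 := degree_samuelPoly_lt_succ_of_mem I (M ⧸ Gam I M) x hM'' hxI
      ((samuelPoly I (QuotSMulTop x (M ⧸ Gam I M))).natDegree + 1) (by
        rw [degree_eq_natDegree ne2]; exact_mod_cast Nat.lt_succ_self _)
    rw [degree_eq_natDegree ne1] at d2
    have d2' : (samuelPoly I (M ⧸ Gam I M)).natDegree <
        (samuelPoly I (QuotSMulTop x (M ⧸ Gam I M))).natDegree + 1 + 1 := by exact_mod_cast d2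
    have d3 : (samuelPoly I (M ⧸ Gam I M)).natDegree =
        (samuelPoly I (QuotSMulTop x (M ⧸ Gam I M))).natDegree + 1 := by omega
    -- compare `M` and `M''`
    have d4 : (samuelPoly I (M ⧸ Gam I M)).natDegree ≤ (samuelPoly I M).natDegree :=
      natDegree_le_natDegree (degree_samuelPoly_le_of_surjective I M h _ (Submodule.mkQ_surjective _))
    have d5 : (samuelPoly I M).natDegree ≤ (samuelPoly I (M ⧸ Gam I M)).natDegree := by
      have := degree_samuelPoly_le_max I M (Gam I M) h hΓ
      rw [degree_eq_natDegree ne0, degree_eq_natDegree ne1] at this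
      rw [max_eq_left (by exact_mod_cast Nat.zero_le _)] at this
      exact_mod_cast this
    have d6 : (samuelPoly I M).natDegree = (samuelPoly I (M ⧸ Gam I M)).natDegree :=
      le_antisymm d5 d4
    -- dimensions
    have e1 := ih (QuotSMulTop x (M ⧸ Gam I M)) hQ (by omega)
    have e2 := Module.supportDim_quotSMulTop_succ_eq_supportDim_mem_jacobson hx hxJ
    have e3 : ((samuelPoly I (M ⧸ Gam I M)).natDegree : WithBot ℕ∞) =
        Module.supportDim A (M ⧸ Gam I M) := by
      rw [d3, ← e2, ← e1]; push_cast; rfl
    have e4 : Module.supportDim A (M ⧸ Gam I M) ≤ Module.supportDim A M :=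
      Module.supportDim_le_of_surjective _ (Submodule.mkQ_surjective _)
    have e5 : Module.supportDim A M ≤ Module.supportDim A (M ⧸ Gam I M) := by
      refine le_trans (supportDim_le_max_of_submodule M (Gam I M)) (max_le ?_ le_rfl)
      refine le_trans (Groth.Agent.Lib.Helper24.supportDim_le_zero_of_isFiniteLength hΓ) ?_
      rw [← e3]
      exact_mod_cast Nat.zero_le _
    rw [d6, e3]
    exact le_antisymm e4 e5

/-- **Dimension theorem**: the degree of the Samuel polynomial is the dimension of the module. -/
theorem natDegree_samuelPoly_eq_supportDim (hI : I ≤ Ring.jacobson A)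
    (M : Type u) [AddCommGroup M] [Module A M] [Module.Finite A M] [Nontrivial M] (h : FL I M) :
    ((samuelPoly I M).natDegree : WithBot ℕ∞) = Module.supportDim A M := by
  induction hd : (samuelPoly I M).natDegree using Nat.strong_induction_on generalizing M with
  | _ d ih =>
    rw [← hd]
    refine natDegree_samuelPoly_step I hI M h (fun Q _ _ _ _ hQ hlt => ?_)
    exact ih _ (hd ▸ hlt) Q hQ rfl

end Dim

end Groth.Agent.Lib.Helper11.HS
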