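import Mathlib
import Groth.Agent.Lib.Helper11.HSDim

/-!
# Hilbert–Samuel: packaged main statements (helper11, HS project)
-/

set_option autoImplicit false
set_option linter.unusedSectionVars false
universe u
open Polynomial Pointwise

namespace Groth.Agent.Lib.Helper11.HS

section SemiLocal

variable (A : Type u) [CommRing A]

theorem isMaximal_of_jacobson_le [Finite (MaximalSpectrum A)] (p : Ideal A) [hp : p.IsPrime]
    (h : Ring.jacobson A ≤ p) : p.IsMaximal := by
  have hfin : {I : Ideal A | I.IsMaximal}.Finite := by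
    have : {I : Ideal A | I.IsMaximal} = Set.range (fun m : MaximalSpectrum A => m.asIdeal) := by
      ext I
      constructor
      · intro hI; exact ⟨⟨I, hI⟩, rfl⟩
      · rintro ⟨m, rfl⟩; exact m.isMaximal
    rw [this]
    exact Set.finite_range _
  rw [Ring.jacobson_eq_sInf_isMaximal] at h
  have h2 : hfin.toFinset.inf id ≤ p := by
    rw [Finset.inf_id_eq_sInf, Set.Finite.coe_toFinset]
    exact h
  obtain ⟨m, hm, hle⟩ := hp.inf_le'.1 h2
  rw [Set.Finite.mem_toFinset] at hm
  have : m = p := Ideal.IsMaximal.eq_of_le hm hp.ne_top hle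
  exact this ▸ hm

variable {A} [IsNoetherianRing A]

/-- a finite module whose support consists of maximal ideals has finite length -/
theorem isFiniteLength_of_support_isMaximal (M : Type u) [AddCommGroup M] [Module A M]
    [Module.Finite A M] (h : ∀ p ∈ Module.support A M, p.asIdeal.IsMaximal) :
    IsFiniteLength A M := by
  apply Groth.Agent.Lib.Helper24.isFiniteLength_of_supportDim_le_zero
  unfold Module.supportDim
  rw [Order.krullDim_nonpos_iff_forall_isMax]
  rintro ⟨x, hx⟩ ⟨y, hy⟩ hxy
  have hmax := h x hx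
  have hle : x.asIdeal ≤ y.asIdeal := hxy
  have : x.asIdeal = y.asIdeal := Ideal.IsMaximal.eq_of_le hmax y.isPrime.ne_top hle
  exact le_of_eq (Subtype.ext (PrimeSpectrum.ext this.symm))

theorem FL_of_forall_isMaximal (I : Ideal A) (M : Type u) [AddCommGroup M] [Module A M]
    [Module.Finite A M] (h : ∀ p : Ideal A, p.IsPrime → I ≤ p → p.IsMaximal) : FL I M := by
  apply FL_of_isFiniteLength
  apply isFiniteLength_of_support_isMaximal
  intro p hp
  rw [Module.support_quotient] at hp
  refine h p.asIdeal p.isPrime ?_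
  have := hp.2
  rw [PrimeSpectrum.mem_zeroLocus] at this
  exact this

/-- Samuel polynomial with its degree: packaged statement -/
theorem exists_samuel_polynomial (I : Ideal A) (hI : I ≤ Ring.jacobson A) (M : Type u)
    [AddCommGroup M] [Module A M] [Module.Finite A M] [Nontrivial M] (h : FL I M) :
    ∃ P : ℚ[X],
      (∃ N : ℕ, ∀ n : ℕ, N ≤ n →
        ∃ ℓ : ℕ, Module.length A (M ⧸ (I ^ n • (⊤ : Submodule A M))) = ℓ ∧
          (ℓ : ℚ) = P.eval (n : ℚ)) ∧
      (P.natDegree : WithBot ℕ∞) = Module.supportDim A M := by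
  refine ⟨samuelPoly I M, ?_, natDegree_samuelPoly_eq_supportDim I hI M h⟩
  obtain ⟨N, hN⟩ := samuelPoly_spec I M h
  refine ⟨N, fun n hn => ⟨(Module.length A (Sq I M n)).toNat, ?_, ?_⟩⟩
  · exact (ENat.natCast_toNat (Module.length_ne_top_iff.2 (h n))).symm
  · have := hN n hn
    unfold samuel at this
    exact_mod_cast this

end SemiLocal

end Groth.Agent.Lib.Helper11.HS
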