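import Mathlib
import Groth.Agent.Lib.Helper11.HSMain

/-!
# Samuel functions and short exact sequences (helper11, HS project)
-/

set_option autoImplicit false
set_option linter.unusedSectionVars false
universe u
open Polynomial Pointwise

namespace Groth.Agent.Lib.Helper11.HS

section Exact

variable {A : Type u} [CommRing A] (I : Ideal A)
  {M' M M'' : Type u} [AddCommGroup M'] [Module A M'] [AddCommGroup M] [Module A M]
  [AddCommGroup M''] [Module A M'']
  (f : M' →ₗ[A] M) (g : M →ₗ[A] M'')

/-- `M'/(M' ∩ IᵗM)` -/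
abbrev Kq (t : ℕ) : Type u := M' ⧸ (I ^ t • ⊤ : Submodule A M).comap f

/-- `M'/(M' ∩ IᵗM) → M/IᵗM` -/
noncomputable def KqMap (t : ℕ) : Kq I f t →ₗ[A] Sq I M t :=
  Submodule.mapQ _ _ f le_rfl

theorem KqMap_injective (t : ℕ) : Function.Injective (KqMap I f t) := by
  rw [← LinearMap.ker_eq_bot]
  unfold KqMap
  rw [Submodule.ker_mapQ, Submodule.mkQ_map_self]

/-- `M/IᵗM → M''/IᵗM''` -/
noncomputable def SqMap (t : ℕ) : Sq I M t →ₗ[A] Sq I M'' t :=
  Submodule.mapQ _ _ g (by
    rw [← Submodule.map_le_iff_le_comap, Submodule.map_smul'']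
    exact Submodule.smul_mono le_rfl le_top)

theorem SqMap_surjective (hg : Function.Surjective g) (t : ℕ) :
    Function.Surjective (SqMap I g t) := by
  intro v
  obtain ⟨m, rfl⟩ := Submodule.Quotient.mk_surjective _ v
  obtain ⟨m', rfl⟩ := hg m
  exact ⟨Submodule.Quotient.mk m', rfl⟩

theorem exact_KqMap_SqMap (hg : Function.Surjective g) (hfg : LinearMap.range f = LinearMap.ker g)
    (t : ℕ) : Function.Exact (KqMap I f t) (SqMap I g t) := by
  rw [LinearMap.exact_iff]
  ext v
  obtain ⟨m, rfl⟩ := Submodule.Quotient.mk_surjective _ v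
  rw [LinearMap.mem_ker]
  have hmap : (I ^ t • ⊤ : Submodule A M'') = Submodule.map g (I ^ t • ⊤ : Submodule A M) := by
    rw [Submodule.map_smul'', Submodule.map_top, LinearMap.range_eq_top.2 hg]
  constructor
  · intro hv
    have hv' : (Submodule.Quotient.mk (g m) : Sq I M'' t) = 0 := hv
    rw [Submodule.Quotient.mk_eq_zero, hmap] at hv'
    obtain ⟨m₁, hm₁, h⟩ := hv'
    have h2 : m - m₁ ∈ LinearMap.ker g := by
      rw [LinearMap.mem_ker, map_sub, h, sub_self]
    rw [← hfg] at h2
    obtain ⟨m', hm'⟩ := h2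
    refine ⟨Submodule.Quotient.mk m', ?_⟩
    show (Submodule.Quotient.mk (f m') : Sq I M t) = Submodule.Quotient.mk m
    rw [Submodule.Quotient.eq, hm']
    have : m - m₁ - m = -m₁ := by abel
    rw [this]
    exact neg_mem hm₁
  · rintro ⟨w, hw⟩
    obtain ⟨m', rfl⟩ := Submodule.Quotient.mk_surjective _ w
    have hw' : (Submodule.Quotient.mk (f m') : Sq I M t) = Submodule.Quotient.mk m := hw
    rw [← hw']
    show (Submodule.Quotient.mk (g (f m')) : Sq I M'' t) = 0
    have : f m' ∈ LinearMap.ker g := hfg ▸ ⟨m', rfl⟩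
    rw [LinearMap.mem_ker.1 this]
    rfl

theorem length_Sq_eq_of_exact (hg : Function.Surjective g)
    (hfg : LinearMap.range f = LinearMap.ker g) (t : ℕ) :
    Module.length A (Sq I M t) = Module.length A (Kq I f t) + Module.length A (Sq I M'' t) :=
  Module.length_eq_add_of_exact (KqMap I f t) (SqMap I g t) (KqMap_injective I f t)
    (SqMap_surjective I g hg t) (exact_KqMap_SqMap I f g hg hfg t)

theorem length_Kq_le (t : ℕ) : Module.length A (Kq I f t) ≤ Module.length A (Sq I M' t) := by
  have hle : (I ^ t • ⊤ : Submodule A M') ≤ (I ^ t • ⊤ : Submodule A M).comap f := by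
    rw [← Submodule.map_le_iff_le_comap, Submodule.map_smul'']
    exact Submodule.smul_mono le_rfl le_top
  refine Module.length_le_of_surjective (Submodule.mapQ _ _ LinearMap.id (by
    rw [Submodule.comap_id]; exact hle)) ?_
  intro v
  obtain ⟨m, rfl⟩ := Submodule.Quotient.mk_surjective _ v
  exact ⟨Submodule.Quotient.mk m, rfl⟩

end Exact

section Exact2

variable {A : Type u} [CommRing A] [IsNoetherianRing A] (I : Ideal A)
  {M' M M'' : Type u} [AddCommGroup M'] [Module A M'] [AddCommGroup M] [Module A M]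
  [AddCommGroup M''] [Module A M''] [Module.Finite A M]
  (f : M' →ₗ[A] M) (g : M →ₗ[A] M'')

theorem length_Sq_le_Kq (hf : Function.Injective f) :
    ∃ c : ℕ, ∀ t : ℕ, Module.length A (Sq I M' t) ≤ Module.length A (Kq I f (t + c)) := by
  obtain ⟨c, hc⟩ := artinRees I M (LinearMap.range f)
  refine ⟨c, fun n => ?_⟩
  have hcomap : (I ^ (n + c) • ⊤ : Submodule A M).comap f ≤ (I ^ n • ⊤ : Submodule A M') := by
    intro m' hm'
    have h1 : f m' ∈ (I ^ (n + c) • ⊤ : Submodule A M) ⊓ LinearMap.range f := ⟨hm', m', rfl⟩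
    have h2 := hc n h1
    have h3 : (I ^ n • LinearMap.range f : Submodule A M) =
        Submodule.map f (I ^ n • ⊤ : Submodule A M') := by
      rw [Submodule.map_smul'', Submodule.map_top]
    rw [h3] at h2
    obtain ⟨m'', hm'', h⟩ := h2
    rwa [← hf h]
  refine Module.length_le_of_surjective (Submodule.mapQ _ _ LinearMap.id (by
    rw [Submodule.comap_id]; exact hcomap)) ?_
  intro v
  obtain ⟨m, rfl⟩ := Submodule.Quotient.mk_surjective _ v
  exact ⟨Submodule.Quotient.mk m, rfl⟩

/-- the two Samuel-function inequalities for a short exact sequence -/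
theorem samuel_exact_ineq (hf : Function.Injective f) (hg : Function.Surjective g)
    (hfg : LinearMap.range f = LinearMap.ker g) (h : FL I M) :
    (∀ t, samuel I M t ≤ samuel I M' t + samuel I M'' t) ∧
    ∃ c : ℕ, ∀ t, samuel I M' t + samuel I M'' (t + c) ≤ samuel I M (t + c) := by
  have h' : FL I M' := h.of_injective I f hf
  have h'' : FL I M'' := h.of_surjective I g hg
  have key : ∀ t, samuel I M t = ((Module.length A (Kq I f t)).toNat : ℤ) + samuel I M'' t := by
    intro t
    have h1 := length_Sq_eq_of_exact I f g hg hfg t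
    have e0 := Module.length_ne_top_iff.2 (h t)
    have e1 : Module.length A (Kq I f t) ≠ ⊤ := ne_top_of_le_ne_top e0 (h1 ▸ le_self_add)
    have e2 := Module.length_ne_top_iff.2 (h'' t)
    have h2 := congrArg ENat.toNat h1
    rw [ENat.toNat_add e1 e2] at h2
    unfold samuel
    exact_mod_cast h2
  constructor
  · intro t
    rw [key t]
    have : ((Module.length A (Kq I f t)).toNat : ℤ) ≤ samuel I M' t := by
      unfold samuel
      exact_mod_cast ENat.toNat_le_toNat (length_Kq_le I f t) (Module.length_ne_top_iff.2 (h' t))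
    omega
  · obtain ⟨c, hc⟩ := length_Sq_le_Kq I f hf
    refine ⟨c, fun t => ?_⟩
    rw [key (t + c)]
    have h1 := length_Sq_eq_of_exact I f g hg hfg (t + c)
    have e0 := Module.length_ne_top_iff.2 (h (t + c))
    have e1 : Module.length A (Kq I f (t + c)) ≠ ⊤ := ne_top_of_le_ne_top e0 (h1 ▸ le_self_add)
    have : samuel I M' t ≤ ((Module.length A (Kq I f (t + c))).toNat : ℤ) := by
      unfold samuel
      exact_mod_cast ENat.toNat_le_toNat (hc t) e1
    omega

end Exact2

section Local

variable {A : Type u} [CommRing A] [IsNoetherianRing A] [IsLocalRing A]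

/-- ideals of definition of a local ring give finite length quotients -/
theorem FL_of_pow_le (I : Ideal A) (hI : ∃ n : ℕ, IsLocalRing.maximalIdeal A ^ n ≤ I)
    (M : Type u) [AddCommGroup M] [Module A M] [Module.Finite A M] : FL I M := by
  apply FL_of_forall_isMaximal
  intro p hp hle
  obtain ⟨n, hn⟩ := hI
  have h1 : IsLocalRing.maximalIdeal A ≤ p := hp.le_of_pow_le (hn.trans hle)
  have h2 : p ≤ IsLocalRing.maximalIdeal A := IsLocalRing.le_maximalIdeal hp.ne_top
  rw [le_antisymm h2 h1]
  infer_instance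

end Local

end Groth.Agent.Lib.Helper11.HS
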