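import Mathlib
import Groth.Agent.Lib.Helper11.HSMain

/-!
# Existence of systems of parameters (helper11, HS project)
-/

set_option autoImplicit false
set_option linter.unusedSectionVars false
universe u
open Polynomial Pointwise

namespace Groth.Agent.Lib.Helper11.HS

section Params

variable {A : Type u} [CommRing A]

/-- the support of a module of finite length consists of maximal ideals -/
theorem isMaximal_of_mem_support_of_isFiniteLength (M : Type u) [AddCommGroup M] [Module A M]
    [Module.Finite A M] (h : IsFiniteLength A M) :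
    ∀ p ∈ Module.support A M, p.asIdeal.IsMaximal := by
  intro p hp
  have h1 := Groth.Agent.Lib.Helper24.supportDim_le_zero_of_isFiniteLength h
  unfold Module.supportDim at h1
  rw [Order.krullDim_nonpos_iff_forall_isMax] at h1
  obtain ⟨m, hm, hpm⟩ := Ideal.exists_le_maximal p.asIdeal p.isPrime.ne_top
  let q : PrimeSpectrum A := ⟨m, hm.isPrime⟩
  have hq : q ∈ Module.support A M := Module.mem_support_mono (show p ≤ q from hpm) hp
  have := h1 ⟨p, hp⟩ (show (⟨p, hp⟩ : Module.support A M) ≤ ⟨q, hq⟩ from hpm)
  have hqp : m ≤ p.asIdeal := this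
  rw [le_antisymm hpm hqp]
  exact hm

variable [IsNoetherianRing A]

theorem withBot_le_of_add_one_le (a : WithBot ℕ∞) (d : ℕ) (h : a + 1 ≤ ((d + 1 : ℕ) : WithBot ℕ∞)) :
    a ≤ (d : WithBot ℕ∞) := by
  induction a using WithBot.recBotCoe with
  | bot => exact bot_le
  | coe n =>
    induction n using ENat.recTopCoe with
    | top =>
      exfalso
      have : ((⊤ : ℕ∞) : WithBot ℕ∞) + 1 = ((⊤ : ℕ∞) : WithBot ℕ∞) := by
        rw [← WithBot.coe_one, ← WithBot.coe_add]; simp
      rw [this] at h
      have h2 : (⊤ : ℕ∞) ≤ ((d + 1 : ℕ) : ℕ∞) := by exact_mod_cast h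
      exact absurd h2 (by simp)
    | coe n =>
      have h2 : ((n + 1 : ℕ) : WithBot ℕ∞) ≤ ((d + 1 : ℕ) : WithBot ℕ∞) := by
        push_cast; exact h
      have h3 : n + 1 ≤ d + 1 := by exact_mod_cast h2
      have h4 : n ≤ d := by omega
      exact_mod_cast h4

/-- finite length of `M/JM` from the support -/
theorem isFiniteLength_quot_of_support (J : Ideal A) (M : Type u) [AddCommGroup M] [Module A M]
    [Module.Finite A M]
    (h : ∀ p ∈ Module.support A M, J ≤ p.asIdeal → p.asIdeal.IsMaximal) :
    IsFiniteLength A (M ⧸ (J • ⊤ : Submodule A M)) := by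
  apply isFiniteLength_of_support_isMaximal
  intro p hp
  rw [Module.support_quotient] at hp
  exact h p hp.1 (by have := hp.2; rwa [PrimeSpectrum.mem_zeroLocus] at this)

/-- **existence of systems of parameters** inside an ideal `I ≤ rad A` with `M/IM` of finite length -/
theorem exists_params (I : Ideal A) (hI : I ≤ Ring.jacobson A) :
    ∀ (d : ℕ) (M : Type u) [AddCommGroup M] [Module A M] [Module.Finite A M],
      FL I M → Module.supportDim A M ≤ d →
      ∃ x : Fin d → A, (∀ i, x i ∈ I) ∧
        IsFiniteLength A (M ⧸ (Ideal.span (Set.range x) • ⊤ : Submodule A M)) := by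
  intro d
  induction d with
  | zero =>
    intro M _ _ _ hFL hd
    refine ⟨fun i => i.elim0, fun i => i.elim0, ?_⟩
    have hM : IsFiniteLength A M :=
      Groth.Agent.Lib.Helper24.isFiniteLength_of_supportDim_le_zero (by exact_mod_cast hd)
    exact hM.of_surjective (Submodule.mkQ_surjective _)
  | succ d ih =>
    intro M _ _ _ hFL hd
    have hΓ : IsFiniteLength A (Gam I M) := isFiniteLength_Gam I M hFL
    cases subsingleton_or_nontrivial (M ⧸ Gam I M) with
    | inl hss =>
      have htop : Gam I M = ⊤ := Submodule.Quotient.subsingleton_iff.1 hss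
      have hM : IsFiniteLength A M := by
        rw [htop] at hΓ
        exact (Submodule.topEquiv (R := A) (M := M)).isFiniteLength hΓ
      exact ⟨fun _ => 0, fun _ => I.zero_mem, hM.of_surjective (Submodule.mkQ_surjective _)⟩
    | inr hnt =>
      obtain ⟨x₁, hxI, hx⟩ := exists_regular_quot_Gam I M
      have hxJ : x₁ ∈ (Module.annihilator A (M ⧸ Gam I M)).jacobson :=
        Ideal.ringJacobson_le_jacobson (hI hxI)
      have hM'' : FL I (M ⧸ Gam I M) := hFL.of_surjective I _ (Submodule.mkQ_surjective _)
      have hN : FL I (QuotSMulTop x₁ (M ⧸ Gam I M)) :=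
        hM''.of_surjective I _ (Submodule.mkQ_surjective _)
      have e2 := Module.supportDim_quotSMulTop_succ_eq_supportDim_mem_jacobson hx hxJ
      have e4 : Module.supportDim A (M ⧸ Gam I M) ≤ Module.supportDim A M :=
        Module.supportDim_le_of_surjective _ (Submodule.mkQ_surjective _)
      have hNd : Module.supportDim A (QuotSMulTop x₁ (M ⧸ Gam I M)) ≤ d := by
        apply withBot_le_of_add_one_le
        rw [e2]
        exact e4.trans hd
      obtain ⟨y, hyI, hy⟩ := ih (QuotSMulTop x₁ (M ⧸ Gam I M)) hN hNd
      refine ⟨Fin.cons x₁ y, ?_, ?_⟩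
      · intro i
        refine Fin.cases ?_ (fun j => ?_) i
        · simpa using hxI
        · simpa using hyI j
      · apply isFiniteLength_quot_of_support
        intro p hp hle
        have hsupp := Module.support_of_exact (LinearMap.exact_subtype_mkQ (Gam I M))
          (Submodule.subtype_injective _) (Submodule.mkQ_surjective _)
        rw [hsupp] at hp
        rcases hp with hp | hp
        · exact isMaximal_of_mem_support_of_isFiniteLength _ hΓ p hp
        · have hx₁p : x₁ ∈ p.asIdeal := hle (Ideal.subset_span ⟨0, by simp⟩)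
          have hyp : Ideal.span (Set.range y) ≤ p.asIdeal := by
            rw [Ideal.span_le]
            rintro _ ⟨j, rfl⟩
            exact hle (Ideal.subset_span ⟨j.succ, by simp⟩)
          have hpN : p ∈ Module.support A (QuotSMulTop x₁ (M ⧸ Gam I M)) := by
            rw [Module.support_quotSMulTop]
            refine ⟨hp, ?_⟩
            rw [PrimeSpectrum.mem_zeroLocus, Set.singleton_subset_iff]
            exact hx₁p
          have hpQ : p ∈ Module.support A (QuotSMulTop x₁ (M ⧸ Gam I M) ⧸
              (Ideal.span (Set.range y) • ⊤ : Submodule A (QuotSMulTop x₁ (M ⧸ Gam I M)))) := by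
            rw [Module.support_quotient]
            exact ⟨hpN, by rw [PrimeSpectrum.mem_zeroLocus]; exact hyp⟩
          exact isMaximal_of_mem_support_of_isFiniteLength _ hy p hpQ

end Params

end Groth.Agent.Lib.Helper11.HS
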