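import Mathlib
import Groth.Prelude.Def_Koszul
import Groth.Prelude.Def_DRing2
import Groth.Prelude.Def_ega3
import Groth.Agent.Lib.Helper28.KoszulRegular

set_option autoImplicit false
universe u
open CategoryTheory CategoryTheory.Limits CochainComplex MonoidalCategory

namespace Groth.Agent.Lib.Helper11.Kz

variable {A : Type u} [CommRing A]

/-- mapping cones of conjugate endomorphisms are isomorphic -/
noncomputable def coneIso {K K' : CochainComplex (ModuleCat.{u} A) ℤ} (e : K ≅ K')
    (φ : K ⟶ K) (φ' : K' ⟶ K') (comm : φ ≫ e.hom = e.hom ≫ φ') :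
    mappingCone φ ≅ mappingCone φ' where
  hom := mappingCone.map φ φ' e.hom e.hom comm
  inv := mappingCone.map φ' φ e.inv e.inv (by
    rw [← cancel_epi e.hom, ← Category.assoc, ← comm, Category.assoc, e.hom_inv_id,
      e.hom_inv_id_assoc, Category.comp_id])
  hom_inv_id := by
    rw [← mappingCone.map_comp]
    simp only [e.hom_inv_id]
    exact mappingCone.map_id _
  inv_hom_id := by
    rw [← mappingCone.map_comp]
    simp only [e.inv_hom_id]
    exact mappingCone.map_id _

lemma mapHC_smul_id (M : ModuleCat.{u} A) (K : CochainComplex (ModuleCat.{u} A) ℤ) (f : A) :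
    ((tensorRight M).mapHomologicalComplex (ComplexShape.up ℤ)).map (f • 𝟙 K) =
      f • 𝟙 (((tensorRight M).mapHomologicalComplex (ComplexShape.up ℤ)).obj K) := by
  ext n : 1
  rw [Functor.mapHomologicalComplex_map_f, HomologicalComplex.smul_f_apply,
    HomologicalComplex.smul_f_apply, Functor.map_smul]
  simp
  rfl

/-- the prelude's `tensorCx (koszul A l) M` is the Koszul complex with coefficients in `M` -/
noncomputable def compareIso' (M : ModuleCat.{u} A) : ∀ l : List A,
    ((tensorRight M).mapHomologicalComplex (ComplexShape.up ℤ)).obj (Koszul.koszul A l) ≅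
      CohIII.koszulCx M l
  | [] => (HomologicalComplex.singleMapHomologicalComplex (tensorRight M)
      (ComplexShape.up ℤ) 0).app (ModuleCat.of A A) ≪≫
        (HomologicalComplex.single _ _ 0).mapIso (λ_ M)
  | f :: l =>
    mappingCone.mapHomologicalComplexIso (f • 𝟙 (Koszul.koszul A l)) (tensorRight M) ≪≫
      coneIso (compareIso' M l) _ (f • 𝟙 _) (by
        rw [mapHC_smul_id M (Koszul.koszul A l) f]
        simp only [Linear.smul_comp, Linear.comp_smul, Category.id_comp, Category.comp_id])

noncomputable def compareIso (M : ModuleCat.{u} A) (l : List A) :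
    DRing.tensorCx (Koszul.koszul A l) M ≅ CohIII.koszulCx M l := compareIso' M l

/-- the comparison on homology, as a linear equivalence -/
noncomputable def homologyEquiv (M : Type u) [AddCommGroup M] [Module A M] (l : List A) (i : ℤ) :
    ((DRing.tensorCx (Koszul.koszul A l) (ModuleCat.of A M)).homology i) ≃ₗ[A]
      ((CohIII.koszulCx (ModuleCat.of A M) l).homology i) :=
  ((HomologicalComplex.homologyFunctor _ _ i).mapIso (compareIso (ModuleCat.of A M) l)).toLinearEquiv

end Groth.Agent.Lib.Helper11.Kz
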