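import Mathlib
import Groth.Agent.Lib.Helper11.KzCompare
import Groth.Agent.Lib.Helper28.KoszulTop
import Groth.Agent.Lib.Helper11.HSParams

set_option autoImplicit false
universe u
open CategoryTheory CategoryTheory.Limits CochainComplex
open CohIII Groth.Agent.Lib.Helper28.Koszul

namespace Groth.Agent.Lib.Helper11.Kz

variable {A : Type u} [CommRing A]

theorem homologyMap_smul_id (K : CochainComplex (ModuleCat.{u} A) ℤ) (x : A) (n : ℤ) :
    HomologicalComplex.homologyMap (x • 𝟙 K) n = x • 𝟙 (K.homology n) := by
  have h : (HomologicalComplex.shortComplexFunctor (ModuleCat.{u} A) (ComplexShape.up ℤ) n).map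
      (x • 𝟙 K) = x • 𝟙 _ := by
    refine ShortComplex.hom_ext _ _ ?_ ?_ ?_ <;> rfl
  change ShortComplex.homologyMap ((HomologicalComplex.shortComplexFunctor (ModuleCat.{u} A)
    (ComplexShape.up ℤ) n).map (x • 𝟙 K)) = _
  rw [h, ShortComplex.homologyMap_smul, ShortComplex.homologyMap_id]
  rfl

/-- a scalar acting null-homotopically kills the homology -/
theorem smul_homology_eq_zero (K : CochainComplex (ModuleCat.{u} A) ℤ) (a : A)
    (h : Nonempty (Homotopy (a • 𝟙 K) 0)) (n : ℤ) (v : K.homology n) : a • v = 0 := by
  obtain ⟨h⟩ := h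
  have h1 := h.homologyMap_eq n
  rw [homologyMap_smul_id, HomologicalComplex.homologyMap_zero] at h1
  exact congr($h1 v)

section Terms

/-- the terms of the Koszul complex vanish outside `[-length, 0]` -/
theorem subsingleton_X (M : ModuleCat.{u} A) : ∀ (l : List A) (n : ℤ),
    (0 < n ∨ n < -(l.length : ℤ)) → Subsingleton ((koszulCx M l).X n)
  | [], n, h => ModuleCat.subsingleton_of_isZero
      (HomologicalComplex.isZero_single_obj_X (ComplexShape.up ℤ) 0 M n (by
        simp only [List.length_nil, Nat.cast_zero, neg_zero] at h; omega))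
  | f :: l, n, h => by
    have h1 := subsingleton_X M l (n + 1) (by
      simp only [List.length_cons, Nat.cast_add, Nat.cast_one] at h; omega)
    have h2 := subsingleton_X M l n (by
      simp only [List.length_cons, Nat.cast_add, Nat.cast_one] at h; omega)
    refine ⟨fun x y => ?_⟩
    exact cone_ext (f • 𝟙 (koszulCx M l)) n (Subsingleton.elim _ _) (Subsingleton.elim _ _)

theorem finite_X (M : ModuleCat.{u} A) [Module.Finite A M] : ∀ (l : List A) (n : ℤ),
    Module.Finite A ((koszulCx M l).X n)
  | [], n => by
    by_cases h : n = 0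
    · subst h
      exact Module.Finite.equiv
        (HomologicalComplex.singleObjXSelf (ComplexShape.up ℤ) 0 M).symm.toLinearEquiv
    · have hs : Subsingleton ((koszulCx M []).X n) := ModuleCat.subsingleton_of_isZero
        (HomologicalComplex.isZero_single_obj_X (ComplexShape.up ℤ) 0 M n h)
      exact Module.Finite.of_surjective (0 : A →ₗ[A] _) (fun v => ⟨0, Subsingleton.elim _ _⟩)
  | f :: l, n => by
    have h1 := finite_X M l (n + 1)
    have h2 := finite_X M l n
    let φ := f • 𝟙 (koszulCx M l)
    let g : ((koszulCx M l).X (n + 1) × (koszulCx M l).X n) →ₗ[A] (mappingCone φ).X n :=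
      (coneInl φ n).coprod (coneInr φ n)
    refine Module.Finite.of_surjective g (fun v => ⟨(coneFst φ n v, coneSnd φ n v), ?_⟩)
    show (coneInl φ n) _ + (coneInr φ n) _ = v
    exact coneInl_fst_add_coneInr_snd φ n v

end Terms

section Homology

theorem subsingleton_homology_of_subsingleton (K : CochainComplex (ModuleCat.{u} A) ℤ) (n : ℤ)
    (h : Subsingleton (K.X n)) : Subsingleton (K.homology n) := by
  have h1 : Function.Injective (K.iCycles n).hom :=
    (ModuleCat.mono_iff_injective _).1 inferInstance
  have h2 : Function.Surjective (K.homologyπ n).hom :=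
    (ModuleCat.epi_iff_surjective _).1 inferInstance
  have h3 : Subsingleton (K.cycles n) := h1.subsingleton
  exact h2.subsingleton

theorem finite_homology [IsNoetherianRing A] (K : CochainComplex (ModuleCat.{u} A) ℤ) (n : ℤ)
    [h : Module.Finite A (K.X n)] : Module.Finite A (K.homology n) := by
  have h1 : Function.Injective (K.iCycles n).hom :=
    (ModuleCat.mono_iff_injective _).1 inferInstance
  have h2 : Function.Surjective (K.homologyπ n).hom :=
    (ModuleCat.epi_iff_surjective _).1 inferInstance
  have h3 : Module.Finite A (K.cycles n) := Module.Finite.of_injective _ h1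
  exact Module.Finite.of_surjective _ h2

end Homology

section KH

/-- Koszul homology of a module (cohomological degrees `-length l, …, 0`) -/
noncomputable abbrev KH (l : List A) (M : Type u) [AddCommGroup M] [Module A M] (i : ℤ) :
    ModuleCat.{u} A :=
  (koszulCx (ModuleCat.of A M) l).homology i

variable (l : List A) (M : Type u) [AddCommGroup M] [Module A M] (i : ℤ)

theorem KH_subsingleton (h : 0 < i ∨ i < -(l.length : ℤ)) : Subsingleton (KH l M i) :=
  subsingleton_homology_of_subsingleton _ i (subsingleton_X _ l i h)

instance KH_finite [IsNoetherianRing A] [Module.Finite A M] : Module.Finite A (KH l M i) :=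
  haveI : Module.Finite A (ModuleCat.of A M) := ‹_›
  haveI := finite_X (ModuleCat.of A M) l i
  finite_homology _ i

theorem KH_smul_eq_zero_of_mem {a : A} (ha : a ∈ Ideal.ofList l) (v : KH l M i) : a • v = 0 :=
  smul_homology_eq_zero _ a (koszulCx_smul_homotopic_zero (ModuleCat.of A M) l a ha) i v

theorem KH_smul_eq_zero_of_ann {a : A} (ha : ∀ m : M, a • m = 0) (v : KH l M i) : a • v = 0 := by
  have h0 : a • 𝟙 (ModuleCat.of A M) = 0 := by
    ext m
    exact ha m
  have h1 : a • 𝟙 (koszulCx (ModuleCat.of A M) l) = 0 := by
    rw [← koszulMap_id, ← koszulMap_smul, h0, koszulMap_zero]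
  exact smul_homology_eq_zero _ a ⟨Homotopy.ofEq h1⟩ i v

end KH

section FiniteLength

variable [IsNoetherianRing A]

/-- a finite module killed by `I` and by the annihilator of `M` has finite length as soon as
`M/IM` has. -/
theorem isFiniteLength_of_kill (I : Ideal A) (M H : Type u) [AddCommGroup M] [Module A M]
    [Module.Finite A M] [AddCommGroup H] [Module A H] [Module.Finite A H]
    (hM : IsFiniteLength A (M ⧸ (I • ⊤ : Submodule A M)))
    (h1 : ∀ a ∈ I, ∀ v : H, a • v = 0)
    (h2 : ∀ a : A, (∀ m : M, a • m = 0) → ∀ v : H, a • v = 0) : IsFiniteLength A H := by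
  apply HS.isFiniteLength_of_support_isMaximal
  intro p hp
  rw [Module.mem_support_iff_of_finite] at hp
  apply HS.isMaximal_of_mem_support_of_isFiniteLength _ hM
  rw [Module.support_quotient]
  refine ⟨?_, ?_⟩
  · rw [Module.mem_support_iff_of_finite]
    refine le_trans ?_ hp
    intro a ha
    rw [Module.mem_annihilator] at ha ⊢
    exact h2 a ha
  · intro a ha
    apply hp
    rw [Module.mem_annihilator]
    exact h1 a ha

theorem KH_isFiniteLength (l : List A) (M : Type u) [AddCommGroup M] [Module A M]
    [Module.Finite A M]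
    (hM : IsFiniteLength A (M ⧸ (Ideal.ofList l • ⊤ : Submodule A M))) (i : ℤ) :
    IsFiniteLength A (KH l M i) :=
  isFiniteLength_of_kill (Ideal.ofList l) M (KH l M i) hM
    (fun _ ha v => KH_smul_eq_zero_of_mem l M i ha v)
    (fun _ ha v => KH_smul_eq_zero_of_ann l M i ha v)

end FiniteLength

end Groth.Agent.Lib.Helper11.Kz
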