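import Mathlib
import Groth.Agent.Lib.Helper11.KzBasic

set_option autoImplicit false
universe u
open CategoryTheory CategoryTheory.Limits CochainComplex Pointwise

namespace Groth.Agent.Lib.Helper11.Kz

section Lin

variable {R : Type*} [Ring R] {X₁ X₂ X₃ X₄ X₅ : Type*} [AddCommGroup X₁] [AddCommGroup X₂]
  [AddCommGroup X₃] [AddCommGroup X₄] [AddCommGroup X₅] [Module R X₁] [Module R X₂] [Module R X₃]
  [Module R X₄] [Module R X₅]

theorem length_eq_range_add_range (f : X₁ →ₗ[R] X₂) (g : X₂ →ₗ[R] X₃) (hfg : Function.Exact f g) :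
    Module.length R X₂ = Module.length R (LinearMap.range f) + Module.length R (LinearMap.range g) := by
  rw [Module.length_eq_add_of_exact (LinearMap.ker g).subtype g.rangeRestrict
    (Submodule.subtype_injective _) (LinearMap.surjective_rangeRestrict g)
    (by
      rw [LinearMap.exact_iff, LinearMap.ker_rangeRestrict, Submodule.range_subtype])]
  rw [← LinearMap.exact_iff.1 hfg]

theorem length_of_exact₅ (f : X₁ →ₗ[R] X₂) (g : X₂ →ₗ[R] X₃) (h : X₃ →ₗ[R] X₄) (k : X₄ →ₗ[R] X₅)
    (hfg : Function.Exact f g) (hgh : Function.Exact g h) (hhk : Function.Exact h k) :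
    Module.length R X₃ =
      Module.length R (X₂ ⧸ LinearMap.range f) + Module.length R (LinearMap.ker k) := by
  rw [length_eq_range_add_range g h hgh, LinearMap.exact_iff.1 hhk]
  congr 1
  rw [← LinearMap.exact_iff.1 hfg]
  exact (LinearMap.quotKerEquivRange g).symm.length_eq


theorem length_quot_range_congr (f : X₁ →ₗ[R] X₂) (f' : X₃ →ₗ[R] X₄) (e₁ : X₁ ≃ₗ[R] X₃)
    (e₂ : X₂ ≃ₗ[R] X₄) (comm : ∀ x, e₂ (f x) = f' (e₁ x)) :
    Module.length R (X₂ ⧸ LinearMap.range f) = Module.length R (X₄ ⧸ LinearMap.range f') := by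
  refine (Submodule.Quotient.equiv _ _ e₂ ?_).length_eq
  ext y
  constructor
  · rintro ⟨_, ⟨x, rfl⟩, rfl⟩
    exact ⟨e₁ x, (comm x).symm⟩
  · rintro ⟨x, rfl⟩
    refine ⟨f (e₁.symm x), ⟨_, rfl⟩, ?_⟩
    change e₂ (f (e₁.symm x)) = _
    rw [comm, e₁.apply_symm_apply]

theorem length_ker_congr (f : X₁ →ₗ[R] X₂) (f' : X₃ →ₗ[R] X₄) (e₁ : X₁ ≃ₗ[R] X₃)
    (e₂ : X₂ ≃ₗ[R] X₄) (comm : ∀ x, e₂ (f x) = f' (e₁ x)) :
    Module.length R (LinearMap.ker f) = Module.length R (LinearMap.ker f') := by
  refine (LinearEquiv.ofSubmodules e₁ _ _ ?_).length_eq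
  ext y
  constructor
  · rintro ⟨x, hx, rfl⟩
    rw [SetLike.mem_coe, LinearMap.mem_ker] at hx
    change f' (e₁ x) = 0
    rw [← comm, hx, map_zero]
  · intro hy
    rw [LinearMap.mem_ker] at hy
    refine ⟨e₁.symm y, ?_, e₁.apply_symm_apply y⟩
    rw [SetLike.mem_coe, LinearMap.mem_ker]
    apply e₂.injective
    rw [comm, e₁.apply_symm_apply, hy, map_zero]



end Lin

section Cone

variable {A : Type u} [CommRing A] {K L : CochainComplex (ModuleCat.{u} A) ℤ} (φ : K ⟶ L)

open HomotopyCategory Pretriangulated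

theorem length_homology_cone (n : ℤ) :
    Module.length A ((mappingCone φ).homology n) =
      Module.length A (L.homology n ⧸ LinearMap.range (HomologicalComplex.homologyMap φ n).hom) +
      Module.length A (LinearMap.ker (HomologicalComplex.homologyMap φ (n + 1)).hom) := by
  let F := HomotopyCategory.homologyFunctor (ModuleCat.{u} A) (ComplexShape.up ℤ) 0
  let T := mappingCone.triangleh φ
  have hT : T ∈ distTriang _ := HomotopyCategory.mappingCone_triangleh_distinguished φ
  have e2 := F.homologySequence_exact₂ T hT n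
  have e3 := F.homologySequence_exact₃ T hT n (n+1) rfl
  have e1 := F.homologySequence_exact₁ T hT n (n+1) rfl
  rw [ShortComplex.ShortExact.moduleCat_exact_iff_function_exact] at e1 e2 e3
  have key := length_of_exact₅ _ _ _ _ e2 e3 e1
  let eK : ∀ m : ℤ, (F.shift m).obj T.obj₁ ≅ K.homology m := fun m =>
    (homologyFunctorFactors (ModuleCat.{u} A) (ComplexShape.up ℤ) m).app K
  let eL : ∀ m : ℤ, (F.shift m).obj T.obj₂ ≅ L.homology m := fun m =>
    (homologyFunctorFactors (ModuleCat.{u} A) (ComplexShape.up ℤ) m).app L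
  let eC : ∀ m : ℤ, (F.shift m).obj T.obj₃ ≅ (mappingCone φ).homology m := fun m =>
    (homologyFunctorFactors (ModuleCat.{u} A) (ComplexShape.up ℤ) m).app (mappingCone φ)
  have comm : ∀ m : ℤ, (F.shift m).map T.mor₁ ≫ (eL m).hom =
      (eK m).hom ≫ HomologicalComplex.homologyMap φ m := fun m =>
    (homologyFunctorFactors (ModuleCat.{u} A) (ComplexShape.up ℤ) m).hom.naturality φ
  rw [← (eC n).toLinearEquiv.length_eq, key]
  congr 1
  · exact length_quot_range_congr _ _ (eK n).toLinearEquiv (eL n).toLinearEquiv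
      (fun x => congr($(comm n) x))
  · exact length_ker_congr _ _ (eK (n + 1)).toLinearEquiv (eL (n + 1)).toLinearEquiv
      (fun x => congr($(comm (n + 1)) x))

/-- the cone of multiplication by `x`: `ℓ(Hⁿ(cone)) = ℓ(Hⁿ/xHⁿ) + ℓ(Hⁿ⁺¹[x])`. -/
theorem length_homology_cone_smul (K : CochainComplex (ModuleCat.{u} A) ℤ) (x : A) (n : ℤ) :
    Module.length A ((mappingCone (x • 𝟙 K)).homology n) =
      Module.length A (K.homology n ⧸ (x • ⊤ : Submodule A (K.homology n))) +
      Module.length A (Submodule.torsionBy A (K.homology (n + 1)) x) := by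
  rw [length_homology_cone, homologyMap_smul_id, homologyMap_smul_id]
  congr 1
  refine (Submodule.quotEquivOfEq _ _ ?_).length_eq
  · ext v
    rw [Submodule.mem_smul_pointwise_iff_exists]
    constructor
    · rintro ⟨w, rfl⟩
      exact ⟨w, trivial, rfl⟩
    · rintro ⟨w, -, rfl⟩
      exact ⟨w, rfl⟩

end Cone

end Groth.Agent.Lib.Helper11.Kz
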