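import Mathlib
import Groth.Agent.Lib.Helper11.KzCone

set_option autoImplicit false
universe u
open CategoryTheory CategoryTheory.Limits CochainComplex

namespace Groth.Agent.Lib.Helper11.Kz

section Alt

/-- alternating sum of an integer sequence indexed by `ℤ` -/
noncomputable def alt (f : ℤ → ℤ) : ℤ := ∑ᶠ i : ℤ, ((i.negOnePow : ℤˣ) : ℤ) * f i

theorem alt_congr {f g : ℤ → ℤ} (h : ∀ n, f n = g n) : alt f = alt g := by
  unfold alt
  exact finsum_congr fun n => by rw [h n]

theorem support_sign_mul (f : ℤ → ℤ) (hf : f.support.Finite) :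
    (Function.support fun i : ℤ => ((i.negOnePow : ℤˣ) : ℤ) * f i).Finite :=
  hf.subset (Function.support_mul_subset_right _ _)

theorem alt_add (f g : ℤ → ℤ) (hf : f.support.Finite) (hg : g.support.Finite) :
    alt (fun n => f n + g n) = alt f + alt g := by
  unfold alt
  rw [← finsum_add_distrib (support_sign_mul f hf) (support_sign_mul g hg)]
  exact finsum_congr fun n => mul_add _ _ _

theorem alt_shift (f : ℤ → ℤ) : alt (fun n => f (n - 1)) = - alt f := by
  unfold alt
  rw [← finsum_comp_equiv (Equiv.subRight (1 : ℤ))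
    (f := fun i : ℤ => ((i.negOnePow : ℤˣ) : ℤ) * f i), ← finsum_neg_distrib]
  refine finsum_congr fun n => ?_
  simp only [Equiv.subRight_apply, Int.negOnePow_sub, Int.negOnePow_one]
  simp

theorem support_shift (f : ℤ → ℤ) (hf : f.support.Finite) :
    (Function.support fun n => f (n - 1)).Finite := by
  have : (Function.support fun n => f (n - 1)) = (Equiv.subRight (1 : ℤ)) ⁻¹' f.support := rfl
  rw [this]
  exact hf.preimage (Equiv.injective _).injOn

/-- the alternating sum along a long exact sequence -/
theorem alt_les (a b c r s t : ℤ → ℤ) (hr : r.support.Finite) (hs : s.support.Finite)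
    (ht : t.support.Finite)
    (ha : ∀ n, a (n + 1) = t n + r (n + 1)) (hb : ∀ n, b n = r n + s n)
    (hc : ∀ n, c n = s n + t n) : alt b = alt a + alt c := by
  have ha' : ∀ n, a n = t (n - 1) + r n := by
    intro n
    have := ha (n - 1)
    rwa [sub_add_cancel] at this
  rw [alt_congr ha', alt_congr hb, alt_congr hc, alt_add _ _ (support_shift t ht) hr,
    alt_add _ _ hr hs, alt_add _ _ hs ht, alt_shift]
  ring

end Alt

end Groth.Agent.Lib.Helper11.Kz

namespace Groth.Agent.Lib.Helper11.Kz

section LES

variable {A : Type u} [CommRing A]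

/-- the integer length of the homology of a complex -/
noncomputable def hl (K : CochainComplex (ModuleCat.{u} A) ℤ) (n : ℤ) : ℤ :=
  ((Module.length A (K.homology n)).toNat : ℤ)

/-- Euler characteristic of a complex -/
noncomputable def chiC (K : CochainComplex (ModuleCat.{u} A) ℤ) : ℤ := alt (hl K)

theorem toNat_length_range_le {X Y : Type u} [AddCommGroup X] [AddCommGroup Y] [Module A X]
    [Module A Y] (f : X →ₗ[A] Y) (hY : IsFiniteLength A Y) :
    (Module.length A (LinearMap.range f)).toNat ≤ (Module.length A Y).toNat :=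
  ENat.toNat_le_toNat (Module.length_le_of_injective _ (Submodule.subtype_injective _))
    (Module.length_ne_top_iff.2 hY)

theorem toNat_length_eq_of_exact {X Y Z : Type u} [AddCommGroup X] [AddCommGroup Y]
    [AddCommGroup Z] [Module A X] [Module A Y] [Module A Z] (f : X →ₗ[A] Y) (g : Y →ₗ[A] Z)
    (hfg : Function.Exact f g) (hY : IsFiniteLength A Y) :
    ((Module.length A Y).toNat : ℤ) = ((Module.length A (LinearMap.range f)).toNat : ℤ) +
      ((Module.length A (LinearMap.range g)).toNat : ℤ) := by
  have h := length_eq_range_add_range f g hfg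
  have hne := Module.length_ne_top_iff.2 hY
  have h1 : Module.length A (LinearMap.range f) ≠ ⊤ := by
    intro h'; rw [h', top_add] at h; exact hne h
  have h2 : Module.length A (LinearMap.range g) ≠ ⊤ := by
    intro h'; rw [h', add_top] at h; exact hne h
  rw [h, ENat.toNat_add h1 h2]
  push_cast
  rfl

/-- additivity of the Euler characteristic along a short exact sequence of complexes -/
theorem chiC_additive (S : ShortComplex (CochainComplex (ModuleCat.{u} A) ℤ)) (hS : S.ShortExact)
    (h₁ : ∀ n, IsFiniteLength A (S.X₁.homology n)) (h₂ : ∀ n, IsFiniteLength A (S.X₂.homology n))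
    (h₃ : ∀ n, IsFiniteLength A (S.X₃.homology n))
    (hb₂ : {n : ℤ | ¬ Subsingleton (S.X₂.homology n)}.Finite)
    (hb₃ : {n : ℤ | ¬ Subsingleton (S.X₃.homology n)}.Finite) :
    chiC S.X₂ = chiC S.X₁ + chiC S.X₃ := by
  let r : ℤ → ℤ := fun n =>
    ((Module.length A (LinearMap.range (HomologicalComplex.homologyMap S.f n).hom)).toNat : ℤ)
  let s : ℤ → ℤ := fun n =>
    ((Module.length A (LinearMap.range (HomologicalComplex.homologyMap S.g n).hom)).toNat : ℤ)
  let t : ℤ → ℤ := fun n =>
    ((Module.length A (LinearMap.range (hS.δ n (n + 1) rfl).hom)).toNat : ℤ)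
  have hsub : ∀ (K : CochainComplex (ModuleCat.{u} A) ℤ) (n : ℤ) {X : Type u} [AddCommGroup X]
      [Module A X] (f : X →ₗ[A] K.homology n), Subsingleton (K.homology n) →
      ((Module.length A (LinearMap.range f)).toNat : ℤ) = 0 := by
    intro K n X _ _ f hsub
    have : Subsingleton (LinearMap.range f) := (Submodule.subtype_injective _).subsingleton
    rw [Module.length_eq_zero]
    rfl
  have hr : r.support.Finite := hb₂.subset fun n hn hsub' => hn (hsub S.X₂ n _ hsub')
  have hs : s.support.Finite := hb₃.subset fun n hn hsub' => hn (hsub S.X₃ n _ hsub')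
  have ht : t.support.Finite := by
    refine hb₃.subset fun n hn hsub' => hn ?_
    have : Subsingleton (LinearMap.range (hS.δ n (n + 1) rfl).hom) :=
      ⟨fun x y => by
        obtain ⟨x, ⟨x', rfl⟩⟩ := x
        obtain ⟨y, ⟨y', rfl⟩⟩ := y
        rw [Subsingleton.elim x' y']⟩
    show ((Module.length A (LinearMap.range (hS.δ n (n + 1) rfl).hom)).toNat : ℤ) = 0
    rw [Module.length_eq_zero]
    rfl
  unfold chiC
  refine alt_les (hl S.X₁) (hl S.X₂) (hl S.X₃) r s t hr hs ht ?_ ?_ ?_
  · intro n
    have e := hS.homology_exact₁ n (n + 1) rfl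
    rw [ShortComplex.ShortExact.moduleCat_exact_iff_function_exact] at e
    exact toNat_length_eq_of_exact _ _ e (h₁ (n + 1))
  · intro n
    have e := hS.homology_exact₂ n
    rw [ShortComplex.ShortExact.moduleCat_exact_iff_function_exact] at e
    exact toNat_length_eq_of_exact _ _ e (h₂ n)
  · intro n
    have e := hS.homology_exact₃ n (n + 1) rfl
    rw [ShortComplex.ShortExact.moduleCat_exact_iff_function_exact] at e
    exact toNat_length_eq_of_exact _ _ e (h₃ n)

end LES

end Groth.Agent.Lib.Helper11.Kz
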