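import Mathlib
import Groth.Agent.Lib.Helper11.KzEuler
import Groth.Agent.Lib.Helper11.HSExact

set_option autoImplicit false
set_option linter.unusedSectionVars false
universe u
open CategoryTheory CategoryTheory.Limits CochainComplex Pointwise
open CohIII Groth.Agent.Lib.Helper28.Koszul

namespace Groth.Agent.Lib.Helper11.Kz

variable {A : Type u} [CommRing A]

/-- the Euler characteristic of the Koszul complex `K(l; M)` -/
noncomputable def chi (l : List A) (M : Type u) [AddCommGroup M] [Module A M] : ℤ :=
  chiC (koszulCx (ModuleCat.of A M) l)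

/-- finiteness hypothesis: `M/(l)M` has finite length -/
def Fl (l : List A) (M : Type u) [AddCommGroup M] [Module A M] : Prop :=
  IsFiniteLength A (M ⧸ (Ideal.ofList l • ⊤ : Submodule A M))

theorem chi_eq_row (l : List A) (M : Type u) [AddCommGroup M] [Module A M] :
    (∑ᶠ i : ℤ, ((i.negOnePow : ℤˣ) : ℤ) * ((Module.length A
      ((DRing.tensorCx (Koszul.koszul A l) (ModuleCat.of A M)).homology i)).toNat : ℤ)) =
      chi l M := by
  unfold chi chiC alt hl
  refine finsum_congr fun i => ?_
  rw [(homologyEquiv M l i).length_eq]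

section Fl

variable [IsNoetherianRing A] {l : List A} {M M' M'' : Type u} [AddCommGroup M] [Module A M]
  [AddCommGroup M'] [Module A M'] [AddCommGroup M''] [Module A M'']

theorem Fl.of_injective [Module.Finite A M] (h : Fl l M) (f : M' →ₗ[A] M)
    (hf : Function.Injective f) : Fl l M' :=
  ((HS.FL_of_isFiniteLength _ M h).of_injective _ f hf).isFiniteLength_quot

theorem Fl.of_surjective [Module.Finite A M] (h : Fl l M) (g : M →ₗ[A] M'')
    (hg : Function.Surjective g) : Fl l M'' :=
  ((HS.FL_of_isFiniteLength _ M h).of_surjective _ g hg).isFiniteLength_quot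

end Fl

section Additive

variable [IsNoetherianRing A] (l : List A) {M M' M'' : Type u} [AddCommGroup M] [Module A M]
  [AddCommGroup M'] [Module A M'] [AddCommGroup M''] [Module A M'']

theorem finite_nonsubsingleton (M : Type u) [AddCommGroup M] [Module A M] :
    {n : ℤ | ¬ Subsingleton (KH l M n)}.Finite := by
  refine (Set.finite_Icc (-(l.length : ℤ)) 0).subset fun n hn => ?_
  by_contra h
  apply hn
  apply KH_subsingleton
  simp only [Set.mem_Icc, not_and_or, not_le] at h
  tauto

/-- **additivity** of the Koszul Euler characteristic -/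
theorem chi_additive [Module.Finite A M] (f : M' →ₗ[A] M) (g : M →ₗ[A] M'')
    (hf : Function.Injective f) (hg : Function.Surjective g) (hfg : Function.Exact f g)
    (h : Fl l M) : chi l M = chi l M' + chi l M'' := by
  have : Module.Finite A M'' := Module.Finite.of_surjective g hg
  have : Module.Finite A M' := Module.Finite.of_injective f hf
  let S₀ : ShortComplex (ModuleCat.{u} A) := ShortComplex.mk (ModuleCat.ofHom f) (ModuleCat.ofHom g)
    (by ext x; exact hfg.apply_apply_eq_zero x)
  have hS₀ : S₀.ShortExact := ModuleCat.shortComplex_shortExact S₀ hfg hf hg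
  have hdeg := koszulMap_degreewise S₀ hS₀ l
  let S : ShortComplex (CochainComplex (ModuleCat.{u} A) ℤ) :=
    ShortComplex.mk (koszulMap S₀.f l) (koszulMap S₀.g l) (by
      ext n x
      exact (hdeg n).2.2.apply_apply_eq_zero x)
  have hS : S.ShortExact := by
    refine HomologicalComplex.shortExact_of_degreewise_shortExact _ fun n => ?_
    exact ModuleCat.shortComplex_shortExact _ (hdeg n).2.2 (hdeg n).1 (hdeg n).2.1
  exact chiC_additive S hS (KH_isFiniteLength l M' (h.of_injective f hf))
    (KH_isFiniteLength l M h) (KH_isFiniteLength l M'' (h.of_surjective g hg))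
    (finite_nonsubsingleton l M) (finite_nonsubsingleton l M'')

end Additive

section Basic

variable (l : List A) (M : Type u) [AddCommGroup M] [Module A M]

theorem hl_eq_zero_of_subsingleton (K : CochainComplex (ModuleCat.{u} A) ℤ) (n : ℤ)
    (h : Subsingleton (K.homology n)) : hl K n = 0 := by
  unfold hl
  rw [Module.length_eq_zero]
  rfl

theorem chi_of_subsingleton [Subsingleton M] : chi l M = 0 := by
  unfold chi chiC alt
  rw [finsum_eq_zero_of_forall_eq_zero]
  intro n
  rw [hl_eq_zero_of_subsingleton, mul_zero]
  refine ⟨fun v w => ?_⟩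
  have h1 := KH_smul_eq_zero_of_ann l M n (a := 1) (fun m => Subsingleton.elim _ _) v
  have h2 := KH_smul_eq_zero_of_ann l M n (a := 1) (fun m => Subsingleton.elim _ _) w
  rw [one_smul] at h1 h2
  rw [h1, h2]

theorem hl_cons (x : A) (n : ℤ) :
    Module.length A (KH (x :: l) M n) =
      Module.length A (KH l M n ⧸ (x • ⊤ : Submodule A (KH l M n))) +
      Module.length A (Submodule.torsionBy A (KH l M (n + 1)) x) :=
  length_homology_cone_smul _ x n

end Basic

section Torsion

variable {R : Type*} [CommRing R] {H : Type*} [AddCommGroup H] [Module R H]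

/-- for a module of finite length, `H/xH` and `H[x]` have the same length -/
theorem length_quot_smul_eq_length_torsionBy (x : R) (hH : IsFiniteLength R H) :
    Module.length R (H ⧸ (x • ⊤ : Submodule R H)) = Module.length R (Submodule.torsionBy R H x) := by
  let φ : H →ₗ[R] H := DistribSMul.toLinearMap R H x
  have hr : LinearMap.range φ = (x • ⊤ : Submodule R H) := by
    ext v
    rw [Submodule.mem_smul_pointwise_iff_exists]
    constructor
    · rintro ⟨w, rfl⟩; exact ⟨w, trivial, rfl⟩
    · rintro ⟨w, -, rfl⟩; exact ⟨w, rfl⟩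
  have h1 : Module.length R H = Module.length R (LinearMap.ker φ) +
      Module.length R (LinearMap.range φ) :=
    Module.length_eq_add_of_exact (LinearMap.ker φ).subtype φ.rangeRestrict
      (Submodule.subtype_injective _) (LinearMap.surjective_rangeRestrict φ)
      (by rw [LinearMap.exact_iff, LinearMap.ker_rangeRestrict, Submodule.range_subtype])
  have h2 : Module.length R H = Module.length R (LinearMap.range φ) +
      Module.length R (H ⧸ LinearMap.range φ) :=
    Module.length_eq_add_of_exact (LinearMap.range φ).subtype (LinearMap.range φ).mkQ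
      (Submodule.subtype_injective _) (Submodule.mkQ_surjective _)
      (by rw [LinearMap.exact_iff, Submodule.ker_mkQ, Submodule.range_subtype])
  have hne : Module.length R (LinearMap.range φ) ≠ ⊤ := by
    intro h
    rw [h, top_add] at h2
    exact Module.length_ne_top_iff.2 hH h2
  rw [h1, add_comm] at h2
  have h3 := ENat.add_right_injective_of_ne_top hne h2
  rw [← hr]
  exact h3.symm

end Torsion

section Cons

variable [IsNoetherianRing A] (l : List A) (M : Type u) [AddCommGroup M] [Module A M]
  [Module.Finite A M]

theorem alt_shift' (f : ℤ → ℤ) : alt (fun n => f (n + 1)) = - alt f := by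
  have h := alt_shift (fun n => f (n + 1))
  simp only [sub_add_cancel] at h
  rw [h, neg_neg]

/-- if `M/(l)M` already has finite length, `χ(x :: l; M) = 0` -/
theorem chi_cons_eq_zero (x : A) (h : Fl l M) : chi (x :: l) M = 0 := by
  let q : ℤ → ℤ := fun n =>
    ((Module.length A (KH l M n ⧸ (x • ⊤ : Submodule A (KH l M n)))).toNat : ℤ)
  have hq : q.support.Finite := by
    refine (finite_nonsubsingleton l M).subset fun n hn hsub => hn ?_
    show ((Module.length A (KH l M n ⧸ (x • ⊤ : Submodule A (KH l M n)))).toNat : ℤ) = 0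
    rw [Module.length_eq_zero]
    rfl
  have key : ∀ n, hl (koszulCx (ModuleCat.of A M) (x :: l)) n = q n + q (n + 1) := by
    intro n
    have h1 := hl_cons l M x n
    have hfl := KH_isFiniteLength l M h
    rw [← length_quot_smul_eq_length_torsionBy x (hfl (n + 1))] at h1
    have hne : ∀ m, Module.length A (KH l M m ⧸ (x • ⊤ : Submodule A (KH l M m))) ≠ ⊤ := fun m =>
      ne_top_of_le_ne_top (Module.length_ne_top_iff.2 (hfl m))
        (Module.length_le_of_surjective _ (Submodule.mkQ_surjective _))
    unfold hl
    rw [h1, ENat.toNat_add (hne n) (hne (n + 1))]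
    push_cast
    rfl
  unfold chi chiC
  rw [alt_congr key, alt_add _ _ hq, alt_shift']
  · ring
  · have : (Function.support fun n => q (n + 1)) = (Equiv.addRight (1 : ℤ)) ⁻¹' q.support := rfl
    rw [this]
    exact hq.preimage (Equiv.injective _).injOn

end Cons

section Congr

lemma koszulMap_comp {M N P : ModuleCat.{u} A} (g : M ⟶ N) (h : N ⟶ P) :
    ∀ fs : List A, koszulMap (g ≫ h) fs = koszulMap g fs ≫ koszulMap h fs
  | [] => Functor.map_comp _ _ _
  | f :: fs => by
    have hc : ∀ {X Y : ModuleCat.{u} A} (k : X ⟶ Y),
        (f • 𝟙 (koszulCx X fs)) ≫ koszulMap k fs = koszulMap k fs ≫ (f • 𝟙 (koszulCx Y fs)) := by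
      intro X Y k
      simp only [Linear.smul_comp, Linear.comp_smul, Category.id_comp, Category.comp_id]
    have h1 := mappingCone.map_comp (f • 𝟙 (koszulCx M fs)) (f • 𝟙 (koszulCx N fs))
      (f • 𝟙 (koszulCx P fs)) (koszulMap g fs) (koszulMap g fs) (hc g) (koszulMap h fs)
      (koszulMap h fs) (hc h)
    simp only [← koszulMap_comp g h fs] at h1
    exact h1

/-- isomorphic modules have isomorphic Koszul complexes -/
noncomputable def koszulIso {M N : ModuleCat.{u} A} (e : M ≅ N) (l : List A) :
    koszulCx M l ≅ koszulCx N l where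
  hom := koszulMap e.hom l
  inv := koszulMap e.inv l
  hom_inv_id := by rw [← koszulMap_comp, e.hom_inv_id, koszulMap_id]
  inv_hom_id := by rw [← koszulMap_comp, e.inv_hom_id, koszulMap_id]

variable (l : List A) {M M' : Type u} [AddCommGroup M] [Module A M] [AddCommGroup M'] [Module A M']

theorem length_KH_congr (e : M ≃ₗ[A] M') (n : ℤ) :
    Module.length A (KH l M n) = Module.length A (KH l M' n) :=
  ((HomologicalComplex.homologyFunctor _ _ n).mapIso
    (koszulIso e.toModuleIso l)).toLinearEquiv.length_eq

theorem chi_congr (e : M ≃ₗ[A] M') : chi l M = chi l M' := by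
  unfold chi chiC
  refine alt_congr fun n => ?_
  unfold hl
  rw [length_KH_congr l e n]

theorem Fl.congr {l : List A} (e : M ≃ₗ[A] M') (h : Fl l M) : Fl l M' := by
  unfold Fl at h ⊢
  refine (Submodule.Quotient.equiv _ _ e ?_).isFiniteLength h
  rw [Submodule.map_smul'', Submodule.map_top, LinearEquiv.range]

end Congr

section Regular

variable (l : List A) (M : Type u) [AddCommGroup M] [Module A M]

/-- **regular elements**: `χ(x :: l; M) = χ(l; M/xM)` -/
theorem chi_cons_of_regular (x : A) (hx : IsSMulRegular M x) :
    chi (x :: l) M = chi l (QuotSMulTop x M) := by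
  unfold chi chiC
  refine alt_congr fun n => ?_
  unfold hl
  rw [(homologyConsIso M x hx l n).toLinearEquiv.length_eq]

theorem length_KH_cons_of_regular (x : A) (hx : IsSMulRegular M x) (n : ℤ) :
    Module.length A (KH (x :: l) M n) = Module.length A (KH l (QuotSMulTop x M) n) :=
  (homologyConsIso M x hx l n).toLinearEquiv.length_eq

theorem length_KH_zero :
    Module.length A (KH l M 0) = Module.length A (M ⧸ (Ideal.ofList l • ⊤ : Submodule A M)) := by
  obtain ⟨e⟩ := nonempty_homologyZero_equiv M l
  exact e.length_eq

theorem chi_nil : chi ([] : List A) M = ((Module.length A M).toNat : ℤ) := by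
  unfold chi chiC alt
  rw [finsum_eq_single _ (0 : ℤ)]
  · simp only [Int.negOnePow_zero, Units.val_one, one_mul]
    unfold hl
    rw [length_KH_zero]
    have : (Ideal.ofList ([] : List A) • ⊤ : Submodule A M) = ⊥ := by
      rw [Ideal.ofList_nil, Submodule.bot_smul]
    rw [(Submodule.quotEquivOfEqBot _ this).length_eq]
  · intro n hn
    rw [hl_eq_zero_of_subsingleton, mul_zero]
    apply KH_subsingleton
    simp only [List.length_nil, Nat.cast_zero, neg_zero]
    omega

end Regular

section Nilpotent

variable [IsNoetherianRing A] (l : List A)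

theorem Fl_of_smul_eq_zero {M : Type u} [AddCommGroup M] [Module A M] (x : A)
    (hx : ∀ m : M, x • m = 0) (h : Fl (x :: l) M) : Fl l M := by
  unfold Fl at h ⊢
  have : (Ideal.ofList (x :: l) • ⊤ : Submodule A M) = Ideal.ofList l • ⊤ := by
    rw [Ideal.ofList_cons, Submodule.sup_smul]
    have : (Ideal.span {x} • ⊤ : Submodule A M) = ⊥ := by
      rw [eq_bot_iff, Submodule.smul_le]
      intro r hr m _
      obtain ⟨a, rfl⟩ := Ideal.mem_span_singleton'.1 hr
      rw [mul_smul, hx, smul_zero]
      exact zero_mem _
    rw [this, bot_sup_eq]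
  exact (Submodule.quotEquivOfEq _ _ this).isFiniteLength h

/-- **nilpotent elements**: if `xᵏ M = 0` then `χ(x :: l; M) = 0` -/
theorem chi_cons_of_pow_smul_eq_zero (x : A) (k : ℕ) :
    ∀ (M : Type u) [AddCommGroup M] [Module A M] [Module.Finite A M],
      (∀ m : M, x ^ k • m = 0) → Fl (x :: l) M → chi (x :: l) M = 0 := by
  induction k with
  | zero =>
    intro M _ _ _ hk _
    have : Subsingleton M := ⟨fun a b => by
      have ha := hk a
      have hb := hk b
      rw [pow_zero, one_smul] at ha hb
      rw [ha, hb]⟩
    exact chi_of_subsingleton _ M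
  | succ k ih =>
    intro M _ _ _ hk h
    let N : Submodule A M := x • ⊤
    have h1 := chi_additive (x :: l) N.subtype N.mkQ (Submodule.subtype_injective _)
      (Submodule.mkQ_surjective _) (by
        rw [LinearMap.exact_iff, Submodule.ker_mkQ, Submodule.range_subtype]) h
    have hN : chi (x :: l) N = 0 := by
      apply ih N _ (h.of_injective N.subtype (Submodule.subtype_injective _))
      rintro ⟨n, hn⟩
      obtain ⟨m, -, rfl⟩ := (Submodule.mem_smul_pointwise_iff_exists _ _ _).1 hn
      apply Subtype.ext
      rw [Submodule.coe_smul, Submodule.coe_zero]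
      show x ^ k • x • m = 0
      rw [← mul_smul, ← pow_succ, hk]
    have hQ : chi (x :: l) (M ⧸ N) = 0 := by
      apply chi_cons_eq_zero
      apply Fl_of_smul_eq_zero l x _ (h.of_surjective N.mkQ (Submodule.mkQ_surjective _))
      intro v
      obtain ⟨m, rfl⟩ := Submodule.Quotient.mk_surjective _ v
      rw [← Submodule.Quotient.mk_smul, Submodule.Quotient.mk_eq_zero]
      exact Submodule.smul_mem_pointwise_smul m x ⊤ trivial
    rw [h1, hN, hQ, add_zero]

end Nilpotent

end Groth.Agent.Lib.Helper11.Kz
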