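import Mathlib
import Groth.Agent.Lib.Helper11.KzChi
import Groth.Agent.Lib.Helper10.Resolution
import Groth.Agent.Lib.Helper2.TorBalance

set_option autoImplicit false
universe u v
open CategoryTheory CategoryTheory.Limits CochainComplex MonoidalCategory

namespace Groth.Agent.Lib.Helper11.Kz

section Chain

variable {C : Type u} [Category.{v} C] [Abelian C]

/-- the `ℕ`-indexed chain complex `n ↦ K^{-n}` of a `ℤ`-indexed cochain complex -/
noncomputable def toChain (K : CochainComplex C ℤ) : ChainComplex C ℕ :=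
  ChainComplex.of (fun n => K.X (-(n : ℤ))) (fun n => K.d (-((n + 1 : ℕ) : ℤ)) (-(n : ℤ)))
    (fun _ => K.d_comp_d _ _ _)

lemma toChain_d (K : CochainComplex C ℤ) (n : ℕ) :
    (toChain K).d (n + 1) n = K.d (-((n + 1 : ℕ) : ℤ)) (-(n : ℤ)) :=
  ChainComplex.of_d (fun n : ℕ => K.X (-(n : ℤ)))
    (fun n : ℕ => K.d (-((n + 1 : ℕ) : ℤ)) (-(n : ℤ))) n

/-- comparison of short complexes in positive degrees -/
noncomputable def toChainScIso (K : CochainComplex C ℤ) (n : ℕ) :
    (toChain K).sc' (n + 1 + 1) (n + 1) n ≅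
      K.sc' (-((n + 1 + 1 : ℕ) : ℤ)) (-((n + 1 : ℕ) : ℤ)) (-(n : ℤ)) :=
  ShortComplex.isoMk (Iso.refl _) (Iso.refl _) (Iso.refl _)
    (by
      change 𝟙 _ ≫ K.d _ _ = (toChain K).d _ _ ≫ 𝟙 _
      rw [Category.id_comp, Category.comp_id]
      exact (toChain_d K (n + 1)).symm)
    (by
      change 𝟙 _ ≫ K.d _ _ = (toChain K).d _ _ ≫ 𝟙 _
      rw [Category.id_comp, Category.comp_id]
      exact (toChain_d K n).symm)

/-- homology of `toChain K` in positive degrees -/
noncomputable def toChainHomologyIsoSucc (K : CochainComplex C ℤ) (n : ℕ) :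
    (toChain K).homology (n + 1) ≅ K.homology (-((n + 1 : ℕ) : ℤ)) :=
  ShortComplex.homologyMapIso ((toChain K).isoSc' (n + 1 + 1) (n + 1) n (by simp) (by simp)) ≪≫
    ShortComplex.homologyMapIso (toChainScIso K n) ≪≫
    (ShortComplex.homologyMapIso (K.isoSc' (-((n + 1 + 1 : ℕ) : ℤ)) (-((n + 1 : ℕ) : ℤ)) (-(n : ℤ))
      (by simp; omega) (by simp))).symm

/-- comparison morphism of short complexes in degree zero -/
noncomputable def toChainScZero (K : CochainComplex C ℤ) :
    K.sc' (-1) 0 1 ⟶ (toChain K).sc' 1 0 0 where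
  τ₁ := 𝟙 (K.X (-1))
  τ₂ := 𝟙 (K.X 0)
  τ₃ := (0 : K.X 1 ⟶ K.X 0)
  comm₁₂ := by
    change 𝟙 _ ≫ (toChain K).d 1 0 = K.d (-1) 0 ≫ 𝟙 _
    rw [Category.id_comp, Category.comp_id]
    exact toChain_d K 0
  comm₂₃ := by
    change 𝟙 _ ≫ (toChain K).d 0 0 = K.d 0 1 ≫ 0
    rw [comp_zero, Category.id_comp]
    exact (toChain K).shape 0 0 (by simp)

/-- homology of `toChain K` in degree zero, when `K¹ = 0` -/
noncomputable def toChainHomologyIsoZero (K : CochainComplex C ℤ) (h : IsZero (K.X 1)) :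
    (toChain K).homology 0 ≅ K.homology 0 :=
  haveI : Mono (toChainScZero K).τ₃ := ⟨fun g g' _ => h.eq_of_tgt g g'⟩
  haveI : IsIso (toChainScZero K).τ₂ := inferInstanceAs (IsIso (𝟙 (K.X 0)))
  haveI : Epi (toChainScZero K).τ₁ := inferInstanceAs (Epi (𝟙 (K.X (-1))))
  haveI : IsIso (ShortComplex.homologyMap (toChainScZero K)) :=
    ShortComplex.isIso_homologyMap_of_epi_of_isIso_of_mono (toChainScZero K)
  ShortComplex.homologyMapIso ((toChain K).isoSc' 1 0 0 (by simp) (by simp)) ≪≫
    (asIso (ShortComplex.homologyMap (toChainScZero K))).symm ≪≫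
    (ShortComplex.homologyMapIso (K.isoSc' (-1) 0 1 (by simp) (by simp))).symm

/-- homology of `toChain K` when `K¹ = 0` -/
noncomputable def toChainHomologyIso (K : CochainComplex C ℤ) (h : IsZero (K.X 1)) :
    ∀ n : ℕ, (toChain K).homology n ≅ K.homology (-(n : ℤ))
  | 0 => toChainHomologyIsoZero K h
  | n + 1 => toChainHomologyIsoSucc K n

lemma toChain_exactAt_succ (K : CochainComplex C ℤ) (n : ℕ)
    (h : K.ExactAt (-((n + 1 : ℕ) : ℤ))) : (toChain K).ExactAt (n + 1) := by
  rw [HomologicalComplex.exactAt_iff_isZero_homology] at h ⊢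
  exact h.of_iso (toChainHomologyIsoSucc K n)

variable {D : Type u} [Category.{v} D] [Abelian D] (F : C ⥤ D) [F.Additive]

/-- `toChain` commutes with additive functors -/
noncomputable def toChainMapIso (K : CochainComplex C ℤ) :
    (F.mapHomologicalComplex (ComplexShape.down ℕ)).obj (toChain K) ≅
      toChain ((F.mapHomologicalComplex (ComplexShape.up ℤ)).obj K) :=
  HomologicalComplex.Hom.isoOfComponents (fun _ => Iso.refl _) (by
    intro i j hij
    have hij' : j + 1 = i := hij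
    subst hij'
    change 𝟙 _ ≫ (toChain ((F.mapHomologicalComplex (ComplexShape.up ℤ)).obj K)).d (j + 1) j =
      F.map ((toChain K).d (j + 1) j) ≫ 𝟙 _
    rw [Category.id_comp, Category.comp_id, toChain_d, toChain_d]
    rfl)

end Chain

end Groth.Agent.Lib.Helper11.Kz
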