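import Mathlib
import Groth.Agent.Lib.Helper11.KzChain
import Groth.Prelude.Def_IntMult

set_option autoImplicit false
universe u v
open CategoryTheory CategoryTheory.Limits CochainComplex MonoidalCategory
open Groth.Agent.Lib.Helper28.Koszul CohIII

namespace Groth.Agent.Lib.Helper11.Kz

section Koszul

variable {A : Type u} [CommRing A]

theorem projective_X (M : ModuleCat.{u} A) [Module.Projective A M] : ∀ (l : List A) (n : ℤ),
    Module.Projective A ((koszulCx M l).X n)
  | [], n => by
    by_cases h : n = 0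
    · subst h
      exact Module.Projective.of_equiv
        (HomologicalComplex.singleObjXSelf (ComplexShape.up ℤ) 0 M).symm.toLinearEquiv
    · have hs : Subsingleton ((koszulCx M []).X n) := ModuleCat.subsingleton_of_isZero
        (HomologicalComplex.isZero_single_obj_X (ComplexShape.up ℤ) 0 M n h)
      infer_instance
  | f :: l, n => by
    have h1 := projective_X M l (n + 1)
    have h2 := projective_X M l n
    let φ := f • 𝟙 (koszulCx M l)
    let s : ((koszulCx M l).X (n + 1) × (koszulCx M l).X n) →ₗ[A] (mappingCone φ).X n :=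
      (coneInl φ n).coprod (coneInr φ n)
    let i : (mappingCone φ).X n →ₗ[A] ((koszulCx M l).X (n + 1) × (koszulCx M l).X n) :=
      (coneFst φ n).prod (coneSnd φ n)
    refine Module.Projective.of_split i s ?_
    ext v
    show (coneInl φ n) _ + (coneInr φ n) _ = v
    exact coneInl_fst_add_coneInr_snd φ n v

/-- The Koszul complex of a Koszul-regular sequence is a projective resolution of `A/(l)`. -/
theorem exists_koszulResolution (l : List A)
    (h : ∀ i : ℤ, i ≠ 0 → IsZero ((koszulCx (ModuleCat.of A A) l).homology i)) :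
    ∃ P : ProjectiveResolution (ModuleCat.of A (A ⧸ Ideal.ofList l)),
      P.complex = toChain (koszulCx (ModuleCat.of A A) l) := by
  set K := koszulCx (ModuleCat.of A A) l with hK
  obtain ⟨e, hsub, hrange⟩ : ∃ e : A ≃ₗ[A] K.X 0,
      (∀ n : ℤ, 0 < n → Subsingleton (K.X n)) ∧
      Submodule.map e.toLinearMap (Ideal.ofList l • (⊤ : Submodule A A)) =
        LinearMap.range (K.d (-1) 0).hom := exists_equiv_X_zero A l
  have htop : Ideal.ofList l • (⊤ : Submodule A A) = Ideal.ofList l := by
    rw [smul_eq_mul, Ideal.mul_top]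
  rw [htop] at hrange
  let π₀ : (toChain K).X 0 ⟶ ModuleCat.of A (A ⧸ Ideal.ofList l) :=
    ModuleCat.ofHom ((Submodule.mkQ (Ideal.ofList l)) ∘ₗ e.symm.toLinearMap)
  have hmem : ∀ y : K.X 0, (Submodule.mkQ (Ideal.ofList l)) (e.symm y) = 0 ↔
      y ∈ LinearMap.range (K.d (-1) 0).hom := by
    intro y
    rw [Submodule.mkQ_apply, Submodule.Quotient.mk_eq_zero, ← hrange]
    constructor
    · intro hy
      exact ⟨e.symm y, hy, e.apply_symm_apply y⟩
    · rintro ⟨a, ha, rfl⟩
      rw [LinearEquiv.coe_coe, e.symm_apply_apply]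
      exact ha
  have hd : (toChain K).d 1 0 = K.d (-1) 0 := toChain_d K 0
  have w : (toChain K).d 1 0 ≫ π₀ = 0 := by
    ext x
    rw [hd]
    exact (hmem _).2 ⟨x, rfl⟩
  have h₀ : (ShortComplex.mk _ _ w).Exact := by
    rw [ShortComplex.moduleCat_exact_iff]
    intro y hy
    obtain ⟨x, hx⟩ := (hmem y).1 hy
    refine ⟨x, ?_⟩
    change ((toChain K).d 1 0) x = y
    rw [hd]
    exact hx
  have hπ : Epi π₀ := by
    rw [ModuleCat.epi_iff_surjective]
    exact (Submodule.mkQ_surjective _).comp e.symm.surjective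
  have hproj : ∀ n, Projective ((toChain K).X n) := by
    intro n
    have : Module.Projective A ((koszulCx (ModuleCat.of A A) l).X (-(n : ℤ))) :=
      projective_X (ModuleCat.of A A) l _
    exact ModuleCat.projective_of_categoryTheory_projective (K.X (-(n : ℤ)))
  refine ⟨Groth.Agent.Lib.Helper10.projectiveResolutionOfExact _ (toChain K) hproj π₀ w h₀ hπ
    (fun n => toChain_exactAt_succ K n ?_), rfl⟩
  rw [HomologicalComplex.exactAt_iff_isZero_homology]
  exact h _ (by push_cast; omega)

theorem koszul_eq : ∀ l : List A, Koszul.koszul A l = koszulCx (ModuleCat.of A A) l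
  | [] => rfl
  | f :: l => by
    show mappingCone (f • 𝟙 (Koszul.koszul A l)) = mappingCone (f • 𝟙 (koszulCx _ l))
    rw [koszul_eq l]

/-- homology of the tensored (chain) Koszul complex is Koszul homology with coefficients -/
theorem nonempty_homology_tensor_equiv (l : List A) (M : Type u) [AddCommGroup M] [Module A M]
    (n : ℕ) :
    Nonempty ((((tensorRight (ModuleCat.of A M)).mapHomologicalComplex (ComplexShape.down ℕ)).obj
      (toChain (koszulCx (ModuleCat.of A A) l))).homology n ≃ₗ[A] KH l M (-(n : ℤ))) := by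
  set K := koszulCx (ModuleCat.of A A) l with hK
  let F := tensorRight (ModuleCat.of A M)
  let e1 := (HomologicalComplex.homologyFunctor _ _ n).mapIso (toChainMapIso F K)
  have hz : IsZero (((F.mapHomologicalComplex (ComplexShape.up ℤ)).obj K).X 1) := by
    have h1 : Subsingleton (K.X 1) := subsingleton_X (ModuleCat.of A A) l 1 (Or.inl one_pos)
    have h2 : IsZero (K.X 1) := ModuleCat.isZero_of_subsingleton _
    exact F.map_isZero h2
  let e2 := toChainHomologyIso ((F.mapHomologicalComplex (ComplexShape.up ℤ)).obj K) hz n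
  let e3 := (HomologicalComplex.homologyFunctor _ _ (-(n : ℤ))).mapIso
    (compareIso (ModuleCat.of A M) l)
  have hKK : DRing.tensorCx (Koszul.koszul A l) (ModuleCat.of A M) =
      (F.mapHomologicalComplex (ComplexShape.up ℤ)).obj K := by
    rw [hK, ← koszul_eq]
    rfl
  rw [hKK] at e3
  exact ⟨(e1 ≪≫ e2 ≪≫ e3).toLinearEquiv⟩

/-- `Tor'_n(A/(l), M)` (resolving the first variable) is Koszul homology, for Koszul-regular `l`. -/
theorem nonempty_tor'_equiv (l : List A)
    (h : ∀ i : ℤ, i ≠ 0 → IsZero ((koszulCx (ModuleCat.of A A) l).homology i))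
    (M : Type u) [AddCommGroup M] [Module A M] (n : ℕ) :
    Nonempty ((((Tor' (ModuleCat.{u} A) n).obj (ModuleCat.of A (A ⧸ Ideal.ofList l))).obj
      (ModuleCat.of A M)) ≃ₗ[A] KH l M (-(n : ℤ))) := by
  obtain ⟨P, hP⟩ := exists_koszulResolution l h
  obtain ⟨e2⟩ := nonempty_homology_tensor_equiv l M n
  let e1 := P.isoLeftDerivedObj (tensorRight (ModuleCat.of A M)) n
  rw [← hP] at e2
  exact ⟨e1.toLinearEquiv ≪≫ₗ e2⟩

/-- `Tor_n(A/(l), M)` (Mathlib's `Tor`) is Koszul homology, for Koszul-regular `l`. -/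
theorem nonempty_tor_equiv (l : List A)
    (h : ∀ i : ℤ, i ≠ 0 → IsZero ((koszulCx (ModuleCat.of A A) l).homology i))
    (M : Type u) [AddCommGroup M] [Module A M] (n : ℕ) :
    Nonempty ((((Tor (ModuleCat.{u} A) n).obj (ModuleCat.of A (A ⧸ Ideal.ofList l))).obj
      (ModuleCat.of A M)) ≃ₗ[A] KH l M (-(n : ℤ))) := by
  obtain ⟨P, hP⟩ := exists_koszulResolution l h
  obtain ⟨e2⟩ := nonempty_homology_tensor_equiv l M n
  obtain ⟨e1⟩ := Groth.Agent.Lib.Helper2.TorBalance.nonempty_tor_iso_homology P
    (ModuleCat.of A M) n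
  rw [← hP] at e2
  exact ⟨e1.toLinearEquiv ≪≫ₗ e2⟩

/-- weakly regular sequences are Koszul-regular -/
theorem koszulRegular_of_isWeaklyRegular (l : List A)
    (h : RingTheory.Sequence.IsWeaklyRegular A l) :
    ∀ i : ℤ, i ≠ 0 → IsZero ((koszulCx (ModuleCat.of A A) l).homology i) :=
  fun i hi => isZero_homology_koszulCx_of_isWeaklyRegular l A h i hi

theorem alt_eq_finsum_nat (f : ℤ → ℤ) (hf : ∀ i, 0 < i → f i = 0) :
    alt f = ∑ᶠ n : ℕ, (-1 : ℤ) ^ n * f (-(n : ℤ)) := by
  unfold alt
  have hinj : Function.Injective (fun n : ℕ => -(n : ℤ)) := by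
    intro a b h
    simpa using h
  rw [← finsum_mem_univ, ← finsum_mem_inter_support_eq _ (Set.range fun n : ℕ => -(n : ℤ))
    Set.univ, finsum_mem_range hinj]
  · refine finsum_congr fun n => ?_
    rw [Int.negOnePow_neg, Int.coe_negOnePow_natCast]
  · ext i
    simp only [Set.mem_inter_iff, Set.mem_range, Function.mem_support, ne_eq, Set.mem_univ,
      true_and, and_iff_right_iff_imp]
    intro hi
    have : ¬ 0 < i := fun h => hi (by rw [hf i h, mul_zero])
    exact ⟨i.natAbs, by omega⟩

/-- the Tor Euler characteristic against `A/(l)` is the Koszul Euler characteristic -/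
theorem intMult_chi_eq (l : List A)
    (h : ∀ i : ℤ, i ≠ 0 → Limits.IsZero ((CohIII.koszulCx (ModuleCat.of A A) l).homology i))
    (M : Type u) [AddCommGroup M] [Module A M] :
    IntMult.chi A (A ⧸ Ideal.ofList l) M = chi l M := by
  unfold IntMult.chi chi chiC
  rw [alt_eq_finsum_nat]
  · refine finsum_congr fun n => ?_
    obtain ⟨e⟩ := nonempty_tor_equiv l h M n
    unfold hl
    rw [e.length_eq]
  · intro i hi
    unfold hl
    have : Subsingleton (KH l M i) := KH_subsingleton l M i (Or.inl hi)
    rw [Module.length_eq_zero]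
    rfl

end Koszul

end Groth.Agent.Lib.Helper11.Kz
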