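import Mathlib
import Groth.Agent.Lib.Helper11.KzRes

set_option autoImplicit false
universe u v
open CategoryTheory CategoryTheory.Limits CochainComplex MonoidalCategory
open Groth.Agent.Lib.Helper28.Koszul CohIII

namespace Groth.Agent.Lib.Helper11.Kz

section Bot

variable {A : Type u} [CommRing A]

/-- elements killed by all members of the list -/
def killedBy (l : List A) (M : Type u) [AddCommGroup M] [Module A M] : Submodule A M where
  carrier := {m | ∀ a ∈ l, a • m = 0}
  add_mem' := fun {x y} hx hy a ha => by rw [smul_add, hx a ha, hy a ha, add_zero]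
  zero_mem' := fun a _ => smul_zero a
  smul_mem' := fun c x hx a ha => by rw [smul_comm, hx a ha, smul_zero]

variable (l : List A) (M : Type u) [AddCommGroup M] [Module A M]

lemma mem_killedBy {m : M} : m ∈ killedBy l M ↔ ∀ a ∈ l, a • m = 0 := Iff.rfl

lemma smul_eq_zero_of_mem_killedBy {m : M} (hm : m ∈ killedBy l M) {a : A}
    (ha : a ∈ Ideal.ofList l) : a • m = 0 := by
  unfold Ideal.ofList at ha
  induction ha using Submodule.span_induction with
  | mem x hx => exact hm x hx
  | zero => exact zero_smul _ _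
  | add x y _ _ hx hy => rw [add_smul, hx, hy, add_zero]
  | smul c x _ hx => rw [smul_eq_mul, mul_smul, hx, smul_zero]

/-- the map `A/(l) → M`, `1 ↦ m` -/
noncomputable def killedByHom (m : killedBy l M) : (A ⧸ Ideal.ofList l) →ₗ[A] M :=
  Submodule.liftQ (Ideal.ofList l) (LinearMap.toSpanSingleton A M m.1) (by
    intro a ha
    rw [LinearMap.mem_ker, LinearMap.toSpanSingleton_apply]
    exact smul_eq_zero_of_mem_killedBy l M m.2 ha)

lemma killedByHom_mk (m : killedBy l M) (a : A) :
    killedByHom l M m (Submodule.Quotient.mk a) = a • m.1 := by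
  unfold killedByHom
  rw [Submodule.liftQ_apply, LinearMap.toSpanSingleton_apply]

/-- `{m | (l) m = 0} ≃ Hom(A/(l), M)` -/
noncomputable def killedByEquivHom :
    killedBy l M ≃ₗ[A] ((A ⧸ Ideal.ofList l) →ₗ[A] M) where
  toFun m := killedByHom l M m
  map_add' m m' := by
    refine LinearMap.ext fun q => ?_
    obtain ⟨a, rfl⟩ := Submodule.Quotient.mk_surjective _ q
    rw [LinearMap.add_apply, killedByHom_mk, killedByHom_mk, killedByHom_mk, Submodule.coe_add,
      smul_add]
  map_smul' c m := by
    refine LinearMap.ext fun q => ?_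
    obtain ⟨a, rfl⟩ := Submodule.Quotient.mk_surjective _ q
    rw [LinearMap.smul_apply, killedByHom_mk, killedByHom_mk, Submodule.coe_smul, smul_comm,
      RingHom.id_apply]
  invFun φ := ⟨φ (Submodule.Quotient.mk 1), fun a ha => by
    rw [← map_smul, ← Submodule.Quotient.mk_smul, smul_eq_mul, mul_one]
    have : (Submodule.Quotient.mk a : A ⧸ Ideal.ofList l) = 0 := by
      rw [Submodule.Quotient.mk_eq_zero]
      exact Ideal.subset_span ha
    rw [this, map_zero]⟩
  left_inv m := by
    apply Subtype.ext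
    show killedByHom l M m (Submodule.Quotient.mk 1) = m.1
    rw [killedByHom_mk, one_smul]
  right_inv φ := by
    refine LinearMap.ext fun q => ?_
    obtain ⟨a, rfl⟩ := Submodule.Quotient.mk_surjective _ q
    show killedByHom l M _ (Submodule.Quotient.mk a) = _
    rw [killedByHom_mk]
    show a • φ (Submodule.Quotient.mk 1) = _
    rw [← map_smul, ← Submodule.Quotient.mk_smul, smul_eq_mul, mul_one]

/-- if `K^{n-1} = 0` then `H^n(K) = ker d^n` -/
noncomputable def homologyBotEquiv (K : CochainComplex (ModuleCat.{u} A) ℤ) (n : ℤ)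
    (h : Subsingleton (K.X (n - 1))) :
    K.homology n ≃ₗ[A] LinearMap.ker (K.d n (n + 1)).hom :=
  let S := K.sc' (n - 1) n (n + 1)
  let e1 : K.homology n ≅ S.homology :=
    ShortComplex.homologyMapIso (K.isoSc' (n - 1) n (n + 1) (by simp) (by simp))
  let e2 := S.moduleCatHomologyIso
  have hbot : LinearMap.range S.moduleCatToCycles = ⊥ := by
    rw [LinearMap.range_eq_bot]
    refine LinearMap.ext fun x => ?_
    have hx : x = 0 := h.elim _ _
    rw [hx, map_zero, map_zero]
  (e1 ≪≫ e2).toLinearEquiv ≪≫ₗ Submodule.quotEquivOfEqBot _ hbot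

/-- in the lowest degree of the cone, `coneFst'` is an equivalence when `L^n = 0`. -/
noncomputable def coneFstEquiv {K L : CochainComplex (ModuleCat.{u} A) ℤ} (φ : K ⟶ L)
    (n m : ℤ) (h : n + 1 = m) (h1 : Subsingleton (L.X n)) : (mappingCone φ).X n ≃ₗ[A] K.X m where
  toFun := coneFst' φ n m h
  invFun := coneInl' φ n m h
  map_add' := map_add _
  map_smul' := map_smul _
  left_inv := fun x => by
    refine cone_ext' φ n m h ?_ (Subsingleton.elim _ _)
    rw [coneFst'_coneInl']
  right_inv := fun y => coneFst'_coneInl' φ n m h y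

lemma coneFst'_d' {K L : CochainComplex (ModuleCat.{u} A) ℤ} (φ : K ⟶ L)
    (n m k : ℤ) (h : n + 1 = m) (h' : m + 1 = k) (x : (mappingCone φ).X n) :
    coneFst' φ m k h' ((mappingCone φ).d n m x) = - K.d m k (coneFst' φ n m h x) :=
  congr($(mappingCone.d_fst_v φ n m k h h') x)

lemma killedBy_nil : killedBy ([] : List A) M = ⊤ := by
  ext m
  simp [mem_killedBy]

lemma mem_killedBy_cons {f : A} {m : M} :
    m ∈ killedBy (f :: l) M ↔ f • m = 0 ∧ m ∈ killedBy l M := by
  simp only [mem_killedBy, List.forall_mem_cons]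

/-- the lowest term of the Koszul complex is `M`, and the kernel of the first differential is
the submodule killed by the sequence -/
theorem exists_equiv_X_bot :
    ∀ (fs : List A) (b : ℤ), b = -(fs.length : ℤ) →
      ∃ e : M ≃ₗ[A] (koszulCx (ModuleCat.of A M) fs).X b,
        Submodule.comap e.toLinearMap
          (LinearMap.ker ((koszulCx (ModuleCat.of A M) fs).d b (b + 1)).hom) = killedBy fs M := by
  intro fs
  induction fs with
  | nil =>
    intro b hb
    simp only [List.length_nil, Nat.cast_zero, neg_zero] at hb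
    subst hb
    refine ⟨(HomologicalComplex.singleObjXSelf (ComplexShape.up ℤ) 0
      (ModuleCat.of A M)).symm.toLinearEquiv, ?_⟩
    have : (koszulCx (ModuleCat.of A M) []).d 0 (0 + 1) = 0 := rfl
    rw [this, killedBy_nil, ModuleCat.hom_zero, LinearMap.ker_zero, Submodule.comap_top]
  | cons f fs ih =>
    intro b hb
    set K := koszulCx (ModuleCat.of A M) fs with hK
    obtain ⟨e, he⟩ : ∃ e : M ≃ₗ[A] K.X (b + 1),
        Submodule.comap e.toLinearMap
          (LinearMap.ker (K.d (b + 1) (b + 1 + 1)).hom) = killedBy fs M := ih (b + 1) (by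
      simp only [List.length_cons, Nat.cast_add, Nat.cast_one] at hb
      omega)
    have h1 : Subsingleton (K.X b) := subsingleton_X (ModuleCat.of A M) fs b (Or.inr (by
      simp only [List.length_cons, Nat.cast_add, Nat.cast_one] at hb
      omega))
    let φ := f • 𝟙 K
    refine ⟨e ≪≫ₗ (coneFstEquiv φ b (b + 1) rfl h1).symm, ?_⟩
    ext x
    rw [mem_killedBy_cons, ← he]
    simp only [Submodule.mem_comap, LinearMap.mem_ker, LinearEquiv.coe_coe]
    set y := (coneFstEquiv φ b (b + 1) rfl h1).symm (e x) with hy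
    have hy1 : coneFst' φ b (b + 1) rfl y = e x :=
      (coneFstEquiv φ b (b + 1) rfl h1).apply_symm_apply (e x)
    have hy2 : coneSnd φ b y = 0 := Subsingleton.elim _ _
    have hd1 := coneFst'_d' φ b (b + 1) (b + 1 + 1) rfl rfl y
    have hd2 := coneSnd_d' φ b (b + 1) rfl y
    rw [hy1] at hd1 hd2
    rw [hy2, map_zero, add_zero, smul_id_f_apply] at hd2
    constructor
    · intro h
      change (mappingCone φ).d b (b + 1) y = 0 at h
      rw [h, map_zero] at hd1 hd2
      refine ⟨?_, ?_⟩
      · apply e.injective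
        rw [map_smul, ← hd2, map_zero]
      · exact neg_eq_zero.1 hd1.symm
    · rintro ⟨h2, h3⟩
      change (mappingCone φ).d b (b + 1) y = 0
      refine cone_ext' φ (b + 1) (b + 1 + 1) rfl ?_ ?_
      · rw [hd1, map_zero]
        change - (K.d (b + 1) (b + 1 + 1)) (e x) = 0
        rw [neg_eq_zero]
        exact h3
      · rw [hd2, map_zero, ← map_smul, h2, map_zero]

/-- the lowest Koszul homology is `Hom(A/(fs), M)` -/
theorem nonempty_KH_bot_equiv (fs : List A) :
    Nonempty (KH fs M (-(fs.length : ℤ)) ≃ₗ[A] ((A ⧸ Ideal.ofList fs) →ₗ[A] M)) := by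
  obtain ⟨e, he⟩ := exists_equiv_X_bot M fs _ rfl
  have h1 : Subsingleton ((koszulCx (ModuleCat.of A M) fs).X (-(fs.length : ℤ) - 1)) :=
    subsingleton_X (ModuleCat.of A M) fs _ (Or.inr (by omega))
  refine ⟨homologyBotEquiv _ _ h1 ≪≫ₗ ?_ ≪≫ₗ killedByEquivHom fs M⟩
  rw [← he]
  exact (e.ofSubmodule' _).symm

end Bot

end Groth.Agent.Lib.Helper11.Kz
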