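import Mathlib
import Groth.Agent.Lib.Helper11.KzBot

set_option autoImplicit false
universe u v
open CategoryTheory CategoryTheory.Limits CochainComplex MonoidalCategory
open Groth.Agent.Lib.Helper28.Koszul CohIII
open scoped Pointwise

namespace Groth.Agent.Lib.Helper11.Kz

section Low

variable {A : Type u} [CommRing A]

lemma map_mem_smul_top {X Y : Type u} [AddCommGroup X] [AddCommGroup Y] [Module A X] [Module A Y]
    (f : X →ₗ[A] Y) (I : Ideal A) {x : X} (hx : x ∈ I • (⊤ : Submodule A X)) :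
    f x ∈ I • (⊤ : Submodule A Y) := by
  refine Submodule.smul_induction_on hx ?_ ?_
  · intro r hr n _
    rw [map_smul]
    exact Submodule.smul_mem_smul hr trivial
  · intro x y hx hy
    rw [map_add]
    exact add_mem hx hy

/-- the structure of the Koszul complex `K(l; A)` in degrees `-1, 0` -/
structure LowData (l : List A) where
  u : (koszulCx (ModuleCat.of A A) l).X 0
  ρ : (koszulCx (ModuleCat.of A A) l).X 0 →ₗ[A] A
  ι : (Fin l.length → A) →ₗ[A] (koszulCx (ModuleCat.of A A) l).X (-1)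
  π : (koszulCx (ModuleCat.of A A) l).X (-1) →ₗ[A] (Fin l.length → A)
  ρ_u : ρ u = 1
  π_ι : ∀ c, π (ι c) = c
  d_ι : ∀ c, (koszulCx (ModuleCat.of A A) l).d (-1) 0 (ι c) = (∑ i, c i * l.get i) • u
  range_le : LinearMap.range ((koszulCx (ModuleCat.of A A) l).d (-2) (-1)).hom ≤
    Ideal.ofList l • ⊤

theorem range_d_le (l : List A) :
    LinearMap.range ((koszulCx (ModuleCat.of A A) l).d (-1) 0).hom ≤
      Ideal.ofList l • (⊤ : Submodule A ((koszulCx (ModuleCat.of A A) l).X 0)) := by
  obtain ⟨e, -, hrange⟩ := exists_equiv_X_zero A l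
  rw [← hrange]
  rintro _ ⟨x, hx, rfl⟩
  exact map_mem_smul_top e.toLinearMap _ hx

theorem nonempty_lowData_nil : Nonempty (LowData ([] : List A)) := by
  have hs : Subsingleton ((koszulCx (ModuleCat.of A A) []).X (-1)) :=
    ModuleCat.subsingleton_of_isZero
      (HomologicalComplex.isZero_single_obj_X (ComplexShape.up ℤ) 0 _ (-1) (by norm_num))
  let e : (koszulCx (ModuleCat.of A A) []).X 0 ≃ₗ[A] A :=
    (HomologicalComplex.singleObjXSelf (ComplexShape.up ℤ) 0 (ModuleCat.of A A)).toLinearEquiv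
  refine ⟨{ u := e.symm 1, ρ := e.toLinearMap, ι := 0, π := 0, ρ_u := e.apply_symm_apply 1
            π_ι := fun c => funext fun i => i.elim0, d_ι := fun c => ?_, range_le := ?_ }⟩
  · have h0 : (∑ i, c i * ([] : List A).get i) = 0 := Finset.sum_eq_zero (fun i _ => Fin.elim0 i)
    rw [h0, zero_smul, LinearMap.zero_apply, map_zero]
  · rintro x -
    rw [Subsingleton.elim x 0]
    exact zero_mem _

theorem nonempty_lowData_cons (a : A) (l : List A) (D : LowData l) :
    Nonempty (LowData (a :: l)) := by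
  set K := koszulCx (ModuleCat.of A A) l with hK
  let φ : K ⟶ K := a • 𝟙 K
  have hX1 : Subsingleton (K.X 1) := subsingleton_X (ModuleCat.of A A) l 1 (Or.inl one_pos)
  let u' : (mappingCone φ).X 0 := coneInr φ 0 D.u
  let ρ' : (mappingCone φ).X 0 →ₗ[A] A := D.ρ ∘ₗ coneSnd φ 0
  let ι' : (Fin (l.length + 1) → A) →ₗ[A] (mappingCone φ).X (-1) :=
    (coneInl' φ (-1) 0 (by norm_num)) ∘ₗ (LinearMap.toSpanSingleton A _ D.u) ∘ₗ
        (LinearMap.proj (0 : Fin (l.length + 1)))
      + (coneInr φ (-1)) ∘ₗ D.ι ∘ₗ (LinearMap.funLeft A A Fin.succ)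
  let π' : (mappingCone φ).X (-1) →ₗ[A] (Fin (l.length + 1) → A) :=
    (Fin.consLinearEquiv A (fun _ : Fin (l.length + 1) => A)).toLinearMap ∘ₗ
      ((D.ρ ∘ₗ coneFst' φ (-1) 0 (by norm_num)).prod (D.π ∘ₗ coneSnd φ (-1)))
  have hι1 : ∀ c, coneFst' φ (-1) 0 (by norm_num) (ι' c) = c 0 • D.u := by
    intro c
    simp only [ι', LinearMap.add_apply, LinearMap.comp_apply, map_add, coneFst'_coneInl',
      coneFst'_coneInr, add_zero, LinearMap.proj_apply, LinearMap.toSpanSingleton_apply]
  have hι2 : ∀ c, coneSnd φ (-1) (ι' c) = D.ι (fun i => c i.succ) := by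
    intro c
    simp only [ι', LinearMap.add_apply, LinearMap.comp_apply, map_add, coneSnd_coneInl',
      coneSnd_coneInr, zero_add]
    rfl
  refine ⟨{ u := u', ρ := ρ', ι := ι', π := π', ρ_u := ?_, π_ι := ?_, d_ι := ?_, range_le := ?_ }⟩
  · show D.ρ (coneSnd φ 0 (coneInr φ 0 D.u)) = 1
    rw [coneSnd_coneInr, D.ρ_u]
  · intro c
    show Fin.cons (D.ρ (coneFst' φ (-1) 0 _ (ι' c))) (D.π (coneSnd φ (-1) (ι' c))) = c
    rw [hι1, hι2, D.π_ι, map_smul, D.ρ_u, smul_eq_mul, mul_one]
    exact Fin.cons_self_tail c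
  · intro c
    show (mappingCone φ).d (-1) 0 (ι' c) = (∑ i, c i * (a :: l).get i) • u'
    refine cone_ext' φ 0 1 rfl (Subsingleton.elim _ _) ?_
    rw [coneSnd_d' φ (-1) 0 (by norm_num), hι1, hι2, D.d_ι, smul_id_f_apply, map_smul,
      coneSnd_coneInr]
    show _ = (∑ i : Fin (l.length + 1), c i * (a :: l).get i) • D.u
    rw [Fin.sum_univ_succ, add_smul, mul_smul]
    congr 1
    · rw [smul_comm]
      rfl
  · rintro _ ⟨z, rfl⟩
    set y := (mappingCone φ).d (-2) (-1) z with hy
    have h1 : coneFst' φ (-1) 0 (by norm_num) y =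
        - K.d (-1) 0 (coneFst' φ (-2) (-1) (by norm_num) z) :=
      coneFst'_d' φ (-2) (-1) 0 (by norm_num) (by norm_num) z
    have h2 : coneSnd φ (-1) y = φ.f (-1) (coneFst' φ (-2) (-1) (by norm_num) z) +
        K.d (-2) (-1) (coneSnd φ (-2) z) := coneSnd_d' φ (-2) (-1) (by norm_num) z
    rw [smul_id_f_apply] at h2
    have hle : Ideal.ofList l ≤ Ideal.ofList (a :: l) := by
      rw [Ideal.ofList_cons]
      exact le_sup_right
    have ha : a ∈ Ideal.ofList (a :: l) := by
      rw [Ideal.ofList_cons]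
      exact Ideal.mem_sup_left (Ideal.mem_span_singleton_self a)
    have m1 : coneFst' φ (-1) 0 (by norm_num) y ∈
        Ideal.ofList (a :: l) • (⊤ : Submodule A (K.X 0)) := by
      rw [h1]
      refine neg_mem ?_
      exact Submodule.smul_mono_left hle (range_d_le l ⟨_, rfl⟩)
    have m2 : coneSnd φ (-1) y ∈ Ideal.ofList (a :: l) • (⊤ : Submodule A (K.X (-1))) := by
      rw [h2]
      refine add_mem (Submodule.smul_mem_smul ha trivial) ?_
      exact Submodule.smul_mono_left hle (D.range_le ⟨_, rfl⟩)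
    change y ∈ _
    rw [← coneInl'_fst_add_coneInr_snd φ (-1) 0 (by norm_num) y]
    exact add_mem (map_mem_smul_top _ _ m1) (map_mem_smul_top _ _ m2)

theorem nonempty_lowData : ∀ l : List A, Nonempty (LowData l)
  | [] => nonempty_lowData_nil
  | a :: l => by
    obtain ⟨D⟩ := nonempty_lowData l
    exact nonempty_lowData_cons a l D

/-- if `H^{-1}` of the Koszul complex vanishes, every relation among the elements of the sequence
has coefficients in the ideal they generate -/
theorem coeff_mem_of_relation (l : List A)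
    (hex : IsZero ((koszulCx (ModuleCat.of A A) l).homology (-1)))
    (c : Fin l.length → A) (hc : ∑ i, c i * l.get i = 0) : ∀ i, c i ∈ Ideal.ofList l := by
  obtain ⟨D⟩ := nonempty_lowData l
  set K := koszulCx (ModuleCat.of A A) l with hK
  have hd : K.d (-1) 0 (D.ι c) = 0 := by
    rw [D.d_ι, hc, zero_smul]
  have hE : K.ExactAt (-1) := (HomologicalComplex.exactAt_iff_isZero_homology _ _).2 hex
  rw [HomologicalComplex.exactAt_iff' K (-2) (-1) 0 (by simp) (by simp),
    ShortComplex.moduleCat_exact_iff] at hE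
  obtain ⟨z, hz⟩ := hE (D.ι c) hd
  have hy : D.ι c ∈ Ideal.ofList l • (⊤ : Submodule A (K.X (-1))) := D.range_le ⟨z, hz⟩
  have hc' : c ∈ Ideal.ofList l • (⊤ : Submodule A (Fin l.length → A)) := by
    have := map_mem_smul_top D.π _ hy
    rwa [D.π_ι] at this
  intro i
  have := map_mem_smul_top (LinearMap.proj i : (Fin l.length → A) →ₗ[A] A) _ hc'
  rwa [smul_eq_mul, Ideal.mul_top] at this

theorem coeff_mem_of_relation_ofFn {p : ℕ} (x : Fin p → A)
    (hex : IsZero ((koszulCx (ModuleCat.of A A) (List.ofFn x)).homology (-1)))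
    (c : Fin p → A) (hc : ∑ i, c i * x i = 0) : ∀ i, c i ∈ Ideal.span (Set.range x) := by
  have h : (List.ofFn x).length = p := List.length_ofFn
  have hI : Ideal.ofList (List.ofFn x) = Ideal.span (Set.range x) := by
    unfold Ideal.ofList
    congr 1
    ext a
    simp [List.mem_ofFn]
  have key := coeff_mem_of_relation (List.ofFn x) hex (fun i => c (Fin.cast h i)) (by
    rw [← hc]
    refine Fintype.sum_equiv (finCongr h) _ _ (fun i => ?_)
    rw [List.get_ofFn]
    rfl)
  intro i
  have := key (Fin.cast h.symm i)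
  rw [hI] at this
  simpa using this

end Low

end Groth.Agent.Lib.Helper11.Kz
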