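import Mathlib
import Groth.Agent.Lib.Helper11.KzLow

set_option autoImplicit false
universe u v
open CategoryTheory CategoryTheory.Limits CochainComplex MonoidalCategory
open Groth.Agent.Lib.Helper28.Koszul CohIII
open scoped Pointwise

namespace Groth.Agent.Lib.Helper11.Kz

section Cot

variable {A : Type u} [CommRing A]

/-- for an `H₁`-regular sequence generating `I`, `I/I²` is free over `A/I` on the classes of the
generators -/
theorem exists_cotangent_basis (I : Ideal A) {p : ℕ} (x : Fin p → A) (hx : ∀ i, x i ∈ I)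
    (hxI : Ideal.span (Set.range x) = I)
    (hex : IsZero ((koszulCx (ModuleCat.of A A) (List.ofFn x)).homology (-1))) :
    ∃ b : Module.Basis (Fin p) (A ⧸ I) I.Cotangent,
      ∀ i, b i = I.toCotangent ⟨x i, hx i⟩ := by
  set v : Fin p → I.Cotangent := fun i => I.toCotangent ⟨x i, hx i⟩ with hv
  have hsm : ∀ (a : A) (m : I.Cotangent), (Ideal.Quotient.mk I a) • m = a • m := fun a m =>
    algebraMap_smul (A ⧸ I) a m
  have li : LinearIndependent (A ⧸ I) v := by
    rw [Fintype.linearIndependent_iff]
    intro g hg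
    choose c hc using fun i => Ideal.Quotient.mk_surjective (g i)
    have h1 : I.toCotangent (∑ i, c i • (⟨x i, hx i⟩ : I)) = 0 := by
      rw [map_sum, ← hg]
      refine Finset.sum_congr rfl fun i _ => ?_
      rw [map_smul, ← hc i, hsm]
    rw [Ideal.toCotangent_eq_zero] at h1
    have h2 : ∑ i, c i * x i ∈ I • Submodule.span A (Set.range x) := by
      have : ((∑ i, c i • (⟨x i, hx i⟩ : I) : I) : A) = ∑ i, c i * x i := by
        rw [AddSubmonoidClass.coe_finsetSum]
        rfl
      rw [this, pow_two] at h1
      have hxI' : Submodule.span A (Set.range x) = I := hxI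
      rw [hxI']
      exact h1
    rw [Submodule.mem_ideal_smul_span_iff_exists_sum] at h2
    obtain ⟨a, ha, hsum⟩ := h2
    rw [Finsupp.sum_fintype _ _ (fun i => zero_smul A (x i))] at hsum
    have h3 : ∑ i, (c i - a i) * x i = 0 := by
      simp only [sub_mul, Finset.sum_sub_distrib]
      rw [sub_eq_zero, ← hsum]
      rfl
    have h4 := coeff_mem_of_relation_ofFn x hex (fun i => c i - a i) h3
    intro i
    rw [← hc i, Ideal.Quotient.eq_zero_iff_mem]
    have := h4 i
    rw [hxI] at this
    have := add_mem this (ha i)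
    simpa using this
  have hsp : ⊤ ≤ Submodule.span (A ⧸ I) (Set.range v) := by
    intro m _
    obtain ⟨y, rfl⟩ := I.toCotangent_surjective m
    have hy : (y : A) ∈ Ideal.span (Set.range x) := hxI ▸ y.2
    obtain ⟨a, ha⟩ := (Ideal.mem_span_range_iff_exists_fun).1 hy
    have hy' : y = ∑ i, a i • (⟨x i, hx i⟩ : I) := by
      apply Subtype.ext
      rw [AddSubmonoidClass.coe_finsetSum, ← ha]
      rfl
    rw [hy', map_sum]
    refine Submodule.sum_mem _ fun i _ => ?_
    rw [map_smul, ← hsm]
    exact Submodule.smul_mem _ _ (Submodule.subset_span ⟨i, rfl⟩)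
  refine ⟨Module.Basis.mk li hsp, fun i => ?_⟩
  rw [Module.Basis.mk_apply]

end Cot

end Groth.Agent.Lib.Helper11.Kz
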