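import Mathlib
import Groth.Agent.Lib.Helper16.ExtVanish
import Groth.Agent.Lib.Helper18.HomDim

set_option autoImplicit false
universe u
open CategoryTheory CategoryTheory.Abelian

namespace Groth.Agent.Lib.Helper11.Bass

variable {A : Type u} [CommRing A] [IsLocalRing A] [IsNoetherianRing A]

/-- Bruns–Herzog 3.1.13: if `Ext^{i+1}(A/q, M) = 0` for all primes `q ⊋ p` (and `p ≠ 𝔪`), then
`Ext^i(A/p, M) = 0`. -/
theorem subsingleton_ext_quot_prime (M : ModuleCat.{u} A) [Module.Finite A M] (p : Ideal A)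
    [hp : p.IsPrime] (hpm : p ≠ IsLocalRing.maximalIdeal A) (i : ℕ)
    (h : ∀ q : PrimeSpectrum A, p < q.asIdeal →
      Subsingleton (Ext.{u} (ModuleCat.of A (A ⧸ q.asIdeal)) M (i + 1))) :
    Subsingleton (Ext.{u} (ModuleCat.of A (A ⧸ p)) M i) := by
  have hlt : p < IsLocalRing.maximalIdeal A :=
    lt_of_le_of_ne (IsLocalRing.le_maximalIdeal hp.ne_top) hpm
  obtain ⟨x, hxm, hxp⟩ := SetLike.exists_of_lt hlt
  -- multiplication by x on A/p
  let f : (A ⧸ p) →ₗ[A] (A ⧸ p) := x • LinearMap.id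
  have hf : Function.Injective f := by
    rw [← LinearMap.ker_eq_bot, LinearMap.ker_eq_bot']
    intro y hy
    obtain ⟨y, rfl⟩ := Ideal.Quotient.mk_surjective y
    have hy' : Ideal.Quotient.mk p (x * y) = 0 := by
      rw [map_mul]
      exact hy
    rw [Ideal.Quotient.eq_zero_iff_mem] at hy' ⊢
    exact (hp.mem_or_mem hy').resolve_left hxp
  let N := (A ⧸ p) ⧸ LinearMap.range f
  have hS := Groth.Agent.Lib.Helper16.Depth.shortExact_of_linearMaps f (LinearMap.range f).mkQ hf
    (Submodule.mkQ_surjective _) (LinearMap.exact_map_mkQ_range f)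
  -- Ext^{i+1}(N, M) = 0
  have hN : Subsingleton (Ext.{u} (ModuleCat.of A N) M (i + 1)) := by
    refine Groth.Agent.Lib.Helper16.Depth.subsingleton_ext_of_forall_prime M (i + 1)
      {q | p < q.asIdeal} (fun q hq => h q hq) N ?_
    intro q hq
    rw [Module.mem_support_iff_of_finite] at hq
    have hpq : p ≤ q.asIdeal := by
      intro a ha
      apply hq
      rw [Module.mem_annihilator]
      intro n
      obtain ⟨n, rfl⟩ := Submodule.mkQ_surjective _ n
      obtain ⟨n, rfl⟩ := Ideal.Quotient.mk_surjective n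
      rw [← map_smul]
      have : a • (Ideal.Quotient.mk p n) = 0 := by
        rw [Algebra.smul_def, Ideal.Quotient.algebraMap_eq, ← map_mul,
          Ideal.Quotient.eq_zero_iff_mem]
        exact p.mul_mem_right _ ha
      rw [this, map_zero]
    have hxq : x ∈ q.asIdeal := by
      apply hq
      rw [Module.mem_annihilator]
      intro n
      obtain ⟨n, rfl⟩ := Submodule.mkQ_surjective _ n
      rw [← map_smul]
      exact (Submodule.Quotient.mk_eq_zero _).2 ⟨n, rfl⟩
    exact lt_of_le_of_ne hpq (fun heq => hxp (heq ▸ hxq))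
  -- multiplication by x is surjective on Ext^i(A/p, M)
  have hsurj : ∀ e : Ext.{u} (ModuleCat.of A (A ⧸ p)) M i, ∃ e', x • e' = e := by
    intro e
    obtain ⟨e', he'⟩ := Ext.contravariant_sequence_exact₁ hS M e (add_comm 1 i)
      (Subsingleton.elim _ _)
    refine ⟨e', ?_⟩
    rw [← he']
    have : (ModuleCat.ofHom f : ModuleCat.of A (A ⧸ p) ⟶ ModuleCat.of A (A ⧸ p)) =
        x • 𝟙 (ModuleCat.of A (A ⧸ p)) := rfl
    show x • e' = (Ext.mk₀ (ModuleCat.ofHom f)).comp e' (zero_add i)
    rw [this, Ext.mk₀_smul, Ext.smul_comp, Ext.mk₀_id_comp]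
  -- Nakayama
  have hfin : Module.Finite A (Ext.{u} (ModuleCat.of A (A ⧸ p)) M i) := inferInstance
  have htop : (⊤ : Submodule A (Ext.{u} (ModuleCat.of A (A ⧸ p)) M i)) = ⊥ := by
    refine Submodule.eq_bot_of_le_smul_of_le_jacobson_bot (IsLocalRing.maximalIdeal A) ⊤
      hfin.1 ?_ (IsLocalRing.maximalIdeal_le_jacobson ⊥)
    intro e _
    obtain ⟨e', rfl⟩ := hsurj e
    exact Submodule.smul_mem_smul hxm Submodule.mem_top
  exact (Submodule.subsingleton_iff A).1 (subsingleton_of_bot_eq_top htop.symm)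

/-- If `Ext^i(κ, M) = 0` for all `i ≥ N`, then `Ext^i(A/p, M) = 0` for all primes `p` and all
`i ≥ N`. -/
theorem subsingleton_ext_quot_prime_of_residueField (M : ModuleCat.{u} A) [Module.Finite A M]
    (N : ℕ) (hN : ∀ i, N ≤ i → Subsingleton (Ext.{u}
      (ModuleCat.of A (IsLocalRing.ResidueField A)) M i)) :
    ∀ (p : Ideal A), p.IsPrime → ∀ i, N ≤ i →
      Subsingleton (Ext.{u} (ModuleCat.of A (A ⧸ p)) M i) := by
  intro p
  induction p using IsNoetherian.induction with
  | hgt p ih =>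
    intro hp i hi
    by_cases hpm : p = IsLocalRing.maximalIdeal A
    · subst hpm
      exact hN i hi
    · exact subsingleton_ext_quot_prime M p hpm i fun q hq =>
        ih q.asIdeal hq q.2 (i + 1) (hi.trans (Nat.le_succ i))

/-- Bass: a finite module over a Noetherian local ring with `Ext^i(κ, M) = 0` for `i ≥ N` has
injective dimension `≤ N`. -/
theorem hasInjectiveDimensionLT_of_residueField (M : ModuleCat.{u} A) [Module.Finite A M]
    (N : ℕ) (hN : ∀ i, N ≤ i → Subsingleton (Ext.{u}
      (ModuleCat.of A (IsLocalRing.ResidueField A)) M i)) :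
    HasInjectiveDimensionLT M (N + 1) := by
  refine Groth.Agent.Lib.Helper18.hasInjectiveDimensionLT_of_ext_cyclic A N M fun I => ?_
  refine Groth.Agent.Lib.Helper16.Depth.subsingleton_ext_of_forall_prime M (N + 1) Set.univ
    (fun q _ => subsingleton_ext_quot_prime_of_residueField M N hN q.asIdeal q.2 (N + 1)
      (Nat.le_succ N)) (A ⧸ I) (Set.subset_univ _)

end Groth.Agent.Lib.Helper11.Bass
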