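import Mathlib
import Groth.Prelude.Def_CAlg
import Groth.Agent.Lib.Helper11.Bass
import Groth.Agent.Lib.Helper18.CM1

set_option autoImplicit false
universe u
open CategoryTheory CategoryTheory.Abelian

namespace Groth.Agent.Lib.Helper11.GorCM

variable {A : Type u} [CommRing A] [IsLocalRing A] [IsNoetherianRing A]

/-- sharp form of Bass' criterion -/
theorem hasInjectiveDimensionLT_succ_of_residueField (M : ModuleCat.{u} A) [Module.Finite A M]
    (n : ℕ) (hN : ∀ i, n + 1 ≤ i → Subsingleton (Ext.{u}
      (ModuleCat.of A (IsLocalRing.ResidueField A)) M i)) :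
    HasInjectiveDimensionLT M (n + 1) := by
  refine Groth.Agent.Lib.Helper18.hasInjectiveDimensionLT_of_ext_cyclic A n M fun I => ?_
  exact Groth.Agent.Lib.Helper16.Depth.subsingleton_ext_of_forall_prime M (n + 1) Set.univ
    (fun q _ => Bass.subsingleton_ext_quot_prime_of_residueField M (n + 1) hN q.asIdeal q.2 (n + 1)
      le_rfl) (A ⧸ I) (Set.subset_univ _)

/-- if `depth A = 0`, finite injective dimension of `A` descends to injectivity -/
theorem hasInjectiveDimensionLT_pred (h0 : LocCoh.depth A A = 0) (n : ℕ)
    (hn : HasInjectiveDimensionLT (ModuleCat.of A A) (n + 1 + 1)) :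
    HasInjectiveDimensionLT (ModuleCat.of A A) (n + 1) := by
  rw [Groth.Agent.Lib.Helper18.CM.depth_eq_zero_iff] at h0
  obtain ⟨-, g, hg⟩ := (isAssociatedPrime_iff_exists_injective_linearMap _ _).1 h0
  have hS := Groth.Agent.Lib.Helper16.Depth.shortExact_of_linearMaps g (LinearMap.range g).mkQ hg
    (Submodule.mkQ_surjective _) (LinearMap.exact_map_mkQ_range g)
  refine hasInjectiveDimensionLT_succ_of_residueField (ModuleCat.of A A) n fun i hi => ?_
  rcases Nat.lt_or_ge i (n + 1 + 1) with hlt | hge
  · have hi' : i = n + 1 := by lia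
    subst hi'
    refine Groth.Agent.Lib.Helper16.Depth.ext'_X₁ hS (ModuleCat.of A A) (n + 1) ?_
      (HasInjectiveDimensionLT.subsingleton _ (n + 1 + 1) (n + 1 + 1) le_rfl _)
    exact HasProjectiveDimensionLT.subsingleton (ModuleCat.of A A) 1 (n + 1) (by lia) _
  · exact HasInjectiveDimensionLT.subsingleton _ (n + 1 + 1) i hge _

theorem injective_of_depth_zero (h0 : LocCoh.depth A A = 0) (n : ℕ)
    (hn : HasInjectiveDimensionLT (ModuleCat.of A A) n) :
    HasInjectiveDimensionLT (ModuleCat.of A A) 1 := by
  induction n with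
  | zero => exact hasInjectiveDimensionLT_of_ge _ 0 1 (by lia)
  | succ n ih =>
    cases n with
    | zero => exact hn
    | succ n => exact ih (hasInjectiveDimensionLT_pred h0 n hn)

/-- a self-injective Noetherian local ring has dimension zero -/
theorem ringKrullDim_eq_zero_of_injective
    (hinj : HasInjectiveDimensionLT (ModuleCat.of A A) 1) : ringKrullDim A = 0 := by
  rw [← ringKrullDimZero_iff_ringKrullDim_eq_zero,
    Ring.krullDimLE_zero_iff_forall_minimalPrimes_isMaximal]
  intro p hp
  have hpp : p.IsPrime := hp.1.1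
  by_contra hmax
  have hpm : p ≠ IsLocalRing.maximalIdeal A := fun h => hmax (h ▸ inferInstance)
  have hsub : Subsingleton (Ext.{u} (ModuleCat.of A (A ⧸ p)) (ModuleCat.of A A) 0) :=
    Bass.subsingleton_ext_quot_prime (ModuleCat.of A A) p hpm 0 fun q _ =>
      HasInjectiveDimensionLT.subsingleton _ 1 1 le_rfl _
  have hass : p ∈ associatedPrimes A A := by
    apply Module.associatedPrimes.minimalPrimes_annihilator_subset_associatedPrimes
    have : Module.annihilator A A = ⊥ := by
      rw [eq_bot_iff]
      intro a ha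
      have := Module.mem_annihilator.1 ha 1
      simpa using this
    rw [this]
    exact hp
  obtain ⟨-, g, hg⟩ := (isAssociatedPrime_iff_exists_injective_linearMap _ _).1 hass
  have h0 : ModuleCat.ofHom g = 0 := by
    apply (Ext.mk₀_bijective _ _).1
    exact Subsingleton.elim _ _
  have h1 : g 1 = 0 := by
    have := congr($(h0).hom 1)
    simpa using this
  have h2 : (1 : A ⧸ p) = 0 := hg (by rw [h1, map_zero])
  exact one_ne_zero h2

end Groth.Agent.Lib.Helper11.GorCM
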