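import Mathlib
import Groth.Agent.Lib.Helper16.ExtVanish

set_option autoImplicit false
universe u
open CategoryTheory CategoryTheory.Abelian

namespace Groth.Agent.Lib.Helper11.Rees

variable {A : Type u} [CommRing A] (f : A)

/-- restriction of scalars along `A → A/(f)` -/
noncomputable abbrev res : ModuleCat.{u} (A ⧸ Ideal.span {f}) ⥤ ModuleCat.{u} A :=
  ModuleCat.restrictScalars (Ideal.Quotient.mk (Ideal.span {f}))

/-- restriction of scalars along a quotient map is full -/
theorem res_map_surjective {M N : ModuleCat.{u} (A ⧸ Ideal.span {f})}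
    (h : (res f).obj M ⟶ (res f).obj N) : ∃ g : M ⟶ N, (res f).map g = h := by
  refine ⟨ModuleCat.ofHom
    { toFun := fun x => h.hom x
      map_add' := fun x y => h.hom.map_add x y
      map_smul' := fun b x => ?_ }, ?_⟩
  · obtain ⟨a, rfl⟩ := Ideal.Quotient.mk_surjective b
    exact h.hom.map_smul a x
  · rfl

theorem smul_res_eq_zero (N : ModuleCat.{u} (A ⧸ Ideal.span {f})) (x : (res f).obj N) :
    f • x = 0 := by
  show (Ideal.Quotient.mk (Ideal.span {f}) f) • (show N from x) = 0
  rw [Ideal.Quotient.eq_zero_iff_mem.2 (Ideal.mem_span_singleton_self f), zero_smul]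

/-- the `A`-linear quotient map `A → A/(f)` -/
noncomputable def quotMap :
    A →ₗ[A] (res f).obj (ModuleCat.of (A ⧸ Ideal.span {f}) (A ⧸ Ideal.span {f})) where
  toFun a := Ideal.Quotient.mk (Ideal.span {f}) a
  map_add' := map_add _
  map_smul' a x := by
    show Ideal.Quotient.mk (Ideal.span {f}) (a * x) = _
    rw [map_mul]
    rfl

theorem quotMap_surjective : Function.Surjective (quotMap f) :=
  Ideal.Quotient.mk_surjective

theorem exact_quotMap : Function.Exact (f • (LinearMap.id : A →ₗ[A] A)) (quotMap f) := by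
  intro a
  constructor
  · intro ha
    have : a ∈ Ideal.span {f} := Ideal.Quotient.eq_zero_iff_mem.1 ha
    obtain ⟨c, rfl⟩ := Ideal.mem_span_singleton'.1 this
    exact ⟨c, by simp [mul_comm]⟩
  · rintro ⟨c, rfl⟩
    show Ideal.Quotient.mk (Ideal.span {f}) (f • c) = 0
    rw [Ideal.Quotient.eq_zero_iff_mem]
    exact Ideal.mem_span_singleton'.2 ⟨c, by simp [mul_comm]⟩

variable {f} in
theorem shortExact₀ (hf : IsSMulRegular A f) :
    (ModuleCat.shortComplexOfCompEqZero (f • (LinearMap.id : A →ₗ[A] A)) (quotMap f)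
      (exact_quotMap f).linearMap_comp_eq_zero).ShortExact :=
  Groth.Agent.Lib.Helper16.Depth.shortExact_of_linearMaps _ _
    (fun a b hab => hf (by simpa using hab)) (quotMap_surjective f) (exact_quotMap f)

end Groth.Agent.Lib.Helper11.Rees
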