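import Mathlib
import Groth.Agent.Lib.Helper16.ExtVanish
import Groth.Agent.Lib.Helper11.ReesPre

set_option autoImplicit false
universe u
open CategoryTheory CategoryTheory.Abelian

namespace Groth.Agent.Lib.Helper11.Rees

variable {A : Type u} [CommRing A] {f : A} (hf : IsSMulRegular A f)

/-- the class of `0 → A → A → A/(f) → 0` -/
noncomputable def eps : Ext.{u} ((res f).obj (ModuleCat.of (A ⧸ Ideal.span {f}) (A ⧸ Ideal.span {f})))
    (ModuleCat.of A A) 1 :=
  (shortExact₀ hf).extClass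

/-- the Rees map `Ext_B^i(N, B) → Ext_A^{i+1}(N, A)` -/
noncomputable def rho (N : ModuleCat.{u} (A ⧸ Ideal.span {f})) (i : ℕ) :
    Ext.{u} N (ModuleCat.of (A ⧸ Ideal.span {f}) (A ⧸ Ideal.span {f})) i →+
      Ext.{u} ((res f).obj N) (ModuleCat.of A A) (i + 1) :=
  ((eps hf).postcomp _ rfl).comp ((res f).mapExtAddHom N _ i)

theorem rho_apply (N : ModuleCat.{u} (A ⧸ Ideal.span {f})) (i : ℕ)
    (e : Ext.{u} N (ModuleCat.of (A ⧸ Ideal.span {f}) (A ⧸ Ideal.span {f})) i) :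
    rho hf N i e = (e.mapExactFunctor (res f)).comp (eps hf) rfl := rfl

include hf in
theorem hom_res_eq_zero (N : ModuleCat.{u} (A ⧸ Ideal.span {f}))
    (h : (res f).obj N ⟶ ModuleCat.of A A) : h = 0 := by
  ext x
  apply hf
  show f • h.hom x = f • (0 : A)
  rw [← map_smul, smul_res_eq_zero, map_zero, smul_zero]

theorem smul_ext_res_eq_zero (N : ModuleCat.{u} (A ⧸ Ideal.span {f})) (Y : ModuleCat.{u} A) (i : ℕ)
    (x : Ext.{u} ((res f).obj N) Y i) : f • x = 0 := by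
  have h0 : f • 𝟙 ((res f).obj N) = 0 := by
    ext x
    exact smul_res_eq_zero f N x
  have : f • x = (Ext.mk₀ (f • 𝟙 ((res f).obj N))).comp x (zero_add i) := by
    rw [Ext.mk₀_smul, Ext.smul_comp, Ext.mk₀_id_comp]
  rw [this, h0, Ext.mk₀_zero, Ext.zero_comp]

theorem rho_zero_bijective (N : ModuleCat.{u} (A ⧸ Ideal.span {f})) :
    Function.Bijective (rho hf N 0) := by
  constructor
  · rw [injective_iff_map_eq_zero]
    intro e he
    obtain ⟨g, rfl⟩ := (Ext.mk₀_bijective _ _).2 e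
    rw [rho_apply, Ext.mapExactFunctor_mk₀] at he
    obtain ⟨x₂, hx₂⟩ := Ext.covariant_sequence_exact₃ _ (shortExact₀ hf)
      (Ext.mk₀ ((res f).map g)) rfl he
    obtain ⟨h, rfl⟩ := (Ext.mk₀_bijective _ _).2 x₂
    rw [hom_res_eq_zero hf N h, Ext.mk₀_zero, Ext.zero_comp] at hx₂
    have h1 : (res f).map g = 0 := (Ext.mk₀_bijective _ _).1 (by rw [← hx₂, Ext.mk₀_zero])
    have h2 : g = 0 := (res f).map_injective (by rw [h1, Functor.map_zero])
    rw [h2, Ext.mk₀_zero]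
  · intro x
    have hx : x.comp (Ext.mk₀ (ModuleCat.shortComplexOfCompEqZero
        (f • (LinearMap.id : A →ₗ[A] A)) (quotMap f)
        (exact_quotMap f).linearMap_comp_eq_zero).f) (add_zero 1) = 0 := by
      have : (ModuleCat.shortComplexOfCompEqZero
        (f • (LinearMap.id : A →ₗ[A] A)) (quotMap f)
        (exact_quotMap f).linearMap_comp_eq_zero).f = f • 𝟙 (ModuleCat.of A A) := rfl
      rw [this, ← Ext.smul_eq_comp_mk₀, smul_ext_res_eq_zero]
    obtain ⟨x₃, hx₃⟩ := Ext.covariant_sequence_exact₁ _ (shortExact₀ hf) x hx (zero_add 1)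
    obtain ⟨h, rfl⟩ := (Ext.mk₀_bijective _ _).2 x₃
    obtain ⟨g, hg⟩ := res_map_surjective f
      (M := N) (N := ModuleCat.of (A ⧸ Ideal.span {f}) (A ⧸ Ideal.span {f})) h
    refine ⟨Ext.mk₀ g, ?_⟩
    rw [rho_apply, Ext.mapExactFunctor_mk₀, hg]
    exact hx₃

end Groth.Agent.Lib.Helper11.Rees
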