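import Mathlib
import Groth.Agent.Lib.Helper16.ExtVanish
import Groth.Agent.Lib.Helper11.ReesPre

set_option autoImplicit false
universe u
open CategoryTheory CategoryTheory.Abelian

namespace Groth.Agent.Lib.Helper11.Rees

variable {A : Type u} [CommRing A] {f : A} (hf : IsSMulRegular A f)

/-- the reduction map `(I →₀ A) → (I →₀ A/(f))`, as an `A`-linear map -/
noncomputable def finsuppMap (I : Type u) :
    (I →₀ A) →ₗ[A] (res f).obj (ModuleCat.of (A ⧸ Ideal.span {f}) (I →₀ (A ⧸ Ideal.span {f}))) where
  toFun v := Finsupp.mapRange (Ideal.Quotient.mk (Ideal.span {f})) (map_zero _) v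
  map_add' v w := Finsupp.mapRange_add (map_add _) v w
  map_smul' a v := by
    apply Finsupp.ext
    intro i
    show Ideal.Quotient.mk (Ideal.span {f}) (a * v i) = _
    rw [map_mul]
    rfl

theorem finsuppMap_apply (I : Type u) (v : I →₀ A) (i : I) :
    (show I →₀ (A ⧸ Ideal.span {f}) from finsuppMap (f := f) I v) i =
      Ideal.Quotient.mk (Ideal.span {f}) (v i) := rfl

theorem finsuppMap_surjective (I : Type u) : Function.Surjective (finsuppMap (f := f) I) :=
  Finsupp.mapRange_surjective _ (map_zero _) Ideal.Quotient.mk_surjective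

include hf in
theorem exact_finsuppMap (I : Type u) :
    Function.Exact (f • (LinearMap.id : (I →₀ A) →ₗ[A] (I →₀ A))) (finsuppMap (f := f) I) := by
  classical
  intro v
  constructor
  · intro hv
    have hmem : ∀ i, ∃ c, f * c = v i := by
      intro i
      have : Ideal.Quotient.mk (Ideal.span {f}) (v i) = 0 := by
        rw [← finsuppMap_apply, hv]
        rfl
      rw [Ideal.Quotient.eq_zero_iff_mem, Ideal.mem_span_singleton'] at this
      obtain ⟨c, hc⟩ := this
      exact ⟨c, by rw [mul_comm, hc]⟩
    choose c hc using hmem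
    have hsupp : ∀ i, c i ≠ 0 → i ∈ v.support := by
      intro i hi
      rw [Finsupp.mem_support_iff]
      intro h0
      apply hi
      apply hf
      show f • c i = f • 0
      rw [smul_zero, smul_eq_mul, hc, h0]
    refine ⟨Finsupp.onFinset v.support c hsupp, ?_⟩
    apply Finsupp.ext
    intro i
    show f • (Finsupp.onFinset v.support c hsupp) i = v i
    rw [Finsupp.onFinset_apply, smul_eq_mul, hc]
  · rintro ⟨w, rfl⟩
    apply Finsupp.ext
    intro i
    show Ideal.Quotient.mk (Ideal.span {f}) (f • w i) = 0
    rw [Ideal.Quotient.eq_zero_iff_mem]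
    exact Ideal.mem_span_singleton'.2 ⟨w i, by simp [mul_comm]⟩

include hf in
theorem hasProjectiveDimensionLT_res_free (I : Type u) :
    HasProjectiveDimensionLT
      ((res f).obj (ModuleCat.of (A ⧸ Ideal.span {f}) (I →₀ (A ⧸ Ideal.span {f})))) 2 := by
  have hS := Groth.Agent.Lib.Helper16.Depth.shortExact_of_linearMaps
    (f • (LinearMap.id : (I →₀ A) →ₗ[A] (I →₀ A))) (finsuppMap (f := f) I)
    (fun v w hvw => by
      apply Finsupp.ext
      intro i
      apply hf
      exact DFunLike.congr_fun hvw i)
    (finsuppMap_surjective I) (exact_finsuppMap hf I)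
  have h1 : Projective (ModuleCat.of A (I →₀ A)) := inferInstance
  exact hS.hasProjectiveDimensionLT_X₃ 1 inferInstance inferInstance

end Groth.Agent.Lib.Helper11.Rees
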