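import Mathlib
import Groth.Agent.Lib.Helper16.ExtVanish
import Groth.Agent.Lib.Helper11.ReesPre
import Groth.Agent.Lib.Helper11.ReesBase
import Groth.Agent.Lib.Helper11.ReesFree

set_option autoImplicit false
universe u
open CategoryTheory CategoryTheory.Abelian

namespace Groth.Agent.Lib.Helper11.Rees

variable {A : Type u} [CommRing A] {f : A} (hf : IsSMulRegular A f)


/-- naturality of `rho` w.r.t. morphisms in the first variable -/
theorem rho_mk₀_comp {X Y : ModuleCat.{u} (A ⧸ Ideal.span {f})} (a : X ⟶ Y) (i : ℕ)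
    (e : Ext.{u} Y (ModuleCat.of (A ⧸ Ideal.span {f}) (A ⧸ Ideal.span {f})) i) :
    rho hf X i ((Ext.mk₀ a).comp e (zero_add i)) =
      (Ext.mk₀ ((res f).map a)).comp (rho hf Y i e) (zero_add (i + 1)) := by
  rw [rho_apply, rho_apply, Ext.mapExactFunctor_comp, Ext.mapExactFunctor_mk₀]
  exact Ext.comp_assoc _ _ _ _ _ (by lia)

/-- compatibility of `rho` with connecting maps -/
theorem rho_extClass_comp {S : ShortComplex (ModuleCat.{u} (A ⧸ Ideal.span {f}))} (hS : S.ShortExact) (i : ℕ)
    (e : Ext.{u} S.X₁ (ModuleCat.of (A ⧸ Ideal.span {f}) (A ⧸ Ideal.span {f})) i) :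
    rho hf S.X₃ (i + 1) (hS.extClass.comp e (add_comm 1 i)) =
      (hS.map_of_exact (res f)).extClass.comp (rho hf S.X₁ i e) (add_comm 1 (i + 1)) := by
  rw [rho_apply, rho_apply, Ext.mapExactFunctor_comp, Ext.mapExactFunctor_extClass]
  exact Ext.comp_assoc _ _ _ _ _ (by lia)

/-- the canonical free cover of a `(A ⧸ Ideal.span {f})`-module -/
noncomputable abbrev cover (N : ModuleCat.{u} (A ⧸ Ideal.span {f})) : (N →₀ (A ⧸ Ideal.span {f})) →ₗ[(A ⧸ Ideal.span {f})] N :=
  Finsupp.linearCombination (A ⧸ Ideal.span {f}) id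

theorem cover_surjective (N : ModuleCat.{u} (A ⧸ Ideal.span {f})) : Function.Surjective (cover (f := f) N) := by
  intro n
  exact ⟨Finsupp.single n 1, by simp [cover]⟩

theorem rho_succ_bijective_of_shortExact (i : ℕ)
    (ih : ∀ N : ModuleCat.{u} (A ⧸ Ideal.span {f}), Function.Bijective (rho hf N i))
    {S : ShortComplex (ModuleCat.{u} (A ⧸ Ideal.span {f}))} (hS : S.ShortExact)
    (hproj : Projective S.X₂) (hpd : HasProjectiveDimensionLT ((res f).obj S.X₂) 2) :
    Function.Bijective (rho hf S.X₃ (i + 1)) := by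
  have hS' := hS.map_of_exact (res f)
  constructor
  · rw [injective_iff_map_eq_zero]
    intro e he
    obtain ⟨e₁, rfl⟩ := Ext.contravariant_sequence_exact₃ hS _ e
      (Ext.eq_zero_of_projective _) (add_comm 1 i)
    rw [rho_extClass_comp hf hS i e₁] at he
    obtain ⟨y₂, hy₂⟩ := Ext.contravariant_sequence_exact₁ hS' _ _ (add_comm 1 (i + 1)) he
    obtain ⟨e₂, rfl⟩ := (ih S.X₂).2 y₂
    have h1 : rho hf S.X₁ i e₁ = rho hf S.X₁ i ((Ext.mk₀ S.f).comp e₂ (zero_add i)) := by
      rw [rho_mk₀_comp hf S.f i e₂]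
      exact hy₂.symm
    rw [(ih S.X₁).1 h1, hS.extClass_comp_assoc]
  · intro y
    have hy : (Ext.mk₀ ((res f).map S.g)).comp y (zero_add _) = 0 :=
      (HasProjectiveDimensionLT.subsingleton ((res f).obj S.X₂) 2 (i + 1 + 1) (by lia) _).elim _ _
    obtain ⟨y₁, hy₁⟩ := Ext.contravariant_sequence_exact₃ hS' _ _ hy (add_comm 1 (i + 1))
    obtain ⟨e₁, rfl⟩ := (ih S.X₁).2 y₁
    refine ⟨hS.extClass.comp e₁ (add_comm 1 i), ?_⟩
    rw [← hy₁]
    exact rho_extClass_comp hf hS i e₁

theorem rho_bijective (i : ℕ) :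
    ∀ N : ModuleCat.{u} (A ⧸ Ideal.span {f}), Function.Bijective (rho hf N i) := by
  induction i with
  | zero => exact rho_zero_bijective hf
  | succ i ih =>
    intro N
    have hex : Function.Exact (LinearMap.ker (cover (f := f) N)).subtype (cover (f := f) N) :=
      LinearMap.exact_subtype_ker_map _
    have hS := Groth.Agent.Lib.Helper16.Depth.shortExact_of_linearMaps (R := (A ⧸ Ideal.span {f}))
      (N' := LinearMap.ker (cover (f := f) N)) (N := (N →₀ (A ⧸ Ideal.span {f}))) (N'' := N)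
      (LinearMap.ker (cover (f := f) N)).subtype (cover (f := f) N)
      (Submodule.subtype_injective _) (cover_surjective N) hex
    exact rho_succ_bijective_of_shortExact hf i ih hS
      (show Projective (ModuleCat.of (A ⧸ Ideal.span {f}) (N →₀ (A ⧸ Ideal.span {f}))) from
        inferInstance)
      (hasProjectiveDimensionLT_res_free hf N)

end Groth.Agent.Lib.Helper11.Rees
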