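import Mathlib
import Groth.Prelude.Def_CAlg
import Groth.Agent.Lib.Helper11.ReesIso
import Groth.Agent.Lib.Helper11.Bass

set_option autoImplicit false
universe u
open CategoryTheory CategoryTheory.Abelian

namespace Groth.Agent.Lib.Helper11.Rees

variable {A : Type u} [CommRing A] [IsLocalRing A] {f : A}

theorem nontrivial_quot (hfm : f ∈ IsLocalRing.maximalIdeal A) :
    Nontrivial (A ⧸ Ideal.span {f}) := by
  rw [Ideal.Quotient.nontrivial_iff]
  intro h
  have : Ideal.span {f} ≤ IsLocalRing.maximalIdeal A :=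
    (Ideal.span_singleton_le_iff_mem _).2 hfm
  rw [h] at this
  exact (IsLocalRing.maximalIdeal.isMaximal A).ne_top (top_le_iff.1 this)

theorem isLocalRing_quot (hfm : f ∈ IsLocalRing.maximalIdeal A) :
    IsLocalRing (A ⧸ Ideal.span {f}) :=
  have := nontrivial_quot hfm
  IsLocalRing.of_surjective' (Ideal.Quotient.mk (Ideal.span {f})) Ideal.Quotient.mk_surjective

/-- the residue field of `A`, as an `A`-module, is the restriction of the residue field of
`A/(f)`. -/
noncomputable def kIso (hfm : f ∈ IsLocalRing.maximalIdeal A) :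
    haveI := isLocalRing_quot hfm
    ModuleCat.of A (IsLocalRing.ResidueField A) ≅
      (res f).obj (ModuleCat.of (A ⧸ Ideal.span {f})
        (IsLocalRing.ResidueField (A ⧸ Ideal.span {f}))) := by
  haveI := isLocalRing_quot hfm
  haveI := nontrivial_quot hfm
  haveI : IsLocalHom (Ideal.Quotient.mk (Ideal.span {f})) :=
    IsLocalHom.of_surjective _ Ideal.Quotient.mk_surjective
  let φ := IsLocalRing.ResidueField.map (Ideal.Quotient.mk (Ideal.span {f}))
  refine LinearEquiv.toModuleIso (LinearEquiv.ofBijective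
    { toFun := fun x => φ x
      map_add' := map_add φ
      map_smul' := fun a x => ?_ } ⟨φ.injective, ?_⟩)
  · show φ (a • x) = (IsLocalRing.residue _ (Ideal.Quotient.mk (Ideal.span {f}) a)) * φ x
    rw [Algebra.smul_def, map_mul]
    congr 1
  · intro y
    obtain ⟨b, rfl⟩ := IsLocalRing.residue_surjective y
    obtain ⟨a, rfl⟩ := Ideal.Quotient.mk_surjective b
    exact ⟨IsLocalRing.residue A a, IsLocalRing.ResidueField.map_residue _ a⟩

theorem gorenstein_iff_quotient [IsNoetherianRing A] (hfm : f ∈ IsLocalRing.maximalIdeal A)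
    (hreg : IsSMulRegular A f) :
    LocCoh.IsGorensteinLocalRing A ↔ LocCoh.IsGorensteinLocalRing (A ⧸ Ideal.span {f}) := by
  have := isLocalRing_quot hfm
  constructor
  · intro hA
    obtain ⟨n, hn⟩ := hA.exists_hasInjectiveDimensionLT
    refine { exists_hasInjectiveDimensionLT := ⟨n + 1,
      Bass.hasInjectiveDimensionLT_of_residueField (ModuleCat.of _ (A ⧸ Ideal.span {f})) n
        fun i hi => ?_⟩ }
    have : Subsingleton (Ext.{u} ((res f).obj (ModuleCat.of (A ⧸ Ideal.span {f})
        (IsLocalRing.ResidueField (A ⧸ Ideal.span {f})))) (ModuleCat.of A A) (i + 1)) :=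
      HasInjectiveDimensionLT.subsingleton (ModuleCat.of A A) n (i + 1) (by lia) _
    exact (rho_bijective hreg i _).1.subsingleton
  · intro hB
    obtain ⟨n, hn⟩ := hB.exists_hasInjectiveDimensionLT
    refine { exists_hasInjectiveDimensionLT := ⟨n + 1 + 1,
      Bass.hasInjectiveDimensionLT_of_residueField (ModuleCat.of A A) (n + 1)
        fun i hi => ?_⟩ }
    obtain ⟨j, rfl⟩ : ∃ j, i = j + 1 := ⟨i - 1, by lia⟩
    have h1 : Subsingleton (Ext.{u} (ModuleCat.of (A ⧸ Ideal.span {f})
        (IsLocalRing.ResidueField (A ⧸ Ideal.span {f})))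
        (ModuleCat.of (A ⧸ Ideal.span {f}) (A ⧸ Ideal.span {f})) j) :=
      HasInjectiveDimensionLT.subsingleton _ n j (by lia) _
    have h2 := (rho_bijective hreg j (ModuleCat.of (A ⧸ Ideal.span {f})
        (IsLocalRing.ResidueField (A ⧸ Ideal.span {f})))).2.subsingleton
    exact Groth.Agent.Lib.Helper16.Depth.subsingleton_ext_of_iso_left (kIso hfm) _ _ h2

end Groth.Agent.Lib.Helper11.Rees
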