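import Mathlib
import Groth.Prelude.Def_CAlg
import Groth.Agent.Lib.Helper11.GorCM
import Groth.Agent.Lib.Helper11.ReesGor
import Groth.Agent.Lib.Helper18.CM9

set_option autoImplicit false
universe u
open CategoryTheory CategoryTheory.Abelian
open scoped Pointwise

namespace Groth.Agent.Lib.Helper11.GorCM

theorem depth_quotient_span_singleton {A : Type u} [CommRing A] [IsLocalRing A]
    [IsNoetherianRing A] {f : A} (hfm : f ∈ IsLocalRing.maximalIdeal A)
    (hreg : IsSMulRegular A f) [IsLocalRing (A ⧸ Ideal.span {f})] :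
    LocCoh.depth (A ⧸ Ideal.span {f}) (A ⧸ Ideal.span {f}) + 1 = LocCoh.depth A A := by
  have h1 := Groth.Agent.Lib.Helper18.CM.depth_quotSMulTop A hfm hreg
  have heq : f • (⊤ : Submodule A A) = Ideal.span {f} := by
    rw [← Submodule.ideal_span_singleton_smul]
    exact Ideal.mul_top _
  have e : QuotSMulTop f A ≃ₗ[A] (A ⧸ Ideal.span {f}) := Submodule.quotEquivOfEq _ _ heq
  rw [Groth.Agent.Lib.Helper18.CM.depth_congr e] at h1
  have : Nontrivial (A ⧸ Ideal.span {f}) := Rees.nontrivial_quot hfm
  have : IsLocalHom (algebraMap A (A ⧸ Ideal.span {f})) :=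
    IsLocalHom.of_surjective _ Ideal.Quotient.mk_surjective
  rw [Groth.Agent.Lib.Helper18.CM.depth_eq_of_finite (A := A) (B := A ⧸ Ideal.span {f})
    (A ⧸ Ideal.span {f})] at h1
  exact h1

theorem isCohenMacaulayLocalRing_of_gorenstein_aux (t : ℕ) :
    ∀ (A : Type u) [CommRing A] [LocCoh.IsGorensteinLocalRing A],
      LocCoh.depth A A = t → LocCoh.IsCohenMacaulayLocalRing A := by
  induction t with
  | zero =>
    intro A _ hA h0
    obtain ⟨n, hn⟩ := hA.exists_hasInjectiveDimensionLT
    have h1 := injective_of_depth_zero (by simpa using h0) n hn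
    have h2 := ringKrullDim_eq_zero_of_injective h1
    exact { supportDim_eq_depth := by
              rw [Module.supportDim_self_eq_ringKrullDim, h2, h0]
              rfl }
  | succ t ih =>
    intro A _ hA hd
    have h1 : 1 ≤ LocCoh.depth A A := by
      rw [hd]
      exact_mod_cast Nat.le_add_left 1 t
    obtain ⟨f, hfm, hreg⟩ := (Groth.Agent.Lib.Helper18.CM.one_le_depth_iff (M := A)).1 h1
    have hB := (Rees.gorenstein_iff_quotient hfm hreg).1 hA
    have hdep := depth_quotient_span_singleton hfm hreg
    rw [hd] at hdep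
    have hdB : LocCoh.depth (A ⧸ Ideal.span {f}) (A ⧸ Ideal.span {f}) = t := by
      have hne : LocCoh.depth (A ⧸ Ideal.span {f}) (A ⧸ Ideal.span {f}) ≠ ⊤ := by
        intro h
        rw [h, top_add] at hdep
        exact ENat.natCast_ne_top _ hdep.symm
      obtain ⟨k, hk⟩ := ENat.ne_top_iff_exists.mp hne
      rw [← hk] at hdep ⊢
      have : k + 1 = t + 1 := by exact_mod_cast hdep
      have : k = t := by lia
      rw [this]
    have hCM := ih (A ⧸ Ideal.span {f}) hdB
    have hdim := ringKrullDim_quotient_span_singleton_succ_eq_ringKrullDim hreg hfm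
    have h2 := hCM.supportDim_eq_depth
    rw [Module.supportDim_self_eq_ringKrullDim, hdB] at h2
    exact { supportDim_eq_depth := by
              rw [Module.supportDim_self_eq_ringKrullDim, ← hdim, h2, hd]
              rfl }

theorem isCohenMacaulayLocalRing_of_gorenstein (A : Type u) [CommRing A]
    [LocCoh.IsGorensteinLocalRing A] : LocCoh.IsCohenMacaulayLocalRing A := by
  have hne : LocCoh.depth A A ≠ ⊤ := Groth.Agent.Lib.Helper18.CM.depth_ne_top A
  obtain ⟨t, ht⟩ := ENat.ne_top_iff_exists.mp hne
  exact isCohenMacaulayLocalRing_of_gorenstein_aux t A ht.symm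

end Groth.Agent.Lib.Helper11.GorCM
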