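import Mathlib
import Groth.Prelude.Def_CAlg
import Groth.Agent.Lib.Helper11.GorCM2

set_option autoImplicit false
universe u
open CategoryTheory CategoryTheory.Abelian

namespace Groth.Agent.Lib.Helper11.GorCM

/-- G1: a Gorenstein local ring of depth `t` has injective dimension `≤ t`. -/
theorem hasInjectiveDimensionLT_of_depth (t : ℕ) :
    ∀ (A : Type u) [CommRing A] [LocCoh.IsGorensteinLocalRing A],
      LocCoh.depth A A = t → HasInjectiveDimensionLT (ModuleCat.of A A) (t + 1) := by
  induction t with
  | zero =>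
    intro A _ hA h0
    obtain ⟨n, hn⟩ := hA.exists_hasInjectiveDimensionLT
    exact injective_of_depth_zero (by simpa using h0) n hn
  | succ t ih =>
    intro A _ hA hd
    have h1 : 1 ≤ LocCoh.depth A A := by
      rw [hd]
      exact_mod_cast Nat.le_add_left 1 t
    obtain ⟨f, hfm, hreg⟩ := (Groth.Agent.Lib.Helper18.CM.one_le_depth_iff (M := A)).1 h1
    have hB := (Rees.gorenstein_iff_quotient hfm hreg).1 hA
    have hdep := depth_quotient_span_singleton hfm hreg
    rw [hd] at hdep
    have hdB : LocCoh.depth (A ⧸ Ideal.span {f}) (A ⧸ Ideal.span {f}) = t := by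
      have hne : LocCoh.depth (A ⧸ Ideal.span {f}) (A ⧸ Ideal.span {f}) ≠ ⊤ := by
        intro h
        rw [h, top_add] at hdep
        exact ENat.natCast_ne_top _ hdep.symm
      obtain ⟨k, hk⟩ := ENat.ne_top_iff_exists.mp hne
      rw [← hk] at hdep ⊢
      have : k + 1 = t + 1 := by exact_mod_cast hdep
      have : k = t := by lia
      rw [this]
    have hinj := ih (A ⧸ Ideal.span {f}) hdB
    refine hasInjectiveDimensionLT_succ_of_residueField (ModuleCat.of A A) (t + 1) fun i hi => ?_
    obtain ⟨j, rfl⟩ : ∃ j, i = j + 1 := ⟨i - 1, by lia⟩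
    have h2 : Subsingleton (Ext.{u} (ModuleCat.of (A ⧸ Ideal.span {f})
        (IsLocalRing.ResidueField (A ⧸ Ideal.span {f})))
        (ModuleCat.of (A ⧸ Ideal.span {f}) (A ⧸ Ideal.span {f})) j) :=
      HasInjectiveDimensionLT.subsingleton _ (t + 1) j (by lia) _
    have h3 := (Rees.rho_bijective hreg j (ModuleCat.of (A ⧸ Ideal.span {f})
        (IsLocalRing.ResidueField (A ⧸ Ideal.span {f})))).2.subsingleton
    exact Groth.Agent.Lib.Helper16.Depth.subsingleton_ext_of_iso_left (Rees.kIso hfm) _ _ h3

/-- G2: if a Noetherian local ring has injective dimension `≤ n` then its depth is `≤ n`. -/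
theorem depth_le_of_hasInjectiveDimensionLT {A : Type u} [CommRing A] [IsLocalRing A]
    [IsNoetherianRing A] (n : ℕ) (hn : HasInjectiveDimensionLT (ModuleCat.of A A) (n + 1)) :
    LocCoh.depth A A ≤ n := by
  by_contra hlt
  rw [not_le] at hlt
  have hne : LocCoh.depth A A ≠ ⊤ := Groth.Agent.Lib.Helper18.CM.depth_ne_top A
  obtain ⟨t, ht⟩ := ENat.ne_top_iff_exists.mp hne
  have htn : n + 1 ≤ t := by
    rw [← ht] at hlt
    have : (n : ℕ∞) < t := hlt
    have : n < t := by exact_mod_cast this
    lia
  -- `t + 1 ≤ depth` fails, but all Ext^i(k, A) for i < t + 1 vanish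
  have hcon : ((t + 1 : ℕ) : ℕ∞) ≤ LocCoh.depth A A := by
    unfold LocCoh.depth
    rw [Groth.Agent.Lib.Helper16.Depth.le_idealDepth_iff_ext']
    intro i hi
    rcases Nat.lt_or_ge i t with hit | hit
    · exact Groth.Agent.Lib.Helper16.Depth.subsingleton_ext_of_lt_idealDepth _ _ i (by
        show (i : ℕ∞) < LocCoh.depth A A
        rw [← ht]
        exact_mod_cast hit)
    · have : i = t := by lia
      subst this
      exact HasInjectiveDimensionLT.subsingleton _ (n + 1) i htn _
  rw [← ht] at hcon
  have : t + 1 ≤ t := by exact_mod_cast hcon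
  lia

end Groth.Agent.Lib.Helper11.GorCM
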