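import Mathlib
import Groth.Prelude.Def_CAlg
import Groth.Agent.Lib.Helper11.GorDim

set_option autoImplicit false
universe u
open CategoryTheory CategoryTheory.Abelian

namespace Groth.Agent.Lib.Helper11.GorCM

variable {A : Type u} [CommRing A]

/-- `A_S`, as the localized module of `A`, is `A_S` as a module over itself. -/
noncomputable def locSelfIso (S : Submonoid A) :
    (ModuleCat.of A A).localizedModule S ≅ ModuleCat.of (Localization S) (Localization S) :=
  haveI := ModuleCat.localizedModule_isLocalizedModule (ModuleCat.of A A) S
  (LinearEquiv.extendScalarsOfIsLocalization S (Localization S)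
    (IsLocalizedModule.linearEquiv S ((ModuleCat.of A A).localizedModuleMkLinearMap S)
      (Algebra.linearMap A (Localization S)))).toModuleIso

theorem hasInjectiveDimensionLT_localization_iff (S : Submonoid A) (n : ℕ) :
    HasInjectiveDimensionLT ((ModuleCat.of A A).localizedModule S) n ↔
      HasInjectiveDimensionLT (ModuleCat.of (Localization S) (Localization S)) n :=
  ⟨fun _ => hasInjectiveDimensionLT_of_iso (locSelfIso S) n,
    fun _ => hasInjectiveDimensionLT_of_iso (locSelfIso S).symm n⟩

theorem finite_injdim_iff [IsNoetherianRing A] :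
    (∃ n : ℕ, HasInjectiveDimensionLT (ModuleCat.of A A) n) ↔
      (LocCoh.IsGorensteinRing A ∧ ringKrullDim A < ⊤) := by
  constructor
  · rintro ⟨n, hn⟩
    have hm : HasInjectiveDimensionLE (ModuleCat.of A A) n :=
      hasInjectiveDimensionLT_of_ge _ n (n + 1) (Nat.le_succ n)
    have hloc : ∀ (p : Ideal A) [p.IsPrime],
        HasInjectiveDimensionLT (ModuleCat.of (Localization.AtPrime p) (Localization.AtPrime p))
          (n + 1) := fun p _ =>
      (hasInjectiveDimensionLT_localization_iff p.primeCompl (n + 1)).1
        ((ModuleCat.of A A).localizedModule_hasInjectiveDimensionLE n p.primeCompl)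
    have hG : ∀ (p : Ideal A) [p.IsPrime], LocCoh.IsGorensteinLocalRing (Localization.AtPrime p) :=
      fun p _ => { exists_hasInjectiveDimensionLT := ⟨n + 1, hloc p⟩ }
    refine ⟨{ isGorensteinLocalRing_localization := hG }, ?_⟩
    have hlt : ((n : ℕ∞) : WithBot ℕ∞) < ⊤ := WithBot.coe_lt_coe.2 (ENat.natCast_lt_top n)
    refine lt_of_le_of_lt ((ringKrullDim_le_iff_height_le ((n : ℕ∞) : WithBot ℕ∞)).2 ?_) hlt
    intro p hp
    have hGp := hG p
    have hCM := isCohenMacaulayLocalRing_of_gorenstein (Localization.AtPrime p)
    have h1 := hCM.supportDim_eq_depth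
    rw [Module.supportDim_self_eq_ringKrullDim,
      IsLocalization.AtPrime.ringKrullDim_eq_height p] at h1
    rw [h1]
    have := depth_le_of_hasInjectiveDimensionLT n (hloc p)
    exact_mod_cast this
  · rintro ⟨hG, hdim⟩
    rcases subsingleton_or_nontrivial A with hs | hnt
    · exact ⟨0, (ModuleCat.isZero_of_subsingleton _).hasInjectiveDimensionLT_zero⟩
    · obtain ⟨d, hd⟩ : ∃ d : ℕ, ringKrullDim A = d := by
        have h2 : ringKrullDim A ≠ ⊥ := fun h => by
          have := ringKrullDim_nonneg_of_nontrivial (R := A)
          rw [h] at this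
          simp at this
        induction hr : ringKrullDim A with
        | bot => exact absurd hr h2
        | coe a =>
          induction a with
          | top => rw [hr] at hdim; exact absurd hdim (lt_irrefl _)
          | coe n => exact ⟨n, rfl⟩
      refine ⟨d + 1, ?_⟩
      show HasInjectiveDimensionLE (ModuleCat.of A A) d
      rw [ModuleCat.hasInjectiveDimensionLE_iff_forall_primeSpectrum]
      intro p
      show HasInjectiveDimensionLT _ (d + 1)
      rw [hasInjectiveDimensionLT_localization_iff]
      have hGp := hG.isGorensteinLocalRing_localization p.asIdeal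
      have hCM := isCohenMacaulayLocalRing_of_gorenstein (Localization.AtPrime p.asIdeal)
      have h1 := hCM.supportDim_eq_depth
      rw [Module.supportDim_self_eq_ringKrullDim,
        IsLocalization.AtPrime.ringKrullDim_eq_height p.asIdeal] at h1
      have h2 : (p.asIdeal.height : WithBot ℕ∞) ≤ d := by
        rw [← hd]
        exact Ideal.height_le_ringKrullDim_of_isPrime
      rw [h1] at h2
      have h3 : LocCoh.depth (Localization.AtPrime p.asIdeal) (Localization.AtPrime p.asIdeal) ≤
          (d : ℕ∞) := by exact_mod_cast h2
      have hne : LocCoh.depth (Localization.AtPrime p.asIdeal)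
          (Localization.AtPrime p.asIdeal) ≠ ⊤ := fun h => by
        rw [h] at h3
        exact absurd h3 (by simp)
      obtain ⟨t, ht⟩ := ENat.ne_top_iff_exists.mp hne
      have htd : t ≤ d := by
        rw [← ht] at h3
        exact_mod_cast h3
      have := hasInjectiveDimensionLT_of_depth t (Localization.AtPrime p.asIdeal) ht.symm
      exact hasInjectiveDimensionLT_of_ge _ (t + 1) (d + 1) (by lia)

end Groth.Agent.Lib.Helper11.GorCM
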