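import Mathlib
import Groth.Prelude.Def_CAlgX

set_option autoImplicit false
universe u
open MvPolynomial

namespace Groth.Agent.Lib.Helper11.QReg

variable {R : Type u} [CommRing R] {c : ℕ} (f : Fin c → R)

/-- `Σ X_i W_i` -/
noncomputable def xi (W : Fin c → MvPolynomial (Fin c) R) : MvPolynomial (Fin c) R :=
  ∑ i, X i * W i

/-- `Σ f_i W_i` -/
noncomputable def phi (W : Fin c → MvPolynomial (Fin c) R) : MvPolynomial (Fin c) R :=
  ∑ i, C (f i) * W i

/-- `(Σ_j (b_ij - b_ji) X_j)_i` -/
noncomputable def dX (b : Fin c → Fin c → MvPolynomial (Fin c) R) :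
    Fin c → MvPolynomial (Fin c) R := fun i => ∑ j, (b i j - b j i) * X j

/-- `(Σ_j (b_ij - b_ji) f_j)_i` -/
noncomputable def df (b : Fin c → Fin c → MvPolynomial (Fin c) R) :
    Fin c → MvPolynomial (Fin c) R := fun i => ∑ j, (b i j - b j i) * C (f j)

lemma xi_dX (b : Fin c → Fin c → MvPolynomial (Fin c) R) : xi (dX b) = 0 := by
  unfold xi dX
  have h1 : ∑ i, X i * ∑ j, (b i j - b j i) * X j =
      ∑ i, ∑ j, X i * X j * b i j - ∑ i, ∑ j, X i * X j * b j i := by
    rw [← Finset.sum_sub_distrib]
    refine Finset.sum_congr rfl fun i _ => ?_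
    rw [Finset.mul_sum, ← Finset.sum_sub_distrib]
    refine Finset.sum_congr rfl fun j _ => ?_
    ring
  rw [h1, sub_eq_zero]
  conv_rhs => rw [Finset.sum_comm]
  refine Finset.sum_congr rfl fun i _ => ?_
  refine Finset.sum_congr rfl fun j _ => ?_
  ring

lemma xi_df (b : Fin c → Fin c → MvPolynomial (Fin c) R) : xi (df f b) = - phi f (dX b) := by
  unfold xi df phi dX
  have h1 : ∑ i, X i * ∑ j, (b i j - b j i) * C (f j) =
      ∑ i, ∑ j, X i * C (f j) * (b i j - b j i) := by
    refine Finset.sum_congr rfl fun i _ => ?_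
    rw [Finset.mul_sum]
    refine Finset.sum_congr rfl fun j _ => ?_
    ring
  have h2 : ∑ i, C (f i) * ∑ j, (b i j - b j i) * X j =
      ∑ i, ∑ j, X j * C (f i) * (b i j - b j i) := by
    refine Finset.sum_congr rfl fun i _ => ?_
    rw [Finset.mul_sum]
    refine Finset.sum_congr rfl fun j _ => ?_
    ring
  rw [h1, h2, Finset.sum_comm, ← Finset.sum_neg_distrib]
  refine Finset.sum_congr rfl fun i _ => ?_
  rw [← Finset.sum_neg_distrib]
  refine Finset.sum_congr rfl fun j _ => ?_
  ring

lemma df_add (b b' : Fin c → Fin c → MvPolynomial (Fin c) R) :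
    df f (b + b') = df f b + df f b' := by
  funext i
  simp only [df, Pi.add_apply, ← Finset.sum_add_distrib]
  refine Finset.sum_congr rfl fun j _ => ?_
  ring

lemma coeff_phi_mem (W : Fin c → MvPolynomial (Fin c) R) (d : Fin c →₀ ℕ) :
    coeff d (phi f W) ∈ Ideal.span (Set.range f) := by
  unfold phi
  rw [coeff_sum]
  refine sum_mem fun i _ => ?_
  rw [coeff_C_mul]
  exact Ideal.mul_mem_right _ _ (Ideal.subset_span ⟨i, rfl⟩)

/-- `H_1`-regularity in matrix form over `R` -/
lemma exists_matrix_of_relation (hf : CAlgX.IsH1Regular f) (a : Fin c → R)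
    (ha : ∑ i, a i * f i = 0) :
    ∃ b : Fin c → Fin c → R, ∀ i, a i = ∑ j, (b i j - b j i) * f j := by
  have hmem := hf a ha
  clear ha
  induction hmem using Submodule.span_induction with
  | mem v hv =>
    obtain ⟨i0, j0, rfl⟩ := hv
    refine ⟨fun i j => if i = i0 ∧ j = j0 then 1 else 0, fun i => ?_⟩
    simp only [sub_mul, Finset.sum_sub_distrib, ite_mul, one_mul, zero_mul, Pi.sub_apply,
      Pi.single_apply]
    congr 1
    · by_cases h : i = i0
      · simp [h]
      · simp [h]
    · by_cases h : i = j0
      · simp [h]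
      · simp [h]
  | zero => exact ⟨0, fun i => by simp⟩
  | add x y _ _ hx hy =>
    obtain ⟨b, hb⟩ := hx
    obtain ⟨b', hb'⟩ := hy
    refine ⟨b + b', fun i => ?_⟩
    rw [Pi.add_apply, hb i, hb' i, ← Finset.sum_add_distrib]
    refine Finset.sum_congr rfl fun j _ => ?_
    simp only [Pi.add_apply]
    ring
  | smul r x _ hx =>
    obtain ⟨b, hb⟩ := hx
    refine ⟨r • b, fun i => ?_⟩
    rw [Pi.smul_apply, hb i, smul_eq_mul, Finset.mul_sum]
    refine Finset.sum_congr rfl fun j _ => ?_
    simp only [Pi.smul_apply, smul_eq_mul]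
    ring

/-- `H_1`-regularity over the polynomial ring -/
lemma exists_matrix_of_relation_poly (hf : CAlgX.IsH1Regular f)
    (V : Fin c → MvPolynomial (Fin c) R) (hV : phi f V = 0) :
    ∃ b : Fin c → Fin c → MvPolynomial (Fin c) R, V = df f b := by
  classical
  have hrel : ∀ d : Fin c →₀ ℕ, ∑ i, coeff d (V i) * f i = 0 := by
    intro d
    have := congrArg (coeff d) hV
    unfold phi at this
    rw [coeff_sum, coeff_zero] at this
    rw [← this]
    refine Finset.sum_congr rfl fun i _ => ?_
    rw [coeff_C_mul, mul_comm]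
  choose b hb using fun d => exists_matrix_of_relation f hf (fun i => coeff d (V i)) (hrel d)
  let D : Finset (Fin c →₀ ℕ) := Finset.univ.biUnion fun i => (V i).support
  refine ⟨fun i j => ∑ d ∈ D, monomial d (b d i j), ?_⟩
  funext i
  ext d
  unfold df
  rw [coeff_sum]
  have hco : ∀ i j, coeff d (∑ d' ∈ D, monomial d' (b d' i j)) =
      if d ∈ D then b d i j else 0 := by
    intro i j
    rw [coeff_sum]
    simp only [coeff_monomial]
    rw [Finset.sum_ite_eq' D d]
  have hmc : ∀ (p : MvPolynomial (Fin c) R) (a : R), coeff d (p * C a) = coeff d p * a :=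
    fun p a => by rw [mul_comm, coeff_C_mul, mul_comm]
  simp only [hmc, coeff_sub, hco]
  by_cases hd : d ∈ D
  · simp only [hd, if_true]
    exact hb d i
  · simp only [hd, if_false, sub_zero, zero_mul, Finset.sum_const_zero]
    by_contra hne
    apply hd
    exact Finset.mem_biUnion.2 ⟨i, Finset.mem_univ _, mem_support_iff.2 hne⟩

lemma homogeneousComponent_zero_X_mul (i : Fin c) (Q : MvPolynomial (Fin c) R) :
    homogeneousComponent 0 (X i * Q) = 0 := by
  classical
  ext d
  rw [coeff_homogeneousComponent, coeff_zero]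
  split_ifs with h
  · rw [coeff_X_mul']
    have hd : d = 0 := by
      rw [Finsupp.degree_eq_zero_iff] at h
      exact h
    subst hd
    simp
  · rfl

lemma homogeneousComponent_succ_X_mul (m : ℕ) (i : Fin c) (Q : MvPolynomial (Fin c) R) :
    homogeneousComponent (m + 1) (X i * Q) = X i * homogeneousComponent m Q := by
  classical
  ext d
  rw [coeff_homogeneousComponent, coeff_X_mul', coeff_X_mul']
  by_cases hi : i ∈ d.support
  · simp only [hi, if_true]
    rw [coeff_homogeneousComponent]
    have hdeg : d.degree = (d - Finsupp.single i 1).degree + 1 := by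
      have : d = (d - Finsupp.single i 1) + Finsupp.single i 1 := by
        ext k
        simp only [Finsupp.coe_add, Finsupp.coe_tsub, Pi.add_apply, Pi.sub_apply,
          Finsupp.single_apply]
        by_cases hk : i = k
        · subst hk
          have : 0 < d i := Nat.pos_of_ne_zero (Finsupp.mem_support_iff.1 hi)
          simp only [if_true]
          omega
        · simp [hk]
      conv_lhs => rw [this]
      rw [map_add, Finsupp.degree_single]
    by_cases h : (d - Finsupp.single i 1).degree = m
    · simp [h, hdeg]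
    · have : ¬ d.degree = m + 1 := by omega
      simp [h, this]
  · simp [hi]

/-- Taylor expansion at `f` to first order -/
lemma exists_eq_C_eval_add (P : MvPolynomial (Fin c) R) :
    ∃ H : Fin c → MvPolynomial (Fin c) R,
      P = C (eval f P) + ∑ i, (X i - C (f i)) * H i := by
  induction P using MvPolynomial.induction_on with
  | C a => exact ⟨0, by simp⟩
  | add p q hp hq =>
    obtain ⟨H, hH⟩ := hp
    obtain ⟨H', hH'⟩ := hq
    refine ⟨H + H', ?_⟩
    conv_lhs => rw [hH, hH']
    simp only [map_add, Pi.add_apply, mul_add, Finset.sum_add_distrib]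
    ring
  | mul_X p j hp =>
    obtain ⟨H, hH⟩ := hp
    refine ⟨fun i => H i * X j + if i = j then C (eval f p) else 0, ?_⟩
    conv_lhs => rw [hH]
    simp only [map_mul, eval_X, mul_add, Finset.sum_add_distrib, mul_ite, mul_zero,
      Finset.sum_ite_eq', Finset.mem_univ, if_true, add_mul, Finset.sum_mul]
    have : ∀ i, (X i - C (f i)) * H i * X j = (X i - C (f i)) * (H i * X j) := fun i => by ring
    simp only [this]
    ring

/-- elements of `(f)^k` are values of homogeneous polynomials of degree `k` -/
lemma exists_homogeneous_of_mem_pow (k : ℕ) :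
    ∀ y ∈ Ideal.span (Set.range f) ^ k,
      ∃ G : MvPolynomial (Fin c) R, G.IsHomogeneous k ∧ eval f G = y := by
  induction k with
  | zero =>
    intro y _
    exact ⟨C y, isHomogeneous_C _ _, eval_C _⟩
  | succ k ih =>
    intro y hy
    rw [pow_succ] at hy
    refine Submodule.mul_induction_on hy ?_ ?_
    · intro a ha b hb
      obtain ⟨G, hG, rfl⟩ := ih a ha
      obtain ⟨cf, rfl⟩ := (Ideal.mem_span_range_iff_exists_fun).1 hb
      refine ⟨G * ∑ i, C (cf i) * X i, hG.mul ?_, ?_⟩
      · refine IsHomogeneous.sum _ _ _ fun i _ => ?_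
        have := (isHomogeneous_C (Fin c) (cf i)).mul (isHomogeneous_X R i)
        rwa [zero_add] at this
      · simp
    · rintro a b ⟨G, hG, rfl⟩ ⟨G', hG', rfl⟩
      exact ⟨G + G', hG.add hG', map_add _ _ _⟩

lemma phi_add (V W : Fin c → MvPolynomial (Fin c) R) : phi f (V + W) = phi f V + phi f W := by
  unfold phi
  rw [← Finset.sum_add_distrib]
  refine Finset.sum_congr rfl fun i _ => ?_
  rw [Pi.add_apply, mul_add]

lemma xi_sub (V W : Fin c → MvPolynomial (Fin c) R) : xi (V - W) = xi V - xi W := by
  unfold xi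
  rw [← Finset.sum_sub_distrib]
  refine Finset.sum_congr rfl fun i _ => ?_
  rw [Pi.sub_apply, mul_sub]

/-- the family shifted by one degree -/
noncomputable def shiftW (W : ℕ → Fin c → MvPolynomial (Fin c) R) :
    ℕ → Fin c → MvPolynomial (Fin c) R
  | 0 => 0
  | (m + 1) => W m

/-- **Stacks 062I**: an `H_1`-regular sequence is quasi-regular. -/
theorem isQuasiRegular_of_isH1Regular (hf : CAlgX.IsH1Regular f) : CAlgX.IsQuasiRegular f := by
  intro n P hP hmem d
  obtain ⟨G, hG, hGe⟩ := exists_homogeneous_of_mem_pow f (n + 1) _ hmem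
  obtain ⟨H, hH⟩ := exists_eq_C_eval_add f (P - G)
  have he : eval f (P - G) = 0 := by rw [map_sub, hGe, sub_self]
  rw [he, C_0, zero_add] at hH
  let W : ℕ → Fin c → MvPolynomial (Fin c) R := fun m i => homogeneousComponent m (H i)
  have hcomp : ∀ m, homogeneousComponent m (P - G) = xi (shiftW W m) - phi f (W m) := by
    intro m
    rw [hH, map_sum]
    unfold xi phi
    rw [← Finset.sum_sub_distrib]
    refine Finset.sum_congr rfl fun i _ => ?_
    rw [sub_mul, map_sub, homogeneousComponent_C_mul]
    cases m with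
    | zero =>
      rw [homogeneousComponent_zero_X_mul]
      show (0 : MvPolynomial (Fin c) R) - _ = X i * 0 - _
      rw [mul_zero]
    | succ m =>
      rw [homogeneousComponent_succ_X_mul]
      rfl
  have hP' : P ∈ homogeneousSubmodule (Fin c) R n := hP
  have hG' : G ∈ homogeneousSubmodule (Fin c) R (n + 1) := hG
  have hlow : ∀ m, m < n → xi (shiftW W m) = phi f (W m) := by
    intro m hm
    have h1 : homogeneousComponent m (P - G) = 0 := by
      rw [map_sub, homogeneousComponent_of_mem hP', homogeneousComponent_of_mem hG',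
        if_neg (by omega), if_neg (by omega), sub_zero]
    rw [hcomp m] at h1
    exact sub_eq_zero.1 h1
  have htop : P = xi (shiftW W n) - phi f (W n) := by
    rw [← hcomp n, map_sub, homogeneousComponent_of_mem hP', homogeneousComponent_of_mem hG',
      if_pos rfl, if_neg (by omega), sub_zero]
  have key : ∀ m, m ≤ n → ∃ b : Fin c → Fin c → MvPolynomial (Fin c) R,
      xi (shiftW W m) = - phi f (dX b) := by
    intro m
    induction m with
    | zero =>
      intro _
      refine ⟨0, ?_⟩
      simp [shiftW, xi, dX, phi]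
    | succ m ih =>
      intro hm
      obtain ⟨b, hb⟩ := ih (by omega)
      have h1 := hlow m (by omega)
      have h2 : phi f (W m + dX b) = 0 := by
        rw [phi_add, ← h1, hb, neg_add_cancel]
      obtain ⟨b', hb'⟩ := exists_matrix_of_relation_poly f hf _ h2
      refine ⟨b', ?_⟩
      show xi (W m) = _
      have : W m = df f b' - dX b := by
        rw [← hb']
        simp
      rw [this, xi_sub, xi_df, xi_dX, sub_zero]
  obtain ⟨b, hb⟩ := key n le_rfl
  rw [htop, hb, coeff_sub, coeff_neg]
  exact sub_mem (neg_mem (coeff_phi_mem f _ d)) (coeff_phi_mem f _ d)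

end Groth.Agent.Lib.Helper11.QReg
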