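import Mathlib.AlgebraicGeometry.AffineTransitionLimit
import Mathlib.AlgebraicGeometry.PullbackCarrier
import Mathlib.AlgebraicGeometry.ResidueField

set_option autoImplicit false
universe u

open CategoryTheory AlgebraicGeometry Limits

namespace Groth.Agent.Lib.Helper11

variable {I : Type u} [SmallCategory I] [IsCofiltered I]
    (D : I ⥤ Scheme.{u}) (c : Limits.Cone D) (hc : Limits.IsLimit c)
    [∀ (i j : I) (f : i ⟶ j), IsAffineHom (D.map f)]

attribute [local instance] IsCofiltered.isConnected

include hc in
/-- Base change of the limit along a map from an affine scheme: if all the base changed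
stages are nonempty, so is the base change of the limit. -/
theorem nonempty_pullback_π_of_forall {i : I} {T : Scheme.{u}} [IsAffine T] (g : T ⟶ D.obj i)
    (h : ∀ (j : I) (φ : j ⟶ i), Nonempty ↑(pullback (D.map φ) g)) :
    Nonempty ↑(pullback (c.π.app i) g) := by
  let D' : Over i ⥤ Scheme := Over.post D ⋙ Over.pullback g ⋙ Over.forget _
  let c' : Cone D' := (Over.pullback g ⋙ Over.forget _).mapCone ((Over.conePost D i).obj c)
  let hc' : IsLimit c' :=
    isLimitOfPreserves (Over.pullback g ⋙ Over.forget _) (Over.isLimitConePost _ hc)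
  have haff : ∀ k, IsAffine (D'.obj k) := by
    intro k
    show IsAffine (pullback (D.map k.hom) g)
    infer_instance
  have hne : ∀ k, Nonempty (D'.obj k) := by
    intro k; exact h k.left k.hom
  have : Nonempty c'.pt := Scheme.nonempty_of_isLimit D' c' hc'
  exact this

include hc in
theorem range_π_eq_iInter_range_map (i : I) :
    Set.range ⇑(c.π.app i) = ⋂ (j : I) (φ : j ⟶ i), Set.range ⇑(D.map φ) := by
  apply Set.Subset.antisymm
  · rintro _ ⟨s, rfl⟩
    simp only [Set.mem_iInter]
    intro j φ
    exact ⟨c.π.app j s, by rw [← Scheme.Hom.comp_apply, c.w]⟩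
  · intro x hx
    simp only [Set.mem_iInter] at hx
    let g := (D.obj i).fromSpecResidueField x
    obtain ⟨t⟩ := (inferInstance : Nonempty ↥(Spec ((D.obj i).residueField x)))
    have hne : ∀ (j : I) (φ : j ⟶ i), Nonempty ↑(pullback (D.map φ) g) := by
      intro j φ
      obtain ⟨y, hy⟩ := hx j φ
      obtain ⟨z, -⟩ := Scheme.Pullback.exists_preimage_pullback (f := D.map φ) (g := g) y t
        (by rw [hy]; simp [g])
      exact ⟨z⟩
    obtain ⟨z⟩ := nonempty_pullback_π_of_forall D c hc g hne
    refine ⟨pullback.fst (c.π.app i) g z, ?_⟩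
    have := congr($(pullback.condition (f := c.π.app i) (g := g)) z)
    simp only [Scheme.Hom.comp_apply] at this
    rw [this]
    simp [g]

end Groth.Agent.Lib.Helper11
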