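import Mathlib
import Groth.Prelude.Def_MoreMor

/-!
# Infinitesimal lifting against `Spec (A ⧸ I) → Spec A`, `I ^ 2 = ⊥`

* `surjective_specMap_mk_of_sq_zero`: the thickening is surjective on points.
* `exists_lift_opens`: a morphism `Spec A → X` whose restriction to `Spec (A ⧸ I)` factors through
  an open `U` factors through `U`.
-/

set_option autoImplicit false
universe u

namespace Groth.Agent.Lib.Helper11.FormalLift

open CategoryTheory AlgebraicGeometry

theorem surjective_specMap_mk_of_sq_zero (A : Type u) [CommRing A] (I : Ideal A) (hI : I ^ 2 = ⊥) :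
    Function.Surjective (Spec.map (CommRingCat.ofHom (Ideal.Quotient.mk I))).base := by
  intro p
  have hp : I ≤ p.asIdeal := by
    intro x hx
    have h2 : x ^ 2 ∈ I ^ 2 := Ideal.pow_mem_pow hx 2
    rw [hI, Ideal.mem_bot] at h2
    exact p.isPrime.mem_of_pow_mem 2 (h2 ▸ p.asIdeal.zero_mem)
  have : p ∈ Set.range (PrimeSpectrum.comap (Ideal.Quotient.mk I)) := by
    rw [range_comap_of_surjective _ _ Ideal.Quotient.mk_surjective, Ideal.mk_ker]
    exact hp
  obtain ⟨q, hq⟩ := this
  exact ⟨q, hq⟩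

theorem exists_lift_opens {X : Scheme.{u}} (U : X.Opens) {A : Type u} [CommRing A] (I : Ideal A)
    (hI : I ^ 2 = ⊥) (l : Spec (CommRingCat.of A) ⟶ X)
    (a : Spec (CommRingCat.of (A ⧸ I)) ⟶ (U : Scheme.{u}))
    (h : Spec.map (CommRingCat.ofHom (Ideal.Quotient.mk I)) ≫ l = a ≫ U.ι) :
    ∃ l' : Spec (CommRingCat.of A) ⟶ (U : Scheme.{u}), l' ≫ U.ι = l ∧
      Spec.map (CommRingCat.ofHom (Ideal.Quotient.mk I)) ≫ l' = a := by
  have hrange : Set.range l.base ⊆ Set.range U.ι.base := by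
    rintro _ ⟨p, rfl⟩
    obtain ⟨q, rfl⟩ := surjective_specMap_mk_of_sq_zero A I hI p
    refine ⟨a.base q, ?_⟩
    have := congrArg (fun φ : Spec (CommRingCat.of (A ⧸ I)) ⟶ X => φ.base q) h
    exact this.symm
  refine ⟨IsOpenImmersion.lift U.ι l hrange, IsOpenImmersion.lift_fac _ _ _, ?_⟩
  rw [← cancel_mono U.ι, Category.assoc, IsOpenImmersion.lift_fac, h]

end Groth.Agent.Lib.Helper11.FormalLift
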