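import Mathlib
import Groth.Prelude.Def_MoreMor
import Groth.Agent.Lib.Helper11.FormalLift

/-!
# Formally étale morphisms of schemes: affine-local characterisation
-/

set_option autoImplicit false
universe u

namespace Groth.Agent.Lib.Helper11.FormalEtale

open CategoryTheory AlgebraicGeometry Groth.Agent.Lib.Helper11.FormalLift

/-- The thickening `Spec (A ⧸ I) ⟶ Spec A`. -/
noncomputable abbrev thick {A : Type u} [CommRing A] (I : Ideal A) :
    Spec (CommRingCat.of (A ⧸ I)) ⟶ Spec (CommRingCat.of A) :=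
  Spec.map (CommRingCat.ofHom (Ideal.Quotient.mk I))

theorem exists_lift_openImmersion {Z X : Scheme.{u}} (j : Z ⟶ X) [IsOpenImmersion j]
    {A : Type u} [CommRing A] (I : Ideal A)
    (hI : I ^ 2 = ⊥) (l : Spec (CommRingCat.of A) ⟶ X)
    (a : Spec (CommRingCat.of (A ⧸ I)) ⟶ Z)
    (h : thick I ≫ l = a ≫ j) :
    ∃ l' : Spec (CommRingCat.of A) ⟶ Z, l' ≫ j = l ∧ thick I ≫ l' = a := by
  have hrange : Set.range l.base ⊆ Set.range j.base := by
    rintro _ ⟨p, rfl⟩
    obtain ⟨q, rfl⟩ := surjective_specMap_mk_of_sq_zero A I hI p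
    refine ⟨a.base q, ?_⟩
    have := congrArg (fun φ : Spec (CommRingCat.of (A ⧸ I)) ⟶ X => φ.base q) h
    exact this.symm
  refine ⟨IsOpenImmersion.lift j l hrange, IsOpenImmersion.lift_fac _ _ _, ?_⟩
  rw [← cancel_mono j, Category.assoc, IsOpenImmersion.lift_fac, h]

theorem ker_thick_sq {A : Type u} [CommRing A] (I : Ideal A) (hI : I ^ 2 = ⊥) :
    (thick I).ker ^ 2 = ⊥ := by
  apply Scheme.IdealSheafData.ext_of_isAffine
  rw [Scheme.IdealSheafData.ideal_pow, Pi.pow_apply, Scheme.Hom.ker_apply,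
    Scheme.IdealSheafData.ideal_bot, Pi.bot_apply]
  rw [sq, eq_bot_iff, Ideal.mul_le]
  intro x hx y hy
  rw [Ideal.mem_bot]
  have hnat := Scheme.ΓSpecIso_naturality (CommRingCat.ofHom (Ideal.Quotient.mk I))
  have key : ∀ z, z ∈ RingHom.ker ((thick I).app ⊤).hom →
      (Scheme.ΓSpecIso (CommRingCat.of A)).hom z ∈ I := by
    intro z hz
    rw [RingHom.mem_ker] at hz
    have h1 := congrArg (fun φ => φ.hom z) hnat
    simp only [CommRingCat.hom_comp, RingHom.comp_apply] at h1
    have h2 : ((thick I).appTop).hom z = 0 := hz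
    rw [h2, map_zero] at h1
    exact Ideal.Quotient.eq_zero_iff_mem.mp h1.symm
  have hxy : (Scheme.ΓSpecIso (CommRingCat.of A)).hom (x * y) = 0 := by
    rw [map_mul]
    have : (Scheme.ΓSpecIso (CommRingCat.of A)).hom x * (Scheme.ΓSpecIso (CommRingCat.of A)).hom y
        ∈ I ^ 2 := by
      rw [sq]
      exact Ideal.mul_mem_mul (key x hx) (key y hy)
    rw [hI] at this
    exact this
  have hinj : Function.Injective (Scheme.ΓSpecIso (CommRingCat.of A)).hom :=
    (ConcreteCategory.bijective_of_isIso (Scheme.ΓSpecIso (CommRingCat.of A)).hom).1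
  exact hinj (by rw [hxy, map_zero])

theorem isNilpotent_ker_thick {A : Type u} [CommRing A] (I : Ideal A) (hI : I ^ 2 = ⊥) :
    IsNilpotent (thick I).ker := ⟨2, ker_thick_sq I hI⟩


instance {A : Type u} [CommRing A] (I : Ideal A) : IsClosedImmersion (thick I) :=
  IsClosedImmersion.spec_of_surjective _ Ideal.Quotient.mk_surjective

/-- `l` solves the lifting problem `(a, b)` for `f`, restricted along `ψ : A →+* B`, with respect
to the ideal `J` of `B`. -/
def Solves {X Y : Scheme.{u}} (f : X ⟶ Y) {A : Type u} [CommRing A] (I : Ideal A)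
    (a : Spec (CommRingCat.of (A ⧸ I)) ⟶ X) (b : Spec (CommRingCat.of A) ⟶ Y)
    {B : Type u} [CommRing B] (ψ : A →+* B) (J : Ideal B) (hJ : I ≤ J.comap ψ)
    (l : Spec (CommRingCat.of B) ⟶ X) : Prop :=
  thick J ≫ l = Spec.map (CommRingCat.ofHom (Ideal.quotientMap J ψ hJ)) ≫ a ∧
    l ≫ f = Spec.map (CommRingCat.ofHom ψ) ≫ b

section Solves

variable {X Y : Scheme.{u}} (f : X ⟶ Y) {A : Type u} [CommRing A] (I : Ideal A)
  (a : Spec (CommRingCat.of (A ⧸ I)) ⟶ X) (b : Spec (CommRingCat.of A) ⟶ Y)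

theorem solves_id_iff (h : I ≤ I.comap (RingHom.id A)) (l : Spec (CommRingCat.of A) ⟶ X) :
    Solves f I a b (RingHom.id A) I h l ↔ (thick I ≫ l = a ∧ l ≫ f = b) := by
  have h1 : Ideal.quotientMap I (RingHom.id A) h = RingHom.id (A ⧸ I) := by
    refine RingHom.ext fun y => ?_
    obtain ⟨x, rfl⟩ := Ideal.Quotient.mk_surjective y
    rw [Ideal.quotientMap_mk]
    rfl
  unfold Solves
  rw [h1]
  simp

variable {f I a b}

theorem Solves.restrict {B : Type u} [CommRing B] {ψ : A →+* B} {J : Ideal B}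
    {hJ : I ≤ J.comap ψ} {l : Spec (CommRingCat.of B) ⟶ X} (hl : Solves f I a b ψ J hJ l)
    {C : Type u} [CommRing C] (χ : B →+* C) (K : Ideal C) (hK : J ≤ K.comap χ) :
    Solves f I a b (χ.comp ψ) K (hJ.trans (by rw [← Ideal.comap_comap]; exact Ideal.comap_mono hK))
      (Spec.map (CommRingCat.ofHom χ) ≫ l) := by
  constructor
  · have e1 : thick K ≫ Spec.map (CommRingCat.ofHom χ) =
        Spec.map (CommRingCat.ofHom (Ideal.quotientMap K χ hK)) ≫ thick J := by
      unfold thick
      rw [← Spec.map_comp, ← Spec.map_comp, ← CommRingCat.ofHom_comp, ← CommRingCat.ofHom_comp,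
        Ideal.quotientMap_comp_mk]
    rw [← Category.assoc, e1, Category.assoc, hl.1, ← Category.assoc, ← Spec.map_comp,
      ← CommRingCat.ofHom_comp]
    congr 3
    apply Ideal.Quotient.ringHom_ext
    ext x
    simp
  · rw [Category.assoc, hl.2, ← Category.assoc, ← Spec.map_comp, ← CommRingCat.ofHom_comp]

theorem Solves.unique [FormallyUnramified f] {B : Type u} [CommRing B] {ψ : A →+* B} {J : Ideal B}
    (hJ2 : J ^ 2 = ⊥)
    {hJ : I ≤ J.comap ψ} {l₁ l₂ : Spec (CommRingCat.of B) ⟶ X} (h₁ : Solves f I a b ψ J hJ l₁)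
    (h₂ : Solves f I a b ψ J hJ l₂) : l₁ = l₂ :=
  FormallyUnramified.hom_ext (thick J) (isNilpotent_ker_thick J hJ2) f (h₁.1.trans h₂.1.symm)
    (h₁.2.trans h₂.2.symm)

end Solves


theorem sq_map_eq_bot {A B : Type u} [CommRing A] [CommRing B] (φ : A →+* B) (I : Ideal A)
    (hI : I ^ 2 = ⊥) : (I.map φ) ^ 2 = ⊥ := by
  rw [← Ideal.map_pow, hI, Ideal.map_bot]

/-- Local existence of solutions of a lifting problem when `f` is affine-locally formally
smooth. -/
theorem exists_local_solution {X Y : Scheme.{u}} (f : X ⟶ Y)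
    (H : ∀ (U : X.Opens) (V : Y.Opens) (_ : IsAffineOpen U) (_ : IsAffineOpen V)
      (hUV : U ≤ f ⁻¹ᵁ V),
      letI := (f.appLE V U hUV).hom.toAlgebra
      Algebra.FormallySmooth Γ(Y, V) Γ(X, U))
    {A : Type u} [CommRing A] (I : Ideal A) (hI : I ^ 2 = ⊥)
    (a : Spec (CommRingCat.of (A ⧸ I)) ⟶ X) (b : Spec (CommRingCat.of A) ⟶ Y)
    (w : thick I ≫ b = a ≫ f) (p : PrimeSpectrum A) :
    ∃ s : A, p ∈ PrimeSpectrum.basicOpen s ∧
      ∃ l, Solves f I a b (algebraMap A (Localization.Away s))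
        (I.map (algebraMap A (Localization.Away s))) Ideal.le_comap_map l := by
  classical
  obtain ⟨q, hq⟩ := surjective_specMap_mk_of_sq_zero A I hI p
  have hfx : f.base (a.base q) = b.base p := by
    have := congrArg (fun φ : Spec (CommRingCat.of (A ⧸ I)) ⟶ Y => φ.base q) w
    rw [← hq]
    exact this.symm
  -- affine opens
  obtain ⟨_, ⟨V, hV, rfl⟩, hyV, -⟩ :=
    Y.isBasis_affineOpens.exists_subset_of_mem_open (Set.mem_univ (b.base p)) isOpen_univ
  have hxV : a.base q ∈ (f ⁻¹ᵁ V : X.Opens) := by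
    show f.base (a.base q) ∈ V
    rw [hfx]
    exact hyV
  obtain ⟨_, ⟨U, hU, rfl⟩, hxU, hUV : U ≤ f ⁻¹ᵁ V⟩ :=
    X.isBasis_affineOpens.exists_subset_of_mem_open hxV (f ⁻¹ᵁ V).isOpen
  -- the open neighbourhood of `p`
  have htclosed : IsClosedMap (thick I).base := (thick I).isClosedEmbedding.isClosedMap
  have htinj : Function.Injective (thick I).base := (thick I).isClosedEmbedding.injective
  let O₂ : Set (PrimeSpectrum A) := ((thick I).base '' (a.base ⁻¹' (U : Set X))ᶜ)ᶜ
  have hO₂ : IsOpen O₂ :=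
    (htclosed _ (U.isOpen.preimage a.continuous).isClosed_compl).isOpen_compl
  have hpO₂ : p ∈ O₂ := by
    rintro ⟨q', hq', hq'p⟩
    rw [← hq] at hq'p
    rw [htinj hq'p] at hq'
    exact hq' hxU
  have hO₂' : ∀ q', (thick I).base q' ∈ O₂ → a.base q' ∈ U := by
    intro q' hq'
    by_contra hcon
    exact hq' ⟨q', hcon, rfl⟩
  let O : Set (PrimeSpectrum A) := (b.base ⁻¹' (V : Set Y)) ∩ O₂
  have hO : IsOpen O := (V.isOpen.preimage b.continuous).inter hO₂
  have hpO : p ∈ O := ⟨hyV, hpO₂⟩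
  obtain ⟨_, ⟨_, ⟨s, rfl⟩, rfl⟩, hps, hsO⟩ :=
    PrimeSpectrum.isBasis_basic_opens.exists_subset_of_mem_open hpO hO
  refine ⟨s, hps, ?_⟩
  set B := Localization.Away s with hB
  set φ : A →+* B := algebraMap A B with hφ
  set J : Ideal B := I.map φ with hJ
  have hJ2 : J ^ 2 = ⊥ := sq_map_eq_bot φ I hI
  have hrangeφ : ∀ r : Spec (CommRingCat.of B),
      (Spec.map (CommRingCat.ofHom φ)).base r ∈ PrimeSpectrum.basicOpen s := by
    intro r
    have : (Spec.map (CommRingCat.ofHom φ)).base r ∈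
        Set.range (PrimeSpectrum.comap (algebraMap A B)) := ⟨r, rfl⟩
    rw [PrimeSpectrum.localization_away_comap_range B s] at this
    exact this
  -- factor `b_s` through `V`
  set b_s : Spec (CommRingCat.of B) ⟶ Y := Spec.map (CommRingCat.ofHom φ) ≫ b with hb_s
  have hb_range : Set.range b_s.base ⊆ Set.range hV.fromSpec.base := by
    rw [hV.range_fromSpec]
    rintro _ ⟨r, rfl⟩
    exact (hsO (hrangeφ r)).1
  set β := IsOpenImmersion.lift hV.fromSpec b_s hb_range with hβ
  have hβ_fac : β ≫ hV.fromSpec = b_s := IsOpenImmersion.lift_fac _ _ _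
  -- factor `a_s` through `U`
  set qm := Ideal.quotientMap J φ Ideal.le_comap_map with hqm
  set a_s : Spec (CommRingCat.of (B ⧸ J)) ⟶ X := Spec.map (CommRingCat.ofHom qm) ≫ a with ha_s
  have hsq : thick J ≫ Spec.map (CommRingCat.ofHom φ) =
      Spec.map (CommRingCat.ofHom qm) ≫ thick I := by
    unfold thick
    rw [← Spec.map_comp, ← Spec.map_comp, ← CommRingCat.ofHom_comp, ← CommRingCat.ofHom_comp,
      Ideal.quotientMap_comp_mk]
  have ha_range : Set.range a_s.base ⊆ Set.range hU.fromSpec.base := by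
    rw [hU.range_fromSpec]
    rintro _ ⟨r, rfl⟩
    apply hO₂'
    have h1 := congrArg (fun ψ : Spec (CommRingCat.of (B ⧸ J)) ⟶ Spec (CommRingCat.of A) =>
      ψ.base r) hsq
    have h2 : (thick I).base ((Spec.map (CommRingCat.ofHom qm)).base r) =
        (Spec.map (CommRingCat.ofHom φ)).base ((thick J).base r) := h1.symm
    have h3 : (thick I).base ((Spec.map (CommRingCat.ofHom qm)).base r) ∈ O₂ := by
      rw [h2]
      exact (hsO (hrangeφ _)).2
    exact h3
  set α := IsOpenImmersion.lift hU.fromSpec a_s ha_range with hα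
  have hα_fac : α ≫ hU.fromSpec = a_s := IsOpenImmersion.lift_fac _ _ _
  -- ring maps
  set β' : Γ(Y, V) ⟶ CommRingCat.of B := Spec.preimage β with hβ'
  set α' : Γ(X, U) ⟶ CommRingCat.of (B ⧸ J) := Spec.preimage α with hα'
  have hβ'm : Spec.map β' = β := Spec.map_preimage β
  have hα'm : Spec.map α' = α := Spec.map_preimage α
  have hcomm : f.appLE V U hUV ≫ α' = β' ≫ CommRingCat.ofHom (Ideal.Quotient.mk J) := by
    apply Spec.map_injective
    rw [Spec.map_comp, Spec.map_comp, hα'm, hβ'm, ← cancel_mono hV.fromSpec, Category.assoc,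
      Category.assoc, hV.SpecMap_appLE_fromSpec f hU hUV, ← Category.assoc, hα_fac, hβ_fac, hb_s,
      ha_s, Category.assoc, ← w, ← Category.assoc, ← Category.assoc]
    congr 1
    exact hsq.symm
  -- algebra structures
  letI := (f.appLE V U hUV).hom.toAlgebra
  letI : Algebra Γ(Y, V) B := β'.hom.toAlgebra
  have hsm : Algebra.FormallySmooth Γ(Y, V) Γ(X, U) := H U V hU hV hUV
  let g : Γ(X, U) →ₐ[Γ(Y, V)] B ⧸ J :=
    { α'.hom with
      commutes' := by
        intro r
        have := congrArg (fun ψ => ψ.hom r) hcomm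
        exact this }
  obtain ⟨γ, hγ⟩ := Algebra.FormallySmooth.exists_lift J ⟨2, hJ2⟩ g
  have hγ1 : CommRingCat.ofHom γ.toRingHom ≫ CommRingCat.ofHom (Ideal.Quotient.mk J) = α' := by
    ext x
    have := congrArg (fun ψ : Γ(X, U) →ₐ[Γ(Y, V)] B ⧸ J => ψ x) hγ
    exact this
  have hγ2 : f.appLE V U hUV ≫ CommRingCat.ofHom γ.toRingHom = β' := by
    ext r
    exact γ.commutes r
  refine ⟨Spec.map (CommRingCat.ofHom γ.toRingHom) ≫ hU.fromSpec, ?_, ?_⟩
  · show thick J ≫ Spec.map (CommRingCat.ofHom γ.toRingHom) ≫ hU.fromSpec = a_s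
    rw [← hα_fac, ← hα'm, ← hγ1, Spec.map_comp, Category.assoc]
  · show (Spec.map (CommRingCat.ofHom γ.toRingHom) ≫ hU.fromSpec) ≫ f = b_s
    rw [Category.assoc, ← hV.SpecMap_appLE_fromSpec f hU hUV, ← Category.assoc, ← Spec.map_comp,
      hγ2, hβ'm, hβ_fac]


theorem Solves.congr {X Y : Scheme.{u}} {f : X ⟶ Y} {A : Type u} [CommRing A] {I : Ideal A}
    {a : Spec (CommRingCat.of (A ⧸ I)) ⟶ X} {b : Spec (CommRingCat.of A) ⟶ Y}
    {B : Type u} [CommRing B] {ψ ψ' : A →+* B} (h : ψ = ψ') {J : Ideal B}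
    {hJ : I ≤ J.comap ψ} {l : Spec (CommRingCat.of B) ⟶ X} (hl : Solves f I a b ψ J hJ l) :
    Solves f I a b ψ' J (h ▸ hJ) l := by
  subst h
  exact hl

/-- Gluing local solutions of a lifting problem, for `f` formally unramified. -/
theorem exists_solution_of_local {X Y : Scheme.{u}} (f : X ⟶ Y) [FormallyUnramified f]
    {A : Type u} [CommRing A] (I : Ideal A) (hI : I ^ 2 = ⊥)
    (a : Spec (CommRingCat.of (A ⧸ I)) ⟶ X) (b : Spec (CommRingCat.of A) ⟶ Y)
    (hloc : ∀ p : PrimeSpectrum A, ∃ s : A, p ∈ PrimeSpectrum.basicOpen s ∧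
      ∃ l, Solves f I a b (algebraMap A (Localization.Away s))
        (I.map (algebraMap A (Localization.Away s))) Ideal.le_comap_map l) :
    ∃ l : Spec (CommRingCat.of A) ⟶ X, thick I ≫ l = a ∧ l ≫ f = b := by
  classical
  choose s hs l hl using hloc
  have hspan : Ideal.span (Set.range s) = ⊤ := by
    by_contra hne
    obtain ⟨m, hm, hle⟩ := Ideal.exists_le_maximal _ hne
    have := hs ⟨m, hm.isPrime⟩
    exact this (hle (Ideal.subset_span ⟨_, rfl⟩))
  let 𝒰 := Scheme.affineOpenCoverOfSpanRangeEqTop (R := CommRingCat.of A) s hspan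
  -- compatibility on overlaps
  have hcompat : ∀ i j : PrimeSpectrum A,
      Limits.pullback.fst (𝒰.openCover.f i) (𝒰.openCover.f j) ≫ l i =
        Limits.pullback.snd (𝒰.openCover.f i) (𝒰.openCover.f j) ≫ l j := by
    intro i j
    set P := Limits.pullback (𝒰.openCover.f i) (𝒰.openCover.f j) with hP
    have : IsAffine P := by
      rw [hP]
      exact inferInstanceAs (IsAffine (Limits.pullback (Spec.map _) (Spec.map _)))
    rw [← cancel_epi P.isoSpec.inv]
    set χi : CommRingCat.of (Localization.Away (s i)) ⟶ Γ(P, ⊤) :=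
      Spec.preimage (P.isoSpec.inv ≫ Limits.pullback.fst (𝒰.openCover.f i) (𝒰.openCover.f j))
      with hχi
    set χj : CommRingCat.of (Localization.Away (s j)) ⟶ Γ(P, ⊤) :=
      Spec.preimage (P.isoSpec.inv ≫ Limits.pullback.snd (𝒰.openCover.f i) (𝒰.openCover.f j))
      with hχj
    have hχi' : Spec.map χi = P.isoSpec.inv ≫ Limits.pullback.fst _ _ := Spec.map_preimage _
    have hχj' : Spec.map χj = P.isoSpec.inv ≫ Limits.pullback.snd _ _ := Spec.map_preimage _
    have hψ : χi.hom.comp (algebraMap A (Localization.Away (s i))) =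
        χj.hom.comp (algebraMap A (Localization.Away (s j))) := by
      have h1 : CommRingCat.ofHom (algebraMap A (Localization.Away (s i))) ≫ χi =
          CommRingCat.ofHom (algebraMap A (Localization.Away (s j))) ≫ χj := by
        apply Spec.map_injective
        rw [Spec.map_comp, Spec.map_comp, hχi', hχj']
        have hcond := Limits.pullback.condition (f := 𝒰.openCover.f i) (g := 𝒰.openCover.f j)
        exact (Category.assoc _ _ _).trans
          ((congrArg (fun m => P.isoSpec.inv ≫ m) hcond).trans (Category.assoc _ _ _).symm)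
      have h2 := congrArg (fun φ => φ.hom) h1
      exact h2
    set K : Ideal Γ(P, ⊤) := I.map (χi.hom.comp (algebraMap A (Localization.Away (s i)))) with hK
    have hK2 : K ^ 2 = ⊥ := sq_map_eq_bot _ I hI
    have hKi : I.map (algebraMap A (Localization.Away (s i))) ≤ K.comap χi.hom := by
      rw [← Ideal.map_le_iff_le_comap, Ideal.map_map]
    have hKj : I.map (algebraMap A (Localization.Away (s j))) ≤ K.comap χj.hom := by
      rw [← Ideal.map_le_iff_le_comap, Ideal.map_map, hK, hψ]
    have S1 := (hl i).restrict χi.hom K hKi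
    have S2 := ((hl j).restrict χj.hom K hKj).congr hψ.symm
    have huniq := S1.unique hK2 S2
    rw [CommRingCat.ofHom_hom, CommRingCat.ofHom_hom, hχi', hχj'] at huniq
    exact (Category.assoc _ _ _).symm.trans (huniq.trans (Category.assoc _ _ _))
  let L : Spec (CommRingCat.of A) ⟶ X := 𝒰.openCover.glueMorphisms l hcompat
  have hL : ∀ i, Spec.map (CommRingCat.ofHom (algebraMap A (Localization.Away (s i)))) ≫ L = l i :=
    fun i => 𝒰.openCover.ι_glueMorphisms l hcompat i
  refine ⟨L, ?_, ?_⟩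
  · -- check on the cover of `Spec (A ⧸ I)` by the images of the `s i`
    have hspan' : Ideal.span (Set.range fun i => Ideal.Quotient.mk I (s i)) = ⊤ := by
      have := congrArg (Ideal.map (Ideal.Quotient.mk I)) hspan
      rw [Ideal.map_span, Ideal.map_top, ← Set.range_comp] at this
      exact this
    let 𝒱 := Scheme.affineOpenCoverOfSpanRangeEqTop (R := CommRingCat.of (A ⧸ I))
      (fun i => Ideal.Quotient.mk I (s i)) hspan'
    apply 𝒱.openCover.hom_ext
    intro i
    show Spec.map (CommRingCat.ofHom (algebraMap (A ⧸ I)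
      (Localization.Away (Ideal.Quotient.mk I (s i))))) ≫ thick I ≫ L =
      Spec.map (CommRingCat.ofHom (algebraMap (A ⧸ I)
        (Localization.Away (Ideal.Quotient.mk I (s i))))) ≫ a
    set D := Localization.Away (Ideal.Quotient.mk I (s i)) with hD
    set φ := algebraMap A (Localization.Away (s i)) with hφ
    set J := I.map φ with hJ
    let g : A →+* D := (algebraMap (A ⧸ I) D).comp (Ideal.Quotient.mk I)
    have hg : IsUnit (g (s i)) := IsLocalization.Away.algebraMap_isUnit (Ideal.Quotient.mk I (s i))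
    let θ : Localization.Away (s i) →+* D := IsLocalization.Away.lift (s i) hg
    have hθφ : θ.comp φ = g := IsLocalization.Away.lift_comp (s i) hg
    have hθJ : ∀ x ∈ J, θ x = 0 := by
      intro x hx
      have : J ≤ RingHom.ker θ := by
        rw [hJ, Ideal.map_le_iff_le_comap]
        intro y hy
        rw [Ideal.mem_comap, RingHom.mem_ker, ← RingHom.comp_apply, hθφ]
        show algebraMap (A ⧸ I) D (Ideal.Quotient.mk I y) = 0
        rw [Ideal.Quotient.eq_zero_iff_mem.mpr hy, map_zero]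
      exact this hx
    let θ' : Localization.Away (s i) ⧸ J →+* D := Ideal.Quotient.lift J θ hθJ
    have hθ' : θ'.comp (Ideal.Quotient.mk J) = θ := Ideal.Quotient.lift_comp_mk J θ hθJ
    have e1 : Spec.map (CommRingCat.ofHom (algebraMap (A ⧸ I) D)) ≫ thick I =
        Spec.map (CommRingCat.ofHom θ) ≫ Spec.map (CommRingCat.ofHom φ) := by
      unfold thick
      rw [← Spec.map_comp, ← Spec.map_comp, ← CommRingCat.ofHom_comp, ← CommRingCat.ofHom_comp,
        hθφ]
    have e2 : Spec.map (CommRingCat.ofHom θ) = Spec.map (CommRingCat.ofHom θ') ≫ thick J := by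
      unfold thick
      rw [← Spec.map_comp, ← CommRingCat.ofHom_comp, hθ']
    have e3 : θ'.comp (Ideal.quotientMap J φ Ideal.le_comap_map) = algebraMap (A ⧸ I) D := by
      apply Ideal.Quotient.ringHom_ext
      ext x
      simp only [RingHom.comp_apply, Ideal.quotientMap_mk]
      show θ' (Ideal.Quotient.mk J (φ x)) = g x
      rw [← hθφ]
      exact Ideal.Quotient.lift_mk J θ hθJ
    rw [← Category.assoc, e1, Category.assoc, hL i, e2, Category.assoc, (hl i).1,
      ← Category.assoc, ← Spec.map_comp, ← CommRingCat.ofHom_comp, e3]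
  · apply 𝒰.openCover.hom_ext
    intro i
    show Spec.map (CommRingCat.ofHom (algebraMap A (Localization.Away (s i)))) ≫ L ≫ f =
      Spec.map (CommRingCat.ofHom (algebraMap A (Localization.Away (s i)))) ≫ b
    rw [← Category.assoc, hL i]
    exact (hl i).2


/-- A formally étale morphism (lifting against affine square-zero thickenings) is affine-locally
formally étale. -/
theorem formallyEtale_appLE_of_isFormallyEtaleHom {X Y : Scheme.{u}} (f : X ⟶ Y)
    (hf : MoreMor.IsFormallyEtaleHom f) (U : X.Opens) (V : Y.Opens) (hU : IsAffineOpen U)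
    (hV : IsAffineOpen V) (hUV : U ≤ f ⁻¹ᵁ V) :
    letI := (f.appLE V U hUV).hom.toAlgebra
    Algebra.FormallyEtale Γ(Y, V) Γ(X, U) := by
  letI := (f.appLE V U hUV).hom.toAlgebra
  rw [Algebra.FormallyEtale.iff_comp_bijective]
  intro B _ _ J hJ
  rw [Function.bijective_iff_existsUnique]
  intro g'
  set a := Spec.map (CommRingCat.ofHom g'.toRingHom) ≫ hU.fromSpec with ha
  set b := Spec.map (CommRingCat.ofHom (algebraMap Γ(Y, V) B)) ≫ hV.fromSpec with hb
  have hspec : ∀ (B' : Type u) [CommRing B'] [Algebra Γ(Y, V) B'] (g : Γ(X, U) →ₐ[Γ(Y, V)] B'),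
      (Spec.map (CommRingCat.ofHom g.toRingHom) ≫ hU.fromSpec) ≫ f =
        Spec.map (CommRingCat.ofHom (algebraMap Γ(Y, V) B')) ≫ hV.fromSpec := by
    intro B' _ _ g
    rw [Category.assoc, ← hV.SpecMap_appLE_fromSpec f hU hUV, ← Category.assoc, ← Spec.map_comp]
    congr 2
    ext r
    exact g.commutes r
  have w : thick J ≫ b = a ≫ f := by
    rw [ha, hspec (B ⧸ J) g', hb]
    unfold thick
    rw [← Category.assoc, ← Spec.map_comp, ← CommRingCat.ofHom_comp]
  obtain ⟨l, ⟨hl1, hl2⟩, hlu⟩ := hf B J hJ a b w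
  obtain ⟨l', hl'1, hl'2⟩ := exists_lift_openImmersion hU.fromSpec J hJ l
    (Spec.map (CommRingCat.ofHom g'.toRingHom)) hl1
  set g₀ := Spec.preimage l' with hg₀def
  have hg₀ : Spec.map g₀ = l' := Spec.map_preimage _
  have hcomm : f.appLE V U hUV ≫ g₀ = CommRingCat.ofHom (algebraMap Γ(Y, V) B) := by
    apply Spec.map_injective
    rw [Spec.map_comp, hg₀, ← cancel_mono hV.fromSpec, Category.assoc,
      hV.SpecMap_appLE_fromSpec f hU hUV, ← Category.assoc, hl'1, hl2]
  let g : Γ(X, U) →ₐ[Γ(Y, V)] B :=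
    { g₀.hom with commutes' := fun r => congrArg (fun ψ => ψ.hom r) hcomm }
  refine ⟨g, ?_, ?_⟩
  · have h1 : g₀ ≫ CommRingCat.ofHom (Ideal.Quotient.mk J) = CommRingCat.ofHom g'.toRingHom := by
      apply Spec.map_injective
      rw [Spec.map_comp, hg₀]
      exact hl'2
    ext x
    exact congrArg (fun ψ => ψ.hom x) h1
  · intro g'' hg''
    have h1 : Spec.map (CommRingCat.ofHom g''.toRingHom) ≫ hU.fromSpec = l := by
      apply hlu
      refine ⟨?_, hspec B g''⟩
      rw [← Category.assoc, ha]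
      rw [← Spec.map_comp, ← CommRingCat.ofHom_comp]
      congr 3
      ext x
      exact congrArg (fun ψ : Γ(X, U) →ₐ[Γ(Y, V)] B ⧸ J => ψ x) hg''
    have h2 : Spec.map (CommRingCat.ofHom g''.toRingHom) = Spec.map g₀ := by
      rw [← cancel_mono hU.fromSpec, h1, hg₀, hl'1]
    have h3 := Spec.map_injective h2
    ext x
    exact congrArg (fun ψ => ψ.hom x) h3

/-- An affine-locally formally étale morphism is formally étale (lifting against affine
square-zero thickenings). -/
theorem isFormallyEtaleHom_of_formallyEtale_appLE {X Y : Scheme.{u}} (f : X ⟶ Y)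
    (H : ∀ (U : X.Opens) (V : Y.Opens) (_ : IsAffineOpen U) (_ : IsAffineOpen V)
      (hUV : U ≤ f ⁻¹ᵁ V),
      letI := (f.appLE V U hUV).hom.toAlgebra
      Algebra.FormallyEtale Γ(Y, V) Γ(X, U)) :
    MoreMor.IsFormallyEtaleHom f := by
  have hunr : FormallyUnramified f := by
    refine ⟨fun {V} hV {U} hU hUV => ?_⟩
    have := H U V hU hV hUV
    letI := (f.appLE V U hUV).hom.toAlgebra
    show Algebra.FormallyUnramified Γ(Y, V) Γ(X, U)
    infer_instance
  intro A _ I hI a b w
  obtain ⟨l, hl1, hl2⟩ := exists_solution_of_local f I hI a b (fun p =>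
    exists_local_solution f (fun U V hU hV hUV => by
      have := H U V hU hV hUV
      letI := (f.appLE V U hUV).hom.toAlgebra
      infer_instance) I hI a b w p)
  refine ⟨l, ⟨hl1, hl2⟩, ?_⟩
  rintro l' ⟨hl'1, hl'2⟩
  exact FormallyUnramified.hom_ext (thick I) (isNilpotent_ker_thick I hI) f
    (hl'1.trans hl1.symm) (hl'2.trans hl2.symm)

end Groth.Agent.Lib.Helper11.FormalEtale
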