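import Mathlib
import Groth.Agent.Lib.Helper16.DepthExt

set_option autoImplicit false
universe u
open CategoryTheory CategoryTheory.Abelian

namespace Groth.Agent.Lib.Helper11.Acyc

open Groth.Agent.Lib.Helper16.Depth

variable {R : Type u} [CommRing R] [IsLocalRing R]

variable (R) in
/-- `Ext^j(k, M) = 0` -/
def EV (M : Type u) [AddCommGroup M] [Module R M] (j : ℕ) : Prop :=
  Subsingleton (Abelian.Ext (ModuleCat.of R (R ⧸ IsLocalRing.maximalIdeal R)) (ModuleCat.of R M) j)

section ses

variable {N' N N'' : Type u} [AddCommGroup N'] [Module R N'] [AddCommGroup N] [Module R N]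
  [AddCommGroup N''] [Module R N'']
  (f : N' →ₗ[R] N) (g : N →ₗ[R] N'') (hf : Function.Injective f) (hg : Function.Surjective g)
  (hfg : Function.Exact f g)

include hf hg hfg

theorem EV_right (j : ℕ) (h2 : EV R N j) (h1 : EV R N' (j + 1)) : EV R N'' j :=
  ext_X₃ (shortExact_of_linearMaps f g hf hg hfg) _ j h2 h1

theorem EV_left_zero (h2 : EV R N 0) : EV R N' 0 :=
  ext_X₁_zero (shortExact_of_linearMaps f g hf hg hfg) _ h2

end ses

theorem EV_of_subsingleton (M : Type u) [AddCommGroup M] [Module R M] [Subsingleton M] (j : ℕ) :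
    EV R M j := by
  have : Module.Finite R M := Module.Finite.of_surjective (0 : R →ₗ[R] M)
    (fun v => ⟨0, Subsingleton.elim _ _⟩)
  exact subsingleton_ext_of_smul_top_eq_top _ M (Subsingleton.elim _ _) j

theorem EV_congr {M N : Type u} [AddCommGroup M] [Module R M] [AddCommGroup N] [Module R N]
    (e : M ≃ₗ[R] N) (j : ℕ) (h : EV R M j) : EV R N j := by
  refine EV_right (0 : PUnit.{u+1} →ₗ[R] M) e.toLinearMap ?_ e.surjective ?_ j h
    (EV_of_subsingleton _ _)
  · intro a b _
    exact Subsingleton.elim _ _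
  · intro x
    constructor
    · intro hx
      refine ⟨0, ?_⟩
      rw [LinearMap.zero_apply]
      exact (e.injective (by rw [map_zero]; exact hx)).symm
    · rintro ⟨y, rfl⟩
      rw [LinearMap.zero_apply, map_zero]

/-- a module of finite length with `Hom(k, H) = 0` is zero -/
theorem subsingleton_of_EV_zero (H : Type u) [AddCommGroup H] [Module R H]
    (hfl : IsFiniteLength R H) (h : EV R H 0) : Subsingleton H := by
  by_contra hne
  rw [not_subsingleton_iff_nontrivial] at hne
  have hart : IsArtinian R H := (isFiniteLength_iff_isNoetherian_isArtinian.1 hfl).2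
  obtain ⟨S, hS⟩ := IsAtomic.exists_atom (Submodule R H)
  have hsimple : IsSimpleModule R S := isSimpleModule_iff_isAtom.2 hS
  obtain ⟨I, hI, ⟨e⟩⟩ := isSimpleModule_iff_quot_maximal.1 hsimple
  have hIm : I = IsLocalRing.maximalIdeal R := IsLocalRing.eq_maximalIdeal hI
  subst hIm
  let φ : (R ⧸ IsLocalRing.maximalIdeal R) →ₗ[R] H := S.subtype ∘ₗ e.symm.toLinearMap
  have hφ : Function.Injective φ := S.subtype_injective.comp e.symm.injective
  have hsub : Subsingleton (ModuleCat.of R (R ⧸ IsLocalRing.maximalIdeal R) ⟶ ModuleCat.of R H) :=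
    haveI : Subsingleton (Abelian.Ext (ModuleCat.of R (R ⧸ IsLocalRing.maximalIdeal R))
      (ModuleCat.of R H) 0) := h
    Abelian.Ext.homEquiv₀.symm.subsingleton
  have h0 : ModuleCat.ofHom φ = 0 := Subsingleton.elim _ _
  have h1 : φ 1 = 0 := by
    have := congr($h0 1)
    exact this
  have h2 : (1 : R ⧸ IsLocalRing.maximalIdeal R) = 0 := hφ (by rw [h1, map_zero])
  exact one_ne_zero h2

section main

variable (g : ℕ) (X : ℕ → Type u) [∀ i, AddCommGroup (X i)] [∀ i, Module R (X i)]
  (d : ∀ i, X i →ₗ[R] X (i + 1))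

/-- boundaries of a sequence of modules -/
def Bd : ∀ i, Submodule R (X i)
  | 0 => ⊥
  | (i + 1) => LinearMap.range (d i)

variable (hd : ∀ i x, d (i + 1) (d i x) = 0)

include hd in
lemma Bd_le_ker : ∀ i, Bd X d i ≤ LinearMap.ker (d i)
  | 0 => bot_le
  | (i + 1) => by
    rintro _ ⟨x, rfl⟩
    exact hd i x

lemma exact_ker_rangeRestrict (i : ℕ) :
    Function.Exact (LinearMap.ker (d i)).subtype (d i).rangeRestrict := by
  intro x
  constructor
  · intro hx
    refine ⟨⟨x, ?_⟩, rfl⟩
    rw [LinearMap.mem_ker]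
    exact congrArg Subtype.val hx
  · rintro ⟨y, rfl⟩
    apply Subtype.ext
    exact y.2

theorem EV_Bd (hX : ∀ i j, j < g → EV R (X i) j) :
    ∀ t, (∀ s, s < t → LinearMap.ker (d s) = Bd X d s) →
      ∀ j, j + t < g + 1 → EV R (Bd X d t) j := by
  intro t
  induction t with
  | zero =>
    intro _ j _
    show EV R (⊥ : Submodule R (X 0)) j
    exact EV_of_subsingleton _ _
  | succ t ih =>
    intro hker j hj
    have ih' := ih (fun s hs => hker s (Nat.lt_succ_of_lt hs)) (j + 1) (by omega)
    rw [← hker t (Nat.lt_succ_self t)] at ih'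
    show EV R (LinearMap.range (d t)) j
    exact EV_right (LinearMap.ker (d t)).subtype (d t).rangeRestrict
      (Submodule.subtype_injective _) (LinearMap.surjective_rangeRestrict _)
      (exact_ker_rangeRestrict X d t) j (hX t j (by omega)) ih'

include hd in
/-- **Acyclicity lemma** (Peskine–Szpiro), abstract form. -/
theorem ker_eq_Bd (hX : ∀ i j, j < g → EV R (X i) j)
    (hfl : ∀ i, IsFiniteLength R
      (LinearMap.ker (d i) ⧸ (Bd X d i).comap (LinearMap.ker (d i)).subtype)) :
    ∀ i, i < g → LinearMap.ker (d i) = Bd X d i := by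
  intro i
  induction i using Nat.strong_induction_on with
  | _ i ih =>
    intro hi
    have hs : ∀ s, s < i → LinearMap.ker (d s) = Bd X d s := fun s hs => ih s hs (by omega)
    have e1 := EV_Bd g X d hX i hs 1 (by omega)
    have e0 : EV R (LinearMap.ker (d i)) 0 :=
      EV_left_zero (LinearMap.ker (d i)).subtype (d i).rangeRestrict
        (Submodule.subtype_injective _) (LinearMap.surjective_rangeRestrict _)
        (exact_ker_rangeRestrict X d i) (hX i 0 (by omega))
    have hle := Bd_le_ker X d hd i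
    set Z := LinearMap.ker (d i) with hZ
    set B' := (Bd X d i).comap Z.subtype with hB'
    have e1' : EV R B' 1 := EV_congr (Submodule.comapSubtypeEquivOfLe hle).symm 1 e1
    have e2 : EV R (Z ⧸ B') 0 :=
      EV_right B'.subtype B'.mkQ (Submodule.subtype_injective _) (Submodule.mkQ_surjective _)
        (LinearMap.exact_subtype_mkQ B') 0 e0 e1'
    have hsub := subsingleton_of_EV_zero (Z ⧸ B') (hfl i) e2
    have htop : B' = ⊤ := Submodule.Quotient.subsingleton_iff.1 hsub
    refine le_antisymm ?_ hle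
    intro x hx
    have : (⟨x, hx⟩ : Z) ∈ B' := htop ▸ Submodule.mem_top
    exact this

end main

section complex

variable [IsNoetherianRing R]

/-- finite free modules inherit `Ext` vanishing from a regular sequence on `R` -/
theorem EV_of_free (g : ℕ) (hreg : HasRegSeq (IsLocalRing.maximalIdeal R) R g)
    (M : Type u) [AddCommGroup M] [Module R M] [Module.Finite R M] [Module.Free R M]
    (j : ℕ) (hj : j < g) : EV R M j := by
  obtain ⟨rs, hlen, hw, hmem⟩ := hreg
  have hwM : RingTheory.Sequence.IsWeaklyRegular M rs := by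
    have h1 : RingTheory.Sequence.IsWeaklyRegular (TensorProduct R R M) rs :=
      hw.isWeaklyRegular_rTensor
    exact ((TensorProduct.lid R M).isWeaklyRegular_congr rs).mp h1
  have h2 : (g : ℕ∞) ≤ LocCoh.idealDepth (IsLocalRing.maximalIdeal R) M :=
    (le_idealDepth_iff _ M g).2 (Or.inr ⟨rs, hlen, hwM, hmem⟩)
  exact (le_idealDepth_iff_ext' _ M g).1 h2 j hj

/-- homology of a short complex of modules as an explicit subquotient -/
noncomputable def scHomologyEquiv (S : ShortComplex (ModuleCat.{u} R)) :
    S.homology ≃ₗ[R] (LinearMap.ker S.g.hom ⧸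
      (LinearMap.range S.f.hom).comap (LinearMap.ker S.g.hom).subtype) :=
  S.moduleCatHomologyIso.toLinearEquiv ≪≫ₗ
    Submodule.quotEquivOfEq _ _ (LinearMap.range_codRestrict _ _ _)

/-- **Acyclicity lemma**: a cochain complex `K⁰ → K¹ → ⋯` of finite free modules over a
Noetherian local ring of depth `≥ g` whose cohomology has finite length is exact in degrees `< g`. -/
theorem isZero_homology_of_hasRegSeq (g : ℕ)
    (hreg : HasRegSeq (IsLocalRing.maximalIdeal R) R g)
    (K : CochainComplex (ModuleCat.{u} R) ℕ)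
    (hfree : ∀ i, Module.Free R (K.X i) ∧ Module.Finite R (K.X i))
    (hfl : ∀ i, IsFiniteLength R (K.homology i)) (i : ℕ) (hi : i < g) :
    Limits.IsZero (K.homology i) := by
  let X : ℕ → Type u := fun i => K.X i
  let d : ∀ i, X i →ₗ[R] X (i + 1) := fun i => (K.d i (i + 1)).hom
  have hd : ∀ i x, d (i + 1) (d i x) = 0 := fun i x =>
    congr($(K.d_comp_d i (i + 1) (i + 1 + 1)) x)
  have hX : ∀ i j, j < g → EV R (X i) j := fun i j hj =>
    haveI := (hfree i).1
    haveI := (hfree i).2
    EV_of_free g hreg (K.X i) j hj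
  have hH : ∀ i, Nonempty (K.homology i ≃ₗ[R]
      (LinearMap.ker (d i) ⧸ (Bd X d i).comap (LinearMap.ker (d i)).subtype)) := by
    intro i
    cases i with
    | zero =>
      let e1 := (ShortComplex.homologyMapIso
        (K.isoSc' 0 0 1 (by simp) (by simp))).toLinearEquiv
      let e2 := scHomologyEquiv (K.sc' 0 0 1)
      have h0 : LinearMap.range (K.sc' 0 0 1).f.hom = ⊥ := by
        show LinearMap.range (K.d 0 0).hom = ⊥
        rw [K.shape 0 0 (by simp), ModuleCat.hom_zero, LinearMap.range_zero]
      rw [h0] at e2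
      exact ⟨e1 ≪≫ₗ e2⟩
    | succ i =>
      let e1 := (ShortComplex.homologyMapIso
        (K.isoSc' i (i + 1) (i + 1 + 1) (by simp) (by simp))).toLinearEquiv
      let e2 := scHomologyEquiv (K.sc' i (i + 1) (i + 1 + 1))
      exact ⟨e1 ≪≫ₗ e2⟩
  have hfl' : ∀ i, IsFiniteLength R
      (LinearMap.ker (d i) ⧸ (Bd X d i).comap (LinearMap.ker (d i)).subtype) := fun i => by
    obtain ⟨e⟩ := hH i
    exact e.isFiniteLength (hfl i)
  have key := ker_eq_Bd g X d hd hX hfl' i hi
  obtain ⟨e⟩ := hH i
  have htop : (Bd X d i).comap (LinearMap.ker (d i)).subtype = ⊤ := by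
    rw [← key]
    ext x
    simp
  have hs : Subsingleton (LinearMap.ker (d i) ⧸
      (Bd X d i).comap (LinearMap.ker (d i)).subtype) :=
    Submodule.Quotient.subsingleton_iff.2 htop
  have : Subsingleton (K.homology i) := e.toEquiv.subsingleton
  exact ModuleCat.isZero_of_subsingleton _

end complex

end Groth.Agent.Lib.Helper11.Acyc
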