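import Mathlib
import Groth.Prelude.Def_Models

/-!
# Key lemmas on numerical types (Models of curves)

* `Q_nonpos`, `prop_of_Q_eq_zero`: the intersection form of a numerical type is negative semi-definite
  with kernel spanned by `m`.
* `sub_neg`: a proper sub-configuration is negative definite.
* `row_le`: the row inequalities `Σ_l a(v k)(v l) m(v l) ≤ 0`.
* edge lemmas.
-/

namespace Groth.Agent.Lib.Helper11.NumType

open Finset Models

lemma laplacian_identity {ι : Type*} [Fintype ι] (b : ι → ι → ℚ) (y : ι → ℚ)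
    (hrow : ∀ i, ∑ j, b i j = 0) (hcol : ∀ j, ∑ i, b i j = 0) :
    ∑ i, ∑ j, b i j * (y i - y j) ^ 2 = -2 * ∑ i, ∑ j, b i j * y i * y j := by
  have h1 : ∑ i, ∑ j, b i j * y i ^ 2 = 0 := by
    apply Finset.sum_eq_zero
    intro i _
    rw [← Finset.sum_mul, hrow, zero_mul]
  have h2 : ∑ i, ∑ j, b i j * y j ^ 2 = 0 := by
    rw [Finset.sum_comm]
    apply Finset.sum_eq_zero
    intro j _
    rw [← Finset.sum_mul, hcol, zero_mul]
  have h3 : ∑ i, ∑ j, b i j * (y i - y j) ^ 2 =
      ∑ i, ∑ j, b i j * y i ^ 2 + (-2 * ∑ i, ∑ j, b i j * y i * y j) + ∑ i, ∑ j, b i j * y j ^ 2 := by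
    rw [Finset.mul_sum, ← Finset.sum_add_distrib, ← Finset.sum_add_distrib]
    refine Finset.sum_congr rfl fun i _ => ?_
    rw [Finset.mul_sum, ← Finset.sum_add_distrib, ← Finset.sum_add_distrib]
    refine Finset.sum_congr rfl fun j _ => ?_
    ring
  rw [h3, h1, h2]
  ring

variable {n : ℕ} (T : NumericalType n)

/-- The intersection form. -/
def Q (x : Fin n → ℤ) : ℤ := ∑ i, ∑ j, T.a i j * x i * x j

lemma a_symm (i j : Fin n) : T.a i j = T.a j i := by
  have := T.symm
  exact (congrFun (congrFun this j) i).symm ▸ rfl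

lemma row_sum (i : Fin n) : ∑ j, T.a i j * T.m j = 0 := by
  have := congrFun T.mulVec_m i
  simpa [Matrix.mulVec, dotProduct] using this

/-- the rational auxiliary matrix `b i j = a i j * m i * m j` -/
noncomputable def b (i j : Fin n) : ℚ := (T.a i j : ℚ) * T.m i * T.m j

lemma b_row (i : Fin n) : ∑ j, b T i j = 0 := by
  have h := row_sum T i
  have : ∑ j, b T i j = (T.m i : ℚ) * ((∑ j, T.a i j * T.m j : ℤ) : ℚ) := by
    push_cast
    rw [Finset.mul_sum]
    refine Finset.sum_congr rfl fun j _ => ?_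
    unfold b
    ring
  rw [this, h]
  simp

lemma b_symm (i j : Fin n) : b T i j = b T j i := by
  unfold b
  rw [a_symm T i j]
  ring

lemma b_col (j : Fin n) : ∑ i, b T i j = 0 := by
  rw [← b_row T j]
  exact Finset.sum_congr rfl fun i _ => b_symm T i j

lemma m_ne (i : Fin n) : (T.m i : ℚ) ≠ 0 := by
  have := T.m_pos i
  exact_mod_cast this.ne'

lemma b_term_nonneg (y : Fin n → ℚ) (i j : Fin n) : 0 ≤ b T i j * (y i - y j) ^ 2 := by
  by_cases h : i = j
  · subst h; simp
  · apply mul_nonneg _ (sq_nonneg _)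
    unfold b
    have h1 := T.offDiag_nonneg i j h
    have h2 := T.m_pos i
    have h3 := T.m_pos j
    have : (0 : ℚ) ≤ (T.a i j : ℚ) := by exact_mod_cast h1
    have : (0 : ℚ) < (T.m i : ℚ) := by exact_mod_cast h2
    have : (0 : ℚ) < (T.m j : ℚ) := by exact_mod_cast h3
    positivity

lemma Q_cast (x : Fin n → ℤ) :
    ((Q T x : ℤ) : ℚ) = ∑ i, ∑ j, b T i j * ((x i : ℚ) / T.m i) * ((x j : ℚ) / T.m j) := by
  unfold Q
  push_cast
  refine Finset.sum_congr rfl fun i _ => Finset.sum_congr rfl fun j _ => ?_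
  unfold b
  have hi := m_ne T i
  have hj := m_ne T j
  field_simp

lemma Q_eq (x : Fin n → ℤ) :
    -2 * ((Q T x : ℤ) : ℚ) =
      ∑ i, ∑ j, b T i j * ((x i : ℚ) / T.m i - (x j : ℚ) / T.m j) ^ 2 := by
  rw [Q_cast, laplacian_identity (b T) (fun i => (x i : ℚ) / T.m i) (b_row T) (b_col T)]

/-- The intersection form is negative semi-definite. -/
theorem Q_nonpos (x : Fin n → ℤ) : Q T x ≤ 0 := by
  have h := Q_eq T x
  have h2 : (0 : ℚ) ≤ ∑ i, ∑ j, b T i j * ((x i : ℚ) / T.m i - (x j : ℚ) / T.m j) ^ 2 :=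
    Finset.sum_nonneg fun i _ => Finset.sum_nonneg fun j _ =>
      b_term_nonneg T (fun i => (x i : ℚ) / T.m i) i j
  have h3 : ((Q T x : ℤ) : ℚ) ≤ 0 := by linarith
  exact_mod_cast h3

/-- If `Q x = 0` then `x` is proportional to `m`. -/
theorem prop_of_Q_eq_zero (x : Fin n → ℤ) (hx : Q T x = 0) (i j : Fin n) :
    x i * T.m j = x j * T.m i := by
  have h := Q_eq T x
  rw [hx] at h
  simp only [Int.cast_zero, mul_zero] at h
  set y : Fin n → ℚ := fun i => (x i : ℚ) / T.m i with hy
  have hterm : ∀ i j, b T i j * (y i - y j) ^ 2 = 0 := by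
    intro i j
    have h1 := (Finset.sum_eq_zero_iff_of_nonneg
      (fun i _ => Finset.sum_nonneg fun j _ => b_term_nonneg T y i j)).1 h.symm i (Finset.mem_univ _)
    exact (Finset.sum_eq_zero_iff_of_nonneg (fun j _ => b_term_nonneg T y i j)).1 h1 j
      (Finset.mem_univ _)
  have hadj : ∀ i j, i ≠ j → T.a i j ≠ 0 → y i = y j := by
    intro i j hij ha
    have h1 := hterm i j
    have hb : b T i j ≠ 0 := by
      unfold b
      have : (T.a i j : ℚ) ≠ 0 := by exact_mod_cast ha
      exact mul_ne_zero (mul_ne_zero this (m_ne T i)) (m_ne T j)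
    have h2 : (y i - y j) ^ 2 = 0 := by
      rcases mul_eq_zero.1 h1 with h | h
      · exact absurd h hb
      · exact h
    have h3 : y i - y j = 0 := by simpa using h2
    linarith
  -- connectedness
  have hconst : ∀ i₀ i : Fin n, y i = y i₀ := by
    intro i₀ i
    by_contra hne
    let I : Finset (Fin n) := Finset.univ.filter fun k => y k = y i₀
    have hI1 : I.Nonempty := ⟨i₀, by simp [I]⟩
    have hI2 : I ≠ Finset.univ := by
      intro h
      have : i ∈ I := h ▸ Finset.mem_univ i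
      simp only [I, Finset.mem_filter, Finset.mem_univ, true_and] at this
      exact hne this
    obtain ⟨p, hp, q, hq, hpq⟩ := T.connected I hI1 hI2
    simp only [I, Finset.mem_filter, Finset.mem_univ, true_and] at hp hq
    have hne' : p ≠ q := by
      rintro rfl
      exact hq hp
    exact hq ((hadj p q hne' hpq).symm.trans hp)
  have h1 := hconst j i
  simp only [hy] at h1
  have hi := m_ne T i
  have hj := m_ne T j
  rw [div_eq_div_iff hi hj] at h1
  exact_mod_cast h1

/-- A nonzero vector with a zero coordinate has negative self-intersection. -/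
theorem Q_neg (x : Fin n → ℤ) (k l : Fin n) (hk : x k = 0) (hl : x l ≠ 0) : Q T x < 0 := by
  rcases lt_or_eq_of_le (Q_nonpos T x) with h | h
  · exact h
  · exfalso
    have := prop_of_Q_eq_zero T x h l k
    rw [hk, zero_mul] at this
    rcases mul_eq_zero.1 this with h1 | h1
    · exact hl h1
    · exact (T.m_pos k).ne' h1

/-- The vector supported on the image of `v` with coefficients `c`. -/
def vec {r : ℕ} (v : Fin r ↪ Fin n) (c : Fin r → ℤ) : Fin n → ℤ :=
  fun i => ∑ k, if v k = i then c k else 0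

lemma vec_apply {r : ℕ} (v : Fin r ↪ Fin n) (c : Fin r → ℤ) (k : Fin r) : vec v c (v k) = c k := by
  unfold vec
  rw [Finset.sum_eq_single k]
  · simp
  · intro l _ hl
    rw [if_neg]
    intro h
    exact hl (v.injective h)
  · intro h
    exact absurd (Finset.mem_univ k) h

lemma vec_apply_of_not_mem {r : ℕ} (v : Fin r ↪ Fin n) (c : Fin r → ℤ) (i : Fin n)
    (hi : ∀ k, v k ≠ i) : vec v c i = 0 := by
  unfold vec
  apply Finset.sum_eq_zero
  intro k _
  rw [if_neg (hi k)]

lemma sum_mul_vec {r : ℕ} (v : Fin r ↪ Fin n) (c : Fin r → ℤ) (g : Fin n → ℤ) :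
    ∑ i, g i * vec v c i = ∑ k, g (v k) * c k := by
  unfold vec
  simp only [Finset.mul_sum]
  rw [Finset.sum_comm]
  refine Finset.sum_congr rfl fun k _ => ?_
  rw [Finset.sum_eq_single (v k)]
  · simp
  · intro i _ hi
    rw [if_neg (fun h => hi h.symm), mul_zero]
  · intro h
    exact absurd (Finset.mem_univ _) h

lemma Q_vec {r : ℕ} (v : Fin r ↪ Fin n) (c : Fin r → ℤ) :
    Q T (vec v c) = ∑ k, ∑ l, T.a (v k) (v l) * c k * c l := by
  unfold Q
  have h1 : ∀ i, ∑ j, T.a i j * vec v c i * vec v c j = ∑ l, T.a i (v l) * vec v c i * c l := by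
    intro i
    exact sum_mul_vec v c (fun j => T.a i j * vec v c i)
  simp only [h1]
  rw [Finset.sum_comm]
  have h2 : ∀ l, ∑ i, T.a i (v l) * vec v c i * c l = ∑ k, T.a (v k) (v l) * c k * c l := by
    intro l
    have := sum_mul_vec v c (fun i => T.a i (v l) * c l)
    calc ∑ i, T.a i (v l) * vec v c i * c l = ∑ i, T.a i (v l) * c l * vec v c i :=
          Finset.sum_congr rfl fun i _ => by ring
      _ = ∑ k, T.a (v k) (v l) * c l * c k := this
      _ = _ := Finset.sum_congr rfl fun k _ => by ring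
  simp only [h2]
  rw [Finset.sum_comm]

lemma exists_not_mem {r : ℕ} (v : Fin r ↪ Fin n) (hr : r < n) : ∃ i : Fin n, ∀ k, v k ≠ i := by
  by_contra h
  have hs : Function.Surjective v := by
    intro i
    by_contra hi
    exact h ⟨i, fun k hk => hi ⟨k, hk⟩⟩
  have := Fintype.card_le_of_surjective v hs
  simp at this
  omega

/-- A proper sub-configuration is negative definite. -/
theorem sub_neg {r : ℕ} (v : Fin r ↪ Fin n) (hr : r < n) (c : Fin r → ℤ) (k₀ : Fin r)
    (hc : c k₀ ≠ 0) : ∑ k, ∑ l, T.a (v k) (v l) * c k * c l < 0 := by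
  rw [← Q_vec]
  obtain ⟨i, hi⟩ := exists_not_mem v hr
  exact Q_neg T _ i (v k₀) (vec_apply_of_not_mem v c i hi) (by rw [vec_apply]; exact hc)

/-- Row inequalities for a sub-configuration. -/
theorem row_le {r : ℕ} (v : Fin r ↪ Fin n) (k : Fin r) :
    ∑ l, T.a (v k) (v l) * T.m (v l) ≤ 0 := by
  have h := row_sum T (v k)
  have h1 : ∑ l, T.a (v k) (v l) * T.m (v l) =
      ∑ j ∈ Finset.univ.map v, T.a (v k) j * T.m j := by
    rw [Finset.sum_map]
  have h2 := Finset.sum_add_sum_compl (Finset.univ.map v) (fun j => T.a (v k) j * T.m j)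
  have h3 : 0 ≤ ∑ j ∈ (Finset.univ.map v)ᶜ, T.a (v k) j * T.m j := by
    apply Finset.sum_nonneg
    intro j hj
    have hne : v k ≠ j := by
      rintro rfl
      simp at hj
    exact mul_nonneg (T.offDiag_nonneg _ _ hne) (T.m_pos j).le
  rw [h1]
  linarith

/-! ### Edge lemmas -/

lemma edge_pos {i j : Fin n} (hij : i ≠ j) (h : T.a i j ≠ 0) : 0 < T.a i j :=
  lt_of_le_of_ne (T.offDiag_nonneg i j hij) (Ne.symm h)

lemma w_le_left {i j : Fin n} (h : 0 < T.a i j) : T.w i ≤ T.a i j :=
  Int.le_of_dvd h (T.w_dvd i j)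

lemma w_le_right {i j : Fin n} (h : 0 < T.a i j) : T.w j ≤ T.a i j := by
  rw [a_symm T i j] at h ⊢
  exact Int.le_of_dvd h (T.w_dvd j i)

lemma w_dvd_right (i j : Fin n) : T.w j ∣ T.a i j := by
  rw [a_symm T i j]
  exact T.w_dvd j i

/-- Two adjacent (-2)-indices in a numerical type with more than two indices. -/
theorem two_cases (hn : 2 < n) {i j : Fin n} (hij : i ≠ j) (hi : T.IsMinusTwo i)
    (hj : T.IsMinusTwo j) (h : 0 < T.a i j) :
    (T.a i j = T.w i ∧ T.a i j = T.w j) ∨
    (T.a i j = T.w i ∧ T.a i j = 2 * T.w j) ∨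
    (T.a i j = 2 * T.w i ∧ T.a i j = T.w j) ∨
    (T.a i j = T.w i ∧ T.a i j = 3 * T.w j) ∨
    (T.a i j = 3 * T.w i ∧ T.a i j = T.w j) := by
  obtain ⟨p, hp⟩ := T.w_dvd i j
  obtain ⟨q, hq⟩ := w_dvd_right T i j
  have hwi := T.w_pos i
  have hwj := T.w_pos j
  set a := T.a i j with ha
  let v : Fin 2 ↪ Fin n := ⟨![i, j], by
    intro x y hxy
    fin_cases x <;> fin_cases y <;> simp_all⟩
  have key := sub_neg T v hn ![a, 2 * T.w i] 0 (by simp; exact h.ne')
  simp only [Fin.sum_univ_two] at key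
  have hv0 : v 0 = i := rfl
  have hv1 : v 1 = j := rfl
  simp only [hv0, hv1, Matrix.cons_val_zero, Matrix.cons_val_one] at key
  rw [hi.2, hj.2, a_symm T j i, ← ha] at key
  have key2 : 2 * T.w i * (a * a - 4 * T.w i * T.w j) < 0 := by nlinarith
  have key3 : a * a < 4 * T.w i * T.w j := by nlinarith
  have hp0 : 0 < p := by
    by_contra hneg
    push Not at hneg
    have : T.w i * p ≤ 0 := mul_nonpos_of_nonneg_of_nonpos hwi.le hneg
    linarith
  have hq0 : 0 < q := by
    by_contra hneg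
    push Not at hneg
    have : T.w j * q ≤ 0 := mul_nonpos_of_nonneg_of_nonpos hwj.le hneg
    linarith
  have hpq : p * q < 4 := by
    have h1 : a * a = (T.w i * T.w j) * (p * q) := by
      calc a * a = (T.w i * p) * (T.w j * q) := by rw [← hp, ← hq]
        _ = _ := by ring
    have h2 : 0 < T.w i * T.w j := mul_pos hwi hwj
    by_contra hge
    push Not at hge
    have : (T.w i * T.w j) * 4 ≤ (T.w i * T.w j) * (p * q) := mul_le_mul_of_nonneg_left hge h2.le
    linarith
  have hp3 : p ≤ 3 := by nlinarith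
  have hq3 : q ≤ 3 := by nlinarith
  interval_cases p <;> interval_cases q <;> simp_all <;> omega


/-- Edge classification for an embedded configuration of (-2)-indices. -/
theorem edge_cases {r : ℕ} (v : Fin r ↪ Fin n) (hr : r < n) (hv : ∀ j, T.IsMinusTwo (v j))
    {k l : Fin r} (hkl : k ≠ l) (h : 0 < T.a (v k) (v l)) :
    (T.a (v k) (v l) = T.w (v k) ∧ T.a (v k) (v l) = T.w (v l)) ∨
    (T.a (v k) (v l) = T.w (v k) ∧ T.a (v k) (v l) = 2 * T.w (v l)) ∨
    (T.a (v k) (v l) = 2 * T.w (v k) ∧ T.a (v k) (v l) = T.w (v l)) ∨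
    (T.a (v k) (v l) = T.w (v k) ∧ T.a (v k) (v l) = 3 * T.w (v l)) ∨
    (T.a (v k) (v l) = 3 * T.w (v k) ∧ T.a (v k) (v l) = T.w (v l)) := by
  have h2 : 2 < n := by
    have : 1 < r := by
      rcases k with ⟨k, hk⟩
      rcases l with ⟨l, hl⟩
      have : k ≠ l := fun h => hkl (by subst h; rfl)
      omega
    omega
  exact two_cases T h2 (fun h => hkl (v.injective h)) (hv k) (hv l) h

theorem sum_univ_nine {M : Type*} [AddCommMonoid M] (f : Fin 9 → M) :
    ∑ i, f i = f 0 + f 1 + f 2 + f 3 + f 4 + f 5 + f 6 + f 7 + f 8 := by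
  rw [Fin.sum_univ_castSucc, Fin.sum_univ_eight]
  rfl

/-- A non-negative multiple of `w` which is smaller than `w` vanishes. -/
lemma eq_zero_of_dvd_of_lt {w a : ℤ} (hd : w ∣ a) (h0 : 0 ≤ a) (hlt : a < w) : a = 0 :=
  Int.eq_zero_of_dvd_of_nonneg_of_lt h0 hlt hd

end Groth.Agent.Lib.Helper11.NumType
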