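import Mathlib.RingTheory.Henselian
import Mathlib.RingTheory.Ideal.Quotient.Operations
import Mathlib.RingTheory.Jacobson.Ideal
import Mathlib.RingTheory.Nilpotent.Lemmas
import Mathlib.RingTheory.KrullDimension.Basic
import Mathlib.Algebra.Polynomial.Lifts
import Mathlib.Tactic

set_option autoImplicit false
universe u

namespace Groth.Agent.Lib.Helper11

open Polynomial

/-- A ring is adically complete with respect to a nilpotent ideal. -/
theorem isAdicComplete_of_pow_eq_bot {A : Type u} [CommRing A] (J : Ideal A) (n : ℕ)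
    (hn : J ^ n = ⊥) : IsAdicComplete J A := by
  have hbot : ∀ m, n ≤ m → (J ^ m • ⊤ : Ideal A) = ⊥ := by
    intro m hm
    have : J ^ m ≤ J ^ n := Ideal.pow_le_pow_right hm
    rw [hn, le_bot_iff] at this
    rw [this]; simp
  refine { toIsHausdorff := ⟨?_⟩, toIsPrecomplete := ⟨?_⟩ }
  · intro x hx
    have := hx n
    rw [hbot n le_rfl, SModEq.bot] at this
    exact this
  · intro f hf
    refine ⟨f n, fun m => ?_⟩
    rcases le_total m n with h | h
    · exact hf h
    · have := hf h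
      rw [hbot n le_rfl, SModEq.bot] at this
      rw [this]

/-- A unit modulo an ideal contained in the Jacobson radical is a unit. -/
theorem isUnit_of_isUnit_mk {A : Type u} [CommRing A] (I : Ideal A) (hI : I ≤ Ideal.jacobson ⊥)
    {a : A} (h : IsUnit (Ideal.Quotient.mk I a)) : IsUnit a :=
  have := isLocalHom_of_le_jacobson_bot I hI
  IsUnit.of_map (Ideal.Quotient.mk I) a h

theorem le_jacobson_bot_of_locally_nilpotent {A : Type u} [CommRing A] (I : Ideal A)
    (hI : ∀ x ∈ I, IsNilpotent x) : I ≤ Ideal.jacobson ⊥ := by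
  intro x hx
  have h1 : x ∈ nilradical A := (mem_nilradical).2 (hI x hx)
  have h2 := nilradical_le_jacobson A h1
  rwa [← Ideal.jacobson_bot] at h2

theorem henselianRing_of_locally_nilpotent {A : Type u} [CommRing A] (I : Ideal A)
    (hI : ∀ x ∈ I, IsNilpotent x) : HenselianRing A I := by
  have hjac := le_jacobson_bot_of_locally_nilpotent I hI
  refine ⟨hjac, ?_⟩
  intro f hf a₀ h₁ h₂
  set J : Ideal A := Ideal.span {f.eval a₀} with hJ
  have hJI : J ≤ I := by
    rw [hJ, Ideal.span_le]; simpa using h₁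
  obtain ⟨n, hn⟩ := hI _ h₁
  have hJn : J ^ n = ⊥ := by
    rw [hJ, Ideal.span_singleton_pow, hn]; simp
  have := isAdicComplete_of_pow_eq_bot J n hJn
  have hu : IsUnit (f.derivative.eval a₀) := isUnit_of_isUnit_mk I hjac h₂
  obtain ⟨a, ha, ha'⟩ := HenselianRing.is_henselian (I := J) f hf a₀
    (Ideal.subset_span rfl) (hu.map _)
  exact ⟨a, ha, hJI ha'⟩

/-- Evaluation of a polynomial is compatible with congruence modulo an ideal. -/
theorem mk_eval_eq_of_sub_mem {A : Type u} [CommRing A] (J : Ideal A) (f : A[X]) {a b : A}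
    (h : a - b ∈ J) : Ideal.Quotient.mk J (f.eval a) = Ideal.Quotient.mk J (f.eval b) := by
  have h1 : a ≡ b [SMOD J] := SModEq.sub_mem.2 h
  exact SModEq.def.mp (h1.eval f)

theorem mk_eval_map {A : Type u} [CommRing A] (I : Ideal A) (f : A[X]) (a : A) :
    (f.map (Ideal.Quotient.mk I)).eval (Ideal.Quotient.mk I a) =
      Ideal.Quotient.mk I (f.eval a) := by
  rw [Polynomial.eval_map, Polynomial.eval₂_at_apply]

/-- Henselian at `J` implies Henselian at any smaller ideal. -/
theorem henselianRing_of_le {A : Type u} [CommRing A] {I J : Ideal A} (hIJ : I ≤ J)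
    (hJ : HenselianRing A J) : HenselianRing A I := by
  have hjacJ := hJ.jac
  have hjac : I ≤ Ideal.jacobson ⊥ := hIJ.trans hjacJ
  refine ⟨hjac, ?_⟩
  intro f hf a₀ h₁ h₂
  have hu : IsUnit (f.derivative.eval a₀) := isUnit_of_isUnit_mk I hjac h₂
  obtain ⟨a, ha, ha'⟩ := hJ.is_henselian f hf a₀ (hIJ h₁) (hu.map _)
  refine ⟨a, ha, ?_⟩
  obtain ⟨c, hc⟩ := exists_mul_sq_add_linear_part_eq_eval_add f a₀ (a - a₀)
  have hroot : f.eval (a₀ + (a - a₀)) = 0 := by simpa using ha
  rw [hroot] at hc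
  have hunit : IsUnit (c * (a - a₀) + f.derivative.eval a₀) := by
    apply isUnit_of_isUnit_mk J hjacJ
    have : Ideal.Quotient.mk J (c * (a - a₀) + f.derivative.eval a₀) =
        Ideal.Quotient.mk J (f.derivative.eval a₀) := by
      rw [Ideal.Quotient.eq]; simpa using J.mul_mem_left c ha'
    rw [this]; exact hu.map _
  have hmem : (c * (a - a₀) + f.derivative.eval a₀) * (a - a₀) ∈ I := by
    have : (c * (a - a₀) + f.derivative.eval a₀) * (a - a₀) = - f.eval a₀ := by
      linear_combination hc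
    rw [this]; exact I.neg_mem h₁
  obtain ⟨u, hu'⟩ := hunit
  rw [← hu'] at hmem
  exact (Ideal.unit_mul_mem_iff_mem I u.isUnit).1 hmem

/-- Henselian at `J` passes to the quotient by a smaller ideal. -/
theorem henselianRing_quotient_of_le {A : Type u} [CommRing A] {I J : Ideal A} (hIJ : I ≤ J)
    (hJ : HenselianRing A J) :
    HenselianRing (A ⧸ I) (Ideal.map (Ideal.Quotient.mk I) J) := by
  refine ⟨?_, ?_⟩
  · intro x hx
    obtain ⟨y, hy, rfl⟩ := (Ideal.mem_map_iff_of_surjective _ Ideal.Quotient.mk_surjective).1 hx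
    rw [Ideal.mem_jacobson_bot]
    intro z
    obtain ⟨z, rfl⟩ := Ideal.Quotient.mk_surjective z
    have := (Ideal.mem_jacobson_bot.1 (hJ.jac hy)) z
    simpa using this.map (Ideal.Quotient.mk I)
  · intro f hf a₀ h₁ h₂
    obtain ⟨g, hg, -, hgm⟩ := Polynomial.lifts_and_natDegree_eq_and_monic
      (Polynomial.mem_lifts_of_surjective (f := Ideal.Quotient.mk I)
        Ideal.Quotient.mk_surjective f) hf
    obtain ⟨a₀, rfl⟩ := Ideal.Quotient.mk_surjective a₀
    subst hg
    rw [mk_eval_map, Ideal.mem_quotient_iff_mem hIJ] at h₁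
    rw [Polynomial.derivative_map, mk_eval_map] at h₂
    have hu : IsUnit (Ideal.Quotient.mk J (g.derivative.eval a₀)) := by
      rw [isUnit_iff_exists_inv] at h₂ ⊢
      obtain ⟨b, hb⟩ := h₂
      obtain ⟨b, rfl⟩ := Ideal.Quotient.mk_surjective b
      obtain ⟨b, rfl⟩ := Ideal.Quotient.mk_surjective b
      refine ⟨Ideal.Quotient.mk J b, ?_⟩
      rw [← map_mul, ← map_mul, ← map_one (Ideal.Quotient.mk _), Ideal.Quotient.eq,
        ← map_one (Ideal.Quotient.mk I), ← map_sub, Ideal.mem_quotient_iff_mem hIJ] at hb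
      rw [← map_mul, ← map_one (Ideal.Quotient.mk J), Ideal.Quotient.eq]
      exact hb
    obtain ⟨a, ha, ha'⟩ := hJ.is_henselian g hgm a₀ h₁ hu
    refine ⟨Ideal.Quotient.mk I a, ?_, ?_⟩
    · rw [Polynomial.IsRoot.def, mk_eval_map, ha, map_zero]
    · rw [← map_sub]; exact Ideal.mem_map_of_mem _ ha'

/-- Henselian at `I` and the quotient Henselian at `J / I` implies Henselian at `J`. -/
theorem henselianRing_of_quotient {A : Type u} [CommRing A] {I J : Ideal A} (hIJ : I ≤ J)
    (hI : HenselianRing A I)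
    (hJ : HenselianRing (A ⧸ I) (Ideal.map (Ideal.Quotient.mk I) J)) :
    HenselianRing A J := by
  have hjac : J ≤ Ideal.jacobson ⊥ := by
    intro x hx
    rw [Ideal.mem_jacobson_bot]
    intro y
    apply isUnit_of_isUnit_mk I hI.jac
    have := (Ideal.mem_jacobson_bot.1 (hJ.jac (Ideal.mem_map_of_mem _ hx)))
      (Ideal.Quotient.mk I y)
    simpa using this
  refine ⟨hjac, ?_⟩
  intro f hf a₀ h₁ h₂
  have hu : IsUnit (f.derivative.eval a₀) := isUnit_of_isUnit_mk J hjac h₂
  obtain ⟨a₁, ha₁, ha₁'⟩ := hJ.is_henselian (f.map (Ideal.Quotient.mk I)) (hf.map _)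
    (Ideal.Quotient.mk I a₀) (by rw [mk_eval_map]; exact Ideal.mem_map_of_mem _ h₁)
    (by rw [Polynomial.derivative_map, mk_eval_map]; exact (hu.map _).map _)
  obtain ⟨a₁, rfl⟩ := Ideal.Quotient.mk_surjective a₁
  rw [Polynomial.IsRoot.def, mk_eval_map, Ideal.Quotient.eq_zero_iff_mem] at ha₁
  rw [← map_sub, Ideal.mem_quotient_iff_mem hIJ] at ha₁'
  have hu₁ : IsUnit (f.derivative.eval a₁) := by
    apply isUnit_of_isUnit_mk J hjac
    rw [mk_eval_eq_of_sub_mem J f.derivative ha₁']
    exact h₂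
  obtain ⟨a, ha, ha'⟩ := hI.is_henselian f hf a₁ ha₁ (hu₁.map _)
  refine ⟨a, ha, ?_⟩
  have : a - a₀ = (a - a₁) + (a₁ - a₀) := by ring
  rw [this]
  exact J.add_mem (hIJ ha') ha₁'

theorem henselianRing_iff_of_le {A : Type u} [CommRing A] (I J : Ideal A) (hIJ : I ≤ J) :
    HenselianRing A J ↔
      (HenselianRing A I ∧ HenselianRing (A ⧸ I) (Ideal.map (Ideal.Quotient.mk I) J)) :=
  ⟨fun h => ⟨henselianRing_of_le hIJ h, henselianRing_quotient_of_le hIJ h⟩,
    fun h => henselianRing_of_quotient hIJ h.1 h.2⟩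

theorem henselianRing_radical_iff {A : Type u} [CommRing A] (I : Ideal A) :
    HenselianRing A I.radical ↔ HenselianRing A I := by
  rw [henselianRing_iff_of_le I I.radical Ideal.le_radical]
  refine ⟨fun h => h.1, fun h => ⟨h, ?_⟩⟩
  apply henselianRing_of_locally_nilpotent
  intro x hx
  obtain ⟨y, hy, rfl⟩ := (Ideal.mem_map_iff_of_surjective _ Ideal.Quotient.mk_surjective).1 hx
  obtain ⟨n, hn⟩ := hy
  refine ⟨n, ?_⟩
  rw [← map_pow, Ideal.Quotient.eq_zero_iff_mem]
  exact hn

theorem henselianRing_iff_of_radical_eq {A : Type u} [CommRing A] (I J : Ideal A)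
    (h : I.radical = J.radical) : HenselianRing A I ↔ HenselianRing A J := by
  rw [← henselianRing_radical_iff I, ← henselianRing_radical_iff J, h]

end Groth.Agent.Lib.Helper11
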