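import Mathlib
import Groth.Agent.Lib.Helper16.DepthExt

/-!
# Ext commutes with localization (finitely generated modules over a Noetherian ring)
-/

set_option autoImplicit false
universe u
open CategoryTheory Abelian

namespace Groth.Agent.Lib.Helper11.ExtLoc

variable {R : Type u} [CommRing R] (S : Submonoid R)

/-- the localization functor sends `r • 𝟙` to `algebraMap r • 𝟙`. -/
lemma map_smul_id (M : ModuleCat.{u} R) (r : R) :
    (ModuleCat.localizedModuleFunctor.{u} S).map (r • 𝟙 M) =
      algebraMap R (Localization S) r • 𝟙 ((ModuleCat.localizedModuleFunctor.{u} S).obj M) := by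
  ext x
  have h1 : (ModuleCat.Hom.hom ((ModuleCat.localizedModuleFunctor.{u} S).map (r • 𝟙 M))) x
      = IsLocalizedModule.map S (M.localizedModuleMkLinearMap S) (M.localizedModuleMkLinearMap S)
          (r • LinearMap.id) x := rfl
  refine h1.trans ?_
  rw [map_smul, IsLocalizedModule.map_id]
  change r • (show M.localizedModule S from x) = algebraMap R (Localization S) r • (show M.localizedModule S from x)
  rw [algebraMap_smul]

/-- the comparison map on `Ext` is semilinear along `R → S⁻¹R`. -/
lemma mapExactFunctor_smul {M N : ModuleCat.{u} R} {i : ℕ} (r : R) (e : Ext M N i) :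
    (r • e).mapExactFunctor (ModuleCat.localizedModuleFunctor.{u} S) =
      algebraMap R (Localization S) r •
        e.mapExactFunctor (ModuleCat.localizedModuleFunctor.{u} S) := by
  rw [Ext.smul_eq_comp_mk₀, Ext.mapExactFunctor_comp, Ext.mapExactFunctor_mk₀, map_smul_id,
    Ext.smul_eq_comp_mk₀]

/-- The property that the comparison map exhibits the target as a localization. -/
def P (M N : ModuleCat.{u} R) (i : ℕ) : Prop :=
  (∀ y : Ext ((ModuleCat.localizedModuleFunctor.{u} S).obj M)
      ((ModuleCat.localizedModuleFunctor.{u} S).obj N) i,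
    ∃ (e : Ext M N i) (s : S), algebraMap R (Localization S) (s : R) • y =
      e.mapExactFunctor (ModuleCat.localizedModuleFunctor.{u} S)) ∧
  (∀ e : Ext M N i, e.mapExactFunctor (ModuleCat.localizedModuleFunctor.{u} S) = 0 →
    ∃ s : S, (s : R) • e = 0)

lemma P_zero (M N : ModuleCat.{u} R) [Module.FinitePresentation R M] : P S M N 0 := by
  have inst := Module.FinitePresentation.isLocalizedModule_mapExtendScalars S
    (M.localizedModuleMkLinearMap S) (N.localizedModuleMkLinearMap S) (Localization S)
  constructor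
  · intro y
    obtain ⟨g, rfl⟩ := (Ext.mk₀_bijective _ _).2 y
    obtain ⟨⟨h, s⟩, hs⟩ := IsLocalizedModule.surj S (IsLocalizedModule.mapExtendScalars S
      (M.localizedModuleMkLinearMap S) (N.localizedModuleMkLinearMap S) (Localization S)) g.hom
    refine ⟨Ext.mk₀ (ModuleCat.ofHom h), s, ?_⟩
    rw [Ext.mapExactFunctor_mk₀, ← Ext.mk₀_smul]
    congr 1
    ext x
    have := LinearMap.congr_fun hs x
    refine Eq.trans ?_ this
    exact algebraMap_smul (M := N.localizedModule S) (Localization S) (s : R) (g.hom x)
  · intro e he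
    obtain ⟨h, rfl⟩ := (Ext.mk₀_bijective _ _).2 e
    rw [Ext.mapExactFunctor_mk₀] at he
    have h0 : (ModuleCat.localizedModuleFunctor.{u} S).map h = 0 :=
      (Ext.mk₀_bijective _ _).1 (he.trans (Ext.mk₀_zero _ _).symm)
    have h1 : IsLocalizedModule.mapExtendScalars S
      (M.localizedModuleMkLinearMap S) (N.localizedModuleMkLinearMap S) (Localization S) h.hom = 0 := by
      have := congrArg ModuleCat.Hom.hom h0
      exact this
    obtain ⟨s, hs⟩ := (IsLocalizedModule.eq_zero_iff S _).1 h1
    refine ⟨s, ?_⟩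
    rw [← Ext.mk₀_smul]
    have : (s : R) • h = 0 := by
      ext x
      exact LinearMap.congr_fun hs x
    rw [this, Ext.mk₀_zero]

lemma isUnit_algebraMap (s : S) : IsUnit (algebraMap R (Localization S) (s : R)) :=
  IsLocalization.map_units (Localization S) s

/-- Dimension shifting step. -/
lemma P_succ {X : ShortComplex (ModuleCat.{u} R)} (hX : X.ShortExact) (N : ModuleCat.{u} R)
    (i : ℕ) [Projective X.X₂] (h1 : P S X.X₁ N i) (h2 : P S X.X₂ N i) :
    P S X.X₃ N (i + 1) := by
  have hX' := hX.map_of_exact (ModuleCat.localizedModuleFunctor.{u} S)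
  have hproj : Projective (X.map (ModuleCat.localizedModuleFunctor.{u} S)).X₂ :=
    (ModuleCat.localizedModuleFunctor.{u} S).projective_obj _
  constructor
  · intro y
    obtain ⟨z, rfl⟩ := Ext.contravariant_sequence_exact₃ hX' _ y
      (Ext.eq_zero_of_projective _) (add_comm 1 i)
    obtain ⟨e, s, hs⟩ := h1.1 z
    refine ⟨hX.extClass.comp e (add_comm 1 i), s, ?_⟩
    rw [Ext.mapExactFunctor_comp, Ext.mapExactFunctor_extClass, ← hs, Ext.comp_smul]
    rfl
  · intro e he
    obtain ⟨z, rfl⟩ := Ext.contravariant_sequence_exact₃ hX _ e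
      (Ext.eq_zero_of_projective _) (add_comm 1 i)
    rw [Ext.mapExactFunctor_comp, Ext.mapExactFunctor_extClass] at he
    obtain ⟨w, hw⟩ := Ext.contravariant_sequence_exact₁ hX' _ _ (add_comm 1 i) he
    obtain ⟨w₀, s, hs⟩ := h2.1 w
    have h3 : ((s : R) • z - (Ext.mk₀ X.f).comp w₀ (zero_add i)).mapExactFunctor
        (ModuleCat.localizedModuleFunctor.{u} S) = 0 := by
      have := (ModuleCat.localizedModuleFunctor.{u} S).mapExtAddHom X.X₁ N i
      have hsub : ((s : R) • z - (Ext.mk₀ X.f).comp w₀ (zero_add i)).mapExactFunctor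
          (ModuleCat.localizedModuleFunctor.{u} S) =
          ((s : R) • z).mapExactFunctor (ModuleCat.localizedModuleFunctor.{u} S) -
          ((Ext.mk₀ X.f).comp w₀ (zero_add i)).mapExactFunctor
            (ModuleCat.localizedModuleFunctor.{u} S) :=
        map_sub ((ModuleCat.localizedModuleFunctor.{u} S).mapExtAddHom X.X₁ N i) _ _
      rw [hsub, mapExactFunctor_smul, Ext.mapExactFunctor_comp, Ext.mapExactFunctor_mk₀, ← hs,
        ← hw, Ext.comp_smul]
      exact sub_self _
    obtain ⟨t, ht⟩ := h1.2 _ h3
    refine ⟨t * s, ?_⟩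
    rw [smul_sub, sub_eq_zero] at ht
    rw [Submonoid.coe_mul, ← Ext.comp_smul, mul_smul, ht, Ext.comp_smul,
      hX.extClass_comp_assoc, smul_zero]

/-- `Ext` commutes with localization for finitely generated modules over a Noetherian ring
(`N` arbitrary). -/
theorem P_of_finite [IsNoetherianRing R] (N : ModuleCat.{u} R) (i : ℕ) :
    ∀ (M : ModuleCat.{u} R) [Module.Finite R M], P S M N i := by
  induction i with
  | zero =>
    intro M _
    have := Module.finitePresentation_of_finite R M
    exact P_zero S M N
  | succ i ih =>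
    intro M _
    obtain ⟨n, π, hπ⟩ := Module.Finite.exists_fin' R M
    have hS := Groth.Agent.Lib.Helper16.Depth.shortExact_of_linearMaps
      (LinearMap.ker π).subtype π (Submodule.injective_subtype _) hπ
      (LinearMap.exact_subtype_ker_map π)
    have : Module.Finite R (LinearMap.ker π) := inferInstance
    have : Projective (ModuleCat.of R (Fin n → R)) := inferInstance
    exact P_succ S hS N i (ih (ModuleCat.of R (LinearMap.ker π))) (ih (ModuleCat.of R (Fin n → R)))

/-- The kernel description as an `iff`. -/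
lemma mapExactFunctor_eq_zero_iff {M N : ModuleCat.{u} R} {i : ℕ} (h : P S M N i)
    (e : Ext M N i) :
    e.mapExactFunctor (ModuleCat.localizedModuleFunctor.{u} S) = 0 ↔ ∃ s : S, (s : R) • e = 0 := by
  refine ⟨h.2 e, ?_⟩
  rintro ⟨s, hs⟩
  have := mapExactFunctor_smul S (s : R) e
  rw [hs] at this
  have h0 : (0 : Ext M N i).mapExactFunctor (ModuleCat.localizedModuleFunctor.{u} S) = 0 :=
    Ext.mapExactFunctor_zero _ _ _ _
  rw [h0] at this
  exact ((isUnit_algebraMap S s).smul_eq_zero).1 this.symm

end Groth.Agent.Lib.Helper11.ExtLoc
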