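import Mathlib

/-!
# Localizing a module which is free up to denominators over `R ⧸ P`
-/

set_option autoImplicit false
set_option linter.unusedSectionVars false
universe u v w

namespace Groth.Agent.Lib.Helper11.GrCore

variable {R : Type u} [CommRing R] (S : Submonoid R) {A : Type u} [CommRing A] [Algebra R A]
  [IsLocalization S A]
variable {E : Type v} [AddCommGroup E] [Module R E] {X : Type w} [AddCommGroup X] [Module A X]

theorem nonempty_linearEquiv_finsupp
    (φ : E →+ X) (hφ : ∀ (r : R) (e : E), φ (r • e) = algebraMap R A r • φ e)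
    (hsurj : ∀ y : X, ∃ (e : E) (s : S), algebraMap R A (s : R) • y = φ e)
    (hker : ∀ e : E, φ e = 0 → ∃ s : S, (s : R) • e = 0)
    (P : Ideal R) [hPprime : P.IsPrime] (hPS : ∀ s ∈ S, s ∉ P)
    {J : Type*} (e : J → E)
    (hPE : ∀ r ∈ P, ∀ x : E, r • x = 0)
    (hind : ∀ c : J →₀ R, Finsupp.linearCombination R e c = 0 → ∀ j, c j ∈ P)
    (hspan : ∀ x : E, ∃ t ∈ S, t • x ∈ Submodule.span R (Set.range e)) :
    Nonempty (X ≃ₗ[A] (J →₀ A ⧸ P.map (algebraMap R A))) := by
  classical
  have hunit : ∀ s : S, IsUnit (algebraMap R A (s : R)) := fun s => IsLocalization.map_units A s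
  -- `P` kills `X`
  have hPX : ∀ r ∈ P, ∀ y : X, algebraMap R A r • y = 0 := by
    intro r hr y
    obtain ⟨x, s, hs⟩ := hsurj y
    have h1 : algebraMap R A (s : R) • (algebraMap R A r • y) = 0 := by
      rw [smul_comm, hs, ← hφ, hPE r hr, map_zero]
    exact ((hunit s).smul_eq_zero).1 h1
  have hann : P.map (algebraMap R A) ≤ Module.annihilator A X := by
    rw [Ideal.map_le_iff_le_comap]
    intro r hr
    rw [Ideal.mem_comap, Module.mem_annihilator]
    exact hPX r hr
  -- additivity of φ on linear combinations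
  have hφsum : ∀ c : J →₀ R, φ (Finsupp.linearCombination R e c) =
      c.sum (fun j r => algebraMap R A r • φ (e j)) := by
    intro c
    rw [Finsupp.linearCombination_apply, Finsupp.sum, map_sum]
    exact Finset.sum_congr rfl fun j _ => hφ _ _
  -- the map
  let ψj : J → (A ⧸ P.map (algebraMap R A)) →ₗ[A] X := fun j =>
    Submodule.liftQ (P.map (algebraMap R A)) (LinearMap.toSpanSingleton A X (φ (e j))) (by
      intro c hc
      rw [LinearMap.mem_ker, LinearMap.toSpanSingleton_apply]
      exact Module.mem_annihilator.1 (hann hc) _)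
  let ψ : (J →₀ A ⧸ P.map (algebraMap R A)) →ₗ[A] X := Finsupp.lsum A ψj
  have hψ : ∀ c : J →₀ A, ψ (c.mapRange (Ideal.Quotient.mk (P.map (algebraMap R A))) (map_zero _)) =
      c.sum (fun j a => a • φ (e j)) := by
    intro c
    change Finsupp.lsum A ψj _ = _
    rw [Finsupp.lsum_apply, Finsupp.sum_mapRange_index (by intro j; exact map_zero _)]
    rfl
  refine ⟨(LinearEquiv.ofBijective ψ ⟨?_, ?_⟩).symm⟩
  · -- injective
    rw [← LinearMap.ker_eq_bot, LinearMap.ker_eq_bot']
    intro cbar hc
    obtain ⟨c, rfl⟩ := Finsupp.mapRange_surjective (Ideal.Quotient.mk (P.map (algebraMap R A)))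
      (map_zero _) Ideal.Quotient.mk_surjective cbar
    rw [hψ] at hc
    obtain ⟨b, hb⟩ := IsLocalization.exist_integer_multiples S c.support c
    let rf : J → R := fun j => if hj : j ∈ c.support then (hb j hj).choose else 0
    have hrf : ∀ j, algebraMap R A (rf j) = (b : R) • c j := by
      intro j
      by_cases hj : j ∈ c.support
      · simp only [rf, dif_pos hj]
        exact (hb j hj).choose_spec
      · simp only [rf, dif_neg hj]
        rw [Finsupp.notMem_support_iff.1 hj, smul_zero, map_zero]
    let r : J →₀ R := Finsupp.onFinset c.support rf (by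
      intro j hj
      by_contra hjs
      exact hj (by simp only [rf, dif_neg hjs]))
    have hr : ∀ j, algebraMap R A (r j) = (b : R) • c j := fun j => by
      rw [Finsupp.onFinset_apply]
      exact hrf j
    have h1 : φ (Finsupp.linearCombination R e r) = 0 := by
      rw [hφsum]
      have : r.sum (fun j r => algebraMap R A r • φ (e j)) =
          ∑ j ∈ c.support, algebraMap R A (r j) • φ (e j) := by
        refine Finsupp.sum_of_support_subset r (Finsupp.support_onFinset_subset) _ ?_
        intro j _
        rw [map_zero, zero_smul]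
      rw [this]
      have h2 : ∀ j ∈ c.support, algebraMap R A (r j) • φ (e j) =
          algebraMap R A (b : R) • (c j • φ (e j)) := by
        intro j _
        rw [hr j, Algebra.smul_def, mul_smul]
      rw [Finset.sum_congr rfl h2, ← Finset.smul_sum]
      have : ∑ j ∈ c.support, c j • φ (e j) = c.sum (fun j a => a • φ (e j)) := rfl
      rw [this, hc, smul_zero]
    obtain ⟨s', hs'⟩ := hker _ h1
    rw [← map_smul] at hs'
    have h3 := hind _ hs'
    ext j
    rw [Finsupp.mapRange_apply, Finsupp.zero_apply, Ideal.Quotient.eq_zero_iff_mem]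
    have h4 : r j ∈ P := by
      have := h3 j
      rw [Finsupp.smul_apply, smul_eq_mul] at this
      exact (hPprime.mem_or_mem this).resolve_left (hPS _ s'.2)
    have h5 : algebraMap R A (b : R) * c j ∈ P.map (algebraMap R A) := by
      have := Ideal.mem_map_of_mem (algebraMap R A) h4
      rw [hr j, Algebra.smul_def] at this
      exact this
    obtain ⟨u, hu⟩ := hunit b
    have h6 : c j = (↑u⁻¹ : A) * (algebraMap R A (b : R) * c j) := by
      rw [← mul_assoc, ← hu, Units.inv_mul, one_mul]
    rw [h6]
    exact Ideal.mul_mem_left _ _ h5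
  · -- surjective
    intro y
    obtain ⟨x, s, hs⟩ := hsurj y
    obtain ⟨t, ht, htx⟩ := hspan x
    obtain ⟨c, hc⟩ := (Finsupp.mem_span_range_iff_exists_finsupp).1 htx
    have hc' : Finsupp.linearCombination R e c = t • x := by
      rw [Finsupp.linearCombination_apply]
      exact hc
    have h1 : algebraMap R A t • (algebraMap R A (s : R) • y) =
        ψ ((c.mapRange (algebraMap R A) (map_zero _)).mapRange
          (Ideal.Quotient.mk (P.map (algebraMap R A))) (map_zero _)) := by
      rw [hψ, hs, ← hφ, ← hc', hφsum, Finsupp.sum_mapRange_index (by intro j; exact zero_smul _ _)]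
    obtain ⟨u, hu⟩ := hunit s
    obtain ⟨u', hu'⟩ := hunit ⟨t, ht⟩
    refine ⟨(↑u⁻¹ : A) • ((↑u'⁻¹ : A) • ((c.mapRange (algebraMap R A) (map_zero _)).mapRange
      (Ideal.Quotient.mk (P.map (algebraMap R A))) (map_zero _))), ?_⟩
    rw [map_smul, map_smul, ← h1]
    change (↑u⁻¹ : A) • ((↑u'⁻¹ : A) • ((algebraMap R A t) • (algebraMap R A (s : R) • y))) = y
    have hu'' : algebraMap R A t = u' := hu'.symm
    rw [hu'', ← hu, smul_smul (↑u'⁻¹ : A), Units.inv_mul, one_smul, smul_smul, Units.inv_mul,
      one_smul]

end Groth.Agent.Lib.Helper11.GrCore
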