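import Mathlib
import Groth.Agent.Lib.Helper16.DepthExt

/-!
# Local computation: `Ext(k, N)` from `Ext(A/𝔓, N)` when `𝔪 = 𝔓 + (a)` and the latter are free
-/

set_option autoImplicit false
set_option linter.unusedSectionVars false
universe u v w

open CategoryTheory CategoryTheory.Abelian

namespace Groth.Agent.Lib.Helper11.GrCore

section Length

variable {A : Type u} [CommRing A] [IsLocalRing A]

lemma length_quot_maximalIdeal :
    Module.length A (A ⧸ IsLocalRing.maximalIdeal A) = 1 := by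
  rw [Module.length_eq_one_iff, isSimpleModule_iff_quot_maximal]
  exact ⟨_, IsLocalRing.maximalIdeal.isMaximal A, ⟨LinearEquiv.refl A _⟩⟩

theorem length_eq_card_of_exact (𝔓 : Ideal A) (a : A)
    (h𝔪 : 𝔓 ⊔ Ideal.span {a} = IsLocalRing.maximalIdeal A)
    {J : Type*} {X : Type v} {Y : Type w} [AddCommGroup X] [Module A X] [AddCommGroup Y] [Module A Y]
    (θ : X ≃ₗ[A] (J →₀ A ⧸ 𝔓)) (β : X →ₗ[A] Y) (hβ : Function.Surjective β)
    (hker : ∀ x, β x = 0 ↔ ∃ x', a • x' = x) :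
    Module.length A Y = ENat.card J := by
  classical
  have hle : 𝔓 ≤ IsLocalRing.maximalIdeal A := h𝔪 ▸ le_sup_left
  have ha : a ∈ IsLocalRing.maximalIdeal A :=
    h𝔪 ▸ Ideal.mem_sup_right (Ideal.mem_span_singleton_self a)
  let q : (A ⧸ 𝔓) →ₗ[A] (A ⧸ IsLocalRing.maximalIdeal A) :=
    Submodule.liftQ 𝔓 (Submodule.mkQ (IsLocalRing.maximalIdeal A)) (by
      intro x hx
      rw [LinearMap.mem_ker, Submodule.mkQ_apply]
      exact (Submodule.Quotient.mk_eq_zero _).2 (hle hx))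
  have hq_surj : Function.Surjective q := by
    intro y
    obtain ⟨y, rfl⟩ := Submodule.mkQ_surjective _ y
    exact ⟨Submodule.mkQ 𝔓 y, rfl⟩
  have hq_ker : ∀ y : A ⧸ 𝔓, q y = 0 → ∃ d : A ⧸ 𝔓, a • d = y := by
    intro y hy
    obtain ⟨y, rfl⟩ := Submodule.mkQ_surjective _ y
    have hy' : y ∈ IsLocalRing.maximalIdeal A := (Submodule.Quotient.mk_eq_zero _).1 hy
    rw [← h𝔪] at hy'
    obtain ⟨y1, hy1, y2, hy2, rfl⟩ := Submodule.mem_sup.1 hy'
    obtain ⟨c, rfl⟩ := Ideal.mem_span_singleton'.1 hy2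
    refine ⟨Submodule.mkQ 𝔓 c, ?_⟩
    rw [← map_smul, map_add, smul_eq_mul, mul_comm]
    have : Submodule.mkQ 𝔓 y1 = 0 := (Submodule.Quotient.mk_eq_zero _).2 hy1
    rw [this, zero_add]
  let π : (J →₀ A ⧸ 𝔓) →ₗ[A] (J →₀ A ⧸ IsLocalRing.maximalIdeal A) := Finsupp.mapRange.linearMap q
  have hπ_surj : Function.Surjective π := Finsupp.mapRange_surjective q (map_zero _) hq_surj
  have ha_kill : ∀ c : J →₀ A ⧸ IsLocalRing.maximalIdeal A, a • c = 0 := by
    intro c
    ext j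
    rw [Finsupp.smul_apply, Finsupp.zero_apply]
    obtain ⟨y, hy⟩ := Submodule.mkQ_surjective _ (c j)
    rw [← hy, ← map_smul, Submodule.mkQ_apply, Submodule.Quotient.mk_eq_zero, smul_eq_mul]
    exact Ideal.mul_mem_right _ _ ha
  let γ : X →ₗ[A] (J →₀ A ⧸ IsLocalRing.maximalIdeal A) := π ∘ₗ θ.toLinearMap
  have hγ_surj : Function.Surjective γ := hπ_surj.comp θ.surjective
  have hker_eq : LinearMap.ker β = LinearMap.ker γ := by
    ext x
    rw [LinearMap.mem_ker, LinearMap.mem_ker, hker]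
    constructor
    · rintro ⟨x', rfl⟩
      rw [map_smul]
      exact ha_kill _
    · intro hx
      have hx' : ∀ j, q (θ x j) = 0 := fun j => by
        have := DFunLike.congr_fun hx j
        exact this
      let σ : (A ⧸ 𝔓) → (A ⧸ 𝔓) := fun y =>
        if h : y = 0 then 0 else if h' : ∃ d : A ⧸ 𝔓, a • d = y then h'.choose else 0
      have hσ0 : σ 0 = 0 := by simp [σ]
      have hσ : ∀ y, q y = 0 → a • σ y = y := by
        intro y hy
        by_cases h : y = 0
        · simp [σ, h]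
        · have h' := hq_ker y hy
          simp only [σ, dif_neg h, dif_pos h']
          exact h'.choose_spec
      refine ⟨θ.symm ((θ x).mapRange σ hσ0), ?_⟩
      rw [← map_smul]
      apply θ.injective
      rw [LinearEquiv.apply_symm_apply]
      ext j
      rw [Finsupp.smul_apply, Finsupp.mapRange_apply]
      exact hσ _ (hx' j)
  let e1 : Y ≃ₗ[A] (J →₀ A ⧸ IsLocalRing.maximalIdeal A) :=
    (LinearMap.quotKerEquivOfSurjective β hβ).symm ≪≫ₗ
      (Submodule.quotEquivOfEq _ _ hker_eq) ≪≫ₗ LinearMap.quotKerEquivOfSurjective γ hγ_surj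
  rw [e1.length_eq, Module.length_finsupp, length_quot_maximalIdeal, mul_one]

end Length

section ExtIso

variable {A : Type u} [CommRing A]

/-- Transport of `Ext` along an isomorphism in the first variable. -/
noncomputable def extEquivOfIso {X X' : ModuleCat.{u} A} (φ : X ≅ X') (N : ModuleCat.{u} A) (n : ℕ) :
    Ext.{u} X' N n ≃ₗ[A] Ext.{u} X N n where
  __ := (Ext.mk₀ φ.hom).precompOfLinear A N (zero_add n)
  invFun := (Ext.mk₀ φ.inv).precompOfLinear A N (zero_add n)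
  left_inv x := by
    change (Ext.mk₀ φ.inv).comp ((Ext.mk₀ φ.hom).comp x (zero_add n)) (zero_add n) = x
    rw [Ext.mk₀_comp_mk₀_assoc, Iso.inv_hom_id, Ext.mk₀_id_comp]
  right_inv x := by
    change (Ext.mk₀ φ.hom).comp ((Ext.mk₀ φ.inv).comp x (zero_add n)) (zero_add n) = x
    rw [Ext.mk₀_comp_mk₀_assoc, Iso.hom_inv_id, Ext.mk₀_id_comp]

end ExtIso

section Local

variable {A : Type u} [CommRing A] [IsLocalRing A]

theorem bass_of_free (𝔓 : Ideal A) [h𝔓 : 𝔓.IsPrime] (a : A) (ha𝔓 : a ∉ 𝔓)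
    (h𝔪 : 𝔓 ⊔ Ideal.span {a} = IsLocalRing.maximalIdeal A) (N : ModuleCat.{u} A)
    (J : ℕ → Type u)
    (θ : ∀ n, Ext.{u} (ModuleCat.of A (A ⧸ 𝔓)) N n ≃ₗ[A] (J n →₀ A ⧸ 𝔓)) :
    Subsingleton (Ext.{u} (ModuleCat.of A (IsLocalRing.ResidueField A)) N 0) ∧
    ∀ n, Module.length A (Ext.{u} (ModuleCat.of A (IsLocalRing.ResidueField A)) N (n + 1)) =
      ENat.card (J n) := by
  have hle : 𝔓 ≤ IsLocalRing.maximalIdeal A := h𝔪 ▸ le_sup_left
  -- the short exact sequence
  let f : (A ⧸ 𝔓) →ₗ[A] (A ⧸ 𝔓) := a • LinearMap.id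
  let g : (A ⧸ 𝔓) →ₗ[A] IsLocalRing.ResidueField A :=
    Submodule.liftQ 𝔓 (Algebra.linearMap A (IsLocalRing.ResidueField A)) (by
      intro x hx
      rw [LinearMap.mem_ker, Algebra.linearMap_apply]
      exact (IsLocalRing.residue_eq_zero_iff x).2 (hle hx))
  have hg_mk : ∀ y : A, g (Submodule.mkQ 𝔓 y) = IsLocalRing.residue A y := fun y => rfl
  have hf : Function.Injective f := by
    rw [← LinearMap.ker_eq_bot, LinearMap.ker_eq_bot']
    intro y hy
    obtain ⟨y, rfl⟩ := Ideal.Quotient.mk_surjective y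
    have hy' : Ideal.Quotient.mk 𝔓 (a * y) = 0 := by
      rw [map_mul]
      exact hy
    rw [Ideal.Quotient.eq_zero_iff_mem] at hy' ⊢
    exact (h𝔓.mem_or_mem hy').resolve_left ha𝔓
  have hg : Function.Surjective g := by
    intro y
    obtain ⟨y, rfl⟩ := IsLocalRing.residue_surjective y
    exact ⟨Submodule.mkQ 𝔓 y, rfl⟩
  have hfg : Function.Exact f g := by
    intro y
    constructor
    · intro hy
      obtain ⟨y, rfl⟩ := Submodule.mkQ_surjective _ y
      have hy' : y ∈ IsLocalRing.maximalIdeal A := by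
        rw [hg_mk] at hy
        exact (IsLocalRing.residue_eq_zero_iff y).1 hy
      rw [← h𝔪] at hy'
      obtain ⟨y1, hy1, y2, hy2, rfl⟩ := Submodule.mem_sup.1 hy'
      obtain ⟨c, rfl⟩ := Ideal.mem_span_singleton'.1 hy2
      refine ⟨Submodule.mkQ 𝔓 c, ?_⟩
      change a • Submodule.mkQ 𝔓 c = _
      rw [← map_smul, map_add, smul_eq_mul, mul_comm]
      have : Submodule.mkQ 𝔓 y1 = 0 := (Submodule.Quotient.mk_eq_zero _).2 hy1
      rw [this, zero_add]
    · rintro ⟨z, rfl⟩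
      obtain ⟨z, rfl⟩ := Submodule.mkQ_surjective _ z
      change g (a • Submodule.mkQ 𝔓 z) = 0
      rw [← map_smul, hg_mk, IsLocalRing.residue_eq_zero_iff, smul_eq_mul]
      exact Ideal.mul_mem_right _ _ (h𝔪 ▸ Ideal.mem_sup_right (Ideal.mem_span_singleton_self a))
  have hS := Groth.Agent.Lib.Helper16.Depth.shortExact_of_linearMaps f g hf hg hfg
  set S := ModuleCat.shortComplexOfCompEqZero f g hfg.linearMap_comp_eq_zero with hSdef
  -- precomposition with `f` is multiplication by `a`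
  have hfa : ∀ (n : ℕ) (x : Ext.{u} (ModuleCat.of A (A ⧸ 𝔓)) N n),
      (Ext.mk₀ S.f).comp x (zero_add n) = a • x := by
    intro n x
    have : S.f = a • 𝟙 (ModuleCat.of A (A ⧸ 𝔓)) := rfl
    rw [this, Ext.mk₀_smul, Ext.smul_comp, Ext.mk₀_id_comp]
  -- `a` is regular on the Ext modules
  have hreg : ∀ (n : ℕ) (x : Ext.{u} (ModuleCat.of A (A ⧸ 𝔓)) N n), a • x = 0 → x = 0 := by
    intro n x hx
    apply (θ n).injective
    rw [map_zero]
    have h1 : a • (θ n x) = 0 := by rw [← map_smul, hx, map_zero]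
    ext j
    have h2 : a • (θ n x j) = 0 := DFunLike.congr_fun h1 j
    rw [Finsupp.zero_apply]
    obtain ⟨y, hy⟩ := Ideal.Quotient.mk_surjective (θ n x j)
    rw [← hy] at h2 ⊢
    have h3 : Ideal.Quotient.mk 𝔓 (a * y) = 0 := by
      rw [map_mul]
      exact h2
    rw [Ideal.Quotient.eq_zero_iff_mem] at h3 ⊢
    exact (h𝔓.mem_or_mem h3).resolve_left ha𝔓
  -- precomposition with `g` vanishes
  have hgz : ∀ (n : ℕ) (z : Ext.{u} (ModuleCat.of A (IsLocalRing.ResidueField A)) N n),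
      (Ext.mk₀ S.g).comp z (zero_add n) = 0 := by
    intro n z
    apply hreg
    rw [← hfa, Ext.mk₀_comp_mk₀_assoc, S.zero, Ext.mk₀_zero, Ext.zero_comp]
  constructor
  · have : Epi S.g := hS.epi_g
    have hinj := Ext.precomp_mk₀_injective_of_epi N S.g
    refine ⟨fun x y => hinj ?_⟩
    change (Ext.mk₀ S.g).comp x (zero_add 0) = (Ext.mk₀ S.g).comp y (zero_add 0)
    rw [hgz, hgz]
  · intro n
    let β : Ext.{u} (ModuleCat.of A (A ⧸ 𝔓)) N n →ₗ[A]
        Ext.{u} (ModuleCat.of A (IsLocalRing.ResidueField A)) N (n + 1) :=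
      hS.extClass.precompOfLinear A N (add_comm 1 n)
    have hβ : Function.Surjective β := by
      intro z
      obtain ⟨x, hx⟩ := Ext.contravariant_sequence_exact₃ hS N z (hgz _ z) (add_comm 1 n)
      exact ⟨x, hx⟩
    refine length_eq_card_of_exact 𝔓 a h𝔪 (θ n) β hβ ?_
    intro x
    constructor
    · intro hx
      obtain ⟨x', hx'⟩ := Ext.contravariant_sequence_exact₁ hS N x (add_comm 1 n) hx
      exact ⟨x', by rw [← hfa]; exact hx'⟩
    · rintro ⟨x', rfl⟩
      change hS.extClass.comp (a • x') (add_comm 1 n) = 0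
      rw [← hfa, ShortComplex.ShortExact.extClass_comp_assoc]

end Local

end Groth.Agent.Lib.Helper11.GrCore
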