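import Mathlib
import Groth.Prelude.Def_GrLC
import Groth.Prelude.Def_GrLC2
import Groth.Agent.Lib.Helper11.ExtLoc
import Groth.Agent.Lib.Helper11.GrCoreC
import Groth.Agent.Lib.Helper11.GrCoreD

/-!
# Localizing `Ext(R/P, M)` at a prime `q ⊇ P`
-/

set_option autoImplicit false
set_option linter.unusedSectionVars false
universe u

open CategoryTheory CategoryTheory.Abelian

namespace Groth.Agent.Lib.Helper11.GrCore

section ExtIso₂

variable {A : Type u} [CommRing A]

/-- Transport of `Ext` along an isomorphism in the second variable. -/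
noncomputable def extEquivOfIso₂ (X : ModuleCat.{u} A) {N N' : ModuleCat.{u} A} (φ : N ≅ N') (n : ℕ) :
    Ext.{u} X N n ≃ₗ[A] Ext.{u} X N' n where
  __ := (Ext.mk₀ φ.hom).postcompOfLinear A X (add_zero n)
  invFun := (Ext.mk₀ φ.inv).postcompOfLinear A X (add_zero n)
  left_inv x := by
    change ((x.comp (Ext.mk₀ φ.hom) (add_zero n)).comp (Ext.mk₀ φ.inv) (add_zero n)) = x
    rw [Ext.comp_assoc_of_third_deg_zero, Ext.mk₀_comp_mk₀, Iso.hom_inv_id, Ext.comp_mk₀_id]
  right_inv x := by
    change ((x.comp (Ext.mk₀ φ.inv) (add_zero n)).comp (Ext.mk₀ φ.hom) (add_zero n)) = x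
    rw [Ext.comp_assoc_of_third_deg_zero, Ext.mk₀_comp_mk₀, Iso.inv_hom_id, Ext.comp_mk₀_id]

end ExtIso₂

variable {R : Type u} [CommRing R] [IsNoetherianRing R]

lemma smul_ext_quot_eq_zero (P : Ideal R) (M : ModuleCat.{u} R) (n : ℕ) {r : R} (hr : r ∈ P)
    (x : Ext.{u} (ModuleCat.of R (R ⧸ P)) M n) : r • x = 0 := by
  have h0 : r • 𝟙 (ModuleCat.of R (R ⧸ P)) = 0 := by
    apply ModuleCat.hom_ext
    apply LinearMap.ext
    intro y
    obtain ⟨y, rfl⟩ := Ideal.Quotient.mk_surjective y
    change r • Ideal.Quotient.mk P y = 0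
    rw [Algebra.smul_def, Ideal.Quotient.algebraMap_eq, ← map_mul, Ideal.Quotient.eq_zero_iff_mem]
    exact P.mul_mem_right _ hr
  have : r • x = (Ext.mk₀ (r • 𝟙 (ModuleCat.of R (R ⧸ P)))).comp x (zero_add n) := by
    rw [Ext.mk₀_smul, Ext.smul_comp, Ext.mk₀_id_comp]
  rw [this, h0, Ext.mk₀_zero, Ext.zero_comp]

theorem nonempty_ext_localization_equiv (P q : Ideal R) [hP : P.IsPrime] [hq : q.IsPrime]
    (hPq : P ≤ q) (M : Type u) [AddCommGroup M] [Module R M] (n : ℕ)
    {J : Type u} (e : J → Ext.{u} (ModuleCat.of R (R ⧸ P)) (ModuleCat.of R M) n)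
    (hind : ∀ c : J →₀ R, Finsupp.linearCombination R e c = 0 → ∀ j, c j ∈ P)
    (hspan : ∀ x, ∃ t, t ∉ q ∧ t • x ∈ Submodule.span R (Set.range e)) :
    Nonempty (Ext.{u} (ModuleCat.of (Localization.AtPrime q)
        ((Localization.AtPrime q) ⧸ P.map (algebraMap R (Localization.AtPrime q))))
        (ModuleCat.of (Localization.AtPrime q) (LocalizedModule q.primeCompl M)) n
      ≃ₗ[Localization.AtPrime q]
        (J →₀ (Localization.AtPrime q) ⧸ P.map (algebraMap R (Localization.AtPrime q)))) := by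
  classical
  set S := q.primeCompl with hS
  let F := ModuleCat.localizedModuleFunctor.{u} S
  have hPp := Groth.Agent.Lib.Helper11.ExtLoc.P_of_finite S (ModuleCat.of R M) n
    (ModuleCat.of R (R ⧸ P))
  obtain ⟨θ⟩ := nonempty_linearEquiv_finsupp S (A := Localization S)
    (F.mapExtAddHom (ModuleCat.of R (R ⧸ P)) (ModuleCat.of R M) n)
    (fun r x => Groth.Agent.Lib.Helper11.ExtLoc.mapExactFunctor_smul S r x)
    hPp.1
    (fun x hx => (Groth.Agent.Lib.Helper11.ExtLoc.mapExactFunctor_eq_zero_iff S hPp x).1 hx)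
    P (fun s hs hsP => hs (hPq hsP)) e
    (fun r hr x => smul_ext_quot_eq_zero P _ n hr x) hind
    (fun x => by
      obtain ⟨t, ht, htx⟩ := hspan x
      exact ⟨t, ht, htx⟩)
  -- the two isomorphisms
  let ψ : (R ⧸ P) →ₗ[R] (Localization S ⧸ (P.localized' (Localization S) S
      (Algebra.linearMap R (Localization S)))) :=
    Submodule.toLocalizedQuotient' (Localization S) S (Algebra.linearMap R (Localization S)) P
  have inst1 : IsLocalizedModule S ((ModuleCat.of R (R ⧸ P)).localizedModuleMkLinearMap S) :=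
    ModuleCat.localizedModule_isLocalizedModule (ModuleCat.of R (R ⧸ P)) S
  have e1R : ((ModuleCat.of R (R ⧸ P)).localizedModule S) ≃ₗ[R]
      (Localization S ⧸ (P.localized' (Localization S) S
        (Algebra.linearMap R (Localization S)))) :=
    IsLocalizedModule.linearEquiv S ((ModuleCat.of R (R ⧸ P)).localizedModuleMkLinearMap S) ψ
  have e1A := e1R.extendScalarsOfIsLocalization S (Localization S)
  have hloc : P.localized' (Localization S) S (Algebra.linearMap R (Localization S)) =
      P.map (algebraMap R (Localization S)) := Ideal.localized'_eq_map (Localization S) S P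
  have e1 : ((ModuleCat.of R (R ⧸ P)).localizedModule S) ≃ₗ[Localization S]
      (Localization S ⧸ P.map (algebraMap R (Localization S))) :=
    e1A ≪≫ₗ Submodule.quotEquivOfEq _ _ hloc
  have e2 : ((ModuleCat.of R M).localizedModule S) ≃ₗ[Localization S] LocalizedModule S M :=
    Shrink.linearEquiv (Localization S) (LocalizedModule S M)
  let i1 : F.obj (ModuleCat.of R (R ⧸ P)) ≅
      ModuleCat.of (Localization S) (Localization S ⧸ P.map (algebraMap R (Localization S))) :=
    e1.toModuleIso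
  let i2 : F.obj (ModuleCat.of R M) ≅ ModuleCat.of (Localization S) (LocalizedModule S M) :=
    e2.toModuleIso
  exact ⟨(extEquivOfIso i1 _ n) ≪≫ₗ (extEquivOfIso₂ _ i2 n).symm ≪≫ₗ θ⟩

end Groth.Agent.Lib.Helper11.GrCore
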