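import Mathlib
import Groth.Prelude.Def_GrLC
import Groth.Prelude.Def_GrLC2
import Groth.Agent.Lib.Helper11.GrCoreE
import Groth.Agent.Lib.Helper16.ExtVanish
import Groth.Agent.Lib.Helper18.HomDim

/-!
# Bass numbers control `Ext(R/p, M)` and injective dimension for arbitrary modules
-/

set_option autoImplicit false
set_option linter.unusedSectionVars false
universe u

open CategoryTheory CategoryTheory.Abelian

namespace Groth.Agent.Lib.Helper11.GrCore

variable {R : Type u} [CommRing R] [IsNoetherianRing R]

/-- The localized `Ext` of `R/p` at `p` is `Ext` over the residue field. -/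
theorem nonempty_locExt_equiv (p : Ideal R) [hp : p.IsPrime] (M : Type u) [AddCommGroup M]
    [Module R M] (n : ℕ) :
    Nonempty (Ext.{u}
        ((ModuleCat.localizedModuleFunctor.{u} p.primeCompl).obj (ModuleCat.of R (R ⧸ p)))
        ((ModuleCat.localizedModuleFunctor.{u} p.primeCompl).obj (ModuleCat.of R M)) n
      ≃ₗ[Localization.AtPrime p]
      Ext.{u} (ModuleCat.of (Localization.AtPrime p)
          (IsLocalRing.ResidueField (Localization.AtPrime p)))
        (ModuleCat.of (Localization.AtPrime p) (LocalizedModule p.primeCompl M)) n) := by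
  classical
  set S := p.primeCompl with hS
  let F := ModuleCat.localizedModuleFunctor.{u} S
  let ψ : (R ⧸ p) →ₗ[R] (Localization S ⧸ (p.localized' (Localization S) S
      (Algebra.linearMap R (Localization S)))) :=
    Submodule.toLocalizedQuotient' (Localization S) S (Algebra.linearMap R (Localization S)) p
  have inst1 : IsLocalizedModule S ((ModuleCat.of R (R ⧸ p)).localizedModuleMkLinearMap S) :=
    ModuleCat.localizedModule_isLocalizedModule (ModuleCat.of R (R ⧸ p)) S
  have e1R : ((ModuleCat.of R (R ⧸ p)).localizedModule S) ≃ₗ[R]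
      (Localization S ⧸ (p.localized' (Localization S) S
        (Algebra.linearMap R (Localization S)))) :=
    IsLocalizedModule.linearEquiv S ((ModuleCat.of R (R ⧸ p)).localizedModuleMkLinearMap S) ψ
  have e1A := e1R.extendScalarsOfIsLocalization S (Localization S)
  have hloc : p.localized' (Localization S) S (Algebra.linearMap R (Localization S)) =
      p.map (algebraMap R (Localization S)) := Ideal.localized'_eq_map (Localization S) S p
  have e1 : ((ModuleCat.of R (R ⧸ p)).localizedModule S) ≃ₗ[Localization S]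
      (Localization S ⧸ p.map (algebraMap R (Localization S))) :=
    e1A ≪≫ₗ Submodule.quotEquivOfEq _ _ hloc
  have e2 : ((ModuleCat.of R M).localizedModule S) ≃ₗ[Localization S] LocalizedModule S M :=
    Shrink.linearEquiv (Localization S) (LocalizedModule S M)
  let i1 : F.obj (ModuleCat.of R (R ⧸ p)) ≅
      ModuleCat.of (Localization S) (Localization S ⧸ p.map (algebraMap R (Localization S))) :=
    e1.toModuleIso
  let i2 : F.obj (ModuleCat.of R M) ≅ ModuleCat.of (Localization S) (LocalizedModule S M) :=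
    e2.toModuleIso
  have hmax : p.map (algebraMap R (Localization.AtPrime p)) =
      IsLocalRing.maximalIdeal (Localization.AtPrime p) :=
    Localization.AtPrime.map_eq_maximalIdeal
  set 𝔓 := p.map (algebraMap R (Localization.AtPrime p)) with h𝔓
  let g : (Localization.AtPrime p ⧸ 𝔓) →ₗ[Localization.AtPrime p]
      IsLocalRing.ResidueField (Localization.AtPrime p) :=
    Submodule.liftQ 𝔓 (Algebra.linearMap _ (IsLocalRing.ResidueField (Localization.AtPrime p))) (by
      intro x hx
      rw [LinearMap.mem_ker, Algebra.linearMap_apply]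
      exact (IsLocalRing.residue_eq_zero_iff x).2 (hmax ▸ hx))
  have hg_mk : ∀ y, g (Submodule.mkQ 𝔓 y) = IsLocalRing.residue _ y := fun y => rfl
  have hg : Function.Bijective g := by
    constructor
    · rw [← LinearMap.ker_eq_bot, LinearMap.ker_eq_bot']
      intro y hy
      obtain ⟨y, rfl⟩ := Submodule.mkQ_surjective _ y
      rw [hg_mk, IsLocalRing.residue_eq_zero_iff, ← hmax] at hy
      exact (Submodule.Quotient.mk_eq_zero _).2 hy
    · intro y
      obtain ⟨y, rfl⟩ := IsLocalRing.residue_surjective y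
      exact ⟨Submodule.mkQ 𝔓 y, rfl⟩
  let i3 : ModuleCat.of (Localization.AtPrime p) (Localization.AtPrime p ⧸ 𝔓) ≅
      ModuleCat.of (Localization.AtPrime p) (IsLocalRing.ResidueField (Localization.AtPrime p)) :=
    (LinearEquiv.ofBijective g hg).toModuleIso
  exact ⟨(extEquivOfIso₂ _ i2 n) ≪≫ₗ (extEquivOfIso (i1 ≪≫ i3) _ n).symm⟩

/-- Vanishing Bass number kills the localized Ext. -/
theorem subsingleton_locExt_of_bassNum_eq_zero (p : Ideal R) [hp : p.IsPrime] (M : Type u)
    [AddCommGroup M] [Module R M] (n : ℕ) (h : GrLC.bassNum p M n = 0) :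
    Subsingleton (Ext.{u}
        ((ModuleCat.localizedModuleFunctor.{u} p.primeCompl).obj (ModuleCat.of R (R ⧸ p)))
        ((ModuleCat.localizedModuleFunctor.{u} p.primeCompl).obj (ModuleCat.of R M)) n) := by
  obtain ⟨θ⟩ := nonempty_locExt_equiv p M n
  unfold GrLC.bassNum GrLC.bassNumLocal at h
  rw [Module.length_eq_zero_iff] at h
  exact θ.toEquiv.subsingleton

/-- Converse. -/
theorem bassNum_eq_zero_of_subsingleton_locExt (p : Ideal R) [hp : p.IsPrime] (M : Type u)
    [AddCommGroup M] [Module R M] (n : ℕ)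
    (h : Subsingleton (Ext.{u}
        ((ModuleCat.localizedModuleFunctor.{u} p.primeCompl).obj (ModuleCat.of R (R ⧸ p)))
        ((ModuleCat.localizedModuleFunctor.{u} p.primeCompl).obj (ModuleCat.of R M)) n)) :
    GrLC.bassNum p M n = 0 := by
  obtain ⟨θ⟩ := nonempty_locExt_equiv p M n
  unfold GrLC.bassNum GrLC.bassNumLocal
  rw [Module.length_eq_zero_iff]
  exact θ.symm.toEquiv.subsingleton

/-- If `Ext^n_R(R/p, M) = 0` then `μ_n(p, M) = 0`. -/
theorem bassNum_eq_zero_of_subsingleton_ext (p : Ideal R) [hp : p.IsPrime] (M : Type u)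
    [AddCommGroup M] [Module R M] (n : ℕ)
    (h : Subsingleton (Ext.{u} (ModuleCat.of R (R ⧸ p)) (ModuleCat.of R M) n)) :
    GrLC.bassNum p M n = 0 := by
  apply bassNum_eq_zero_of_subsingleton_locExt
  have hPp := Groth.Agent.Lib.Helper11.ExtLoc.P_of_finite p.primeCompl (ModuleCat.of R M) n
    (ModuleCat.of R (R ⧸ p))
  refine ⟨fun a b => ?_⟩
  suffices h0 : ∀ y : Ext.{u}
      ((ModuleCat.localizedModuleFunctor.{u} p.primeCompl).obj (ModuleCat.of R (R ⧸ p)))
      ((ModuleCat.localizedModuleFunctor.{u} p.primeCompl).obj (ModuleCat.of R M)) n, y = 0 by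
    rw [h0 a, h0 b]
  intro y
  obtain ⟨e, s, hs⟩ := hPp.1 y
  rw [h.elim e 0, Ext.mapExactFunctor_zero] at hs
  exact ((IsLocalization.map_units (Localization p.primeCompl) s).smul_eq_zero).1 hs

/-- Bass-type lemma: vanishing of Bass numbers in degrees `≥ N` at all primes forces vanishing of
`Ext^i(R/p, M)` in degrees `≥ N`, for an arbitrary module `M`. -/
theorem subsingleton_ext_quot_prime_of_bassNum (M : Type u) [AddCommGroup M] [Module R M] (N : ℕ)
    (h : ∀ (p : Ideal R) [p.IsPrime] (i : ℕ), N ≤ i → GrLC.bassNum p M i = 0) :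
    ∀ (p : Ideal R), p.IsPrime → ∀ i, N ≤ i →
      Subsingleton (Ext.{u} (ModuleCat.of R (R ⧸ p)) (ModuleCat.of R M) i) := by
  intro p
  induction p using IsNoetherian.induction with
  | hgt p ih =>
    intro hp i hi
    have hloc := subsingleton_locExt_of_bassNum_eq_zero p M i (h p i hi)
    have hPp := Groth.Agent.Lib.Helper11.ExtLoc.P_of_finite (Ideal.primeCompl p) (ModuleCat.of R M) i
      (ModuleCat.of R (R ⧸ p))
    refine ⟨fun a b => ?_⟩
    suffices h0 : ∀ e : Ext.{u} (ModuleCat.of R (R ⧸ p)) (ModuleCat.of R M) i, e = 0 by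
      rw [h0 a, h0 b]
    intro e
    obtain ⟨s, hs⟩ := (Groth.Agent.Lib.Helper11.ExtLoc.mapExactFunctor_eq_zero_iff (Ideal.primeCompl p)
      hPp e).1 (hloc.elim _ _)
    -- multiplication by s on R/p
    have hsp : (s : R) ∉ p := s.2
    let f : (R ⧸ p) →ₗ[R] (R ⧸ p) := (s : R) • LinearMap.id
    have hf : Function.Injective f := by
      rw [← LinearMap.ker_eq_bot, LinearMap.ker_eq_bot']
      intro y hy
      obtain ⟨y, rfl⟩ := Ideal.Quotient.mk_surjective y
      have hy' : Ideal.Quotient.mk p ((s : R) * y) = 0 := by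
        rw [map_mul]
        exact hy
      rw [Ideal.Quotient.eq_zero_iff_mem] at hy' ⊢
      exact (hp.mem_or_mem hy').resolve_left hsp
    let N' := (R ⧸ p) ⧸ LinearMap.range f
    have hS := Groth.Agent.Lib.Helper16.Depth.shortExact_of_linearMaps f (LinearMap.range f).mkQ hf
      (Submodule.mkQ_surjective _) (LinearMap.exact_map_mkQ_range f)
    have hN : Subsingleton (Ext.{u} (ModuleCat.of R N') (ModuleCat.of R M) i) := by
      refine Groth.Agent.Lib.Helper16.Depth.subsingleton_ext_of_forall_prime (ModuleCat.of R M) i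
        {q | p < q.asIdeal} (fun q hq => ih q.asIdeal hq q.2 i hi) N' ?_
      intro q hq
      rw [Module.mem_support_iff_of_finite] at hq
      have hpq : p ≤ q.asIdeal := by
        intro a ha
        apply hq
        rw [Module.mem_annihilator]
        intro n
        obtain ⟨n, rfl⟩ := Submodule.mkQ_surjective _ n
        obtain ⟨n, rfl⟩ := Ideal.Quotient.mk_surjective n
        rw [← map_smul]
        have : a • (Ideal.Quotient.mk p n) = 0 := by
          rw [Algebra.smul_def, Ideal.Quotient.algebraMap_eq, ← map_mul,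
            Ideal.Quotient.eq_zero_iff_mem]
          exact Ideal.mul_mem_right _ _ ha
        rw [this, map_zero]
      have hxq : (s : R) ∈ q.asIdeal := by
        apply hq
        rw [Module.mem_annihilator]
        intro n
        obtain ⟨n, rfl⟩ := Submodule.mkQ_surjective _ n
        rw [← map_smul]
        exact (Submodule.Quotient.mk_eq_zero _).2 ⟨n, rfl⟩
      exact lt_of_le_of_ne hpq (fun heq => hsp (heq ▸ hxq))
    have hfe : (Ext.mk₀ (ModuleCat.ofHom f)).comp e (zero_add i) = 0 := by
      have : (ModuleCat.ofHom f : ModuleCat.of R (R ⧸ p) ⟶ ModuleCat.of R (R ⧸ p)) =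
          (s : R) • 𝟙 (ModuleCat.of R (R ⧸ p)) := rfl
      rw [this, Ext.mk₀_smul, Ext.smul_comp, Ext.mk₀_id_comp]
      exact hs
    obtain ⟨z, hz⟩ := Ext.contravariant_sequence_exact₂ hS (ModuleCat.of R M) e hfe
    rw [← hz, hN.elim z 0, Ext.comp_zero]

/-- Injective dimension from Bass numbers, arbitrary module. -/
theorem hasInjectiveDimensionLT_of_bassNum (M : Type u) [AddCommGroup M] [Module R M] (n : ℕ)
    (h : ∀ (p : Ideal R) [p.IsPrime] (i : ℕ), n + 1 ≤ i → GrLC.bassNum p M i = 0) :
    HasInjectiveDimensionLT (ModuleCat.of R M) (n + 1) := by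
  refine Groth.Agent.Lib.Helper18.hasInjectiveDimensionLT_of_ext_cyclic R n (ModuleCat.of R M)
    fun I => ?_
  refine Groth.Agent.Lib.Helper16.Depth.subsingleton_ext_of_forall_prime (ModuleCat.of R M) (n + 1)
    Set.univ (fun q _ => subsingleton_ext_quot_prime_of_bassNum M (n + 1) h q.asIdeal q.2 (n + 1)
      le_rfl) (R ⧸ I) (Set.subset_univ _)

end Groth.Agent.Lib.Helper11.GrCore
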