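import Mathlib
import Groth.Prelude.Def_GrLC

/-!
# Graded category basics for `GrLC`: homogeneous maps and decompositions, homogeneous kernels/ranges,
retractions of *injectives, uniqueness of *injective hulls, *essential ⇒ essential.
-/

set_option autoImplicit false
set_option linter.unusedSectionVars false
universe u

namespace Groth.Agent.Lib.Helper11.GrLCLib

open DirectSum GrLC

section Basic

variable {ι : Type} [DecidableEq ι] [AddCommGroup ι]
variable {R : Type u} [CommRing R]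
variable {M : Type u} [AddCommGroup M] [Module R M] {τ : Type u} [SetLike τ M] [AddSubgroupClass τ M]
  (ℳ : ι → τ) [DirectSum.Decomposition ℳ]
variable {N : Type u} [AddCommGroup N] [Module R N] {τ' : Type u} [SetLike τ' N] [AddSubgroupClass τ' N]
  (𝒩 : ι → τ') [DirectSum.Decomposition 𝒩]

/-- A map homogeneous of degree `d` commutes with taking homogeneous components (shifted by `d`). -/
lemma decompose_map_deg {f : M →ₗ[R] N} {d : ι} (hf : IsGrHomDeg ℳ 𝒩 f d) (x : M) (h : ι) :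
    (decompose 𝒩 (f x) (h + d) : N) = f (decompose ℳ x h : M) := by
  induction x using DirectSum.Decomposition.inductionOn ℳ with
  | zero => simp
  | @homogeneous g m =>
    by_cases hgh : g = h
    · subst hgh
      rw [decompose_of_mem_same 𝒩 (hf g _ m.2), decompose_of_mem_same ℳ m.2]
    · have hne : g + d ≠ h + d := fun e => hgh (add_right_cancel e)
      rw [decompose_of_mem_ne 𝒩 (hf g _ m.2) hne, decompose_of_mem_ne ℳ m.2 hgh, map_zero]
  | add x y hx hy =>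
    rw [map_add, decompose_add, decompose_add, DirectSum.add_apply, DirectSum.add_apply,
      AddMemClass.coe_add, AddMemClass.coe_add, map_add, hx, hy]

lemma isGrHomDeg_zero_iff {f : M →ₗ[R] N} : IsGrHomDeg ℳ 𝒩 f 0 ↔ IsGrHom ℳ 𝒩 f := by
  constructor
  · intro h g m hm; have := h g m hm; rwa [add_zero] at this
  · intro h g m hm; rw [add_zero]; exact h g m hm

/-- A homogeneous map commutes with taking homogeneous components. -/
lemma decompose_map {f : M →ₗ[R] N} (hf : IsGrHom ℳ 𝒩 f) (x : M) (h : ι) :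
    (decompose 𝒩 (f x) h : N) = f (decompose ℳ x h : M) := by
  have := decompose_map_deg ℳ 𝒩 ((isGrHomDeg_zero_iff ℳ 𝒩).mpr hf) x h
  rwa [add_zero] at this

lemma ker_isHomogeneous_deg {f : M →ₗ[R] N} {d : ι} (hf : IsGrHomDeg ℳ 𝒩 f d) :
    (LinearMap.ker f).IsHomogeneous ℳ := by
  intro g x hx
  rw [LinearMap.mem_ker] at hx ⊢
  rw [← decompose_map_deg ℳ 𝒩 hf, hx, decompose_zero, DirectSum.zero_apply, ZeroMemClass.coe_zero]

lemma range_isHomogeneous_deg {f : M →ₗ[R] N} {d : ι} (hf : IsGrHomDeg ℳ 𝒩 f d) :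
    (LinearMap.range f).IsHomogeneous 𝒩 := by
  rintro g _ ⟨x, rfl⟩
  have := decompose_map_deg ℳ 𝒩 hf x (g - d)
  rw [sub_add_cancel] at this
  exact ⟨(decompose ℳ x (g - d) : M), this.symm⟩

lemma ker_isHomogeneous {f : M →ₗ[R] N} (hf : IsGrHom ℳ 𝒩 f) :
    (LinearMap.ker f).IsHomogeneous ℳ :=
  ker_isHomogeneous_deg ℳ 𝒩 ((isGrHomDeg_zero_iff ℳ 𝒩).mpr hf)

lemma range_isHomogeneous {f : M →ₗ[R] N} (hf : IsGrHom ℳ 𝒩 f) :
    (LinearMap.range f).IsHomogeneous 𝒩 :=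
  range_isHomogeneous_deg ℳ 𝒩 ((isGrHomDeg_zero_iff ℳ 𝒩).mpr hf)

omit [DirectSum.Decomposition ℳ] [DirectSum.Decomposition 𝒩] in
lemma isGrHom_comp {P : Type u} [AddCommGroup P] [Module R P] {τ'' : Type u} [SetLike τ'' P]
    (𝒦 : ι → τ'')
    {f : M →ₗ[R] N} {g : N →ₗ[R] P} (hf : IsGrHom ℳ 𝒩 f) (hg : IsGrHom 𝒩 𝒦 g) :
    IsGrHom ℳ 𝒦 (g ∘ₗ f) :=
  fun d m hm => hg d _ (hf d m hm)

omit [DirectSum.Decomposition ℳ] in
lemma isGrHom_id : IsGrHom ℳ ℳ (LinearMap.id : M →ₗ[R] M) := fun _ _ hm => hm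

variable {σ : Type u} [SetLike σ R] [AddSubgroupClass σ R] (𝒜 : ι → σ) [GradedRing 𝒜]

/-- Multiplication by a homogeneous element of degree `h` is homogeneous of degree `h`. -/
lemma isGrHomDeg_lsmul [SetLike.GradedSMul 𝒜 ℳ] {h : ι} {r : R} (hr : r ∈ 𝒜 h) :
    IsGrHomDeg ℳ ℳ (LinearMap.lsmul R M r) h := by
  intro g m hm
  have := SetLike.GradedSMul.smul_mem (A := 𝒜) (B := ℳ) hr hm
  rw [vadd_eq_add, add_comm] at this
  exact this

/-- `r ↦ r • y` is homogeneous of degree `g` for `y` of degree `g`. -/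
lemma isGrHomDeg_toSpanSingleton [SetLike.GradedSMul 𝒜 ℳ] {g : ι} {y : M} (hy : y ∈ ℳ g) :
    IsGrHomDeg 𝒜 ℳ (LinearMap.toSpanSingleton R M y) g := by
  intro h r hr
  have := SetLike.GradedSMul.smul_mem (A := 𝒜) (B := ℳ) hr hy
  rw [vadd_eq_add] at this
  exact this

/-- Components of `r • x` for homogeneous `r`. -/
lemma decompose_smul_of_mem [SetLike.GradedSMul 𝒜 ℳ] {h : ι} {r : R} (hr : r ∈ 𝒜 h) (x : M) (g : ι) :
    (decompose ℳ (r • x) (g + h) : M) = r • (decompose ℳ x g : M) :=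
  decompose_map_deg ℳ ℳ (isGrHomDeg_lsmul ℳ 𝒜 hr) x g

end Basic

section Star

variable {ι : Type} [DecidableEq ι] [AddCommGroup ι]
variable {R : Type u} [CommRing R]
variable {M : Type u} [AddCommGroup M] [Module R M] (ℳ : ι → AddSubgroup M) [DirectSum.Decomposition ℳ]
variable {N : Type u} [AddCommGroup N] [Module R N] (𝒩 : ι → AddSubgroup N) [DirectSum.Decomposition 𝒩]
variable {σ : Type u} [SetLike σ R] [AddSubgroupClass σ R] (𝒜 : ι → σ) [GradedRing 𝒜]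
variable [SetLike.GradedSMul 𝒜 ℳ] [SetLike.GradedSMul 𝒜 𝒩]

/-- A homogeneous injection out of a *injective module has a homogeneous retraction. -/
lemma exists_retraction (hM : IsStarInj 𝒜 ℳ) {f : M →ₗ[R] N} (hf : IsGrHom ℳ 𝒩 f)
    (hinj : Function.Injective f) :
    ∃ r : N →ₗ[R] M, IsGrHom 𝒩 ℳ r ∧ r ∘ₗ f = LinearMap.id := by
  exact hM (GMod.of 𝒜 M ℳ) (GMod.of 𝒜 N 𝒩) f hf hinj LinearMap.id (isGrHom_id ℳ)

/-- A *essential homogeneous injection out of a *injective module is surjective. -/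
lemma surjective_of_isStarEss_of_isStarInj (hM : IsStarInj 𝒜 ℳ) {f : M →ₗ[R] N}
    (hf : IsStarEss ℳ 𝒩 f) : Function.Surjective f := by
  obtain ⟨r, hr, hrf⟩ := exists_retraction ℳ 𝒩 𝒜 hM hf.grHom hf.injective
  have hker : LinearMap.ker r = ⊥ := by
    by_contra hne
    apply hf.essential _ (ker_isHomogeneous 𝒩 ℳ hr) hne
    rw [eq_bot_iff]
    rintro _ ⟨hx, ⟨m, rfl⟩⟩
    rw [SetLike.mem_coe, LinearMap.mem_ker] at hx
    have : m = 0 := by
      have := LinearMap.congr_fun hrf m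
      simpa [hx] using this.symm
    rw [this, map_zero]; exact Submodule.zero_mem _
  intro n
  refine ⟨r n, ?_⟩
  have hinj : Function.Injective r := LinearMap.ker_eq_bot.mp hker
  apply hinj
  exact LinearMap.congr_fun hrf (r n)

/-- Uniqueness of *injective hulls. -/
theorem starInjHull_unique {E₁ : Type u} [AddCommGroup E₁] [Module R E₁] (𝓔₁ : ι → AddSubgroup E₁)
    [DirectSum.Decomposition 𝓔₁] [SetLike.GradedSMul 𝒜 𝓔₁]
    {E₂ : Type u} [AddCommGroup E₂] [Module R E₂] (𝓔₂ : ι → AddSubgroup E₂)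
    [DirectSum.Decomposition 𝓔₂] [SetLike.GradedSMul 𝒜 𝓔₂]
    (f₁ : M →ₗ[R] E₁) (f₂ : M →ₗ[R] E₂)
    (h₁ : IsStarInjHull 𝒜 ℳ 𝓔₁ f₁) (h₂ : IsStarInjHull 𝒜 ℳ 𝓔₂ f₂) :
    ∃ β : E₁ ≃ₗ[R] E₂, IsGrHom 𝓔₁ 𝓔₂ β.toLinearMap ∧ β.toLinearMap ∘ₗ f₁ = f₂ := by
  obtain ⟨β₀, hβ₀, hcomp⟩ := h₂.starInj (GMod.of 𝒜 M ℳ) (GMod.of 𝒜 E₁ 𝓔₁) f₁ h₁.grHom h₁.injective
    f₂ h₂.grHom
  have hinj : Function.Injective β₀ := by
    rw [← LinearMap.ker_eq_bot]
    by_contra hne
    apply h₁.essential _ (ker_isHomogeneous 𝓔₁ 𝓔₂ hβ₀) hne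
    rw [eq_bot_iff]
    rintro _ ⟨hx, ⟨m, rfl⟩⟩
    rw [SetLike.mem_coe, LinearMap.mem_ker] at hx
    have h2 : f₂ m = 0 := by rw [← hcomp]; exact hx
    have : m = 0 := h₂.injective (by rw [h2, map_zero])
    rw [this, map_zero]; exact Submodule.zero_mem _
  have hess : IsStarEss 𝓔₁ 𝓔₂ β₀ := by
    refine ⟨hinj, hβ₀, fun P hP hne => ?_⟩
    intro hbot
    apply h₂.essential P hP hne
    rw [eq_bot_iff, ← hbot]
    refine inf_le_inf_left _ ?_
    rw [← hcomp]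
    exact LinearMap.range_comp_le_range f₁ β₀
  have hsurj := surjective_of_isStarEss_of_isStarInj 𝓔₁ 𝓔₂ 𝒜 h₁.starInj hess
  refine ⟨LinearEquiv.ofBijective β₀ ⟨hinj, hsurj⟩, ?_, ?_⟩
  · exact hβ₀
  · exact hcomp

end Star

end Groth.Agent.Lib.Helper11.GrLCLib
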