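import Mathlib
import Groth.Prelude.Def_GrLC
import Groth.Agent.Lib.Helper11.GrLC

/-!
# Decompositions from projections; shifted gradings, graded submodules and quotients as `GMod`s
-/

set_option autoImplicit false
set_option linter.unusedSectionVars false
universe u

namespace Groth.Agent.Lib.Helper11.GrLCLib

open DirectSum GrLC

section Proj

variable {ι : Type*} [DecidableEq ι] {P : Type*} [AddCommGroup P] (𝒬 : ι → AddSubgroup P)

lemma proj_coe (π : ι → P →+ P)
    (hsame : ∀ g x, x ∈ 𝒬 g → π g x = x) (hne : ∀ g g' x, x ∈ 𝒬 g → g' ≠ g → π g' x = 0)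
    (d : ⨁ g, 𝒬 g) (g : ι) : π g (DirectSum.coeAddMonoidHom 𝒬 d) = (d g : P) := by
  induction d using DirectSum.induction_on with
  | zero => simp
  | of h x =>
    rw [DirectSum.coeAddMonoidHom_of]
    by_cases e : g = h
    · subst e
      rw [hsame g _ x.2, DirectSum.of_eq_same]
    · rw [hne h g _ x.2 e, DirectSum.of_eq_of_ne _ _ _ e, ZeroMemClass.coe_zero]
  | add a b ha hb =>
    rw [map_add, map_add, ha, hb, DirectSum.add_apply, AddSubgroup.coe_add]

theorem isInternal_of_proj (π : ι → P →+ P) (hmem : ∀ g x, π g x ∈ 𝒬 g)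
    (hsame : ∀ g x, x ∈ 𝒬 g → π g x = x) (hne : ∀ g g' x, x ∈ 𝒬 g → g' ≠ g → π g' x = 0)
    (hsum : ∀ x, ∃ s : Finset ι, ∑ g ∈ s, π g x = x) : DirectSum.IsInternal 𝒬 := by
  constructor
  · rw [injective_iff_map_eq_zero]
    intro d hd
    ext g
    rw [← proj_coe 𝒬 π hsame hne d g, hd, map_zero, DirectSum.zero_apply, ZeroMemClass.coe_zero]
  · intro x
    obtain ⟨s, hs⟩ := hsum x
    refine ⟨∑ g ∈ s, DirectSum.of (fun g => 𝒬 g) g ⟨π g x, hmem g x⟩, ?_⟩
    rw [map_sum]
    simp only [DirectSum.coeAddMonoidHom_of]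
    exact hs

lemma decompose_eq_proj [DirectSum.Decomposition 𝒬] (π : ι → P →+ P)
    (hsame : ∀ g x, x ∈ 𝒬 g → π g x = x) (hne : ∀ g g' x, x ∈ 𝒬 g → g' ≠ g → π g' x = 0)
    (x : P) (g : ι) : (decompose 𝒬 x g : P) = π g x := by
  have := proj_coe 𝒬 π hsame hne (decompose 𝒬 x) g
  rw [← this]
  congr 1
  exact ((decompose 𝒬).symm_apply_apply x)

end Proj

end Groth.Agent.Lib.Helper11.GrLCLib
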