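import Mathlib
import Groth.Prelude.Def_GrLC
import Groth.Agent.Lib.Helper11.GrLC
import Groth.Agent.Lib.Helper11.GrLCDecomp

/-!
# Homogeneous submodules and quotients by them as graded modules; shifted gradings
-/

set_option autoImplicit false
set_option linter.unusedSectionVars false
universe u

namespace Groth.Agent.Lib.Helper11.GrLCLib

open DirectSum GrLC

variable {ι : Type} [DecidableEq ι] [AddCommGroup ι]
variable {R : Type u} [CommRing R] (𝒜 : ι → AddSubgroup R) [GradedRing 𝒜]
variable {E : Type u} [AddCommGroup E] [Module R E] (𝓔 : ι → AddSubgroup E) [DirectSum.Decomposition 𝓔]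
  [SetLike.GradedSMul 𝒜 𝓔]

/-- The `g`-th component as an additive endomorphism. -/
noncomputable def compHom (g : ι) : E →+ E where
  toFun x := (decompose 𝓔 x g : E)
  map_zero' := by simp
  map_add' x y := by rw [decompose_add, DirectSum.add_apply, AddSubgroup.coe_add]

lemma compHom_apply (g : ι) (x : E) : compHom 𝓔 g x = (decompose 𝓔 x g : E) := rfl

section Sub

variable (P : Submodule R E)

/-- The pieces of a submodule. -/
def subGr (g : ι) : AddSubgroup P := (𝓔 g).comap P.subtype.toAddMonoidHom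

lemma mem_subGr {g : ι} {x : P} : x ∈ subGr 𝓔 P g ↔ (x : E) ∈ 𝓔 g := Iff.rfl

/-- Component maps on a homogeneous submodule. -/
noncomputable def subProj (hP : P.IsHomogeneous 𝓔) (g : ι) : P →+ P where
  toFun x := ⟨(decompose 𝓔 (x : E) g : E), hP g x.2⟩
  map_zero' := by ext; simp
  map_add' x y := by
    ext
    simp only [Submodule.coe_add, decompose_add, DirectSum.add_apply, AddSubgroup.coe_add]

lemma subGr_isInternal (hP : P.IsHomogeneous 𝓔) : DirectSum.IsInternal (subGr 𝓔 P) := by
  classical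
  refine isInternal_of_proj (subGr 𝓔 P) (subProj 𝓔 P hP) ?_ ?_ ?_ ?_
  · intro g x; exact SetLike.coe_mem (decompose 𝓔 (x : E) g)
  · intro g x hx
    ext
    exact decompose_of_mem_same 𝓔 hx
  · intro g g' x hx hne
    ext
    exact decompose_of_mem_ne 𝓔 hx (Ne.symm hne)
  · intro x
    refine ⟨(decompose 𝓔 (x : E)).support, ?_⟩
    ext
    rw [Submodule.coe_sum]
    exact DirectSum.sum_support_decompose 𝓔 (x : E)

/-- The decomposition of a homogeneous submodule. -/
@[instance_reducible]
noncomputable def subDecomposition (hP : P.IsHomogeneous 𝓔) : DirectSum.Decomposition (subGr 𝓔 P) :=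
  (subGr_isInternal 𝓔 P hP).chooseDecomposition

instance subGradedSMul : SetLike.GradedSMul 𝒜 (subGr 𝓔 P) where
  smul_mem := by
    intro h g r x hr hx
    exact SetLike.GradedSMul.smul_mem (A := 𝒜) (B := 𝓔) hr hx

/-- A homogeneous submodule as a bundled graded module. -/
noncomputable abbrev subGMod (hP : P.IsHomogeneous 𝓔) : GMod.{u} 𝒜 :=
  { carrier := P, gr := subGr 𝓔 P, dec := subDecomposition 𝓔 P hP }

lemma subtype_isGrHom : IsGrHom (subGr 𝓔 P) 𝓔 P.subtype := fun _ _ hx => hx

end Sub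

section Quot

variable (P : Submodule R E)

/-- The pieces of a quotient. -/
def quotGrM (g : ι) : AddSubgroup (E ⧸ P) := (𝓔 g).map P.mkQ.toAddMonoidHom

lemma mkQ_isGrHom : IsGrHom 𝓔 (quotGrM 𝓔 P) P.mkQ := fun _ x hx => ⟨x, hx, rfl⟩

/-- Component maps on the quotient by a homogeneous submodule. -/
noncomputable def quotProj (hP : P.IsHomogeneous 𝓔) (g : ι) : (E ⧸ P) →+ (E ⧸ P) :=
  AddMonoidHom.liftOfRightInverseAux P.mkQ.toAddMonoidHom
    (Function.surjInv P.mkQ_surjective) (Function.rightInverse_surjInv P.mkQ_surjective)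
    (P.mkQ.toAddMonoidHom.comp (compHom 𝓔 g))
    (by
      intro x hx
      rw [AddMonoidHom.mem_ker] at hx ⊢
      have hx' : x ∈ P := (Submodule.Quotient.mk_eq_zero P).mp hx
      exact (Submodule.Quotient.mk_eq_zero P).mpr (hP g hx'))

lemma quotProj_mk (hP : P.IsHomogeneous 𝓔) (g : ι) (x : E) :
    quotProj 𝓔 P hP g (P.mkQ x) = P.mkQ (decompose 𝓔 x g : E) :=
  AddMonoidHom.liftOfRightInverseAux_comp_apply _ _ _ _ _ x

lemma quotGr_isInternal (hP : P.IsHomogeneous 𝓔) : DirectSum.IsInternal (quotGrM 𝓔 P) := by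
  classical
  refine isInternal_of_proj (quotGrM 𝓔 P) (quotProj 𝓔 P hP) ?_ ?_ ?_ ?_
  · intro g y
    obtain ⟨x, rfl⟩ := P.mkQ_surjective y
    rw [quotProj_mk]
    exact ⟨_, SetLike.coe_mem _, rfl⟩
  · rintro g _ ⟨x, hx, rfl⟩
    change quotProj 𝓔 P hP g (P.mkQ x) = P.mkQ x
    rw [quotProj_mk, decompose_of_mem_same 𝓔 hx]
  · rintro g g' _ ⟨x, hx, rfl⟩ hne
    change quotProj 𝓔 P hP g' (P.mkQ x) = 0
    rw [quotProj_mk, decompose_of_mem_ne 𝓔 hx (Ne.symm hne), map_zero]
  · intro y
    obtain ⟨x, rfl⟩ := P.mkQ_surjective y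
    refine ⟨(decompose 𝓔 x).support, ?_⟩
    simp only [quotProj_mk]
    rw [← map_sum, DirectSum.sum_support_decompose 𝓔 x]

/-- The decomposition of a quotient by a homogeneous submodule. -/
@[instance_reducible]
noncomputable def quotDecomposition (hP : P.IsHomogeneous 𝓔) : DirectSum.Decomposition (quotGrM 𝓔 P) :=
  (quotGr_isInternal 𝓔 P hP).chooseDecomposition

instance quotGradedSMul : SetLike.GradedSMul 𝒜 (quotGrM 𝓔 P) where
  smul_mem := by
    rintro h g r _ hr ⟨x, hx, rfl⟩
    exact ⟨r • x, SetLike.GradedSMul.smul_mem (A := 𝒜) (B := 𝓔) hr hx, by simp⟩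

/-- The quotient by a homogeneous submodule as a bundled graded module. -/
noncomputable abbrev quotGMod (hP : P.IsHomogeneous 𝓔) : GMod.{u} 𝒜 :=
  { carrier := E ⧸ P, gr := quotGrM 𝓔 P, dec := quotDecomposition 𝓔 P hP }

/-- The preimage of a homogeneous submodule of the quotient is homogeneous. -/
lemma comap_mkQ_isHomogeneous [DirectSum.Decomposition (quotGrM 𝓔 P)] (N : Submodule R (E ⧸ P))
    (hN : N.IsHomogeneous (quotGrM 𝓔 P)) : (N.comap P.mkQ).IsHomogeneous 𝓔 := by
  intro g x hx
  rw [Submodule.mem_comap] at hx ⊢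
  rw [← decompose_map 𝓔 (quotGrM 𝓔 P) (mkQ_isGrHom 𝓔 P)]
  exact hN g hx

end Quot

section Shift

variable (d : ι)

/-- Shifted grading: `(E(d))_j = E_{j+d}`. -/
def shiftGr (j : ι) : AddSubgroup E := 𝓔 (j + d)

lemma shiftGr_isInternal : DirectSum.IsInternal (shiftGr 𝓔 d) := by
  classical
  refine isInternal_of_proj (shiftGr 𝓔 d) (fun j => compHom 𝓔 (j + d)) ?_ ?_ ?_ ?_
  · intro j x; exact SetLike.coe_mem _
  · intro j x hx; exact decompose_of_mem_same 𝓔 hx
  · intro j j' x hx hne
    exact decompose_of_mem_ne 𝓔 hx (fun e => hne (add_right_cancel e).symm)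
  · intro x
    refine ⟨(decompose 𝓔 x).support.image (fun k => k - d), ?_⟩
    rw [Finset.sum_image (fun a _ b _ h => sub_left_injective h)]
    simp only [compHom_apply, sub_add_cancel]
    exact DirectSum.sum_support_decompose 𝓔 x

/-- The decomposition for the shifted grading. -/
@[instance_reducible]
noncomputable def shiftDecomposition : DirectSum.Decomposition (shiftGr 𝓔 d) :=
  (shiftGr_isInternal 𝓔 d).chooseDecomposition

instance shiftGradedSMul : SetLike.GradedSMul 𝒜 (shiftGr 𝓔 d) where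
  smul_mem := by
    intro h j r x hr hx
    have := SetLike.GradedSMul.smul_mem (A := 𝒜) (B := 𝓔) hr hx
    rw [vadd_eq_add, ← add_assoc] at this
    exact this

/-- The shifted graded module. -/
noncomputable abbrev shiftGMod : GMod.{u} 𝒜 :=
  { carrier := E, gr := shiftGr 𝓔 d, dec := shiftDecomposition 𝓔 d }

/-- Homogeneity is insensitive to the shift. -/
lemma isHomogeneous_shift_iff [DirectSum.Decomposition (shiftGr 𝓔 d)] (P : Submodule R E) :
    P.IsHomogeneous (shiftGr 𝓔 d) ↔ P.IsHomogeneous 𝓔 := by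
  have key : ∀ (x : E) (j : ι), (decompose (shiftGr 𝓔 d) x j : E) = (decompose 𝓔 x (j + d) : E) := by
    intro x j
    exact decompose_eq_proj (shiftGr 𝓔 d) (fun j => compHom 𝓔 (j + d))
      (fun j x hx => decompose_of_mem_same 𝓔 hx)
      (fun j j' x hx hne => decompose_of_mem_ne 𝓔 hx (fun e => hne (add_right_cancel e).symm)) x j
  constructor
  · intro h g x hx
    have := h (g - d) hx
    rwa [key, sub_add_cancel] at this
  · intro h j x hx
    rw [key]
    exact h (j + d) hx

end Shift

end Groth.Agent.Lib.Helper11.GrLCLib
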