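import Mathlib
import Groth.Prelude.Def_GrLC
import Groth.Agent.Lib.Helper11.GrLC
import Groth.Agent.Lib.Helper11.GrLCDecomp
import Groth.Agent.Lib.Helper11.GrLCSubQuot
import Groth.Agent.Lib.Helper11.GrCoreB

/-!
# The grading on `Hom_R(K, M)` for a finitely generated graded module `K`
-/

set_option autoImplicit false
set_option linter.unusedSectionVars false
universe u

namespace Groth.Agent.Lib.Helper11.GrExt

open DirectSum GrLC Groth.Agent.Lib.Helper11.GrLCLib Groth.Agent.Lib.Helper11.GrCore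

variable {ι : Type} [DecidableEq ι] [AddCommGroup ι]
variable {R : Type u} [CommRing R] (𝒜 : ι → AddSubgroup R) [GradedRing 𝒜]
variable {K : Type u} [AddCommGroup K] [Module R K] (𝒦 : ι → AddSubgroup K)
  [DirectSum.Decomposition 𝒦] [SetLike.GradedSMul 𝒜 𝒦]
variable {M : Type u} [AddCommGroup M] [Module R M] (ℳ : ι → AddSubgroup M)
  [DirectSum.Decomposition ℳ] [SetLike.GradedSMul 𝒜 ℳ]

/-- additive maps agreeing on homogeneous elements agree. -/
lemma addHom_ext_homogeneous {N : Type*} [AddCommGroup N] {φ ψ : K →+ N}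
    (h : ∀ g, ∀ x ∈ 𝒦 g, φ x = ψ x) : φ = ψ := by
  ext x
  induction x using DirectSum.Decomposition.inductionOn 𝒦 with
  | zero => rw [map_zero, map_zero]
  | homogeneous x => exact h _ _ x.2
  | add x y hx hy => rw [map_add, map_add, hx, hy]

lemma linearMap_ext_homogeneous {f f' : K →ₗ[R] M}
    (h : ∀ g, ∀ x ∈ 𝒦 g, f x = f' x) : f = f' := by
  have := addHom_ext_homogeneous 𝒦 (φ := f.toAddMonoidHom) (ψ := f'.toAddMonoidHom) h
  ext x
  exact DFunLike.congr_fun this x

/-- The maps homogeneous of degree `d`. -/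
def homGr (d : ι) : AddSubgroup (K →ₗ[R] M) where
  carrier := {f | IsGrHomDeg 𝒦 ℳ f d}
  zero_mem' := fun g x _ => by
    rw [LinearMap.zero_apply]
    exact zero_mem _
  add_mem' := fun {f f'} hf hf' g x hx => by
    rw [LinearMap.add_apply]
    exact add_mem (hf g x hx) (hf' g x hx)
  neg_mem' := fun {f} hf g x hx => by
    rw [LinearMap.neg_apply]
    exact neg_mem (hf g x hx)

lemma mem_homGr {d : ι} {f : K →ₗ[R] M} : f ∈ homGr (R := R) 𝒦 ℳ d ↔ IsGrHomDeg 𝒦 ℳ f d := Iff.rfl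

include 𝒜 in
instance homGradedSMul : SetLike.GradedSMul 𝒜 (homGr (R := R) 𝒦 ℳ) where
  smul_mem := by
    intro h d r f hr hf g x hx
    rw [LinearMap.smul_apply]
    have h1 := SetLike.GradedSMul.smul_mem (A := 𝒜) (B := ℳ) hr (hf g x hx)
    rw [vadd_eq_add] at h1 ⊢
    have : h + (g + d) = g + (h + d) := by abel
    rw [← this]
    exact h1

/-- The degree-`d` component of a linear map, as an additive map. -/
noncomputable def compAdd (f : K →ₗ[R] M) (d : ι) : K →+ M :=
  (DirectSum.toAddMonoid (fun g : ι =>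
    ((compHom ℳ (g + d)).comp (f.toAddMonoidHom.comp (𝒦 g).subtype)))).comp
    (DirectSum.decomposeAddEquiv 𝒦).toAddMonoidHom

lemma compAdd_of_mem (f : K →ₗ[R] M) (d : ι) {g : ι} {x : K} (hx : x ∈ 𝒦 g) :
    compAdd 𝒦 ℳ f d x = (decompose ℳ (f x) (g + d) : M) := by
  unfold compAdd
  rw [AddMonoidHom.comp_apply]
  change DirectSum.toAddMonoid _ (decompose 𝒦 x) = _
  rw [decompose_of_mem 𝒦 hx, DirectSum.toAddMonoid_of]
  rfl

include 𝒜 in
lemma compAdd_smul (f : K →ₗ[R] M) (d : ι) (r : R) (x : K) :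
    compAdd 𝒦 ℳ f d (r • x) = r • compAdd 𝒦 ℳ f d x := by
  induction x using DirectSum.Decomposition.inductionOn 𝒦 with
  | zero => rw [smul_zero, map_zero, smul_zero]
  | add x y hx hy => rw [smul_add, map_add, map_add, hx, hy, smul_add]
  | @homogeneous g x =>
    induction r using DirectSum.Decomposition.inductionOn 𝒜 with
    | zero => rw [zero_smul, map_zero, zero_smul]
    | add r r' hr hr' => rw [add_smul, map_add, hr, hr', add_smul]
    | @homogeneous h r =>
      have hrx : (r : R) • (x : K) ∈ 𝒦 (h + g) := by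
        have := SetLike.GradedSMul.smul_mem (A := 𝒜) (B := 𝒦) r.2 x.2
        rwa [vadd_eq_add] at this
      rw [compAdd_of_mem 𝒦 ℳ f d hrx, compAdd_of_mem 𝒦 ℳ f d x.2, map_smul]
      have : h + g + d = (g + d) + h := by abel
      rw [this]
      exact decompose_smul_of_mem ℳ 𝒜 r.2 (f x) (g + d)

/-- The degree-`d` component of a linear map. -/
noncomputable def hcomp (f : K →ₗ[R] M) (d : ι) : K →ₗ[R] M where
  toFun := compAdd 𝒦 ℳ f d
  map_add' := map_add _
  map_smul' := compAdd_smul 𝒜 𝒦 ℳ f d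

lemma hcomp_of_mem (f : K →ₗ[R] M) (d : ι) {g : ι} {x : K} (hx : x ∈ 𝒦 g) :
    hcomp 𝒜 𝒦 ℳ f d x = (decompose ℳ (f x) (g + d) : M) := compAdd_of_mem 𝒦 ℳ f d hx

lemma hcomp_mem (f : K →ₗ[R] M) (d : ι) : hcomp 𝒜 𝒦 ℳ f d ∈ homGr 𝒦 ℳ d := by
  intro g x hx
  rw [hcomp_of_mem 𝒜 𝒦 ℳ f d hx]
  exact SetLike.coe_mem _

/-- The component maps on `Hom`. -/
noncomputable def homProj (d : ι) : (K →ₗ[R] M) →+ (K →ₗ[R] M) where
  toFun f := hcomp 𝒜 𝒦 ℳ f d
  map_zero' := by
    apply linearMap_ext_homogeneous 𝒦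
    intro g x hx
    rw [hcomp_of_mem 𝒜 𝒦 ℳ _ d hx, LinearMap.zero_apply, decompose_zero, DirectSum.zero_apply,
      ZeroMemClass.coe_zero]
  map_add' f f' := by
    apply linearMap_ext_homogeneous 𝒦
    intro g x hx
    rw [LinearMap.add_apply, hcomp_of_mem 𝒜 𝒦 ℳ _ d hx, hcomp_of_mem 𝒜 𝒦 ℳ _ d hx,
      hcomp_of_mem 𝒜 𝒦 ℳ _ d hx, LinearMap.add_apply, decompose_add, DirectSum.add_apply,
      AddSubgroup.coe_add]

lemma homProj_apply (d : ι) (f : K →ₗ[R] M) : homProj 𝒜 𝒦 ℳ d f = hcomp 𝒜 𝒦 ℳ f d := rfl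

/-- A finite graded module is generated by finitely many homogeneous elements. -/
lemma exists_homogeneous_generators [Module.Finite R K] :
    ∃ G : Finset K, (∀ x ∈ G, SetLike.IsHomogeneousElem 𝒦 x) ∧ Submodule.span R (G : Set K) = ⊤ := by
  classical
  obtain ⟨G0, hG0⟩ := (Module.finite_def.1 (inferInstance : Module.Finite R K))
  refine ⟨G0.biUnion (fun x => (DFinsupp.support (decompose 𝒦 x)).image
    (fun g => (decompose 𝒦 x g : K))), ?_, ?_⟩
  · intro y hy
    rw [Finset.mem_biUnion] at hy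
    obtain ⟨x, _, hy⟩ := hy
    rw [Finset.mem_image] at hy
    obtain ⟨g, _, rfl⟩ := hy
    exact ⟨g, SetLike.coe_mem _⟩
  · rw [eq_top_iff, ← hG0, Submodule.span_le]
    intro x hx
    rw [SetLike.mem_coe, ← DirectSum.sum_support_decompose 𝒦 x]
    refine Submodule.sum_mem _ fun g hg => Submodule.subset_span ?_
    rw [Finset.mem_coe, Finset.mem_biUnion]
    exact ⟨x, hx, Finset.mem_image.2 ⟨g, hg, rfl⟩⟩

include 𝒜 in
theorem homGr_isInternal [Module.Finite R K] : DirectSum.IsInternal (homGr (R := R) 𝒦 ℳ) := by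
  classical
  refine isInternal_of_proj (homGr 𝒦 ℳ) (homProj 𝒜 𝒦 ℳ) ?_ ?_ ?_ ?_
  · intro d f
    exact hcomp_mem 𝒜 𝒦 ℳ f d
  · intro d f hf
    apply linearMap_ext_homogeneous 𝒦
    intro g x hx
    rw [homProj_apply, hcomp_of_mem 𝒜 𝒦 ℳ _ d hx, decompose_of_mem_same ℳ (hf g x hx)]
  · intro d d' f hf hne
    apply linearMap_ext_homogeneous 𝒦
    intro g x hx
    rw [homProj_apply, hcomp_of_mem 𝒜 𝒦 ℳ _ d' hx, LinearMap.zero_apply,
      decompose_of_mem_ne ℳ (hf g x hx) (fun h => hne (add_left_cancel h).symm)]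
  · intro f
    obtain ⟨G, hGh, hG⟩ := exists_homogeneous_generators (R := R) 𝒦
    let deg : K → ι := fun x => if h : SetLike.IsHomogeneousElem 𝒦 x then h.choose else 0
    have hdeg : ∀ x ∈ G, x ∈ 𝒦 (deg x) := by
      intro x hx
      simp only [deg, dif_pos (hGh x hx)]
      exact (hGh x hx).choose_spec
    refine ⟨G.biUnion (fun x => (DFinsupp.support (decompose ℳ (f x))).image
      (fun g' => g' - deg x)), ?_⟩
    apply LinearMap.ext_on hG
    intro x hx
    have hx' : x ∈ G := hx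
    rw [LinearMap.sum_apply]
    simp only [homProj_apply, hcomp_of_mem 𝒜 𝒦 ℳ f _ (hdeg x hx')]
    set s := G.biUnion (fun x => (DFinsupp.support (decompose ℳ (f x))).image
      (fun g' => g' - deg x)) with hs
    have h1 : ∑ d ∈ s, (decompose ℳ (f x) (deg x + d) : M) =
        ∑ g' ∈ s.image (fun d => deg x + d), (decompose ℳ (f x) g' : M) := by
      rw [Finset.sum_image]
      intro a _ b _ hab
      exact add_left_cancel hab
    rw [h1]
    have h2 : DFinsupp.support (decompose ℳ (f x)) ⊆ s.image (fun d => deg x + d) := by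
      intro g' hg'
      rw [Finset.mem_image]
      refine ⟨g' - deg x, ?_, by abel⟩
      rw [hs, Finset.mem_biUnion]
      exact ⟨x, hx', Finset.mem_image.2 ⟨g', hg', rfl⟩⟩
    rw [← Finset.sum_subset h2, DirectSum.sum_support_decompose ℳ (f x)]
    intro g' _ hg'
    rw [DFinsupp.notMem_support_iff] at hg'
    rw [hg', ZeroMemClass.coe_zero]

/-- The decomposition of `Hom(K, M)` for finite graded `K`. -/
@[instance_reducible]
noncomputable def homDecomposition [Module.Finite R K] :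
    DirectSum.Decomposition (homGr (R := R) 𝒦 ℳ) :=
  (homGr_isInternal 𝒜 𝒦 ℳ).chooseDecomposition

/-- Restriction along a homogeneous map is homogeneous for the Hom-gradings. -/
lemma lcomp_isGrHom {K' : Type u} [AddCommGroup K'] [Module R K'] (𝒦' : ι → AddSubgroup K')
    {u : K' →ₗ[R] K} (hu : IsGrHom 𝒦' 𝒦 u) :
    IsGrHom (homGr 𝒦 ℳ) (homGr 𝒦' ℳ) (LinearMap.lcomp R M u) := by
  intro d f hf g x hx
  exact hf g (u x) (hu g x hx)

end Groth.Agent.Lib.Helper11.GrExt
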