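import Mathlib
import Groth.Prelude.Def_GrLC
import Groth.Agent.Lib.Helper11.GrExtA

/-!
# Gradable modules; graded free covers
-/

set_option autoImplicit false
set_option linter.unusedSectionVars false
universe u

namespace Groth.Agent.Lib.Helper11.GrExt

open DirectSum GrLC Groth.Agent.Lib.Helper11.GrLCLib Groth.Agent.Lib.Helper11.GrCore

variable {ι : Type} [DecidableEq ι] [AddCommGroup ι]
variable {R : Type u} [CommRing R] (𝒜 : ι → AddSubgroup R) [GradedRing 𝒜]

/-- An `R`-module admitting a grading compatible with that of `R`. -/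
def Gradable (E : Type u) [AddCommGroup E] [Module R E] : Prop :=
  ∃ (ℰ : ι → AddSubgroup E) (_ : DirectSum.Decomposition ℰ), SetLike.GradedSMul 𝒜 ℰ

section Transport

variable {E : Type u} [AddCommGroup E] [Module R E] {E' : Type u} [AddCommGroup E'] [Module R E']

theorem Gradable.of_linearEquiv (e : E ≃ₗ[R] E') (h : Gradable 𝒜 E) : Gradable 𝒜 E' := by
  classical
  obtain ⟨ℰ, dec, gs⟩ := h
  let ℰ' : ι → AddSubgroup E' := fun g => (ℰ g).map e.toLinearMap.toAddMonoidHom
  let π : ι → E' →+ E' := fun g =>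
    e.toLinearMap.toAddMonoidHom.comp ((compHom ℰ g).comp e.symm.toLinearMap.toAddMonoidHom)
  have hπ : ∀ g y, π g y = e (decompose ℰ (e.symm y) g : E) := fun g y => rfl
  have hint : DirectSum.IsInternal ℰ' := by
    refine isInternal_of_proj ℰ' π ?_ ?_ ?_ ?_
    · intro g y
      exact ⟨_, SetLike.coe_mem _, rfl⟩
    · rintro g _ ⟨x, hx, rfl⟩
      change π g (e x) = e x
      rw [hπ, LinearEquiv.symm_apply_apply, decompose_of_mem_same ℰ hx]
    · rintro g g' _ ⟨x, hx, rfl⟩ hne
      change π g' (e x) = 0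
      rw [hπ, LinearEquiv.symm_apply_apply, decompose_of_mem_ne ℰ hx (Ne.symm hne), map_zero]
    · intro y
      refine ⟨DFinsupp.support (decompose ℰ (e.symm y)), ?_⟩
      simp only [hπ]
      rw [← map_sum, DirectSum.sum_support_decompose ℰ (e.symm y), LinearEquiv.apply_symm_apply]
  refine ⟨ℰ', hint.chooseDecomposition, ⟨?_⟩⟩
  rintro h g r _ hr ⟨x, hx, rfl⟩
  refine ⟨r • x, SetLike.GradedSMul.smul_mem (A := 𝒜) (B := ℰ) hr hx, ?_⟩
  change e (r • x) = r • e x
  rw [map_smul]

theorem Gradable.quotient (ℰ : ι → AddSubgroup E) [DirectSum.Decomposition ℰ]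
    [SetLike.GradedSMul 𝒜 ℰ] (P : Submodule R E) (hP : P.IsHomogeneous ℰ) :
    Gradable 𝒜 (E ⧸ P) :=
  ⟨quotGrM ℰ P, quotDecomposition ℰ P hP, quotGradedSMul 𝒜 ℰ P⟩

end Transport

section Free

variable {α : Type u} [Fintype α] (δ : α → ι)

/-- The grading on the free module `α → R` with generators in degrees `δ`. -/
def freeGr (g : ι) : AddSubgroup (α → R) where
  carrier := {v | ∀ i, v i ∈ 𝒜 (g - δ i)}
  zero_mem' := fun i => zero_mem _
  add_mem' := fun {v w} hv hw i => add_mem (hv i) (hw i)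
  neg_mem' := fun {v} hv i => neg_mem (hv i)

lemma mem_freeGr {g : ι} {v : α → R} : v ∈ freeGr 𝒜 δ g ↔ ∀ i, v i ∈ 𝒜 (g - δ i) := Iff.rfl

/-- The component maps. -/
noncomputable def freeProj (g : ι) : (α → R) →+ (α → R) where
  toFun v := fun i => (decompose 𝒜 (v i) (g - δ i) : R)
  map_zero' := by
    ext i
    simp
  map_add' v w := by
    ext i
    simp [decompose_add]

lemma freeProj_apply (g : ι) (v : α → R) (i : α) :
    freeProj 𝒜 δ g v i = (decompose 𝒜 (v i) (g - δ i) : R) := rfl

theorem freeGr_isInternal : DirectSum.IsInternal (freeGr 𝒜 δ) := by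
  classical
  refine isInternal_of_proj (freeGr 𝒜 δ) (freeProj 𝒜 δ) ?_ ?_ ?_ ?_
  · intro g v i
    rw [freeProj_apply]
    exact SetLike.coe_mem _
  · intro g v hv
    ext i
    rw [freeProj_apply, decompose_of_mem_same 𝒜 (hv i)]
  · intro g g' v hv hne
    ext i
    rw [freeProj_apply, decompose_of_mem_ne 𝒜 (hv i) (fun h => hne (sub_left_injective h).symm)]
    rfl
  · intro v
    refine ⟨Finset.univ.biUnion (fun i => (DFinsupp.support (decompose 𝒜 (v i))).image
      (fun g' => g' + δ i)), ?_⟩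
    set s := Finset.univ.biUnion (fun i => (DFinsupp.support (decompose 𝒜 (v i))).image
      (fun g' => g' + δ i)) with hs
    ext i
    rw [Finset.sum_apply]
    simp only [freeProj_apply]
    have h1 : ∑ g ∈ s, (decompose 𝒜 (v i) (g - δ i) : R) =
        ∑ g' ∈ s.image (fun g => g - δ i), (decompose 𝒜 (v i) g' : R) := by
      rw [Finset.sum_image]
      intro a _ b _ hab
      exact sub_left_injective hab
    rw [h1]
    have h2 : DFinsupp.support (decompose 𝒜 (v i)) ⊆ s.image (fun g => g - δ i) := by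
      intro g' hg'
      rw [Finset.mem_image]
      refine ⟨g' + δ i, ?_, by abel⟩
      rw [hs, Finset.mem_biUnion]
      exact ⟨i, Finset.mem_univ _, Finset.mem_image.2 ⟨g', hg', rfl⟩⟩
    rw [← Finset.sum_subset h2, DirectSum.sum_support_decompose 𝒜 (v i)]
    intro g' _ hg'
    rw [DFinsupp.notMem_support_iff] at hg'
    rw [hg', ZeroMemClass.coe_zero]

@[instance_reducible]
noncomputable def freeDecomposition : DirectSum.Decomposition (freeGr 𝒜 δ) :=
  (freeGr_isInternal 𝒜 δ).chooseDecomposition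

instance freeGradedSMul : SetLike.GradedSMul 𝒜 (freeGr 𝒜 δ) where
  smul_mem := by
    intro h g r v hr hv i
    rw [Pi.smul_apply, smul_eq_mul, vadd_eq_add]
    have := SetLike.GradedMul.mul_mem hr (hv i)
    have e : h + (g - δ i) = h + g - δ i := by abel
    rw [e] at this
    exact this

variable {K : Type u} [AddCommGroup K] [Module R K] (𝒦 : ι → AddSubgroup K)
  [DirectSum.Decomposition 𝒦] [SetLike.GradedSMul 𝒜 𝒦]

lemma linearCombination_isGrHom {k : α → K} (hk : ∀ i, k i ∈ 𝒦 (δ i)) :
    IsGrHom (freeGr 𝒜 δ) 𝒦 (Fintype.linearCombination R k) := by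
  intro g v hv
  rw [Fintype.linearCombination_apply]
  refine sum_mem fun i _ => ?_
  have := SetLike.GradedSMul.smul_mem (A := 𝒜) (B := 𝒦) (hv i) (hk i)
  rw [vadd_eq_add, sub_add_cancel] at this
  exact this

end Free

section Cover

variable {K : Type u} [AddCommGroup K] [Module R K] (𝒦 : ι → AddSubgroup K)
  [DirectSum.Decomposition 𝒦] [SetLike.GradedSMul 𝒜 𝒦]

include 𝒜 in
/-- A finite graded module is a homogeneous quotient of a graded free module of finite rank. -/
theorem exists_free_cover [Module.Finite R K] :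
    ∃ (α : Type u) (_ : Fintype α) (δ : α → ι) (k : α → K), (∀ i, k i ∈ 𝒦 (δ i)) ∧
      Function.Surjective (Fintype.linearCombination R k) := by
  classical
  obtain ⟨G, hGh, hG⟩ := exists_homogeneous_generators (R := R) 𝒦
  let deg : K → ι := fun x => if h : SetLike.IsHomogeneousElem 𝒦 x then h.choose else 0
  have hdeg : ∀ x ∈ G, x ∈ 𝒦 (deg x) := by
    intro x hx
    simp only [deg, dif_pos (hGh x hx)]
    exact (hGh x hx).choose_spec
  refine ⟨↥G, inferInstance, fun x => deg x.1, fun x => x.1, fun x => hdeg x.1 x.2, ?_⟩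
  rw [← LinearMap.range_eq_top, Fintype.range_linearCombination]
  rw [← hG]
  congr 1
  ext x
  simp

end Cover

end Groth.Agent.Lib.Helper11.GrExt
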