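import Mathlib
import Groth.Prelude.Def_GrLC
import Groth.Agent.Lib.Helper11.GrExtB
import Groth.Agent.Lib.Helper16.DepthExt

/-!
# `Ext^n_R(K, M)` is gradable for finite graded `K` and graded `M` (Noetherian `R`)
-/

set_option autoImplicit false
set_option linter.unusedSectionVars false
universe u

open CategoryTheory CategoryTheory.Abelian

namespace Groth.Agent.Lib.Helper11.GrExt

open DirectSum GrLC Groth.Agent.Lib.Helper11.GrLCLib Groth.Agent.Lib.Helper11.GrCore

variable {ι : Type} [DecidableEq ι] [AddCommGroup ι]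
variable {R : Type u} [CommRing R] (𝒜 : ι → AddSubgroup R) [GradedRing 𝒜]
variable {M : Type u} [AddCommGroup M] [Module R M] (ℳ : ι → AddSubgroup M)
  [DirectSum.Decomposition ℳ] [SetLike.GradedSMul 𝒜 ℳ]

/-- `Ext^0` as `Hom`. -/
noncomputable def hom0 (K : Type u) [AddCommGroup K] [Module R K] (M : Type u) [AddCommGroup M]
    [Module R M] : Ext.{u} (ModuleCat.of R K) (ModuleCat.of R M) 0 ≃ₗ[R] (K →ₗ[R] M) :=
  (Ext.linearEquiv₀ (R := R)).trans ModuleCat.homLinearEquiv

lemma hom0_symm_apply (K : Type u) [AddCommGroup K] [Module R K] (M : Type u) [AddCommGroup M]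
    [Module R M] (f : K →ₗ[R] M) : (hom0 K M).symm f = Ext.mk₀ (ModuleCat.ofHom f) := rfl

include ℳ in
theorem gradable_hom (K : Type u) [AddCommGroup K] [Module R K] [Module.Finite R K]
    (𝒦 : ι → AddSubgroup K) [DirectSum.Decomposition 𝒦] [SetLike.GradedSMul 𝒜 𝒦] :
    Gradable 𝒜 (K →ₗ[R] M) :=
  ⟨homGr 𝒦 ℳ, homDecomposition 𝒜 𝒦 ℳ, homGradedSMul 𝒜 𝒦 ℳ⟩

include ℳ in
theorem gradable_ext [IsNoetherianRing R] (n : ℕ) :
    ∀ (K : Type u) [AddCommGroup K] [Module R K] [Module.Finite R K]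
      (𝒦 : ι → AddSubgroup K) [DirectSum.Decomposition 𝒦] [SetLike.GradedSMul 𝒜 𝒦],
      Gradable 𝒜 (Ext.{u} (ModuleCat.of R K) (ModuleCat.of R M) n) := by
  classical
  induction n with
  | zero =>
    intro K _ _ _ 𝒦 _ _
    exact (gradable_hom 𝒜 ℳ K 𝒦).of_linearEquiv 𝒜 (hom0 K M).symm
  | succ n ih =>
    intro K _ _ _ 𝒦 _ _
    obtain ⟨α, _, δ, k, hk, hsurj⟩ := exists_free_cover 𝒜 𝒦
    letI := freeDecomposition 𝒜 δ
    set φ : (α → R) →ₗ[R] K := Fintype.linearCombination R k with hφ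
    have hφgr : IsGrHom (freeGr 𝒜 δ) 𝒦 φ := linearCombination_isGrHom 𝒜 δ 𝒦 hk
    set K' : Submodule R (α → R) := LinearMap.ker φ with hK'
    have hK'hom : K'.IsHomogeneous (freeGr 𝒜 δ) := ker_isHomogeneous (freeGr 𝒜 δ) 𝒦 hφgr
    letI := subDecomposition (freeGr 𝒜 δ) K' hK'hom
    have hfin : Module.Finite R K' := Module.Finite.of_fg (IsNoetherian.noetherian K')
    have hS := Groth.Agent.Lib.Helper16.Depth.shortExact_of_linearMaps K'.subtype φ
      (Submodule.injective_subtype _) hsurj (LinearMap.exact_subtype_ker_map φ)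
    set S := ModuleCat.shortComplexOfCompEqZero K'.subtype φ
      (LinearMap.exact_subtype_ker_map φ).linearMap_comp_eq_zero with hSdef
    have hproj : Projective S.X₂ := by
      have : Module.Projective R (α → R) := inferInstance
      exact (ModuleCat.of R (α → R)).projective_of_categoryTheory_projective
    -- the connecting map
    let Δ : Ext.{u} (ModuleCat.of R K') (ModuleCat.of R M) n →ₗ[R]
        Ext.{u} (ModuleCat.of R K) (ModuleCat.of R M) (n + 1) :=
      hS.extClass.precompOfLinear R (ModuleCat.of R M) (add_comm 1 n)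
    have hΔsurj : Function.Surjective Δ := by
      intro z
      obtain ⟨x, hx⟩ := Ext.contravariant_sequence_exact₃ hS (ModuleCat.of R M) z
        (Ext.eq_zero_of_projective _) (add_comm 1 n)
      exact ⟨x, hx⟩
    cases n with
    | succ m =>
      have hΔinj : Function.Injective Δ := by
        rw [← LinearMap.ker_eq_bot, LinearMap.ker_eq_bot']
        intro x hx
        obtain ⟨x', hx'⟩ := Ext.contravariant_sequence_exact₁ hS (ModuleCat.of R M) x
          (add_comm 1 (m + 1)) hx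
        rw [← hx', Ext.eq_zero_of_projective x', Ext.comp_zero]
      exact (ih K' (subGr (freeGr 𝒜 δ) K')).of_linearEquiv 𝒜
        (LinearEquiv.ofBijective Δ ⟨hΔinj, hΔsurj⟩)
    | zero =>
      letI := homDecomposition 𝒜 (subGr (freeGr 𝒜 δ) K') ℳ
      letI := homDecomposition 𝒜 (freeGr 𝒜 δ) ℳ
      let ρ : ((α → R) →ₗ[R] M) →ₗ[R] (K' →ₗ[R] M) := LinearMap.lcomp R M K'.subtype
      have hρ : IsGrHom (homGr (freeGr 𝒜 δ) ℳ) (homGr (subGr (freeGr 𝒜 δ) K') ℳ) ρ :=
        lcomp_isGrHom (freeGr 𝒜 δ) ℳ (subGr (freeGr 𝒜 δ) K') (subtype_isGrHom (freeGr 𝒜 δ) K')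
      have hρhom : (LinearMap.range ρ).IsHomogeneous (homGr (subGr (freeGr 𝒜 δ) K') ℳ) :=
        range_isHomogeneous _ _ hρ
      let Δ' : (K' →ₗ[R] M) →ₗ[R] Ext.{u} (ModuleCat.of R K) (ModuleCat.of R M) (0 + 1) :=
        Δ ∘ₗ (hom0 K' M).symm.toLinearMap
      have hΔ'surj : Function.Surjective Δ' := hΔsurj.comp (hom0 K' M).symm.surjective
      have hker : LinearMap.ker Δ' = LinearMap.range ρ := by
        ext f
        rw [LinearMap.mem_ker, LinearMap.mem_range]
        constructor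
        · intro hf
          obtain ⟨x', hx'⟩ := Ext.contravariant_sequence_exact₁ hS (ModuleCat.of R M)
            ((hom0 K' M).symm f) (add_comm 1 0) hf
          obtain ⟨f', rfl⟩ := (hom0 (α → R) M).symm.surjective x'
          refine ⟨f', ?_⟩
          rw [hom0_symm_apply, hom0_symm_apply, Ext.mk₀_comp_mk₀] at hx'
          have := (Ext.mk₀_bijective _ _).1 hx'
          have h2 := congrArg ModuleCat.Hom.hom this
          exact h2
        · rintro ⟨f', rfl⟩
          change hS.extClass.comp ((hom0 K' M).symm (f' ∘ₗ K'.subtype)) (add_comm 1 0) = 0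
          have : (hom0 K' M).symm (f' ∘ₗ K'.subtype) =
              (Ext.mk₀ S.f).comp (Ext.mk₀ (ModuleCat.ofHom f')) (zero_add 0) := by
            rw [hom0_symm_apply, Ext.mk₀_comp_mk₀]
            rfl
          rw [this, ShortComplex.ShortExact.extClass_comp_assoc]
      have e1 : Ext.{u} (ModuleCat.of R K) (ModuleCat.of R M) (0 + 1) ≃ₗ[R]
          ((K' →ₗ[R] M) ⧸ LinearMap.range ρ) :=
        ((LinearMap.quotKerEquivOfSurjective Δ' hΔ'surj).symm ≪≫ₗ
          (Submodule.quotEquivOfEq _ _ hker))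
      exact (Gradable.quotient 𝒜 (homGr (subGr (freeGr 𝒜 δ) K') ℳ) (LinearMap.range ρ)
        hρhom).of_linearEquiv 𝒜 e1.symm

end Groth.Agent.Lib.Helper11.GrExt
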