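import Mathlib
import Groth.Prelude.Def_GrLC
import Groth.Prelude.Def_GrLC2
import Groth.Agent.Lib.Helper11.ExtLoc
import Groth.Agent.Lib.Helper11.GrCoreG
import Groth.Agent.Lib.Helper11.GrExtC

set_option autoImplicit false
set_option linter.unusedSectionVars false
universe u
open CategoryTheory CategoryTheory.Abelian

namespace Groth.Agent.Lib.Helper11.GrBass

open Groth.Agent.Lib.Helper11.GrCore Groth.Agent.Lib.Helper11.GrExt

section CatShift

universe v w t
variable {C : Type u} [Category.{v} C] [Abelian C] [HasExt.{w} C]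

/-- Abstract dimension shifting: the connecting map is bijective when the middle term has no
higher `Ext` and every degree zero class of the middle term lifts to the sub. -/
theorem bijective_postcomp_extClass (A : Type t) [CommRing A] [Linear A C]
    {T : ShortComplex C} (hT : T.ShortExact) (k : C)
    (hX : ∀ j, Subsingleton (Ext.{w} k T.X₂ (j + 1)))
    (hsoc : ∀ x₂ : Ext.{w} k T.X₂ 0, ∃ x₁ : Ext.{w} k T.X₁ 0,
      x₁.comp (Ext.mk₀ T.f) (add_zero 0) = x₂) (n : ℕ) :
    Function.Bijective (hT.extClass.postcompOfLinear A k (rfl : n + 1 = n + 1)) := by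
  constructor
  · rw [← LinearMap.ker_eq_bot, LinearMap.ker_eq_bot']
    intro x₃ hx₃
    obtain ⟨x₂, hx₂⟩ := Ext.covariant_sequence_exact₃ k hT x₃ rfl hx₃
    rcases n with _ | n
    · obtain ⟨x₁, rfl⟩ := hsoc x₂
      rw [← hx₂, Ext.comp_assoc_of_third_deg_zero, Ext.mk₀_comp_mk₀, T.zero, Ext.mk₀_zero,
        Ext.comp_zero]
    · rw [← hx₂, (hX n).elim x₂ 0, Ext.zero_comp]
  · intro x₁
    have h0 : x₁.comp (Ext.mk₀ T.f) (add_zero (n + 1)) = 0 := (hX n).elim _ _
    obtain ⟨x₃, hx₃⟩ := Ext.covariant_sequence_exact₁ k hT x₁ h0 rfl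
    exact ⟨x₃, hx₃⟩

end CatShift

section Shift

variable {R : Type u} [CommRing R] [IsNoetherianRing R]

/-- The Bass number as the length of the localized `Ext`. -/
theorem bassNum_eq_length_locExt (p : Ideal R) [hp : p.IsPrime] (M : Type u) [AddCommGroup M]
    [Module R M] (n : ℕ) :
    GrLC.bassNum p M n = Module.length (Localization.AtPrime p) (Ext.{u}
        ((ModuleCat.localizedModuleFunctor.{u} p.primeCompl).obj (ModuleCat.of R (R ⧸ p)))
        ((ModuleCat.localizedModuleFunctor.{u} p.primeCompl).obj (ModuleCat.of R M)) n) := by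
  obtain ⟨θ⟩ := nonempty_locExt_equiv p M n
  unfold GrLC.bassNum GrLC.bassNumLocal
  exact θ.length_eq.symm

/-- Socle classes lift along an inclusion containing the `p`-socle up to denominators. -/
theorem exists_lift_locExt_zero (p : Ideal R) [hp : p.IsPrime] {Z X : Type u} [AddCommGroup Z]
    [Module R Z] [AddCommGroup X] [Module R X] (a : Z →ₗ[R] X) (ha : Function.Injective a)
    (hsoc : ∀ w : X, (∀ c ∈ p, c • w = 0) → ∃ r, r ∉ p ∧ r • w ∈ LinearMap.range a)
    (x₂ : Ext.{u} ((ModuleCat.localizedModuleFunctor.{u} p.primeCompl).obj (ModuleCat.of R (R ⧸ p)))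
        ((ModuleCat.localizedModuleFunctor.{u} p.primeCompl).obj (ModuleCat.of R X)) 0) :
    ∃ x₁ : Ext.{u} ((ModuleCat.localizedModuleFunctor.{u} p.primeCompl).obj (ModuleCat.of R (R ⧸ p)))
        ((ModuleCat.localizedModuleFunctor.{u} p.primeCompl).obj (ModuleCat.of R Z)) 0,
      x₁.comp (Ext.mk₀ ((ModuleCat.localizedModuleFunctor.{u} p.primeCompl).map (ModuleCat.ofHom a)))
        (add_zero 0) = x₂ := by
  classical
  let S := p.primeCompl
  let F := ModuleCat.localizedModuleFunctor.{u} S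
  have hP := Groth.Agent.Lib.Helper11.ExtLoc.P_of_finite S (ModuleCat.of R X) 0
    (ModuleCat.of R (R ⧸ p))
  obtain ⟨e₀, s, hs⟩ := hP.1 x₂
  obtain ⟨ψ, rfl⟩ := (hom0 (R ⧸ p) X).symm.surjective e₀
  set w := ψ (Ideal.Quotient.mk _ 1) with hw
  have hψ : ∀ d : R, ψ (Ideal.Quotient.mk _ d) = d • w := by
    intro d
    rw [hw, ← map_smul]
    congr 1
    rw [← Ideal.Quotient.mk_eq_mk, ← Ideal.Quotient.mk_eq_mk, ← Submodule.Quotient.mk_smul,
      smul_eq_mul, mul_one]
  have hpw : ∀ c ∈ p, c • w = 0 := by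
    intro c hc
    rw [← hψ, Ideal.Quotient.eq_zero_iff_mem.2 hc, map_zero]
  obtain ⟨r, hrp, ⟨z₀, hz₀⟩⟩ := hsoc w hpw
  have hpz₀ : ∀ c ∈ p, c • z₀ = 0 := by
    intro c hc
    apply ha
    rw [map_smul, hz₀, smul_comm, hpw c hc, smul_zero, map_zero]
  let ψ' : (R ⧸ p) →ₗ[R] Z := Submodule.liftQ p (LinearMap.toSpanSingleton R Z z₀) (by
    intro c hc
    rw [LinearMap.mem_ker, LinearMap.toSpanSingleton_apply]
    exact hpz₀ c hc)
  have hψ' : ∀ d : R, ψ' (Ideal.Quotient.mk _ d) = d • z₀ := fun d => rfl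
  have hcomp : a ∘ₗ ψ' = r • ψ := by
    apply LinearMap.ext
    intro q
    obtain ⟨d, rfl⟩ := Ideal.Quotient.mk_surjective q
    rw [LinearMap.comp_apply, hψ', map_smul, hz₀, LinearMap.smul_apply, hψ, smul_comm]
  have h1 : ((hom0 (R ⧸ p) Z).symm ψ').comp (Ext.mk₀ (ModuleCat.ofHom a)) (add_zero 0) =
      r • (hom0 (R ⧸ p) X).symm ψ := by
    rw [hom0_symm_apply, hom0_symm_apply, Ext.mk₀_comp_mk₀, ← Ext.mk₀_smul]
    congr 1
    rw [← ModuleCat.ofHom_comp, hcomp]
    rfl
  have h2 : (((hom0 (R ⧸ p) Z).symm ψ').comp (Ext.mk₀ (ModuleCat.ofHom a))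
      (add_zero 0)).mapExactFunctor F = (r • (hom0 (R ⧸ p) X).symm ψ).mapExactFunctor F :=
    congrArg (fun y => Ext.mapExactFunctor F y) h1
  rw [Ext.mapExactFunctor_comp, Ext.mapExactFunctor_mk₀,
    Groth.Agent.Lib.Helper11.ExtLoc.mapExactFunctor_smul, ← hs, smul_smul] at h2
  have hu : IsUnit (algebraMap R (Localization S) r * algebraMap R (Localization S) (s : R)) :=
    (IsLocalization.map_units (Localization S) (⟨r, hrp⟩ : S)).mul
      (IsLocalization.map_units (Localization S) s)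
  obtain ⟨v, hv⟩ := isUnit_iff_exists_inv'.1 hu
  refine ⟨v • ((hom0 (R ⧸ p) Z).symm ψ').mapExactFunctor F, ?_⟩
  rw [Ext.smul_comp, h2, smul_smul, hv, one_smul]

/-- Dimension shifting for Bass numbers along `0 → Z → X → Z' → 0` when `X` has no higher Bass
numbers at `p` and the `p`-socle of `X` lies in `Z` up to denominators. -/
theorem bassNum_shift (p : Ideal R) [hp : p.IsPrime] {Z X Z' : Type u} [AddCommGroup Z] [Module R Z]
    [AddCommGroup X] [Module R X] [AddCommGroup Z'] [Module R Z']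
    (a : Z →ₗ[R] X) (b : X →ₗ[R] Z') (ha : Function.Injective a) (hb : Function.Surjective b)
    (hab : Function.Exact a b) (hX : ∀ k, GrLC.bassNum p X (k + 1) = 0)
    (hsoc : ∀ w : X, (∀ c ∈ p, c • w = 0) → ∃ r, r ∉ p ∧ r • w ∈ LinearMap.range a) (n : ℕ) :
    GrLC.bassNum p Z' n = GrLC.bassNum p Z (n + 1) := by
  classical
  let F := ModuleCat.localizedModuleFunctor.{u} p.primeCompl
  have hT := Groth.Agent.Lib.Helper16.Depth.shortExact_of_linearMaps a b ha hb hab
  have hFT := hT.map_of_exact F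
  have hbij := bijective_postcomp_extClass (Localization.AtPrime p) hFT
    (F.obj (ModuleCat.of R (R ⧸ p)))
    (fun j => subsingleton_locExt_of_bassNum_eq_zero p X (j + 1) (hX j))
    (fun x₂ => exists_lift_locExt_zero p a ha hsoc x₂) n
  rw [bassNum_eq_length_locExt, bassNum_eq_length_locExt]
  exact (LinearEquiv.ofBijective _ hbij).length_eq

end Shift

end Groth.Agent.Lib.Helper11.GrBass
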