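import Mathlib
import Groth.Prelude.Def_GrLC

/-!
# ℤ-graded rings: a non-homogeneous prime `p` is, up to homogeneous multipliers outside `p`,
generated by one element over its homogeneous core `P`.
-/

set_option autoImplicit false
set_option linter.unusedSectionVars false
universe u

namespace Groth.Agent.Lib.Helper11.GrCore

open DirectSum

section Width

variable {R : Type u} [CommRing R] (𝒜 : ℤ → AddSubgroup R) [GradedRing 𝒜]
variable (P : Ideal R)

/-- support modulo `P`. -/
noncomputable def sP (x : R) : Finset ℤ := by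
  classical
  exact (DFinsupp.support (decompose 𝒜 x)).filter (fun g => ((decompose 𝒜 x g : R) ∉ P))

lemma mem_sP {x : R} {g : ℤ} : g ∈ sP 𝒜 P x ↔ ((decompose 𝒜 x g : R) ∉ P) := by
  classical
  unfold sP
  rw [Finset.mem_filter, DFinsupp.mem_support_toFun]
  constructor
  · exact fun h => h.2
  · intro h
    refine ⟨?_, h⟩
    intro h0
    apply h
    rw [h0]
    simp

lemma sP_nonempty {x : R} (hx : x ∉ P) : (sP 𝒜 P x).Nonempty := by
  classical
  by_contra h
  rw [Finset.not_nonempty_iff_eq_empty] at h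
  apply hx
  rw [← DirectSum.sum_support_decompose 𝒜 x]
  refine P.sum_mem fun g _ => ?_
  by_contra hg
  have : g ∈ sP 𝒜 P x := (mem_sP 𝒜 P).2 hg
  rw [h] at this
  exact absurd this (Finset.notMem_empty g)

/-- the support of `x` modulo `P` lies in the window `[m, n]`. -/
def Win (x : R) (m n : ℤ) : Prop := ∀ g, ((decompose 𝒜 x g : R) ∉ P) → m ≤ g ∧ g ≤ n

lemma exists_minData (p : Ideal R) (hne : ¬ p ≤ P) :
    ∃ (a : R) (m n : ℤ), a ∈ p ∧ ((decompose 𝒜 a m : R) ∉ P) ∧ ((decompose 𝒜 a n : R) ∉ P) ∧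
      Win 𝒜 P a m n ∧
      ∀ x ∈ p, ∀ k l : ℤ, ((decompose 𝒜 x k : R) ∉ P) → ((decompose 𝒜 x l : R) ∉ P) →
        Win 𝒜 P x k l → n - m ≤ l - k := by
  classical
  let W : ℕ → Prop := fun w => ∃ x ∈ p, ∃ k l : ℤ, ((decompose 𝒜 x k : R) ∉ P) ∧
    ((decompose 𝒜 x l : R) ∉ P) ∧ Win 𝒜 P x k l ∧ (l - k).toNat = w
  have hW : ∃ w, W w := by
    obtain ⟨x, hxp, hxP⟩ := SetLike.not_le_iff_exists.1 hne
    have hne' := sP_nonempty 𝒜 P hxP
    refine ⟨_, x, hxp, (sP 𝒜 P x).min' hne', (sP 𝒜 P x).max' hne',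
      (mem_sP 𝒜 P).1 (Finset.min'_mem _ _), (mem_sP 𝒜 P).1 (Finset.max'_mem _ _), ?_, rfl⟩
    intro g hg
    exact ⟨Finset.min'_le _ _ ((mem_sP 𝒜 P).2 hg), Finset.le_max' _ _ ((mem_sP 𝒜 P).2 hg)⟩
  obtain ⟨a, ha, m, n, ham, han, hwin, hw⟩ := Nat.find_spec hW
  refine ⟨a, m, n, ha, ham, han, hwin, ?_⟩
  intro x hx k l hk hl hxwin
  have h1 : Nat.find hW ≤ (l - k).toNat := Nat.find_min' hW ⟨x, hx, k, l, hk, hl, hxwin, rfl⟩
  have h2 : k ≤ l := (hxwin k hk).2
  have h3 : m ≤ n := (hwin m ham).2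
  rw [← hw] at h1
  omega

theorem key (p : Ideal R) [p.IsPrime] (hP : P.IsHomogeneous 𝒜)
    (hcore : ∀ t, SetLike.IsHomogeneousElem 𝒜 t → t ∈ p → t ∈ P) (hne : ¬ p ≤ P) :
    ∃ a ∈ p, a ∉ P ∧ ∀ x ∈ p, ∃ t, SetLike.IsHomogeneousElem 𝒜 t ∧ t ∉ p ∧
      t * x ∈ P ⊔ Ideal.span {a} := by
  classical
  obtain ⟨a, m, n, ha, ham, han, hwin, hmin⟩ := exists_minData 𝒜 P p hne
  have haP : a ∉ P := fun h => ham (hP m h)
  refine ⟨a, ha, haP, ?_⟩
  set an : R := (decompose 𝒜 a n : R) with han_def
  have hanh : SetLike.IsHomogeneousElem 𝒜 an := ⟨n, SetLike.coe_mem _⟩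
  have hanp : an ∉ p := fun h => han (hcore an hanh h)
  have claim : ∀ N : ℕ, ∀ x ∈ p, ∀ k : ℤ, Win 𝒜 P x k (k + N) →
      ∃ t, SetLike.IsHomogeneousElem 𝒜 t ∧ t ∉ p ∧ t * x ∈ P ⊔ Ideal.span {a} := by
    intro N
    induction N using Nat.strong_induction_on with
    | _ N ih =>
      intro x hx k hxwin
      by_cases hxP : x ∈ P
      · refine ⟨1, ⟨0, SetLike.GradedOne.one_mem⟩, (Ideal.ne_top_iff_one p).1 Ideal.IsPrime.ne_top', ?_⟩
        rw [one_mul]
        exact Ideal.mem_sup_left hxP
      · have hne' := sP_nonempty 𝒜 P hxP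
        set l := (sP 𝒜 P x).max' hne' with hl_def
        set k' := (sP 𝒜 P x).min' hne' with hk'_def
        have hl : ((decompose 𝒜 x l : R) ∉ P) := (mem_sP 𝒜 P).1 (Finset.max'_mem _ _)
        have hk' : ((decompose 𝒜 x k' : R) ∉ P) := (mem_sP 𝒜 P).1 (Finset.min'_mem _ _)
        have hwin' : Win 𝒜 P x k' l := fun g hg =>
          ⟨Finset.min'_le _ _ ((mem_sP 𝒜 P).2 hg), Finset.le_max' _ _ ((mem_sP 𝒜 P).2 hg)⟩
        have hkk' : k ≤ k' := (hxwin k' hk').1
        have hlN : l ≤ k + N := (hxwin l hl).2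
        have hmin' := hmin x hx k' l hk' hl hwin'
        set xl : R := (decompose 𝒜 x l : R) with hxl_def
        set y : R := an * x - xl * a with hy_def
        have hy : y ∈ p := p.sub_mem (p.mul_mem_left _ hx) (p.mul_mem_left _ ha)
        have hycomp : ∀ g, (decompose 𝒜 y g : R) =
            an * (decompose 𝒜 x (g - n) : R) - xl * (decompose 𝒜 a (g - l) : R) := by
          intro g
          rw [hy_def, decompose_sub, DirectSum.sub_apply, AddSubgroup.coe_sub]
          congr 1
          · have := coe_decompose_mul_add_of_left_mem 𝒜 (i := n) (j := g - n) (b := x)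
              (SetLike.coe_mem (decompose 𝒜 a n))
            rwa [add_sub_cancel] at this
          · have := coe_decompose_mul_add_of_left_mem 𝒜 (i := l) (j := g - l) (b := a)
              (SetLike.coe_mem (decompose 𝒜 x l))
            rwa [add_sub_cancel] at this
        have hywin : Win 𝒜 P y (k' + n) (l + n - 1) := by
          intro g hg
          rw [hycomp g] at hg
          have hgne : g ≠ l + n := by
            intro h
            apply hg
            rw [h, add_sub_cancel_right, add_sub_cancel_left, ← hxl_def, ← han_def, mul_comm,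
              sub_self]
            exact P.zero_mem
          have hor : ((decompose 𝒜 x (g - n) : R) ∉ P) ∨ ((decompose 𝒜 a (g - l) : R) ∉ P) := by
            by_contra hcon
            push Not at hcon
            exact hg (P.sub_mem (P.mul_mem_left _ hcon.1) (P.mul_mem_left _ hcon.2))
          rcases hor with h1 | h1
          · have := hwin' _ h1
            omega
          · have := hwin _ h1
            omega
        by_cases hyP : y ∈ P
        · refine ⟨an, hanh, hanp, ?_⟩
          have : an * x = y + xl * a := by rw [hy_def]; ring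
          rw [this]
          exact Ideal.add_mem _ (Ideal.mem_sup_left hyP)
            (Ideal.mem_sup_right (Ideal.mul_mem_left _ _ (Ideal.mem_span_singleton_self a)))
        · obtain ⟨g, hg⟩ := sP_nonempty 𝒜 P hyP
          have hg' := hywin g ((mem_sP 𝒜 P).1 hg)
          have hN' : (l - k' - 1).toNat < N := by omega
          have hywin2 : Win 𝒜 P y (k' + n) ((k' + n) + ((l - k' - 1).toNat : ℕ)) := by
            intro g hg
            have := hywin g hg
            omega
          obtain ⟨t', ht'h, ht'p, ht'⟩ := ih _ hN' y hy (k' + n) hywin2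
          refine ⟨t' * an, ?_, ?_, ?_⟩
          · obtain ⟨i, hi⟩ := ht'h
            exact ⟨i + n, SetLike.GradedMul.mul_mem hi (SetLike.coe_mem _)⟩
          · intro h
            rcases Ideal.IsPrime.mem_or_mem ‹p.IsPrime› h with h | h
            · exact ht'p h
            · exact hanp h
          · have : t' * an * x = t' * y + (t' * xl) * a := by rw [hy_def]; ring
            rw [this]
            exact Ideal.add_mem _ ht'
              (Ideal.mem_sup_right (Ideal.mul_mem_left _ _ (Ideal.mem_span_singleton_self a)))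
  intro x hx
  by_cases hxP : x ∈ P
  · refine ⟨1, ⟨0, SetLike.GradedOne.one_mem⟩, (Ideal.ne_top_iff_one p).1 Ideal.IsPrime.ne_top', ?_⟩
    rw [one_mul]
    exact Ideal.mem_sup_left hxP
  · have hne' := sP_nonempty 𝒜 P hxP
    have hwin' : Win 𝒜 P x ((sP 𝒜 P x).min' hne')
        ((sP 𝒜 P x).min' hne' + (((sP 𝒜 P x).max' hne' - (sP 𝒜 P x).min' hne').toNat : ℕ)) := by
      intro g hg
      have h1 := Finset.min'_le _ _ ((mem_sP 𝒜 P).2 hg)
      have h2 := Finset.le_max' _ _ ((mem_sP 𝒜 P).2 hg)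
      omega
    exact claim _ x hx _ hwin'

end Width

end Groth.Agent.Lib.Helper11.GrCore
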