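import Mathlib
import Groth.Prelude.Def_GrLC
import Groth.Prelude.Def_GrLC2
import Groth.Agent.Lib.Helper11.GrCoreA
import Groth.Agent.Lib.Helper11.GrCoreB
import Groth.Agent.Lib.Helper11.GrCoreE
import Groth.Agent.Lib.Helper11.GrExtC

/-!
# Bass numbers at a non-homogeneous prime of a ℤ-graded Noetherian ring
-/

set_option autoImplicit false
set_option linter.unusedSectionVars false
universe u

open CategoryTheory CategoryTheory.Abelian

namespace Groth.Agent.Lib.Helper11.GrCore

open DirectSum GrLC Groth.Agent.Lib.Helper11.GrLCLib Groth.Agent.Lib.Helper11.GrExt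

section General

variable {ι : Type} [DecidableEq ι] [AddCommGroup ι]
variable {R : Type u} [CommRing R] [IsNoetherianRing R] (𝒜 : ι → AddSubgroup R) [GradedRing 𝒜]
variable {M : Type u} [AddCommGroup M] [Module R M] (ℳ : ι → AddSubgroup M)
  [DirectSum.Decomposition ℳ] [SetLike.GradedSMul 𝒜 ℳ]

include ℳ in
/-- `Ext^n(R/P, M)` is free over `R/P` up to homogeneous denominators, for a homogeneous prime. -/
theorem exists_tfree_ext (P : Ideal R) [hPprime : P.IsPrime] (hP : P.IsHomogeneous 𝒜) (n : ℕ) :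
    ∃ (J : Type u) (e : J → Ext.{u} (ModuleCat.of R (R ⧸ P)) (ModuleCat.of R M) n),
      (∀ c : J →₀ R, Finsupp.linearCombination R e c = 0 → ∀ j, c j ∈ P) ∧
      ∀ x, ∃ t, SetLike.IsHomogeneousElem 𝒜 t ∧ t ∉ P ∧
        t • x ∈ Submodule.span R (Set.range e) := by
  letI := quotDecomposition 𝒜 (P : Submodule R R) hP
  obtain ⟨ℰ, dec, gs⟩ := gradable_ext 𝒜 ℳ n (R ⧸ P) (quotGrM 𝒜 (P : Submodule R R))
  exact exists_tfree 𝒜 ℰ P hP (fun r hr x => smul_ext_quot_eq_zero P _ n hr x)

/-- The length of `Ext^n(k(P), M_P)` is the rank of `Ext^n(R/P, M)` up to denominators. -/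
theorem bassNum_eq_card (P : Ideal R) [hPprime : P.IsPrime] (n : ℕ)
    {J : Type u} (e : J → Ext.{u} (ModuleCat.of R (R ⧸ P)) (ModuleCat.of R M) n)
    (hind : ∀ c : J →₀ R, Finsupp.linearCombination R e c = 0 → ∀ j, c j ∈ P)
    (hspan : ∀ x, ∃ t, t ∉ P ∧ t • x ∈ Submodule.span R (Set.range e)) :
    GrLC.bassNum P M n = ENat.card J := by
  obtain ⟨θ⟩ := nonempty_ext_localization_equiv P P le_rfl M n e hind hspan
  have hmax : P.map (algebraMap R (Localization.AtPrime P)) =
      IsLocalRing.maximalIdeal (Localization.AtPrime P) :=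
    Localization.AtPrime.map_eq_maximalIdeal
  set 𝔓 := P.map (algebraMap R (Localization.AtPrime P)) with h𝔓
  let g : (Localization.AtPrime P ⧸ 𝔓) →ₗ[Localization.AtPrime P]
      IsLocalRing.ResidueField (Localization.AtPrime P) :=
    Submodule.liftQ 𝔓 (Algebra.linearMap _ (IsLocalRing.ResidueField (Localization.AtPrime P))) (by
      intro x hx
      rw [LinearMap.mem_ker, Algebra.linearMap_apply]
      exact (IsLocalRing.residue_eq_zero_iff x).2 (hmax ▸ hx))
  have hg_mk : ∀ y, g (Submodule.mkQ 𝔓 y) = IsLocalRing.residue _ y := fun y => rfl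
  have hg : Function.Bijective g := by
    constructor
    · rw [← LinearMap.ker_eq_bot, LinearMap.ker_eq_bot']
      intro y hy
      obtain ⟨y, rfl⟩ := Submodule.mkQ_surjective _ y
      rw [hg_mk, IsLocalRing.residue_eq_zero_iff, ← hmax] at hy
      exact (Submodule.Quotient.mk_eq_zero _).2 hy
    · intro y
      obtain ⟨y, rfl⟩ := IsLocalRing.residue_surjective y
      exact ⟨Submodule.mkQ 𝔓 y, rfl⟩
  let i1 : ModuleCat.of (Localization.AtPrime P) (Localization.AtPrime P ⧸ 𝔓) ≅
      ModuleCat.of (Localization.AtPrime P) (IsLocalRing.ResidueField (Localization.AtPrime P)) :=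
    (LinearEquiv.ofBijective g hg).toModuleIso
  have hlen : Module.length (Localization.AtPrime P) (Localization.AtPrime P ⧸ 𝔓) = 1 := by
    rw [Module.length_eq_one_iff, isSimpleModule_iff_quot_maximal]
    exact ⟨𝔓, hmax ▸ IsLocalRing.maximalIdeal.isMaximal _, ⟨LinearEquiv.refl _ _⟩⟩
  unfold GrLC.bassNum GrLC.bassNumLocal
  rw [(extEquivOfIso i1 _ n).length_eq, θ.length_eq, Module.length_finsupp, hlen, mul_one]

end General

section Int

variable {R : Type u} [CommRing R] [IsNoetherianRing R] (𝒜 : ℤ → AddSubgroup R) [GradedRing 𝒜]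
variable {M : Type u} [AddCommGroup M] [Module R M] (ℳ : ℤ → AddSubgroup M)
  [DirectSum.Decomposition ℳ] [SetLike.GradedSMul 𝒜 ℳ]

include ℳ in
theorem bassNum_int (p : Ideal R) [hp : p.IsPrime] (hnh : ¬ Ideal.IsHomogeneous 𝒜 p)
    [hPprime : (Ideal.homogeneousCore 𝒜 p).toIdeal.IsPrime] :
    GrLC.bassNum p M 0 = 0 ∧ ∀ i : ℕ, GrLC.bassNum p M (i + 1) =
      GrLC.bassNum (Ideal.homogeneousCore 𝒜 p).toIdeal M i := by
  classical
  set P := (Ideal.homogeneousCore 𝒜 p).toIdeal with hPdef
  have hPhom : P.IsHomogeneous 𝒜 := (Ideal.homogeneousCore 𝒜 p).isHomogeneous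
  have hPp : P ≤ p := Ideal.toIdeal_homogeneousCore_le 𝒜 p
  have hcore : ∀ t, SetLike.IsHomogeneousElem 𝒜 t → t ∈ p → t ∈ P := fun t ht htp =>
    Ideal.mem_homogeneousCore_of_homogeneous_of_mem ht htp
  have hne : ¬ p ≤ P := fun h => hnh (by
    have : p = P := le_antisymm h hPp
    rw [this]
    exact hPhom)
  obtain ⟨a, hap, haP, hkey⟩ := key 𝒜 P p hPhom hcore hne
  -- freeness of the Ext modules
  choose J e hind hspan using fun n => exists_tfree_ext 𝒜 ℳ P hPhom n
  have hspanP : ∀ n x, ∃ t, t ∉ P ∧ t • x ∈ Submodule.span R (Set.range (e n)) := fun n x => by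
    obtain ⟨t, _, htP, htx⟩ := hspan n x
    exact ⟨t, htP, htx⟩
  have hspanp : ∀ n x, ∃ t, t ∉ p ∧ t • x ∈ Submodule.span R (Set.range (e n)) := fun n x => by
    obtain ⟨t, hth, htP, htx⟩ := hspan n x
    exact ⟨t, fun h => htP (hcore t hth h), htx⟩
  have hcardP : ∀ n, GrLC.bassNum P M n = ENat.card (J n) := fun n =>
    bassNum_eq_card P n (e n) (hind n) (hspanP n)
  -- localize at p
  have hθ := fun n => nonempty_ext_localization_equiv P p hPp M n (e n) (hind n) (hspanp n)
  let θ := fun n => (hθ n).some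
  set A := Localization.AtPrime p with hA
  set 𝔓 := P.map (algebraMap R A) with h𝔓
  have hdisj : Disjoint (p.primeCompl : Set R) (P : Set R) := by
    rw [Set.disjoint_left]
    intro x hx hxP
    exact hx (hPp hxP)
  have h𝔓prime : 𝔓.IsPrime :=
    IsLocalization.isPrime_of_isPrime_disjoint p.primeCompl A P hPprime hdisj
  have hcomap : 𝔓.comap (algebraMap R A) = P :=
    IsLocalization.comap_map_of_isPrime_disjoint p.primeCompl A hPprime hdisj
  have ha𝔓 : algebraMap R A a ∉ 𝔓 := fun h => haP (by rw [← hcomap]; exact h)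
  have hmaxp : p.map (algebraMap R A) = IsLocalRing.maximalIdeal A :=
    Localization.AtPrime.map_eq_maximalIdeal
  have h𝔪 : 𝔓 ⊔ Ideal.span {algebraMap R A a} = IsLocalRing.maximalIdeal A := by
    apply le_antisymm
    · rw [← hmaxp]
      refine sup_le (Ideal.map_mono hPp) ?_
      rw [Ideal.span_le, Set.singleton_subset_iff]
      exact Ideal.mem_map_of_mem _ hap
    · rw [← hmaxp, Ideal.map_le_iff_le_comap]
      intro x hx
      rw [Ideal.mem_comap]
      obtain ⟨t, _, htp, htx⟩ := hkey x hx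
      obtain ⟨y, hy, z, hz, hyz⟩ := Submodule.mem_sup.1 htx
      obtain ⟨c, rfl⟩ := Ideal.mem_span_singleton'.1 hz
      have hunit : IsUnit (algebraMap R A t) :=
        IsLocalization.map_units A (⟨t, htp⟩ : p.primeCompl)
      obtain ⟨u, hu⟩ := hunit
      have h1 : algebraMap R A t * algebraMap R A x ∈ 𝔓 ⊔ Ideal.span {algebraMap R A a} := by
        rw [← map_mul, ← hyz, map_add, map_mul]
        exact Ideal.add_mem _ (Ideal.mem_sup_left (Ideal.mem_map_of_mem _ hy))
          (Ideal.mem_sup_right (Ideal.mul_mem_left _ _ (Ideal.mem_span_singleton_self _)))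
      have h2 : algebraMap R A x = (↑u⁻¹ : A) * (algebraMap R A t * algebraMap R A x) := by
        rw [← mul_assoc, ← hu, Units.inv_mul, one_mul]
      rw [h2]
      exact Ideal.mul_mem_left _ _ h1
  obtain ⟨h0, hsucc⟩ := bass_of_free 𝔓 (algebraMap R A a) ha𝔓 h𝔪
    (ModuleCat.of A (LocalizedModule p.primeCompl M)) J θ
  constructor
  · unfold GrLC.bassNum GrLC.bassNumLocal
    exact Module.length_eq_zero_iff.2 h0
  · intro i
    rw [hcardP i]
    exact hsucc i

end Int

end Groth.Agent.Lib.Helper11.GrCore
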