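import Mathlib
import Groth.Prelude.Def_GrLC
import Groth.Agent.Lib.Helper11.GrLC
import Groth.Agent.Lib.Helper11.GrLCDecomp
import Groth.Agent.Lib.Helper11.GrLCSubQuot

/-!
# Comparison theorem for *injective resolutions

* `exists_extension_deg`: extension of a degree-`δ` map into a *injective along a homogeneous map.
* `CMap E E'`: families of linear maps commuting with the differentials; `CMap.Hmap` the induced map on
  `Γ_a`-cohomology.
* `exists_cmap`: a degree-`δ` map `φ : M → M'` lifts to a degree-`δ` chain map of resolutions.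
* `homotopic_of_lifts`: two lifts of the same `φ` are homotopic; `Hmap_eq_of_homotopic`.
* `H_equiv`: `E.H a q ≃ₗ[R] E'.H a q` for two *injective resolutions of the same module.
-/

set_option autoImplicit false
set_option linter.unusedSectionVars false
universe u

namespace Groth.Agent.Lib.Helper11.GrLCLib

open DirectSum GrLC

variable {ι : Type} [DecidableEq ι] [AddCommGroup ι]
variable {R : Type u} [CommRing R] (𝒜 : ι → AddSubgroup R) [GradedRing 𝒜]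

section Extension

variable {X Y I : Type u} [AddCommGroup X] [Module R X] [AddCommGroup Y] [Module R Y]
  [AddCommGroup I] [Module R I]
  (𝒳 : ι → AddSubgroup X) [DirectSum.Decomposition 𝒳] [SetLike.GradedSMul 𝒜 𝒳]
  (𝒴 : ι → AddSubgroup Y) [DirectSum.Decomposition 𝒴] [SetLike.GradedSMul 𝒜 𝒴]
  (𝓘 : ι → AddSubgroup I) [DirectSum.Decomposition 𝓘] [SetLike.GradedSMul 𝒜 𝓘]

/-- Extension lemma: `I` *injective, `u : X → Y` homogeneous, `v : X → I` of degree `δ` vanishing on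
`ker u`; then `v` extends along `u` to a map `Y → I` of degree `δ`. -/
theorem exists_extension_deg (hI : IsStarInj 𝒜 𝓘) (u : X →ₗ[R] Y) (hu : IsGrHom 𝒳 𝒴 u) (δ : ι)
    (v : X →ₗ[R] I) (hv : IsGrHomDeg 𝒳 𝓘 v δ) (hker : LinearMap.ker u ≤ LinearMap.ker v) :
    ∃ w : Y →ₗ[R] I, IsGrHomDeg 𝒴 𝓘 w δ ∧ w ∘ₗ u = v := by
  have hK : (LinearMap.ker u).IsHomogeneous 𝒳 := ker_isHomogeneous 𝒳 𝒴 hu
  let _ := quotDecomposition 𝒳 (LinearMap.ker u) hK
  let f : (X ⧸ LinearMap.ker u) →ₗ[R] Y := (LinearMap.ker u).liftQ u le_rfl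
  let g : (X ⧸ LinearMap.ker u) →ₗ[R] I := (LinearMap.ker u).liftQ v hker
  have hf : IsGrHom (shiftGr (quotGrM 𝒳 (LinearMap.ker u)) (-δ)) (shiftGr 𝒴 (-δ)) f := by
    rintro j _ ⟨x, hx, rfl⟩
    exact hu _ x hx
  have hfinj : Function.Injective f := by
    rw [← LinearMap.ker_eq_bot]
    exact Submodule.ker_liftQ_eq_bot _ _ _ le_rfl
  have hg : IsGrHom (shiftGr (quotGrM 𝒳 (LinearMap.ker u)) (-δ)) 𝓘 g := by
    rintro j _ ⟨x, hx, rfl⟩
    have := hv _ x hx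
    rwa [neg_add_cancel_right] at this
  obtain ⟨h, hh, hhf⟩ := hI (shiftGMod 𝒜 (quotGrM 𝒳 (LinearMap.ker u)) (-δ)) (shiftGMod 𝒜 𝒴 (-δ))
    f hf hfinj g hg
  refine ⟨h, ?_, ?_⟩
  · intro j y hy
    apply hh (j + δ) y
    change y ∈ 𝒴 (j + δ + -δ)
    rwa [add_neg_cancel_right]
  · ext x
    have := LinearMap.congr_fun hhf ((LinearMap.ker u).mkQ x)
    simpa [f, g] using this

end Extension

section Chain

variable {M : Type u} [AddCommGroup M] [Module R M] {ℳ : ι → AddSubgroup M}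
  [DirectSum.Decomposition ℳ] [SetLike.GradedSMul 𝒜 ℳ]
variable {M' : Type u} [AddCommGroup M'] [Module R M'] {ℳ' : ι → AddSubgroup M'}
  [DirectSum.Decomposition ℳ'] [SetLike.GradedSMul 𝒜 ℳ']
variable {M'' : Type u} [AddCommGroup M''] [Module R M''] {ℳ'' : ι → AddSubgroup M''}
  [DirectSum.Decomposition ℳ''] [SetLike.GradedSMul 𝒜 ℳ'']

variable {𝒜}

lemma d_comp_d (E : StarInjRes 𝒜 ℳ) (n : ℕ) : E.d (n + 1) ∘ₗ E.d n = 0 := by
  ext x
  have : E.d n x ∈ LinearMap.ker (E.d (n + 1)) := by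
    rw [E.exact_succ]; exact ⟨x, rfl⟩
  simpa using this

lemma d_comp_ε (E : StarInjRes 𝒜 ℳ) : E.d 0 ∘ₗ E.ε = 0 := by
  ext x
  have : E.ε x ∈ LinearMap.ker (E.d 0) := by
    rw [E.exact_zero]; exact ⟨x, rfl⟩
  simpa using this

/-- A chain map between (the underlying complexes of) two resolutions. -/
structure CMap (E : StarInjRes 𝒜 ℳ) (E' : StarInjRes 𝒜 ℳ') where
  f : ∀ n, (E.X n).carrier →ₗ[R] (E'.X n).carrier
  comm : ∀ n, f (n + 1) ∘ₗ E.d n = E'.d n ∘ₗ f n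

namespace CMap

variable {E : StarInjRes 𝒜 ℳ} {E' : StarInjRes 𝒜 ℳ'} {E'' : StarInjRes 𝒜 ℳ''}

/-- all components are homogeneous of degree `δ`. -/
def IsDeg (c : CMap E E') (δ : ι) : Prop := ∀ n, IsGrHomDeg (E.X n).gr (E'.X n).gr (c.f n) δ

/-- `c` lifts `φ`. -/
def Lifts (c : CMap E E') (φ : M →ₗ[R] M') : Prop := c.f 0 ∘ₗ E.ε = E'.ε ∘ₗ φ

/-- identity chain map. -/
def id (E : StarInjRes 𝒜 ℳ) : CMap E E where
  f _ := LinearMap.id
  comm _ := rfl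

/-- composition. -/
def comp (c' : CMap E' E'') (c : CMap E E') : CMap E E'' where
  f n := c'.f n ∘ₗ c.f n
  comm n := by
    rw [LinearMap.comp_assoc, c.comm, ← LinearMap.comp_assoc, c'.comm, LinearMap.comp_assoc]

/-- multiplication by a scalar. -/
def smul (E : StarInjRes 𝒜 ℳ) (r : R) : CMap E E where
  f n := LinearMap.lsmul R _ r
  comm n := by ext x; simp

lemma id_isDeg (E : StarInjRes 𝒜 ℳ) : (CMap.id E).IsDeg 0 := by
  intro n g x hx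
  rw [add_zero]; exact hx

lemma id_lifts (E : StarInjRes 𝒜 ℳ) : (CMap.id E).Lifts LinearMap.id := rfl

lemma comp_isDeg {c' : CMap E' E''} {c : CMap E E'} {δ δ' : ι} (h' : c'.IsDeg δ') (h : c.IsDeg δ) :
    (c'.comp c).IsDeg (δ + δ') := by
  intro n g x hx
  have := h' n _ _ (h n g x hx)
  rwa [add_assoc] at this

lemma comp_lifts {c' : CMap E' E''} {c : CMap E E'} {φ : M →ₗ[R] M'} {φ' : M' →ₗ[R] M''}
    (h' : c'.Lifts φ') (h : c.Lifts φ) : (c'.comp c).Lifts (φ' ∘ₗ φ) := by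
  unfold Lifts at *
  change (c'.f 0 ∘ₗ c.f 0) ∘ₗ E.ε = _
  rw [LinearMap.comp_assoc, h, ← LinearMap.comp_assoc, h', LinearMap.comp_assoc]

lemma smul_isDeg (E : StarInjRes 𝒜 ℳ) {r : R} {δ : ι} (hr : r ∈ 𝒜 δ) : (CMap.smul E r).IsDeg δ :=
  fun n => isGrHomDeg_lsmul (E.X n).gr 𝒜 hr

lemma smul_lifts (E : StarInjRes 𝒜 ℳ) (r : R) : (CMap.smul E r).Lifts (LinearMap.lsmul R M r) := by
  unfold Lifts
  ext x; simp [smul]

/-- homotopy between chain maps. -/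
def Homotopic (c c' : CMap E E') : Prop :=
  ∃ h : ∀ n, (E.X (n + 1)).carrier →ₗ[R] (E'.X n).carrier,
    c.f 0 - c'.f 0 = h 0 ∘ₗ E.d 0 ∧
    ∀ n, c.f (n + 1) - c'.f (n + 1) = E'.d n ∘ₗ h n + h (n + 1) ∘ₗ E.d (n + 1)

end CMap

section Lift

variable (E : StarInjRes 𝒜 ℳ) (E' : StarInjRes 𝒜 ℳ') (φ : M →ₗ[R] M') (δ : ι)

lemma exists_f0 (hφ : IsGrHomDeg ℳ ℳ' φ δ) :
    ∃ f₀ : (E.X 0).carrier →ₗ[R] (E'.X 0).carrier,
      IsGrHomDeg (E.X 0).gr (E'.X 0).gr f₀ δ ∧ f₀ ∘ₗ E.ε = E'.ε ∘ₗ φ := by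
  refine exists_extension_deg 𝒜 ℳ (E.X 0).gr (E'.X 0).gr (E'.starInj 0) E.ε E.ε_grHom δ
    (E'.ε ∘ₗ φ) ?_ ?_
  · intro g x hx
    exact E'.ε_grHom _ _ (hφ g x hx)
  · rw [LinearMap.ker_eq_bot.mpr E.ε_injective]; exact bot_le

lemma exists_next (n : ℕ) (f₀ : (E.X n).carrier →ₗ[R] (E'.X n).carrier)
    (hdeg : IsGrHomDeg (E.X n).gr (E'.X n).gr f₀ δ)
    (hvan : LinearMap.ker (E.d n) ≤ LinearMap.ker (E'.d n ∘ₗ f₀)) :
    ∃ f₁ : (E.X (n + 1)).carrier →ₗ[R] (E'.X (n + 1)).carrier,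
      IsGrHomDeg (E.X (n + 1)).gr (E'.X (n + 1)).gr f₁ δ ∧ f₁ ∘ₗ E.d n = E'.d n ∘ₗ f₀ := by
  refine exists_extension_deg 𝒜 (E.X n).gr (E.X (n + 1)).gr (E'.X (n + 1)).gr (E'.starInj (n + 1))
    (E.d n) (E.d_grHom n) δ (E'.d n ∘ₗ f₀) ?_ hvan
  intro g x hx
  exact E'.d_grHom n _ _ (hdeg g x hx)

lemma van_zero (f₀ : (E.X 0).carrier →ₗ[R] (E'.X 0).carrier) (h : f₀ ∘ₗ E.ε = E'.ε ∘ₗ φ) :
    LinearMap.ker (E.d 0) ≤ LinearMap.ker (E'.d 0 ∘ₗ f₀) := by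
  rw [E.exact_zero]
  rintro _ ⟨m, rfl⟩
  rw [LinearMap.mem_ker, LinearMap.comp_apply]
  have h1 := LinearMap.congr_fun h m
  simp only [LinearMap.comp_apply] at h1
  rw [h1]
  exact LinearMap.congr_fun (d_comp_ε E') (φ m)

lemma van_succ (n : ℕ) (f₀ : (E.X n).carrier →ₗ[R] (E'.X n).carrier)
    (f₁ : (E.X (n + 1)).carrier →ₗ[R] (E'.X (n + 1)).carrier)
    (h : f₁ ∘ₗ E.d n = E'.d n ∘ₗ f₀) :
    LinearMap.ker (E.d (n + 1)) ≤ LinearMap.ker (E'.d (n + 1) ∘ₗ f₁) := by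
  rw [E.exact_succ]
  rintro _ ⟨y, rfl⟩
  rw [LinearMap.mem_ker, LinearMap.comp_apply]
  have h1 := LinearMap.congr_fun h y
  simp only [LinearMap.comp_apply] at h1
  rw [h1]
  exact LinearMap.congr_fun (d_comp_d E' n) (f₀ y)

/-- two consecutive components of a lift. -/
structure LiftPair (n : ℕ) where
  f₀ : (E.X n).carrier →ₗ[R] (E'.X n).carrier
  f₁ : (E.X (n + 1)).carrier →ₗ[R] (E'.X (n + 1)).carrier
  deg₀ : IsGrHomDeg (E.X n).gr (E'.X n).gr f₀ δ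
  deg₁ : IsGrHomDeg (E.X (n + 1)).gr (E'.X (n + 1)).gr f₁ δ
  comm : f₁ ∘ₗ E.d n = E'.d n ∘ₗ f₀

/-- the lift, built recursively. -/
noncomputable def liftPair (hφ : IsGrHomDeg ℳ ℳ' φ δ) : (n : ℕ) → LiftPair E E' δ n
  | 0 =>
    let h0 := exists_f0 E E' φ δ hφ
    let h1 := exists_next E E' δ 0 h0.choose h0.choose_spec.1 (van_zero E E' φ _ h0.choose_spec.2)
    ⟨h0.choose, h1.choose, h0.choose_spec.1, h1.choose_spec.1, h1.choose_spec.2⟩
  | n + 1 =>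
    let p := liftPair hφ n
    let h1 := exists_next E E' δ (n + 1) p.f₁ p.deg₁ (van_succ E E' n p.f₀ p.f₁ p.comm)
    ⟨p.f₁, h1.choose, p.deg₁, h1.choose_spec.1, h1.choose_spec.2⟩

lemma liftPair_zero_lifts (hφ : IsGrHomDeg ℳ ℳ' φ δ) :
    (liftPair E E' φ δ hφ 0).f₀ ∘ₗ E.ε = E'.ε ∘ₗ φ :=
  (exists_f0 E E' φ δ hφ).choose_spec.2

lemma liftPair_succ_f₀ (hφ : IsGrHomDeg ℳ ℳ' φ δ) (n : ℕ) :
    (liftPair E E' φ δ hφ (n + 1)).f₀ = (liftPair E E' φ δ hφ n).f₁ := rfl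

/-- Existence part of the comparison theorem. -/
theorem exists_cmap (hφ : IsGrHomDeg ℳ ℳ' φ δ) :
    ∃ c : CMap E E', c.IsDeg δ ∧ c.Lifts φ := by
  refine ⟨⟨fun n => (liftPair E E' φ δ hφ n).f₀, fun n => ?_⟩, fun n => ?_, ?_⟩
  · change (liftPair E E' φ δ hφ (n + 1)).f₀ ∘ₗ E.d n = _
    rw [liftPair_succ_f₀]
    exact (liftPair E E' φ δ hφ n).comm
  · exact (liftPair E E' φ δ hφ n).deg₀
  · exact liftPair_zero_lifts E E' φ δ hφ

end Lift

section Homotopy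

variable {E : StarInjRes 𝒜 ℳ} {E' : StarInjRes 𝒜 ℳ'} (c c' : CMap E E') (φ : M →ₗ[R] M') (δ : ι)

omit [DirectSum.Decomposition ℳ] [DirectSum.Decomposition ℳ'] in
lemma isGrHomDeg_sub {X Y : Type u} [AddCommGroup X] [Module R X] [AddCommGroup Y] [Module R Y]
    (𝒳 : ι → AddSubgroup X) (𝒴 : ι → AddSubgroup Y) {f g : X →ₗ[R] Y} {δ : ι}
    (hf : IsGrHomDeg 𝒳 𝒴 f δ) (hg : IsGrHomDeg 𝒳 𝒴 g δ) : IsGrHomDeg 𝒳 𝒴 (f - g) δ :=
  fun j x hx => sub_mem (hf j x hx) (hg j x hx)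

/-- the difference of the two chain maps. -/
def kk (n : ℕ) : (E.X n).carrier →ₗ[R] (E'.X n).carrier := c.f n - c'.f n

lemma kk_comm (n : ℕ) : kk c c' (n + 1) ∘ₗ E.d n = E'.d n ∘ₗ kk c c' n := by
  unfold kk
  rw [LinearMap.sub_comp, LinearMap.comp_sub, c.comm, c'.comm]

lemma kk_deg (hc : c.IsDeg δ) (hc' : c'.IsDeg δ) (n : ℕ) :
    IsGrHomDeg (E.X n).gr (E'.X n).gr (kk c c' n) δ :=
  isGrHomDeg_sub _ _ (hc n) (hc' n)

lemma exists_h0 (hc : c.IsDeg δ) (hc' : c'.IsDeg δ) (hl : c.Lifts φ) (hl' : c'.Lifts φ) :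
    ∃ h₀ : (E.X 1).carrier →ₗ[R] (E'.X 0).carrier,
      IsGrHomDeg (E.X 1).gr (E'.X 0).gr h₀ δ ∧ h₀ ∘ₗ E.d 0 = kk c c' 0 := by
  refine exists_extension_deg 𝒜 (E.X 0).gr (E.X 1).gr (E'.X 0).gr (E'.starInj 0)
    (E.d 0) (E.d_grHom 0) δ (kk c c' 0) (kk_deg c c' δ hc hc' 0) ?_
  rw [E.exact_zero]
  rintro _ ⟨m, rfl⟩
  rw [LinearMap.mem_ker]
  have h1 := LinearMap.congr_fun hl m
  have h2 := LinearMap.congr_fun hl' m
  simp only [LinearMap.comp_apply] at h1 h2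
  simp only [kk, LinearMap.sub_apply, h1, h2, sub_self]

lemma exists_hnext (n : ℕ) (h : (E.X (n + 1)).carrier →ₗ[R] (E'.X n).carrier)
    (hc : c.IsDeg δ) (hc' : c'.IsDeg δ)
    (hdeg : IsGrHomDeg (E.X (n + 1)).gr (E'.X n).gr h δ)
    (inv : LinearMap.ker (E.d (n + 1)) ≤ LinearMap.ker (kk c c' (n + 1) - E'.d n ∘ₗ h)) :
    ∃ h' : (E.X (n + 2)).carrier →ₗ[R] (E'.X (n + 1)).carrier,
      IsGrHomDeg (E.X (n + 2)).gr (E'.X (n + 1)).gr h' δ ∧
        h' ∘ₗ E.d (n + 1) = kk c c' (n + 1) - E'.d n ∘ₗ h := by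
  refine exists_extension_deg 𝒜 (E.X (n + 1)).gr (E.X (n + 2)).gr (E'.X (n + 1)).gr
    (E'.starInj (n + 1)) (E.d (n + 1)) (E.d_grHom (n + 1)) δ _ ?_ inv
  refine isGrHomDeg_sub _ _ (kk_deg c c' δ hc hc' (n + 1)) ?_
  intro g x hx
  exact E'.d_grHom n _ _ (hdeg g x hx)

lemma inv_zero (h₀ : (E.X 1).carrier →ₗ[R] (E'.X 0).carrier) (hh : h₀ ∘ₗ E.d 0 = kk c c' 0) :
    LinearMap.ker (E.d 1) ≤ LinearMap.ker (kk c c' 1 - E'.d 0 ∘ₗ h₀) := by
  rw [E.exact_succ]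
  rintro _ ⟨y, rfl⟩
  rw [LinearMap.mem_ker, LinearMap.sub_apply, LinearMap.comp_apply]
  have h1 := LinearMap.congr_fun (kk_comm c c' 0) y
  have h2 := LinearMap.congr_fun hh y
  simp only [LinearMap.comp_apply] at h1 h2
  rw [h1, h2, sub_self]

lemma inv_succ (n : ℕ) (h : (E.X (n + 1)).carrier →ₗ[R] (E'.X n).carrier)
    (h' : (E.X (n + 2)).carrier →ₗ[R] (E'.X (n + 1)).carrier)
    (hh : h' ∘ₗ E.d (n + 1) = kk c c' (n + 1) - E'.d n ∘ₗ h) :
    LinearMap.ker (E.d (n + 2)) ≤ LinearMap.ker (kk c c' (n + 2) - E'.d (n + 1) ∘ₗ h') := by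
  rw [E.exact_succ]
  rintro _ ⟨y, rfl⟩
  rw [LinearMap.mem_ker, LinearMap.sub_apply, LinearMap.comp_apply]
  have h1 := LinearMap.congr_fun (kk_comm c c' (n + 1)) y
  have h2 := LinearMap.congr_fun hh y
  have h3 := LinearMap.congr_fun (d_comp_d E' n) (h y)
  simp only [LinearMap.comp_apply, LinearMap.sub_apply, LinearMap.zero_apply] at h1 h2 h3
  rw [h1, h2, map_sub, h3, sub_zero, sub_self]

/-- one level of the homotopy with its invariant. -/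
structure HStep (n : ℕ) where
  h : (E.X (n + 1)).carrier →ₗ[R] (E'.X n).carrier
  deg : IsGrHomDeg (E.X (n + 1)).gr (E'.X n).gr h δ
  inv : LinearMap.ker (E.d (n + 1)) ≤ LinearMap.ker (kk c c' (n + 1) - E'.d n ∘ₗ h)

/-- the homotopy, built recursively. -/
noncomputable def hstep (hc : c.IsDeg δ) (hc' : c'.IsDeg δ) (hl : c.Lifts φ) (hl' : c'.Lifts φ) :
    (n : ℕ) → HStep c c' δ n
  | 0 =>
    let e := exists_h0 c c' φ δ hc hc' hl hl'
    ⟨e.choose, e.choose_spec.1, inv_zero c c' _ e.choose_spec.2⟩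
  | n + 1 =>
    let p := hstep hc hc' hl hl' n
    let e := exists_hnext c c' δ n p.h hc hc' p.deg p.inv
    ⟨e.choose, e.choose_spec.1, inv_succ c c' n p.h _ e.choose_spec.2⟩

lemma hstep_zero (hc : c.IsDeg δ) (hc' : c'.IsDeg δ) (hl : c.Lifts φ) (hl' : c'.Lifts φ) :
    (hstep c c' φ δ hc hc' hl hl' 0).h ∘ₗ E.d 0 = kk c c' 0 :=
  (exists_h0 c c' φ δ hc hc' hl hl').choose_spec.2

lemma hstep_succ (hc : c.IsDeg δ) (hc' : c'.IsDeg δ) (hl : c.Lifts φ) (hl' : c'.Lifts φ) (n : ℕ) :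
    (hstep c c' φ δ hc hc' hl hl' (n + 1)).h ∘ₗ E.d (n + 1) =
      kk c c' (n + 1) - E'.d n ∘ₗ (hstep c c' φ δ hc hc' hl hl' n).h :=
  (exists_hnext c c' δ n (hstep c c' φ δ hc hc' hl hl' n).h hc hc'
    (hstep c c' φ δ hc hc' hl hl' n).deg (hstep c c' φ δ hc hc' hl hl' n).inv).choose_spec.2

/-- Uniqueness part of the comparison theorem: two lifts of the same map are homotopic. -/
theorem homotopic_of_lifts (hc : c.IsDeg δ) (hc' : c'.IsDeg δ) (hl : c.Lifts φ) (hl' : c'.Lifts φ) :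
    CMap.Homotopic c c' := by
  refine ⟨fun n => (hstep c c' φ δ hc hc' hl hl' n).h, ?_, fun n => ?_⟩
  · exact (hstep_zero c c' φ δ hc hc' hl hl').symm
  · have := hstep_succ c c' φ δ hc hc' hl hl' n
    change c.f (n + 1) - c'.f (n + 1) = _
    rw [this]
    unfold kk
    abel

end Homotopy

section HMap

variable {E : StarInjRes 𝒜 ℳ} {E' : StarInjRes 𝒜 ℳ'} {E'' : StarInjRes 𝒜 ℳ''}

lemma map_mem_gam {X Y : Type u} [AddCommGroup X] [Module R X] [AddCommGroup Y] [Module R Y]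
    (f : X →ₗ[R] Y) (a : Ideal R) {x : X} (hx : x ∈ gam a X) : f x ∈ gam a Y := by
  obtain ⟨n, hn⟩ := hx
  exact ⟨n, fun r hr => by rw [← map_smul, hn r hr, map_zero]⟩

variable (c : CMap E E') (a : HomogeneousIdeal 𝒜)

lemma CMap.comm_apply (n : ℕ) (x : (E.X n).carrier) : c.f (n + 1) (E.d n x) = E'.d n (c.f n x) :=
  LinearMap.congr_fun (c.comm n) x

lemma CMap.map_cocyc (q : ℕ) {z : (E.X q).carrier} (hz : z ∈ E.cocyc a q) :
    c.f q z ∈ E'.cocyc a q := by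
  refine ⟨map_mem_gam _ _ hz.1, ?_⟩
  change c.f q z ∈ LinearMap.ker (E'.d q)
  rw [LinearMap.mem_ker, ← c.comm_apply, LinearMap.mem_ker.mp hz.2, map_zero]

/-- the map on cocycles. -/
def CMap.cocycMap (q : ℕ) : E.cocyc a q →ₗ[R] E'.cocyc a q :=
  (c.f q).restrict (fun _ hz => c.map_cocyc a q hz)

@[simp] lemma CMap.cocycMap_coe (q : ℕ) (z : E.cocyc a q) :
    ((c.cocycMap a q z : E'.cocyc a q) : (E'.X q).carrier) = c.f q z := rfl

lemma CMap.cobdy_le (q : ℕ) :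
    (E.cobdy a q).comap (E.cocyc a q).subtype ≤
      ((E'.cobdy a q).comap (E'.cocyc a q).subtype).comap (c.cocycMap a q) := by
  intro z hz
  rw [Submodule.mem_comap, Submodule.mem_comap] at *
  cases q with
  | zero =>
    change ((E.cocyc a 0).subtype z) ∈ (⊥ : Submodule R _) at hz
    change _ ∈ (⊥ : Submodule R _)
    rw [Submodule.mem_bot] at hz ⊢
    change c.f 0 (z : (E.X 0).carrier) = 0
    have : (z : (E.X 0).carrier) = 0 := hz
    rw [this, map_zero]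
  | succ n =>
    obtain ⟨x, hx, hxz⟩ := hz
    refine ⟨c.f n x, map_mem_gam _ _ hx, ?_⟩
    change E'.d n (c.f n x) = c.f (n + 1) (z : (E.X (n + 1)).carrier)
    rw [← c.comm_apply]
    congr 1

/-- the induced map on `Γ_a`-cohomology. -/
def CMap.Hmap (q : ℕ) : E.H a q →ₗ[R] E'.H a q :=
  Submodule.mapQ _ _ (c.cocycMap a q) (c.cobdy_le a q)

lemma CMap.Hmap_toH (q : ℕ) (z : E.cocyc a q) :
    c.Hmap a q (E.toH a q z) = E'.toH a q (c.cocycMap a q z) := rfl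

lemma CMap.Hmap_id (q : ℕ) : (CMap.id E).Hmap a q = LinearMap.id := by
  apply LinearMap.ext
  intro x
  obtain ⟨z, rfl⟩ := Submodule.mkQ_surjective _ x
  rfl

lemma CMap.Hmap_comp (c' : CMap E' E'') (q : ℕ) :
    (c'.comp c).Hmap a q = c'.Hmap a q ∘ₗ c.Hmap a q := by
  apply LinearMap.ext
  intro x
  obtain ⟨z, rfl⟩ := Submodule.mkQ_surjective _ x
  rfl

lemma CMap.Hmap_smul (r : R) (q : ℕ) (x : E.H a q) : (CMap.smul E r).Hmap a q x = r • x := by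
  obtain ⟨z, rfl⟩ := Submodule.mkQ_surjective _ x
  rfl

lemma CMap.Hmap_eq_of_homotopic {c c' : CMap E E'} (h : CMap.Homotopic c c') (q : ℕ) :
    c.Hmap a q = c'.Hmap a q := by
  obtain ⟨h, h0, hs⟩ := h
  apply LinearMap.ext
  intro x
  obtain ⟨z, rfl⟩ := Submodule.mkQ_surjective _ x
  change E'.toH a q (c.cocycMap a q z) = E'.toH a q (c'.cocycMap a q z)
  rw [← sub_eq_zero, ← map_sub]
  change (Submodule.mkQ _) _ = 0
  rw [Submodule.mkQ_apply, Submodule.Quotient.mk_eq_zero, Submodule.mem_comap]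
  have hz2 : E.d q (z : (E.X q).carrier) = 0 := LinearMap.mem_ker.mp z.2.2
  cases q with
  | zero =>
    change _ ∈ (⊥ : Submodule R _)
    rw [Submodule.mem_bot]
    change c.f 0 (z : (E.X 0).carrier) - c'.f 0 (z : (E.X 0).carrier) = 0
    have := LinearMap.congr_fun h0 (z : (E.X 0).carrier)
    simp only [LinearMap.sub_apply, LinearMap.comp_apply] at this
    rw [this, hz2, map_zero]
  | succ n =>
    refine ⟨h n (z : (E.X (n + 1)).carrier), map_mem_gam _ _ z.2.1, ?_⟩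
    change _ = c.f (n + 1) (z : (E.X (n + 1)).carrier) - c'.f (n + 1) (z : (E.X (n + 1)).carrier)
    have := LinearMap.congr_fun (hs n) (z : (E.X (n + 1)).carrier)
    simp only [LinearMap.sub_apply, LinearMap.add_apply, LinearMap.comp_apply] at this
    rw [this, hz2, map_zero, add_zero]

lemma CMap.Hmap_mem_Hcomp {δ : ι} (hc : c.IsDeg δ) (q : ℕ) {g : ι} {x : E.H a q}
    (hx : x ∈ E.Hcomp a q g) : c.Hmap a q x ∈ E'.Hcomp a q (g + δ) := by
  obtain ⟨z, hz, rfl⟩ := hx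
  exact ⟨c.cocycMap a q z, hc q g _ hz, rfl⟩

end HMap

section Indep

variable (E E' : StarInjRes 𝒜 ℳ) (a : HomogeneousIdeal 𝒜)

omit [DirectSum.Decomposition ℳ] in
lemma isGrHomDeg_id_zero : IsGrHomDeg ℳ ℳ (LinearMap.id : M →ₗ[R] M) 0 := by
  intro g x hx
  rw [add_zero]; exact hx

/-- Independence of the resolution: a homogeneous isomorphism `E.H a q ≃ E'.H a q`. -/
theorem exists_H_equiv (q : ℕ) :
    ∃ e : E.H a q ≃ₗ[R] E'.H a q, (∀ g x, x ∈ E.Hcomp a q g → e x ∈ E'.Hcomp a q g) ∧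
      (∀ g y, y ∈ E'.Hcomp a q g → e.symm y ∈ E.Hcomp a q g) := by
  obtain ⟨c, hc, hl⟩ := exists_cmap E E' LinearMap.id 0 isGrHomDeg_id_zero
  obtain ⟨c', hc', hl'⟩ := exists_cmap E' E LinearMap.id 0 isGrHomDeg_id_zero
  have h1 : CMap.Homotopic (c'.comp c) (CMap.id E) := by
    refine homotopic_of_lifts _ _ LinearMap.id 0 ?_ (CMap.id_isDeg E) ?_ (CMap.id_lifts E)
    · have := CMap.comp_isDeg hc' hc
      rwa [add_zero] at this
    · exact CMap.comp_lifts hl' hl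
  have h2 : CMap.Homotopic (c.comp c') (CMap.id E') := by
    refine homotopic_of_lifts _ _ LinearMap.id 0 ?_ (CMap.id_isDeg E') ?_ (CMap.id_lifts E')
    · have := CMap.comp_isDeg hc hc'
      rwa [add_zero] at this
    · exact CMap.comp_lifts hl hl'
  have e1 : c'.Hmap a q ∘ₗ c.Hmap a q = LinearMap.id := by
    rw [← CMap.Hmap_comp, CMap.Hmap_eq_of_homotopic a h1, CMap.Hmap_id]
  have e2 : c.Hmap a q ∘ₗ c'.Hmap a q = LinearMap.id := by
    rw [← CMap.Hmap_comp, CMap.Hmap_eq_of_homotopic a h2, CMap.Hmap_id]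
  refine ⟨LinearEquiv.ofLinear (c.Hmap a q) (c'.Hmap a q) e2 e1, ?_, ?_⟩
  · intro g x hx
    have := c.Hmap_mem_Hcomp a hc q hx
    rwa [add_zero] at this
  · intro g y hy
    have := c'.Hmap_mem_Hcomp a hc' q hy
    rwa [add_zero] at this

end Indep

end Chain

end Groth.Agent.Lib.Helper11.GrLCLib
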