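import Mathlib
import Groth.Prelude.Def_GrLC
import Groth.Agent.Lib.Helper11.GrExtC
import Groth.Agent.Lib.Helper11.GrLCCmp

/-!
# `Ext^i_R(K, I) = 0` for `i ≥ 1`, `K` finite graded, `I` *injective (Noetherian `R`)
-/

set_option autoImplicit false
set_option linter.unusedSectionVars false
universe u

open CategoryTheory CategoryTheory.Abelian

namespace Groth.Agent.Lib.Helper11.GrExt

open DirectSum GrLC Groth.Agent.Lib.Helper11.GrLCLib Groth.Agent.Lib.Helper11.GrCore

variable {ι : Type} [DecidableEq ι] [AddCommGroup ι]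
variable {R : Type u} [CommRing R] (𝒜 : ι → AddSubgroup R) [GradedRing 𝒜]
variable {I : Type u} [AddCommGroup I] [Module R I] (ℐ : ι → AddSubgroup I)
  [DirectSum.Decomposition ℐ] [SetLike.GradedSMul 𝒜 ℐ]

/-- Every linear map from a finite graded submodule into a *injective extends. -/
theorem exists_extension_of_isStarInj (hI : IsStarInj 𝒜 ℐ)
    {X Y : Type u} [AddCommGroup X] [Module R X] [AddCommGroup Y] [Module R Y]
    (𝒳 : ι → AddSubgroup X) [DirectSum.Decomposition 𝒳] [SetLike.GradedSMul 𝒜 𝒳]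
    (𝒴 : ι → AddSubgroup Y) [DirectSum.Decomposition 𝒴] [SetLike.GradedSMul 𝒜 𝒴]
    [Module.Finite R X] (u : X →ₗ[R] Y) (hu : IsGrHom 𝒳 𝒴 u) (hinj : Function.Injective u)
    (f : X →ₗ[R] I) : ∃ w : Y →ₗ[R] I, w ∘ₗ u = f := by
  classical
  letI := homDecomposition 𝒜 𝒳 ℐ
  have hsum := DirectSum.sum_support_decompose (homGr (R := R) 𝒳 ℐ) f
  have hext : ∀ d, ∃ w : Y →ₗ[R] I, w ∘ₗ u = (decompose (homGr (R := R) 𝒳 ℐ) f d : X →ₗ[R] I) := by
    intro d
    obtain ⟨w, _, hw⟩ := exists_extension_deg 𝒜 𝒳 𝒴 ℐ hI u hu d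
      (decompose (homGr (R := R) 𝒳 ℐ) f d : X →ₗ[R] I) ((mem_homGr 𝒳 ℐ).1 (SetLike.coe_mem _))
      (by rw [LinearMap.ker_eq_bot.2 hinj]; exact bot_le)
    exact ⟨w, hw⟩
  choose w hw using hext
  refine ⟨∑ d ∈ DFinsupp.support (decompose (homGr (R := R) 𝒳 ℐ) f), w d, ?_⟩
  refine Eq.trans ?_ hsum
  ext x
  simp only [LinearMap.comp_apply, LinearMap.sum_apply]
  refine Finset.sum_congr rfl fun d _ => ?_
  rw [← hw d]
  rfl

include ℐ in
theorem ext_subsingleton_of_isStarInj [IsNoetherianRing R] (hI : IsStarInj 𝒜 ℐ) (n : ℕ) :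
    ∀ (K : Type u) [AddCommGroup K] [Module R K] [Module.Finite R K]
      (𝒦 : ι → AddSubgroup K) [DirectSum.Decomposition 𝒦] [SetLike.GradedSMul 𝒜 𝒦],
      Subsingleton (Ext.{u} (ModuleCat.of R K) (ModuleCat.of R I) (n + 1)) := by
  classical
  induction n with
  | zero =>
    intro K _ _ _ 𝒦 _ _
    obtain ⟨α, _, δ, k, hk, hsurj⟩ := exists_free_cover 𝒜 𝒦
    letI := freeDecomposition 𝒜 δ
    set φ : (α → R) →ₗ[R] K := Fintype.linearCombination R k with hφ
    have hφgr : IsGrHom (freeGr 𝒜 δ) 𝒦 φ := linearCombination_isGrHom 𝒜 δ 𝒦 hk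
    set K' : Submodule R (α → R) := LinearMap.ker φ with hK'
    have hK'hom : K'.IsHomogeneous (freeGr 𝒜 δ) := ker_isHomogeneous (freeGr 𝒜 δ) 𝒦 hφgr
    letI := subDecomposition (freeGr 𝒜 δ) K' hK'hom
    have hfin : Module.Finite R K' := Module.Finite.of_fg (IsNoetherian.noetherian K')
    have hS := Groth.Agent.Lib.Helper16.Depth.shortExact_of_linearMaps K'.subtype φ
      (Submodule.injective_subtype _) hsurj (LinearMap.exact_subtype_ker_map φ)
    set S := ModuleCat.shortComplexOfCompEqZero K'.subtype φ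
      (LinearMap.exact_subtype_ker_map φ).linearMap_comp_eq_zero with hSdef
    have hproj : Projective S.X₂ := by
      have : Module.Projective R (α → R) := inferInstance
      exact (ModuleCat.of R (α → R)).projective_of_categoryTheory_projective
    refine ⟨fun a b => ?_⟩
    suffices h : ∀ z : Ext.{u} (ModuleCat.of R K) (ModuleCat.of R I) (0 + 1), z = 0 by
      rw [h a, h b]
    intro z
    obtain ⟨x, rfl⟩ := Ext.contravariant_sequence_exact₃ hS (ModuleCat.of R I) z
      (Ext.eq_zero_of_projective _) (add_comm 1 0)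
    obtain ⟨f, rfl⟩ := (hom0 K' I).symm.surjective x
    obtain ⟨w, hw⟩ := exists_extension_of_isStarInj 𝒜 ℐ hI (subGr (freeGr 𝒜 δ) K') (freeGr 𝒜 δ)
      K'.subtype (subtype_isGrHom (freeGr 𝒜 δ) K') (Submodule.injective_subtype _) f
    have : (hom0 K' I).symm f =
        (Ext.mk₀ S.f).comp (Ext.mk₀ (ModuleCat.ofHom w)) (zero_add 0) := by
      rw [hom0_symm_apply, Ext.mk₀_comp_mk₀, ← hw]
      rfl
    rw [this, ShortComplex.ShortExact.extClass_comp_assoc]
  | succ n ih =>
    intro K _ _ _ 𝒦 _ _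
    obtain ⟨α, _, δ, k, hk, hsurj⟩ := exists_free_cover 𝒜 𝒦
    letI := freeDecomposition 𝒜 δ
    set φ : (α → R) →ₗ[R] K := Fintype.linearCombination R k with hφ
    have hφgr : IsGrHom (freeGr 𝒜 δ) 𝒦 φ := linearCombination_isGrHom 𝒜 δ 𝒦 hk
    set K' : Submodule R (α → R) := LinearMap.ker φ with hK'
    have hK'hom : K'.IsHomogeneous (freeGr 𝒜 δ) := ker_isHomogeneous (freeGr 𝒜 δ) 𝒦 hφgr
    letI := subDecomposition (freeGr 𝒜 δ) K' hK'hom
    have hfin : Module.Finite R K' := Module.Finite.of_fg (IsNoetherian.noetherian K')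
    have hS := Groth.Agent.Lib.Helper16.Depth.shortExact_of_linearMaps K'.subtype φ
      (Submodule.injective_subtype _) hsurj (LinearMap.exact_subtype_ker_map φ)
    set S := ModuleCat.shortComplexOfCompEqZero K'.subtype φ
      (LinearMap.exact_subtype_ker_map φ).linearMap_comp_eq_zero with hSdef
    have hproj : Projective S.X₂ := by
      have : Module.Projective R (α → R) := inferInstance
      exact (ModuleCat.of R (α → R)).projective_of_categoryTheory_projective
    have hK'ss := ih K' (subGr (freeGr 𝒜 δ) K')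
    refine ⟨fun a b => ?_⟩
    suffices h : ∀ z : Ext.{u} (ModuleCat.of R K) (ModuleCat.of R I) (n + 1 + 1), z = 0 by
      rw [h a, h b]
    intro z
    obtain ⟨x, rfl⟩ := Ext.contravariant_sequence_exact₃ hS (ModuleCat.of R I) z
      (Ext.eq_zero_of_projective _) (add_comm 1 (n + 1))
    rw [hK'ss.elim x 0, Ext.comp_zero]

end Groth.Agent.Lib.Helper11.GrExt
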