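import Mathlib
import Groth.Prelude.Def_GrLC
import Groth.Prelude.Def_GrLC2
import Groth.Agent.Lib.Helper11.GrCoreF
import Groth.Agent.Lib.Helper11.GrCoreG
import Groth.Agent.Lib.Helper11.GrExtD

/-!
# Bass numbers of *injective modules; ordinary injective dimension `≤ 1` over ℤ-graded rings
-/

set_option autoImplicit false
set_option linter.unusedSectionVars false
universe u

open CategoryTheory CategoryTheory.Abelian

namespace Groth.Agent.Lib.Helper11.GrCore

open DirectSum GrLC Groth.Agent.Lib.Helper11.GrLCLib Groth.Agent.Lib.Helper11.GrExt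

section General

variable {ι : Type} [DecidableEq ι] [AddCommGroup ι]
variable {R : Type u} [CommRing R] [IsNoetherianRing R] (𝒜 : ι → AddSubgroup R) [GradedRing 𝒜]
variable {M : Type u} [AddCommGroup M] [Module R M] (ℳ : ι → AddSubgroup M)
  [DirectSum.Decomposition ℳ] [SetLike.GradedSMul 𝒜 ℳ]

include ℳ in
theorem bassNum_eq_zero_of_isStarInj_homogeneous (hM : IsStarInj 𝒜 ℳ) (P : Ideal R) [P.IsPrime]
    (hP : P.IsHomogeneous 𝒜) (i : ℕ) (hi : 1 ≤ i) : GrLC.bassNum P M i = 0 := by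
  obtain ⟨n, rfl⟩ : ∃ n, i = n + 1 := ⟨i - 1, by omega⟩
  apply bassNum_eq_zero_of_subsingleton_ext
  letI := quotDecomposition 𝒜 (P : Submodule R R) hP
  exact ext_subsingleton_of_isStarInj 𝒜 ℳ hM n (R ⧸ P) (quotGrM 𝒜 (P : Submodule R R))

end General

section Int

variable {R : Type u} [CommRing R] [IsNoetherianRing R] (𝒜 : ℤ → AddSubgroup R) [GradedRing 𝒜]
variable {M : Type u} [AddCommGroup M] [Module R M] (ℳ : ℤ → AddSubgroup M)
  [DirectSum.Decomposition ℳ] [SetLike.GradedSMul 𝒜 ℳ]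

include ℳ in
theorem bassNum_eq_zero_of_isStarInj_int (hM : IsStarInj 𝒜 ℳ) (p : Ideal R) [hp : p.IsPrime]
    (i : ℕ) (hi : 2 ≤ i) : GrLC.bassNum p M i = 0 := by
  by_cases hph : Ideal.IsHomogeneous 𝒜 p
  · exact bassNum_eq_zero_of_isStarInj_homogeneous 𝒜 ℳ hM p hph i (by omega)
  · have hPprime : (Ideal.homogeneousCore 𝒜 p).toIdeal.IsPrime := Ideal.IsPrime.homogeneousCore hp
    obtain ⟨n, rfl⟩ : ∃ n, i = n + 1 := ⟨i - 1, by omega⟩
    rw [(bassNum_int 𝒜 ℳ p hph).2 n]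
    exact bassNum_eq_zero_of_isStarInj_homogeneous 𝒜 ℳ hM _
      (Ideal.homogeneousCore 𝒜 p).isHomogeneous n (by omega)

include ℳ in
theorem hasInjectiveDimensionLT_two_of_isStarInj_int (hM : IsStarInj 𝒜 ℳ) :
    HasInjectiveDimensionLT (ModuleCat.of R M) 2 :=
  hasInjectiveDimensionLT_of_bassNum M 1 fun p _ i hi =>
    bassNum_eq_zero_of_isStarInj_int 𝒜 ℳ hM p i hi

end Int

end Groth.Agent.Lib.Helper11.GrCore
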