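import Groth.Agent.Lib.Helper11.GrBassA
import Groth.Agent.Lib.Helper11.GrBassB
import Groth.Agent.Lib.Helper11.GrCoreH

set_option autoImplicit false
set_option linter.unusedSectionVars false
universe u
open CategoryTheory CategoryTheory.Abelian

namespace Groth.Agent.Lib.Helper11.GrBass

open DirectSum GrLC Groth.Agent.Lib.Helper11.GrLCLib Groth.Agent.Lib.Helper11.GrExt
  Groth.Agent.Lib.Helper11.GrCore

section Res

variable {ι : Type} [DecidableEq ι] [AddCommGroup ι]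
variable {R : Type u} [CommRing R] [IsNoetherianRing R] (𝒜 : ι → AddSubgroup R) [GradedRing 𝒜]
variable {M : Type u} [AddCommGroup M] [Module R M] (ℳ : ι → AddSubgroup M)
  [DirectSum.Decomposition ℳ] [SetLike.GradedSMul 𝒜 ℳ]

include 𝒜 in
/-- Elementwise essentiality from *essentiality. -/
theorem exists_smul_mem_range_of_starEss {K L : Type u} [AddCommGroup K] [Module R K]
    [AddCommGroup L] [Module R L] (𝓛 : ι → AddSubgroup L) [DirectSum.Decomposition 𝓛]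
    [SetLike.GradedSMul 𝒜 𝓛] {f : K →ₗ[R] L} (hrange : (LinearMap.range f).IsHomogeneous 𝓛)
    (hess : ∀ P : Submodule R L, P.IsHomogeneous 𝓛 → P ≠ ⊥ → P ⊓ LinearMap.range f ≠ ⊥)
    (w : L) (hw : w ≠ 0) : ∃ r : R, r • w ≠ 0 ∧ r • w ∈ LinearMap.range f := by
  classical
  obtain ⟨h, r, -, h1, h2⟩ := exists_smul_mem_range 𝒜 𝓛 hrange hess _ w rfl hw
  exact ⟨r, h1, h2⟩

/-- essential ⇒ socle condition. -/
theorem socle_of_ess (p : Ideal R) {K L : Type u} [AddCommGroup K] [Module R K]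
    [AddCommGroup L] [Module R L] {f : K →ₗ[R] L}
    (hess : ∀ w : L, w ≠ 0 → ∃ r : R, r • w ≠ 0 ∧ r • w ∈ LinearMap.range f)
    (hp1 : (1 : R) ∉ p) (w : L) (hw : ∀ c ∈ p, c • w = 0) :
    ∃ r, r ∉ p ∧ r • w ∈ LinearMap.range f := by
  by_cases hw0 : w = 0
  · exact ⟨1, hp1, by rw [hw0, smul_zero]; exact zero_mem _⟩
  · obtain ⟨r, hr0, hr⟩ := hess w hw0
    exact ⟨r, fun h => hr0 (hw r h), hr⟩

variable {𝒜 ℳ}

theorem ess_zero (E : StarInjRes 𝒜 ℳ)
    (hmin0 : ∀ P : Submodule R (E.X 0).carrier, P.IsHomogeneous (E.X 0).gr → P ≠ ⊥ →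
      P ⊓ LinearMap.range E.ε ≠ ⊥) (w : (E.X 0).carrier) (hw : w ≠ 0) :
    ∃ r : R, r • w ≠ 0 ∧ r • w ∈ LinearMap.range E.ε :=
  exists_smul_mem_range_of_starEss 𝒜 (E.X 0).gr
    (range_isHomogeneous ℳ (E.X 0).gr E.ε_grHom) hmin0 w hw

theorem ess_succ (E : StarInjRes 𝒜 ℳ)
    (hmin : ∀ (n : ℕ) (P : Submodule R (E.X (n + 1)).carrier), P.IsHomogeneous (E.X (n + 1)).gr →
      P ≠ ⊥ → P ⊓ LinearMap.range (E.d n) ≠ ⊥) (n : ℕ) (w : (E.X (n + 1)).carrier) (hw : w ≠ 0) :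
    ∃ r : R, r • w ≠ 0 ∧ r • w ∈ LinearMap.range (E.d n) :=
  exists_smul_mem_range_of_starEss 𝒜 (E.X (n + 1)).gr
    (range_isHomogeneous (E.X n).gr (E.X (n + 1)).gr (E.d_grHom n)) (hmin n) w hw

/-- The corestriction of `d n` to `ker (d (n+1))`. -/
noncomputable def dRes (E : StarInjRes 𝒜 ℳ) (n : ℕ) :
    (E.X n).carrier →ₗ[R] LinearMap.ker (E.d (n + 1)) :=
  (E.d n).codRestrict (LinearMap.ker (E.d (n + 1))) (fun x => by
    rw [E.exact_succ n]; exact ⟨x, rfl⟩)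

theorem dRes_surjective (E : StarInjRes 𝒜 ℳ) (n : ℕ) : Function.Surjective (dRes E n) := by
  rintro ⟨y, hy⟩
  rw [E.exact_succ n] at hy
  obtain ⟨x, rfl⟩ := hy
  exact ⟨x, Subtype.ext rfl⟩

theorem dRes_ker (E : StarInjRes 𝒜 ℳ) (n : ℕ) : LinearMap.ker (dRes E n) = LinearMap.ker (E.d n) := by
  ext x
  rw [LinearMap.mem_ker, LinearMap.mem_ker]
  constructor
  · intro h; exact congrArg Subtype.val h
  · intro h; exact Subtype.ext h

theorem bassNum_ker_d (E : StarInjRes 𝒜 ℳ)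
    (hmin0 : ∀ P : Submodule R (E.X 0).carrier, P.IsHomogeneous (E.X 0).gr → P ≠ ⊥ →
      P ⊓ LinearMap.range E.ε ≠ ⊥)
    (hmin : ∀ (n : ℕ) (P : Submodule R (E.X (n + 1)).carrier), P.IsHomogeneous (E.X (n + 1)).gr →
      P ≠ ⊥ → P ⊓ LinearMap.range (E.d n) ≠ ⊥)
    (p : HomogeneousIdeal 𝒜) [hp : p.toIdeal.IsPrime] (j : ℕ) :
    ∀ n : ℕ, GrLC.bassNum p.toIdeal (LinearMap.ker (E.d (j + 1))) n =
      GrLC.bassNum p.toIdeal M (n + j + 1) := by
  have hX : ∀ i k, GrLC.bassNum p.toIdeal (E.X i).carrier (k + 1) = 0 := fun i k =>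
    bassNum_eq_zero_of_isStarInj_homogeneous 𝒜 (E.X i).gr (E.starInj i) p.toIdeal p.isHomogeneous
      (k + 1) (by omega)
  induction j with
  | zero =>
    intro n
    refine bassNum_shift p.toIdeal E.ε (dRes E 0) E.ε_injective (dRes_surjective E 0) ?_ (hX 0)
      (socle_of_ess p.toIdeal (ess_zero E hmin0) hp.one_notMem) n
    rw [LinearMap.exact_iff, dRes_ker, E.exact_zero]
  | succ j ih =>
    intro n
    have h1 := bassNum_shift p.toIdeal (LinearMap.ker (E.d (j + 1))).subtype (dRes E (j + 1))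
      (Submodule.injective_subtype _) (dRes_surjective E (j + 1)) (by
        rw [LinearMap.exact_iff, dRes_ker, Submodule.range_subtype]) (hX (j + 1))
      (socle_of_ess p.toIdeal (f := (LinearMap.ker (E.d (j + 1))).subtype) (by
        intro w hw
        obtain ⟨r, hr0, hr⟩ := ess_succ E hmin j w hw
        refine ⟨r, hr0, ?_⟩
        rw [Submodule.range_subtype, E.exact_succ j]
        exact hr) hp.one_notMem) n
    rw [h1, ih (n + 1)]
    congr 1
    omega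

end Res

end Groth.Agent.Lib.Helper11.GrBass
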