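import Mathlib
import Groth.Prelude.Def_GrLC
import Groth.Prelude.Def_Wider
import Groth.Agent.Lib.Helper11.GrLC

/-!
# *essential extensions are essential (ungraded)
-/

set_option autoImplicit false
set_option linter.unusedSectionVars false
universe u

namespace Groth.Agent.Lib.Helper11.GrLCLib

open DirectSum GrLC

variable {ι : Type} [DecidableEq ι] [AddCommGroup ι]
variable {R : Type u} [CommRing R]
variable {σ : Type u} [SetLike σ R] [AddSubgroupClass σ R] (𝒜 : ι → σ) [GradedRing 𝒜]
variable {M : Type u} [AddCommGroup M] [Module R M] (ℳ : ι → AddSubgroup M) [DirectSum.Decomposition ℳ]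
  [SetLike.GradedSMul 𝒜 ℳ]
variable {L : Type u} [AddCommGroup L] [Module R L] (𝓛 : ι → AddSubgroup L) [DirectSum.Decomposition 𝓛]
  [SetLike.GradedSMul 𝒜 𝓛]

/-- Homogeneous case: a nonzero homogeneous element has a nonzero homogeneous multiple in the range. -/
lemma exists_smul_mem_range_of_homogeneous {f : M →ₗ[R] L}
    (hrange : (LinearMap.range f).IsHomogeneous 𝓛)
    (hess : ∀ P : Submodule R L, P.IsHomogeneous 𝓛 → P ≠ ⊥ → P ⊓ LinearMap.range f ≠ ⊥)
    {g : ι} {y : L} (hy : y ∈ 𝓛 g) (hy0 : y ≠ 0) :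
    ∃ (h : ι) (r : R), r ∈ 𝒜 h ∧ r • y ≠ 0 ∧ r • y ∈ LinearMap.range f := by
  classical
  have hT := isGrHomDeg_toSpanSingleton 𝓛 𝒜 hy
  have hP : (LinearMap.range (LinearMap.toSpanSingleton R L y)).IsHomogeneous 𝓛 :=
    range_isHomogeneous_deg 𝒜 𝓛 hT
  have hPne : LinearMap.range (LinearMap.toSpanSingleton R L y) ≠ ⊥ := by
    intro h
    apply hy0
    have : y ∈ LinearMap.range (LinearMap.toSpanSingleton R L y) := ⟨1, by simp⟩
    rw [h] at this
    exact (Submodule.mem_bot R).mp this
  have hmeet := hess _ hP hPne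
  obtain ⟨z, hz, hz0⟩ := Submodule.exists_mem_ne_zero_of_ne_bot hmeet
  obtain ⟨⟨s, rfl⟩, hzf⟩ := hz
  -- some homogeneous component of z = s • y is nonzero
  obtain ⟨k, hk⟩ : ∃ k, (decompose 𝓛 (LinearMap.toSpanSingleton R L y s) k : L) ≠ 0 := by
    by_contra hall
    push Not at hall
    apply hz0
    rw [← DirectSum.sum_support_decompose 𝓛 (LinearMap.toSpanSingleton R L y s)]
    exact Finset.sum_eq_zero (fun i _ => hall i)
  have hcomp := decompose_map_deg 𝒜 𝓛 hT s (k - g)
  rw [sub_add_cancel] at hcomp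
  refine ⟨k - g, (decompose 𝒜 s (k - g) : R), SetLike.coe_mem _, ?_, ?_⟩
  · have : (decompose 𝒜 s (k - g) : R) • y =
        LinearMap.toSpanSingleton R L y (decompose 𝒜 s (k - g) : R) := by simp
    rw [this, ← hcomp]; exact hk
  · have : (decompose 𝒜 s (k - g) : R) • y =
        LinearMap.toSpanSingleton R L y (decompose 𝒜 s (k - g) : R) := by simp
    rw [this, ← hcomp]
    exact hrange k hzf

/-- `r • x = 0` for homogeneous `r` iff `r` kills all components of `x`. -/
lemma smul_eq_zero_iff_of_mem {h : ι} {r : R} (hr : r ∈ 𝒜 h) (x : L) :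
    r • x = 0 ↔ ∀ g, r • (decompose 𝓛 x g : L) = 0 := by
  classical
  constructor
  · intro h0 g
    rw [← decompose_smul_of_mem 𝓛 𝒜 hr x g, h0, decompose_zero, DirectSum.zero_apply,
      ZeroMemClass.coe_zero]
  · intro hall
    conv_lhs => rw [← DirectSum.sum_support_decompose 𝓛 x]
    rw [Finset.smul_sum]
    exact Finset.sum_eq_zero (fun i _ => hall i)

open Classical in
lemma exists_smul_mem_range {f : M →ₗ[R] L}
    (hrange : (LinearMap.range f).IsHomogeneous 𝓛)
    (hess : ∀ P : Submodule R L, P.IsHomogeneous 𝓛 → P ≠ ⊥ → P ⊓ LinearMap.range f ≠ ⊥) :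
    ∀ (n : ℕ) (x : L), (decompose 𝓛 x).support.card = n → x ≠ 0 →
      ∃ (h : ι) (r : R), r ∈ 𝒜 h ∧ r • x ≠ 0 ∧ r • x ∈ LinearMap.range f := by
  intro n
  induction n using Nat.strong_induction_on with
  | _ n ih =>
    intro x hcard hx0
    -- pick a nonzero component
    obtain ⟨g, hg⟩ : ∃ g, (decompose 𝓛 x g : L) ≠ 0 := by
      by_contra hall
      push Not at hall
      apply hx0
      rw [← DirectSum.sum_support_decompose 𝓛 x]
      exact Finset.sum_eq_zero (fun i _ => hall i)
    set y : L := (decompose 𝓛 x g : L) with hy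
    have hyg : y ∈ 𝓛 g := SetLike.coe_mem _
    obtain ⟨h, r, hr, hry0, hryf⟩ := exists_smul_mem_range_of_homogeneous 𝒜 𝓛 hrange hess hyg hg
    set x₁ : L := x - y with hx₁
    -- components of x₁
    have hx₁comp : ∀ g', (decompose 𝓛 x₁ g' : L) = if g' = g then 0 else (decompose 𝓛 x g' : L) := by
      intro g'
      rw [hx₁, decompose_sub, DirectSum.sub_apply, AddSubgroupClass.coe_sub]
      by_cases e : g' = g
      · subst e
        rw [if_pos rfl, decompose_of_mem_same 𝓛 hyg, sub_self]
      · rw [if_neg e, decompose_of_mem_ne 𝓛 hyg (Ne.symm e), sub_zero]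
    have hsupp₁ : (decompose 𝓛 x₁).support ⊆ (decompose 𝓛 x).support.erase g := by
      intro g' hg'
      rw [DFinsupp.mem_support_iff] at hg'
      have h1 : (decompose 𝓛 x₁ g' : L) ≠ 0 := fun e => hg' (Subtype.ext e)
      rw [hx₁comp] at h1
      by_cases e : g' = g
      · rw [if_pos e] at h1; exact absurd rfl h1
      · rw [if_neg e] at h1
        rw [Finset.mem_erase, DFinsupp.mem_support_iff]
        exact ⟨e, fun e' => h1 (by rw [e']; rfl)⟩
    have hgsupp : g ∈ (decompose 𝓛 x).support := by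
      rw [DFinsupp.mem_support_iff]; exact fun e => hg (by rw [hy, e]; rfl)
    have hcard₁ : (decompose 𝓛 x₁).support.card < n := by
      calc (decompose 𝓛 x₁).support.card ≤ ((decompose 𝓛 x).support.erase g).card :=
            Finset.card_le_card hsupp₁
        _ < (decompose 𝓛 x).support.card := Finset.card_erase_lt_of_mem hgsupp
        _ = n := hcard
    set z : L := r • x₁ with hz
    have hrx : r • x = z + r • y := by rw [hz, hx₁, smul_sub, sub_add_cancel]
    by_cases hz0 : z = 0
    · refine ⟨h, r, hr, ?_, ?_⟩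
      · rw [hrx, hz0, zero_add]; exact hry0
      · rw [hrx, hz0, zero_add]; exact hryf
    · -- support of z is no bigger than that of x₁
      have hsuppz : (decompose 𝓛 z).support ⊆ (decompose 𝓛 x₁).support.image (fun g' => g' + h) := by
        intro k hk
        rw [DFinsupp.mem_support_iff] at hk
        have h1 : (decompose 𝓛 z k : L) ≠ 0 := fun e => hk (Subtype.ext e)
        have h2 := decompose_smul_of_mem 𝓛 𝒜 hr x₁ (k - h)
        rw [sub_add_cancel] at h2
        rw [Finset.mem_image]
        refine ⟨k - h, ?_, sub_add_cancel k h⟩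
        rw [DFinsupp.mem_support_iff]
        intro e
        apply h1
        rw [hz, h2, e]
        simp
      have hcardz : (decompose 𝓛 z).support.card < n :=
        lt_of_le_of_lt ((Finset.card_le_card hsuppz).trans Finset.card_image_le) hcard₁
      obtain ⟨h', r', hr', hr'z0, hr'zf⟩ := ih _ hcardz z rfl hz0
      refine ⟨h' + h, r' * r, ?_, ?_, ?_⟩
      · exact SetLike.mul_mem_graded hr' hr
      · intro h0
        have hall := (smul_eq_zero_iff_of_mem 𝒜 𝓛 (SetLike.mul_mem_graded hr' hr) x).mp h0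
        apply hr'z0
        rw [hz, smul_smul]
        rw [smul_eq_zero_iff_of_mem 𝒜 𝓛 (SetLike.mul_mem_graded hr' hr) x₁]
        intro g'
        rw [hx₁comp]
        split_ifs
        · rw [smul_zero]
        · exact hall g'
      · rw [mul_smul, hrx, smul_add]
        exact Submodule.add_mem _ hr'zf (Submodule.smul_mem _ _ hryf)

include 𝒜 in
/-- Version with the homogeneity of the range as a hypothesis (no grading structure needed on the source). -/
theorem isEssentialInj_of_essential {f : M →ₗ[R] L} (hinj : Function.Injective f)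
    (hrange : (LinearMap.range f).IsHomogeneous 𝓛)
    (hess : ∀ P : Submodule R L, P.IsHomogeneous 𝓛 → P ≠ ⊥ → P ⊓ LinearMap.range f ≠ ⊥) :
    InjHull.IsEssentialInj f := by
  refine ⟨hinj, fun P hP => ?_⟩
  obtain ⟨x, hxP, hx0⟩ := Submodule.exists_mem_ne_zero_of_ne_bot hP
  obtain ⟨h, r, -, hrx0, hrxf⟩ := exists_smul_mem_range 𝒜 𝓛 hrange hess _ x rfl hx0
  intro hbot
  apply hrx0
  have : r • x ∈ P ⊓ LinearMap.range f := ⟨P.smul_mem r hxP, hrxf⟩
  rw [hbot] at this
  exact (Submodule.mem_bot R).mp this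

include 𝒜 in
/-- A *essential homogeneous injection is an essential injection. -/
theorem isEssentialInj_of_isStarEss {f : M →ₗ[R] L} (hf : IsStarEss ℳ 𝓛 f) :
    InjHull.IsEssentialInj f :=
  isEssentialInj_of_essential 𝒜 𝓛 hf.injective (range_isHomogeneous ℳ 𝓛 hf.grHom) hf.essential

end Groth.Agent.Lib.Helper11.GrLCLib
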