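import Mathlib
import Groth.Prelude.Def_GrLC
import Groth.Agent.Lib.Helper11.GrLC
import Groth.Agent.Lib.Helper11.GrLCDecomp

/-!
# The coinduced graded module `Co 𝒜 N = ⨁_g N` (right adjoint of the forgetful functor) and
enough *injectives in the graded category
-/

set_option autoImplicit false
set_option linter.unusedSectionVars false
universe u

namespace Groth.Agent.Lib.Helper11.GrLCLib

open DirectSum GrLC

section Co

variable {ι : Type} [DecidableEq ι] [AddCommGroup ι]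
variable {R : Type u} [CommRing R] (𝒜 : ι → AddSubgroup R) [GradedRing 𝒜]
variable (N : Type u) [AddCommGroup N] [Module R N]

/-- The graded-module structure on the constant family `N`. -/
noncomputable instance gmoduleConst : DirectSum.Gmodule (fun i => 𝒜 i) (fun _ : ι => N) where
  smul a n := (a : R) • n
  one_smul b := Sigma.ext (zero_vadd _ _) (heq_of_eq (one_smul R b.2))
  mul_smul a a' b := Sigma.ext (add_vadd _ _ _) (heq_of_eq (mul_smul (a.2 : R) (a'.2 : R) b.2))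
  smul_add a b c := smul_add (a : R) b c
  smul_zero a := smul_zero (a : R)
  add_smul a a' b := add_smul (a : R) (a' : R) b
  zero_smul b := zero_smul R b

/-- The coinduced graded module: `⨁_g N` with `R` acting through the grading. -/
@[nolint unusedArguments]
def Co {ι : Type} {R : Type u} [CommRing R] (_𝒜 : ι → AddSubgroup R) (N : Type u) [AddCommGroup N] :
    Type u := ⨁ _ : ι, N

noncomputable instance : AddCommGroup (Co 𝒜 N) := inferInstanceAs (AddCommGroup (⨁ _ : ι, N))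

noncomputable instance : Module R (Co 𝒜 N) :=
  Module.compHom (⨁ _ : ι, N) (DirectSum.decomposeRingEquiv 𝒜 : R ≃+* ⨁ i, 𝒜 i).toRingHom

/-- The inclusion of the `g`-th copy. -/
noncomputable def Co.of (g : ι) : N →+ Co 𝒜 N := DirectSum.of (fun _ : ι => N) g

lemma Co.smul_def (r : R) (q : Co 𝒜 N) :
    r • q = (show ⨁ _ : ι, N from (decompose 𝒜 r : ⨁ i, 𝒜 i) • (show ⨁ _ : ι, N from q)) := rfl

lemma Co.smul_of {h : ι} {r : R} (hr : r ∈ 𝒜 h) (g : ι) (n : N) :
    r • Co.of 𝒜 N g n = Co.of 𝒜 N (h + g) (r • n) := by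
  rw [Co.smul_def, decompose_of_mem 𝒜 hr]
  exact DirectSum.Gmodule.of_smul_of (fun i => 𝒜 i) (fun _ : ι => N) ⟨r, hr⟩ n

/-- The pieces of the coinduced module. -/
noncomputable def Co.gr (g : ι) : AddSubgroup (Co 𝒜 N) := (Co.of 𝒜 N g).range

/-- Projection onto the `g`-th copy. -/
noncomputable def Co.proj (g : ι) : Co 𝒜 N →+ Co 𝒜 N :=
  (Co.of 𝒜 N g).comp (DFinsupp.evalAddMonoidHom g)

/-- Coordinate. -/
noncomputable def Co.coord (g : ι) : Co 𝒜 N →+ N := DFinsupp.evalAddMonoidHom g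

lemma Co.coord_of (g h : ι) (n : N) : Co.coord 𝒜 N g (Co.of 𝒜 N h n) = if h = g then n else 0 := by
  unfold Co.coord Co.of
  by_cases e : h = g
  · subst e; rw [if_pos rfl]; exact DirectSum.of_eq_same _ _
  · rw [if_neg e]; exact DirectSum.of_eq_of_ne _ _ _ (Ne.symm e)

lemma Co.ext {x y : Co 𝒜 N} (h : ∀ g, Co.coord 𝒜 N g x = Co.coord 𝒜 N g y) : x = y :=
  DFinsupp.ext h

lemma Co.induction {motive : Co 𝒜 N → Prop} (zero : motive 0)
    (of : ∀ g n, motive (Co.of 𝒜 N g n)) (add : ∀ x y, motive x → motive y → motive (x + y))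
    (x : Co 𝒜 N) : motive x :=
  DirectSum.induction_on (motive := motive) (show ⨁ _ : ι, N from x) zero of add

lemma Co.isInternal : DirectSum.IsInternal (Co.gr 𝒜 N) := by
  classical
  refine isInternal_of_proj (Co.gr 𝒜 N) (Co.proj 𝒜 N) ?_ ?_ ?_ ?_
  · intro g x; exact ⟨_, rfl⟩
  · rintro g _ ⟨n, rfl⟩
    change Co.of 𝒜 N g (Co.coord 𝒜 N g (Co.of 𝒜 N g n)) = _
    rw [Co.coord_of, if_pos rfl]
  · rintro g g' _ ⟨n, rfl⟩ hne
    change Co.of 𝒜 N g' (Co.coord 𝒜 N g' (Co.of 𝒜 N g n)) = _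
    rw [Co.coord_of, if_neg (Ne.symm hne), map_zero]
  · intro x
    refine ⟨DFinsupp.support (show ⨁ _ : ι, N from x), ?_⟩
    exact DirectSum.sum_support_of (show ⨁ _ : ι, N from x)

noncomputable instance Co.decomposition : DirectSum.Decomposition (Co.gr 𝒜 N) :=
  (Co.isInternal 𝒜 N).chooseDecomposition

instance Co.gradedSMul : SetLike.GradedSMul 𝒜 (Co.gr 𝒜 N) where
  smul_mem := by
    rintro h g r _ hr ⟨n, rfl⟩
    exact ⟨r • n, (Co.smul_of 𝒜 N hr g n).symm⟩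

/-- The coinduced module as a bundled graded module. -/
noncomputable abbrev Co.gmod : GMod.{u} 𝒜 :=
  { carrier := Co 𝒜 N, gr := Co.gr 𝒜 N }

/-- The counit `Co N → N`: sum of the coordinates. -/
noncomputable def Co.epsAdd : Co 𝒜 N →+ N := DirectSum.toAddMonoid (fun _ : ι => AddMonoidHom.id N)

lemma Co.epsAdd_of (g : ι) (n : N) : Co.epsAdd 𝒜 N (Co.of 𝒜 N g n) = n :=
  DirectSum.toAddMonoid_of (fun _ : ι => AddMonoidHom.id N) g n

lemma Co.epsAdd_smul (r : R) (q : Co 𝒜 N) : Co.epsAdd 𝒜 N (r • q) = r • Co.epsAdd 𝒜 N q := by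
  induction r using DirectSum.Decomposition.inductionOn 𝒜 with
  | zero => simp
  | @homogeneous h r =>
    induction q using Co.induction 𝒜 N with
    | zero => simp
    | of g n => rw [Co.smul_of 𝒜 N r.2, Co.epsAdd_of, Co.epsAdd_of]
    | add x y hx hy => rw [smul_add, map_add, map_add, hx, hy, smul_add]
  | add r s hr hs => rw [add_smul, map_add, hr, hs, add_smul]

/-- The counit as a linear map. -/
noncomputable def Co.eps : Co 𝒜 N →ₗ[R] N where
  toFun := Co.epsAdd 𝒜 N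
  map_add' := map_add _
  map_smul' := Co.epsAdd_smul 𝒜 N

lemma Co.eps_of (g : ι) (n : N) : Co.eps 𝒜 N (Co.of 𝒜 N g n) = n := Co.epsAdd_of 𝒜 N g n

variable {B : Type u} [AddCommGroup B] [Module R B] (ℬ : ι → AddSubgroup B) [DirectSum.Decomposition ℬ]
  [SetLike.GradedSMul 𝒜 ℬ]

/-- The adjoint of an `R`-linear map `B → N` from a graded module: `b ↦ Σ_g ψ(b_g) e_g`, additive version. -/
noncomputable def Co.adjAdd (ψ : B →ₗ[R] N) : B →+ Co 𝒜 N :=
  (DirectSum.toAddMonoid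
    (fun g => (Co.of 𝒜 N g).comp (ψ.toAddMonoidHom.comp (ℬ g).subtype))).comp
    (DirectSum.decomposeAddEquiv ℬ).toAddMonoidHom

lemma Co.adjAdd_of_mem (ψ : B →ₗ[R] N) {g : ι} {b : B} (hb : b ∈ ℬ g) :
    Co.adjAdd 𝒜 N ℬ ψ b = Co.of 𝒜 N g (ψ b) := by
  unfold Co.adjAdd
  simp only [AddMonoidHom.coe_comp, AddEquiv.coe_toAddMonoidHom, Function.comp_apply,
    DirectSum.decomposeAddEquiv_apply]
  rw [decompose_of_mem ℬ hb, DirectSum.toAddMonoid_of]
  rfl

lemma Co.adjAdd_smul (ψ : B →ₗ[R] N) (r : R) (b : B) :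
    Co.adjAdd 𝒜 N ℬ ψ (r • b) = r • Co.adjAdd 𝒜 N ℬ ψ b := by
  induction r using DirectSum.Decomposition.inductionOn 𝒜 with
  | zero => simp
  | @homogeneous h r =>
    induction b using DirectSum.Decomposition.inductionOn ℬ with
    | zero => simp
    | @homogeneous g b =>
      have hrb : (r : R) • (b : B) ∈ ℬ (h + g) := SetLike.GradedSMul.smul_mem r.2 b.2
      rw [Co.adjAdd_of_mem 𝒜 N ℬ ψ hrb, Co.adjAdd_of_mem 𝒜 N ℬ ψ b.2, Co.smul_of 𝒜 N r.2, map_smul]
    | add x y hx hy => rw [smul_add, map_add, map_add, hx, hy, smul_add]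
  | add r s hr hs => rw [add_smul, map_add, hr, hs, add_smul]

/-- The adjoint as a linear map. -/
noncomputable def Co.adj (ψ : B →ₗ[R] N) : B →ₗ[R] Co 𝒜 N where
  toFun := Co.adjAdd 𝒜 N ℬ ψ
  map_add' := map_add _
  map_smul' := Co.adjAdd_smul 𝒜 N ℬ ψ

lemma Co.adj_of_mem (ψ : B →ₗ[R] N) {g : ι} {b : B} (hb : b ∈ ℬ g) :
    Co.adj 𝒜 N ℬ ψ b = Co.of 𝒜 N g (ψ b) := Co.adjAdd_of_mem 𝒜 N ℬ ψ hb

lemma Co.adj_isGrHom (ψ : B →ₗ[R] N) : IsGrHom ℬ (Co.gr 𝒜 N) (Co.adj 𝒜 N ℬ ψ) := by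
  intro g b hb
  rw [Co.adj_of_mem 𝒜 N ℬ ψ hb]
  exact ⟨_, rfl⟩

lemma Co.eps_adj (ψ : B →ₗ[R] N) (b : B) : Co.eps 𝒜 N (Co.adj 𝒜 N ℬ ψ b) = ψ b := by
  induction b using DirectSum.Decomposition.inductionOn ℬ with
  | zero => simp
  | @homogeneous g b => rw [Co.adj_of_mem 𝒜 N ℬ ψ b.2, Co.eps_of]
  | add x y hx hy => rw [map_add, map_add, hx, hy, map_add]

/-- A homogeneous map into `Co N` is the adjoint of its composite with the counit. -/
lemma Co.eq_adj_of_isGrHom {φ : B →ₗ[R] Co 𝒜 N} (hφ : IsGrHom ℬ (Co.gr 𝒜 N) φ) :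
    φ = Co.adj 𝒜 N ℬ ((Co.eps 𝒜 N).comp φ) := by
  ext b
  induction b using DirectSum.Decomposition.inductionOn ℬ with
  | zero => simp
  | @homogeneous g b =>
    rw [Co.adj_of_mem 𝒜 N ℬ _ b.2]
    obtain ⟨n, hn⟩ := hφ g b b.2
    rw [LinearMap.comp_apply, ← hn, Co.eps_of]
  | add x y hx hy => rw [map_add, map_add, hx, hy]

/-- Coordinates of the adjoint. -/
lemma Co.coord_adj (ψ : B →ₗ[R] N) (b : B) (g : ι) :
    Co.coord 𝒜 N g (Co.adj 𝒜 N ℬ ψ b) = ψ (decompose ℬ b g : B) := by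
  induction b using DirectSum.Decomposition.inductionOn ℬ with
  | zero => simp
  | @homogeneous h b =>
    rw [Co.adj_of_mem 𝒜 N ℬ ψ b.2, Co.coord_of]
    by_cases e : h = g
    · subst e; rw [if_pos rfl, decompose_of_mem_same ℬ b.2]
    · rw [if_neg e, decompose_of_mem_ne ℬ b.2 e, map_zero]
  | add x y hx hy =>
    rw [map_add, map_add, hx, hy, decompose_add, DirectSum.add_apply, AddSubgroup.coe_add, map_add]

lemma Co.adj_injective {ψ : B →ₗ[R] N} (hψ : Function.Injective ψ) :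
    Function.Injective (Co.adj 𝒜 N ℬ ψ) := by
  classical
  rw [injective_iff_map_eq_zero]
  intro b hb
  rw [← DirectSum.sum_support_decompose ℬ b]
  refine Finset.sum_eq_zero (fun g _ => ?_)
  apply hψ
  rw [← Co.coord_adj 𝒜 N ℬ ψ b g, hb, map_zero, map_zero]

/-- `Co N` is *injective when `N` is an injective module. -/
theorem Co.isStarInj [Module.Injective R N] : IsStarInj 𝒜 (Co.gr 𝒜 N) := by
  intro A B' f hf hinj g hg
  obtain ⟨ψ, hψ⟩ := Module.Injective.out (R := R) (Q := N) f hinj ((Co.eps 𝒜 N).comp g)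
  refine ⟨Co.adj 𝒜 N B'.gr ψ, Co.adj_isGrHom 𝒜 N B'.gr ψ, ?_⟩
  have h1 : IsGrHom A.gr (Co.gr 𝒜 N) ((Co.adj 𝒜 N B'.gr ψ).comp f) :=
    isGrHom_comp A.gr B'.gr (Co.gr 𝒜 N) hf (Co.adj_isGrHom 𝒜 N B'.gr ψ)
  rw [Co.eq_adj_of_isGrHom 𝒜 N A.gr h1, Co.eq_adj_of_isGrHom 𝒜 N A.gr hg]
  congr 1
  ext a
  rw [LinearMap.comp_apply, LinearMap.comp_apply, Co.eps_adj, hψ, LinearMap.comp_apply]

end Co

section Enough

variable {ι : Type} [DecidableEq ι] [AddCommGroup ι]
variable {R : Type u} [CommRing R] (𝒜 : ι → AddSubgroup R) [GradedRing 𝒜]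
variable {M : Type u} [AddCommGroup M] [Module R M] (ℳ : ι → AddSubgroup M) [DirectSum.Decomposition ℳ]
  [SetLike.GradedSMul 𝒜 ℳ]

/-- Given an injective linear map into an injective module, the graded module embeds homogeneously into
the *injective `Co I`, compatibly with the counit. -/
theorem exists_embedding_Co (I : Type u) [AddCommGroup I] [Module R I] [Module.Injective R I]
    (e : M →ₗ[R] I) (he : Function.Injective e) :
    ∃ j : M →ₗ[R] Co 𝒜 I, IsGrHom ℳ (Co.gr 𝒜 I) j ∧ Function.Injective j ∧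
      (Co.eps 𝒜 I).comp j = e :=
  ⟨Co.adj 𝒜 I ℳ e, Co.adj_isGrHom 𝒜 I ℳ e, Co.adj_injective 𝒜 I ℳ he,
    LinearMap.ext (Co.eps_adj 𝒜 I ℳ e)⟩

/-- Every module embeds into an injective module (in the same universe). -/
theorem exists_injective_embedding (M : Type u) [AddCommGroup M] [Module R M] :
    ∃ (I : Type u) (_ : AddCommGroup I) (_ : Module R I) (_ : Module.Injective R I) (e : M →ₗ[R] I),
      Function.Injective e := by
  open CategoryTheory in
  obtain ⟨⟨J, hJ, f, hf⟩⟩ := (inferInstance : EnoughInjectives (ModuleCat.{u} R)).presentation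
    (ModuleCat.of R M)
  refine ⟨J, inferInstance, inferInstance, Module.injective_module_of_injective_object R J, f.hom, ?_⟩
  exact (ModuleCat.mono_iff_injective f).mp hf

/-- Enough *injectives. -/
theorem exists_starInj_embedding :
    ∃ (Q : GMod.{u} 𝒜) (j : M →ₗ[R] Q.carrier), IsGrHom ℳ Q.gr j ∧ Function.Injective j ∧
      IsStarInj 𝒜 Q.gr := by
  obtain ⟨I, _, _, _, e, he⟩ := exists_injective_embedding (R := R) M
  obtain ⟨j, hj, hinj, -⟩ := exists_embedding_Co 𝒜 ℳ I e he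
  exact ⟨Co.gmod 𝒜 I, j, hj, hinj, Co.isStarInj 𝒜 I⟩

end Enough

end Groth.Agent.Lib.Helper11.GrLCLib
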