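import Mathlib
import Groth.Prelude.Def_GrLC
import Groth.Agent.Lib.Helper11.GrLC
import Groth.Agent.Lib.Helper11.GrLCDecomp
import Groth.Agent.Lib.Helper11.GrLCSubQuot
import Groth.Agent.Lib.Helper11.GrLCCo

/-!
# *Injective hulls exist (graded Eckmann–Schopf)
-/

set_option autoImplicit false
set_option linter.unusedSectionVars false
universe u

namespace Groth.Agent.Lib.Helper11.GrLCLib

open DirectSum GrLC

section Homog

variable {ι : Type} [DecidableEq ι] [AddCommGroup ι]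
variable {R : Type u} [CommRing R]
variable {M : Type u} [AddCommGroup M] [Module R M] (ℳ : ι → AddSubgroup M) [DirectSum.Decomposition ℳ]
variable {N : Type u} [AddCommGroup N] [Module R N] (𝒩 : ι → AddSubgroup N) [DirectSum.Decomposition 𝒩]

lemma isHomogeneous_inf {P P' : Submodule R M} (hP : P.IsHomogeneous ℳ) (hP' : P'.IsHomogeneous ℳ) :
    (P ⊓ P').IsHomogeneous ℳ := fun g _ hx => ⟨hP g hx.1, hP' g hx.2⟩

lemma isHomogeneous_bot : (⊥ : Submodule R M).IsHomogeneous ℳ := by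
  intro g x hx
  rw [Submodule.mem_bot] at hx
  rw [hx, decompose_zero, DirectSum.zero_apply, ZeroMemClass.coe_zero]
  exact Submodule.zero_mem _

lemma isHomogeneous_sSup_of_chain {c : Set (Submodule R M)} (hc : IsChain (· ≤ ·) c)
    (hne : c.Nonempty) (h : ∀ P ∈ c, P.IsHomogeneous ℳ) : (sSup c).IsHomogeneous ℳ := by
  intro g x hx
  rw [Submodule.mem_sSup_of_directed hne hc.directedOn] at hx ⊢
  obtain ⟨P, hPc, hxP⟩ := hx
  exact ⟨P, hPc, h P hPc g hxP⟩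

lemma comap_isHomogeneous {f : M →ₗ[R] N} (hf : IsGrHom ℳ 𝒩 f) {P : Submodule R N}
    (hP : P.IsHomogeneous 𝒩) : (P.comap f).IsHomogeneous ℳ := by
  intro g x hx
  rw [Submodule.mem_comap] at hx ⊢
  rw [← decompose_map ℳ 𝒩 hf]
  exact hP g hx

lemma map_isHomogeneous {f : M →ₗ[R] N} (hf : IsGrHom ℳ 𝒩 f) {P : Submodule R M}
    (hP : P.IsHomogeneous ℳ) : (P.map f).IsHomogeneous 𝒩 := by
  rintro g _ ⟨x, hx, rfl⟩
  rw [decompose_map ℳ 𝒩 hf]
  exact ⟨_, hP g hx, rfl⟩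

/-- A homogeneous linear equivalence has a homogeneous inverse. -/
lemma isGrHom_symm (f : M ≃ₗ[R] N) (hf : IsGrHom ℳ 𝒩 f.toLinearMap) :
    IsGrHom 𝒩 ℳ f.symm.toLinearMap := by
  intro g y hy
  have h1 : (decompose ℳ (f.symm y) g : M) = f.symm y := by
    apply f.injective
    have := decompose_map ℳ 𝒩 hf (f.symm y) g
    rw [LinearEquiv.coe_coe] at this
    rw [← this, LinearEquiv.apply_symm_apply, decompose_of_mem_same 𝒩 hy]
  change f.symm y ∈ ℳ g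
  rw [← h1]
  exact SetLike.coe_mem _

/-- A nonzero homogeneous submodule contains a nonzero homogeneous element. -/
lemma exists_homogeneous_mem_ne_zero {P : Submodule R M} (hP : P.IsHomogeneous ℳ) (hne : P ≠ ⊥) :
    ∃ (g : ι) (x : M), x ∈ ℳ g ∧ x ∈ P ∧ x ≠ 0 := by
  classical
  obtain ⟨x, hx, hx0⟩ := Submodule.exists_mem_ne_zero_of_ne_bot hne
  obtain ⟨g, hg⟩ : ∃ g, (decompose ℳ x g : M) ≠ 0 := by
    by_contra hall
    push Not at hall
    apply hx0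
    rw [← DirectSum.sum_support_decompose ℳ x]
    exact Finset.sum_eq_zero (fun i _ => hall i)
  exact ⟨g, _, SetLike.coe_mem _, hP g hx, hg⟩

end Homog

section Hull

variable {ι : Type} [DecidableEq ι] [AddCommGroup ι]
variable {R : Type u} [CommRing R] (𝒜 : ι → AddSubgroup R) [GradedRing 𝒜]
variable {Q : Type u} [AddCommGroup Q] [Module R Q] (𝒬 : ι → AddSubgroup Q) [DirectSum.Decomposition 𝒬]
  [SetLike.GradedSMul 𝒜 𝒬]

/-- A maximal homogeneous complement. -/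
lemma exists_maximal_complement (E : Submodule R Q) :
    ∃ C : Submodule R Q, C.IsHomogeneous 𝒬 ∧ C ⊓ E = ⊥ ∧
      ∀ C' : Submodule R Q, C'.IsHomogeneous 𝒬 → C ≤ C' → C' ⊓ E = ⊥ → C' ≤ C := by
  obtain ⟨C, hC⟩ := zorn_le₀ {C : Submodule R Q | C.IsHomogeneous 𝒬 ∧ C ⊓ E = ⊥} (by
    intro c hcS hc
    rcases c.eq_empty_or_nonempty with rfl | hne
    · exact ⟨⊥, ⟨isHomogeneous_bot 𝒬, bot_inf_eq _⟩, by simp⟩
    · refine ⟨sSup c, ⟨isHomogeneous_sSup_of_chain 𝒬 hc hne (fun P hP => (hcS hP).1), ?_⟩,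
        fun z hz => le_sSup hz⟩
      rw [eq_bot_iff]
      rintro x ⟨hx1, hx2⟩
      rw [SetLike.mem_coe, Submodule.mem_sSup_of_directed hne hc.directedOn] at hx1
      obtain ⟨P, hPc, hxP⟩ := hx1
      rw [← (hcS hPc).2]
      exact ⟨hxP, hx2⟩)
  exact ⟨C, hC.1.1, hC.1.2, fun C' h1 h2 h3 => hC.2 ⟨h1, h3⟩ h2⟩

/-- With `C` a maximal homogeneous complement of the homogeneous `E`, the image of `E` in `Q/C` meets every
nonzero homogeneous submodule. -/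
lemma essential_of_maximal_complement (E : Submodule R Q) (hE : E.IsHomogeneous 𝒬)
    (C : Submodule R Q) (hC : C.IsHomogeneous 𝒬) (hCE : C ⊓ E = ⊥)
    (hmax : ∀ C' : Submodule R Q, C'.IsHomogeneous 𝒬 → C ≤ C' → C' ⊓ E = ⊥ → C' ≤ C)
    [DirectSum.Decomposition (quotGrM 𝒬 C)]
    (N' : Submodule R (Q ⧸ C)) (hN' : N'.IsHomogeneous (quotGrM 𝒬 C)) (hne : N' ≠ ⊥) :
    N' ⊓ E.map C.mkQ ≠ ⊥ := by
  have hN := comap_mkQ_isHomogeneous 𝒬 C N' hN'
  have hCN : C ≤ N'.comap C.mkQ := by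
    intro x hx
    rw [Submodule.mem_comap, Submodule.mkQ_apply, (Submodule.Quotient.mk_eq_zero C).mpr hx]
    exact Submodule.zero_mem _
  have hnot : ¬ (N'.comap C.mkQ ⊓ E = ⊥) := by
    intro h
    have hle := hmax _ hN hCN h
    apply hne
    rw [eq_bot_iff]
    intro y hy
    obtain ⟨x, rfl⟩ := C.mkQ_surjective y
    have : x ∈ C := hle hy
    rw [Submodule.mem_bot, Submodule.mkQ_apply, (Submodule.Quotient.mk_eq_zero C).mpr this]
  obtain ⟨x, ⟨hxN, hxE⟩, hx0⟩ := Submodule.exists_mem_ne_zero_of_ne_bot hnot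
  intro hbot
  have hmem : C.mkQ x ∈ N' ⊓ E.map C.mkQ := ⟨hxN, ⟨x, hxE, rfl⟩⟩
  rw [hbot, Submodule.mem_bot, Submodule.mkQ_apply, Submodule.Quotient.mk_eq_zero] at hmem
  have : x ∈ C ⊓ E := ⟨hmem, hxE⟩
  rw [hCE, Submodule.mem_bot] at this
  exact hx0 this

variable {M : Type u} [AddCommGroup M] [Module R M] (ℳ : ι → AddSubgroup M) [DirectSum.Decomposition ℳ]
  [SetLike.GradedSMul 𝒜 ℳ]

/-- A homogeneous retract of a *injective is *injective. -/
lemma isStarInj_of_retract (hQ : IsStarInj 𝒜 𝒬) (j : M →ₗ[R] Q) (hj : IsGrHom ℳ 𝒬 j)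
    (ρ : Q →ₗ[R] M) (hρ : IsGrHom 𝒬 ℳ ρ) (hρj : ρ ∘ₗ j = LinearMap.id) : IsStarInj 𝒜 ℳ := by
  intro A B f hf hinj g hg
  obtain ⟨h, hh, hhf⟩ := hQ A B f hf hinj (j ∘ₗ g) (isGrHom_comp A.gr ℳ 𝒬 hg hj)
  refine ⟨ρ ∘ₗ h, isGrHom_comp B.gr 𝒬 ℳ hh hρ, ?_⟩
  rw [LinearMap.comp_assoc, hhf, ← LinearMap.comp_assoc, hρj, LinearMap.id_comp]

/-- If `M` embeds in a *injective `Q` and has no proper *essential extension, then `M` is *injective. -/
lemma isStarInj_of_forall_isStarEss_surjective_aux (hQ : IsStarInj 𝒜 𝒬) (j : M →ₗ[R] Q)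
    (hj : IsGrHom ℳ 𝒬 j) (hinj : Function.Injective j)
    (H : ∀ (N : GMod.{u} 𝒜) (f : M →ₗ[R] N.carrier), IsStarEss ℳ N.gr f → Function.Surjective f) :
    IsStarInj 𝒜 ℳ := by
  have hE := range_isHomogeneous ℳ 𝒬 hj
  obtain ⟨C, hC, hCE, hmax⟩ := exists_maximal_complement 𝒬 (LinearMap.range j)
  letI := quotDecomposition 𝒬 C hC
  set f : M →ₗ[R] (Q ⧸ C) := C.mkQ ∘ₗ j with hf
  have hfinj : Function.Injective f := by
    rw [injective_iff_map_eq_zero]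
    intro x hx
    rw [hf, LinearMap.comp_apply, Submodule.mkQ_apply, Submodule.Quotient.mk_eq_zero] at hx
    have : j x ∈ C ⊓ LinearMap.range j := ⟨hx, ⟨x, rfl⟩⟩
    rw [hCE, Submodule.mem_bot] at this
    exact hinj (this.trans (map_zero j).symm)
  have hfgr : IsGrHom ℳ (quotGrM 𝒬 C) f := isGrHom_comp ℳ 𝒬 (quotGrM 𝒬 C) hj (mkQ_isGrHom 𝒬 C)
  have hfess : IsStarEss ℳ (quotGMod 𝒜 𝒬 C hC).gr f := by
    refine ⟨hfinj, hfgr, fun N' hN' hne => ?_⟩
    have := essential_of_maximal_complement 𝒬 (LinearMap.range j) hE C hC hCE hmax N' hN' hne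
    rwa [← LinearMap.range_comp] at this
  have hsurj := H (quotGMod 𝒜 𝒬 C hC) f hfess
  let F : M ≃ₗ[R] (Q ⧸ C) := LinearEquiv.ofBijective f ⟨hfinj, hsurj⟩
  have hFsymm : IsGrHom (quotGrM 𝒬 C) ℳ F.symm.toLinearMap := isGrHom_symm ℳ (quotGrM 𝒬 C) F hfgr
  refine isStarInj_of_retract 𝒜 𝒬 ℳ hQ j hj (F.symm.toLinearMap ∘ₗ C.mkQ)
    (isGrHom_comp 𝒬 (quotGrM 𝒬 C) ℳ (mkQ_isGrHom 𝒬 C) hFsymm) ?_
  ext x
  simp only [LinearMap.comp_apply, LinearEquiv.coe_coe, LinearMap.id_apply]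
  have : C.mkQ (j x) = F x := rfl
  rw [this, LinearEquiv.symm_apply_apply]

/-- Graded modules without proper *essential extensions are *injective. -/
theorem isStarInj_of_forall_isStarEss_surjective
    (H : ∀ (N : GMod.{u} 𝒜) (f : M →ₗ[R] N.carrier), IsStarEss ℳ N.gr f → Function.Surjective f) :
    IsStarInj 𝒜 ℳ := by
  obtain ⟨Q, j, hj, hinj, hQ⟩ := exists_starInj_embedding 𝒜 ℳ
  exact isStarInj_of_forall_isStarEss_surjective_aux 𝒜 Q.gr ℳ hQ j hj hinj H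

/-- *injective iff no proper *essential extension. -/
theorem isStarInj_iff_forall_isStarEss_surjective :
    IsStarInj 𝒜 ℳ ↔
      ∀ (N : GMod.{u} 𝒜) (f : M →ₗ[R] N.carrier), IsStarEss ℳ N.gr f → Function.Surjective f :=
  ⟨fun h N _ hf => surjective_of_isStarEss_of_isStarInj ℳ N.gr 𝒜 h hf,
    isStarInj_of_forall_isStarEss_surjective 𝒜 ℳ⟩

end Hull

end Groth.Agent.Lib.Helper11.GrLCLib
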