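import Mathlib
import Groth.Prelude.Def_GrLC
import Groth.Prelude.Def_Wider
import Groth.Agent.Lib.Helper11.GrLC
import Groth.Agent.Lib.Helper11.GrLCDecomp
import Groth.Agent.Lib.Helper11.GrLCSubQuot
import Groth.Agent.Lib.Helper11.GrLCCo
import Groth.Agent.Lib.Helper11.GrLCHull
import Groth.Agent.Lib.Helper11.GrLCEss

/-!
# Existence of *injective hulls inside a given *injective
-/

set_option autoImplicit false
set_option linter.unusedSectionVars false
universe u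

namespace Groth.Agent.Lib.Helper11.GrLCLib

open DirectSum GrLC

variable {ι : Type} [DecidableEq ι] [AddCommGroup ι]
variable {R : Type u} [CommRing R] (𝒜 : ι → AddSubgroup R) [GradedRing 𝒜]
variable {Q : Type u} [AddCommGroup Q] [Module R Q] (𝒬 : ι → AddSubgroup Q) [DirectSum.Decomposition 𝒬]
  [SetLike.GradedSMul 𝒜 𝒬]
variable {M : Type u} [AddCommGroup M] [Module R M] (ℳ : ι → AddSubgroup M) [DirectSum.Decomposition ℳ]
  [SetLike.GradedSMul 𝒜 ℳ]

/-- The set of homogeneous submodules of `Q` that are *essential over `F`. -/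
def essSet (F : Submodule R Q) : Set (Submodule R Q) :=
  {P | P.IsHomogeneous 𝒬 ∧ F ≤ P ∧
    ∀ N : Submodule R Q, N.IsHomogeneous 𝒬 → N ≤ P → N ≠ ⊥ → N ⊓ F ≠ ⊥}

include 𝒜 in
lemma exists_maximal_essSet (F : Submodule R Q) (hF : F.IsHomogeneous 𝒬) :
    ∃ E, F ≤ E ∧ Maximal (· ∈ essSet 𝒬 F) E := by
  refine zorn_le_nonempty₀ (essSet 𝒬 F) ?_ F ⟨hF, le_rfl, fun N _ hNF hne => ?_⟩
  · intro c hcS hc y hy
    have hne : c.Nonempty := ⟨y, hy⟩
    refine ⟨sSup c, ⟨isHomogeneous_sSup_of_chain 𝒬 hc hne (fun P hP => (hcS hP).1),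
      (hcS hy).2.1.trans (le_sSup hy), ?_⟩, fun z hz => le_sSup hz⟩
    intro N hN hNle hNne
    obtain ⟨g, x, hxg, hxN, hx0⟩ := exists_homogeneous_mem_ne_zero 𝒬 hN hNne
    have hxS := hNle hxN
    rw [Submodule.mem_sSup_of_directed hne hc.directedOn] at hxS
    obtain ⟨P, hPc, hxP⟩ := hxS
    -- the cyclic submodule on x
    set N₁ := LinearMap.range (LinearMap.toSpanSingleton R Q x) with hN₁
    have hN₁h : N₁.IsHomogeneous 𝒬 :=
      range_isHomogeneous_deg 𝒜 𝒬 (isGrHomDeg_toSpanSingleton 𝒬 𝒜 hxg)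
    have hxN₁ : x ∈ N₁ := ⟨1, by simp⟩
    have hN₁ne : N₁ ≠ ⊥ := fun h => hx0 (by rw [h] at hxN₁; exact (Submodule.mem_bot R).mp hxN₁)
    have hN₁P : N₁ ≤ P := by
      rintro _ ⟨r, rfl⟩
      simpa using P.smul_mem r hxP
    have hN₁N : N₁ ≤ N := by
      rintro _ ⟨r, rfl⟩
      simpa using N.smul_mem r hxN
    have := (hcS hPc).2.2 N₁ hN₁h hN₁P hN₁ne
    intro hbot
    apply this
    rw [eq_bot_iff, ← hbot]
    exact inf_le_inf_right _ hN₁N
  · rwa [inf_eq_left.mpr hNF]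

/-- Existence of a *injective hull inside a given *injective. -/
theorem exists_isStarInjHull_sub (hQ : IsStarInj 𝒜 𝒬) (j : M →ₗ[R] Q) (hj : IsGrHom ℳ 𝒬 j)
    (hinj : Function.Injective j) :
    ∃ (X : GMod.{u} 𝒜) (f : M →ₗ[R] X.carrier), IsStarInjHull 𝒜 ℳ X.gr f ∧
      ∃ i : X.carrier →ₗ[R] Q, Function.Injective i ∧ IsGrHom X.gr 𝒬 i ∧ i ∘ₗ f = j := by
  have hF := range_isHomogeneous ℳ 𝒬 hj
  obtain ⟨E, hFE, hEmax⟩ := exists_maximal_essSet 𝒜 𝒬 (LinearMap.range j) hF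
  obtain ⟨hEh, -, hEess⟩ := hEmax.1
  letI := subDecomposition 𝒬 E hEh
  -- E has no proper *essential extension
  have hEinj : IsStarInj 𝒜 (subGr 𝒬 E) := by
    refine isStarInj_of_forall_isStarEss_surjective_aux 𝒜 𝒬 (subGr 𝒬 E) hQ E.subtype
      (subtype_isGrHom 𝒬 E) E.injective_subtype ?_
    intro N f hf
    obtain ⟨φ, hφ, hφf⟩ := hQ (subGMod 𝒜 𝒬 E hEh) N f hf.grHom hf.injective E.subtype
      (subtype_isGrHom 𝒬 E)
    have hφf' : ∀ e : E, φ (f e) = e := fun e => LinearMap.congr_fun hφf e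
    have hφinj : Function.Injective φ := by
      rw [← LinearMap.ker_eq_bot]
      by_contra hne
      apply hf.essential _ (ker_isHomogeneous N.gr 𝒬 hφ) hne
      rw [eq_bot_iff]
      rintro _ ⟨hx, ⟨e, rfl⟩⟩
      rw [SetLike.mem_coe, LinearMap.mem_ker, hφf'] at hx
      have : e = 0 := Subtype.ext hx
      rw [this, map_zero]; exact Submodule.zero_mem _
    have hE' : LinearMap.range φ ∈ essSet 𝒬 (LinearMap.range j) := by
      have hEle : E ≤ LinearMap.range φ := fun e he => ⟨f ⟨e, he⟩, hφf' ⟨e, he⟩⟩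
      refine ⟨range_isHomogeneous N.gr 𝒬 hφ, hFE.trans hEle, ?_⟩
      intro N₀ hN₀ hN₀le hN₀ne
      have hcm := comap_isHomogeneous N.gr 𝒬 hφ hN₀
      have hcmne : N₀.comap φ ≠ ⊥ := by
        obtain ⟨y, hy, hy0⟩ := Submodule.exists_mem_ne_zero_of_ne_bot hN₀ne
        obtain ⟨n, rfl⟩ := hN₀le hy
        intro h
        have : n ∈ N₀.comap φ := hy
        rw [h, Submodule.mem_bot] at this
        exact hy0 (by rw [this, map_zero])
      obtain ⟨y, ⟨hy1, ⟨e, rfl⟩⟩, hy0⟩ :=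
        Submodule.exists_mem_ne_zero_of_ne_bot (hf.essential _ hcm hcmne)
      rw [SetLike.mem_coe, Submodule.mem_comap, hφf'] at hy1
      have he0 : (e : Q) ≠ 0 := by
        intro h
        apply hy0
        have : e = 0 := Subtype.ext h
        rw [this, map_zero]
      have hN₁ne : N₀ ⊓ E ≠ ⊥ := by
        intro h
        have : (e : Q) ∈ N₀ ⊓ E := ⟨hy1, e.2⟩
        rw [h, Submodule.mem_bot] at this
        exact he0 this
      have := hEess (N₀ ⊓ E) (isHomogeneous_inf 𝒬 hN₀ hEh) inf_le_right hN₁ne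
      intro hbot
      apply this
      rw [eq_bot_iff, ← hbot]
      exact inf_le_inf_right _ inf_le_left
    have hEle : E ≤ LinearMap.range φ := fun e he => ⟨f ⟨e, he⟩, hφf' ⟨e, he⟩⟩
    have hle : LinearMap.range φ ≤ E := hEmax.2 hE' hEle
    intro n
    have : φ n ∈ E := hle ⟨n, rfl⟩
    refine ⟨⟨φ n, this⟩, ?_⟩
    apply hφinj
    rw [hφf']
  -- the hull
  let f : M →ₗ[R] E := LinearMap.codRestrict E j (fun m => hFE ⟨m, rfl⟩)
  have hfgr : IsGrHom ℳ (subGr 𝒬 E) f := fun g m hm => hj g m hm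
  have hfinj : Function.Injective f := fun a b hab => hinj (congrArg Subtype.val hab)
  refine ⟨subGMod 𝒜 𝒬 E hEh, f, ⟨⟨hfinj, hfgr, ?_⟩, hEinj⟩, E.subtype, E.injective_subtype,
    subtype_isGrHom 𝒬 E, rfl⟩
  intro P hP hPne
  have hmap := map_isHomogeneous (subGr 𝒬 E) 𝒬 (subtype_isGrHom 𝒬 E) hP
  have hmapne : P.map E.subtype ≠ ⊥ := by
    intro h
    apply hPne
    rw [eq_bot_iff]
    intro p hp
    have : E.subtype p ∈ P.map E.subtype := ⟨p, hp, rfl⟩
    rw [h, Submodule.mem_bot] at this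
    rw [Submodule.mem_bot]
    exact Subtype.ext this
  have hmaple : P.map E.subtype ≤ E := by
    rintro _ ⟨p, -, rfl⟩; exact p.2
  obtain ⟨y, ⟨⟨p, hp, rfl⟩, ⟨m, hm⟩⟩, hy0⟩ :=
    Submodule.exists_mem_ne_zero_of_ne_bot (hEess _ hmap hmaple hmapne)
  intro hbot
  have hpf : f m = p := Subtype.ext hm
  have : p ∈ P ⊓ LinearMap.range f := ⟨hp, ⟨m, hpf⟩⟩
  rw [hbot, Submodule.mem_bot] at this
  apply hy0
  rw [this]; rfl

/-- Existence of *injective hulls. -/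
theorem exists_isStarInjHull :
    ∃ (X : GMod.{u} 𝒜) (f : M →ₗ[R] X.carrier), IsStarInjHull 𝒜 ℳ X.gr f := by
  obtain ⟨Q, j, hj, hinj, hQ⟩ := exists_starInj_embedding 𝒜 ℳ
  obtain ⟨X, f, hf, -⟩ := exists_isStarInjHull_sub 𝒜 Q.gr ℳ hQ j hj hinj
  exact ⟨X, f, hf⟩

/-- A *injective hull inside any injective module containing `M`. -/
theorem exists_isStarInjHull_sub_injective (I : Type u) [AddCommGroup I] [Module R I]
    [Module.Injective R I] (e : M →ₗ[R] I) (he : Function.Injective e) :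
    ∃ (X : GMod.{u} 𝒜) (f : M →ₗ[R] X.carrier), IsStarInjHull 𝒜 ℳ X.gr f ∧
      ∃ j : X.carrier →ₗ[R] I, Function.Injective j ∧ j ∘ₗ f = e := by
  obtain ⟨j₀, hj₀, hj₀inj, hεj⟩ := exists_embedding_Co 𝒜 ℳ I e he
  obtain ⟨X, f, hf, i, -, -, hif⟩ :=
    exists_isStarInjHull_sub 𝒜 (Co.gr 𝒜 I) ℳ (Co.isStarInj 𝒜 I) j₀ hj₀ hj₀inj
  refine ⟨X, f, hf, (Co.eps 𝒜 I) ∘ₗ i, ?_, ?_⟩
  · have hess := isEssentialInj_of_isStarEss 𝒜 ℳ X.gr hf.toIsStarEss
    rw [← LinearMap.ker_eq_bot]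
    by_contra hne
    apply hess.essential _ hne
    rw [eq_bot_iff]
    rintro _ ⟨hx, ⟨m, rfl⟩⟩
    rw [SetLike.mem_coe, LinearMap.mem_ker, LinearMap.comp_apply] at hx
    have h1 : i (f m) = j₀ m := LinearMap.congr_fun hif m
    have h2 : e m = 0 := by rw [← hεj, LinearMap.comp_apply, ← h1]; exact hx
    have : m = 0 := he (by rw [h2, map_zero])
    rw [this, map_zero]; exact Submodule.zero_mem _
  · rw [LinearMap.comp_assoc, hif, hεj]

end Groth.Agent.Lib.Helper11.GrLCLib
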