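import Mathlib
import Groth.Prelude.Def_GrLC
import Groth.Agent.Lib.Helper11.GrLC
import Groth.Agent.Lib.Helper11.GrLCEss
import Groth.Agent.Lib.Helper11.GrLCDecomp
import Groth.Agent.Lib.Helper11.GrLCSubQuot
import Groth.Agent.Lib.Helper11.GrLCHull2
import Groth.Agent.Lib.Helper11.GrLCCmp

/-!
# Minimal *injective resolutions and torsion modules

* `EnvSys`: a choice of *injective embeddings; `EnvSys.res` the resolution it generates;
  `EnvSys.res_prop`: a property stable under the embeddings and cokernels holds for all terms.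
* `hullSys`: the system of *injective hulls; `minRes`.
* `gam_eq_top_of_essential`: over a Noetherian ring an essential extension of an `a`-torsion module is
  `a`-torsion.
* `H_subsingleton_of_gam_eq_top`: for an `a`-torsion graded module, `*H^q_a(M) = 0` for `q ≥ 1`
  computed from ANY *injective resolution.
-/

set_option autoImplicit false
set_option linter.unusedSectionVars false
universe u

namespace Groth.Agent.Lib.Helper11.GrLCLib

open DirectSum GrLC

variable {ι : Type} [DecidableEq ι] [AddCommGroup ι]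
variable {R : Type u} [CommRing R] (𝒜 : ι → AddSubgroup R) [GradedRing 𝒜]

/-- A system of *injective embeddings. -/
structure EnvSys where
  Q : GMod.{u} 𝒜 → GMod.{u} 𝒜
  J : ∀ C : GMod.{u} 𝒜, C.carrier →ₗ[R] (Q C).carrier
  J_grHom : ∀ C, IsGrHom C.gr (Q C).gr (J C)
  J_inj : ∀ C, Function.Injective (J C)
  Q_starInj : ∀ C, IsStarInj 𝒜 (Q C).gr

namespace EnvSys

variable {𝒜} (S : EnvSys 𝒜)

/-- The next cosyzygy. -/
noncomputable def nextCosyz (C : GMod.{u} 𝒜) : GMod.{u} 𝒜 :=
  quotGMod 𝒜 (S.Q C).gr (LinearMap.range (S.J C))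
    (range_isHomogeneous C.gr (S.Q C).gr (S.J_grHom C))

/-- The projection onto the next cosyzygy. -/
noncomputable def nextProj (C : GMod.{u} 𝒜) : (S.Q C).carrier →ₗ[R] (S.nextCosyz C).carrier :=
  (LinearMap.range (S.J C)).mkQ

lemma nextProj_isGrHom (C : GMod.{u} 𝒜) :
    IsGrHom (S.Q C).gr (S.nextCosyz C).gr (S.nextProj C) :=
  mkQ_isGrHom (S.Q C).gr _

lemma nextProj_surjective (C : GMod.{u} 𝒜) : Function.Surjective (S.nextProj C) :=
  Submodule.mkQ_surjective _

lemma ker_nextProj (C : GMod.{u} 𝒜) : LinearMap.ker (S.nextProj C) = LinearMap.range (S.J C) :=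
  Submodule.ker_mkQ _

/-- One step of the resolution. -/
noncomputable def stepD (C : GMod.{u} 𝒜) :
    (S.Q C).carrier →ₗ[R] (S.Q (S.nextCosyz C)).carrier :=
  (S.J (S.nextCosyz C)) ∘ₗ (S.nextProj C)

lemma stepD_isGrHom (C : GMod.{u} 𝒜) :
    IsGrHom (S.Q C).gr (S.Q (S.nextCosyz C)).gr (S.stepD C) :=
  isGrHom_comp _ _ _ (S.nextProj_isGrHom C) (S.J_grHom _)

lemma ker_stepD (C : GMod.{u} 𝒜) :
    LinearMap.ker (S.stepD C) = LinearMap.range (S.J C) := by
  unfold stepD
  rw [LinearMap.ker_comp, LinearMap.ker_eq_bot.mpr (S.J_inj _)]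
  exact S.ker_nextProj _

lemma range_stepD (C : GMod.{u} 𝒜) :
    LinearMap.range (S.stepD C) = LinearMap.range (S.J (S.nextCosyz C)) := by
  unfold stepD
  rw [LinearMap.range_comp, LinearMap.range_eq_top.mpr (S.nextProj_surjective _), Submodule.map_top]

/-- The cosyzygies. -/
noncomputable def cosyz (M0 : GMod.{u} 𝒜) : ℕ → GMod.{u} 𝒜
  | 0 => M0
  | n + 1 => S.nextCosyz (cosyz M0 n)

variable {M : Type u} [AddCommGroup M] [Module R M] (ℳ : ι → AddSubgroup M) [DirectSum.Decomposition ℳ]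
  [SetLike.GradedSMul 𝒜 ℳ]

/-- The *injective resolution generated by the system. -/
noncomputable def res : StarInjRes 𝒜 ℳ where
  X n := S.Q (S.cosyz (GMod.of 𝒜 M ℳ) n)
  d n := S.stepD (S.cosyz (GMod.of 𝒜 M ℳ) n)
  ε := S.J (GMod.of 𝒜 M ℳ)
  d_grHom n := S.stepD_isGrHom _
  ε_grHom := S.J_grHom (GMod.of 𝒜 M ℳ)
  ε_injective := S.J_inj (GMod.of 𝒜 M ℳ)
  exact_zero := S.ker_stepD (GMod.of 𝒜 M ℳ)
  exact_succ n := (S.ker_stepD (S.cosyz (GMod.of 𝒜 M ℳ) (n + 1))).trans
    (S.range_stepD (S.cosyz (GMod.of 𝒜 M ℳ) n)).symm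
  starInj n := S.Q_starInj _

/-- A property of graded modules stable under `Q` and under passing to the cokernel of `J` holds for
all terms of the resolution. -/
theorem res_prop (P : GMod.{u} 𝒜 → Prop) (hQ : ∀ C, P C → P (S.Q C))
    (hquot : ∀ C, P (S.Q C) → P (S.nextCosyz C)) (h0 : P (GMod.of 𝒜 M ℳ)) (n : ℕ) :
    P ((S.res ℳ).X n) := by
  have : ∀ n, P (S.cosyz (GMod.of 𝒜 M ℳ) n) := by
    intro n
    induction n with
    | zero => exact h0
    | succ n ih => exact hquot _ (hQ _ ih)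
  exact hQ _ (this n)

end EnvSys

/-- The system of *injective hulls. -/
noncomputable def hullSys : EnvSys 𝒜 where
  Q C := (exists_isStarInjHull 𝒜 C.gr).choose
  J C := (exists_isStarInjHull 𝒜 C.gr).choose_spec.choose
  J_grHom C := (exists_isStarInjHull 𝒜 C.gr).choose_spec.choose_spec.grHom
  J_inj C := (exists_isStarInjHull 𝒜 C.gr).choose_spec.choose_spec.injective
  Q_starInj C := (exists_isStarInjHull 𝒜 C.gr).choose_spec.choose_spec.starInj

lemma hullSys_isStarInjHull (C : GMod.{u} 𝒜) :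
    IsStarInjHull 𝒜 C.gr ((hullSys 𝒜).Q C).gr ((hullSys 𝒜).J C) :=
  (exists_isStarInjHull 𝒜 C.gr).choose_spec.choose_spec

section Torsion

variable {M : Type u} [AddCommGroup M] [Module R M] {E : Type u} [AddCommGroup E] [Module R E]

omit [DecidableEq ι] [AddCommGroup ι] in
/-- a finitely generated module all of whose elements are `a`-torsion is killed by a power of `a`. -/
lemma exists_pow_smul_eq_bot_of_fg (a : Ideal R) (N : Submodule R E) (hfg : N.FG)
    (htors : ∀ y ∈ N, y ∈ gam a E) : ∃ t : ℕ, ∀ r ∈ a ^ t, ∀ y ∈ N, r • y = 0 := by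
  obtain ⟨S, rfl⟩ := hfg
  have hS : ∀ y ∈ S, ∃ t : ℕ, ∀ r ∈ a ^ t, r • y = 0 := fun y hy => htors y (Submodule.subset_span hy)
  choose! t ht using hS
  refine ⟨S.sup t, fun r hr y hy => ?_⟩
  induction hy using Submodule.span_induction with
  | mem y hy =>
    exact ht y hy r (Ideal.pow_le_pow_right (Finset.le_sup hy) hr)
  | zero => exact smul_zero r
  | add x y _ _ hx hy => rw [smul_add, hx, hy, add_zero]
  | smul c x _ hx => rw [smul_comm, hx, smul_zero]

omit [DecidableEq ι] [AddCommGroup ι] in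
/-- Over a Noetherian ring, an essential extension of an `a`-torsion module is `a`-torsion. -/
theorem gam_eq_top_of_essential [IsNoetherianRing R] (a : Ideal R) {f : M →ₗ[R] E}
    (hess : InjHull.IsEssentialInj f) (hM : gam a M = ⊤) : gam a E = ⊤ := by
  rw [eq_top_iff]
  intro x _
  set M' := Submodule.span R {x} with hM'
  let N₀ : Submodule R M' := (LinearMap.range f).comap M'.subtype
  obtain ⟨k, hk⟩ := Ideal.exists_pow_inf_eq_pow_smul a N₀
  have hfg : N₀.FG := IsNoetherian.noetherian N₀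
  have htors : ∀ y ∈ N₀, y ∈ gam a M' := by
    rintro y ⟨m, hm⟩
    have hm' : m ∈ gam a M := hM ▸ Submodule.mem_top
    obtain ⟨n, hn⟩ := hm'
    refine ⟨n, fun r hr => ?_⟩
    apply Subtype.ext
    rw [Submodule.coe_smul, Submodule.coe_zero]
    have : (y : E) = f m := hm.symm
    rw [this, ← map_smul, hn r hr, map_zero]
  obtain ⟨t, ht⟩ := exists_pow_smul_eq_bot_of_fg a N₀ hfg htors
  have h1 := hk (k + t) (Nat.le_add_right k t)
  rw [Nat.add_sub_cancel_left] at h1
  have h2 : a ^ t • (a ^ k • (⊤ : Submodule R M') ⊓ N₀) = ⊥ := by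
    rw [eq_bot_iff, Submodule.smul_le]
    rintro r hr y ⟨-, hy⟩
    rw [Submodule.mem_bot]
    exact ht r hr y hy
  rw [h2] at h1
  set P : Submodule R E := (a ^ (k + t) • (⊤ : Submodule R M')).map M'.subtype with hP
  have hPbot : P = ⊥ := by
    by_contra hne
    apply hess.essential P hne
    rw [eq_bot_iff]
    rintro y ⟨⟨y', hy', rfl⟩, hye⟩
    have : y' ∈ a ^ (k + t) • (⊤ : Submodule R M') ⊓ N₀ := ⟨hy', hye⟩
    rw [h1, Submodule.mem_bot] at this
    rw [this, map_zero]; exact Submodule.zero_mem _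
  refine ⟨k + t, fun r hr => ?_⟩
  have hx : x ∈ M' := Submodule.mem_span_singleton_self x
  have : r • (⟨x, hx⟩ : M') ∈ a ^ (k + t) • (⊤ : Submodule R M') :=
    Submodule.smul_mem_smul hr Submodule.mem_top
  have h3 : M'.subtype (r • (⟨x, hx⟩ : M')) ∈ P := ⟨_, this, rfl⟩
  rw [hPbot, Submodule.mem_bot] at h3
  simpa using h3

omit [DecidableEq ι] [AddCommGroup ι] in
lemma gam_eq_top_of_surjective (a : Ideal R) {f : M →ₗ[R] E} (hf : Function.Surjective f)
    (hM : gam a M = ⊤) : gam a E = ⊤ := by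
  rw [eq_top_iff]
  intro y _
  obtain ⟨x, rfl⟩ := hf y
  exact map_mem_gam f a (hM ▸ Submodule.mem_top)

end Torsion

section Vanish

variable {M : Type u} [AddCommGroup M] [Module R M] (ℳ : ι → AddSubgroup M) [DirectSum.Decomposition ℳ]
  [SetLike.GradedSMul 𝒜 ℳ]

/-- All terms of the minimal resolution of an `a`-torsion module are `a`-torsion. -/
theorem minRes_gam_eq_top [IsNoetherianRing R] (a : Ideal R) (hM : gam a M = ⊤) (n : ℕ) :
    gam a (((hullSys 𝒜).res ℳ).X n).carrier = ⊤ := by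
  refine (hullSys 𝒜).res_prop ℳ (fun C => gam a C.carrier = ⊤) ?_ ?_ hM n
  · intro C hC
    have h := hullSys_isStarInjHull 𝒜 C
    exact gam_eq_top_of_essential a (isEssentialInj_of_isStarEss 𝒜 C.gr _ h.toIsStarEss) hC
  · intro C hC
    exact gam_eq_top_of_surjective a ((hullSys 𝒜).nextProj_surjective C) hC

/-- If all terms of a resolution are `a`-torsion, its `Γ_a`-cohomology vanishes in positive degrees. -/
theorem H_subsingleton_of_terms_torsion (E : StarInjRes 𝒜 ℳ) (a : HomogeneousIdeal 𝒜)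
    (hE : ∀ n, gam a.toIdeal (E.X n).carrier = ⊤) (q : ℕ) : Subsingleton (E.H a (q + 1)) := by
  refine ⟨fun x y => ?_⟩
  have key : ∀ x : E.H a (q + 1), x = 0 := by
    intro x
    obtain ⟨z, rfl⟩ := Submodule.mkQ_surjective _ x
    rw [Submodule.mkQ_apply, Submodule.Quotient.mk_eq_zero, Submodule.mem_comap]
    have hz : (z : (E.X (q + 1)).carrier) ∈ LinearMap.ker (E.d (q + 1)) := z.2.2
    rw [E.exact_succ] at hz
    obtain ⟨w, hw⟩ := hz
    exact ⟨w, hE q ▸ Submodule.mem_top, hw⟩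
  rw [key x, key y]

/-- For an `a`-torsion graded module over a Noetherian ring, `*H^q_a(M) = 0` for `q ≥ 1`, computed
from any *injective resolution. -/
theorem H_subsingleton_of_gam_eq_top [IsNoetherianRing R] (a : HomogeneousIdeal 𝒜)
    (hM : gam a.toIdeal M = ⊤) (E : StarInjRes 𝒜 ℳ) (q : ℕ) (hq : 1 ≤ q) :
    Subsingleton (E.H a q) := by
  obtain ⟨q, rfl⟩ := Nat.exists_eq_add_of_le' hq
  obtain ⟨e, -, -⟩ := exists_H_equiv E ((hullSys 𝒜).res ℳ) a (q + 1)
  haveI := H_subsingleton_of_terms_torsion 𝒜 ℳ ((hullSys 𝒜).res ℳ) a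
    (minRes_gam_eq_top 𝒜 ℳ a.toIdeal hM) q
  exact e.toEquiv.subsingleton

end Vanish

end Groth.Agent.Lib.Helper11.GrLCLib
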