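import Groth.Agent.Lib.Helper11.GrGorA
import Groth.Agent.Lib.Helper11.GrBassC
import Groth.Agent.Lib.Helper11.GrLCMin

set_option autoImplicit false
set_option linter.unusedSectionVars false
universe u
open CategoryTheory CategoryTheory.Abelian

namespace Groth.Agent.Lib.Helper11.GrGor

open DirectSum GrLC Groth.Agent.Lib.Helper11.GrLCLib Groth.Agent.Lib.Helper11.GrCore
  Groth.Agent.Lib.Helper11.GrBass

section Ess

variable {R : Type u} [CommRing R] [IsNoetherianRing R]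

/-- An essential extension has the same zeroth Bass numbers. -/
theorem bassNum_zero_eq_of_ess (p : Ideal R) [hp : p.IsPrime] {Z X : Type u} [AddCommGroup Z]
    [Module R Z] [AddCommGroup X] [Module R X] (e : Z →ₗ[R] X) (hinj : Function.Injective e)
    (hess : ∀ w : X, w ≠ 0 → ∃ r : R, r • w ≠ 0 ∧ r • w ∈ LinearMap.range e) :
    GrLC.bassNum p Z 0 = GrLC.bassNum p X 0 := by
  classical
  let F := ModuleCat.localizedModuleFunctor.{u} p.primeCompl
  rw [bassNum_eq_length_locExt, bassNum_eq_length_locExt]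
  have hmono : Mono (ModuleCat.ofHom e) := (ModuleCat.mono_iff_injective _).2 hinj
  have hmono' : Mono (F.map (ModuleCat.ofHom e)) := inferInstance
  let ψ : Ext.{u} (F.obj (ModuleCat.of R (R ⧸ p))) (F.obj (ModuleCat.of R Z)) 0 →ₗ[Localization.AtPrime p]
      Ext.{u} (F.obj (ModuleCat.of R (R ⧸ p))) (F.obj (ModuleCat.of R X)) 0 :=
    (Ext.mk₀ (F.map (ModuleCat.ofHom e))).postcompOfLinear (Localization.AtPrime p)
      (F.obj (ModuleCat.of R (R ⧸ p))) (add_zero 0)
  have hψ : Function.Bijective ψ := by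
    constructor
    · exact Ext.postcomp_mk₀_injective_of_mono _ (F.map (ModuleCat.ofHom e))
    · intro x₂
      exact exists_lift_locExt_zero p e hinj (socle_of_ess p hess hp.one_notMem) x₂
  exact (LinearEquiv.ofBijective ψ hψ).length_eq

end Ess

section Res

variable {ι : Type} [DecidableEq ι] [AddCommGroup ι]
variable {R : Type u} [CommRing R] [IsNoetherianRing R] {𝒜 : ι → AddSubgroup R} [GradedRing 𝒜]
variable {M : Type u} [AddCommGroup M] [Module R M] {ℳ : ι → AddSubgroup M}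
  [DirectSum.Decomposition ℳ] [SetLike.GradedSMul 𝒜 ℳ]

/-- In a minimal *injective resolution, `μ^0(p, X^i) = μ^i(p, M)` for homogeneous primes `p`. -/
theorem bassNum_term_zero (E : StarInjRes 𝒜 ℳ)
    (hmin0 : ∀ P : Submodule R (E.X 0).carrier, P.IsHomogeneous (E.X 0).gr → P ≠ ⊥ →
      P ⊓ LinearMap.range E.ε ≠ ⊥)
    (hmin : ∀ (n : ℕ) (P : Submodule R (E.X (n + 1)).carrier), P.IsHomogeneous (E.X (n + 1)).gr →
      P ≠ ⊥ → P ⊓ LinearMap.range (E.d n) ≠ ⊥)
    (p : HomogeneousIdeal 𝒜) [hp : p.toIdeal.IsPrime] (i : ℕ) :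
    GrLC.bassNum p.toIdeal (E.X i).carrier 0 = GrLC.bassNum p.toIdeal M i := by
  rcases i with _ | j
  · exact (bassNum_zero_eq_of_ess p.toIdeal E.ε E.ε_injective (ess_zero E hmin0)).symm
  · have h1 := bassNum_zero_eq_of_ess p.toIdeal (LinearMap.ker (E.d (j + 1))).subtype
      (Submodule.injective_subtype _) (by
        intro w hw
        obtain ⟨r, hr0, hr⟩ := ess_succ E hmin j w hw
        refine ⟨r, hr0, ?_⟩
        rw [Submodule.range_subtype, E.exact_succ j]
        exact hr)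
    rw [← h1, bassNum_ker_d E hmin0 hmin p j 0]
    congr 1
    omega

variable (𝒜 ℳ) in
/-- The minimal *injective resolution. -/
noncomputable def minRes : StarInjRes 𝒜 ℳ := (hullSys 𝒜).res ℳ

theorem minRes_hmin0 (P : Submodule R ((minRes 𝒜 ℳ).X 0).carrier)
    (hP : P.IsHomogeneous ((minRes 𝒜 ℳ).X 0).gr) (hP0 : P ≠ ⊥) :
    P ⊓ LinearMap.range (minRes 𝒜 ℳ).ε ≠ ⊥ :=
  (hullSys_isStarInjHull 𝒜 (GMod.of 𝒜 M ℳ)).essential P hP hP0

theorem minRes_hmin (n : ℕ) (P : Submodule R ((minRes 𝒜 ℳ).X (n + 1)).carrier)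
    (hP : P.IsHomogeneous ((minRes 𝒜 ℳ).X (n + 1)).gr) (hP0 : P ≠ ⊥) :
    P ⊓ LinearMap.range ((minRes 𝒜 ℳ).d n) ≠ ⊥ := by
  have h := (hullSys_isStarInjHull 𝒜 ((hullSys 𝒜).cosyz (GMod.of 𝒜 M ℳ) (n + 1))).essential P hP hP0
  have hr : LinearMap.range ((minRes 𝒜 ℳ).d n) =
      LinearMap.range ((hullSys 𝒜).J ((hullSys 𝒜).cosyz (GMod.of 𝒜 M ℳ) (n + 1))) :=
    (hullSys 𝒜).range_stepD _
  rw [hr]
  exact h

end Res

end Groth.Agent.Lib.Helper11.GrGor
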