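import Groth.Agent.Lib.Helper11.GrLesF
import Groth.Agent.Lib.Helper11.GrGorB

set_option autoImplicit false
set_option linter.unusedSectionVars false
set_option linter.style.haveILetI false
universe u

namespace Groth.Agent.Lib.Helper11.GrLes

open DirectSum GrLC Groth.Agent.Lib.Helper11.GrLCLib
open scoped Pointwise

section Iso

variable {ι : Type} [DecidableEq ι] [AddCommGroup ι]
variable {R : Type u} [CommRing R] {𝒜 : ι → AddSubgroup R} [GradedRing 𝒜]
variable {M : Type u} [AddCommGroup M] [Module R M] {ℳ : ι → AddSubgroup M}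
  [DirectSum.Decomposition ℳ] [SetLike.GradedSMul 𝒜 ℳ]
variable {N : Type u} [AddCommGroup N] [Module R N] {𝒩 : ι → AddSubgroup N}
  [DirectSum.Decomposition 𝒩] [SetLike.GradedSMul 𝒜 𝒩]

/-- the inverse of a bijective homogeneous map is homogeneous. -/
lemma isGrHom_symm (e : M ≃ₗ[R] N) (he : IsGrHom ℳ 𝒩 e.toLinearMap) :
    IsGrHom 𝒩 ℳ e.symm.toLinearMap := by
  intro g y hy
  have h1 := decompose_map ℳ 𝒩 he (e.symm y) g
  have h2 : e.toLinearMap (e.symm y) = y := e.apply_symm_apply y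
  rw [h2, decompose_of_mem_same 𝒩 hy] at h1
  have h3 : e.symm y = (decompose ℳ (e.symm y) g : M) := by
    apply e.injective
    rw [e.apply_symm_apply]
    exact h1
  change e.symm y ∈ ℳ g
  rw [h3]
  exact SetLike.coe_mem _

/-- A homogeneous isomorphism of graded modules induces homogeneous isomorphisms on `*H`. -/
theorem exists_H_equiv_of_iso (E : StarInjRes 𝒜 ℳ) (F : StarInjRes 𝒜 𝒩) (e : M ≃ₗ[R] N)
    (he : IsGrHom ℳ 𝒩 e.toLinearMap) (a : HomogeneousIdeal 𝒜) (q : ℕ) :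
    ∃ φ : E.H a q ≃ₗ[R] F.H a q, (∀ g x, x ∈ E.Hcomp a q g → φ x ∈ F.Hcomp a q g) ∧
      (∀ g y, y ∈ F.Hcomp a q g → φ.symm y ∈ E.Hcomp a q g) := by
  have he' := isGrHom_symm e he
  obtain ⟨c, hc, hl⟩ := exists_cmap E F e.toLinearMap 0 ((isGrHomDeg_zero_iff ℳ 𝒩).mpr he)
  obtain ⟨c', hc', hl'⟩ := exists_cmap F E e.symm.toLinearMap 0 ((isGrHomDeg_zero_iff 𝒩 ℳ).mpr he')
  have h1 : CMap.Homotopic (c'.comp c) (CMap.id E) := by
    refine homotopic_of_lifts _ _ LinearMap.id 0 ?_ (CMap.id_isDeg E) ?_ (CMap.id_lifts E)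
    · have := CMap.comp_isDeg hc' hc
      rwa [add_zero] at this
    · have := CMap.comp_lifts hl' hl
      have e0 : e.symm.toLinearMap ∘ₗ e.toLinearMap = LinearMap.id := by
        apply LinearMap.ext; intro x; exact e.symm_apply_apply x
      rwa [e0] at this
  have h2 : CMap.Homotopic (c.comp c') (CMap.id F) := by
    refine homotopic_of_lifts _ _ LinearMap.id 0 ?_ (CMap.id_isDeg F) ?_ (CMap.id_lifts F)
    · have := CMap.comp_isDeg hc hc'
      rwa [add_zero] at this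
    · have := CMap.comp_lifts hl hl'
      have e0 : e.toLinearMap ∘ₗ e.symm.toLinearMap = LinearMap.id := by
        apply LinearMap.ext; intro x; exact e.apply_symm_apply x
      rwa [e0] at this
  have e1 : c'.Hmap a q ∘ₗ c.Hmap a q = LinearMap.id := by
    rw [← CMap.Hmap_comp, CMap.Hmap_eq_of_homotopic a h1, CMap.Hmap_id]
  have e2 : c.Hmap a q ∘ₗ c'.Hmap a q = LinearMap.id := by
    rw [← CMap.Hmap_comp, CMap.Hmap_eq_of_homotopic a h2, CMap.Hmap_id]
  refine ⟨LinearEquiv.ofLinearMap (c.Hmap a q) (c'.Hmap a q) e2 e1, ?_, ?_⟩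
  · intro g x hx
    have := c.Hmap_mem_Hcomp a hc q hx
    rwa [add_zero] at this
  · intro g y hy
    have := c'.Hmap_mem_Hcomp a hc' q hy
    rwa [add_zero] at this

end Iso

section Int

variable {R : Type u} [CommRing R] [IsNoetherianRing R] {𝒜 : ℤ → AddSubgroup R} [GradedRing 𝒜]

lemma endDeg_congr {A B : Type u} [AddCommGroup A] [AddCommGroup B] (𝒳 : ℤ → AddSubgroup A)
    (𝒴 : ℤ → AddSubgroup B) (h : ∀ g, 𝒳 g ≠ ⊥ ↔ 𝒴 g ≠ ⊥) : endDeg 𝒳 = endDeg 𝒴 := by
  apply le_antisymm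
  · exact endDeg_le _ fun n hn => le_endDeg _ ((h n).1 hn)
  · exact endDeg_le _ fun n hn => le_endDeg _ ((h n).2 hn)

/-- Quotient by a weakly regular sequence of homogeneous elements of non-negative degrees in `a`:
vanishing of the low `*H` and the shift of the end degree. -/
theorem endDeg_regSeq (a : HomogeneousIdeal 𝒜) (rs : List R) (ks : List ℤ)
    (hrk : List.Forall₂ (fun r k => r ∈ 𝒜 k ∧ 0 ≤ k ∧ r ∈ a.toIdeal) rs ks) :
    ∀ (M : Type u) [AddCommGroup M] [Module R M] (ℳ : ℤ → AddSubgroup M)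
      [DirectSum.Decomposition ℳ] [SetLike.GradedSMul 𝒜 ℳ]
      (N : Type u) [AddCommGroup N] [Module R N] (𝒩 : ℤ → AddSubgroup N)
      [DirectSum.Decomposition 𝒩] [SetLike.GradedSMul 𝒜 𝒩]
      (π : M →ₗ[R] N) (_ : IsGrHom ℳ 𝒩 π) (_ : Function.Surjective π)
      (_ : LinearMap.ker π = Ideal.ofList rs • (⊤ : Submodule R M))
      (_ : RingTheory.Sequence.IsWeaklyRegular M rs)
      (E : StarInjRes 𝒜 ℳ) (F : StarInjRes 𝒜 𝒩) (n : ℕ) (_ : rs.length ≤ n)
      (_ : ∀ i, i < n → Subsingleton (E.H a i)),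
      (∀ i, i < n - rs.length → Subsingleton (F.H a i)) ∧
        endDeg (F.Hgr a (n - rs.length)) = endDeg (E.Hgr a n) + cc ks.sum := by
  induction hrk with
  | nil =>
    intro M _ _ ℳ _ _ N _ _ 𝒩 _ _ π hπ hπs hπk hreg E F n hn hvan
    have hker : LinearMap.ker π = ⊥ := by
      rw [hπk, Ideal.ofList_nil, Submodule.bot_smul]
    let e : M ≃ₗ[R] N := LinearEquiv.ofBijective π ⟨LinearMap.ker_eq_bot.1 hker, hπs⟩
    have he : IsGrHom ℳ 𝒩 e.toLinearMap := hπ
    simp only [List.length_nil, Nat.sub_zero, List.sum_nil]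
    refine ⟨fun i hi => ?_, ?_⟩
    · obtain ⟨φ, -, -⟩ := exists_H_equiv_of_iso E F e he a i
      have := hvan i hi
      exact φ.symm.injective.subsingleton
    · obtain ⟨φ, h1, h2⟩ := exists_H_equiv_of_iso E F e he a n
      have hc : cc 0 = (0 : WithBot (WithTop ℤ)) := rfl
      rw [hc, add_zero]
      apply endDeg_congr
      intro g
      rw [AddSubgroup.ne_bot_iff_exists_ne_zero, AddSubgroup.ne_bot_iff_exists_ne_zero]
      constructor
      · rintro ⟨⟨z, hz⟩, hz0⟩
        refine ⟨⟨φ.symm z, h2 g z hz⟩, ?_⟩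
        intro h0
        apply hz0
        apply Subtype.ext
        have : φ.symm z = 0 := congrArg Subtype.val h0
        exact φ.symm.map_eq_zero_iff.1 this
      · rintro ⟨⟨z, hz⟩, hz0⟩
        refine ⟨⟨φ z, h1 g z hz⟩, ?_⟩
        intro h0
        apply hz0
        apply Subtype.ext
        have : φ z = 0 := congrArg Subtype.val h0
        exact φ.map_eq_zero_iff.1 this
  | @cons r k rs' ks' hr _ ih =>
    intro M _ _ ℳ _ _ N _ _ 𝒩 _ _ π hπ hπs hπk hreg E F n hn hvan
    obtain ⟨hrk, hk0, hra⟩ := hr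
    rw [RingTheory.Sequence.isWeaklyRegular_cons_iff] at hreg
    obtain ⟨hreg1, hreg2⟩ := hreg
    have hPeq : (r • (⊤ : Submodule R M)) = LinearMap.range (LinearMap.lsmul R M r) := by
      ext y
      rw [Submodule.mem_smul_pointwise_iff_exists, LinearMap.mem_range]
      constructor
      · rintro ⟨z, -, rfl⟩
        exact ⟨z, rfl⟩
      · rintro ⟨z, rfl⟩
        exact ⟨z, Submodule.mem_top, rfl⟩
    have hP : (r • (⊤ : Submodule R M)).IsHomogeneous ℳ := by
      rw [hPeq]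
      exact range_isHomogeneous_deg ℳ ℳ (isGrHomDeg_lsmul ℳ 𝒜 hrk)
    letI : DirectSum.Decomposition (quotGrM ℳ (r • (⊤ : Submodule R M))) :=
      quotDecomposition ℳ _ hP
    obtain ⟨n', rfl⟩ : ∃ n', n = n' + 1 := by
      simp only [List.length_cons] at hn
      exact ⟨n - 1, by omega⟩
    let E₁ : StarInjRes 𝒜 (quotGrM ℳ (r • (⊤ : Submodule R M))) :=
      Groth.Agent.Lib.Helper11.GrGor.minRes 𝒜 (quotGrM ℳ (r • (⊤ : Submodule R M)))
    have hs := step E E₁ hrk hk0 hreg1 (r • (⊤ : Submodule R M)).mkQ (mkQ_isGrHom ℳ _)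
      (Submodule.mkQ_surjective _) (by rw [Submodule.ker_mkQ, hPeq]) a hra n' hvan
    have hle : r • (⊤ : Submodule R M) ≤ LinearMap.ker π := by
      rw [hπk, Ideal.ofList_cons_smul]
      exact le_sup_left
    let π₁ : QuotSMulTop r M →ₗ[R] N := (r • (⊤ : Submodule R M)).liftQ π hle
    have hπ₁ : IsGrHom (quotGrM ℳ (r • (⊤ : Submodule R M))) 𝒩 π₁ := by
      rintro g _ ⟨x, hx, rfl⟩
      exact hπ g x hx
    have hπ₁s : Function.Surjective π₁ := by
      intro y
      obtain ⟨x, rfl⟩ := hπs y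
      exact ⟨Submodule.Quotient.mk x, rfl⟩
    have hπ₁k : LinearMap.ker π₁ = Ideal.ofList rs' • (⊤ : Submodule R (QuotSMulTop r M)) := by
      change LinearMap.ker ((r • (⊤ : Submodule R M)).liftQ π hle) = _
      rw [Submodule.ker_liftQ, hπk, Ideal.ofList_cons_smul, Submodule.map_sup,
        Submodule.map_smul'', Submodule.map_top, Submodule.range_mkQ]
      rw [Submodule.mkQ_map_self, bot_sup_eq]
    have hih := ih (QuotSMulTop r M) (quotGrM ℳ (r • (⊤ : Submodule R M))) N 𝒩 π₁ hπ₁ hπ₁s hπ₁k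
      hreg2 E₁ F n' (by simp only [List.length_cons] at hn; omega) hs.1
    have e1 : n' + 1 - (r :: rs').length = n' - rs'.length := by
      simp only [List.length_cons]; omega
    rw [e1]
    refine ⟨hih.1, ?_⟩
    rw [hih.2, hs.2, List.sum_cons, cc_add, add_assoc]

end Int

end Groth.Agent.Lib.Helper11.GrLes
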