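import Groth.Agent.Lib.Helper11.GrCanB
import Groth.Agent.Lib.Helper11.GrLesG

/-!
# The *canonical module of a positively graded Gorenstein *local ring is `R(a)`
-/

set_option autoImplicit false
set_option linter.unusedSectionVars false
set_option linter.style.haveILetI false
set_option linter.unusedVariables false
universe u

namespace Groth.Agent.Lib.Helper11.GrCan

open DirectSum GrLC Groth.Agent.Lib.Helper11.GrLCLib Groth.Agent.Lib.Helper11.GrLes

section Top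

variable {A : Type u} [AddCommGroup A]

/-- `n` is the top non-vanishing degree. -/
def IsTopDeg (𝒳 : ℤ → AddSubgroup A) (n : ℤ) : Prop := 𝒳 n ≠ ⊥ ∧ ∀ j, n < j → 𝒳 j = ⊥

lemma endDeg_eq_of_isTopDeg {𝒳 : ℤ → AddSubgroup A} {n : ℤ} (h : IsTopDeg 𝒳 n) :
    endDeg 𝒳 = cc n := by
  apply le_antisymm
  · apply endDeg_le
    intro j hj
    apply cc_le
    by_contra hlt
    exact hj (h.2 j (by omega))
  · exact le_endDeg 𝒳 h.1

lemma cc_le_cc_iff {a b : ℤ} : cc a ≤ cc b ↔ a ≤ b := by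
  unfold cc
  rw [WithBot.coe_le_coe, WithTop.coe_le_coe]

lemma isTopDeg_of_endDeg_eq {𝒳 : ℤ → AddSubgroup A} {n : ℤ} (h : endDeg 𝒳 = cc n) :
    IsTopDeg 𝒳 n := by
  have h2 : ∀ j, n < j → 𝒳 j = ⊥ := by
    intro j hj
    by_contra hne
    have := le_endDeg 𝒳 hne
    rw [h, cc_le_cc_iff] at this
    omega
  refine ⟨?_, h2⟩
  intro hbot
  have hle : endDeg 𝒳 ≤ cc (n - 1) := by
    apply endDeg_le
    intro j hj
    apply cc_le
    by_contra hlt
    have hjn : n ≤ j := by omega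
    rcases eq_or_lt_of_le hjn with h' | h'
    · subst h'; exact hj hbot
    · exact hj (h2 j h')
  rw [h, cc_le_cc_iff] at hle
  omega

end Top


section H0

variable {R : Type u} [CommRing R] (𝒜 : ℤ → AddSubgroup R) [GradedRing 𝒜]
variable {N : Type u} [AddCommGroup N] [Module R N] (𝒩 : ℤ → AddSubgroup N)
  [DirectSum.Decomposition 𝒩] [SetLike.GradedSMul 𝒜 𝒩]

/-- the residue module `R/m` of a positively graded ring is concentrated in degree `0`. -/
lemma comp_eq_bot_of_ne_zero (hpos : ∀ n : ℤ, n < 0 → 𝒜 n = ⊥) {m : HomogeneousIdeal 𝒜}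
    (hm : IsCoatom m) (π : R →ₗ[R] N) (hπ : IsGrHom 𝒜 𝒩 π) (hπs : Function.Surjective π)
    (hπk : LinearMap.ker π = m.toIdeal) {g : ℤ} (hg : g ≠ 0) : 𝒩 g = ⊥ := by
  rw [eq_bot_iff]
  intro y hy
  rw [AddSubgroup.mem_bot]
  obtain ⟨r, rfl⟩ := hπs y
  have h1 := decompose_map 𝒜 𝒩 hπ r g
  rw [decompose_of_mem_same 𝒩 hy] at h1
  rw [h1]
  rcases lt_or_gt_of_ne hg with h | h
  · rw [eq_zero_of_neg_deg 𝒜 hpos h (SetLike.coe_mem (decompose 𝒜 r g)), map_zero]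
  · have : (decompose 𝒜 r g : R) ∈ LinearMap.ker π := by
      rw [hπk]
      exact mem_of_pos_deg 𝒜 hpos hm h (SetLike.coe_mem _)
    exact this

/-- `H^0_m(R/m)` is concentrated in degree `0` and nonzero there. -/
theorem isTopDeg_H0 (hpos : ∀ n : ℤ, n < 0 → 𝒜 n = ⊥) {m : HomogeneousIdeal 𝒜}
    (hm : IsCoatom m) (π : R →ₗ[R] N) (hπ : IsGrHom 𝒜 𝒩 π) (hπs : Function.Surjective π)
    (hπk : LinearMap.ker π = m.toIdeal) (F : StarInjRes 𝒜 𝒩) : IsTopDeg (F.Hgr m 0) 0 := by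
  constructor
  · -- the class of `ε (π 1)`
    have hz1 : F.ε (π 1) ∈ F.cocyc m 0 := by
      refine ⟨⟨1, fun r hr => ?_⟩, ?_⟩
      · rw [pow_one] at hr
        rw [← map_smul, ← map_smul, smul_eq_mul, mul_one]
        have : r ∈ LinearMap.ker π := by rw [hπk]; exact hr
        rw [LinearMap.mem_ker.1 this, map_zero]
      · rw [F.exact_zero]
        exact ⟨_, rfl⟩
    rw [AddSubgroup.ne_bot_iff_exists_ne_zero]
    refine ⟨⟨F.toH m 0 ⟨F.ε (π 1), hz1⟩, ⟨⟨F.ε (π 1), hz1⟩, ?_, rfl⟩⟩, ?_⟩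
    · exact F.ε_grHom 0 _ (hπ 0 1 SetLike.GradedOne.one_mem)
    · intro h0
      have h1 : F.toH m 0 ⟨F.ε (π 1), hz1⟩ = 0 := congrArg Subtype.val h0
      rw [Submodule.mkQ_apply, Submodule.Quotient.mk_eq_zero, Submodule.mem_comap] at h1
      have h2 : F.ε (π 1) = 0 := h1
      have h3 : π 1 = 0 := F.ε_injective (by rw [h2, map_zero])
      have h4 : (1 : R) ∈ m.toIdeal := by rw [← hπk]; exact h3
      apply hm.1
      apply HomogeneousIdeal.toIdeal_injective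
      exact (Ideal.eq_top_iff_one _).2 h4
  · intro j hj
    rw [eq_bot_iff]
    rintro x ⟨z, hz, rfl⟩
    rw [AddSubgroup.mem_bot]
    have hzk : (z : (F.X 0).carrier) ∈ LinearMap.ker (F.d 0) := z.2.2
    rw [F.exact_zero] at hzk
    obtain ⟨y, hy⟩ := hzk
    obtain ⟨y', hy', hy'z⟩ := exists_homogeneous_preimage (R := R) 𝒩 (F.X 0).gr
      (DirectSum.Decomposition.isInternal 𝒩) (DirectSum.Decomposition.isInternal (F.X 0).gr) F.ε 0
      ((isGrHomDeg_zero_iff 𝒩 (F.X 0).gr).mpr F.ε_grHom) j (z : (F.X 0).carrier)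
      (by rw [add_zero]; exact hz) y hy
    have hbot := comp_eq_bot_of_ne_zero 𝒜 𝒩 hpos hm π hπ hπs hπk (g := j) (by omega)
    rw [hbot, AddSubgroup.mem_bot] at hy'
    rw [hy', map_zero] at hy'z
    have : z = 0 := Subtype.ext hy'z.symm
    rw [this, map_zero]

end H0


section Hull

variable {R : Type u} [CommRing R] (𝒜 : ℤ → AddSubgroup R) [GradedRing 𝒜]
variable {E' : Type u} [AddCommGroup E'] [Module R E'] (𝓔 : ℤ → AddSubgroup E')
  [DirectSum.Decomposition 𝓔] [SetLike.GradedSMul 𝒜 𝓔]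
variable {m : HomogeneousIdeal 𝒜} {e : (R ⧸ m.toIdeal) →ₗ[R] E'}

/-- the *injective hull of `R/m` over a positively graded ring has top degree `0`. -/
theorem isTopDeg_hull (hpos : ∀ n : ℤ, n < 0 → 𝒜 n = ⊥) (hm : IsCoatom m)
    (he : IsStarInjHull 𝒜 (quotGr 𝒜 m) 𝓔 e) : IsTopDeg 𝓔 0 := by
  classical
  have hne_top : m.toIdeal ≠ ⊤ := fun h => hm.1 (HomogeneousIdeal.toIdeal_injective h)
  have hmk : ∀ a : R, (Ideal.Quotient.mk m.toIdeal a) = a • (1 : R ⧸ m.toIdeal) := by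
    intro a
    rw [Algebra.smul_def, mul_one]
    rfl
  have h1mem : e 1 ∈ 𝓔 0 := by
    apply he.grHom 0
    exact ⟨1, (SetLike.GradedOne.one_mem : (1 : R) ∈ 𝒜 0), rfl⟩
  constructor
  · rw [AddSubgroup.ne_bot_iff_exists_ne_zero]
    refine ⟨⟨e 1, h1mem⟩, ?_⟩
    intro h0
    have h1 : e 1 = 0 := congrArg Subtype.val h0
    have h2 : (1 : R ⧸ m.toIdeal) = 0 := he.injective (by rw [h1, map_zero])
    have h3 : (Ideal.Quotient.mk m.toIdeal 1) = 0 := h2
    rw [Ideal.Quotient.eq_zero_iff_mem] at h3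
    exact hne_top ((Ideal.eq_top_iff_one _).2 h3)
  · intro j hj
    rw [eq_bot_iff]
    intro y hy
    rw [AddSubgroup.mem_bot]
    by_contra hy0
    -- the range of `e` lies in degree `0`
    have hrange : ∀ c : R ⧸ m.toIdeal, e c ∈ 𝓔 0 := by
      intro c
      obtain ⟨a, rfl⟩ := Ideal.Quotient.mk_surjective c
      rw [hmk, map_smul, ← DirectSum.sum_support_decompose 𝒜 a, Finset.sum_smul]
      apply AddSubgroup.sum_mem
      intro i _
      rcases lt_trichotomy i 0 with h | h | h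
      · rw [eq_zero_of_neg_deg 𝒜 hpos h (SetLike.coe_mem (decompose 𝒜 a i)), zero_smul]
        exact zero_mem _
      · subst h
        have := SetLike.GradedSMul.smul_mem (A := 𝒜) (B := 𝓔)
          (SetLike.coe_mem (decompose 𝒜 a 0)) h1mem
        rw [vadd_eq_add, add_zero] at this
        exact this
      · have hmem : (decompose 𝒜 a i : R) ∈ m.toIdeal :=
          mem_of_pos_deg 𝒜 hpos hm h (SetLike.coe_mem _)
        rw [← map_smul, ← hmk, (Ideal.Quotient.eq_zero_iff_mem).2 hmem, map_zero]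
        exact zero_mem _
    have hP : (LinearMap.range (LinearMap.toSpanSingleton R E' y)).IsHomogeneous 𝓔 :=
      range_isHomogeneous_deg 𝒜 𝓔 (isGrHomDeg_toSpanSingleton 𝓔 𝒜 hy)
    have hPne : LinearMap.range (LinearMap.toSpanSingleton R E' y) ≠ ⊥ := by
      intro hb
      apply hy0
      have : y ∈ LinearMap.range (LinearMap.toSpanSingleton R E' y) :=
        ⟨1, by rw [LinearMap.toSpanSingleton_apply, one_smul]⟩
      rw [hb] at this
      exact (Submodule.mem_bot R).1 this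
    have hmeet := he.essential _ hP hPne
    obtain ⟨z, hz, hz0⟩ := (Submodule.ne_bot_iff _).1 hmeet
    obtain ⟨⟨r, hr⟩, ⟨c, hc⟩⟩ := hz
    rw [LinearMap.toSpanSingleton_apply] at hr
    apply hz0
    have hz0mem : z ∈ 𝓔 0 := hc ▸ hrange c
    have h1 := decompose_map_deg 𝒜 𝓔 (isGrHomDeg_toSpanSingleton 𝓔 𝒜 hy) r (-j)
    rw [LinearMap.toSpanSingleton_apply, LinearMap.toSpanSingleton_apply, neg_add_cancel, hr,
      eq_zero_of_neg_deg 𝒜 hpos (by omega : -j < 0) (SetLike.coe_mem (decompose 𝒜 r (-j))),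
      zero_smul, decompose_of_mem_same 𝓔 hz0mem] at h1
    exact h1

end Hull


section Main

variable {R : Type u} [CommRing R] [hGor : LocCoh.IsGorensteinRing R] (𝒜 : ℤ → AddSubgroup R)
  [GradedRing 𝒜]
variable {E' : Type u} [AddCommGroup E'] [Module R E'] (𝓔 : ℤ → AddSubgroup E')
  [DirectSum.Decomposition 𝓔] [SetLike.GradedSMul 𝒜 𝓔]
variable {C : Type u} [AddCommGroup C] [Module R C] (𝒞 : ℤ → AddSubgroup C)
  [DirectSum.Decomposition 𝒞] [SetLike.GradedSMul 𝒜 𝒞]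

lemma ne_bot_of_mem_ne_zero {A : Type u} [AddCommGroup A] {S : AddSubgroup A} {x : A} (hx : x ∈ S)
    (h0 : x ≠ 0) : S ≠ ⊥ := by
  intro hb
  rw [hb, AddSubgroup.mem_bot] at hx
  exact h0 hx

/-- The *canonical module of a positively graded Gorenstein *local ring with `a`-invariant `a`
is `R(a)`: it is free on a generator of degree `-a`. -/
theorem exists_bijective_of_gorenstein (hpos : ∀ n : ℤ, n < 0 → 𝒜 n = ⊥)
    (m : HomogeneousIdeal 𝒜) (hm : IsStarLocal 𝒜 m) (n : ℕ) (hn : m.toIdeal.height = n)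
    (I : StarInjRes 𝒜 𝒜) (e : (R ⧸ m.toIdeal) →ₗ[R] E')
    (he : IsStarInjHull 𝒜 (quotGr 𝒜 m) 𝓔 e) (hC : IsStarCanonical 𝒜 𝒞 𝓔 m n I) (a : ℤ)
    (ha : IsTopDeg (I.Hgr m n) a) :
    ∃ f : R →ₗ[R] C, Function.Bijective f ∧ IsGrHomDeg 𝒜 𝒞 f (-a) := by
  have hmax : m.toIdeal.IsMaximal := isMaximal_of_isCoatom 𝒜 hpos hm.1
  obtain ⟨g, φ, hφ⟩ := Groth.Agent.Lib.Helper11.GrGor.exists_top_H_equiv_hull 𝒜 𝓔 m hm n hn I e he
  obtain ⟨hfin, Φ, hΦ⟩ := hC
  obtain ⟨s, c', hc', hbij⟩ := exists_generator 𝒜 𝓔 𝒞 hm he (Φ ≪≫ₗ φ)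
  have hfdeg : IsGrHomDeg 𝒜 𝒞 (LinearMap.toSpanSingleton R C c') s :=
    isGrHomDeg_toSpanSingleton 𝒞 𝒜 hc'
  let fe : R ≃ₗ[R] C := LinearEquiv.ofBijective (LinearMap.toSpanSingleton R C c') hbij
  have hfe : IsGrHomDeg 𝒜 𝒞 fe.toLinearMap s := hfdeg
  have hfes := isGrHomDeg_symm fe hfe
  let χ : E' ≃ₗ[R] I.H m n := (evalEquiv (E' := E') fe).symm ≪≫ₗ Φ
  have hχ : IsGrHomDeg 𝓔 (I.Hgr m n) χ.toLinearMap (-s) := by
    intro j z hz
    apply hΦ (j + -s)
    change IsGrHomDeg 𝒞 𝓔 ((evalEquiv (E' := E') fe).symm z) (j + -s)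
    intro h c hc
    rw [evalEquiv_symm_apply]
    have h1 : fe.symm c ∈ 𝒜 (h + -s) := hfes h c hc
    have h2 := isGrHomDeg_lsmul 𝓔 𝒜 h1 j z hz
    have e1 : j + (h + -s) = h + (j + -s) := by abel
    rw [e1] at h2
    exact h2
  letI : DirectSum.Decomposition (I.Hgr m n) := (Hgr_isInternal 𝒜 𝒜 I m n).chooseDecomposition
  have hχs := isGrHomDeg_symm χ hχ
  rw [neg_neg] at hχs
  have hE := isTopDeg_hull 𝒜 𝓔 hpos hm.1 he
  -- compare the top degrees
  have h1 : -s ≤ a := by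
    obtain ⟨⟨z, hz⟩, hz0⟩ := (AddSubgroup.ne_bot_iff_exists_ne_zero).1 hE.1
    have hz0' : z ≠ 0 := fun h => hz0 (Subtype.ext h)
    have hmem := hχ 0 z hz
    rw [zero_add] at hmem
    have hne : χ z ≠ 0 := fun h => hz0' (χ.map_eq_zero_iff.1 h)
    by_contra hlt
    exact ne_bot_of_mem_ne_zero hmem hne (ha.2 (-s) (by omega))
  have h2 : a + s ≤ 0 := by
    obtain ⟨⟨h, hh⟩, hh0⟩ := (AddSubgroup.ne_bot_iff_exists_ne_zero).1 ha.1
    have hh0' : h ≠ 0 := fun h' => hh0 (Subtype.ext h')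
    have hmem := hχs a h hh
    have hne : χ.symm h ≠ 0 := fun h' => hh0' (χ.symm.map_eq_zero_iff.1 h')
    by_contra hlt
    exact ne_bot_of_mem_ne_zero hmem hne (hE.2 (a + s) (by omega))
  have hs : s = -a := by omega
  refine ⟨LinearMap.toSpanSingleton R C c', hbij, ?_⟩
  rw [← hs]
  exact hfdeg

end Main

end Groth.Agent.Lib.Helper11.GrCan
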