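import Groth.Agent.Lib.Helper11.GrLCDecomp
import Groth.Agent.Lib.Helper11.GrLCSubQuot

/-!
# Conversion of `SetLike`-valued gradings (e.g. `Submodule`-valued) to `AddSubgroup`-valued ones
-/

set_option autoImplicit false
set_option linter.unusedSectionVars false
set_option linter.style.haveILetI false
set_option linter.unusedVariables false
universe u

namespace Groth.Agent.Lib.Helper11.GrConv

open DirectSum GrLC Groth.Agent.Lib.Helper11.GrLCLib

section Family

variable {ι : Type} [DecidableEq ι]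
variable {M : Type u} [AddCommGroup M] {τ : Type u} [SetLike τ M] [AddSubgroupClass τ M]
  (ℳ : ι → τ)

/-- the family as additive subgroups. -/
def conv (i : ι) : AddSubgroup M := AddSubgroup.ofClass (ℳ i)

lemma mem_conv {i : ι} {x : M} : x ∈ conv ℳ i ↔ x ∈ ℳ i := Iff.rfl

variable [DirectSum.Decomposition ℳ]

/-- projection onto a component as an endomorphism. -/
noncomputable def projHom (i : ι) : M →+ M where
  toFun x := (decompose ℳ x i : M)
  map_zero' := by simp
  map_add' x y := by rw [decompose_add, DirectSum.add_apply, AddMemClass.coe_add]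

lemma projHom_apply (i : ι) (x : M) : projHom ℳ i x = (decompose ℳ x i : M) := rfl

lemma conv_isInternal : DirectSum.IsInternal (conv ℳ) := by
  classical
  refine isInternal_of_proj (conv ℳ) (projHom ℳ) ?_ ?_ ?_ ?_
  · intro g x; exact SetLike.coe_mem (decompose ℳ x g)
  · intro g x hx; exact decompose_of_mem_same ℳ hx
  · intro g g' x hx hne; exact decompose_of_mem_ne ℳ hx (Ne.symm hne)
  · intro x
    exact ⟨(decompose ℳ x).support, DirectSum.sum_support_decompose ℳ x⟩

/-- the decomposition for the converted family. -/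
@[instance_reducible]
noncomputable def convDecomposition : DirectSum.Decomposition (conv ℳ) :=
  (conv_isInternal ℳ).chooseDecomposition

lemma decompose_conv [DirectSum.Decomposition (conv ℳ)] (x : M) (i : ι) :
    (decompose (conv ℳ) x i : M) = (decompose ℳ x i : M) :=
  decompose_eq_proj (conv ℳ) (projHom ℳ) (fun g x hx => decompose_of_mem_same ℳ hx)
    (fun g g' x hx hne => decompose_of_mem_ne ℳ hx (Ne.symm hne)) x i

end Family

section Ring

variable {ι : Type} [DecidableEq ι] [AddCommGroup ι]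
variable {R : Type u} [CommRing R] {σ : Type u} [SetLike σ R] [AddSubgroupClass σ R]
  (𝒜 : ι → σ) [GradedRing 𝒜]

/-- the converted grading of the ring. -/
@[instance_reducible]
noncomputable def convGradedRing : GradedRing (conv 𝒜) :=
  { one_mem := SetLike.GradedOne.one_mem (A := 𝒜)
    mul_mem := fun _ _ _ _ hi hj => SetLike.GradedMul.mul_mem (A := 𝒜) hi hj
    toDecomposition := convDecomposition 𝒜 }

variable {M : Type u} [AddCommGroup M] [Module R M] {τ : Type u} [SetLike τ M]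
  [AddSubgroupClass τ M] (ℳ : ι → τ)

/-- graded scalar multiplication for the converted families. -/
lemma convGradedSMul [SetLike.GradedSMul 𝒜 ℳ] : SetLike.GradedSMul (conv 𝒜) (conv ℳ) :=
  ⟨by intro i j r x hr hx; exact SetLike.GradedSMul.smul_mem (A := 𝒜) (B := ℳ) hr hx⟩

/-- converted scalars against an `AddSubgroup`-valued family. -/
lemma convGradedSMul_left (𝒳 : ι → AddSubgroup M) [SetLike.GradedSMul 𝒜 𝒳] :
    SetLike.GradedSMul (conv 𝒜) 𝒳 :=
  ⟨by intro i j r x hr hx; exact SetLike.GradedSMul.smul_mem (A := 𝒜) (B := 𝒳) hr hx⟩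

lemma unconvGradedSMul_left (𝒳 : ι → AddSubgroup M) [SetLike.GradedSMul (conv 𝒜) 𝒳] :
    SetLike.GradedSMul 𝒜 𝒳 :=
  ⟨by intro i j r x hr hx; exact SetLike.GradedSMul.smul_mem (A := conv 𝒜) (B := 𝒳) hr hx⟩

end Ring


section Transfer

variable {ι : Type} [DecidableEq ι] [AddCommGroup ι]
variable {R : Type u} [CommRing R] {σ : Type u} [SetLike σ R] [AddSubgroupClass σ R]
  (𝒜 : ι → σ) [GradedRing 𝒜]

attribute [local instance] convGradedRing

/-- a graded module over `𝒜` as a graded module over `conv 𝒜`. -/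
noncomputable def gmodConv (X : GMod.{u} 𝒜) : GMod.{u} (conv 𝒜) :=
  { carrier := X.carrier
    acg := X.acg
    mod := X.mod
    gr := X.gr
    dec := X.dec
    gsmul := convGradedSMul_left 𝒜 X.gr }

/-- a graded module over `conv 𝒜` as a graded module over `𝒜`. -/
noncomputable def gmodUnconv (X : GMod.{u} (conv 𝒜)) : GMod.{u} 𝒜 :=
  { carrier := X.carrier
    acg := X.acg
    mod := X.mod
    gr := X.gr
    dec := X.dec
    gsmul := unconvGradedSMul_left 𝒜 X.gr }

variable {M : Type u} [AddCommGroup M] [Module R M]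

theorem isStarInj_conv (𝒳 : ι → AddSubgroup M) [DirectSum.Decomposition 𝒳]
    [SetLike.GradedSMul 𝒜 𝒳] [SetLike.GradedSMul (conv 𝒜) 𝒳] (h : IsStarInj 𝒜 𝒳) :
    IsStarInj (conv 𝒜) 𝒳 := by
  intro A B f hf hfi g hg
  exact h (gmodUnconv 𝒜 A) (gmodUnconv 𝒜 B) f hf hfi g hg

theorem isStarInj_unconv (𝒳 : ι → AddSubgroup M) [DirectSum.Decomposition 𝒳]
    [SetLike.GradedSMul 𝒜 𝒳] [SetLike.GradedSMul (conv 𝒜) 𝒳] (h : IsStarInj (conv 𝒜) 𝒳) :
    IsStarInj 𝒜 𝒳 := by
  intro A B f hf hfi g hg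
  exact h (gmodConv 𝒜 A) (gmodConv 𝒜 B) f hf hfi g hg


variable {τ : Type u} [SetLike τ M] [AddSubgroupClass τ M] (ℳ : ι → τ)
  [DirectSum.Decomposition ℳ] [SetLike.GradedSMul 𝒜 ℳ]
  [DirectSum.Decomposition (conv ℳ)] [SetLike.GradedSMul (conv 𝒜) (conv ℳ)]

/-- convert a *injective resolution. -/
noncomputable def resConv (E : StarInjRes 𝒜 ℳ) : StarInjRes (conv 𝒜) (conv ℳ) where
  X n := gmodConv 𝒜 (E.X n)
  d n := E.d n
  ε := E.ε
  d_grHom n := E.d_grHom n
  ε_grHom := E.ε_grHom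
  ε_injective := E.ε_injective
  exact_zero := E.exact_zero
  exact_succ n := E.exact_succ n
  starInj n := by
    letI : SetLike.GradedSMul (conv 𝒜) (E.X n).gr := convGradedSMul_left 𝒜 (E.X n).gr
    exact isStarInj_conv 𝒜 (E.X n).gr (E.starInj n)

/-- convert a homogeneous ideal. -/
noncomputable def hidealConv (a : HomogeneousIdeal 𝒜) : HomogeneousIdeal (conv 𝒜) :=
  ⟨a.toIdeal, by
    intro i x hx
    rw [decompose_conv]
    exact a.isHomogeneous i hx⟩

@[simp] lemma hidealConv_toIdeal (a : HomogeneousIdeal 𝒜) : (hidealConv 𝒜 a).toIdeal = a.toIdeal :=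
  rfl

/-- convert back a homogeneous ideal. -/
noncomputable def hidealUnconv (a : HomogeneousIdeal (conv 𝒜)) : HomogeneousIdeal 𝒜 :=
  ⟨a.toIdeal, by
    intro i x hx
    rw [← decompose_conv]
    exact a.isHomogeneous i hx⟩

@[simp] lemma hidealUnconv_toIdeal (a : HomogeneousIdeal (conv 𝒜)) :
    (hidealUnconv 𝒜 a).toIdeal = a.toIdeal := rfl

/-- the order isomorphism between homogeneous ideals. -/
noncomputable def hidealIso : HomogeneousIdeal 𝒜 ≃o HomogeneousIdeal (conv 𝒜) where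
  toFun := hidealConv 𝒜
  invFun := hidealUnconv 𝒜
  left_inv a := by ext1; rfl
  right_inv a := by ext1; rfl
  map_rel_iff' := Iff.rfl

theorem isStarLocal_conv {m : HomogeneousIdeal 𝒜} (hm : IsStarLocal 𝒜 m) :
    IsStarLocal (conv 𝒜) (hidealConv 𝒜 m) := by
  refine ⟨((hidealIso 𝒜).isCoatom_iff m).mpr hm.1, fun n hn => ?_⟩
  have h1 : IsCoatom ((hidealIso 𝒜).symm n) := ((hidealIso 𝒜).symm.isCoatom_iff n).mpr hn
  have h2 := hm.2 _ h1
  rw [← h2]
  exact ((hidealIso 𝒜).apply_symm_apply n).symm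

lemma quotGr_conv (m : HomogeneousIdeal 𝒜) :
    quotGr (conv 𝒜) (hidealConv 𝒜 m) = quotGr 𝒜 m := rfl


section Hull

variable {E' : Type u} [AddCommGroup E'] [Module R E'] (𝓔 : ι → AddSubgroup E')
  [DirectSum.Decomposition 𝓔] [SetLike.GradedSMul 𝒜 𝓔] [SetLike.GradedSMul (conv 𝒜) 𝓔]

theorem isStarInjHull_conv {m : HomogeneousIdeal 𝒜} {e : (R ⧸ m.toIdeal) →ₗ[R] E'}
    (he : IsStarInjHull 𝒜 (quotGr 𝒜 m) 𝓔 e) :
    IsStarInjHull (conv 𝒜) (quotGr (conv 𝒜) (hidealConv 𝒜 m)) 𝓔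
      (e : (R ⧸ (hidealConv 𝒜 m).toIdeal) →ₗ[R] E') :=
  { injective := he.injective
    grHom := he.grHom
    essential := he.essential
    starInj := isStarInj_conv 𝒜 𝓔 he.starInj }

end Hull

section H

variable (E : StarInjRes 𝒜 ℳ) (a : HomogeneousIdeal 𝒜) (i : ℕ)

lemma resConv_H : (resConv 𝒜 ℳ E).H (hidealConv 𝒜 a) i = E.H a i := rfl

lemma resConv_Hgr : (resConv 𝒜 ℳ E).Hgr (hidealConv 𝒜 a) i = E.Hgr a i := rfl

end H

section Canonical

variable {E' : Type u} [AddCommGroup E'] [Module R E'] (𝓔 : ι → AddSubgroup E')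
  [DirectSum.Decomposition 𝓔] [SetLike.GradedSMul 𝒜 𝓔] [SetLike.GradedSMul (conv 𝒜) 𝓔]
variable {C : Type u} [AddCommGroup C] [Module R C] (𝒞 : ι → AddSubgroup C)
  [DirectSum.Decomposition 𝒞] [SetLike.GradedSMul 𝒜 𝒞] [SetLike.GradedSMul (conv 𝒜) 𝒞]

theorem isStarCanonical_conv (m : HomogeneousIdeal 𝒜) (n : ℕ)
    (I : StarInjRes 𝒜 𝒜) (hC : IsStarCanonical 𝒜 𝒞 𝓔 m n I) :
    IsStarCanonical (conv 𝒜) 𝒞 𝓔 (hidealConv 𝒜 m) n (resConv 𝒜 𝒜 I) := by
  obtain ⟨hfin, φ, hφ⟩ := hC
  exact ⟨hfin, φ, hφ⟩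

end Canonical

end Transfer

end Groth.Agent.Lib.Helper11.GrConv
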