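import Mathlib
import Groth.Agent.Lib.Helper16.RegularRingFacts
import Groth.Agent.Lib.Helper16.RegularGorenstein
import Groth.Agent.Lib.Helper11.GrCanC
import Groth.Agent.Lib.Helper11.GrConv

set_option autoImplicit false
set_option linter.unusedSectionVars false
set_option linter.style.haveILetI false
set_option linter.unusedVariables false
universe u

namespace Groth.Agent.Lib.Helper11.GrPoly

open MvPolynomial

lemma eq_cc_neg (x : WithBot (WithTop ℤ)) (s : ℤ)
    (h : Groth.Agent.Lib.Helper11.GrLes.cc 0 = x + Groth.Agent.Lib.Helper11.GrLes.cc s) :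
    x = Groth.Agent.Lib.Helper11.GrLes.cc (-s) := by
  induction x using WithBot.recBotCoe with
  | bot => unfold Groth.Agent.Lib.Helper11.GrLes.cc at h; simp at h
  | coe x =>
    induction x using WithTop.recTopCoe with
    | top =>
      exfalso
      unfold Groth.Agent.Lib.Helper11.GrLes.cc at h
      rw [← WithBot.coe_add, WithTop.top_add] at h
      have := WithBot.coe_injective h
      simp at this
    | coe n =>
      have h' : Groth.Agent.Lib.Helper11.GrLes.cc 0 = Groth.Agent.Lib.Helper11.GrLes.cc (n + s) := by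
        rw [Groth.Agent.Lib.Helper11.GrLes.cc_add]; exact h
      unfold Groth.Agent.Lib.Helper11.GrLes.cc at h'
      have := WithTop.coe_injective (WithBot.coe_injective h')
      have hn : n = -s := by omega
      rw [hn]

variable (k : Type u) [Field k] (N : ℕ)

example : IsRegularRing (MvPolynomial (Fin N) k) := inferInstance

theorem isCM : LocCoh.IsCohenMacaulayRing (MvPolynomial (Fin N) k) :=
  Groth.Agent.Lib.Helper16.PDR.isCohenMacaulayRing_of_isRegularRing _

theorem isGor : LocCoh.IsGorensteinRing (MvPolynomial (Fin N) k) where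
  isGorensteinLocalRing_localization p _ :=
    Groth.Agent.Lib.Helper16.RegGor.isGorensteinLocalRing_of_isRegularLocalRing _

theorem krullDim : ringKrullDim (MvPolynomial (Fin N) k) = N := by
  rw [MvPolynomial.ringKrullDim_of_isNoetherianRing, ringKrullDim_eq_zero_of_field]
  simp


variable {k N}

theorem mem_span_X_of_X_mul_mem (s : Set (Fin N)) (j : Fin N) (hj : j ∉ s)
    (f : MvPolynomial (Fin N) k) (h : X j * f ∈ Ideal.span (X '' s : Set (MvPolynomial (Fin N) k))) :
    f ∈ Ideal.span (X '' s : Set (MvPolynomial (Fin N) k)) := by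
  rw [MvPolynomial.mem_ideal_span_X_image] at h ⊢
  intro d hd
  have hmem : Finsupp.single j 1 + d ∈ (X j * f).support := by
    rw [MvPolynomial.support_X_mul]
    exact Finset.mem_map_of_mem _ hd
  obtain ⟨i, his, hi⟩ := h _ hmem
  refine ⟨i, his, ?_⟩
  have hij : j ≠ i := fun h' => hj (h' ▸ his)
  rw [Finsupp.add_apply, Finsupp.single_apply, if_neg hij, zero_add] at hi
  exact hi

theorem ofList_take_ofFn_X (i : ℕ) :
    Ideal.ofList ((List.ofFn (X : Fin N → MvPolynomial (Fin N) k)).take i) =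
      Ideal.span (X '' {j : Fin N | (j : ℕ) < i}) := by
  unfold Ideal.ofList
  congr 1
  ext r
  simp only [Set.mem_ofPred_eq, Set.mem_image]
  rw [List.mem_take_iff_getElem]
  constructor
  · rintro ⟨a, ha, rfl⟩
    rw [List.length_ofFn] at ha
    refine ⟨⟨a, (lt_min_iff.1 ha).2⟩, (lt_min_iff.1 ha).1, ?_⟩
    rw [List.getElem_ofFn]
  · rintro ⟨j, hj, rfl⟩
    refine ⟨j, ?_, ?_⟩
    · rw [List.length_ofFn]; exact lt_min hj j.2
    · rw [List.getElem_ofFn]

theorem isWeaklyRegular_X : RingTheory.Sequence.IsWeaklyRegular (MvPolynomial (Fin N) k)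
    (List.ofFn (X : Fin N → MvPolynomial (Fin N) k)) := by
  refine ⟨fun i hi => ?_⟩
  rw [List.length_ofFn] at hi
  rw [isSMulRegular_on_quot_iff_lsmul_comap_le, List.getElem_ofFn, smul_eq_mul, Ideal.mul_top,
    ofList_take_ofFn_X]
  intro f hf
  exact mem_span_X_of_X_mul_mem _ ⟨i, hi⟩ (by simp) f hf


section Graded

open DirectSum GrLC Groth.Agent.Lib.Helper11.GrLCLib Groth.Agent.Lib.Helper11.GrLes
  Groth.Agent.Lib.Helper11.GrCan

variable (w : Fin N → ℤ) (hw : ∀ i, 0 < w i)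
  (𝒜 : ℤ → AddSubgroup (MvPolynomial (Fin N) k)) [GradedRing 𝒜]

theorem toIdeal_eq_span_X (hX : ∀ i, (X i : MvPolynomial (Fin N) k) ∈ 𝒜 (w i))
    (hpos : ∀ n : ℤ, n < 0 → 𝒜 n = ⊥) (hw : ∀ i, 0 < w i) {m : HomogeneousIdeal 𝒜}
    (hm : IsCoatom m) :
    m.toIdeal = Ideal.span (Set.range (X : Fin N → MvPolynomial (Fin N) k)) := by
  have hmax := isMaximal_of_isCoatom 𝒜 hpos hm
  have hXm : ∀ i, (X i : MvPolynomial (Fin N) k) ∈ m.toIdeal := fun i =>
    mem_of_pos_deg 𝒜 hpos hm (hw i) (hX i)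
  apply le_antisymm
  · intro f hf
    set c := MvPolynomial.coeff 0 f with hc
    have hg : f - C c ∈ Ideal.span (Set.range (X : Fin N → MvPolynomial (Fin N) k)) := by
      rw [← Set.image_univ, MvPolynomial.mem_ideal_span_X_image]
      intro d hd
      rw [MvPolynomial.mem_support_iff, MvPolynomial.coeff_sub] at hd
      have hd0 : d ≠ 0 := by
        intro h0
        apply hd
        rw [h0, MvPolynomial.coeff_C, if_pos rfl, hc, sub_self]
      obtain ⟨i, hi⟩ := Finsupp.ne_iff.1 hd0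
      exact ⟨i, Set.mem_univ _, hi⟩
    have hgm : f - C c ∈ m.toIdeal := by
      refine (Ideal.span_le.2 ?_) hg
      rintro _ ⟨i, rfl⟩
      exact hXm i
    have hCm : (C c : MvPolynomial (Fin N) k) ∈ m.toIdeal := by
      have := m.toIdeal.sub_mem hf hgm
      rwa [sub_sub_cancel] at this
    have hc0 : c = 0 := by
      by_contra hne
      apply hmax.ne_top
      rw [Ideal.eq_top_iff_one]
      have := m.toIdeal.mul_mem_left (C c⁻¹) hCm
      rwa [← C_mul, inv_mul_cancel₀ hne, C_1] at this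
    rw [hc0, C_0, sub_zero] at hg
    exact hg
  · refine Ideal.span_le.2 ?_
    rintro _ ⟨i, rfl⟩
    exact hXm i


variable {E' : Type u} [AddCommGroup E'] [Module (MvPolynomial (Fin N) k) E']
  (𝓔 : ℤ → AddSubgroup E') [DirectSum.Decomposition 𝓔] [SetLike.GradedSMul 𝒜 𝓔]
variable {C : Type u} [AddCommGroup C] [Module (MvPolynomial (Fin N) k) C]
  (𝒞 : ℤ → AddSubgroup C) [DirectSum.Decomposition 𝒞] [SetLike.GradedSMul 𝒜 𝒞]

open scoped Pointwise in
/-- the `a`-invariant of the weighted polynomial ring is `-Σ w`. -/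
theorem isTopDeg_poly (hX : ∀ i, (X i : MvPolynomial (Fin N) k) ∈ 𝒜 (w i))
    (hpos : ∀ n : ℤ, n < 0 → 𝒜 n = ⊥) (hw : ∀ i, 0 < w i) (m : HomogeneousIdeal 𝒜)
    (hm : IsStarLocal 𝒜 m) (I : StarInjRes 𝒜 𝒜) :
    m.toIdeal.height = (N : ℕ∞) ∧
      IsTopDeg (I.Hgr m N) (-(Finset.univ : Finset (Fin N)).sum w) := by
  classical
  haveI := isCM k N
  have hmax := isMaximal_of_isCoatom 𝒜 hpos hm.1
  have hmX := toIdeal_eq_span_X w 𝒜 hX hpos hw hm.1
  have hXm : ∀ i, (X i : MvPolynomial (Fin N) k) ∈ m.toIdeal := fun i =>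
    mem_of_pos_deg 𝒜 hpos hm.1 (hw i) (hX i)
  have hht := ringKrullDim_eq_height 𝒜 hpos hm
  rw [krullDim] at hht
  have hht' : m.toIdeal.height = (N : ℕ∞) := by
    have : ((m.toIdeal.height : ℕ∞) : WithBot ℕ∞) = ((N : ℕ∞) : WithBot ℕ∞) := hht.symm
    exact_mod_cast this
  refine ⟨hht', ?_⟩
  have hvan : ∀ i, i < N → Subsingleton (I.H m i) := fun i hi =>
    subsingleton_H_of_lt_height 𝒜 m hmax I N hht'.ge i hi
  have hF2 : List.Forall₂ (fun r j => r ∈ 𝒜 j ∧ 0 ≤ j ∧ r ∈ m.toIdeal)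
      (List.ofFn (X : Fin N → MvPolynomial (Fin N) k)) (List.ofFn w) := by
    rw [List.forall₂_iff_get]
    refine ⟨by rw [List.length_ofFn, List.length_ofFn], ?_⟩
    intro i h1 h2
    rw [List.get_eq_getElem, List.get_eq_getElem, List.getElem_ofFn, List.getElem_ofFn]
    exact ⟨hX _, (hw _).le, hXm _⟩
  have hP : (m.toIdeal : Submodule (MvPolynomial (Fin N) k) (MvPolynomial (Fin N) k)).IsHomogeneous 𝒜 :=
    m.isHomogeneous
  letI := quotDecomposition 𝒜 (m.toIdeal : Submodule (MvPolynomial (Fin N) k) (MvPolynomial (Fin N) k)) hP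
  have hπk : LinearMap.ker (m.toIdeal : Submodule (MvPolynomial (Fin N) k) (MvPolynomial (Fin N) k)).mkQ
      = m.toIdeal := Submodule.ker_mkQ _
  have hπk' : LinearMap.ker (m.toIdeal : Submodule (MvPolynomial (Fin N) k) (MvPolynomial (Fin N) k)).mkQ
      = Ideal.ofList (List.ofFn (X : Fin N → MvPolynomial (Fin N) k)) •
        (⊤ : Submodule (MvPolynomial (Fin N) k) (MvPolynomial (Fin N) k)) := by
    rw [hπk, smul_eq_mul, Ideal.mul_top, hmX]
    unfold Ideal.ofList
    congr 1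
    ext r
    simp [List.mem_ofFn]
  set F := Groth.Agent.Lib.Helper11.GrGor.minRes 𝒜 (quotGrM 𝒜
    (m.toIdeal : Submodule (MvPolynomial (Fin N) k) (MvPolynomial (Fin N) k))) with hF
  have key := endDeg_regSeq m (List.ofFn (X : Fin N → MvPolynomial (Fin N) k)) (List.ofFn w) hF2
    (MvPolynomial (Fin N) k) 𝒜 _ (quotGrM 𝒜
      (m.toIdeal : Submodule (MvPolynomial (Fin N) k) (MvPolynomial (Fin N) k)))
    (Submodule.mkQ _) (mkQ_isGrHom 𝒜 _) (Submodule.mkQ_surjective _) hπk' isWeaklyRegular_X I F N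
    (by rw [List.length_ofFn]) hvan
  rw [List.length_ofFn, List.sum_ofFn, Nat.sub_self] at key
  have hF0 := isTopDeg_H0 𝒜 _ hpos hm.1 (Submodule.mkQ _) (mkQ_isGrHom 𝒜 _)
    (Submodule.mkQ_surjective _) hπk F
  rw [endDeg_eq_of_isTopDeg hF0] at key
  apply isTopDeg_of_endDeg_eq
  exact eq_cc_neg _ _ key.2


/-- `K_R ≅ R(-Σ w)` for the polynomial ring with weights `w` (any `AddSubgroup`-valued grading
with `X i` in degree `w i > 0` and nothing in negative degrees). -/
theorem canonical_poly (hX : ∀ i, (X i : MvPolynomial (Fin N) k) ∈ 𝒜 (w i))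
    (hpos : ∀ n : ℤ, n < 0 → 𝒜 n = ⊥) (hw : ∀ i, 0 < w i) (m : HomogeneousIdeal 𝒜)
    (hm : IsStarLocal 𝒜 m) (I : StarInjRes 𝒜 𝒜)
    (e : (MvPolynomial (Fin N) k ⧸ m.toIdeal) →ₗ[MvPolynomial (Fin N) k] E')
    (he : IsStarInjHull 𝒜 (quotGr 𝒜 m) 𝓔 e) (hC : IsStarCanonical 𝒜 𝒞 𝓔 m N I) :
    ∃ f : MvPolynomial (Fin N) k →ₗ[MvPolynomial (Fin N) k] C, Function.Bijective f ∧
      IsGrHomDeg 𝒜 𝒞 f ((Finset.univ : Finset (Fin N)).sum w) := by
  haveI := isGor k N
  obtain ⟨hht, htop⟩ := isTopDeg_poly w 𝒜 hX hpos hw m hm I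
  have := exists_bijective_of_gorenstein 𝒜 𝓔 𝒞 hpos m hm N hht I e he hC _ htop
  rwa [neg_neg] at this

end Graded

section Weighted

variable (k N) (w : Fin N → ℤ)

lemma weight_nonneg (hw : ∀ i, 0 < w i) (d : Fin N →₀ ℕ) : 0 ≤ Finsupp.weight w d := by
  rw [Finsupp.weight_apply]
  apply Finset.sum_nonneg
  intro i _
  exact smul_nonneg (Nat.zero_le _) (hw i).le

lemma conv_weighted_neg (hw : ∀ i, 0 < w i) (n : ℤ) (hn : n < 0) :
    Groth.Agent.Lib.Helper11.GrConv.conv (MvPolynomial.weightedHomogeneousSubmodule k w) n = ⊥ := by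
  rw [eq_bot_iff]
  intro x hx
  rw [AddSubgroup.mem_bot]
  have hx' : MvPolynomial.IsWeightedHomogeneous w x n :=
    (MvPolynomial.mem_weightedHomogeneousSubmodule k w n x).1 hx
  by_contra h0
  obtain ⟨d, hd⟩ := MvPolynomial.ne_zero_iff.1 h0
  have := hx' hd
  have h2 := weight_nonneg N w hw d
  omega

lemma X_mem_conv_weighted (i : Fin N) : (X i : MvPolynomial (Fin N) k) ∈
    Groth.Agent.Lib.Helper11.GrConv.conv (MvPolynomial.weightedHomogeneousSubmodule k w) (w i) :=
  (MvPolynomial.mem_weightedHomogeneousSubmodule k w (w i) (X i)).2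
    (MvPolynomial.isWeightedHomogeneous_X k w i)

end Weighted

end Groth.Agent.Lib.Helper11.GrPoly
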