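import Mathlib

set_option autoImplicit false
open MvPolynomial

namespace Groth.Agent.Lib.Helper11.AlgInd

variable {k K : Type*} [Field k] [Field K] [Algebra k K]

/-- the substitution `X 0 ↦ c * X 0` -/
noncomputable def scale0 (n : ℕ) (c : K) : MvPolynomial (Fin (n+1)) K →ₐ[K] MvPolynomial (Fin (n+1)) K :=
  aeval (Function.update (X : Fin (n+1) → MvPolynomial (Fin (n+1)) K) 0 (C c * X 0))

theorem scale0_X_zero (n : ℕ) (c : K) : scale0 n c (X 0) = C c * X 0 := by
  simp [scale0]

theorem scale0_X_ne (n : ℕ) (c : K) {i : Fin (n+1)} (hi : i ≠ 0) : scale0 n c (X i) = X i := by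
  simp [scale0, Function.update_of_ne hi]

theorem scale0_comp (n : ℕ) {c : K} (hc : c ≠ 0) :
    (scale0 n c⁻¹).comp (scale0 n c) = AlgHom.id K _ := by
  apply MvPolynomial.algHom_ext
  intro i
  by_cases hi : i = 0
  · subst hi
    rw [AlgHom.comp_apply, scale0_X_zero, map_mul, scale0_X_zero, AlgHom.id_apply]
    have : (scale0 n c⁻¹) (C c) = C c := by simp [scale0]
    rw [this, ← mul_assoc, ← C_mul, mul_inv_cancel₀ hc, C_1, one_mul]
  · rw [AlgHom.comp_apply, scale0_X_ne n c hi, scale0_X_ne n _ hi, AlgHom.id_apply]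

theorem scale0_injective (n : ℕ) {c : K} (hc : c ≠ 0) : Function.Injective (scale0 n c) := by
  intro x y hxy
  have h := congrArg (scale0 n c⁻¹) hxy
  have e := scale0_comp n hc
  have e1 : ∀ z, scale0 n c⁻¹ (scale0 n c z) = z := fun z => by
    have := congrArg (fun φ => φ z) e
    simpa using this
  rw [e1, e1] at h
  exact h

theorem scale0_linear (n : ℕ) (c : K) (a : Fin (n+1) → K) :
    (∑ i, C (a i) * X i) - scale0 n c (∑ i, C (a i) * X i) =
      (X 0 * (1 - C c)) * C (a 0) := by
  rw [map_sum, ← Finset.sum_sub_distrib]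
  rw [Finset.sum_eq_single (0 : Fin (n+1))]
  · rw [map_mul, scale0_X_zero]
    have : (scale0 n c) (C (a 0)) = C (a 0) := by simp [scale0]
    rw [this]; ring
  · intro i _ hi
    rw [map_mul, scale0_X_ne n c hi]
    have : (scale0 n c) (C (a i)) = C (a i) := by simp [scale0]
    rw [this, sub_self]
  · intro h; exact absurd (Finset.mem_univ _) h

end Groth.Agent.Lib.Helper11.AlgInd

namespace Groth.Agent.Lib.Helper11.AlgInd

variable {k K : Type*} [Field k] [Field K] [Algebra k K]

/-- **Key field-theoretic lemma.** If `b, a 0 ∈ K` are algebraically independent over `k`, then in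
`K[X_0..X_n]` the family `X_0, …, X_n, ∑ a_i X_i, b` is algebraically independent over `k`. -/
theorem algebraicIndependent_X_linear (n : ℕ) (a : Fin (n+1) → K) (b : K)
    (hab : AlgebraicIndependent k ![b, a 0]) :
    AlgebraicIndependent k (Sum.elim (X : Fin (n+1) → MvPolynomial (Fin (n+1)) K)
      ![∑ i, C (a i) * X i, C b]) := by
  classical
  set R := MvPolynomial (Fin (n+1)) K with hR
  have hb_tr : Transcendental k b := by
    have := hab.transcendental 0
    simpa using this
  have hb0 : b ≠ 0 := fun h => hb_tr (h ▸ isAlgebraic_zero)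
  have hb1 : b ≠ 1 := fun h => hb_tr (h ▸ isAlgebraic_one)
  have hX : AlgebraicIndependent K (X : Fin (n+1) → R) := MvPolynomial.algebraicIndependent_X _ _
  have h1 : AlgebraicIndependent k (Sum.elim (X : Fin (n+1) → R) ((algebraMap K R) ∘ ![b, a 0])) :=
    AlgebraicIndependent.sumElim_comp hab hX
  -- the base family
  set x₁ : Fin (n+1) ⊕ Fin 1 → R := Sum.elim X ![C b] with hx₁
  -- reindexing of `h1`
  let f1 : Fin 1 ⊕ (Fin (n+1) ⊕ Fin 1) → Fin (n+1) ⊕ Fin 2 := fun s =>
    match s with
    | Sum.inl _ => Sum.inr 1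
    | Sum.inr (Sum.inl i) => Sum.inl i
    | Sum.inr (Sum.inr _) => Sum.inr 0
  have hf1 : Function.Injective f1 := by
    intro s t hst
    rcases s with s | s | s <;> rcases t with t | t | t <;> simp [f1] at hst ⊢
    · exact Subsingleton.elim _ _
    · exact hst
    · exact Subsingleton.elim _ _
  have h1' : AlgebraicIndependent k (Sum.elim (![C (a 0)] : Fin 1 → R) x₁) := by
    have := h1.comp f1 hf1
    convert this using 1
    funext s
    rcases s with s | s | s
    · simp [f1]; rfl
    · simp [f1, x₁]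
    · simp [f1, x₁]; rfl
  rw [AlgebraicIndependent.sumElim_iff] at h1'
  obtain ⟨hx₁ai, h3⟩ := h1'
  rw [algebraicIndependent_unique_type_iff] at h3
  have h3' : Transcendental (Algebra.adjoin k (Set.range x₁)) (C (a 0) : R) := by
    simpa using h3
  -- the target
  let f2 : Fin (n+1) ⊕ Fin 2 → Fin 1 ⊕ (Fin (n+1) ⊕ Fin 1) := fun s =>
    match s with
    | Sum.inl i => Sum.inr (Sum.inl i)
    | Sum.inr j => if j = 0 then Sum.inl 0 else Sum.inr (Sum.inr 0)
  have hf2 : Function.Injective f2 := by
    intro s t hst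
    rcases s with s | s <;> rcases t with t | t
    · simp [f2] at hst ⊢; exact hst
    · simp only [f2] at hst; split_ifs at hst <;> simp at hst
    · simp only [f2] at hst; split_ifs at hst <;> simp at hst
    · simp only [f2] at hst
      congr 1
      fin_cases s <;> fin_cases t <;> simp at hst ⊢
  set u : R := ∑ i, C (a i) * X i with hu
  suffices hmain : Transcendental (Algebra.adjoin k (Set.range x₁)) u by
    have h4 : AlgebraicIndependent k (Sum.elim (![u] : Fin 1 → R) x₁) := by
      rw [AlgebraicIndependent.sumElim_iff]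
      refine ⟨hx₁ai, ?_⟩
      rw [algebraicIndependent_unique_type_iff]
      simpa using hmain
    have := h4.comp f2 hf2
    convert this using 1
    funext s
    rcases s with s | s
    · simp [f2, x₁]
    · fin_cases s <;> simp [f2, x₁]
  -- main claim
  set B := Algebra.adjoin k (Set.range x₁) with hB
  intro halg
  let σ : R →ₐ[K] R := scale0 n b
  let σk : R →ₐ[k] R := σ.restrictScalars k
  have hσB : ∀ y : B, σk y ∈ B := by
    intro y
    have hy : (y : R) ∈ Algebra.adjoin k (Set.range x₁) := y.2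
    have : σk y ∈ (Algebra.adjoin k (Set.range x₁)).map σk := ⟨y, hy, rfl⟩
    rw [AlgHom.map_adjoin] at this
    refine Algebra.adjoin_le ?_ this
    rintro _ ⟨_, ⟨s, rfl⟩, rfl⟩
    rcases s with i | j
    · show σ (X i) ∈ B
      by_cases hi : i = 0
      · subst hi
        rw [show σ (X 0) = C b * X 0 from scale0_X_zero n b]
        exact B.mul_mem (Algebra.subset_adjoin ⟨Sum.inr 0, by simp [x₁]⟩)
          (Algebra.subset_adjoin ⟨Sum.inl 0, by simp [x₁]⟩)
      · rw [show σ (X i) = X i from scale0_X_ne n b hi]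
        exact Algebra.subset_adjoin ⟨Sum.inl i, by simp [x₁]⟩
    · show σ (x₁ (Sum.inr j)) ∈ B
      have : x₁ (Sum.inr j) = C b := by simp [x₁]
      rw [this]
      have : σ (C b) = C b := by
        show scale0 n b (C b) = C b
        unfold scale0
        exact MvPolynomial.aeval_C _ _
      rw [this]
      exact Algebra.subset_adjoin ⟨Sum.inr 0, by simp [x₁]⟩
  let σB : B →ₐ[k] B := AlgHom.codRestrict (σk.comp B.val) B hσB
  have hσBinj : Function.Injective σB := by
    intro y z hyz
    have := congrArg (Subtype.val) hyz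
    exact Subtype.ext (scale0_injective n hb0 this)
  have hσu : IsAlgebraic B (σ u) := by
    refine halg.ringHom_of_comp_eq (σB : B →+* B) (σ : R →+* R) hσBinj ?_
    ext y
    rfl
  have hdiff : IsAlgebraic B (u - σ u) := halg.sub hσu
  rw [hu, scale0_linear n b a] at hdiff
  have hyB : (X 0 * (1 - C b) : R) ∈ B :=
    B.mul_mem (Algebra.subset_adjoin ⟨Sum.inl 0, by simp [x₁]⟩)
      (B.sub_mem B.one_mem (Algebra.subset_adjoin ⟨Sum.inr 0, by simp [x₁]⟩))
  have hy0 : (X 0 * (1 - C b) : R) ≠ 0 := by
    refine mul_ne_zero (X_ne_zero 0) ?_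
    intro h
    have : (C (1 - b) : R) = 0 := by rw [C_sub, C_1]; exact h
    rw [C_eq_zero (σ := Fin (n + 1)), sub_eq_zero] at this
    exact hb1 this.symm
  have halgy : IsAlgebraic B (X 0 * (1 - C b) : R) :=
    isAlgebraic_algebraMap (⟨_, hyB⟩ : B)
  exact h3' (IsAlgebraic.of_mul (mem_nonZeroDivisors_of_ne_zero hy0) halgy hdiff)

end Groth.Agent.Lib.Helper11.AlgInd
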