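import Mathlib
import Groth.Agent.Lib.Helper7.DimFT
import Groth.Agent.Lib.Helper16.Catenary
import Groth.Agent.Lib.Helper16.GrVertex
import Groth.Agent.Lib.Helper9.DimTrdeg

set_option autoImplicit false
set_option linter.style.haveILetI false
universe u
open MvPolynomial

namespace Groth.Agent.Lib.Helper11.AlgInd

theorem height_map_mk_bot {A : Type u} [CommRing A] (I : Ideal A) :
    (I.map (Ideal.Quotient.mk (⊥ : Ideal A))).height = I.height := by
  have h := (RingEquiv.quotientBot A).symm.height_map I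
  rw [← h]
  congr 1

/-- dimension formula for finitely generated domains over a field -/
theorem height_add_dim_quotient (k A : Type u) [Field k] [CommRing A] [IsDomain A] [Algebra k A]
    [Algebra.FiniteType k A] (p : Ideal A) [hp : p.IsPrime] :
    ringKrullDim A = (p.height : WithBot ℕ∞) + ringKrullDim (A ⧸ p) := by
  obtain ⟨m, hm, hpm⟩ := Ideal.exists_le_maximal p hp.ne_top
  obtain ⟨N, π, hπ⟩ := Algebra.FiniteType.iff_quotient_mvPolynomial''.mp
    (inferInstance : Algebra.FiniteType k A)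
  haveI hbot : (⊥ : Ideal A).IsPrime := Ideal.isPrime_bot
  haveI : m.IsPrime := hm.isPrime
  have h3 := Groth.Agent.Lib.Helper16.Cat.height_map_eq_add_of_surjective
    (MvPolynomial (Fin N) k) A π.toRingHom hπ ⊥ p m bot_le hpm
  have e1 := Groth.Agent.Lib.Helper7.DimFT.height_eq_ringKrullDim_of_isMaximal k A m
  have e2 := Groth.Agent.Lib.Helper16.GrVertex.height_map_mk_eq_ringKrullDim_of_isMaximal k A p m hpm
  rw [height_map_mk_bot, height_map_mk_bot] at h3
  rw [← e1, ← e2, h3]
  push_cast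
  rfl


theorem exists_nat_of_le' {x : WithBot ℕ∞} {N : ℕ} (h0 : 0 ≤ x) (hN : x ≤ (N : WithBot ℕ∞)) :
    ∃ d : ℕ, x = (d : WithBot ℕ∞) ∧ d ≤ N := by
  induction x using WithBot.recBotCoe with
  | bot => exact absurd h0 (by simp)
  | coe y =>
    have h1 : y ≤ (N : ℕ∞) := by exact_mod_cast hN
    have hy : y ≠ ⊤ := ne_top_of_le_ne_top (ENat.coe_ne_top N) h1
    refine ⟨y.toNat, ?_, ?_⟩
    · rw [← ENat.coe_toNat hy]; rfl
    · exact ENat.toNat_le_of_le_coe h1

/-- If a minimal prime over `(g0, g1)` in a finitely generated domain over a field has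
codimension two, then `g0, g1` are algebraically independent. -/
theorem algebraicIndependent_of_codim_two (k A : Type u) [Field k] [CommRing A] [IsDomain A]
    [Algebra k A] [Algebra.FiniteType k A] (g0 g1 : A) (p : Ideal A)
    (hp : p ∈ (Ideal.span {g0, g1}).minimalPrimes)
    (hdim : ringKrullDim (A ⧸ p) + 2 = ringKrullDim A) : AlgebraicIndependent k ![g1, g0] := by
  classical
  by_contra hdep
  rw [algebraicIndependent_iff] at hdep
  push Not at hdep
  obtain ⟨F, hF, hF0⟩ := hdep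
  let φ : MvPolynomial (Fin 2) k →ₐ[k] A := aeval ![g1, g0]
  have hψ : ∀ x ∈ Ideal.span {F}, φ.toRingHom x = 0 := by
    intro x hx
    rw [Ideal.mem_span_singleton'] at hx
    obtain ⟨c, rfl⟩ := hx
    show φ (c * F) = 0
    rw [map_mul, show φ F = 0 from hF, mul_zero]
  let ψ : (MvPolynomial (Fin 2) k ⧸ Ideal.span {F}) →+* A :=
    Ideal.Quotient.lift (Ideal.span {F}) φ.toRingHom hψ
  letI : Algebra (MvPolynomial (Fin 2) k ⧸ Ideal.span {F}) A := ψ.toAlgebra
  haveI : IsNoetherianRing A := Algebra.FiniteType.isNoetherianRing k A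
  haveI hpp : p.IsPrime := hp.1.1
  set q : Ideal (MvPolynomial (Fin 2) k ⧸ Ideal.span {F}) :=
    p.under (MvPolynomial (Fin 2) k ⧸ Ideal.span {F}) with hq
  haveI : p.LiesOver q := ⟨rfl⟩
  haveI : q.IsPrime := Ideal.IsPrime.under _ p
  have h := Ideal.height_le_height_add_of_liesOver q p
  -- `ht q ≤ 1`
  have hq1 : q.height ≤ 1 := by
    have d1 := ringKrullDim_quotient_succ_le_of_nonZeroDivisor
      (mem_nonZeroDivisors_of_ne_zero hF0)
    have d2 : ringKrullDim (MvPolynomial (Fin 2) k) = ringKrullDim k + Nat.card (Fin 2) :=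
      MvPolynomial.ringKrullDim_of_isNoetherianRing
    rw [ringKrullDim_eq_zero_of_field, zero_add, Nat.card_fin] at d2
    have d3 : (q.height : WithBot ℕ∞) ≤ ringKrullDim (MvPolynomial (Fin 2) k ⧸ Ideal.span {F}) :=
      Ideal.height_le_ringKrullDim_of_ne_top (Ideal.IsPrime.ne_top inferInstance)
    rw [d2] at d1
    have d4 : (q.height : WithBot ℕ∞) + 1 ≤ ((2 : ℕ) : WithBot ℕ∞) :=
      (add_le_add_left d3 1).trans d1
    have d5 : q.height + 1 ≤ 2 := by
      have : ((q.height + 1 : ℕ∞) : WithBot ℕ∞) ≤ ((2 : ℕ∞) : WithBot ℕ∞) := by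
        rw [WithBot.coe_add, WithBot.coe_one]
        exact d4
      exact WithBot.coe_le_coe.mp this
    have : q.height + 1 ≤ 1 + 1 := by simpa [one_add_one_eq_two] using d5
    exact (ENat.add_le_add_iff_right (by simp)).mp this
  -- the second summand vanishes
  have hg1 : g1 ∈ q.map (algebraMap (MvPolynomial (Fin 2) k ⧸ Ideal.span {F}) A) := by
    have hmem : Ideal.Quotient.mk (Ideal.span {F}) (X 0) ∈ q := by
      show ψ (Ideal.Quotient.mk _ (X 0)) ∈ p
      rw [Ideal.Quotient.lift_mk]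
      show φ (X 0) ∈ p
      simp only [φ, aeval_X]
      exact hp.1.2 (Ideal.subset_span (by simp))
    have := Ideal.mem_map_of_mem (algebraMap (MvPolynomial (Fin 2) k ⧸ Ideal.span {F}) A) hmem
    convert this using 1
    show g1 = ψ (Ideal.Quotient.mk _ (X 0))
    rw [Ideal.Quotient.lift_mk]
    show g1 = φ (X 0)
    simp [φ]
  have hg0 : g0 ∈ q.map (algebraMap (MvPolynomial (Fin 2) k ⧸ Ideal.span {F}) A) := by
    have hmem : Ideal.Quotient.mk (Ideal.span {F}) (X 1) ∈ q := by
      show ψ (Ideal.Quotient.mk _ (X 1)) ∈ p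
      rw [Ideal.Quotient.lift_mk]
      show φ (X 1) ∈ p
      simp only [φ, aeval_X]
      exact hp.1.2 (Ideal.subset_span (by simp))
    have := Ideal.mem_map_of_mem (algebraMap (MvPolynomial (Fin 2) k ⧸ Ideal.span {F}) A) hmem
    convert this using 1
    show g0 = ψ (Ideal.Quotient.mk _ (X 1))
    rw [Ideal.Quotient.lift_mk]
    show g0 = φ (X 1)
    simp [φ]
  have hmin : p ∈ (q.map (algebraMap (MvPolynomial (Fin 2) k ⧸ Ideal.span {F}) A)).minimalPrimes := by
    refine ⟨⟨hpp, Ideal.map_comap_le⟩, ?_⟩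
    rintro J ⟨hJp, hJle⟩ hJ
    refine hp.2 ⟨hJp, ?_⟩ hJ
    rw [Ideal.span_le]
    rintro x (rfl | rfl)
    · exact hJle hg0
    · exact hJle hg1
  have hzero : (p.map (Ideal.Quotient.mk
      (q.map (algebraMap (MvPolynomial (Fin 2) k ⧸ Ideal.span {F}) A)))).height = 0 := by
    rw [Ideal.minimalPrimes_eq_comap] at hmin
    obtain ⟨Q', hQ', hQQ'⟩ := hmin
    have h4 : p.map (Ideal.Quotient.mk
        (q.map (algebraMap (MvPolynomial (Fin 2) k ⧸ Ideal.span {F}) A))) = Q' := by
      rw [← hQQ', Ideal.map_comap_of_surjective _ Ideal.Quotient.mk_surjective]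
    rw [h4]
    haveI := hQ'.1.1
    exact Ideal.height_eq_zero_iff.2 hQ'
  rw [hzero, add_zero] at h
  have hp1 : p.height ≤ 1 := h.trans hq1
  -- dimension count
  have hform := height_add_dim_quotient k A p
  obtain ⟨s, hs, -⟩ := Groth.Agent.Lib.Helper9.DimTrdeg.exists_nat_dim_eq_trdeg k A
  have h0 : 0 ≤ ringKrullDim (A ⧸ p) := ringKrullDim_nonneg_of_nontrivial
  have hle : ringKrullDim (A ⧸ p) ≤ (s : WithBot ℕ∞) := by
    rw [← hs]; exact ringKrullDim_quotient_le p
  obtain ⟨d, hd, -⟩ := exists_nat_of_le' h0 hle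
  rw [hd, hs] at hdim hform
  have hfin : p.height ≠ ⊤ := Ideal.height_ne_top_of_isPrime
  obtain ⟨t, ht⟩ := ENat.ne_top_iff_exists.mp hfin
  rw [← ht] at hform hp1
  have e1 : (d + 2 : ℕ) = s := by exact_mod_cast hdim
  have e2 : s = t + d := by exact_mod_cast hform
  have e3 : t ≤ 1 := by exact_mod_cast hp1
  omega

end Groth.Agent.Lib.Helper11.AlgInd
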