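import Groth.Prelude.Def_CE
import Mathlib

set_option autoImplicit false
set_option linter.unusedSectionVars false
universe v u
open CategoryTheory CategoryTheory.Limits ZeroObject

namespace Groth.Agent.Lib.Helper11.CE

variable {A : Type u} [Category.{v} A] [Abelian A] [EnoughInjectives A]

lemma exists_inj (X : A) : ∃ (J : A) (i : X ⟶ J), Injective J ∧ Mono i ∧ (IsZero X → IsZero J) := by
  by_cases h : IsZero X
  · exact ⟨0, 0, inferInstance, ⟨fun _ _ _ => h.eq_of_tgt _ _⟩, fun _ => isZero_zero _⟩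
  · exact ⟨Injective.under X, Injective.ι X, inferInstance, inferInstance, fun h' => absurd h' h⟩

/-- zero-preserving injective hull. -/
noncomputable def Jf (X : A) : A := (exists_inj X).choose
/-- the embedding. -/
noncomputable def jι (X : A) : X ⟶ Jf X := (exists_inj X).choose_spec.choose
instance (X : A) : Injective (Jf X) := (exists_inj X).choose_spec.choose_spec.1
instance (X : A) : Mono (jι X) := (exists_inj X).choose_spec.choose_spec.2.1
lemma isZero_Jf {X : A} (h : IsZero X) : IsZero (Jf X) :=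
  (exists_inj X).choose_spec.choose_spec.2.2 h

variable (C : CochainComplex A ℤ)

/-- boundaries. -/
noncomputable abbrev Bd (p : ℤ) : A := kernel (C.pOpcycles p)
/-- first family of injectives. -/
noncomputable abbrev J1 (p : ℤ) : A := Jf (Bd C p)
/-- extension of the embedding of boundaries. -/
noncomputable def e1 (p : ℤ) : C.X p ⟶ J1 C p :=
  Injective.factorThru (jι (Bd C p)) (kernel.ι (C.pOpcycles p))
lemma ι_e1 (p : ℤ) : kernel.ι (C.pOpcycles p) ≫ e1 C p = jι (Bd C p) :=
  Injective.comp_factorThru _ _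
/-- second family. -/
noncomputable abbrev J2 (p : ℤ) : A := Jf (C.opcycles p)
/-- the map to the second family. -/
noncomputable def e2 (p : ℤ) : C.X p ⟶ J2 C p := C.pOpcycles p ≫ jι _

/-- the contractible part. -/
noncomputable def E1 : CochainComplex A ℤ :=
  CochainComplex.of (fun p => J1 C p ⊞ J1 C (p + 1)) (fun p => biprod.snd ≫ biprod.inl) (by simp)

/-- the zero-differential part. -/
noncomputable def E2 : CochainComplex A ℤ :=
  CochainComplex.of (fun p => J2 C p) (fun _ => 0) (by simp)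

lemma E1_d (p : ℤ) : (E1 C).d p (p + 1) = biprod.snd ≫ biprod.inl := by
  dsimp only [E1]; exact CochainComplex.of_d _ _ _
lemma E2_d (p q : ℤ) : (E2 C).d p q = 0 := by
  by_cases h : p + 1 = q
  · subst h; dsimp only [E2]; exact CochainComplex.of_d _ _ _
  · exact HomologicalComplex.shape _ _ _ h

omit [EnoughInjectives A] in
lemma lift_aux {X X' X'' Y Y' Z' : A} (a : X ⟶ Y) (d : X ⟶ X') (b : X' ⟶ Y') (d' : X' ⟶ X'')
    (c : X'' ⟶ Z') (h : d ≫ d' = 0) :
    biprod.lift a (d ≫ b) ≫ biprod.snd ≫ biprod.inl = d ≫ biprod.lift b (d' ≫ c) := by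
  ext <;> simp [reassoc_of% h]

/-- map to the contractible part. -/
noncomputable def ι1 : C ⟶ E1 C where
  f p := biprod.lift (e1 C p) (C.d p (p + 1) ≫ e1 C (p + 1))
  comm' := by
    rintro i j (rfl : i + 1 = j)
    rw [E1_d]
    exact lift_aux _ _ _ _ _ (C.d_comp_d _ _ _)

/-- map to the zero-differential part. -/
noncomputable def ι2 : C ⟶ E2 C where
  f p := e2 C p
  comm' := by
    rintro i j (rfl : i + 1 = j)
    rw [E2_d, comp_zero]
    change 0 = C.d i (i + 1) ≫ C.pOpcycles (i + 1) ≫ jι _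
    rw [C.d_pOpcycles_assoc, zero_comp]

/-- the CE-injective complex. -/
noncomputable abbrev E : CochainComplex A ℤ := E1 C ⊞ E2 C

/-- the embedding. -/
noncomputable def ιE : C ⟶ E C := biprod.lift (ι1 C) (ι2 C)

lemma ιE_snd : ιE C ≫ biprod.snd = ι2 C := biprod.lift_snd _ _
lemma ιE_fst : ιE C ≫ biprod.fst = ι1 C := biprod.lift_fst _ _

instance mono_ιE_f (p : ℤ) : Mono ((ιE C).f p) := by
  apply Preadditive.mono_of_cancel_zero
  intro T g hg
  have h1 : g ≫ (ι1 C).f p = 0 := by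
    rw [← ιE_fst, HomologicalComplex.comp_f, reassoc_of% hg, zero_comp]
  have h2 : g ≫ (ι2 C).f p = 0 := by
    rw [← ιE_snd, HomologicalComplex.comp_f, reassoc_of% hg, zero_comp]
  have h3 : g ≫ C.pOpcycles p = 0 := by
    have : (g ≫ C.pOpcycles p) ≫ jι _ = 0 := by rw [Category.assoc]; exact h2
    rwa [← cancel_mono (jι (C.opcycles p)), zero_comp]
  have h4 : g ≫ e1 C p = 0 := by
    have := h1 =≫ biprod.fst
    rw [Category.assoc, zero_comp] at this
    rw [← this]
    congr 1
    exact (biprod.lift_fst _ _).symm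
  have h5 : kernel.lift _ g h3 ≫ jι (Bd C p) = 0 := by
    rw [← ι_e1, kernel.lift_ι_assoc, h4]
  have h6 : kernel.lift _ g h3 = 0 := by
    rwa [← cancel_mono (jι (Bd C p)), zero_comp]
  rw [← kernel.lift_ι _ g h3, h6, zero_comp]

lemma opcyclesMap_ι2 (p : ℤ) :
    HomologicalComplex.opcyclesMap (ι2 C) p = jι (C.opcycles p) ≫ (E2 C).pOpcycles p := by
  rw [← cancel_epi (C.pOpcycles p), HomologicalComplex.p_opcyclesMap]
  change (C.pOpcycles p ≫ jι _) ≫ _ = _
  rw [Category.assoc]

instance mono_homologyMap_ι2 (p : ℤ) : Mono (HomologicalComplex.homologyMap (ι2 C) p) := by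
  have h1 : IsIso ((E2 C).homologyι p) :=
    (E2 C).isIso_homologyι p (p + 1) (by simp) (E2_d C _ _)
  have h2 : IsIso ((E2 C).pOpcycles p) :=
    (E2 C).isIso_pOpcycles (p - 1) p (by simp) (E2_d C _ _)
  have h3 : Mono (HomologicalComplex.homologyMap (ι2 C) p ≫ (E2 C).homologyι p) := by
    rw [HomologicalComplex.homologyι_naturality, opcyclesMap_ι2]
    have h4 : Mono ((E2 C).pOpcycles p) := IsIso.mono_of_iso _
    have h5 : Mono (jι (C.opcycles p) ≫ (E2 C).pOpcycles p) :=
      @mono_comp _ _ _ _ _ (jι (C.opcycles p)) inferInstance ((E2 C).pOpcycles p) h4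
    exact mono_comp _ _
  exact mono_of_mono _ ((E2 C).homologyι p)

instance mono_homologyMap_ιE (p : ℤ) : Mono (HomologicalComplex.homologyMap (ιE C) p) := by
  have : Mono (HomologicalComplex.homologyMap (ιE C) p ≫
      HomologicalComplex.homologyMap (biprod.snd : E C ⟶ E2 C) p) := by
    rw [← HomologicalComplex.homologyMap_comp, ιE_snd]
    infer_instance
  exact mono_of_mono _ (HomologicalComplex.homologyMap (biprod.snd : E C ⟶ E2 C) p)

section Inj

omit [EnoughInjectives A] in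
lemma aux1 {X Y Z : A} : (biprod.fst ≫ biprod.inl : X ⊞ Y ⟶ X ⊞ Y) ≫
    (biprod.snd ≫ biprod.inl : X ⊞ Y ⟶ Y ⊞ Z) = 0 := by simp

omit [EnoughInjectives A] in
lemma aux2 {T X Y Z : A} (z : T ⟶ X ⊞ Y)
    (hz : z ≫ (biprod.snd ≫ biprod.inl : X ⊞ Y ⟶ Y ⊞ Z) = 0) :
    z ≫ biprod.fst ≫ biprod.inl = z := by
  have h : z ≫ biprod.snd = 0 := by
    rw [← cancel_mono (biprod.inl : Y ⟶ Y ⊞ Z), Category.assoc, hz, zero_comp]
  ext
  · simp
  · simp [h]

omit [EnoughInjectives A] in
lemma aux3 {T W X Y Z : A} (x : T ⟶ X ⊞ Y)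
    (hx : x ≫ (biprod.snd ≫ biprod.inl : X ⊞ Y ⟶ Y ⊞ Z) = 0) :
    x = (x ≫ (biprod.fst ≫ biprod.inr : X ⊞ Y ⟶ W ⊞ X)) ≫
      (biprod.snd ≫ biprod.inl : W ⊞ X ⟶ X ⊞ Y) := by
  conv_lhs => rw [← aux2 x hx]
  simp

instance inj_E1_X (p : ℤ) : Injective ((E1 C).X p) :=
  inferInstanceAs (Injective (J1 C p ⊞ J1 C (p + 1)))

instance inj_E2_X (p : ℤ) : Injective ((E2 C).X p) :=
  inferInstanceAs (Injective (J2 C p))

instance inj_E1_cycles (p : ℤ) : Injective ((E1 C).cycles p) := by
  let k : (E1 C).X p ⟶ (E1 C).X p :=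
    (biprod.fst ≫ biprod.inl : J1 C p ⊞ J1 C (p + 1) ⟶ J1 C p ⊞ J1 C (p + 1))
  have hk : k ≫ (E1 C).d p (p + 1) = 0 := by rw [E1_d]; exact aux1
  let r : (E1 C).X p ⟶ (E1 C).cycles p := (E1 C).liftCycles k (p + 1) (by simp) hk
  have hr : (E1 C).iCycles p ≫ r = 𝟙 _ := by
    rw [← cancel_mono ((E1 C).iCycles p), Category.assoc, HomologicalComplex.liftCycles_i,
      Category.id_comp]
    refine aux2 (Z := J1 C (p + 1 + 1)) _ ?_
    have := (E1 C).iCycles_d p (p + 1)
    rwa [E1_d] at this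
  exact Retract.injective (Y := (E1 C).X p) ⟨(E1 C).iCycles p, r, hr⟩

lemma exactAt_E1_succ (q : ℤ) : (E1 C).ExactAt (q + 1) := by
  rw [(E1 C).exactAt_iff_exact_up_to_refinements q (q + 1) (q + 1 + 1) (by simp) (by simp)]
  intro T x₂ hx₂
  rw [E1_d] at hx₂
  refine ⟨T, 𝟙 T, inferInstance,
    x₂ ≫ (biprod.fst ≫ biprod.inr : J1 C (q + 1) ⊞ J1 C (q + 1 + 1) ⟶ J1 C q ⊞ J1 C (q + 1)), ?_⟩
  rw [Category.id_comp, E1_d]
  exact aux3 (W := J1 C q) (Z := J1 C (q + 1 + 1 + 1)) x₂ hx₂

lemma isZero_E1_homology (p : ℤ) : IsZero ((E1 C).homology p) := by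
  have := exactAt_E1_succ C (p - 1)
  rw [sub_add_cancel] at this
  exact this.isZero_homology

instance inj_E2_cycles (p : ℤ) : Injective ((E2 C).cycles p) :=
  Injective.of_iso ((E2 C).iCyclesIso p (p + 1) (by simp) (E2_d C _ _)).symm inferInstance

instance inj_E2_homology (p : ℤ) : Injective ((E2 C).homology p) :=
  Injective.of_iso ((E2 C).isoHomologyπ (p - 1) p (by simp) (E2_d C _ _)) inferInstance

omit [EnoughInjectives A] in
lemma injective_of_isZero {X : A} (h : IsZero X) : Injective X :=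
  ⟨fun _ _ _ => ⟨0, h.eq_of_tgt _ _⟩⟩

lemma inj_F_E (F : CochainComplex A ℤ ⥤ A) [F.Additive] (h1 : Injective (F.obj (E1 C)))
    (h2 : Injective (F.obj (E2 C))) : Injective (F.obj (E C)) := by
  have : PreservesBinaryBiproducts F := preservesBinaryBiproducts_of_preservesBiproducts F
  exact Injective.of_iso (F.mapBiprod (E1 C) (E2 C)).symm inferInstance

omit [EnoughInjectives A] in
instance cyclesFunctor_additive (p : ℤ) :
    (HomologicalComplex.cyclesFunctor A (ComplexShape.up ℤ) p).Additive where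
  map_add {K L φ ψ} := by
    change HomologicalComplex.cyclesMap (φ + ψ) p =
      HomologicalComplex.cyclesMap φ p + HomologicalComplex.cyclesMap ψ p
    rw [← cancel_mono (L.iCycles p), Preadditive.add_comp]
    simp only [HomologicalComplex.cyclesMap_i, HomologicalComplex.add_f_apply,
      Preadditive.comp_add]

instance inj_E_X (p : ℤ) : Injective ((E C).X p) :=
  inj_F_E C (HomologicalComplex.eval A _ p) (inj_E1_X C p) (inj_E2_X C p)

instance inj_E_cycles (p : ℤ) : Injective ((E C).cycles p) :=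
  inj_F_E C (HomologicalComplex.cyclesFunctor A _ p) (inj_E1_cycles C p) (inj_E2_cycles C p)

instance inj_E_homology (p : ℤ) : Injective ((E C).homology p) :=
  inj_F_E C (HomologicalComplex.homologyFunctor A _ p)
    (injective_of_isZero (isZero_E1_homology C p)) (inj_E2_homology C p)

lemma isZero_E_X (n : ℤ) [C.IsStrictlyGE n] (p : ℤ) (hp : p < n) : IsZero ((E C).X p) := by
  have hX : IsZero (C.X p) := C.isZero_of_isStrictlyGE n p hp
  have hd : C.d p (p + 1) = 0 := hX.eq_of_src _ _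
  have h1 : IsZero (Bd C p) := IsZero.of_mono (kernel.ι _) hX
  have h2 : IsZero (Bd C (p + 1)) := by
    have := C.isIso_pOpcycles p (p + 1) (by simp) hd
    exact isZero_kernel_of_mono _
  have h3 : IsZero (C.opcycles p) := IsZero.of_epi (C.pOpcycles p) hX
  have h4 : IsZero ((E1 C).X p) := by
    change IsZero (J1 C p ⊞ J1 C (p + 1))
    rw [IsZero.iff_id_eq_zero]
    ext <;> first | exact (isZero_Jf h1).eq_of_tgt _ _ | exact (isZero_Jf h2).eq_of_tgt _ _
  have h5 : IsZero ((E2 C).X p) := isZero_Jf h3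
  have : PreservesBinaryBiproducts (HomologicalComplex.eval A (ComplexShape.up ℤ) p) :=
    preservesBinaryBiproducts_of_preservesBiproducts _
  refine IsZero.of_iso ?_ ((HomologicalComplex.eval A (ComplexShape.up ℤ) p).mapBiprod (E1 C) (E2 C))
  rw [IsZero.iff_id_eq_zero]
  ext <;> first | exact h4.eq_of_tgt _ _ | exact h5.eq_of_tgt _ _

end Inj

end Groth.Agent.Lib.Helper11.CE
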