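import Groth.Prelude.Def_CE
import Mathlib
import Groth.Agent.Lib.Helper11.CE1

set_option autoImplicit false
set_option linter.unusedSectionVars false
universe v u
open CategoryTheory CategoryTheory.Limits ZeroObject HomologicalComplex

namespace Groth.Agent.Lib.Helper11.CE

variable {A : Type u} [Category.{v} A] [Abelian A]

section SES
variable {S : ShortComplex (CochainComplex A ℤ)} (hS : S.ShortExact)
  (hH : ∀ p : ℤ, Mono (homologyMap S.f p))
include hS hH

lemma ses_homology (p : ℤ) : (ShortComplex.mk (homologyMap S.f p) (homologyMap S.g p)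
    (by rw [← homologyMap_comp, S.zero, homologyMap_zero])).ShortExact := by
  have hδ : hS.δ p (p + 1) rfl = 0 := by
    have := hH (p + 1)
    rw [← cancel_mono (homologyMap S.f (p + 1)), zero_comp]
    exact hS.δ_comp p (p + 1) rfl
  have : Epi (homologyMap S.g p) := (hS.homology_exact₃ p (p + 1) rfl).epi_f hδ
  exact { exact := hS.homology_exact₂ p
          mono_f := hH p
          epi_g := this }

lemma epi_cyclesMap_g (p : ℤ) : Epi (cyclesMap S.g p) := by
  have := hS.mono_f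
  have := hS.epi_g
  have hf : ∀ q, Mono (S.f.f q) := fun q => inferInstance
  have hg : ∀ q, Epi (S.g.f q) := fun q => inferInstance
  have hex : ∀ q, (ShortComplex.mk (S.f.f q) (S.g.f q) (by
      rw [← comp_f, S.zero, zero_f])).Exact := fun q =>
    (hS.map_of_exact (eval A (ComplexShape.up ℤ) q)).exact
  rw [epi_iff_surjective_up_to_refinements]
  intro T z'
  -- lift `z' ≫ iCycles` to `E^p`
  obtain ⟨T₁, π₁, hπ₁, e, he⟩ := surjective_up_to_refinements_of_epi (S.g.f p)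
    (z' ≫ S.X₃.iCycles p)
  -- `e ≫ d` maps to zero in `C'`
  have h1 : (e ≫ S.X₂.d p (p + 1)) ≫ S.g.f (p + 1) = 0 := by
    rw [Category.assoc, ← S.g.comm, ← Category.assoc, ← he]
    simp
  obtain ⟨T₂, π₂, hπ₂, c, hc⟩ := (hex (p + 1)).exact_up_to_refinements _ h1
  dsimp at c hc
  -- `c` is a cycle
  have hc0 : c ≫ S.X₁.d (p + 1) (p + 1 + 1) = 0 := by
    have := hf (p + 1 + 1)
    rw [← cancel_mono (S.f.f (p + 1 + 1)), Category.assoc, zero_comp, ← S.f.comm,
      ← Category.assoc, ← hc]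
    simp
  -- its class is zero
  have hcl : S.X₁.liftCycles c (p + 1 + 1) (by simp) hc0 ≫ S.X₁.homologyπ (p + 1) = 0 := by
    have := hH (p + 1)
    rw [← cancel_mono (homologyMap S.f (p + 1)), zero_comp, Category.assoc,
      homologyπ_naturality, liftCycles_comp_cyclesMap_assoc]
    rw [S.X₂.liftCycles_comp_homologyπ_eq_zero_iff_up_to_refinements p (p + 1) (p + 1 + 1)
      (by simp) (by simp)]
    exact ⟨T₂, 𝟙 _, inferInstance, π₂ ≫ e, by rw [Category.id_comp, ← hc, Category.assoc]⟩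
  obtain ⟨T₃, π₃, hπ₃, b, hb⟩ := (S.X₁.liftCycles_comp_homologyπ_eq_zero_iff_up_to_refinements
    p (p + 1) (p + 1 + 1) (by simp) (by simp) c hc0).1 hcl
  -- the corrected lift
  let e' : T₃ ⟶ S.X₂.X p := π₃ ≫ π₂ ≫ e - b ≫ S.f.f p
  have he' : e' ≫ S.X₂.d p (p + 1) = 0 := by
    simp only [e', Preadditive.sub_comp, Category.assoc]
    rw [S.f.comm, ← reassoc_of% hb, ← hc, sub_eq_zero]
  refine ⟨T₃, π₃ ≫ π₂ ≫ π₁, inferInstance, S.X₂.liftCycles e' (p + 1) (by simp) he', ?_⟩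
  rw [← cancel_mono (S.X₃.iCycles p), Category.assoc, Category.assoc, Category.assoc,
    liftCycles_comp_cyclesMap, liftCycles_i]
  simp only [e', Preadditive.sub_comp, Category.assoc]
  rw [← comp_f, S.zero, zero_f, comp_zero, sub_zero, he]

lemma ses_cycles (p : ℤ) : (ShortComplex.mk (cyclesMap S.f p) (cyclesMap S.g p)
    (by rw [← cyclesMap_comp, S.zero, cyclesMap_zero])).ShortExact := by
  have := hS.mono_f
  have hm : Mono (cyclesMap S.f p ≫ S.X₂.iCycles p) := by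
    rw [cyclesMap_i]; infer_instance
  exact { exact := cycles_left_exact S hS.exact p
          mono_f := mono_of_mono _ (S.X₂.iCycles p)
          epi_g := epi_cyclesMap_g hS hH p }

omit hH in
lemma ses_eval (p : ℤ) : (ShortComplex.mk (S.f.f p) (S.g.f p)
    (by rw [← comp_f, S.zero, zero_f])).ShortExact :=
  hS.map_of_exact (eval A (ComplexShape.up ℤ) p)

end SES

section Splice

lemma exact_splice {X₀ M₁ X₁ M₂ X₂ : A} (π₀ : X₀ ⟶ M₁) (i₁ : M₁ ⟶ X₁) (π₁ : X₁ ⟶ M₂)
    (i₂ : M₂ ⟶ X₂) [Epi π₀] [Mono i₂] (w : i₁ ≫ π₁ = 0)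
    (h : (ShortComplex.mk i₁ π₁ w).Exact) :
    (ShortComplex.mk (π₀ ≫ i₁) (π₁ ≫ i₂) (by simp [reassoc_of% w])).Exact := by
  let S' : ShortComplex A := ShortComplex.mk (π₀ ≫ i₁) π₁ (by simp [w])
  let φ₁ : S' ⟶ ShortComplex.mk i₁ π₁ w :=
    { τ₁ := π₀, τ₂ := 𝟙 _, τ₃ := 𝟙 _ }
  let φ₂ : S' ⟶ ShortComplex.mk (π₀ ≫ i₁) (π₁ ≫ i₂) (by simp [reassoc_of% w]) :=
    { τ₁ := 𝟙 _, τ₂ := 𝟙 _, τ₃ := i₂ }
  have : Epi φ₁.τ₁ := inferInstanceAs (Epi π₀)
  have : IsIso φ₁.τ₂ := inferInstanceAs (IsIso (𝟙 _))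
  have : Mono φ₁.τ₃ := inferInstanceAs (Mono (𝟙 _))
  have : Epi φ₂.τ₁ := inferInstanceAs (Epi (𝟙 _))
  have : IsIso φ₂.τ₂ := inferInstanceAs (IsIso (𝟙 _))
  have : Mono φ₂.τ₃ := inferInstanceAs (Mono i₂)
  have h' : S'.Exact := (ShortComplex.exact_iff_of_epi_of_isIso_of_mono φ₁).2 h
  exact (ShortComplex.exact_iff_of_epi_of_isIso_of_mono φ₂).1 h'

lemma exact_splice₀ {M₀ X₀ M₁ X₁ : A} (i₀ : M₀ ⟶ X₀) (π₀ : X₀ ⟶ M₁) (i₁ : M₁ ⟶ X₁) [Mono i₁]
    (w : i₀ ≫ π₀ = 0) (h : (ShortComplex.mk i₀ π₀ w).Exact) :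
    (ShortComplex.mk i₀ (π₀ ≫ i₁) (by simp [reassoc_of% w])).Exact := by
  let φ₂ : ShortComplex.mk i₀ π₀ w ⟶ ShortComplex.mk i₀ (π₀ ≫ i₁) (by simp [reassoc_of% w]) :=
    { τ₁ := 𝟙 _, τ₂ := 𝟙 _, τ₃ := i₁ }
  have : Epi φ₂.τ₁ := inferInstanceAs (Epi (𝟙 _))
  have : IsIso φ₂.τ₂ := inferInstanceAs (IsIso (𝟙 _))
  have : Mono φ₂.τ₃ := inferInstanceAs (Mono i₁)
  exact (ShortComplex.exact_iff_of_epi_of_isIso_of_mono φ₂).1 h

lemma exact_of_eq {X Y Z : A} {f f' : X ⟶ Y} {g g' : Y ⟶ Z} (w : f ≫ g = 0) (hf : f = f')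
    (hg : g = g') (h : (ShortComplex.mk f g w).Exact) :
    (ShortComplex.mk f' g' (by subst hf hg; exact w)).Exact := by
  subst hf hg; exact h

end Splice

section Iter
variable [EnoughInjectives A] (K : CochainComplex A ℤ)

/-- the iterated cokernels. -/
noncomputable def Cq : ℕ → CochainComplex A ℤ
  | 0 => K
  | q + 1 => cokernel (ιE (Cq q))

/-- the rows. -/
noncomputable abbrev Eq (q : ℕ) : CochainComplex A ℤ := E (Cq K q)
/-- the embeddings. -/
noncomputable abbrev ιq (q : ℕ) : Cq K q ⟶ Eq K q := ιE (Cq K q)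
/-- the projections. -/
noncomputable def πq (q : ℕ) : Eq K q ⟶ Cq K (q + 1) := cokernel.π (ιE (Cq K q))

lemma ιq_πq (q : ℕ) : ιq K q ≫ πq K q = 0 := cokernel.condition _

instance (q : ℕ) : Mono (ιq K q) := HomologicalComplex.mono_of_mono_f _ (fun _ => inferInstance)
instance (q : ℕ) : Epi (πq K q) := inferInstanceAs (Epi (cokernel.π _))

lemma hSq (q : ℕ) : (ShortComplex.mk (ιq K q) (πq K q) (ιq_πq K q)).ShortExact :=
  { exact := ShortComplex.exact_cokernel _
    mono_f := inferInstanceAs (Mono (ιq K q))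
    epi_g := inferInstanceAs (Epi (πq K q)) }

/-- vertical differential. -/
noncomputable def dv (q : ℕ) : Eq K q ⟶ Eq K (q + 1) := πq K q ≫ ιq K (q + 1)

lemma dv_comp (q : ℕ) : dv K q ≫ dv K (q + 1) = 0 := by
  simp [dv, reassoc_of% (ιq_πq K (q + 1))]

/-- objects of the double complex. -/
noncomputable def IX : ℤ → CochainComplex A ℤ
  | Int.ofNat q => Eq K q
  | Int.negSucc _ => 0

/-- differentials of the double complex. -/
noncomputable def Id : ∀ n : ℤ, IX K n ⟶ IX K (n + 1)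
  | Int.ofNat q => dv K q
  | Int.negSucc _ => 0

lemma Id_comp : ∀ n : ℤ, Id K n ≫ Id K (n + 1) = 0
  | Int.ofNat q => dv_comp K q
  | Int.negSucc _ => zero_comp

/-- the double complex. -/
noncomputable def I : CochainComplex (CochainComplex A ℤ) ℤ :=
  CochainComplex.of (IX K) (Id K) (Id_comp K)

lemma I_d (n : ℤ) : (I K).d n (n + 1) = Id K n := by
  dsimp only [I]; exact CochainComplex.of_d _ _ _

/-- the augmentation. -/
noncomputable def ε : K ⟶ (I K).X 0 := ιq K 0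

lemma ε_d : ε K ≫ (I K).d 0 1 = 0 := by
  have : (I K).d 0 1 = dv K 0 := I_d K 0
  rw [this]
  change ιq K 0 ≫ πq K 0 ≫ ιq K 1 = 0
  rw [reassoc_of% (ιq_πq K 0), zero_comp]

lemma isInjRes (F : CochainComplex A ℤ ⥤ A) [F.PreservesZeroMorphisms]
    (hses : ∀ q, (ShortComplex.mk (F.map (ιq K q)) (F.map (πq K q))
      (by rw [← F.map_comp, ιq_πq, F.map_zero])).ShortExact)
    (hinj : ∀ q, Injective (F.obj (Eq K q))) :
    CE.IsInjResolutionVia ((F.mapHomologicalComplex (ComplexShape.up ℤ)).obj (I K))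
      (F.obj K) (F.map (ε K)) := by
  have hd : ∀ k : ℕ, ((F.mapHomologicalComplex (ComplexShape.up ℤ)).obj (I K)).d
      (Int.ofNat k) (Int.ofNat (k + 1)) = F.map (πq K k) ≫ F.map (ιq K (k + 1)) := fun k => by
    change F.map ((I K).d (Int.ofNat k) (Int.ofNat k + 1)) = _
    rw [I_d, ← F.map_comp]
    rfl
  have h0 : F.map (ε K) ≫ ((F.mapHomologicalComplex (ComplexShape.up ℤ)).obj (I K)).d 0 1 = 0 := by
    change F.map (ε K) ≫ F.map ((I K).d 0 1) = 0
    rw [← F.map_comp, ε_d, F.map_zero]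
  have hz : ∀ k : ℕ, IsZero (((F.mapHomologicalComplex (ComplexShape.up ℤ)).obj (I K)).X
      (Int.negSucc k)) := fun k => F.map_isZero (isZero_zero _)
  have hepi : ∀ q, Epi (F.map (πq K q)) := fun q => (hses q).epi_g
  have hmono : ∀ q, Mono (F.map (ιq K q)) := fun q => (hses q).mono_f
  refine ⟨h0, ?_, ?_, ?_, hmono 0, ?_⟩
  · rw [CochainComplex.isStrictlyGE_iff]
    intro i hi
    obtain ⟨k, rfl⟩ := Int.eq_negSucc_of_lt_zero hi
    exact hz k
  · intro q
    cases q with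
    | ofNat k => exact hinj k
    | negSucc k => exact injective_of_isZero (hz k)
  · intro q hq
    cases q with
    | ofNat k =>
      cases k with
      | zero => exact absurd rfl hq
      | succ k =>
        rw [HomologicalComplex.exactAt_iff' _ (Int.ofNat k) (Int.ofNat (k + 1)) (Int.ofNat (k + 2))
          (by simp) (by simp; ring)]
        have := exact_splice (F.map (πq K k)) (F.map (ιq K (k + 1))) (F.map (πq K (k + 1)))
          (F.map (ιq K (k + 2))) _ (hses (k + 1)).exact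
        exact exact_of_eq _ (hd k).symm (hd (k + 1)).symm this
    | negSucc k => exact ShortComplex.exact_of_isZero_X₂ _ (hz k)
  · have := exact_splice₀ (F.map (ιq K 0)) (F.map (πq K 0)) (F.map (ιq K 1)) _ (hses 0).exact
    exact exact_of_eq _ rfl (hd 0).symm this

lemma Cq_isStrictlyGE (n : ℤ) [K.IsStrictlyGE n] : ∀ q, (Cq K q).IsStrictlyGE n
  | 0 => inferInstanceAs (K.IsStrictlyGE n)
  | q + 1 => by
    have := Cq_isStrictlyGE n q
    rw [CochainComplex.isStrictlyGE_iff]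
    intro p hp
    have hE : IsZero ((Eq K q).X p) := isZero_E_X (Cq K q) n p hp
    have : Epi ((πq K q).f p) := inferInstance
    exact IsZero.of_epi ((πq K q).f p) hE

lemma isZero_I (n : ℤ) [K.IsStrictlyGE n] (p q : ℤ) (hp : p < n) : IsZero (((I K).X q).X p) := by
  cases q with
  | ofNat k =>
    have := Cq_isStrictlyGE K n k
    exact isZero_E_X (Cq K k) n p hp
  | negSucc k =>
    exact (HomologicalComplex.eval A (ComplexShape.up ℤ) p).map_isZero (isZero_zero _)

theorem main (n : ℤ) [K.IsStrictlyGE n] :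
    ∃ (I : CochainComplex (CochainComplex A ℤ) ℤ) (ε : K ⟶ I.X 0) (hε : ε ≫ I.d 0 1 = 0),
      (∃ i : ℤ, ∀ p q : ℤ, p < i → IsZero ((I.X q).X p)) ∧
      (∀ p : ℤ, CE.IsInjResolutionVia (((HomologicalComplex.eval A (ComplexShape.up ℤ) p).mapHomologicalComplex (ComplexShape.up ℤ)).obj I) (K.X p) (ε.f p)) ∧
      (∀ p : ℤ, CE.IsInjResolutionVia (((HomologicalComplex.cyclesFunctor A (ComplexShape.up ℤ) p).mapHomologicalComplex (ComplexShape.up ℤ)).obj I) (K.cycles p) (HomologicalComplex.cyclesMap ε p)) ∧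
      (∀ p : ℤ, CE.IsInjResolutionVia (((HomologicalComplex.homologyFunctor A (ComplexShape.up ℤ) p).mapHomologicalComplex (ComplexShape.up ℤ)).obj I) (K.homology p) (HomologicalComplex.homologyMap ε p)) := by
  refine ⟨I K, ε K, ε_d K, ⟨n, fun p q hp => isZero_I K n p q hp⟩, ?_, ?_, ?_⟩
  · intro p
    exact isInjRes K (HomologicalComplex.eval A (ComplexShape.up ℤ) p)
      (fun q => ses_eval (hSq K q) p) (fun q => inj_E_X (Cq K q) p)
  · intro p
    exact isInjRes K (HomologicalComplex.cyclesFunctor A (ComplexShape.up ℤ) p)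
      (fun q => ses_cycles (hSq K q) (fun p => mono_homologyMap_ιE _ p) p)
      (fun q => inj_E_cycles (Cq K q) p)
  · intro p
    exact isInjRes K (HomologicalComplex.homologyFunctor A (ComplexShape.up ℤ) p)
      (fun q => ses_homology (hSq K q) (fun p => mono_homologyMap_ιE _ p) p)
      (fun q => inj_E_homology (Cq K q) p)

end Iter

end Groth.Agent.Lib.Helper11.CE
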