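import Mathlib
import Groth.Prelude.Def_GrLC
import Groth.Prelude.Def_GrLC2
import Groth.Agent.Lib.Helper11.GrCoreH

/-!
# Associated primes and the zeroth Bass number; injectivity from Bass numbers
-/

set_option autoImplicit false
set_option linter.unusedSectionVars false
universe u

open CategoryTheory CategoryTheory.Abelian

namespace Groth.Agent.Lib.Helper11.GrCore

open DirectSum GrLC Groth.Agent.Lib.Helper11.GrLCLib Groth.Agent.Lib.Helper11.GrExt

section General

variable {R : Type u} [CommRing R] [IsNoetherianRing R]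

theorem bassNum_zero_ne_zero_iff_mem_associatedPrimes (P : Ideal R) [hP : P.IsPrime] (M : Type u)
    [AddCommGroup M] [Module R M] :
    GrLC.bassNum P M 0 ≠ 0 ↔ P ∈ associatedPrimes R M := by
  have hPp := Groth.Agent.Lib.Helper11.ExtLoc.P_of_finite P.primeCompl (ModuleCat.of R M) 0
    (ModuleCat.of R (R ⧸ P))
  have hunit : ∀ s : P.primeCompl, IsUnit (algebraMap R (Localization P.primeCompl) (s : R)) :=
    fun s => IsLocalization.map_units _ s
  constructor
  · intro h
    have hns : ¬ Subsingleton (Ext.{u}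
        ((ModuleCat.localizedModuleFunctor.{u} P.primeCompl).obj (ModuleCat.of R (R ⧸ P)))
        ((ModuleCat.localizedModuleFunctor.{u} P.primeCompl).obj (ModuleCat.of R M)) 0) :=
      fun hs => h (bassNum_eq_zero_of_subsingleton_locExt P M 0 hs)
    rw [not_subsingleton_iff_nontrivial] at hns
    obtain ⟨y, hy⟩ := exists_ne (0 : Ext.{u}
        ((ModuleCat.localizedModuleFunctor.{u} P.primeCompl).obj (ModuleCat.of R (R ⧸ P)))
        ((ModuleCat.localizedModuleFunctor.{u} P.primeCompl).obj (ModuleCat.of R M)) 0)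
    obtain ⟨e, s, hs⟩ := hPp.1 y
    have hφe : e.mapExactFunctor (ModuleCat.localizedModuleFunctor.{u} P.primeCompl) ≠ 0 := by
      rw [← hs]
      intro h0
      exact hy (((hunit s).smul_eq_zero).1 h0)
    rw [AssociatedPrimes.mem_iff, isAssociatedPrime_iff_exists_injective_linearMap]
    refine ⟨hP, hom0 (R ⧸ P) M e, ?_⟩
    rw [← LinearMap.ker_eq_bot, LinearMap.ker_eq_bot']
    intro x hx
    obtain ⟨x, rfl⟩ := Ideal.Quotient.mk_surjective x
    by_contra hx0
    have hxP : x ∉ P := fun h => hx0 (Ideal.Quotient.eq_zero_iff_mem.2 h)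
    have h1 : x • (hom0 (R ⧸ P) M e) = 0 := by
      apply LinearMap.ext
      intro y
      obtain ⟨y, rfl⟩ := Ideal.Quotient.mk_surjective y
      rw [LinearMap.smul_apply, LinearMap.zero_apply, ← map_smul]
      have h2 : x • (Ideal.Quotient.mk P y) = y • (Ideal.Quotient.mk P x) := by
        rw [Algebra.smul_def, Algebra.smul_def, Ideal.Quotient.algebraMap_eq, ← map_mul, ← map_mul,
          mul_comm]
      rw [h2, map_smul, hx, smul_zero]
    have h2 : x • e = 0 := by
      apply (hom0 (R ⧸ P) M).injective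
      rw [map_smul, h1, map_zero]
    apply hφe
    have h3 := Groth.Agent.Lib.Helper11.ExtLoc.mapExactFunctor_smul P.primeCompl x e
    rw [h2, Ext.mapExactFunctor_zero] at h3
    exact ((hunit ⟨x, hxP⟩).smul_eq_zero).1 h3.symm
  · intro h hb
    rw [AssociatedPrimes.mem_iff, isAssociatedPrime_iff_exists_injective_linearMap] at h
    obtain ⟨_, f, hf⟩ := h
    have hss := subsingleton_locExt_of_bassNum_eq_zero P M 0 hb
    obtain ⟨s, hs⟩ := (Groth.Agent.Lib.Helper11.ExtLoc.mapExactFunctor_eq_zero_iff P.primeCompl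
      hPp ((hom0 (R ⧸ P) M).symm f)).1 (hss.elim _ _)
    rw [← map_smul] at hs
    have h1 : (s : R) • f = 0 := by
      have := (hom0 (R ⧸ P) M).symm.injective (hs.trans (map_zero _).symm)
      exact this
    have h2 := LinearMap.congr_fun h1 (Ideal.Quotient.mk P 1)
    rw [LinearMap.smul_apply, LinearMap.zero_apply, ← map_smul] at h2
    have h3 := hf (h2.trans (map_zero f).symm)
    rw [Algebra.smul_def, Ideal.Quotient.algebraMap_eq, ← map_mul, mul_one,
      Ideal.Quotient.eq_zero_iff_mem] at h3
    exact s.2 h3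

/-- If all Bass numbers in positive degrees vanish, the module is injective. -/
theorem injective_of_bassNum (M : Type u) [AddCommGroup M] [Module R M]
    (h : ∀ (p : Ideal R) [p.IsPrime] (i : ℕ), 1 ≤ i → GrLC.bassNum p M i = 0) :
    Module.Injective R M := by
  rw [Module.injective_iff_injective_object]
  refine Groth.Agent.Lib.Helper18.injective_of_ext_one R (ModuleCat.of R M) fun I => ?_
  refine Groth.Agent.Lib.Helper16.Depth.subsingleton_ext_of_forall_prime (ModuleCat.of R M) 1
    Set.univ (fun q _ => subsingleton_ext_quot_prime_of_bassNum M 1 h q.asIdeal q.2 1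
      le_rfl) (R ⧸ I) (Set.subset_univ _)

/-- Bass numbers of an injective module vanish in positive degrees. -/
theorem bassNum_eq_zero_of_injective (M : Type u) [AddCommGroup M] [Module R M]
    [Module.Injective R M] (p : Ideal R) [p.IsPrime] (i : ℕ) (hi : 1 ≤ i) :
    GrLC.bassNum p M i = 0 := by
  obtain ⟨n, rfl⟩ : ∃ n, i = n + 1 := ⟨i - 1, by omega⟩
  apply bassNum_eq_zero_of_subsingleton_ext
  have : Injective (ModuleCat.of R M) := (Module.injective_iff_injective_object R M).1 inferInstance
  exact ⟨fun a b => by rw [Ext.eq_zero_of_injective a, Ext.eq_zero_of_injective b]⟩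

end General

section Int

variable {R : Type u} [CommRing R] [IsNoetherianRing R] (𝒜 : ℤ → AddSubgroup R) [GradedRing 𝒜]
variable {M : Type u} [AddCommGroup M] [Module R M] (ℳ : ℤ → AddSubgroup M)
  [DirectSum.Decomposition ℳ] [SetLike.GradedSMul 𝒜 ℳ]

include ℳ in
theorem not_injective_iff_of_isStarInj_int (hM : IsStarInj 𝒜 ℳ) :
    ¬ Module.Injective R M ↔ ∃ p : Ideal R, p.IsPrime ∧ ¬ Ideal.IsHomogeneous 𝒜 p ∧
      (Ideal.homogeneousCore 𝒜 p).toIdeal ∈ associatedPrimes R M := by
  constructor
  · intro hni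
    by_contra hcon
    push Not at hcon
    apply hni
    apply injective_of_bassNum
    intro p hp i hi
    by_cases hph : Ideal.IsHomogeneous 𝒜 p
    · exact bassNum_eq_zero_of_isStarInj_homogeneous 𝒜 ℳ hM p hph i hi
    · by_cases hi2 : 2 ≤ i
      · exact bassNum_eq_zero_of_isStarInj_int 𝒜 ℳ hM p i hi2
      · have hi1 : i = 0 + 1 := by omega
        have hPprime : (Ideal.homogeneousCore 𝒜 p).toIdeal.IsPrime :=
          Ideal.IsPrime.homogeneousCore hp
        rw [hi1, (bassNum_int 𝒜 ℳ p hph).2 0]
        by_contra hne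
        exact hcon p hp hph ((bassNum_zero_ne_zero_iff_mem_associatedPrimes _ M).1 hne)
  · rintro ⟨p, hp, hph, hass⟩ hinj
    have hPprime : (Ideal.homogeneousCore 𝒜 p).toIdeal.IsPrime :=
      Ideal.IsPrime.homogeneousCore hp
    have h1 := bassNum_eq_zero_of_injective M p 1 le_rfl
    rw [show (1 : ℕ) = 0 + 1 from rfl, (bassNum_int 𝒜 ℳ p hph).2 0] at h1
    exact (bassNum_zero_ne_zero_iff_mem_associatedPrimes _ M).2 hass h1

end Int

end Groth.Agent.Lib.Helper11.GrCore
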