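import Mathlib
import Groth.Prelude.Def_GrLC
import Groth.Agent.Lib.Helper11.GrLC
import Groth.Agent.Lib.Helper11.GrLCDecomp
import Groth.Agent.Lib.Helper11.GrLCSubQuot
import Groth.Agent.Lib.Helper11.GrLCHull

/-!
# The graded local cohomology computed from a *injective resolution is graded
-/

set_option autoImplicit false
set_option linter.unusedSectionVars false
universe u

namespace Groth.Agent.Lib.Helper11.GrLCLib

open DirectSum GrLC

variable {ι : Type} [DecidableEq ι] [AddCommGroup ι]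
variable {R : Type u} [CommRing R] (𝒜 : ι → AddSubgroup R) [GradedRing 𝒜]

lemma isHomogeneous_pow (a : HomogeneousIdeal 𝒜) (n : ℕ) : (a.toIdeal ^ n).IsHomogeneous 𝒜 := by
  induction n with
  | zero => rw [pow_zero, Ideal.one_eq_top]; exact Ideal.IsHomogeneous.top 𝒜
  | succ n ih => rw [pow_succ]; exact ih.mul a.isHomogeneous

variable {X : Type u} [AddCommGroup X] [Module R X] (𝒳 : ι → AddSubgroup X) [DirectSum.Decomposition 𝒳]
  [SetLike.GradedSMul 𝒜 𝒳]

/-- The torsion submodule of a homogeneous ideal is homogeneous. -/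
lemma gam_isHomogeneous (a : HomogeneousIdeal 𝒜) : (gam a.toIdeal X).IsHomogeneous 𝒳 := by
  classical
  rintro g x ⟨n, hn⟩
  refine ⟨n, fun r hr => ?_⟩
  have hpow := isHomogeneous_pow 𝒜 a n
  rw [← DirectSum.sum_support_decompose 𝒜 r, Finset.sum_smul]
  refine Finset.sum_eq_zero (fun h _ => ?_)
  have hrh : (decompose 𝒜 r h : R) ∈ a.toIdeal ^ n := hpow h hr
  have h0 := hn _ hrh
  have := decompose_smul_of_mem 𝒳 𝒜 (SetLike.coe_mem (decompose 𝒜 r h)) x g
  rw [← this, h0, decompose_zero, DirectSum.zero_apply, ZeroMemClass.coe_zero]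

variable {M : Type u} [AddCommGroup M] [Module R M] (ℳ : ι → AddSubgroup M) [DirectSum.Decomposition ℳ]
  [SetLike.GradedSMul 𝒜 ℳ]

lemma cocyc_isHomogeneous (E : StarInjRes 𝒜 ℳ) (a : HomogeneousIdeal 𝒜) (i : ℕ) :
    (E.cocyc a i).IsHomogeneous (E.X i).gr :=
  isHomogeneous_inf _ (gam_isHomogeneous 𝒜 (E.X i).gr a)
    (ker_isHomogeneous (E.X i).gr (E.X (i + 1)).gr (E.d_grHom i))

lemma cobdy_isHomogeneous (E : StarInjRes 𝒜 ℳ) (a : HomogeneousIdeal 𝒜) (i : ℕ) :
    (E.cobdy a i).IsHomogeneous (E.X i).gr := by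
  cases i with
  | zero => exact isHomogeneous_bot _
  | succ n =>
    exact map_isHomogeneous (E.X n).gr (E.X (n + 1)).gr (E.d_grHom n)
      (gam_isHomogeneous 𝒜 (E.X n).gr a)

/-- The pieces of `H` are those of the quotient graded module. -/
lemma Hgr_eq (E : StarInjRes 𝒜 ℳ) (a : HomogeneousIdeal 𝒜) (i : ℕ) :
    E.Hgr a i = quotGrM (subGr (E.X i).gr (E.cocyc a i))
      ((E.cobdy a i).comap (E.cocyc a i).subtype) := by
  funext g
  ext x
  constructor
  · rintro ⟨z, hz, rfl⟩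
    exact ⟨z, hz, rfl⟩
  · rintro ⟨z, hz, rfl⟩
    exact ⟨z, hz, rfl⟩

theorem Hgr_isInternal (E : StarInjRes 𝒜 ℳ) (a : HomogeneousIdeal 𝒜) (i : ℕ) :
    DirectSum.IsInternal (E.Hgr a i) := by
  rw [Hgr_eq]
  letI := subDecomposition (E.X i).gr (E.cocyc a i) (cocyc_isHomogeneous 𝒜 ℳ E a i)
  exact quotGr_isInternal (subGr (E.X i).gr (E.cocyc a i)) _
    (comap_isHomogeneous (subGr (E.X i).gr (E.cocyc a i)) (E.X i).gr
      (subtype_isGrHom (E.X i).gr (E.cocyc a i)) (cobdy_isHomogeneous 𝒜 ℳ E a i))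

end Groth.Agent.Lib.Helper11.GrLCLib
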