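import Mathlib
import Groth.Prelude.Def_GrLC
import Groth.Prelude.Def_Wider
import Groth.Agent.Lib.Helper11.GrLC
import Groth.Agent.Lib.Helper11.GrLCEss

/-!
# The *injective hull of `R/p` for a homogeneous prime `p`
-/

set_option autoImplicit false
set_option linter.unusedSectionVars false
universe u

namespace Groth.Agent.Lib.Helper11.GrLCLib

open DirectSum GrLC

variable {ι : Type} [DecidableEq ι] [AddCommGroup ι]
variable {R : Type u} [CommRing R] (𝒜 : ι → AddSubgroup R) [GradedRing 𝒜]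
variable {E : Type u} [AddCommGroup E] [Module R E] (𝓔 : ι → AddSubgroup E) [DirectSum.Decomposition 𝓔]
  [SetLike.GradedSMul 𝒜 𝓔]

/-- A homogeneous map out of `R/p` (for the bare family `quotGr`) composed with the projection. -/
lemma isGrHom_comp_mkQ (p : HomogeneousIdeal 𝒜) {e : (R ⧸ p.toIdeal) →ₗ[R] E}
    (he : IsGrHom (quotGr 𝒜 p) 𝓔 e) : IsGrHom 𝒜 𝓔 (e ∘ₗ p.toIdeal.mkQ) := by
  intro g s hs
  exact he g _ ⟨s, hs, rfl⟩

lemma range_isHomogeneous_quotGr (p : HomogeneousIdeal 𝒜) {e : (R ⧸ p.toIdeal) →ₗ[R] E}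
    (he : IsGrHom (quotGr 𝒜 p) 𝓔 e) : (LinearMap.range e).IsHomogeneous 𝓔 := by
  have h := range_isHomogeneous 𝒜 𝓔 (isGrHom_comp_mkQ 𝒜 𝓔 p he)
  rwa [LinearMap.range_comp, LinearMap.range_eq_top.mpr p.toIdeal.mkQ_surjective,
    Submodule.map_top] at h

/-- The *injective hull map of `R/p` is essential (ungraded). -/
lemma isEssentialInj_quotGr (p : HomogeneousIdeal 𝒜) {e : (R ⧸ p.toIdeal) →ₗ[R] E}
    (he : IsStarEss (quotGr 𝒜 p) 𝓔 e) : InjHull.IsEssentialInj e :=
  isEssentialInj_of_essential 𝒜 𝓔 he.injective (range_isHomogeneous_quotGr 𝒜 𝓔 p he.grHom)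
    he.essential

/-- `p` kills the image of `R/p`. -/
lemma smul_map_eq_zero (p : Ideal R) (e : (R ⧸ p) →ₗ[R] E) {r : R} (hr : r ∈ p) (a : R ⧸ p) :
    r • e a = 0 := by
  rw [← map_smul, Algebra.smul_def]
  have : algebraMap R (R ⧸ p) r = 0 := Ideal.Quotient.eq_zero_iff_mem.mpr hr
  rw [this, zero_mul, map_zero]

/-- For nonzero `a` in `R/p` (`p` prime), `r • e a = 0` iff `r ∈ p`. -/
lemma smul_map_eq_zero_iff (p : Ideal R) [p.IsPrime] {e : (R ⧸ p) →ₗ[R] E}
    (he : Function.Injective e) {r : R} {a : R ⧸ p} (ha : a ≠ 0) : r • e a = 0 ↔ r ∈ p := by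
  constructor
  · intro h
    rw [← map_smul] at h
    have h1 : r • a = 0 := he (h.trans (map_zero e).symm)
    rw [Algebra.smul_def] at h1
    haveI : IsDomain (R ⧸ p) := Ideal.Quotient.isDomain p
    rcases mul_eq_zero.mp h1 with h2 | h2
    · exact Ideal.Quotient.eq_zero_iff_mem.mp h2
    · exact absurd h2 ha
  · intro h; exact smul_map_eq_zero p e h a

/-- `*E(R/p)` is `p`-torsion (`R` Noetherian): via Artin–Rees. -/
theorem gam_eq_top_of_hull [IsNoetherianRing R] (p : HomogeneousIdeal 𝒜)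
    {e : (R ⧸ p.toIdeal) →ₗ[R] E} (he : IsStarEss (quotGr 𝒜 p) 𝓔 e) :
    gam p.toIdeal E = ⊤ := by
  have hess := isEssentialInj_quotGr 𝒜 𝓔 p he
  rw [eq_top_iff]
  intro x _
  set M' := Submodule.span R {x} with hM'
  let N₀ : Submodule R M' := (LinearMap.range e).comap M'.subtype
  obtain ⟨k, hk⟩ := Ideal.exists_pow_inf_eq_pow_smul p.toIdeal N₀
  have h1 := hk (k + 1) (Nat.le_succ k)
  rw [Nat.add_sub_cancel_left, pow_one] at h1
  have h2 : p.toIdeal • (p.toIdeal ^ k • (⊤ : Submodule R M') ⊓ N₀) = ⊥ := by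
    rw [eq_bot_iff, Submodule.smul_le]
    rintro r hr y ⟨-, hy⟩
    obtain ⟨a, ha⟩ := hy
    rw [Submodule.mem_bot]
    apply Subtype.ext
    rw [Submodule.coe_smul, Submodule.coe_zero]
    have : (y : E) = e a := ha.symm
    rw [this]
    exact smul_map_eq_zero p.toIdeal e hr a
  rw [h2] at h1
  -- the image in E
  set P : Submodule R E := (p.toIdeal ^ (k + 1) • (⊤ : Submodule R M')).map M'.subtype with hP
  have hPbot : P = ⊥ := by
    by_contra hne
    apply hess.essential P hne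
    rw [eq_bot_iff]
    rintro y ⟨⟨y', hy', rfl⟩, hye⟩
    have : y' ∈ p.toIdeal ^ (k + 1) • (⊤ : Submodule R M') ⊓ N₀ := ⟨hy', hye⟩
    rw [h1, Submodule.mem_bot] at this
    rw [this, map_zero]; exact Submodule.zero_mem _
  refine ⟨k + 1, fun r hr => ?_⟩
  have hx : x ∈ M' := Submodule.mem_span_singleton_self x
  have : r • (⟨x, hx⟩ : M') ∈ p.toIdeal ^ (k + 1) • (⊤ : Submodule R M') :=
    Submodule.smul_mem_smul hr Submodule.mem_top
  have h3 : M'.subtype (r • (⟨x, hx⟩ : M')) ∈ P := ⟨_, this, rfl⟩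
  rw [hPbot, Submodule.mem_bot] at h3
  simpa using h3

end Groth.Agent.Lib.Helper11.GrLCLib

namespace Groth.Agent.Lib.Helper11.GrLCLib

open DirectSum GrLC

/-- In an essential extension of `R/q`, a nonzero element with prime annihilator `P` forces `P = q`. -/
lemma eq_of_annihilator_prime {R : Type u} [CommRing R] {F : Type u} [AddCommGroup F] [Module R F]
    (q : Ideal R) [q.IsPrime] {f : (R ⧸ q) →ₗ[R] F} (hess : InjHull.IsEssentialInj f)
    (P : Ideal R) [P.IsPrime] (z : F) (hz : z ≠ 0) (hann : ∀ r : R, r • z = 0 ↔ r ∈ P) : P = q := by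
  have hne : Submodule.span R {z} ≠ ⊥ := by
    intro h
    have : z ∈ Submodule.span R {z} := Submodule.mem_span_singleton_self z
    rw [h, Submodule.mem_bot] at this
    exact hz this
  obtain ⟨y, ⟨hy1, ⟨a, rfl⟩⟩, hy0⟩ := Submodule.exists_mem_ne_zero_of_ne_bot (hess.essential _ hne)
  obtain ⟨s, hs⟩ := Submodule.mem_span_singleton.mp hy1
  have ha : a ≠ 0 := fun h => hy0 (by rw [h, map_zero])
  have hsP : s ∉ P := by
    intro h
    apply hy0
    rw [← hs]
    exact (hann s).mpr h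
  ext r
  rw [← smul_map_eq_zero_iff q hess.injective ha, ← hs, smul_smul, hann]
  constructor
  · intro h; exact P.mul_mem_right s h
  · intro h
    rcases (Ideal.IsPrime.mul_mem_iff_mem_or_mem ‹P.IsPrime›).mp h with h | h
    · exact h
    · exact absurd h hsP

end Groth.Agent.Lib.Helper11.GrLCLib
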