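import Mathlib
import Groth.Prelude.Def_GrLC
import Groth.Agent.Lib.Helper11.GrLC
import Groth.Agent.Lib.Helper11.GrLCSubQuot
import Groth.Agent.Lib.Helper11.GrLCHull
import Groth.Agent.Lib.Helper11.GrLCHull2
import Groth.Agent.Lib.Helper11.GrLCPrime

/-!
# Summands `*E(R/q)(-g₀)` of a *injective module
-/

set_option autoImplicit false
set_option linter.unusedSectionVars false
universe u

namespace Groth.Agent.Lib.Helper11.GrLCLib

open DirectSum GrLC

variable {ι : Type} [DecidableEq ι] [AddCommGroup ι]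
variable {R : Type u} [CommRing R] (𝒜 : ι → AddSubgroup R) [GradedRing 𝒜]

/-- The shifted family of pieces of `R/q` as a shift of the quotient grading. -/
lemma shifted_quotGr_eq (q : HomogeneousIdeal 𝒜) (g₀ : ι) :
    (fun j : ι => quotGr 𝒜 q (j - g₀)) = shiftGr (quotGrM 𝒜 q.toIdeal) (-g₀) := by
  funext j
  ext x
  rw [shiftGr, ← sub_eq_add_neg]
  constructor
  · rintro ⟨s, hs, rfl⟩
    exact ⟨s, hs, rfl⟩
  · rintro ⟨s, hs, rfl⟩
    exact ⟨s, hs, rfl⟩

variable {I : Type u} [AddCommGroup I] [Module R I] (ℐ : ι → AddSubgroup I) [DirectSum.Decomposition ℐ]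
  [SetLike.GradedSMul 𝒜 ℐ]

/-- The map `R/q → I`, `a ↦ a • m`, for `m` with annihilator `q`. -/
noncomputable def toSpanQuot (q : Ideal R) (m : I) (hann : (R ∙ m).annihilator = q) :
    (R ⧸ q) →ₗ[R] I :=
  Submodule.liftQ q (LinearMap.toSpanSingleton R I m) (by
    intro r hr
    rw [LinearMap.mem_ker, LinearMap.toSpanSingleton_apply]
    rw [← hann] at hr
    exact (Submodule.mem_annihilator_span_singleton m r).mp hr)

lemma toSpanQuot_mk (q : Ideal R) (m : I) (hann : (R ∙ m).annihilator = q) (r : R) :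
    toSpanQuot q m hann (Ideal.Quotient.mk q r) = r • m := by
  unfold toSpanQuot
  exact Submodule.liftQ_apply _ _ _

lemma toSpanQuot_injective (q : Ideal R) (m : I) (hann : (R ∙ m).annihilator = q) :
    Function.Injective (toSpanQuot q m hann) := by
  rw [injective_iff_map_eq_zero]
  intro a ha
  obtain ⟨r, rfl⟩ := Ideal.Quotient.mk_surjective a
  rw [toSpanQuot_mk] at ha
  rw [Ideal.Quotient.eq_zero_iff_mem, ← hann]
  exact (Submodule.mem_annihilator_span_singleton m r).mpr ha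

theorem exists_summand_starInjHull (hI : IsStarInj 𝒜 ℐ) (q : HomogeneousIdeal 𝒜) (g₀ : ι) (m : I)
    (hm : m ∈ ℐ g₀) (hann : (R ∙ m).annihilator = q.toIdeal) :
    ∃ (X : GMod.{u} 𝒜) (f : (R ⧸ q.toIdeal) →ₗ[R] X.carrier) (ψ : X.carrier →ₗ[R] I)
      (Q : Submodule R I),
      IsStarInjHull 𝒜 (fun j : ι => quotGr 𝒜 q (j - g₀)) X.gr f ∧ Function.Injective ψ ∧
        IsGrHom X.gr ℐ ψ ∧ ψ (f 1) = m ∧ Q.IsHomogeneous ℐ ∧ IsCompl (LinearMap.range ψ) Q := by
  rw [shifted_quotGr_eq]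
  letI := quotDecomposition 𝒜 q.toIdeal q.isHomogeneous
  letI := shiftDecomposition (quotGrM 𝒜 q.toIdeal) (-g₀)
  set t := toSpanQuot q.toIdeal m hann with ht
  have htgr : IsGrHom (shiftGr (quotGrM 𝒜 q.toIdeal) (-g₀)) ℐ t := by
    rintro j _ ⟨s, hs, rfl⟩
    change t (Ideal.Quotient.mk q.toIdeal s) ∈ ℐ j
    rw [ht, toSpanQuot_mk]
    have := SetLike.GradedSMul.smul_mem (A := 𝒜) (B := ℐ) hs hm
    rw [vadd_eq_add, neg_add_cancel_right] at this
    exact this
  obtain ⟨X, f, hf, i, hiinj, higr, hif⟩ :=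
    exists_isStarInjHull_sub 𝒜 ℐ (shiftGr (quotGrM 𝒜 q.toIdeal) (-g₀)) hI t htgr
      (toSpanQuot_injective q.toIdeal m hann)
  obtain ⟨ρ, hρ, hρi⟩ := exists_retraction X.gr ℐ 𝒜 hf.starInj higr hiinj
  have hρi' : ∀ x, ρ (i x) = x := fun x => LinearMap.congr_fun hρi x
  refine ⟨X, f, i, LinearMap.ker ρ, hf, hiinj, higr, ?_, ker_isHomogeneous ℐ X.gr hρ, ?_⟩
  · have : i (f 1) = t 1 := LinearMap.congr_fun hif 1
    rw [this, ht]
    have h1 : (1 : R ⧸ q.toIdeal) = Ideal.Quotient.mk q.toIdeal 1 := rfl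
    rw [h1, toSpanQuot_mk, one_smul]
  · refine IsCompl.of_eq ?_ ?_
    · rw [eq_bot_iff]
      rintro _ ⟨⟨x, rfl⟩, hx⟩
      rw [SetLike.mem_coe, LinearMap.mem_ker, hρi'] at hx
      rw [hx, map_zero]; exact Submodule.zero_mem _
    · rw [eq_top_iff]
      intro x _
      have : x = i (ρ x) + (x - i (ρ x)) := by abel
      rw [this]
      refine Submodule.add_mem_sup ⟨ρ x, rfl⟩ ?_
      rw [LinearMap.mem_ker, map_sub, hρi', sub_self]

end Groth.Agent.Lib.Helper11.GrLCLib
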