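import Mathlib
import Groth.Prelude.Def_GrLC
import Groth.Agent.Lib.Helper11.GrLC
import Groth.Agent.Lib.Helper11.GrLCSubQuot
import Groth.Agent.Lib.Helper11.GrLCHull
import Groth.Agent.Lib.Helper11.GrLCHull2
import Groth.Agent.Lib.Helper11.GrLCPrime
import Groth.Agent.Lib.Helper11.GrLCSummand

/-!
# *Indecomposable *injectives are shifted `*E(R/q)`
-/

set_option autoImplicit false
set_option linter.unusedSectionVars false
universe u

namespace Groth.Agent.Lib.Helper11.GrLCLib

open DirectSum GrLC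

/-- A finitely generated free abelian group carries a translation-invariant linear order. -/
lemma exists_linearOrder (ι : Type) [AddCommGroup ι] [Module.Free ℤ ι] [Module.Finite ℤ ι] :
    ∃ (_ : LinearOrder ι), IsOrderedCancelAddMonoid ι := by
  let b := Module.finBasis ℤ ι
  let φ : ι → Lex (Fin (Module.finrank ℤ ι) →₀ ℤ) := fun x => toLex (b.repr x)
  have hinj : Function.Injective φ := fun x y h => b.repr.injective (toLex.injective h)
  letI : LinearOrder ι := LinearOrder.lift' φ hinj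
  refine ⟨inferInstance, ?_⟩
  exact Function.Injective.isOrderedCancelAddMonoid φ (fun x y => by simp [φ]) Iff.rfl

variable {ι : Type} [DecidableEq ι] [AddCommGroup ι]
variable {R : Type u} [CommRing R] (𝒜 : ι → AddSubgroup R) [GradedRing 𝒜]

/-- Primality of a homogeneous ideal can be checked on homogeneous elements (torsion-free f.g. grading group). -/
lemma isPrime_of_homogeneous_mem_or_mem [Module.Free ℤ ι] [Module.Finite ℤ ι] {J : Ideal R}
    (hJ : J.IsHomogeneous 𝒜) (hne : J ≠ ⊤)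
    (h : ∀ {x y : R}, SetLike.IsHomogeneousElem 𝒜 x → SetLike.IsHomogeneousElem 𝒜 y →
      x * y ∈ J → x ∈ J ∨ y ∈ J) : J.IsPrime := by
  obtain ⟨lo, hlo⟩ := exists_linearOrder ι
  have : ‹DecidableEq ι› = lo.toDecidableEq := Subsingleton.elim _ _
  subst this
  exact hJ.isPrime_of_homogeneous_mem_or_mem hne h

variable {I : Type u} [AddCommGroup I] [Module R I] (ℐ : ι → AddSubgroup I) [DirectSum.Decomposition ℐ]
  [SetLike.GradedSMul 𝒜 ℐ]

/-- The annihilator of a homogeneous element is a homogeneous ideal. -/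
lemma annihilator_span_singleton_isHomogeneous {g : ι} {m : I} (hm : m ∈ ℐ g) :
    ((R ∙ m).annihilator).IsHomogeneous 𝒜 := by
  have h := ker_isHomogeneous_deg 𝒜 ℐ (isGrHomDeg_toSpanSingleton ℐ 𝒜 hm)
  intro h' r hr
  rw [Submodule.mem_annihilator_span_singleton] at hr ⊢
  have := h h' (show r ∈ LinearMap.ker (LinearMap.toSpanSingleton R I m) by
    rw [LinearMap.mem_ker, LinearMap.toSpanSingleton_apply]; exact hr)
  rwa [LinearMap.mem_ker, LinearMap.toSpanSingleton_apply] at this

include 𝒜 in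
/-- In a nonzero graded module over a Noetherian graded ring (torsion-free f.g. grading group), some nonzero
homogeneous element has a prime annihilator. -/
lemma exists_homogeneous_prime_annihilator [IsNoetherianRing R] [Module.Free ℤ ι] [Module.Finite ℤ ι]
    [Nontrivial I] :
    ∃ (g₀ : ι) (m : I), m ∈ ℐ g₀ ∧ m ≠ 0 ∧ ((R ∙ m).annihilator).IsPrime := by
  classical
  let S : Set (Ideal R) := {J | ∃ (g : ι) (m : I), m ∈ ℐ g ∧ m ≠ 0 ∧ J = (R ∙ m).annihilator}
  have hSne : S.Nonempty := by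
    obtain ⟨x, hx0⟩ := exists_ne (0 : I)
    obtain ⟨g, hg⟩ : ∃ g, (decompose ℐ x g : I) ≠ 0 := by
      by_contra hall
      push Not at hall
      apply hx0
      rw [← DirectSum.sum_support_decompose ℐ x]
      exact Finset.sum_eq_zero (fun i _ => hall i)
    exact ⟨_, g, _, SetLike.coe_mem _, hg, rfl⟩
  obtain ⟨J, ⟨g₀, m₀, hm₀, hm₀0, rfl⟩, hmax⟩ := (wellFounded_gt (α := Ideal R)).has_min S hSne
  refine ⟨g₀, m₀, hm₀, hm₀0, ?_⟩
  apply isPrime_of_homogeneous_mem_or_mem 𝒜 (annihilator_span_singleton_isHomogeneous 𝒜 ℐ hm₀)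
  · intro htop
    apply hm₀0
    have : (1 : R) ∈ (R ∙ m₀).annihilator := by rw [htop]; exact Submodule.mem_top
    rw [Submodule.mem_annihilator_span_singleton, one_smul] at this
    exact this
  · rintro a b ⟨h, ha⟩ ⟨k, hb⟩ hab
    by_contra hcon
    push Not at hcon
    obtain ⟨haJ, hbJ⟩ := hcon
    rw [Submodule.mem_annihilator_span_singleton] at haJ hbJ hab
    have hbm : b • m₀ ∈ ℐ (k + g₀) := SetLike.GradedSMul.smul_mem hb hm₀
    have hle : (R ∙ m₀).annihilator ≤ (R ∙ (b • m₀)).annihilator := by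
      intro r hr
      rw [Submodule.mem_annihilator_span_singleton] at hr ⊢
      rw [smul_comm, hr, smul_zero]
    have hmem : (R ∙ (b • m₀)).annihilator ∈ S := ⟨k + g₀, b • m₀, hbm, hbJ, rfl⟩
    have hnot := hmax _ hmem
    have ha' : a ∈ (R ∙ (b • m₀)).annihilator := by
      rw [Submodule.mem_annihilator_span_singleton, smul_smul]; exact hab
    apply hnot
    refine lt_of_le_of_ne hle ?_
    intro heq
    apply haJ
    have : a ∈ (R ∙ m₀).annihilator := by rw [heq]; exact ha'
    exact (Submodule.mem_annihilator_span_singleton m₀ a).mp this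

/-- A *indecomposable *injective is a shifted `*E(R/q)`. -/
theorem exists_starInjHull_quotient_prime_of_isStarIndec [IsNoetherianRing R] [Module.Free ℤ ι]
    [Module.Finite ℤ ι] (hI : IsStarInj 𝒜 ℐ) (hind : IsStarIndec R ℐ) :
    ∃ (q : HomogeneousIdeal 𝒜) (g₀ : ι) (f : (R ⧸ q.toIdeal) →ₗ[R] I), q.toIdeal.IsPrime ∧
      IsStarInjHull 𝒜 (fun j : ι => quotGr 𝒜 q (j - g₀)) ℐ f := by
  haveI : Nontrivial I := hind.1
  obtain ⟨g₀, m, hm, hm0, hprime⟩ := exists_homogeneous_prime_annihilator 𝒜 ℐ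
  let q : HomogeneousIdeal 𝒜 :=
    ⟨(R ∙ m).annihilator, annihilator_span_singleton_isHomogeneous 𝒜 ℐ hm⟩
  obtain ⟨X, f, ψ, Q, hf, hψinj, hψgr, hψf, hQ, hcompl⟩ :=
    exists_summand_starInjHull 𝒜 ℐ hI q g₀ m hm rfl
  have hrange := range_isHomogeneous X.gr ℐ hψgr
  have hQbot : Q = ⊥ := by
    rcases hind.2 _ _ hrange hQ hcompl with h | h
    · exfalso
      apply hm0
      have : ψ (f 1) ∈ LinearMap.range ψ := ⟨_, rfl⟩
      rw [h, Submodule.mem_bot, hψf] at this
      exact this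
    · exact h
  have hsurj : Function.Surjective ψ := by
    rw [← LinearMap.range_eq_top]
    have := hcompl.sup_eq_top
    rwa [hQbot, sup_bot_eq] at this
  refine ⟨q, g₀, ψ ∘ₗ f, hprime, ⟨⟨hψinj.comp hf.injective, ?_, ?_⟩, hI⟩⟩
  · intro j a ha
    exact hψgr j _ (hf.grHom j a ha)
  · intro P hP hPne
    have hcm := comap_isHomogeneous X.gr ℐ hψgr hP
    have hcmne : P.comap ψ ≠ ⊥ := by
      obtain ⟨x, hx, hx0⟩ := Submodule.exists_mem_ne_zero_of_ne_bot hPne
      obtain ⟨y, rfl⟩ := hsurj x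
      intro h
      have : y ∈ P.comap ψ := hx
      rw [h, Submodule.mem_bot] at this
      exact hx0 (by rw [this, map_zero])
    obtain ⟨y, ⟨hy1, ⟨a, rfl⟩⟩, hy0⟩ :=
      Submodule.exists_mem_ne_zero_of_ne_bot (hf.essential _ hcm hcmne)
    intro hbot
    have : ψ (f a) ∈ P ⊓ LinearMap.range (ψ ∘ₗ f) := ⟨hy1, ⟨a, rfl⟩⟩
    rw [hbot, Submodule.mem_bot] at this
    exact hy0 (hψinj (this.trans (map_zero ψ).symm))

end Groth.Agent.Lib.Helper11.GrLCLib
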