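import Mathlib
import Groth.Prelude.Def_GrLC
import Groth.Prelude.Def_GrLC2
import Groth.Agent.Lib.Helper11.GrLCIndec
import Groth.Agent.Lib.Helper11.GrLCH
import Groth.Agent.Lib.Helper11.GrCoreI

/-!
# *Local graded rings: the *maximal ideal is prime; socles of `m`-torsion graded modules
-/

set_option autoImplicit false
set_option linter.unusedSectionVars false
universe u

namespace Groth.Agent.Lib.Helper11.GrGor

open DirectSum GrLC Groth.Agent.Lib.Helper11.GrLCLib Groth.Agent.Lib.Helper11.GrCore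

variable {ι : Type} [DecidableEq ι] [AddCommGroup ι]
variable {R : Type u} [CommRing R] (𝒜 : ι → AddSubgroup R) [GradedRing 𝒜]

/-- Adding a homogeneous element outside a *maximal ideal gives the unit ideal. -/
lemma sup_span_eq_top_of_isCoatom {m : HomogeneousIdeal 𝒜} (hm : IsCoatom m) {x : R}
    (hx : SetLike.IsHomogeneousElem 𝒜 x) (hxm : x ∉ m.toIdeal) :
    m.toIdeal ⊔ Ideal.span {x} = ⊤ := by
  have hspan : (Ideal.span ({x} : Set R)).IsHomogeneous 𝒜 := by
    apply Ideal.homogeneous_span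
    intro y hy
    rw [Set.mem_singleton_iff] at hy
    rw [hy]; exact hx
  let m' : HomogeneousIdeal 𝒜 := ⟨m.toIdeal ⊔ Ideal.span {x}, m.isHomogeneous.sup hspan⟩
  have hlt : m < m' := by
    refine lt_of_le_of_ne ?_ ?_
    · intro y hy
      exact Ideal.mem_sup_left hy
    · intro h
      apply hxm
      have : x ∈ m'.toIdeal := Ideal.mem_sup_right (Ideal.subset_span rfl)
      rw [← h] at this
      exact this
  have := hm.2 m' hlt
  have h2 := congrArg HomogeneousIdeal.toIdeal this
  exact h2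

/-- Elements outside a *maximal ideal that are homogeneous are invertible modulo it. -/
lemma exists_mul_sub_one_mem_of_isCoatom {m : HomogeneousIdeal 𝒜} (hm : IsCoatom m) {x : R}
    (hx : SetLike.IsHomogeneousElem 𝒜 x) (hxm : x ∉ m.toIdeal) :
    ∃ (a s : R), a ∈ m.toIdeal ∧ a + s * x = 1 := by
  have h := sup_span_eq_top_of_isCoatom 𝒜 hm hx hxm
  have h1 : (1 : R) ∈ m.toIdeal ⊔ Ideal.span {x} := by rw [h]; exact Submodule.mem_top
  obtain ⟨a, ha, b, hb, hab⟩ := Submodule.mem_sup.1 h1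
  obtain ⟨s, rfl⟩ := Ideal.mem_span_singleton'.1 hb
  exact ⟨a, s, ha, hab⟩

/-- The *maximal ideal of a *local ring graded by a finitely generated free group is prime. -/
theorem isPrime_of_isCoatom [Module.Free ℤ ι] [Module.Finite ℤ ι] {m : HomogeneousIdeal 𝒜}
    (hm : IsCoatom m) : m.toIdeal.IsPrime := by
  refine isPrime_of_homogeneous_mem_or_mem 𝒜 m.isHomogeneous ?_ ?_
  · intro h
    apply hm.1
    apply HomogeneousIdeal.toIdeal_injective
    exact h
  · intro x y hx hy hxy
    by_contra hcon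
    push Not at hcon
    obtain ⟨a, s, ha, has⟩ := exists_mul_sub_one_mem_of_isCoatom 𝒜 hm hx hcon.1
    apply hcon.2
    have : y = a * y + s * (x * y) := by
      calc y = 1 * y := (one_mul y).symm
        _ = (a + s * x) * y := by rw [has]
        _ = a * y + s * (x * y) := by ring
    rw [this]
    exact add_mem (Ideal.mul_mem_right _ _ ha) (Ideal.mul_mem_left _ _ hxy)

variable {X : Type u} [AddCommGroup X] [Module R X] (𝒳 : ι → AddSubgroup X)
  [DirectSum.Decomposition 𝒳] [SetLike.GradedSMul 𝒜 𝒳]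

/-- The annihilator of a nonzero homogeneous element killed by a *maximal ideal is that ideal. -/
lemma smul_eq_zero_iff_of_isCoatom {m : HomogeneousIdeal 𝒜} (hm : IsCoatom m) {g : ι} {y : X}
    (hy : y ∈ 𝒳 g) (hy0 : y ≠ 0) (hmy : ∀ c ∈ m.toIdeal, c • y = 0) (r : R) :
    r • y = 0 ↔ r ∈ m.toIdeal := by
  have hann := annihilator_span_singleton_isHomogeneous 𝒜 𝒳 hy
  let m' : HomogeneousIdeal 𝒜 := ⟨(R ∙ y).annihilator, hann⟩
  have hle : m ≤ m' := by
    intro c hc
    change c ∈ (R ∙ y).annihilator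
    rw [Submodule.mem_annihilator_span_singleton]
    exact hmy c hc
  have hne : m' ≠ ⊤ := by
    intro h
    have h1 : (1 : R) ∈ m'.toIdeal := by rw [h]; exact Submodule.mem_top
    change (1 : R) ∈ (R ∙ y).annihilator at h1
    rw [Submodule.mem_annihilator_span_singleton, one_smul] at h1
    exact hy0 h1
  have heq : m = m' := by
    by_contra hne'
    exact hne (hm.2 m' (lt_of_le_of_ne hle hne'))
  constructor
  · intro h
    have : r ∈ m'.toIdeal := by
      change r ∈ (R ∙ y).annihilator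
      rw [Submodule.mem_annihilator_span_singleton]
      exact h
    rw [heq]; exact this
  · exact hmy r

include 𝒜 in
/-- A nonzero homogeneous submodule of `Γ_m(X)` contains a nonzero homogeneous socle element. -/
theorem exists_socle_of_le_gam (m : HomogeneousIdeal 𝒜) {Q : Submodule R X}
    (hQ : Q.IsHomogeneous 𝒳) (hQ0 : Q ≠ ⊥) (hQm : Q ≤ gam m.toIdeal X) :
    ∃ (g : ι) (y : X), y ∈ 𝒳 g ∧ y ∈ Q ∧ y ≠ 0 ∧ ∀ c ∈ m.toIdeal, c • y = 0 := by
  classical
  obtain ⟨g, q, hqg, hqQ, hq0⟩ := exists_homogeneous_mem_ne_zero 𝒳 hQ hQ0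
  have hex : ∃ k : ℕ, ∀ r ∈ m.toIdeal ^ k, r • q = 0 := hQm hqQ
  set k := Nat.find hex with hk
  have hkspec : ∀ r ∈ m.toIdeal ^ k, r • q = 0 := Nat.find_spec hex
  have hk0 : k ≠ 0 := by
    intro h0
    apply hq0
    have := hkspec 1 (by rw [h0, pow_zero, Ideal.one_eq_top]; exact Submodule.mem_top)
    rwa [one_smul] at this
  obtain ⟨k', hk'⟩ : ∃ k', k = k' + 1 := ⟨k - 1, by omega⟩
  have hmin : ¬ ∀ r ∈ m.toIdeal ^ k', r • q = 0 := Nat.find_min hex (by omega)
  push Not at hmin
  obtain ⟨r, hr, hrq⟩ := hmin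
  have hpow := isHomogeneous_pow 𝒜 m k'
  -- a homogeneous component of r works
  obtain ⟨h, hh⟩ : ∃ h, (decompose 𝒜 r h : R) • q ≠ 0 := by
    by_contra hall
    push Not at hall
    apply hrq
    rw [← DirectSum.sum_support_decompose 𝒜 r, Finset.sum_smul]
    exact Finset.sum_eq_zero (fun i _ => hall i)
  refine ⟨h + g, (decompose 𝒜 r h : R) • q, ?_, Q.smul_mem _ hqQ, hh, ?_⟩
  · exact SetLike.GradedSMul.smul_mem (A := 𝒜) (B := 𝒳) (SetLike.coe_mem _) hqg
  · intro c hc
    rw [smul_smul]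
    apply hkspec
    rw [hk', pow_succ']
    exact Ideal.mul_mem_mul hc (hpow h hr)

end Groth.Agent.Lib.Helper11.GrGor
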