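import Groth.Agent.Lib.Helper16.CanonicalInjDim
import Groth.Agent.Lib.Helper16.CanonicalEndo
import Groth.Agent.Lib.Helper16.ReesExt
import Groth.Agent.Lib.Helper25.MatlisDual

/-!
# Type of a canonical module and of the ring (local case)
-/

set_option autoImplicit false
set_option linter.unusedSectionVars false
set_option linter.style.haveILetI false
set_option linter.unusedVariables false
universe u

namespace Groth.Agent.Lib.Helper11.CanonType

open CategoryTheory Abelian IsLocalRing TensorProduct
open Groth.Agent.Lib.Helper16.Canon Groth.Agent.Lib.Helper16.LC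

variable {R : Type u} [CommRing R] [LocCoh.IsCohenMacaulayLocalRing R] {n : ℕ}
  (hn : ringKrullDim R = n) {E : Type u} [AddCommGroup E] [Module R E]
  (f : ResidueField R →ₗ[R] E) (hf : InjHull.IsInjectiveHull f)
  {K : Type u} [AddCommGroup K] [Module R K] [Module.Finite R K]
  (eK : (K →ₗ[R] E) ≃ₗ[R] LocCoh.H (maximalIdeal R) n R)

omit [LocCoh.IsCohenMacaulayLocalRing R] in
lemma length_H0_residue [IsLocalRing R] :
    Module.length R (LocCoh.H (maximalIdeal R) 0 (R ⧸ maximalIdeal R)) = 1 := by
  have htop : DRing.torsionSub (maximalIdeal R) (R ⧸ maximalIdeal R) = ⊤ := by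
    rw [eq_top_iff]
    intro y _
    refine ⟨1, fun a ha => ?_⟩
    rw [pow_one] at ha
    obtain ⟨r, rfl⟩ := Ideal.Quotient.mk_surjective y
    rw [Algebra.smul_def]
    change Ideal.Quotient.mk _ a * Ideal.Quotient.mk _ r = 0
    rw [← map_mul, Ideal.Quotient.eq_zero_iff_mem]
    exact Ideal.mul_mem_right _ _ ha
  let e3 := H0equiv (maximalIdeal R) (ModuleCat.of R (R ⧸ maximalIdeal R))
  let e4 : DRing.torsionSub (maximalIdeal R) (R ⧸ maximalIdeal R) ≃ₗ[R] (R ⧸ maximalIdeal R) :=
    (LinearEquiv.ofEq _ _ htop).trans Submodule.topEquiv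
  rw [(e3.trans e4).length_eq]
  exact Module.length_eq_one R (ResidueField R)

include hn f hf eK in
/-- the type of a canonical module is one. -/
theorem length_ext_residue_K :
    Module.length R (Ext.{u} (ModuleCat.of R (ResidueField R)) (ModuleCat.of R K) n) = 1 := by
  obtain ⟨e⟩ := duality hn eK hf.isInjective (hlow_of_CM hn) (R ⧸ maximalIdeal R) 0 n (by omega)
  change Module.length R (Ext.{u} (ModuleCat.of R (R ⧸ maximalIdeal R)) (ModuleCat.of R K) n) = 1
  set X := Ext.{u} (ModuleCat.of R (R ⧸ maximalIdeal R)) (ModuleCat.of R K) n with hX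
  have hnt : Nontrivial X := nontrivial_ext_quotient_maximalIdeal hn f hf eK
  apply le_antisymm
  · have hinj := Groth.Agent.Lib.Helper25.applyₗ_injective f hf X
    have h1 := Module.length_le_of_injective _ hinj
    refine h1.trans (le_of_eq ?_)
    -- `(X → E) ≃ H^0 ≃ k`
    have htop : DRing.torsionSub (maximalIdeal R) (R ⧸ maximalIdeal R) = ⊤ := by
      rw [eq_top_iff]
      intro y _
      refine ⟨1, fun a ha => ?_⟩
      rw [pow_one] at ha
      obtain ⟨r, rfl⟩ := Ideal.Quotient.mk_surjective y
      rw [Algebra.smul_def]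
      change Ideal.Quotient.mk _ a * Ideal.Quotient.mk _ r = 0
      rw [← map_mul, Ideal.Quotient.eq_zero_iff_mem]
      exact Ideal.mul_mem_right _ _ ha
    let e3 := H0equiv (maximalIdeal R) (ModuleCat.of R (R ⧸ maximalIdeal R))
    let e4 : DRing.torsionSub (maximalIdeal R) (R ⧸ maximalIdeal R) ≃ₗ[R] (R ⧸ maximalIdeal R) :=
      (LinearEquiv.ofEq _ _ htop).trans Submodule.topEquiv
    let e5 : (X →ₗ[R] E) ≃ₗ[R] ResidueField R := (e.symm.trans e3).trans e4
    rw [(LinearEquiv.congrLeft E R e5).length_eq]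
    exact Groth.Agent.Lib.Helper25.length_hom_residueField f hf.toIsEssentialInj
  · exact Order.one_le_iff_pos.2 Module.length_pos


omit [LocCoh.IsCohenMacaulayLocalRing R] [Module.Finite R K] in
/-- tensoring with the residue field does not see `I K` for `I ≤ m`. -/
lemma lTensor_mkQ_bijective [IsLocalRing R] (I : Ideal R) (hI : I ≤ maximalIdeal R) :
    Function.Bijective (LinearMap.lTensor (ResidueField R)
      (I • (⊤ : Submodule R K)).mkQ) := by
  constructor
  · have hex := lTensor_exact (ResidueField R)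
      (LinearMap.exact_subtype_mkQ (I • (⊤ : Submodule R K))) (Submodule.mkQ_surjective _)
    have hzero : LinearMap.lTensor (ResidueField R) (I • (⊤ : Submodule R K)).subtype = 0 := by
      apply TensorProduct.ext'
      intro x ⟨y, hy⟩
      rw [LinearMap.lTensor_tmul, LinearMap.zero_apply]
      change x ⊗ₜ[R] y = 0
      refine Submodule.smul_induction_on (p := fun y => x ⊗ₜ[R] y = 0) hy ?_ ?_
      · intro a ha z hz
        rw [← TensorProduct.smul_tmul,
          Groth.Agent.Lib.Helper25.smul_residueField_eq_zero (hI ha), TensorProduct.zero_tmul]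
      · intro y z hy hz
        rw [TensorProduct.tmul_add, hy, hz, add_zero]
    rw [← LinearMap.ker_eq_bot, hex.linearMap_ker_eq, hzero, LinearMap.range_zero]
  · exact LinearMap.lTensor_surjective _ (Submodule.mkQ_surjective _)

omit [LocCoh.IsCohenMacaulayLocalRing R] in
lemma length_residue_tensor [IsLocalRing R] :
    Module.length R (ResidueField R ⊗[R] K) =
      (Module.finrank (ResidueField R) (ResidueField R ⊗[R] K) : ℕ∞) := by
  rw [Module.length_eq_of_surjective (S := R) (R := ResidueField R)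
    IsLocalRing.residue_surjective, Module.length_eq_finrank]

include hn f hf eK in
/-- the type of a Cohen–Macaulay local ring is the minimal number of generators of its canonical
module. -/
theorem length_ext_residue_self :
    Module.length R (Ext.{u} (ModuleCat.of R (ResidueField R)) (ModuleCat.of R R) n) =
      Module.length R (ResidueField R ⊗[R] K) := by
  obtain ⟨xs, hlen, hwreg, hmem⟩ := exists_regSeq_pow hn 1 one_pos
  have hxs : ∀ x ∈ xs, x ∈ maximalIdeal R := fun x hx => by
    have := hmem x hx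
    rwa [pow_one] at this
  have hreg : RingTheory.Sequence.IsRegular R xs :=
    (IsLocalRing.isRegular_iff_isWeaklyRegular_of_subset_maximalIdeal hxs).mpr hwreg
  have hle : Ideal.ofList xs ≤ maximalIdeal R := by
    apply Ideal.span_le.2
    intro x hx
    exact hxs x hx
  obtain ⟨-, ⟨e1⟩⟩ := Groth.Agent.Lib.Helper16.Rees.rees (ResidueField R) xs
    (fun r hr y => Groth.Agent.Lib.Helper25.smul_residueField_eq_zero (hxs r hr) y) R hwreg
  rw [hlen] at e1
  obtain ⟨e2⟩ := dual_quot_equiv hn f hf eK xs hxs hlen hreg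
  let eq : (R ⧸ (Ideal.ofList xs • ⊤ : Submodule R R)) ≃ₗ[R] (R ⧸ Ideal.ofList xs) :=
    Submodule.quotEquivOfEq _ _ (by rw [smul_eq_mul, Ideal.mul_top])
  let e3 : (ResidueField R →ₗ[R] R ⧸ (Ideal.ofList xs • ⊤ : Submodule R R)) ≃ₗ[R]
      (ResidueField R →ₗ[R] ((K ⧸ (Ideal.ofList xs • (⊤ : Submodule R K))) →ₗ[R] E)) :=
    LinearEquiv.arrowCongr (LinearEquiv.refl R _) (eq.trans e2.symm)
  let e4 := TensorProduct.lift.equiv (.id R) (ResidueField R)
    (K ⧸ (Ideal.ofList xs • (⊤ : Submodule R K))) E
  let e5 : (ResidueField R ⊗[R] K) ≃ₗ[R]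
      (ResidueField R ⊗[R] (K ⧸ (Ideal.ofList xs • (⊤ : Submodule R K)))) :=
    LinearEquiv.ofBijective _ (lTensor_mkQ_bijective (K := K) (Ideal.ofList xs) hle)
  let e6 : ((ResidueField R ⊗[R] (K ⧸ (Ideal.ofList xs • (⊤ : Submodule R K)))) →ₗ[R] E) ≃ₗ[R]
      ((ResidueField R ⊗[R] K) →ₗ[R] E) :=
    LinearEquiv.arrowCongr e5.symm (LinearEquiv.refl R E)
  rw [(((e1.trans e3).trans e4).trans e6).length_eq]
  apply Groth.Agent.Lib.Helper25.length_hom_eq_length f hf
  rw [← Module.length_ne_top_iff, length_residue_tensor]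
  exact ENat.natCast_ne_top _

end Groth.Agent.Lib.Helper11.CanonType
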