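import Mathlib
import Groth.Agent.S9319

set_option autoImplicit false
set_option linter.unusedSectionVars false
universe u
open TensorProduct

namespace Groth.Agent.Lib.Helper11.Cartier

section euler
variable {K : Type*} [Field K]
  {V1 V2 V3 V4 V5 V6 : Type*} [AddCommGroup V1] [Module K V1] [AddCommGroup V2] [Module K V2]
  [AddCommGroup V3] [Module K V3] [AddCommGroup V4] [Module K V4] [AddCommGroup V5] [Module K V5]
  [AddCommGroup V6] [Module K V6]

theorem finite_of_exact (f : V1 →ₗ[K] V2) (g : V2 →ₗ[K] V3) (h : Function.Exact f g)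
    [Module.Finite K V1] [Module.Finite K V3] : Module.Finite K V2 := by
  have h1 : Module.Finite K (LinearMap.ker g) := by
    rw [h.linearMap_ker_eq]
    infer_instance
  have h2 : Module.Finite K (V2 ⧸ LinearMap.ker g) :=
    Module.Finite.equiv (g.quotKerEquivRange).symm
  exact Module.Finite.of_submodule_quotient (LinearMap.ker g)

theorem finrank_of_exact (f : V1 →ₗ[K] V2) (g : V2 →ₗ[K] V3) (h : Function.Exact f g)
    [Module.Finite K V2] :
    Module.finrank K V2 = Module.finrank K (LinearMap.range f) + Module.finrank K (LinearMap.range g) := by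
  have := LinearMap.finrank_range_add_finrank_ker g
  rw [h.linearMap_ker_eq] at this
  omega

/-- Euler characteristic of a six-term exact sequence, with finiteness of the two "inner" terms deduced. -/
theorem euler6 (f1 : V1 →ₗ[K] V2) (f2 : V2 →ₗ[K] V3) (f3 : V3 →ₗ[K] V4) (f4 : V4 →ₗ[K] V5)
    (f5 : V5 →ₗ[K] V6) (h1 : Function.Injective f1) (h12 : Function.Exact f1 f2)
    (h23 : Function.Exact f2 f3) (h34 : Function.Exact f3 f4) (h45 : Function.Exact f4 f5)
    (h5 : Function.Surjective f5)
    [Module.Finite K V1] [Module.Finite K V3] [Module.Finite K V4] [Module.Finite K V6] :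
    Module.Finite K V2 ∧ Module.Finite K V5 ∧
      (Module.finrank K V2 : ℤ) - Module.finrank K V5 =
        (Module.finrank K V1 - Module.finrank K V4) + (Module.finrank K V3 - Module.finrank K V6) := by
  have hV2 : Module.Finite K V2 := finite_of_exact f1 f2 h12
  have hV5 : Module.Finite K V5 := finite_of_exact f4 f5 h45
  refine ⟨hV2, hV5, ?_⟩
  have e1 : Module.finrank K V1 = Module.finrank K (LinearMap.range f1) :=
    (LinearMap.finrank_range_of_inj h1).symm
  have e2 := finrank_of_exact f1 f2 h12
  have e3 := finrank_of_exact f2 f3 h23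
  have e4 := finrank_of_exact f3 f4 h34
  have e5 := finrank_of_exact f4 f5 h45
  have e6 : Module.finrank K V6 = Module.finrank K (LinearMap.range f5) := by
    rw [LinearMap.range_eq_top.2 h5, finrank_top]
  omega

end euler

section good
open Algebra KaehlerDifferential

/-- Cartier's equality package for a field extension -/
def Good (k K : Type u) [Field k] [Field K] [Algebra k K] : Prop :=
  Module.Finite K (Ω[K⁄k]) ∧ Module.Finite K (Algebra.H1Cotangent k K) ∧
    Algebra.trdeg k K < Cardinal.aleph0 ∧
    (Module.finrank K (Ω[K⁄k]) : ℤ) - Module.finrank K (Algebra.H1Cotangent k K) =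
      Cardinal.toNat (Algebra.trdeg k K)

theorem Good.tower (k E K : Type u) [Field k] [Field E] [Field K] [Algebra k E] [Algebra k K]
    [Algebra E K] [IsScalarTower k E K] (h1 : Good k E) (h2 : Good E K) : Good k K := by
  obtain ⟨hΩ1, hH1, ht1, he1⟩ := h1
  obtain ⟨hΩ2, hH2, ht2, he2⟩ := h2
  have hinj : Function.Injective ((Algebra.H1Cotangent.map k k E K).liftBaseChange K) :=
    Groth.Agent.S9319.result
  have h12 := Algebra.H1Cotangent.exact_liftBaseChange_map_of_flat k E K
  have h23 := Algebra.H1Cotangent.exact_map_δ k E K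
  have h34 := Algebra.H1Cotangent.exact_δ_mapBaseChange k E K
  have h45 := KaehlerDifferential.exact_mapBaseChange_map k E K
  have h5 := KaehlerDifferential.map_surjective k E K
  obtain ⟨hV2, hV5, heq⟩ := euler6 ((Algebra.H1Cotangent.map k k E K).liftBaseChange K)
    (Algebra.H1Cotangent.map k E K K) (Algebra.H1Cotangent.δ k E K) (mapBaseChange k E K)
    (KaehlerDifferential.map k E K K) hinj h12 h23 h34 h45 h5
  have hadd : Algebra.trdeg k E + Algebra.trdeg E K = Algebra.trdeg k K := _root_.trdeg_add_eq k E (A := K)
  refine ⟨hV5, hV2, ?_, ?_⟩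
  · rw [← hadd]
    exact Cardinal.add_lt_aleph0 ht1 ht2
  · rw [← hadd, Cardinal.toNat_add ht1 ht2]
    have f1 : Module.finrank K (K ⊗[E] Algebra.H1Cotangent k E) =
      Module.finrank E (Algebra.H1Cotangent k E) := Module.finrank_baseChange
    have f2 : Module.finrank K (K ⊗[E] Ω[E⁄k]) = Module.finrank E (Ω[E⁄k]) := Module.finrank_baseChange
    rw [f1, f2] at heq
    push_cast
    omega

end good

end Groth.Agent.Lib.Helper11.Cartier
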