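import Groth.Agent.Lib.Helper11.Cartier1

set_option autoImplicit false
set_option linter.unusedSectionVars false
universe u
open TensorProduct Polynomial

namespace Groth.Agent.Lib.Helper11.Cartier

section transcendental
open Algebra KaehlerDifferential
variable (E K : Type u) [Field E] [Field K] [Algebra E K]

theorem good_of_isFractionRing [Algebra E[X] K] [IsScalarTower E E[X] K] [IsFractionRing E[X] K] :
    Good E K := by
  have hfs1 : Algebra.FormallySmooth E[X] K := Algebra.FormallySmooth.of_isLocalization (nonZeroDivisors E[X])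
  have hfs : Algebra.FormallySmooth E K := Algebra.FormallySmooth.comp E E[X] K
  have hH : Subsingleton (Algebra.H1Cotangent E K) := Algebra.FormallySmooth.subsingleton_h1Cotangent
  have hloc : IsLocalizedModule (nonZeroDivisors E[X]) (KaehlerDifferential.map E E E[X] K) :=
    KaehlerDifferential.isLocalizedModule_map E E[X] K (nonZeroDivisors E[X])
  have hbc : IsBaseChange K (KaehlerDifferential.map E E E[X] K) :=
    (isLocalizedModule_iff_isBaseChange (nonZeroDivisors E[X]) K _).mp hloc
  let e1 : K ⊗[E[X]] Ω[E[X]⁄E] ≃ₗ[K] Ω[K⁄E] := hbc.equiv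
  let e2 : K ⊗[E[X]] Ω[E[X]⁄E] ≃ₗ[K] K ⊗[E[X]] E[X] :=
    LinearEquiv.baseChange E[X] K _ _ (KaehlerDifferential.polynomialEquiv E)
  let e3 : K ⊗[E[X]] E[X] ≃ₗ[K] K := TensorProduct.AlgebraTensorModule.rid E[X] K K
  let e : Ω[K⁄E] ≃ₗ[K] K := e1.symm.trans (e2.trans e3)
  have hΩ : Module.Finite K (Ω[K⁄E]) := Module.Finite.equiv e.symm
  have hrk : Module.finrank K (Ω[K⁄E]) = 1 := by rw [e.finrank_eq, Module.finrank_self]
  have halg : Algebra.IsAlgebraic E[X] K := IsLocalization.isAlgebraic K (nonZeroDivisors E[X])
  have htr : Algebra.trdeg E K = 1 := by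
    have := _root_.trdeg_add_eq E E[X] (A := K)
    rw [Polynomial.trdeg_of_isDomain, _root_.trdeg_eq_zero, add_zero] at this
    exact this.symm
  refine ⟨hΩ, inferInstance, ?_, ?_⟩
  · rw [htr]; exact Cardinal.one_lt_aleph0
  · rw [hrk, htr, Module.finrank_zero_of_subsingleton]
    simp

end transcendental

section simple
open Algebra KaehlerDifferential IntermediateField
variable (E K : Type u) [Field E] [Field K] [Algebra E K]

theorem good_of_transcendental (x : K) (hx : Transcendental E x)
    (htop : IntermediateField.adjoin E {x} = ⊤) : Good E K := by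
  let _ : Algebra E[X] K := (Polynomial.aeval x).toRingHom.toAlgebra
  have hmap : ∀ p : E[X], algebraMap E[X] K p = Polynomial.aeval x p := fun p => rfl
  have : IsScalarTower E E[X] K := IsScalarTower.of_algebraMap_eq (fun r => by
    rw [hmap, Polynomial.algebraMap_apply, Polynomial.aeval_C]
    rfl)
  have hinj : Function.Injective (algebraMap E[X] K) := by
    intro p q hpq
    rw [hmap, hmap] at hpq
    exact (transcendental_iff_injective.1 hx) hpq
  have : FaithfulSMul E[X] K := (faithfulSMul_iff_algebraMap_injective E[X] K).2 hinj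
  have : IsFractionRing E[X] K := by
    refine IsFractionRing.of_field E[X] K (fun z => ?_)
    have hz : z ∈ IntermediateField.adjoin E {x} := htop ▸ IntermediateField.mem_top
    rw [IntermediateField.mem_adjoin_simple_iff] at hz
    obtain ⟨r, s, hrs⟩ := hz
    exact ⟨r, s, hrs⟩
  exact good_of_isFractionRing E K

end simple

section algebraic
open Algebra KaehlerDifferential IntermediateField
variable (E K : Type u) [Field E] [Field K] [Algebra E K]

theorem good_of_isIntegral (x : K) (hx : IsIntegral E x)
    (htop : IntermediateField.adjoin E {x} = ⊤) : Good E K := by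
  classical
  have hadj : Algebra.adjoin E {x} = ⊤ := by
    rw [← IntermediateField.adjoin_simple_toSubalgebra_of_isAlgebraic hx.isAlgebraic, htop,
      IntermediateField.top_toSubalgebra]
  have hsurj : Function.Surjective (Polynomial.aeval x : E[X] →ₐ[E] K) := by
    rw [← AlgHom.range_eq_top, ← Algebra.adjoin_singleton_eq_range_aeval, hadj]
  have hfin : Module.Finite E K := by
    rw [Module.finite_def, ← Algebra.top_toSubmodule, ← hadj]
    exact hx.fg_adjoin_singleton
  have halg : Algebra.IsAlgebraic E K := Algebra.IsAlgebraic.of_finite E K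
  have htr : Algebra.trdeg E K = 0 := _root_.trdeg_eq_zero
  let P : Algebra.Extension E K := Algebra.Extension.ofSurjective (Polynomial.aeval x) hsurj
  have hmap : ∀ p : E[X], algebraMap P.Ring K p = Polynomial.aeval x p := fun p => rfl
  have hfsP : Algebra.FormallySmooth E P.Ring := inferInstanceAs (Algebra.FormallySmooth E E[X])
  have hfsS : Algebra.FormallySmooth E (Algebra.Generators.self E K).toExtension.Ring :=
    inferInstanceAs (Algebra.FormallySmooth E (MvPolynomial K E))
  let eH : P.H1Cotangent ≃ₗ[K] Algebra.H1Cotangent E K :=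
    Algebra.Extension.H1Cotangent.equivOfFormallySmooth P (Algebra.Generators.self E K).toExtension
  -- the cotangent space is one-dimensional
  let e2 : K ⊗[P.Ring] Ω[P.Ring⁄E] ≃ₗ[K] K ⊗[P.Ring] P.Ring :=
    LinearEquiv.baseChange P.Ring K _ _ (KaehlerDifferential.polynomialEquiv E)
  let e3 : K ⊗[P.Ring] P.Ring ≃ₗ[K] K := TensorProduct.AlgebraTensorModule.rid P.Ring K K
  let eCS : P.CotangentSpace ≃ₗ[K] K := e2.trans e3
  have hCSfin : Module.Finite K P.CotangentSpace := Module.Finite.equiv eCS.symm
  have hCSrk : Module.finrank K P.CotangentSpace = 1 := by rw [eCS.finrank_eq, Module.finrank_self]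
  -- the cotangent module is one-dimensional
  have hpid : IsPrincipalIdealRing P.Ring := inferInstanceAs (IsPrincipalIdealRing E[X])
  have hdom : IsDomain P.Ring := inferInstanceAs (IsDomain E[X])
  obtain ⟨g, hg⟩ := (IsPrincipalIdealRing.principal P.ker).principal
  have hgmem : g ∈ P.ker := by
    rw [hg]
    exact Submodule.mem_span_singleton_self g
  have hg0 : g ≠ 0 := by
    rintro rfl
    have hker : P.ker = ⊥ := by rw [hg]; simp
    have hm : ∀ q : P.Ring, algebraMap P.Ring K q = 0 → q = 0 := fun q hq => by
      have : q ∈ P.ker := hq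
      rw [hker] at this
      exact Ideal.mem_bot.1 this
    exact minpoly.ne_zero hx (hm (minpoly E x) (by rw [hmap, minpoly.aeval]))
  let v₀ : P.Cotangent := Algebra.Extension.Cotangent.mk ⟨g, hgmem⟩
  have hv₀ : v₀ ≠ 0 := by
    intro h0
    rw [Algebra.Extension.Cotangent.mk_eq_zero_iff] at h0
    have h1 : g ∈ Ideal.span {g} ^ 2 := by
      have : P.ker ^ 2 = Ideal.span {g} ^ 2 := by
        conv_lhs => rw [hg]
      rw [← this]
      exact h0
    rw [Ideal.span_singleton_pow, Ideal.mem_span_singleton] at h1
    obtain ⟨a, ha⟩ := h1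
    have h2 : g * (1 - g * a) = 0 := by
      have : g ^ 2 * a = g * (g * a) := by ring
      rw [mul_sub, mul_one, ← this, ← ha, sub_self]
    rcases mul_eq_zero.1 h2 with h3 | h3
    · exact hg0 h3
    · have h4 : (1 : P.Ring) ∈ P.ker := by
        have : (1 : P.Ring) = g * a := by rw [← sub_eq_zero]; exact h3
        rw [this]
        exact Ideal.mul_mem_right _ _ hgmem
      have h5 : algebraMap P.Ring K 1 = 0 := h4
      rw [map_one] at h5
      exact one_ne_zero h5
  have hcyc : ∀ w : P.Cotangent, ∃ c : K, c • v₀ = w := by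
    intro w
    obtain ⟨⟨y, hy⟩, rfl⟩ := Algebra.Extension.Cotangent.mk_surjective w
    have hy' : y ∈ Submodule.span P.Ring {g} := hg ▸ hy
    obtain ⟨a, rfl⟩ := Submodule.mem_span_singleton.mp hy'
    refine ⟨algebraMap P.Ring K a, ?_⟩
    rw [algebraMap_smul, ← map_smul]
    rfl
  have hCfin : Module.Finite K P.Cotangent := by
    refine ⟨⟨{v₀}, ?_⟩⟩
    rw [Finset.coe_singleton, _root_.eq_top_iff]
    intro w _
    obtain ⟨c, rfl⟩ := hcyc w
    exact Submodule.smul_mem _ c (Submodule.mem_span_singleton_self v₀)
  have hCrk : Module.finrank K P.Cotangent = 1 := (finrank_eq_one_iff_of_nonzero' v₀ hv₀).2 hcyc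
  -- rank–nullity
  have hex := P.exact_cotangentComplex_toKaehler
  have hsurjK := P.toKaehler_surjective
  have hΩfin : Module.Finite K (Ω[K⁄E]) := Module.Finite.of_surjective P.toKaehler hsurjK
  have r1 := LinearMap.finrank_range_add_finrank_ker P.cotangentComplex
  have r2 := LinearMap.finrank_range_add_finrank_ker P.toKaehler
  rw [hex.linearMap_ker_eq] at r2
  have r3 : Module.finrank K (LinearMap.range P.toKaehler) = Module.finrank K (Ω[K⁄E]) := by
    rw [LinearMap.range_eq_top.2 hsurjK, finrank_top]
  have hHfin' : Module.Finite K P.H1Cotangent :=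
    Module.Finite.of_injective P.h1Cotangentι P.h1Cotangentι_injective
  have hHfin : Module.Finite K (Algebra.H1Cotangent E K) := Module.Finite.equiv eH
  have r4 : Module.finrank K (Algebra.H1Cotangent E K) =
      Module.finrank K (LinearMap.ker P.cotangentComplex) := by
    rw [← eH.finrank_eq]
    rfl
  refine ⟨hΩfin, hHfin, ?_, ?_⟩
  · rw [htr]; exact Cardinal.aleph0_pos
  · rw [htr, r4]
    simp only [Cardinal.zero_toNat, Nat.cast_zero]
    omega

end algebraic

end Groth.Agent.Lib.Helper11.Cartier
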