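import Groth.Agent.Lib.Helper11.Cartier2

set_option autoImplicit false
set_option linter.unusedSectionVars false
universe u
open TensorProduct Polynomial

namespace Groth.Agent.Lib.Helper11.Cartier

section induct
open Algebra KaehlerDifferential IntermediateField

theorem good_of_simple (E K : Type u) [Field E] [Field K] [Algebra E K] (x : K)
    (htop : IntermediateField.adjoin E {x} = ⊤) : Good E K := by
  by_cases hx : IsIntegral E x
  · exact good_of_isIntegral E K x hx htop
  · exact good_of_transcendental E K x (fun h => hx h.isIntegral) htop

theorem good_of_card (n : ℕ) : ∀ (k K : Type u) [Field k] [Field K] [Algebra k K] (S : Finset K),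
    S.card ≤ n → IntermediateField.adjoin k (S : Set K) = ⊤ → Good k K := by
  classical
  induction n with
  | zero =>
    intro k K _ _ _ S hS htop
    have hS' : S = ∅ := Finset.card_eq_zero.1 (Nat.le_zero.1 hS)
    subst hS'
    refine good_of_simple k K 1 ?_
    rw [IntermediateField.adjoin_one, ← htop]
    simp
  | succ n ih =>
    intro k K _ _ _ S hS htop
    rcases S.eq_empty_or_nonempty with hS' | ⟨x, hxS⟩
    · subst hS'
      exact ih k K ∅ (by simp) htop
    · let S' := S.erase x
      let E : IntermediateField k K := IntermediateField.adjoin k (S' : Set K)
      -- generators of E over k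
      have hsub : ∀ s ∈ S', s ∈ E := fun s hs => IntermediateField.subset_adjoin k _ hs
      let T : Finset E := S'.attach.image (fun s => ⟨s.1, hsub s.1 s.2⟩)
      have hT : IntermediateField.adjoin k (T : Set E) = ⊤ := by
        have himg : Subtype.val '' (T : Set E) = (S' : Set K) := by
          ext y
          constructor
          · rintro ⟨z, hz, rfl⟩
            rw [Finset.mem_coe, Finset.mem_image] at hz
            obtain ⟨a, -, rfl⟩ := hz
            exact a.2
          · intro hy
            refine ⟨⟨y, hsub y hy⟩, ?_, rfl⟩
            rw [Finset.mem_coe, Finset.mem_image]
            exact ⟨⟨y, hy⟩, Finset.mem_attach _ _, rfl⟩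
        apply IntermediateField.lift_injective E
        rw [IntermediateField.lift_adjoin, IntermediateField.lift_top, himg]
      have hTcard : T.card ≤ n := by
        refine (Finset.card_image_le).trans ?_
        rw [Finset.card_attach, Finset.card_erase_of_mem hxS]
        omega
      have hkE : Good k E := ih k E T hTcard hT
      have hEK : Good E K := by
        refine good_of_simple E K x ?_
        rw [← IntermediateField.restrictScalars_eq_top_iff (K := k), IntermediateField.adjoin_adjoin_left,
          ← htop]
        congr 1
        ext y
        simp only [Set.union_singleton, Set.mem_insert_iff, Finset.mem_coe, S', Finset.mem_erase]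
        constructor
        · rintro (rfl | ⟨-, h⟩)
          · exact hxS
          · exact h
        · intro hy
          by_cases hyx : y = x
          · exact Or.inl hyx
          · exact Or.inr ⟨hyx, hy⟩
      exact Good.tower k E K hkE hEK

/-- **Cartier's equality** for finitely generated field extensions. -/
theorem good_of_essFiniteType (k K : Type u) [Field k] [Field K] [Algebra k K]
    [Algebra.EssFiniteType k K] : Good k K := by
  obtain ⟨S, hS⟩ := IntermediateField.fg_top (F := k) (E := K)
  exact good_of_card S.card k K S le_rfl hS

end induct

end Groth.Agent.Lib.Helper11.Cartier
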