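import Groth.Agent.Lib.Helper11.Cartier1

set_option autoImplicit false
set_option linter.unusedSectionVars false
universe u
open TensorProduct

namespace Groth.Agent.Lib.Helper11.Cartier

section kercoker
variable {K : Type*} [Field K] {U V W : Type*} [AddCommGroup U] [Module K U] [AddCommGroup V] [Module K V]
  [AddCommGroup W] [Module K W]

/-- kernel–cokernel sequence of a composite: finiteness and additivity of the index -/
theorem kercoker_comp (f : U →ₗ[K] V) (g : V →ₗ[K] W)
    [Module.Finite K (LinearMap.ker f)] [Module.Finite K (V ⧸ LinearMap.range f)]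
    [Module.Finite K (LinearMap.ker g)] [Module.Finite K (W ⧸ LinearMap.range g)] :
    Module.Finite K (LinearMap.ker (g ∘ₗ f)) ∧ Module.Finite K (W ⧸ LinearMap.range (g ∘ₗ f)) ∧
      (Module.finrank K (LinearMap.ker (g ∘ₗ f)) : ℤ) - Module.finrank K (W ⧸ LinearMap.range (g ∘ₗ f)) =
        (Module.finrank K (LinearMap.ker f) - Module.finrank K (V ⧸ LinearMap.range f)) +
        (Module.finrank K (LinearMap.ker g) - Module.finrank K (W ⧸ LinearMap.range g)) := by
  let f1 : LinearMap.ker f →ₗ[K] LinearMap.ker (g ∘ₗ f) :=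
    Submodule.inclusion (LinearMap.ker_le_ker_comp f g)
  let f2 : LinearMap.ker (g ∘ₗ f) →ₗ[K] LinearMap.ker g :=
    f.restrict (fun x hx => by
      rw [LinearMap.mem_ker] at hx ⊢
      exact hx)
  let f3 : LinearMap.ker g →ₗ[K] V ⧸ LinearMap.range f :=
    (LinearMap.range f).mkQ ∘ₗ (LinearMap.ker g).subtype
  let f4 : (V ⧸ LinearMap.range f) →ₗ[K] W ⧸ LinearMap.range (g ∘ₗ f) :=
    Submodule.mapQ _ _ g (by
      rintro _ ⟨u, rfl⟩
      exact ⟨u, rfl⟩)
  let f5 : (W ⧸ LinearMap.range (g ∘ₗ f)) →ₗ[K] W ⧸ LinearMap.range g :=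
    Submodule.mapQ _ _ LinearMap.id (by
      rintro _ ⟨u, rfl⟩
      exact ⟨f u, rfl⟩)
  have h1 : Function.Injective f1 := Submodule.inclusion_injective _
  have h12 : Function.Exact f1 f2 := by
    intro y
    constructor
    · intro hy
      have : f y.1 = 0 := congrArg Subtype.val hy
      exact ⟨⟨y.1, this⟩, Subtype.ext rfl⟩
    · rintro ⟨z, rfl⟩
      exact Subtype.ext z.2
  have h23 : Function.Exact f2 f3 := by
    intro z
    constructor
    · intro hz
      have : z.1 ∈ LinearMap.range f := (Submodule.Quotient.mk_eq_zero _).1 hz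
      obtain ⟨y, hy⟩ := this
      refine ⟨⟨y, ?_⟩, Subtype.ext hy⟩
      rw [LinearMap.mem_ker, LinearMap.comp_apply, hy]
      exact z.2
    · rintro ⟨y, rfl⟩
      exact (Submodule.Quotient.mk_eq_zero _).2 ⟨y.1, rfl⟩
  have h34 : Function.Exact f3 f4 := by
    intro v
    obtain ⟨v, rfl⟩ := Submodule.Quotient.mk_surjective _ v
    constructor
    · intro hv
      have : g v ∈ LinearMap.range (g ∘ₗ f) := (Submodule.Quotient.mk_eq_zero _).1 hv
      obtain ⟨u, hu⟩ := this
      refine ⟨⟨v - f u, ?_⟩, ?_⟩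
      · rw [LinearMap.mem_ker, map_sub, ← hu, LinearMap.comp_apply, sub_self]
      · change Submodule.Quotient.mk (v - f u) = Submodule.Quotient.mk v
        rw [Submodule.Quotient.mk_sub, (Submodule.Quotient.mk_eq_zero (LinearMap.range f)).2 (LinearMap.mem_range_self f u), sub_zero]
    · rintro ⟨z, hz⟩
      rw [← hz]
      change Submodule.Quotient.mk (g z.1) = 0
      rw [z.2]
      exact Submodule.Quotient.mk_zero _
  have h45 : Function.Exact f4 f5 := by
    intro w
    obtain ⟨w, rfl⟩ := Submodule.Quotient.mk_surjective _ w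
    constructor
    · intro hw
      have : w ∈ LinearMap.range g := (Submodule.Quotient.mk_eq_zero _).1 hw
      obtain ⟨v, rfl⟩ := this
      exact ⟨Submodule.Quotient.mk v, rfl⟩
    · rintro ⟨v, hv⟩
      obtain ⟨v, rfl⟩ := Submodule.Quotient.mk_surjective _ v
      rw [← hv]
      exact (Submodule.Quotient.mk_eq_zero _).2 ⟨v, rfl⟩
  have h5 : Function.Surjective f5 := by
    intro w
    obtain ⟨w, rfl⟩ := Submodule.Quotient.mk_surjective _ w
    exact ⟨Submodule.Quotient.mk w, rfl⟩
  obtain ⟨hV2, hV5, heq⟩ := euler6 f1 f2 f3 f4 f5 h1 h12 h23 h34 h45 h5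
  refine ⟨hV2, hV5, ?_⟩
  omega

end kercoker

section patterns
variable {K : Type*} [Field K]
  {V1 V2 V3 V4 V5 V6 : Type*} [AddCommGroup V1] [Module K V1] [AddCommGroup V2] [Module K V2]
  [AddCommGroup V3] [Module K V3] [AddCommGroup V4] [Module K V4] [AddCommGroup V5] [Module K V5]
  [AddCommGroup V6] [Module K V6]

/-- pattern 1: outer-left terms `V1`, `V4` finite; indices of `f5` and `f2` -/
theorem pattern1 (f1 : V1 →ₗ[K] V2) (f2 : V2 →ₗ[K] V3) (f3 : V3 →ₗ[K] V4) (f4 : V4 →ₗ[K] V5)
    (f5 : V5 →ₗ[K] V6) (h1 : Function.Injective f1) (h12 : Function.Exact f1 f2)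
    (h23 : Function.Exact f2 f3) (h34 : Function.Exact f3 f4) (h45 : Function.Exact f4 f5)
    (h5 : Function.Surjective f5) [Module.Finite K V1] [Module.Finite K V4] :
    Module.Finite K (LinearMap.ker f5) ∧ Module.Finite K (V6 ⧸ LinearMap.range f5) ∧
    Module.Finite K (LinearMap.ker f2) ∧ Module.Finite K (V3 ⧸ LinearMap.range f2) ∧
      ((Module.finrank K (LinearMap.ker f5) : ℤ) - Module.finrank K (V6 ⧸ LinearMap.range f5)) -
        ((Module.finrank K (LinearMap.ker f2) : ℤ) - Module.finrank K (V3 ⧸ LinearMap.range f2)) =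
        Module.finrank K V4 - Module.finrank K V1 := by
  have a1 : Module.Finite K (LinearMap.ker f5) := by
    rw [h45.linearMap_ker_eq]; infer_instance
  have a2 : Subsingleton (V6 ⧸ LinearMap.range f5) := by
    exact Submodule.Quotient.subsingleton_iff.2 (LinearMap.range_eq_top.2 h5)
  have a3 : Module.Finite K (LinearMap.ker f2) := by
    rw [h12.linearMap_ker_eq]; infer_instance
  let e : (V3 ⧸ LinearMap.range f2) ≃ₗ[K] LinearMap.range f3 :=
    (Submodule.quotEquivOfEq _ _ h23.linearMap_ker_eq.symm).trans f3.quotKerEquivRange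
  have a4 : Module.Finite K (V3 ⧸ LinearMap.range f2) := Module.Finite.equiv e.symm
  refine ⟨a1, inferInstance, a3, a4, ?_⟩
  have e1 : Module.finrank K (LinearMap.ker f5) = Module.finrank K (LinearMap.range f4) := by
    rw [h45.linearMap_ker_eq]
  have e2 : Module.finrank K (V6 ⧸ LinearMap.range f5) = 0 := Module.finrank_zero_of_subsingleton
  have e3 : Module.finrank K (LinearMap.ker f2) = Module.finrank K V1 := by
    rw [h12.linearMap_ker_eq, LinearMap.finrank_range_of_inj h1]
  have e4 : Module.finrank K (V3 ⧸ LinearMap.range f2) = Module.finrank K (LinearMap.range f3) :=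
    e.finrank_eq
  have e5 := finrank_of_exact f3 f4 h34
  omega

/-- pattern 2: outer-right terms `V3`, `V6` finite; indices of `f4` and `f1` -/
theorem pattern2 (f1 : V1 →ₗ[K] V2) (f2 : V2 →ₗ[K] V3) (f3 : V3 →ₗ[K] V4) (f4 : V4 →ₗ[K] V5)
    (f5 : V5 →ₗ[K] V6) (h1 : Function.Injective f1) (h12 : Function.Exact f1 f2)
    (h23 : Function.Exact f2 f3) (h34 : Function.Exact f3 f4) (h45 : Function.Exact f4 f5)
    (h5 : Function.Surjective f5) [Module.Finite K V3] [Module.Finite K V6] :
    Module.Finite K (LinearMap.ker f4) ∧ Module.Finite K (V5 ⧸ LinearMap.range f4) ∧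
    Module.Finite K (LinearMap.ker f1) ∧ Module.Finite K (V2 ⧸ LinearMap.range f1) ∧
      ((Module.finrank K (LinearMap.ker f4) : ℤ) - Module.finrank K (V5 ⧸ LinearMap.range f4)) -
        ((Module.finrank K (LinearMap.ker f1) : ℤ) - Module.finrank K (V2 ⧸ LinearMap.range f1)) =
        Module.finrank K V3 - Module.finrank K V6 := by
  have a1 : Module.Finite K (LinearMap.ker f4) := by
    rw [h34.linearMap_ker_eq]; infer_instance
  let e5 : (V5 ⧸ LinearMap.range f4) ≃ₗ[K] V6 :=
    (Submodule.quotEquivOfEq _ _ h45.linearMap_ker_eq.symm).trans (f5.quotKerEquivOfSurjective h5)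
  have a2 : Module.Finite K (V5 ⧸ LinearMap.range f4) := Module.Finite.equiv e5.symm
  have hk : LinearMap.ker f1 = ⊥ := LinearMap.ker_eq_bot.2 h1
  have a3 : Module.Finite K (LinearMap.ker f1) := by
    rw [hk]; infer_instance
  let e2 : (V2 ⧸ LinearMap.range f1) ≃ₗ[K] LinearMap.range f2 :=
    (Submodule.quotEquivOfEq _ _ h12.linearMap_ker_eq.symm).trans f2.quotKerEquivRange
  have a4 : Module.Finite K (V2 ⧸ LinearMap.range f1) := Module.Finite.equiv e2.symm
  refine ⟨a1, a2, a3, a4, ?_⟩
  have c1 : Module.finrank K (LinearMap.ker f4) = Module.finrank K (LinearMap.range f3) := by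
    rw [h34.linearMap_ker_eq]
  have c2 : Module.finrank K (V5 ⧸ LinearMap.range f4) = Module.finrank K V6 := e5.finrank_eq
  have c3 : Module.finrank K (LinearMap.ker f1) = 0 := by
    rw [hk]; exact finrank_bot K V1
  have c4 : Module.finrank K (V2 ⧸ LinearMap.range f1) = Module.finrank K (LinearMap.range f2) :=
    e2.finrank_eq
  have c5 := finrank_of_exact f2 f3 h23
  omega

end patterns

end Groth.Agent.Lib.Helper11.Cartier
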