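import Groth.Agent.Lib.Helper11.Cartier3
import Groth.Agent.Lib.Helper11.Cartier4

set_option autoImplicit false
set_option linter.unusedSectionVars false
universe u
open TensorProduct

namespace Groth.Agent.Lib.Helper11.Cartier

section factor
open Algebra KaehlerDifferential
variable (k k' K K' : Type u) [CommRing k] [CommRing k'] [CommRing K] [CommRing K']
  [Algebra k k'] [Algebra k K] [Algebra k K'] [Algebra k' K'] [Algebra K K']
  [IsScalarTower k k' K'] [IsScalarTower k K K']

theorem kaehler_map_factor (w : Ω[K⁄k]) :
    KaehlerDifferential.map k k' K K' w =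
      KaehlerDifferential.map k k' K' K' (KaehlerDifferential.map k k K K' w) := by
  have hw : w ∈ Submodule.span K (Set.range (KaehlerDifferential.D k K)) := by
    rw [KaehlerDifferential.span_range_derivation]; trivial
  induction hw using Submodule.span_induction with
  | mem _ hm =>
    obtain ⟨x, rfl⟩ := hm
    simp only [KaehlerDifferential.map_D]
    rfl
  | zero => simp
  | add a b _ _ ha hb => simp only [map_add, ha, hb]
  | smul c a _ ha =>
    rw [LinearMap.map_smul_of_tower, LinearMap.map_smul_of_tower, ha]
    rw [algebra_compatible_smul K' c, algebra_compatible_smul K' c, map_smul]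

theorem alpha_factor :
    (KaehlerDifferential.map k k' K K').liftBaseChange K' =
      (KaehlerDifferential.map k k' K' K') ∘ₗ (KaehlerDifferential.mapBaseChange k K K') := by
  apply LinearMap.ext
  intro t
  induction t using TensorProduct.induction_on with
  | zero => simp
  | tmul c w =>
    rw [LinearMap.liftBaseChange_tmul, LinearMap.comp_apply, KaehlerDifferential.mapBaseChange_tmul,
      map_smul, kaehler_map_factor]
  | add a b ha hb => rw [map_add, map_add, ha, hb]

theorem h1_map_factor (x : Algebra.H1Cotangent k K) :
    Algebra.H1Cotangent.map k k' K K' x =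
      Algebra.H1Cotangent.map k k' K' K' (Algebra.H1Cotangent.map k k K K' x) := by
  unfold Algebra.H1Cotangent.map
  rw [← Algebra.Extension.H1Cotangent.map_comp_apply]
  exact congrFun (congrArg DFunLike.coe (Algebra.Extension.H1Cotangent.map_eq _ _)) x

theorem beta_factor :
    (Algebra.H1Cotangent.map k k' K K').liftBaseChange K' =
      (Algebra.H1Cotangent.map k k' K' K') ∘ₗ ((Algebra.H1Cotangent.map k k K K').liftBaseChange K') := by
  apply LinearMap.ext
  intro t
  induction t using TensorProduct.induction_on with
  | zero => simp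
  | tmul c w =>
    rw [LinearMap.liftBaseChange_tmul, LinearMap.comp_apply, LinearMap.liftBaseChange_tmul,
      map_smul, h1_map_factor]
  | add a b ha hb => rw [map_add, map_add, ha, hb]

end factor

section main
open Algebra KaehlerDifferential
variable (k k' K K' : Type u) [Field k] [Field k'] [Field K] [Field K']
  [Algebra k k'] [Algebra k K] [Algebra k K'] [Algebra k' K'] [Algebra K K']
  [IsScalarTower k k' K'] [IsScalarTower k K K']

theorem main20 [Algebra.EssFiniteType k k'] [Algebra.EssFiniteType K K'] :
    Module.Finite K' (LinearMap.ker ((KaehlerDifferential.map k k' K K').liftBaseChange K')) ∧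
      Module.Finite K' (Ω[K'⁄k'] ⧸ LinearMap.range ((KaehlerDifferential.map k k' K K').liftBaseChange K')) ∧
      Module.Finite K' (LinearMap.ker ((Algebra.H1Cotangent.map k k' K K').liftBaseChange K')) ∧
      Module.Finite K' (Algebra.H1Cotangent k' K' ⧸ LinearMap.range ((Algebra.H1Cotangent.map k k' K K').liftBaseChange K')) ∧
      ((Module.finrank K' (LinearMap.ker ((KaehlerDifferential.map k k' K K').liftBaseChange K')) : ℤ)
          - Module.finrank K' (Ω[K'⁄k'] ⧸ LinearMap.range ((KaehlerDifferential.map k k' K K').liftBaseChange K'))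
          - Module.finrank K' (LinearMap.ker ((Algebra.H1Cotangent.map k k' K K').liftBaseChange K'))
          + Module.finrank K' (Algebra.H1Cotangent k' K' ⧸ LinearMap.range ((Algebra.H1Cotangent.map k k' K K').liftBaseChange K'))
        = (Cardinal.toNat (Algebra.trdeg k k') : ℤ) - Cardinal.toNat (Algebra.trdeg K K')) := by
  obtain ⟨hΩ1, hH1, -, he1⟩ := good_of_essFiniteType k k'
  obtain ⟨hΩ2, hH2, -, he2⟩ := good_of_essFiniteType K K'
  rw [alpha_factor, beta_factor]
  -- sequence (1): k → k' → K'
  have p1 := pattern1 ((Algebra.H1Cotangent.map k k k' K').liftBaseChange K')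
    (Algebra.H1Cotangent.map k k' K' K') (Algebra.H1Cotangent.δ k k' K') (mapBaseChange k k' K')
    (KaehlerDifferential.map k k' K' K') Groth.Agent.S9319.result
    (Algebra.H1Cotangent.exact_liftBaseChange_map_of_flat k k' K')
    (Algebra.H1Cotangent.exact_map_δ k k' K') (Algebra.H1Cotangent.exact_δ_mapBaseChange k k' K')
    (KaehlerDifferential.exact_mapBaseChange_map k k' K') (KaehlerDifferential.map_surjective k k' K')
  -- sequence (2): k → K → K'
  have p2 := pattern2 ((Algebra.H1Cotangent.map k k K K').liftBaseChange K')
    (Algebra.H1Cotangent.map k K K' K') (Algebra.H1Cotangent.δ k K K') (mapBaseChange k K K')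
    (KaehlerDifferential.map k K K' K') Groth.Agent.S9319.result
    (Algebra.H1Cotangent.exact_liftBaseChange_map_of_flat k K K')
    (Algebra.H1Cotangent.exact_map_δ k K K') (Algebra.H1Cotangent.exact_δ_mapBaseChange k K K')
    (KaehlerDifferential.exact_mapBaseChange_map k K K') (KaehlerDifferential.map_surjective k K K')
  obtain ⟨a1, a2, a3, a4, ea⟩ := p1
  obtain ⟨b1, b2, b3, b4, eb⟩ := p2
  obtain ⟨c1, c2, ec⟩ := kercoker_comp (mapBaseChange k K K') (KaehlerDifferential.map k k' K' K')
  obtain ⟨d1, d2, ed⟩ := kercoker_comp ((Algebra.H1Cotangent.map k k K K').liftBaseChange K')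
    (Algebra.H1Cotangent.map k k' K' K')
  refine ⟨c1, c2, d1, d2, ?_⟩
  have f1 : Module.finrank K' (K' ⊗[k'] Algebra.H1Cotangent k k') =
      Module.finrank k' (Algebra.H1Cotangent k k') := Module.finrank_baseChange
  have f2 : Module.finrank K' (K' ⊗[k'] Ω[k'⁄k]) = Module.finrank k' (Ω[k'⁄k]) := Module.finrank_baseChange
  rw [f1, f2] at ea
  omega

end main

end Groth.Agent.Lib.Helper11.Cartier
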