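import Groth.Statements.S2373
import Groth.Agent.Lib.Helper13.DRingPC
import Mathlib.Algebra.Homology.Embedding.RestrictionHomology

set_option autoImplicit false
universe u
open CategoryTheory CategoryTheory.Limits
attribute [local instance] HasDerivedCategory.standard

namespace Groth.Agent.Lib.Helper11.FFRes

open Groth.Agent.Lib.Helper13.PC Groth.Agent.Lib.Helper13.DR PCoh

/-- index flip `down ℤ → up ℤ`. -/
def eDU : (ComplexShape.down ℤ).Embedding (ComplexShape.up ℤ) :=
  ComplexShape.Embedding.mk' _ _ (fun n => -n) (fun _ _ h => by simpa using h)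
    (by intro i j; simp only [ComplexShape.down_Rel, ComplexShape.up_Rel]; omega)

/-- index flip `up ℤ → down ℤ`. -/
def eUD : (ComplexShape.up ℤ).Embedding (ComplexShape.down ℤ) :=
  ComplexShape.Embedding.mk' _ _ (fun n => -n) (fun _ _ h => by simpa using h)
    (by intro i j; simp only [ComplexShape.down_Rel, ComplexShape.up_Rel]; omega)

instance : eDU.IsRelIff := by dsimp [eDU]; infer_instance
instance : eUD.IsRelIff := by dsimp [eUD]; infer_instance

variable {C : Type*} [Category C] [Abelian C]

/-- double flip is the identity. -/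
noncomputable def flipFlipIso (P : ChainComplex C ℤ) : (P.restriction eUD).restriction eDU ≅ P :=
  HomologicalComplex.Hom.isoOfComponents (fun i => P.XIsoOfEq (neg_neg i)) (by
    intro i j _
    change (P.XIsoOfEq (neg_neg i)).hom ≫ P.d i j = P.d (-(-i)) (-(-j)) ≫ (P.XIsoOfEq (neg_neg j)).hom
    simp)


/-- homology of the flipped complex. -/
noncomputable def flipHomologyIso (P : ChainComplex C ℤ) (i : ℤ) :
    (P.restriction eUD).homology i ≅ P.homology (-i) :=
  P.restrictionHomologyIso eUD (i - 1) i (i + 1) (by simp) (by simp)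
    (i' := -(i - 1)) (j' := -i) (k' := -(i + 1)) rfl rfl rfl (by simp; omega) (by simp; omega)

lemma quasiIsoAt_restrictionMap_eDU {K L : CochainComplex C ℤ} (f : K ⟶ L) (j : ℤ)
    (h : QuasiIsoAt f (-j)) : QuasiIsoAt (HomologicalComplex.restrictionMap f eDU) j := by
  rw [quasiIsoAt_iff' _ (j + 1) j (j - 1) (by simp) (by simp)]
  rw [quasiIsoAt_iff' _ (-(j + 1)) (-j) (-(j - 1)) (by simp; omega) (by simp; omega)] at h
  exact h


theorem exists_finite_free_resolution {A : Type u} [CommRing A] [IsNoetherianRing A]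
    (P : ChainComplex (ModuleCat.{u} A) ℤ) (hP : ∀ i, Module.Finite A (P.homology i)) (d : ℤ)
    (hd : ∀ i < d, IsZero (P.homology i)) :
    ∃ (Q : ChainComplex (ModuleCat.{u} A) ℤ) (u : Q ⟶ P),
      (∀ i, Module.Finite A (Q.X i) ∧ Module.Free A (Q.X i)) ∧ (∀ i < d, IsZero (Q.X i)) ∧
        QuasiIso u := by
  let P' : CochainComplex (ModuleCat.{u} A) ℤ := P.restriction eUD
  have iso : ∀ i : ℤ, (DerivedCategory.homologyFunctor (ModuleCat.{u} A) i).obj (DerivedCategory.Q.obj P') ≅
      P.homology (-i) := fun i => homologyQIso P' i ≪≫ flipHomologyIso P i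
  have hb : ∀ i : ℤ, -d < i →
      IsZero ((DerivedCategory.homologyFunctor (ModuleCat.{u} A) i).obj (DerivedCategory.Q.obj P')) :=
    fun i hi => (hd (-i) (by omega)).of_iso (iso i)
  have hfin : ∀ i, Module.Finite A
      ((DerivedCategory.homologyFunctor (ModuleCat.{u} A) i).obj (DerivedCategory.Q.obj P')) :=
    fun i => by
      have := hP (-i)
      exact Module.Finite.equiv (iso i).symm.toLinearEquiv
  have hkf := fun (M : ModuleCat.{u} A) (_ : Pff A M) => kerFG_of_isNoetherianRing M
  have hPC : IsPC (Pff A) (DerivedCategory.Q.obj P') := fun m =>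
    (isNPC_iff_of_kerFG hkf m _ (-d) hb).2
      ⟨hfin m, fun i _ => ⟨hfin i, kerFG_of_isNoetherianRing _⟩⟩
  have hqs : IsQuasiStableUnderKernels (Pff A) :=
    isQuasiStableUnderKernels_of_coherent (hcoh_of_kerFG hkf)
  obtain ⟨E', u', hE, hz, hq⟩ := exists_strictPCAll_quasiIso Pff_prod hqs hql_Pff P' hPC (-d + 1)
    (fun i hi => (hb i (by omega)).of_iso (homologyQIso P' i).symm)
  refine ⟨E'.restriction eDU, HomologicalComplex.restrictionMap u' eDU ≫ (flipFlipIso P).hom,
    fun i => hE (-i), fun i hi => hz (-i) (by omega), ?_⟩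
  have : QuasiIso (HomologicalComplex.restrictionMap u' eDU) :=
    ⟨fun j => quasiIsoAt_restrictionMap_eDU u' j inferInstance⟩
  infer_instance

end Groth.Agent.Lib.Helper11.FFRes
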