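import Mathlib

set_option autoImplicit false
set_option linter.unusedSectionVars false
universe u
open TensorProduct

namespace Groth.Agent.Lib.Helper11.Conorm

section rel
variable {R : Type*} [CommRing R]

/-- the ideal generated by the first `k` terms -/
def Jk (f : ℕ → R) (k : ℕ) : Ideal R := Ideal.span (f '' (Finset.range k : Set ℕ))

theorem mem_Jk_iff (f : ℕ → R) (k : ℕ) (x : R) :
    x ∈ Jk f k ↔ ∃ c : ℕ → R, ∑ i ∈ Finset.range k, c i * f i = x := by
  classical
  constructor
  · intro hx
    induction hx using Submodule.span_induction with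
    | mem y hy =>
      obtain ⟨i, hi, rfl⟩ := hy
      refine ⟨Pi.single i 1, ?_⟩
      rw [Finset.sum_eq_single i]
      · simp
      · intro j _ hji
        simp [hji]
      · intro h
        exact absurd hi h
    | zero => exact ⟨0, by simp⟩
    | add a b _ _ ha hb =>
      obtain ⟨c, rfl⟩ := ha
      obtain ⟨c', rfl⟩ := hb
      exact ⟨c + c', by simp [add_mul, Finset.sum_add_distrib]⟩
    | smul a b _ hb =>
      obtain ⟨c, rfl⟩ := hb
      exact ⟨a • c, by simp [Finset.mul_sum, mul_assoc]⟩
  · rintro ⟨c, rfl⟩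
    refine Ideal.sum_mem _ fun i hi => Ideal.mul_mem_left _ _ (Ideal.subset_span ⟨i, hi, rfl⟩)

theorem Jk_mono (f : ℕ → R) {k l : ℕ} (h : k ≤ l) : Jk f k ≤ Jk f l := by
  apply Ideal.span_mono
  apply Set.image_mono
  intro i hi
  simp only [Finset.coe_range, Set.mem_Iio] at hi ⊢
  omega

theorem mem_Jk_succ (f : ℕ → R) (k : ℕ) : f k ∈ Jk f (k + 1) :=
  Ideal.subset_span ⟨k, by simp, rfl⟩

/-- the key relation lemma for (weakly) regular sequences -/
theorem rel_mem (f : ℕ → R) (r : ℕ) (H : ∀ k < r, ∀ x, f k * x ∈ Jk f k → x ∈ Jk f k) :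
    ∀ k ≤ r, ∀ a : ℕ → R, ∑ i ∈ Finset.range k, a i * f i = 0 → ∀ i < k, a i ∈ Jk f k := by
  intro k
  induction k with
  | zero => intro _ a _ i hi; omega
  | succ k ih =>
    intro hk a ha i hi
    rw [Finset.sum_range_succ] at ha
    have hak : a k ∈ Jk f k := by
      apply H k (by omega)
      have : f k * a k = - ∑ i ∈ Finset.range k, a i * f i := by
        rw [eq_neg_iff_add_eq_zero, add_comm, mul_comm]; exact ha
      rw [this]
      apply Ideal.neg_mem_iff _ |>.2
      exact (mem_Jk_iff f k _).2 ⟨a, rfl⟩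
    obtain ⟨c, hc⟩ := (mem_Jk_iff f k _).1 hak
    by_cases hik : i = k
    · subst hik
      exact Jk_mono f (Nat.le_succ _) hak
    · have hi' : i < k := by omega
      have := ih (by omega) (fun j => a j + c j * f k) (by
        simp only [add_mul, Finset.sum_add_distrib]
        have : ∑ x ∈ Finset.range k, c x * f k * f x = a k * f k := by
          rw [← hc, Finset.sum_mul]
          apply Finset.sum_congr rfl
          intro j _
          ring
        rw [this]
        exact ha) i hi'
      have h2 : a i = (a i + c i * f k) - c i * f k := by ring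
      rw [h2]
      exact Ideal.sub_mem _ (Jk_mono f (Nat.le_succ _) this)
        (Ideal.mul_mem_left _ _ (mem_Jk_succ f k))

end rel

section basis
variable {R : Type*} [CommRing R]

/-- extension of a finite family by zero -/
noncomputable def ext0 {r : ℕ} (F : Fin r → R) : ℕ → R := fun i => if h : i < r then F ⟨i, h⟩ else 0

theorem ext0_apply {r : ℕ} (F : Fin r → R) (i : Fin r) : ext0 F i = F i := by
  simp [ext0]

theorem Jk_ext0_eq {r : ℕ} (F : Fin r → R) (k : ℕ) :
    Jk (ext0 F) k = Ideal.ofList ((List.ofFn F).take k) := by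
  apply le_antisymm
  · rw [Jk, Ideal.span_le]
    rintro _ ⟨i, hi, rfl⟩
    simp only [Finset.coe_range, Set.mem_Iio] at hi
    by_cases h : i < r
    · apply Ideal.subset_span
      simp only [Set.mem_ofPred_eq]
      rw [List.mem_take_iff_getElem]
      refine ⟨i, by simp; omega, ?_⟩
      simp [ext0, h]
    · simp [ext0, h]
  · rw [Ideal.ofList, Ideal.span_le]
    intro x hx
    simp only [Set.mem_ofPred_eq] at hx
    rw [List.mem_take_iff_getElem] at hx
    obtain ⟨j, hj, rfl⟩ := hx
    simp only [List.length_ofFn, lt_inf_iff] at hj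
    apply Ideal.subset_span
    refine ⟨j, by simpa using hj.1, ?_⟩
    simp [ext0, hj.2]

theorem Jk_ext0_top {r : ℕ} (F : Fin r → R) : Jk (ext0 F) r = Ideal.span (Set.range F) := by
  apply le_antisymm
  · rw [Jk, Ideal.span_le]
    rintro _ ⟨i, hi, rfl⟩
    simp only [Finset.coe_range, Set.mem_Iio] at hi
    apply Ideal.subset_span
    exact ⟨⟨i, hi⟩, by simp [ext0, hi]⟩
  · rw [Ideal.span_le]
    rintro _ ⟨i, rfl⟩
    apply Ideal.subset_span
    exact ⟨i, by simp, ext0_apply F i⟩

theorem regular_H {r : ℕ} (F : Fin r → R)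
    (hreg : RingTheory.Sequence.IsWeaklyRegular R (List.ofFn F)) :
    ∀ k < r, ∀ x, ext0 F k * x ∈ Jk (ext0 F) k → x ∈ Jk (ext0 F) k := by
  intro k hk x hx
  have h1 := hreg.regular_mod_prev k (by simpa using hk)
  have h2 : (List.ofFn F)[k]'(by simpa using hk) = ext0 F k := by
    simp [ext0, hk]
  rw [h2] at h1
  have h3 : (Ideal.ofList ((List.ofFn F).take k) • ⊤ : Submodule R R) = Jk (ext0 F) k := by
    rw [Jk_ext0_eq, smul_eq_mul, Ideal.mul_top]
  have h4 := @h1 (Submodule.Quotient.mk x) 0 (by
    simp only [smul_zero]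
    rw [← Submodule.Quotient.mk_smul, Submodule.Quotient.mk_eq_zero, h3]
    simpa using hx)
  rw [Submodule.Quotient.mk_eq_zero, h3] at h4
  exact h4

theorem sum_zero_mem {r : ℕ} (F : Fin r → R)
    (hreg : RingTheory.Sequence.IsWeaklyRegular R (List.ofFn F)) (a : Fin r → R)
    (ha : ∑ i, a i * F i = 0) (i : Fin r) : a i ∈ Ideal.span (Set.range F) := by
  have := rel_mem (ext0 F) r (regular_H F hreg) r le_rfl (ext0 a) (by
    rw [Finset.sum_range]
    simpa [ext0_apply] using ha) i i.2
  rw [Jk_ext0_top, ext0_apply] at this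
  exact this

/-- For a weakly regular sequence generating `I`, the cotangent module `I/I²` is free on the classes
of the generators. -/
theorem exists_cotangent_basis {r : ℕ} (F : Fin r → R)
    (hreg : RingTheory.Sequence.IsWeaklyRegular R (List.ofFn F))
    (I : Ideal R) (hI : I = Ideal.span (Set.range F)) :
    ∃ b : Module.Basis (Fin r) (R ⧸ I) I.Cotangent,
      ∀ i, b i = I.toCotangent ⟨F i, hI ▸ Ideal.subset_span ⟨i, rfl⟩⟩ := by
  classical
  have hF : ∀ i, F i ∈ I := fun i => hI ▸ Ideal.subset_span ⟨i, rfl⟩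
  let v : Fin r → I.Cotangent := fun i => I.toCotangent ⟨F i, hF i⟩
  have hli : LinearIndependent (R ⧸ I) v := by
    rw [Fintype.linearIndependent_iff]
    intro g hg i
    choose a ha using fun i => Ideal.Quotient.mk_surjective (I := I) (g i)
    have h1 : ∑ i, g i • v i = I.toCotangent (∑ i, a i • ⟨F i, hF i⟩) := by
      rw [map_sum]
      apply Finset.sum_congr rfl
      intro j _
      rw [map_smul, ← ha j]
      rfl
    rw [h1, Ideal.toCotangent_eq_zero, pow_two] at hg
    have h2 : (I * I : Ideal R) = I • Submodule.span R (Set.range F) := by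
      rw [smul_eq_mul]
      exact congrArg (fun J : Ideal R => I * J) hI
    rw [h2, Submodule.mem_ideal_smul_span_iff_exists_sum] at hg
    obtain ⟨a', ha', hsum⟩ := hg
    rw [Finsupp.sum_fintype a' (fun i c => c • F i) (fun i => zero_smul _ _)] at hsum
    have h3 : ∑ i, (a i - a' i) * F i = 0 := by
      simp only [sub_mul, Finset.sum_sub_distrib, sub_eq_zero]
      simp only [smul_eq_mul] at hsum
      rw [hsum]
      simp
    have h4 := sum_zero_mem F hreg _ h3 i
    rw [← hI] at h4
    rw [← ha i, Ideal.Quotient.eq_zero_iff_mem]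
    have : a i = (a i - a' i) + a' i := by ring
    rw [this]
    exact Ideal.add_mem _ h4 (ha' i)
  have hsp : ⊤ ≤ Submodule.span (R ⧸ I) (Set.range v) := by
    intro x _
    obtain ⟨⟨y, hy⟩, rfl⟩ := I.toCotangent_surjective x
    have hy' : y ∈ Submodule.span R (Set.range F) := by
      have := hy
      rw [hI] at this
      exact this
    rw [Submodule.mem_span_range_iff_exists_fun] at hy'
    obtain ⟨c, hc⟩ := hy'
    have : I.toCotangent ⟨y, hy⟩ = ∑ i, (Ideal.Quotient.mk I (c i)) • v i := by
      have : (⟨y, hy⟩ : I) = ∑ i, c i • ⟨F i, hF i⟩ := by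
        apply Subtype.ext
        simp [← hc]
      rw [this, map_sum]
      apply Finset.sum_congr rfl
      intro j _
      rw [map_smul]
      rfl
    rw [this]
    exact Submodule.sum_mem _ fun i _ => Submodule.smul_mem _ _ (Submodule.subset_span ⟨i, rfl⟩)
  exact ⟨Module.Basis.mk hli hsp, fun i => by rw [Module.Basis.mk_apply]⟩

end basis

end Groth.Agent.Lib.Helper11.Conorm
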