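import Groth.Agent.Lib.Helper11.Norm6

set_option autoImplicit false
set_option linter.unusedSectionVars false
universe u
open TensorProduct

namespace Groth.Agent.Lib.Helper11.Conorm
open Groth.Agent.Lib.Helper11.NormDet

section detprod
variable (B : Type u) [CommRing B] (Q : Type u) [AddCommGroup Q] [Module B Q]

/-- extended frame of `Q × B` -/
def uExt {k : ℕ} (z : Fin k → Q) : Fin (k + 1) → Q × B :=
  Fin.cons (α := fun _ => Q × B) ((0 : Q), (1 : B)) (fun i => (z i, (0 : B)))

variable {B Q}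
/-- extended coordinates of `Q × B` -/
noncomputable def wExt {k : ℕ} (v : Q →ₗ[B] (Fin k → B)) (s : B) : (Q × B) →ₗ[B] (Fin (k + 1) → B) :=
  LinearMap.pi (Fin.cons (α := fun _ => (Q × B) →ₗ[B] B) (s • LinearMap.snd B Q B)
    (fun i => (LinearMap.proj i) ∘ₗ v ∘ₗ LinearMap.fst B Q B))

theorem wExt_zero {k : ℕ} (v : Q →ₗ[B] (Fin k → B)) (s : B) (x : Q × B) :
    wExt v s x 0 = s * x.2 := by
  simp [wExt]

theorem wExt_succ {k : ℕ} (v : Q →ₗ[B] (Fin k → B)) (s : B) (x : Q × B) (i : Fin k) :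
    wExt v s x i.succ = v x.1 i := by
  simp [wExt]

theorem wExt_frame {k : ℕ} (e : Fin k → Q) (v : Q →ₗ[B] (Fin k → B)) (s : B)
    (h : ∀ m : Q, ∑ i, v m i • e i = s • m) (x : Q × B) :
    ∑ b, wExt v s x b • uExt B Q e b = s • x := by
  rw [Fin.sum_univ_succ]
  simp only [wExt_zero, wExt_succ, uExt, Fin.cons_zero, Fin.cons_succ]
  apply Prod.ext
  · simp only [Prod.smul_mk, Prod.fst_add, Prod.fst_sum, smul_zero, zero_add, Prod.smul_fst]
    exact h x.1
  · simp [Prod.snd_sum]

variable (B Q)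
theorem exists_det_prod_equiv [Module.Finite B Q] [Module.Projective B Q] (k : ℕ)
    (hQ : ∀ q : PrimeSpectrum B, Module.rankAtStalk Q q = k) :
    ∃ φ : ⋀[B]^k Q ≃ₗ[B] ⋀[B]^(k + 1) (Q × B), ∀ z : Fin k → Q,
      φ (exteriorPower.ιMulti B k z) = exteriorPower.ιMulti B (k + 1) (uExt B Q z) := by
  classical
  refine exists_linearEquiv_of_ARank1 (A := B) (G := Fin k → Q) (exteriorPower.ιMulti B k)
    (fun z => exteriorPower.ιMulti B (k + 1) (uExt B Q z)) (fun p hp => ?_)
  obtain ⟨e, v, s, hs, h1, h2⟩ := exists_local_frame' B B Q k hQ p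
  simp only [Algebra.algebraMap_self, RingHom.id_apply] at h1 h2
  have hX : ARank1 (exteriorPower.ιMulti B k e) (dTop k v) (s ^ k) := ARank1_top k e v s h2
  have hY : ARank1 (exteriorPower.ιMulti B (k + 1) (uExt B Q e)) (dTop (k + 1) (wExt v s)) (s ^ (k + 1)) :=
    ARank1_top (k + 1) (uExt B Q e) (wExt v s) s (wExt_frame e v s h2)
  refine ⟨e, s • dTop k v, s * s ^ k, dTop (k + 1) (wExt v s), s ^ (k + 1), ?_, ?_, ?_, hY, ?_⟩
  · exact fun h => (hp.mem_or_mem h).elim hs (fun h' => hs (hp.mem_of_pow_mem _ h'))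
  · exact fun h' => hs (hp.mem_of_pow_mem _ h')
  · intro x
    rw [LinearMap.smul_apply, smul_eq_mul, mul_smul, hX x, mul_smul]
  · intro z
    refine ⟨1, fun h => hp.ne_top ((Ideal.eq_top_iff_one _).2 h), ?_⟩
    rw [one_mul, one_mul, LinearMap.smul_apply, dTop_ιMulti, dTop_ιMulti, Matrix.det_succ_row_zero,
      Fin.sum_univ_succ]
    rw [Finset.sum_eq_zero, add_zero]
    · simp only [Fin.val_zero, pow_zero, one_mul, Matrix.of_apply, wExt_zero, uExt, Fin.cons_zero, mul_one,
        smul_eq_mul]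
      congr 1
    · intro i _
      simp [Matrix.of_apply, wExt_succ, uExt]

end detprod

section iterate
variable (B : Type u) [CommRing B]

/-- functoriality of exterior powers for linear equivalences -/
noncomputable def extPowCongr {M N : Type*} [AddCommGroup M] [Module B M] [AddCommGroup N] [Module B N]
    (n : ℕ) (e : M ≃ₗ[B] N) : ⋀[B]^n M ≃ₗ[B] ⋀[B]^n N :=
  LinearEquiv.ofLinearMap (exteriorPower.map n e.toLinearMap) (exteriorPower.map n e.symm.toLinearMap)
    (by rw [← exteriorPower.map_comp]; simp) (by rw [← exteriorPower.map_comp]; simp)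

theorem rankAtStalk_prod_self (Q : Type u) [AddCommGroup Q] [Module B Q]
    [Module.Finite B Q] [Module.Projective B Q] (k : ℕ)
    (hQ : ∀ q : PrimeSpectrum B, Module.rankAtStalk Q q = k) (q : PrimeSpectrum B) :
    Module.rankAtStalk (Q × B) q = k + 1 := by
  have : Nontrivial B := q.nontrivial
  rw [Module.rankAtStalk_prod, Pi.add_apply, hQ q, Module.rankAtStalk_self, Pi.one_apply]

theorem exists_det_prod_pi_equiv (r : ℕ) : ∀ (Q : Type u) [AddCommGroup Q] [Module B Q]
    [Module.Finite B Q] [Module.Projective B Q] (k N : ℕ) (_ : k + r = N)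
    (_ : ∀ q : PrimeSpectrum B, Module.rankAtStalk Q q = k),
    Nonempty (⋀[B]^k Q ≃ₗ[B] ⋀[B]^N (Q × (Fin r → B))) := by
  induction r with
  | zero =>
    intro Q _ _ _ _ k N hN hQ
    obtain rfl : k = N := by omega
    exact ⟨extPowCongr B k (LinearEquiv.prodUnique (R := B) (M := Q) (M₂ := Fin 0 → B)).symm⟩
  | succ r ih =>
    intro Q _ _ _ _ k N hN hQ
    obtain ⟨φ, -⟩ := exists_det_prod_equiv B Q k hQ
    obtain ⟨ψ⟩ := ih (Q × B) (k + 1) N (by omega) (rankAtStalk_prod_self B Q k hQ)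
    let e : ((Q × B) × (Fin r → B)) ≃ₗ[B] (Q × (Fin (r + 1) → B)) :=
      (LinearEquiv.prodAssoc B Q B (Fin r → B)).trans
        (LinearEquiv.prodCongr (LinearEquiv.refl B Q) (Fin.consLinearEquiv B (fun _ : Fin (r + 1) => B)))
    exact ⟨φ.trans (ψ.trans (extPowCongr B N e))⟩

theorem exists_top_pi_equiv (n : ℕ) : Nonempty (⋀[B]^n (Fin n → B) ≃ₗ[B] B) := by
  rcases subsingleton_or_nontrivial B with h | h
  · have : Subsingleton (⋀[B]^n (Fin n → B)) := Module.subsingleton B _
    exact ⟨LinearEquiv.ofSubsingleton _ _⟩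
  · have h1 : Module.finrank B (⋀[B]^n (Fin n → B)) = 1 := by
      rw [exteriorPower.finrank_eq, Module.finrank_fin_fun, Nat.choose_self]
    obtain ⟨e⟩ := Module.nonempty_linearEquiv_of_finrank_eq_one h1
    exact ⟨e.symm⟩

/-- a stably free module of rank `k` (with `r` free summands) has trivial determinant -/
theorem exists_det_equiv_of_stably_free (Q : Type u) [AddCommGroup Q] [Module B Q] (k r n : ℕ)
    (hn : k + r = n) (e : (Q × (Fin r → B)) ≃ₗ[B] (Fin n → B)) :
    Nonempty (⋀[B]^k Q ≃ₗ[B] B) := by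
  have hfin : Module.Finite B Q :=
    Module.Finite.of_surjective ((LinearMap.fst B Q (Fin r → B)) ∘ₗ e.symm.toLinearMap)
      ((LinearMap.fst_surjective (R := B) (M := Q) (M₂ := Fin r → B)).comp e.symm.surjective)
  have hproj : Module.Projective B Q := by
    have : Module.Projective B (Q × (Fin r → B)) := Module.Projective.of_equiv e.symm
    exact Module.Projective.of_split (LinearMap.inl B Q (Fin r → B)) (LinearMap.fst B Q (Fin r → B))
      (by ext; simp)
  have hQ : ∀ q : PrimeSpectrum B, Module.rankAtStalk Q q = k := by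
    intro q
    have : Nontrivial B := q.nontrivial
    have h1 : Module.rankAtStalk (Q × (Fin r → B)) q = n := by
      rw [Module.rankAtStalk_eq_of_equiv e, Module.rankAtStalk_eq_finrank_of_free]
      simp
    rw [Module.rankAtStalk_prod, Pi.add_apply, Module.rankAtStalk_eq_finrank_of_free (M := Fin r → B)] at h1
    simp only [Module.finrank_fin_fun, Pi.natCast_apply, Nat.cast_id] at h1
    omega
  obtain ⟨ψ⟩ := exists_det_prod_pi_equiv B r Q k n hn hQ
  obtain ⟨χ⟩ := exists_top_pi_equiv B n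
  exact ⟨ψ.trans ((extPowCongr B n e).trans χ)⟩

end iterate

end Groth.Agent.Lib.Helper11.Conorm
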