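import Mathlib

set_option autoImplicit false
set_option linter.unusedSectionVars false
universe u
open TensorProduct

namespace Groth.Agent.Lib.Helper11.Conorm

section split
variable (A P B : Type u) [CommRing A] [CommRing P] [CommRing B] [Algebra A P] [Algebra A B]
  [Algebra P B] [IsScalarTower A P B]

/-- the conormal sequence of a formally smooth quotient of a formally smooth algebra splits -/
theorem exists_conormal_split [Algebra.FormallySmooth A P] [Algebra.FormallySmooth A B]
    (hf : Function.Surjective (algebraMap P B)) :
    Nonempty ((B ⊗[P] Ω[P⁄A]) ≃ₗ[P] (RingHom.ker (algebraMap P B)).Cotangent × Ω[B⁄A]) := by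
  obtain ⟨l, hl⟩ := (Algebra.FormallySmooth.iff_split_injection (R := A) (P := P) (A := B) hf).1 inferInstance
  have hex := KaehlerDifferential.exact_kerCotangentToTensor_mapBaseChange A P B hf
  have hsurj := KaehlerDifferential.mapBaseChange_surjective A P B hf
  exact ⟨(Function.Exact.splitInjectiveEquiv (f := KaehlerDifferential.kerCotangentToTensor A P B)
    (g := (KaehlerDifferential.mapBaseChange A P B).restrictScalars P) hex hsurj ⟨l, hl⟩).1⟩

end split

end Groth.Agent.Lib.Helper11.Conorm
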