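import Groth.Agent.Lib.Helper11.Conorm1
import Groth.Agent.Lib.Helper11.Conorm2
import Groth.Agent.Lib.Helper11.Conorm3

set_option autoImplicit false
set_option linter.unusedSectionVars false
universe u
open TensorProduct

namespace Groth.Agent.Lib.Helper11.Conorm

section main
variable (A P : Type u) [CommRing A] [CommRing P] [Algebra A P]

theorem main15 [Algebra.FormallySmooth A P]
    (n r : ℕ) (hrn : r ≤ n) (bΩ : Module.Basis (Fin n) P Ω[P⁄A]) (F : Fin r → P)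
    (hreg : RingTheory.Sequence.IsWeaklyRegular P (List.ofFn F))
    (I : Ideal P) (hI : I = Ideal.span (Set.range F)) [Algebra.FormallySmooth A (P ⧸ I)] :
    Nonempty ((Module.Dual (P ⧸ I) (⋀[P ⧸ I]^r I.Cotangent)) ⊗[P ⧸ I] ((P ⧸ I) ⊗[P] (⋀[P]^n (Ω[P⁄A])))
      ≃ₗ[P ⧸ I] (⋀[P ⧸ I]^(n - r) (Ω[(P ⧸ I)⁄A]))) := by
  classical
  have hf : Function.Surjective (algebraMap P (P ⧸ I)) := Ideal.Quotient.mk_surjective
  obtain ⟨bC, -⟩ := exists_cotangent_basis F hreg I hI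
  obtain ⟨eS⟩ := exists_conormal_split A P (P ⧸ I) hf
  let eJ : (RingHom.ker (algebraMap P (P ⧸ I))).Cotangent ≃ₗ[P] I.Cotangent :=
    Ideal.Cotangent.equivOfEq _ _ Ideal.mk_ker
  let eC : I.Cotangent ≃ₗ[P] (Fin r → (P ⧸ I)) := bC.equivFun.restrictScalars P
  let eT : (P ⧸ I) ⊗[P] Ω[P⁄A] ≃ₗ[P ⧸ I] (Fin n → (P ⧸ I)) := (bΩ.baseChange (P ⧸ I)).equivFun
  let e' : (Ω[(P ⧸ I)⁄A] × (Fin r → (P ⧸ I))) ≃ₗ[P] (Fin n → (P ⧸ I)) :=
    (LinearEquiv.prodComm P _ _).trans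
      ((LinearEquiv.prodCongr (eC.symm.trans eJ.symm) (LinearEquiv.refl P _)).trans
        (eS.symm.trans (eT.restrictScalars P)))
  let e : (Ω[(P ⧸ I)⁄A] × (Fin r → (P ⧸ I))) ≃ₗ[P ⧸ I] (Fin n → (P ⧸ I)) :=
    e'.extendScalarsOfSurjective hf
  obtain ⟨χ⟩ := exists_det_equiv_of_stably_free (P ⧸ I) Ω[(P ⧸ I)⁄A] (n - r) r n (by omega) e
  obtain ⟨c1⟩ := exists_top_pi_equiv (P ⧸ I) r
  obtain ⟨c2⟩ := exists_top_pi_equiv P n
  let d1 : Module.Dual (P ⧸ I) (⋀[P ⧸ I]^r I.Cotangent) ≃ₗ[P ⧸ I] (P ⧸ I) :=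
    (((extPowCongr (P ⧸ I) r bC.equivFun).trans c1).symm.dualMap).trans
      (LinearMap.ringLmapEquivSelf (P ⧸ I) (P ⧸ I) (P ⧸ I))
  let d2 : (P ⧸ I) ⊗[P] (⋀[P]^n (Ω[P⁄A])) ≃ₗ[P ⧸ I] (P ⧸ I) :=
    (TensorProduct.AlgebraTensorModule.congr (LinearEquiv.refl (P ⧸ I) (P ⧸ I))
      ((extPowCongr P n bΩ.equivFun).trans c2)).trans
      (TensorProduct.AlgebraTensorModule.rid P (P ⧸ I) (P ⧸ I))
  exact ⟨((TensorProduct.congr d1 d2).trans (TensorProduct.lid (P ⧸ I) (P ⧸ I))).trans χ.symm⟩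

end main

end Groth.Agent.Lib.Helper11.Conorm
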