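import Mathlib

set_option autoImplicit false
set_option linter.unusedSectionVars false
universe v₁ v₂ v₃ v₄ u₁ u₂ u₃ u₄
open CategoryTheory

namespace Groth.Agent.Lib.Helper11.CorefComm

variable {A : Type u₁} [Category.{v₁} A] {A' : Type u₂} [Category.{v₂} A']
  {B : Type u₃} [Category.{v₃} B] {B' : Type u₄} [Category.{v₄} B']
  (ιX : A' ⥤ A) (ιY : B' ⥤ B) [ιX.Full] [ιX.Faithful] [ιY.Full] [ιY.Faithful]
  {RX : A ⥤ A'} {RY : B ⥤ B'} (adjX : ιX ⊣ RX) (adjY : ιY ⊣ RY)
  {L : B ⥤ A} {G : A ⥤ B} (adj : L ⊣ G)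

include adjX in
/-- the counit of a coreflection is bijective on maps out of the subcategory. -/
lemma bijective_comp_counit (K : A) (V : A) (W : A') (w : ιX.obj W ≅ V) :
    Function.Bijective (fun z : V ⟶ ιX.obj (RX.obj K) => z ≫ adjX.counit.app K) := by
  constructor
  · intro z z' h
    dsimp at h
    have h1 : (adjX.homEquiv W K).symm (ιX.preimage (w.hom ≫ z)) =
        (adjX.homEquiv W K).symm (ιX.preimage (w.hom ≫ z')) := by
      rw [Adjunction.homEquiv_counit, Adjunction.homEquiv_counit, Functor.map_preimage,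
        Functor.map_preimage, Category.assoc, Category.assoc, h]
    have h2 := ιX.congr_map ((adjX.homEquiv W K).symm.injective h1)
    rw [Functor.map_preimage, Functor.map_preimage] at h2
    exact (cancel_epi w.hom).1 h2
  · intro y
    refine ⟨w.inv ≫ ιX.map (adjX.homEquiv W K (w.hom ≫ y)), ?_⟩
    dsimp
    rw [Category.assoc, ← Adjunction.homEquiv_counit, Equiv.symm_apply_apply,
      Iso.inv_hom_id_assoc]

include adjX adj in
lemma bijective_comp_map_counit (K : A) (N : B) (W : A') (w : ιX.obj W ≅ L.obj N) :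
    Function.Bijective
      (fun y : N ⟶ G.obj (ιX.obj (RX.obj K)) => y ≫ G.map (adjX.counit.app K)) := by
  have h : (fun y : N ⟶ G.obj (ιX.obj (RX.obj K)) => y ≫ G.map (adjX.counit.app K)) =
      (adj.homEquiv N K) ∘ (fun z : L.obj N ⟶ ιX.obj (RX.obj K) => z ≫ adjX.counit.app K) ∘
        (adj.homEquiv N (ιX.obj (RX.obj K))).symm := by
    funext y
    dsimp
    rw [Adjunction.homEquiv_naturality_right, Equiv.apply_symm_apply]
  rw [h]
  exact (adj.homEquiv N K).bijective.comp
    ((bijective_comp_counit ιX adjX K (L.obj N) W w).comp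
      (adj.homEquiv N (ιX.obj (RX.obj K))).symm.bijective)

include adjX adj in
/-- **coreflections commute with a right adjoint whose left adjoint preserves the subcategories.** -/
theorem isIso_comparison
    (hL : ∀ M : B', ∃ W : A', Nonempty (ιX.obj W ≅ L.obj (ιY.obj M)))
    (K : A) (P : B') (ψ : ιY.obj P ⟶ G.obj K)
    (e : ιY.obj P ≅ G.obj (ιX.obj (RX.obj K)))
    (hψ : ψ = e.hom ≫ G.map (adjX.counit.app K)) :
    IsIso (adjY.homEquiv P (G.obj K) ψ) := by
  apply isIso_of_yoneda_map_bijective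
  intro T
  obtain ⟨W, ⟨w⟩⟩ := hL T
  have h : (fun x : T ⟶ P => x ≫ adjY.homEquiv P (G.obj K) ψ) =
      (adjY.homEquiv T (G.obj K)) ∘
        (fun y : ιY.obj T ⟶ G.obj (ιX.obj (RX.obj K)) => y ≫ G.map (adjX.counit.app K)) ∘
        (fun y : ιY.obj T ⟶ ιY.obj P => y ≫ e.hom) ∘ (fun x : T ⟶ P => ιY.map x) := by
    funext x
    dsimp
    rw [← Adjunction.homEquiv_naturality_left, hψ, Category.assoc]
  rw [h]
  refine (adjY.homEquiv T (G.obj K)).bijective.comp
    ((bijective_comp_map_counit ιX adjX adj K (ιY.obj T) W w).comp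
      (Function.Bijective.comp ?_ ((Functor.FullyFaithful.ofFullyFaithful ιY).map_bijective T P)))
  exact ⟨fun a b hab => (cancel_mono e.hom).1 hab,
    fun y => ⟨y ≫ e.inv, by simp⟩⟩

end Groth.Agent.Lib.Helper11.CorefComm
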