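import Mathlib

set_option autoImplicit false

namespace Groth.Agent.Lib.Helper11.Cubic

open MvPolynomial

universe u

section General

variable {k : Type u} [Field k] {σ : Type*} [DecidableEq σ]

/-- kill the variables in `Z`. -/
noncomputable def evZ (k : Type u) [Field k] {σ : Type*} [DecidableEq σ] (Z : Finset σ) :
    MvPolynomial σ k →ₐ[k] MvPolynomial σ k :=
  aeval fun l => if l ∈ Z then 0 else X l

theorem evZ_X_of_mem {Z : Finset σ} {l : σ} (h : l ∈ Z) : evZ k Z (X l) = 0 := by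
  simp [evZ, h]

theorem evZ_X_of_notMem {Z : Finset σ} {l : σ} (h : l ∉ Z) : evZ k Z (X l) = X l := by
  simp [evZ, h]

theorem sub_evZ_mem (Z : Finset σ) (p : MvPolynomial σ k) :
    p - evZ k Z p ∈ Ideal.span ((X : σ → MvPolynomial σ k) '' (Z : Set σ)) := by
  induction p using MvPolynomial.induction_on with
  | C a => simp [evZ]
  | add p q hp hq =>
    rw [map_add]
    have : p + q - (evZ k Z p + evZ k Z q) = (p - evZ k Z p) + (q - evZ k Z q) := by ring
    rw [this]
    exact Ideal.add_mem _ hp hq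
  | mul_X p l hp =>
    rw [map_mul]
    by_cases hl : l ∈ Z
    · rw [evZ_X_of_mem hl, mul_zero, sub_zero]
      exact Ideal.mul_mem_left _ _ (Ideal.subset_span ⟨l, hl, rfl⟩)
    · rw [evZ_X_of_notMem hl, ← sub_mul]
      exact Ideal.mul_mem_right _ _ hp

theorem evZ_comp_of_subset {Z Z' : Finset σ} (h : Z ⊆ Z') :
    (evZ k Z').comp (evZ k Z) = evZ k Z' := by
  apply MvPolynomial.algHom_ext
  intro l
  rw [AlgHom.comp_apply]
  by_cases hl : l ∈ Z
  · rw [evZ_X_of_mem hl, map_zero, evZ_X_of_mem (h hl)]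
  · rw [evZ_X_of_notMem hl]

theorem ker_evZ_isPrime (Z : Finset σ) : (RingHom.ker (evZ k Z)).IsPrime :=
  RingHom.ker_isPrime _

theorem ker_evZ_le {Z : Finset σ} (q : Ideal (MvPolynomial σ k)) (h : ∀ l ∈ Z, X l ∈ q) :
    RingHom.ker (evZ k Z) ≤ q := by
  intro p hp
  have h1 := sub_evZ_mem (k := k) Z p
  rw [(RingHom.mem_ker).mp hp, sub_zero] at h1
  have h2 : Ideal.span ((X : σ → MvPolynomial σ k) '' (Z : Set σ)) ≤ q := by
    rw [Ideal.span_le]
    rintro _ ⟨l, hl, rfl⟩
    exact h l hl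
  exact h2 h1

theorem ker_evZ_mono {Z Z' : Finset σ} (h : Z ⊆ Z') :
    RingHom.ker (evZ k Z) ≤ RingHom.ker (evZ k Z') := by
  intro p hp
  rw [RingHom.mem_ker] at hp ⊢
  rw [← evZ_comp_of_subset h, AlgHom.comp_apply, hp, map_zero]

theorem mem_of_evZ_mem {Z : Finset σ} (q : Ideal (MvPolynomial σ k)) (h : ∀ l ∈ Z, X l ∈ q)
    {p : MvPolynomial σ k} (hp : p ∈ q) : evZ k Z p ∈ q := by
  have h1 := sub_evZ_mem (k := k) Z p
  have h2 : Ideal.span ((X : σ → MvPolynomial σ k) '' (Z : Set σ)) ≤ q := by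
    rw [Ideal.span_le]
    rintro _ ⟨l, hl, rfl⟩
    exact h l hl
  have h3 := h2 h1
  have : evZ k Z p = p - (p - evZ k Z p) := by ring
  rw [this]
  exact Ideal.sub_mem _ hp h3

end General

section Five

variable (k : Type u) [Field k]

/-- the ideal `(σ₂, σ₄)`. -/
noncomputable def I24 : Ideal (MvPolynomial (Fin 5) k) :=
  Ideal.span {esymm (Fin 5) k 2, esymm (Fin 5) k 4}

/-- the product of the variables. -/
noncomputable def s5 : MvPolynomial (Fin 5) k := ∏ i, X i

theorem evZ_esymm_four (i : Fin 5) :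
    evZ k {i} (esymm (Fin 5) k 4) = ∏ l ∈ Finset.univ.erase i, X l := by
  rw [esymm, map_sum]
  rw [Finset.sum_eq_single (Finset.univ.erase i)]
  · rw [map_prod]
    refine Finset.prod_congr rfl fun l hl => ?_
    exact evZ_X_of_notMem (by simpa using (Finset.mem_erase.mp hl).1)
  · intro t ht hne
    rw [Finset.mem_powersetCard] at ht
    have hit : i ∈ t := by
      by_contra hit
      apply hne
      apply Finset.eq_of_subset_of_card_le
      · intro l hl
        exact Finset.mem_erase.mpr ⟨fun h => hit (h ▸ hl), Finset.mem_univ l⟩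
      · rw [Finset.card_erase_of_mem (Finset.mem_univ i), ht.2]
        simp
    rw [map_prod]
    exact Finset.prod_eq_zero hit (evZ_X_of_mem (by simp))
  · intro h
    exfalso
    apply h
    rw [Finset.mem_powersetCard]
    refine ⟨Finset.subset_univ _, ?_⟩
    rw [Finset.card_erase_of_mem (Finset.mem_univ i)]
    simp

theorem exists_ne_mem (q : Ideal (MvPolynomial (Fin 5) k)) [q.IsPrime] (i : Fin 5)
    (hi : X i ∈ q) (h4 : esymm (Fin 5) k 4 ∈ q) : ∃ j, j ≠ i ∧ X j ∈ q := by
  have h1 := mem_of_evZ_mem (k := k) (Z := {i}) q (by simpa using hi) h4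
  rw [evZ_esymm_four] at h1
  obtain ⟨j, hj, hjq⟩ := (Ideal.IsPrime.prod_mem_iff).mp h1
  exact ⟨j, (Finset.mem_erase.mp hj).1, hjq⟩

theorem count_aux : ∀ i j : Fin 5, i ≠ j →
    (∑ t ∈ Finset.powersetCard 2 (Finset.univ : Finset (Fin 5)),
      ∏ l ∈ t, (if l ∈ ({i, j} : Finset (Fin 5)) then 0 else 1 : ℕ)) = 3 := by
  decide

theorem evZ_esymm_two_ne_zero [CharZero k] (i j : Fin 5) (hij : i ≠ j) :
    evZ k {i, j} (esymm (Fin 5) k 2) ≠ 0 := by
  intro h
  have h1 := congrArg (MvPolynomial.eval (fun _ => (1 : k))) h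
  rw [map_zero, esymm, map_sum, map_sum] at h1
  have h2 : ∀ t ∈ Finset.powersetCard 2 (Finset.univ : Finset (Fin 5)),
      MvPolynomial.eval (fun _ => (1 : k)) (evZ k {i, j} (∏ l ∈ t, X l)) =
        ((∏ l ∈ t, (if l ∈ ({i, j} : Finset (Fin 5)) then 0 else 1 : ℕ) : ℕ) : k) := by
    intro t _
    rw [map_prod, map_prod]
    push_cast
    refine Finset.prod_congr rfl fun l _ => ?_
    by_cases hl : l ∈ ({i, j} : Finset (Fin 5))
    · rw [evZ_X_of_mem hl, if_pos hl]; simp
    · rw [evZ_X_of_notMem hl, if_neg hl]; simp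
  rw [Finset.sum_congr rfl h2, ← Nat.cast_sum, count_aux i j hij] at h1
  norm_num at h1

theorem s5_notMem_of_mem_minimalPrimes [CharZero k] (q : Ideal (MvPolynomial (Fin 5) k))
    (hq : q ∈ (I24 k).minimalPrimes) : s5 k ∉ q := by
  have hqp : q.IsPrime := hq.1.1
  have hI : I24 k ≤ q := hq.1.2
  have h2 : esymm (Fin 5) k 2 ∈ q := hI (Ideal.subset_span (by simp))
  have h4 : esymm (Fin 5) k 4 ∈ q := hI (Ideal.subset_span (by simp))
  have ht : q.height ≤ 2 := by
    have h := Ideal.height_le_card_of_mem_minimalPrimes_span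
      (s := {esymm (Fin 5) k 2, esymm (Fin 5) k 4}) (p := q) (Set.toFinite _) hq
    refine h.trans ?_
    have h5 : ({esymm (Fin 5) k 2, esymm (Fin 5) k 4} : Set (MvPolynomial (Fin 5) k)).ncard ≤ 2 := by
      refine (Set.ncard_insert_le _ _).trans ?_
      simp
    exact_mod_cast h5
  intro hs
  obtain ⟨i, -, hi⟩ := (Ideal.IsPrime.prod_mem_iff).mp hs
  obtain ⟨j, hji, hj⟩ := exists_ne_mem k q i hi h4
  have hp1 : (RingHom.ker (evZ k ({i} : Finset (Fin 5)))).IsPrime := ker_evZ_isPrime _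
  have hp2 : (RingHom.ker (evZ k ({i, j} : Finset (Fin 5)))).IsPrime := ker_evZ_isPrime _
  have hbot : (⊥ : Ideal (MvPolynomial (Fin 5) k)).IsPrime := Ideal.isPrime_bot
  have h01 : (⊥ : Ideal (MvPolynomial (Fin 5) k)) < RingHom.ker (evZ k ({i} : Finset (Fin 5))) := by
    rw [bot_lt_iff_ne_bot]
    intro hb
    have : (X i : MvPolynomial (Fin 5) k) ∈ RingHom.ker (evZ k ({i} : Finset (Fin 5))) := by
      rw [RingHom.mem_ker]; exact evZ_X_of_mem (by simp)
    rw [hb, Ideal.mem_bot] at this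
    exact X_ne_zero i this
  have h12 : RingHom.ker (evZ k ({i} : Finset (Fin 5))) <
      RingHom.ker (evZ k ({i, j} : Finset (Fin 5))) := by
    refine lt_of_le_of_ne (ker_evZ_mono (by simp)) ?_
    intro he
    have h1 : (X j : MvPolynomial (Fin 5) k) ∈ RingHom.ker (evZ k ({i, j} : Finset (Fin 5))) := by
      rw [RingHom.mem_ker]; exact evZ_X_of_mem (by simp)
    rw [← he, RingHom.mem_ker, evZ_X_of_notMem (by simpa using hji)] at h1
    exact X_ne_zero j h1
  have h2q : RingHom.ker (evZ k ({i, j} : Finset (Fin 5))) < q := by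
    refine lt_of_le_of_ne (ker_evZ_le q (by
      intro l hl
      rcases Finset.mem_insert.mp hl with rfl | hl
      · exact hi
      · rw [Finset.mem_singleton] at hl
        rw [hl]; exact hj)) ?_
    intro he
    have h1 : evZ k ({i, j} : Finset (Fin 5)) (esymm (Fin 5) k 2) ∈ q :=
      mem_of_evZ_mem q (by
        intro l hl
        rcases Finset.mem_insert.mp hl with rfl | hl
        · exact hi
        · rw [Finset.mem_singleton] at hl
          rw [hl]; exact hj) h2
    rw [← he, RingHom.mem_ker] at h1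
    have h3 := congrArg (fun f => f (esymm (Fin 5) k 2))
      (evZ_comp_of_subset (k := k) (Finset.Subset.refl ({i, j} : Finset (Fin 5))))
    simp only [AlgHom.comp_apply] at h3
    rw [h3] at h1
    exact evZ_esymm_two_ne_zero k i j (Ne.symm hji) h1
  have e1 := Ideal.height_add_one_le_of_lt_of_isPrime h01
  have e2 := Ideal.height_add_one_le_of_lt_of_isPrime h12
  have e3 := Ideal.height_add_one_le_of_lt_of_isPrime h2q
  have e4 : (3 : ℕ∞) ≤ q.height := by
    calc (3 : ℕ∞) = 0 + 1 + 1 + 1 := by norm_num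
      _ ≤ (⊥ : Ideal (MvPolynomial (Fin 5) k)).height + 1 + 1 + 1 := by gcongr; exact zero_le
      _ ≤ (RingHom.ker (evZ k ({i} : Finset (Fin 5)))).height + 1 + 1 := by gcongr
      _ ≤ (RingHom.ker (evZ k ({i, j} : Finset (Fin 5)))).height + 1 := by gcongr
      _ ≤ q.height := e3
  have := e4.trans ht
  norm_num at this

end Five

end Groth.Agent.Lib.Helper11.Cubic
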