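import Mathlib

set_option autoImplicit false
set_option linter.unnecessarySimpa false

namespace Groth.Agent.Lib.Helper11.Cubic

open MvPolynomial

theorem prodn {M : Type*} [CommMonoid M] (f : Fin 5 → M) :
    ∀ (l : List (Fin 5)), l.Nodup → ∏ x ∈ l.toFinset, f x = (l.map f).prod := by
  intro l hl
  rw [List.prod_toFinset f hl]

theorem pc1 : Finset.powersetCard 1 (Finset.univ : Finset (Fin 5)) =
    {{0},{1},{2},{3},{4}} := by
  decide

theorem aeval_esymm1 {k A : Type*} [CommRing k] [CommRing A] [Algebra k A] (a : Fin 5 → A) :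
    aeval a (esymm (Fin 5) k 1) = a 0 + a 1 + a 2 + a 3 + a 4 := by
  rw [esymm, map_sum, pc1]
  simp only [map_prod, aeval_X]
  rw [Finset.sum_insert (by decide), Finset.sum_insert (by decide), Finset.sum_insert (by decide), Finset.sum_insert (by decide), Finset.sum_singleton]

  have h0 : ∏ x ∈ ({0} : Finset (Fin 5)), a x = a 0 := by
    have := prodn a [0] (by decide)
    simpa [mul_assoc] using this

  have h1 : ∏ x ∈ ({1} : Finset (Fin 5)), a x = a 1 := by
    have := prodn a [1] (by decide)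
    simpa [mul_assoc] using this

  have h2 : ∏ x ∈ ({2} : Finset (Fin 5)), a x = a 2 := by
    have := prodn a [2] (by decide)
    simpa [mul_assoc] using this

  have h3 : ∏ x ∈ ({3} : Finset (Fin 5)), a x = a 3 := by
    have := prodn a [3] (by decide)
    simpa [mul_assoc] using this

  have h4 : ∏ x ∈ ({4} : Finset (Fin 5)), a x = a 4 := by
    have := prodn a [4] (by decide)
    simpa [mul_assoc] using this

  rw [h0, h1, h2, h3, h4]
  ring

theorem pc2 : Finset.powersetCard 2 (Finset.univ : Finset (Fin 5)) =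
    {{0,1},{0,2},{0,3},{0,4},{1,2},{1,3},{1,4},{2,3},{2,4},{3,4}} := by
  decide

theorem aeval_esymm2 {k A : Type*} [CommRing k] [CommRing A] [Algebra k A] (a : Fin 5 → A) :
    aeval a (esymm (Fin 5) k 2) = a 0 * a 1 + a 0 * a 2 + a 0 * a 3 + a 0 * a 4 + a 1 * a 2 + a 1 * a 3 + a 1 * a 4 + a 2 * a 3 + a 2 * a 4 + a 3 * a 4 := by
  rw [esymm, map_sum, pc2]
  simp only [map_prod, aeval_X]
  rw [Finset.sum_insert (by decide), Finset.sum_insert (by decide), Finset.sum_insert (by decide), Finset.sum_insert (by decide), Finset.sum_insert (by decide), Finset.sum_insert (by decide), Finset.sum_insert (by decide), Finset.sum_insert (by decide), Finset.sum_insert (by decide), Finset.sum_singleton]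

  have h01 : ∏ x ∈ ({0,1} : Finset (Fin 5)), a x = a 0 * a 1 := by
    have := prodn a [0, 1] (by decide)
    simpa [mul_assoc] using this

  have h02 : ∏ x ∈ ({0,2} : Finset (Fin 5)), a x = a 0 * a 2 := by
    have := prodn a [0, 2] (by decide)
    simpa [mul_assoc] using this

  have h03 : ∏ x ∈ ({0,3} : Finset (Fin 5)), a x = a 0 * a 3 := by
    have := prodn a [0, 3] (by decide)
    simpa [mul_assoc] using this

  have h04 : ∏ x ∈ ({0,4} : Finset (Fin 5)), a x = a 0 * a 4 := by
    have := prodn a [0, 4] (by decide)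
    simpa [mul_assoc] using this

  have h12 : ∏ x ∈ ({1,2} : Finset (Fin 5)), a x = a 1 * a 2 := by
    have := prodn a [1, 2] (by decide)
    simpa [mul_assoc] using this

  have h13 : ∏ x ∈ ({1,3} : Finset (Fin 5)), a x = a 1 * a 3 := by
    have := prodn a [1, 3] (by decide)
    simpa [mul_assoc] using this

  have h14 : ∏ x ∈ ({1,4} : Finset (Fin 5)), a x = a 1 * a 4 := by
    have := prodn a [1, 4] (by decide)
    simpa [mul_assoc] using this

  have h23 : ∏ x ∈ ({2,3} : Finset (Fin 5)), a x = a 2 * a 3 := by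
    have := prodn a [2, 3] (by decide)
    simpa [mul_assoc] using this

  have h24 : ∏ x ∈ ({2,4} : Finset (Fin 5)), a x = a 2 * a 4 := by
    have := prodn a [2, 4] (by decide)
    simpa [mul_assoc] using this

  have h34 : ∏ x ∈ ({3,4} : Finset (Fin 5)), a x = a 3 * a 4 := by
    have := prodn a [3, 4] (by decide)
    simpa [mul_assoc] using this

  rw [h01, h02, h03, h04, h12, h13, h14, h23, h24, h34]
  ring

theorem pc3 : Finset.powersetCard 3 (Finset.univ : Finset (Fin 5)) =
    {{0,1,2},{0,1,3},{0,1,4},{0,2,3},{0,2,4},{0,3,4},{1,2,3},{1,2,4},{1,3,4},{2,3,4}} := by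
  decide

theorem aeval_esymm3 {k A : Type*} [CommRing k] [CommRing A] [Algebra k A] (a : Fin 5 → A) :
    aeval a (esymm (Fin 5) k 3) = a 0 * a 1 * a 2 + a 0 * a 1 * a 3 + a 0 * a 1 * a 4 + a 0 * a 2 * a 3 + a 0 * a 2 * a 4 + a 0 * a 3 * a 4 + a 1 * a 2 * a 3 + a 1 * a 2 * a 4 + a 1 * a 3 * a 4 + a 2 * a 3 * a 4 := by
  rw [esymm, map_sum, pc3]
  simp only [map_prod, aeval_X]
  rw [Finset.sum_insert (by decide), Finset.sum_insert (by decide), Finset.sum_insert (by decide), Finset.sum_insert (by decide), Finset.sum_insert (by decide), Finset.sum_insert (by decide), Finset.sum_insert (by decide), Finset.sum_insert (by decide), Finset.sum_insert (by decide), Finset.sum_singleton]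

  have h012 : ∏ x ∈ ({0,1,2} : Finset (Fin 5)), a x = a 0 * a 1 * a 2 := by
    have := prodn a [0, 1, 2] (by decide)
    simpa [mul_assoc] using this

  have h013 : ∏ x ∈ ({0,1,3} : Finset (Fin 5)), a x = a 0 * a 1 * a 3 := by
    have := prodn a [0, 1, 3] (by decide)
    simpa [mul_assoc] using this

  have h014 : ∏ x ∈ ({0,1,4} : Finset (Fin 5)), a x = a 0 * a 1 * a 4 := by
    have := prodn a [0, 1, 4] (by decide)
    simpa [mul_assoc] using this

  have h023 : ∏ x ∈ ({0,2,3} : Finset (Fin 5)), a x = a 0 * a 2 * a 3 := by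
    have := prodn a [0, 2, 3] (by decide)
    simpa [mul_assoc] using this

  have h024 : ∏ x ∈ ({0,2,4} : Finset (Fin 5)), a x = a 0 * a 2 * a 4 := by
    have := prodn a [0, 2, 4] (by decide)
    simpa [mul_assoc] using this

  have h034 : ∏ x ∈ ({0,3,4} : Finset (Fin 5)), a x = a 0 * a 3 * a 4 := by
    have := prodn a [0, 3, 4] (by decide)
    simpa [mul_assoc] using this

  have h123 : ∏ x ∈ ({1,2,3} : Finset (Fin 5)), a x = a 1 * a 2 * a 3 := by
    have := prodn a [1, 2, 3] (by decide)
    simpa [mul_assoc] using this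

  have h124 : ∏ x ∈ ({1,2,4} : Finset (Fin 5)), a x = a 1 * a 2 * a 4 := by
    have := prodn a [1, 2, 4] (by decide)
    simpa [mul_assoc] using this

  have h134 : ∏ x ∈ ({1,3,4} : Finset (Fin 5)), a x = a 1 * a 3 * a 4 := by
    have := prodn a [1, 3, 4] (by decide)
    simpa [mul_assoc] using this

  have h234 : ∏ x ∈ ({2,3,4} : Finset (Fin 5)), a x = a 2 * a 3 * a 4 := by
    have := prodn a [2, 3, 4] (by decide)
    simpa [mul_assoc] using this

  rw [h012, h013, h014, h023, h024, h034, h123, h124, h134, h234]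
  ring

theorem pc4 : Finset.powersetCard 4 (Finset.univ : Finset (Fin 5)) =
    {{0,1,2,3},{0,1,2,4},{0,1,3,4},{0,2,3,4},{1,2,3,4}} := by
  decide

theorem aeval_esymm4 {k A : Type*} [CommRing k] [CommRing A] [Algebra k A] (a : Fin 5 → A) :
    aeval a (esymm (Fin 5) k 4) = a 0 * a 1 * a 2 * a 3 + a 0 * a 1 * a 2 * a 4 + a 0 * a 1 * a 3 * a 4 + a 0 * a 2 * a 3 * a 4 + a 1 * a 2 * a 3 * a 4 := by
  rw [esymm, map_sum, pc4]
  simp only [map_prod, aeval_X]
  rw [Finset.sum_insert (by decide), Finset.sum_insert (by decide), Finset.sum_insert (by decide), Finset.sum_insert (by decide), Finset.sum_singleton]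

  have h0123 : ∏ x ∈ ({0,1,2,3} : Finset (Fin 5)), a x = a 0 * a 1 * a 2 * a 3 := by
    have := prodn a [0, 1, 2, 3] (by decide)
    simpa [mul_assoc] using this

  have h0124 : ∏ x ∈ ({0,1,2,4} : Finset (Fin 5)), a x = a 0 * a 1 * a 2 * a 4 := by
    have := prodn a [0, 1, 2, 4] (by decide)
    simpa [mul_assoc] using this

  have h0134 : ∏ x ∈ ({0,1,3,4} : Finset (Fin 5)), a x = a 0 * a 1 * a 3 * a 4 := by
    have := prodn a [0, 1, 3, 4] (by decide)
    simpa [mul_assoc] using this

  have h0234 : ∏ x ∈ ({0,2,3,4} : Finset (Fin 5)), a x = a 0 * a 2 * a 3 * a 4 := by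
    have := prodn a [0, 2, 3, 4] (by decide)
    simpa [mul_assoc] using this

  have h1234 : ∏ x ∈ ({1,2,3,4} : Finset (Fin 5)), a x = a 1 * a 2 * a 3 * a 4 := by
    have := prodn a [1, 2, 3, 4] (by decide)
    simpa [mul_assoc] using this

  rw [h0123, h0124, h0134, h0234, h1234]
  ring

end Groth.Agent.Lib.Helper11.Cubic
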