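import Mathlib
import Groth.Agent.Lib.Helper11.Cubic2

set_option autoImplicit false

namespace Groth.Agent.Lib.Helper11.Cubic

open MvPolynomial

universe u

variable (k : Type u) [Field k]

/-- `S = X₀ + X₁ + X₂`. -/
noncomputable def SS : MvPolynomial (Fin 3) k := X 0 + X 1 + X 2

/-- `Π = (X₀+X₁)(X₀+X₂)(X₁+X₂)`. -/
noncomputable def PP : MvPolynomial (Fin 3) k := (X 0 + X 1) * (X 0 + X 2) * (X 1 + X 2)

/-- substitution `X₀ ↦ -X₁ - X₂`. -/
noncomputable def psi : MvPolynomial (Fin 3) k →ₐ[k] MvPolynomial (Fin 3) k :=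
  aeval ![-X 1 - X 2, X 1, X 2]

theorem psi_SS : psi k (SS k) = 0 := by
  simp [psi, SS]
  ring

theorem sub_psi_mem (p : MvPolynomial (Fin 3) k) : p - psi k p ∈ Ideal.span {SS k} := by
  induction p using MvPolynomial.induction_on with
  | C a => simp [psi]
  | add p q hp hq =>
    rw [map_add]
    have : p + q - (psi k p + psi k q) = (p - psi k p) + (q - psi k q) := by ring
    rw [this]
    exact Ideal.add_mem _ hp hq
  | mul_X p l hp =>
    rw [map_mul]
    have h1 : X l - psi k (X l) ∈ Ideal.span {SS k} := by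
      fin_cases l
      · have : (X 0 : MvPolynomial (Fin 3) k) - psi k (X 0) = SS k := by
          simp [psi, SS]; ring
        simp only [Fin.zero_eta]
        rw [this]
        exact Ideal.subset_span rfl
      · have : (X 1 : MvPolynomial (Fin 3) k) - psi k (X 1) = 0 := by simp [psi]
        simp only [Fin.mk_one]
        rw [this]; exact Ideal.zero_mem _
      · have : (X 2 : MvPolynomial (Fin 3) k) - psi k (X 2) = 0 := by simp [psi]
        simp only [Fin.reduceFinMk]
        rw [this]; exact Ideal.zero_mem _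
    have : p * X l - psi k p * psi k (X l) =
        (p - psi k p) * X l + psi k p * (X l - psi k (X l)) := by ring
    rw [this]
    exact Ideal.add_mem _ (Ideal.mul_mem_right _ _ hp) (Ideal.mul_mem_left _ _ h1)

theorem span_SS_eq_ker : Ideal.span {SS k} = RingHom.ker (psi k) := by
  apply le_antisymm
  · rw [Ideal.span_le]
    rintro _ rfl
    exact psi_SS k
  · intro p hp
    have := sub_psi_mem k p
    rwa [(RingHom.mem_ker).mp hp, sub_zero] at this

theorem span_SS_isPrime : (Ideal.span {SS k}).IsPrime := by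
  rw [span_SS_eq_ker]
  exact RingHom.ker_isPrime _

theorem X_add_X_ne_zero (i j : Fin 3) (hij : i ≠ j) :
    (X i + X j : MvPolynomial (Fin 3) k) ≠ 0 := by
  intro h
  have := congrArg (MvPolynomial.eval (fun l => if l = i then (1 : k) else 0)) h
  simp [hij.symm] at this

theorem psi_PP_ne_zero : psi k (PP k) ≠ 0 := by
  have h : psi k (PP k) = X 1 * X 2 * (X 1 + X 2) := by
    simp [psi, PP]; ring
  rw [h]
  exact mul_ne_zero (mul_ne_zero (X_ne_zero _) (X_ne_zero _)) (X_add_X_ne_zero k 1 2 (by decide))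

theorem PP_notMem : PP k ∉ Ideal.span {SS k} := by
  rw [span_SS_eq_ker, RingHom.mem_ker]
  exact psi_PP_ne_zero k

theorem SS_ne_zero : SS k ≠ 0 := by
  intro h
  have := congrArg (MvPolynomial.eval (fun l => if l = 0 then (1 : k) else 0)) h
  simp [SS] at this

theorem PP_ne_zero : PP k ≠ 0 := by
  intro h
  apply psi_PP_ne_zero k
  rw [h, map_zero]

theorem SS_prime : Prime (SS k) :=
  (Ideal.span_singleton_prime (SS_ne_zero k)).mp (span_SS_isPrime k)

theorem SS_notMem_sq : SS k ∉ Ideal.span {SS k} ^ 2 := by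
  rw [Ideal.span_singleton_pow, Ideal.mem_span_singleton]
  rintro ⟨q, hq⟩
  have h1 : SS k * (1 - SS k * q) = 0 := by
    rw [mul_sub, mul_one, ← mul_assoc, ← sq, ← hq, sub_self]
  have h2 : 1 - SS k * q = 0 := (mul_eq_zero.mp h1).resolve_left (SS_ne_zero k)
  have h3 := congrArg (psi k) h2
  rw [map_sub, map_one, map_mul, psi_SS, zero_mul, sub_zero, map_zero] at h3
  exact one_ne_zero h3

open Polynomial in
/-- the Eisenstein polynomial `Π T² + S² T + S`. -/
noncomputable def GG : Polynomial (MvPolynomial (Fin 3) k) :=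
  Polynomial.C (PP k) * Polynomial.X ^ 2 + Polynomial.C (SS k ^ 2) * Polynomial.X +
    Polynomial.C (SS k)

open Polynomial in
/-- its reverse `S T² + S² T + Π`. -/
noncomputable def FF : Polynomial (MvPolynomial (Fin 3) k) :=
  Polynomial.C (SS k) * Polynomial.X ^ 2 + Polynomial.C (SS k ^ 2) * Polynomial.X +
    Polynomial.C (PP k)

theorem GG_irreducible : Irreducible (GG k) := by
  have hdeg : (GG k).degree = 2 := Polynomial.degree_quadratic (PP_ne_zero k)
  have hnat : (GG k).natDegree = 2 := Polynomial.natDegree_quadratic (PP_ne_zero k)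
  have hlead : (GG k).leadingCoeff = PP k := Polynomial.leadingCoeff_quadratic (PP_ne_zero k)
  have hc0 : (GG k).coeff 0 = SS k := by simp [GG]
  have hc1 : (GG k).coeff 1 = SS k ^ 2 := by
    simp only [GG, Polynomial.coeff_add, Polynomial.coeff_C_mul, Polynomial.coeff_X_pow,
      Polynomial.coeff_X, Polynomial.coeff_C]
    simp
  have hc2 : (GG k).coeff 2 = PP k := by
    simp only [GG, Polynomial.coeff_add, Polynomial.coeff_C_mul, Polynomial.coeff_X_pow,
      Polynomial.coeff_X, Polynomial.coeff_C]
    simp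
  refine Polynomial.irreducible_of_eisenstein_criterion (P := Ideal.span {SS k})
    (span_SS_isPrime k) ?_ ?_ ?_ ?_ ?_
  · rw [hlead]; exact PP_notMem k
  · intro n hn
    rw [hdeg] at hn
    have hn' : n < 2 := by exact_mod_cast hn
    interval_cases n
    · rw [hc0]; exact Ideal.subset_span rfl
    · rw [hc1, sq]; exact Ideal.mul_mem_left _ _ (Ideal.subset_span rfl)
  · rw [hdeg]; norm_num
  · rw [hc0]; exact SS_notMem_sq k
  · intro r hr
    rw [Polynomial.C_dvd_iff_dvd_coeff] at hr
    have h0 := hr 0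
    have h2 := hr 2
    rw [hc0] at h0
    rw [hc2] at h2
    rcases (SS_prime k).irreducible.dvd_iff.mp h0 with hu | ha
    · exact hu
    · exfalso
      apply PP_notMem k
      rw [Ideal.mem_span_singleton]
      exact ha.dvd.trans h2

theorem natDegree_FF : (FF k).natDegree = 2 := Polynomial.natDegree_quadratic (SS_ne_zero k)

theorem FF_coeff_zero : (FF k).coeff 0 = PP k := by simp [FF]

theorem reverse_FF : (FF k).reverse = GG k := by
  have hnatG : (GG k).natDegree = 2 := Polynomial.natDegree_quadratic (PP_ne_zero k)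
  ext n
  rw [Polynomial.coeff_reverse, natDegree_FF]
  rcases Nat.lt_or_ge n 3 with hn | hn
  · interval_cases n
    · rw [Polynomial.revAt_le (by norm_num)]
      simp only [FF, GG, Polynomial.coeff_add, Polynomial.coeff_C_mul, Polynomial.coeff_X_pow,
        Polynomial.coeff_X, Polynomial.coeff_C]
      simp
    · rw [Polynomial.revAt_le (by norm_num)]
      simp only [FF, GG, Polynomial.coeff_add, Polynomial.coeff_C_mul, Polynomial.coeff_X_pow,
        Polynomial.coeff_X, Polynomial.coeff_C]
      simp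
    · rw [Polynomial.revAt_le (by norm_num)]
      simp only [FF, GG, Polynomial.coeff_add, Polynomial.coeff_C_mul, Polynomial.coeff_X_pow,
        Polynomial.coeff_X, Polynomial.coeff_C]
      simp
  · rw [Polynomial.revAt_eq_self_of_lt (by omega),
      Polynomial.coeff_eq_zero_of_natDegree_lt (by rw [natDegree_FF]; omega),
      Polynomial.coeff_eq_zero_of_natDegree_lt (by rw [hnatG]; omega)]

theorem isUnit_of_isUnit_reverse {R : Type*} [CommRing R] [IsDomain R] (a : Polynomial R)
    (h0 : a.coeff 0 ≠ 0) (hu : IsUnit a.reverse) : IsUnit a := by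
  have h1 : a.natTrailingDegree = 0 := Polynomial.natTrailingDegree_eq_zero.mpr (Or.inr h0)
  have h2 : a.reverse.natDegree = a.natDegree := by
    rw [Polynomial.reverse_natDegree, h1, Nat.sub_zero]
  have h3 : a.natDegree = 0 := by
    rw [← h2]; exact Polynomial.natDegree_eq_zero_of_isUnit hu
  have h4 : a = Polynomial.C (a.coeff 0) := Polynomial.eq_C_of_natDegree_eq_zero h3
  rw [h4, Polynomial.reverse_C] at hu
  rw [h4]; exact hu

theorem FF_irreducible : Irreducible (FF k) := by
  refine ⟨fun hu => ?_, fun a b hab => ?_⟩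
  · have := Polynomial.natDegree_eq_zero_of_isUnit hu
    rw [natDegree_FF] at this
    omega
  · have hrev : GG k = a.reverse * b.reverse := by
      rw [← reverse_FF, hab, Polynomial.reverse_mul_of_domain]
    have hc0 : a.coeff 0 * b.coeff 0 = PP k := by
      rw [← Polynomial.mul_coeff_zero, ← hab, FF_coeff_zero]
    have ha0 : a.coeff 0 ≠ 0 := fun h => PP_ne_zero k (by rw [← hc0, h, zero_mul])
    have hb0 : b.coeff 0 ≠ 0 := fun h => PP_ne_zero k (by rw [← hc0, h, mul_zero])
    rcases (GG_irreducible k).isUnit_or_isUnit hrev with h | h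
    · exact Or.inl (isUnit_of_isUnit_reverse a ha0 h)
    · exact Or.inr (isUnit_of_isUnit_reverse b hb0 h)

/-- the five coordinates on the hyperplane `Σ y = 0`. -/
noncomputable def yy : Fin 5 → MvPolynomial (Fin 4) k :=
  ![X 0, X 1, X 2, X 3, -(X 0 + X 1 + X 2 + X 3)]

/-- the Clebsch cubic `σ₃(y₀,…,y₃,-Σy)`. -/
noncomputable def F4 : MvPolynomial (Fin 4) k := aeval (yy k) (esymm (Fin 5) k 3)

theorem finSuccEquiv_F4 : finSuccEquiv k 3 (F4 k) = -FF k := by
  have h1 : finSuccEquiv k 3 (F4 k) =
      aeval (fun i => finSuccEquiv k 3 (yy k i)) (esymm (Fin 5) k 3) := by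
    rw [F4]
    have := MvPolynomial.comp_aeval (R := k) (yy k) (finSuccEquiv k 3).toAlgHom
    have h2 := congrArg (fun f => f (esymm (Fin 5) k 3)) this
    simpa using h2
  rw [h1, aeval_esymm3]
  have e0 : finSuccEquiv k 3 (yy k 0) = Polynomial.X := by
    simp [yy, finSuccEquiv_X_zero]
  have e1 : finSuccEquiv k 3 (yy k 1) = Polynomial.C (X 0) := by
    have : (X 1 : MvPolynomial (Fin 4) k) = X (Fin.succ 0) := rfl
    simp only [yy, Matrix.cons_val_one, Matrix.cons_val_zero]
    rw [this, finSuccEquiv_X_succ]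
  have e2 : finSuccEquiv k 3 (yy k 2) = Polynomial.C (X 1) := by
    have : (X 2 : MvPolynomial (Fin 4) k) = X (Fin.succ 1) := rfl
    simp only [yy, Matrix.cons_val]
    rw [this, finSuccEquiv_X_succ]
  have e3 : finSuccEquiv k 3 (yy k 3) = Polynomial.C (X 2) := by
    have : (X 3 : MvPolynomial (Fin 4) k) = X (Fin.succ 2) := rfl
    simp only [yy, Matrix.cons_val]
    rw [this, finSuccEquiv_X_succ]
  have e4 : finSuccEquiv k 3 (yy k 4) =
      -(Polynomial.X + Polynomial.C (X 0) + Polynomial.C (X 1) + Polynomial.C (X 2)) := by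
    have h0 : yy k 4 = -(yy k 0 + yy k 1 + yy k 2 + yy k 3) := by
      simp [yy]
    rw [h0, map_neg, map_add, map_add, map_add, e0, e1, e2, e3]
  rw [e0, e1, e2, e3, e4]
  simp only [FF, SS, PP, map_add, map_mul, map_pow]
  ring

theorem F4_irreducible : Irreducible (F4 k) := by
  have h1 : Irreducible (finSuccEquiv k 3 (F4 k)) := by
    rw [finSuccEquiv_F4]
    have hass : Associated (FF k) (-FF k) := ⟨-1, by simp⟩
    exact hass.irreducible (FF_irreducible k)
  exact (MulEquiv.irreducible_iff (finSuccEquiv k 3)).mp h1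

theorem span_F4_isPrime : (Ideal.span {F4 k}).IsPrime := by
  rw [Ideal.span_singleton_prime (F4_irreducible k).ne_zero]
  exact (F4_irreducible k).prime

end Groth.Agent.Lib.Helper11.Cubic
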