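import Mathlib
import Groth.Agent.Lib.Helper11.Cubic1
import Groth.Agent.Lib.Helper11.Cubic3

set_option autoImplicit false

namespace Groth.Agent.Lib.Helper11.Cubic

open MvPolynomial

universe u

theorem cremona2 {k A : Type*} [CommRing k] [CommRing A] [Algebra k A] (u v : Fin 5 → A)
    (h : ∀ i, u i * v i = 1) :
    aeval v (esymm (Fin 5) k 2) * (u 0 * u 1 * u 2 * u 3 * u 4) = aeval u (esymm (Fin 5) k 3) := by
  rw [aeval_esymm2, aeval_esymm3]
  linear_combination (u 2 * u 3 * u 4 * u 1 * v 1 + u 1 * u 3 * u 4 * u 2 * v 2 + u 1 * u 2 * u 4 * u 3 * v 3 + u 1 * u 2 * u 3 * u 4 * v 4) * h 0 + (u 2 * u 3 * u 4 + u 0 * u 3 * u 4 * u 2 * v 2 + u 0 * u 2 * u 4 * u 3 * v 3 + u 0 * u 2 * u 3 * u 4 * v 4) * h 1 + (u 1 * u 3 * u 4 + u 0 * u 3 * u 4 + u 0 * u 1 * u 4 * u 3 * v 3 + u 0 * u 1 * u 3 * u 4 * v 4) * h 2 + (u 1 * u 2 * u 4 + u 0 * u 2 * u 4 + u 0 * u 1 * u 4 + u 0 * u 1 * u 2 * u 4 * v 4) * h 3 + (u 1 * u 2 * u 3 + u 0 * u 2 * u 3 +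 u 0 * u 1 * u 3 + u 0 * u 1 * u 2) * h 4

theorem cremona4 {k A : Type*} [CommRing k] [CommRing A] [Algebra k A] (u v : Fin 5 → A)
    (h : ∀ i, u i * v i = 1) :
    aeval v (esymm (Fin 5) k 4) * (u 0 * u 1 * u 2 * u 3 * u 4) = aeval u (esymm (Fin 5) k 1) := by
  rw [aeval_esymm4, aeval_esymm1]
  linear_combination (u 1 * (u 2 * v 2) * (u 3 * v 3) * (u 4 * v 4) + u 2 * (u 1 * v 1) * (u 3 * v 3) * (u 4 * v 4) + u 3 * (u 1 * v 1) * (u 2 * v 2) * (u 4 * v 4) + u 4 * (u 1 * v 1) * (u 2 * v 2) * (u 3 * v 3)) * h 0 + (u 0 * (u 2 * v 2) * (u 3 * v 3) * (u 4 * v 4) + u 2 * (u 3 * v 3) * (u 4 * v 4) + u 3 * (u 2 * v 2) * (u 4 * v 4) + u 4 * (u 2 * v 2) * (u 3 * v 3)) * h 1 + (u 0 * (u 3 * v 3) * (u 4 * v 4) + u 1 * (u 3 * v 3) * (u 4 * v 4) + u 3 * (u 4 * v 4) + u 4 * (u 3 * v 3)) * h 2 + (u 0 * (u 4 * v 4) + u 1 * (u 4 * v 4) + u 2 * (u 4 * v 4) + u 4) * h 3 + (u 0 + u 1 + u 2 + u 3) * h 4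

variable (k : Type u) [Field k]

/-- `E = k[y₀,…,y₃]/(F)`, the cone over the Clebsch cubic. -/
abbrev EE := MvPolynomial (Fin 4) k ⧸ Ideal.span {F4 k}

instance : IsDomain (EE k) := by
  have := span_F4_isPrime k
  exact Ideal.Quotient.isDomain _

/-- the five coordinate functions on the cone. -/
noncomputable def yb : Fin 5 → EE k := fun i => Ideal.Quotient.mk _ (yy k i)

theorem aeval_yb (p : MvPolynomial (Fin 5) k) :
    aeval (yb k) p = Ideal.Quotient.mk (Ideal.span {F4 k}) (aeval (yy k) p) := by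
  have := MvPolynomial.comp_aeval (R := k) (yy k) (Ideal.Quotient.mkₐ k (Ideal.span {F4 k}))
  have h2 := congrArg (fun f => f p) this
  simp only [AlgHom.comp_apply, Ideal.Quotient.mkₐ_eq_mk] at h2
  rw [h2]
  rfl

theorem aeval_yb_esymm3 : aeval (yb k) (esymm (Fin 5) k 3) = 0 := by
  rw [aeval_yb]
  exact Ideal.Quotient.eq_zero_iff_mem.mpr (Ideal.subset_span rfl)

theorem aeval_yb_esymm1 : aeval (yb k) (esymm (Fin 5) k 1) = 0 := by
  rw [aeval_yb, aeval_esymm1]
  have : yy k 0 + yy k 1 + yy k 2 + yy k 3 + yy k 4 = 0 := by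
    simp [yy]
  rw [this, map_zero]

theorem eval_F4 (a : Fin 4 → k) :
    eval a (F4 k) =
      aeval ![a 0, a 1, a 2, a 3, -(a 0 + a 1 + a 2 + a 3)] (esymm (Fin 5) k 3) := by
  have := MvPolynomial.comp_aeval (R := k) (yy k) (aeval a : MvPolynomial (Fin 4) k →ₐ[k] k)
  have h2 := congrArg (fun f => f (esymm (Fin 5) k 3)) this
  simp only [AlgHom.comp_apply] at h2
  rw [F4, ← MvPolynomial.coe_aeval_eq_eval]
  change (aeval a) ((aeval (yy k)) (esymm (Fin 5) k 3)) = _
  rw [h2]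
  congr 2
  funext i
  fin_cases i <;> simp [yy]

theorem yb_ne_zero (i : Fin 5) : yb k i ≠ 0 := by
  intro h
  rw [yb, Ideal.Quotient.eq_zero_iff_mem, Ideal.mem_span_singleton] at h
  obtain ⟨g, hg⟩ := h
  have key : ∀ pt : Fin 4 → k, eval pt (F4 k) = 0 → eval pt (yy k i) = 0 := by
    intro pt hpt
    rw [hg, map_mul, hpt, zero_mul]
  have p1 : eval ![(1 : k), -1, 0, 0] (F4 k) = 0 := by
    rw [eval_F4, aeval_esymm3]; simp
  have p2 : eval ![(0 : k), 0, 1, -1] (F4 k) = 0 := by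
    rw [eval_F4, aeval_esymm3]; simp
  have p3 : eval ![(1 : k), 0, 0, 0] (F4 k) = 0 := by
    rw [eval_F4, aeval_esymm3]; simp
  fin_cases i
  · have := key _ p1
    simp [yy] at this
  · have := key _ p1
    simp [yy] at this
  · have := key _ p2
    simp [yy] at this
  · have := key _ p2
    simp [yy] at this
  · have := key _ p3
    simp [yy] at this

/-- the product of the coordinates. -/
noncomputable def tt : EE k := yb k 0 * yb k 1 * yb k 2 * yb k 3 * yb k 4

theorem tt_ne_zero : tt k ≠ 0 := by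
  unfold tt
  exact mul_ne_zero (mul_ne_zero (mul_ne_zero (mul_ne_zero (yb_ne_zero k 0) (yb_ne_zero k 1))
    (yb_ne_zero k 2)) (yb_ne_zero k 3)) (yb_ne_zero k 4)

/-- the torus part of the cone. -/
abbrev DD5 := Localization.Away (tt k)

instance : IsDomain (DD5 k) :=
  IsLocalization.isDomain_localization
    (powers_le_nonZeroDivisors_of_noZeroDivisors (tt_ne_zero k))

/-- images of the coordinates in `D`. -/
noncomputable def ub : Fin 5 → DD5 k := fun i => algebraMap (EE k) (DD5 k) (yb k i)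

/-- their inverses. -/
noncomputable def vb : Fin 5 → DD5 k := fun i =>
  algebraMap (EE k) (DD5 k) (∏ j ∈ Finset.univ.erase i, yb k j) *
    IsLocalization.Away.invSelf (tt k)

theorem prod_yb : ∏ j, yb k j = tt k := by
  rw [Fin.prod_univ_five, tt]

theorem ub_mul_vb (i : Fin 5) : ub k i * vb k i = 1 := by
  rw [ub, vb, ← mul_assoc, ← map_mul, Finset.mul_prod_erase _ _ (Finset.mem_univ i), prod_yb]
  exact IsLocalization.Away.mul_invSelf (tt k)

/-- the Cremona parametrization `x_i ↦ 1/y_i`. -/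
noncomputable def phi5 : MvPolynomial (Fin 5) k →ₐ[k] DD5 k := aeval (vb k)

theorem aeval_ub (p : MvPolynomial (Fin 5) k) :
    aeval (ub k) p = algebraMap (EE k) (DD5 k) (aeval (yb k) p) := by
  have := MvPolynomial.comp_aeval (R := k) (yb k) (IsScalarTower.toAlgHom k (EE k) (DD5 k))
  have h2 := congrArg (fun f => f p) this
  simp only [AlgHom.comp_apply, IsScalarTower.coe_toAlgHom'] at h2
  rw [h2]
  rfl

theorem ub_prod_ne_zero : ub k 0 * ub k 1 * ub k 2 * ub k 3 * ub k 4 ≠ 0 := by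
  have : ub k 0 * ub k 1 * ub k 2 * ub k 3 * ub k 4 = algebraMap (EE k) (DD5 k) (tt k) := by
    simp [ub, tt]
  rw [this]
  exact (IsLocalization.Away.algebraMap_isUnit (tt k)).ne_zero

theorem phi5_esymm2 : phi5 k (esymm (Fin 5) k 2) = 0 := by
  have h := cremona2 (k := k) (ub k) (vb k) (ub_mul_vb k)
  rw [aeval_ub, aeval_yb_esymm3, map_zero] at h
  exact (mul_eq_zero.mp h).resolve_right (ub_prod_ne_zero k)

theorem phi5_esymm4 : phi5 k (esymm (Fin 5) k 4) = 0 := by
  have h := cremona4 (k := k) (ub k) (vb k) (ub_mul_vb k)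
  rw [aeval_ub, aeval_yb_esymm1, map_zero] at h
  exact (mul_eq_zero.mp h).resolve_right (ub_prod_ne_zero k)

theorem I24_le_ker : I24 k ≤ RingHom.ker (phi5 k) := by
  rw [I24, Ideal.span_le]
  rintro p hp
  rcases hp with rfl | rfl
  · exact phi5_esymm2 k
  · exact phi5_esymm4 k

theorem aeval_eq_zero_of_mem_ker (f : MvPolynomial (Fin 5) k) (hf : f ∈ RingHom.ker (phi5 k))
    (x : Fin 5 → k) (hx : x ∈ zeroLocus k (I24 k)) (hx0 : ∀ i, x i ≠ 0) : aeval x f = 0 := by
  set y : Fin 5 → k := fun i => (x i)⁻¹ with hy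
  have hyx : ∀ i, y i * x i = 1 := fun i => inv_mul_cancel₀ (hx0 i)
  have hx2 : aeval x (esymm (Fin 5) k 2) = 0 := hx _ (Ideal.subset_span (by simp))
  have hx4 : aeval x (esymm (Fin 5) k 4) = 0 := hx _ (Ideal.subset_span (by simp))
  have hy3 : aeval y (esymm (Fin 5) k 3) = 0 := by
    rw [← cremona2 (k := k) y x hyx, hx2, zero_mul]
  have hy1 : aeval y (esymm (Fin 5) k 1) = 0 := by
    rw [← cremona4 (k := k) y x hyx, hx4, zero_mul]
  rw [aeval_esymm1] at hy1
  have hy4 : y 4 = -(y 0 + y 1 + y 2 + y 3) := by linear_combination hy1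
  let a : Fin 4 → k := fun i => y i.castSucc
  have hvec : ![a 0, a 1, a 2, a 3, -(a 0 + a 1 + a 2 + a 3)] = y := by
    funext i
    fin_cases i
    · rfl
    · rfl
    · rfl
    · rfl
    · exact hy4.symm
  have hF : eval a (F4 k) = 0 := by
    rw [eval_F4, hvec, hy3]
  let ev0 : MvPolynomial (Fin 4) k →ₐ[k] k := aeval a
  have hev0 : ∀ p ∈ Ideal.span {F4 k}, ev0 p = 0 := by
    intro p hp
    obtain ⟨g, rfl⟩ := Ideal.mem_span_singleton.mp hp
    change aeval a (F4 k * g) = 0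
    have hF' : aeval a (F4 k) = 0 := by
      rw [MvPolynomial.aeval_eq_eval]; exact hF
    rw [map_mul, hF', zero_mul]
  let ev : EE k →ₐ[k] k := Ideal.Quotient.liftₐ (Ideal.span {F4 k}) ev0 hev0
  have hev : ∀ i, ev (yb k i) = y i := by
    intro i
    change ev0 (yy k i) = y i
    rw [← hvec]
    fin_cases i <;> simp [ev0, yy, a]
  have hevt : ev (tt k) ≠ 0 := by
    rw [tt, map_mul, map_mul, map_mul, map_mul, hev, hev, hev, hev, hev]
    simp only [hy]
    exact mul_ne_zero (mul_ne_zero (mul_ne_zero (mul_ne_zero (inv_ne_zero (hx0 0))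
      (inv_ne_zero (hx0 1))) (inv_ne_zero (hx0 2))) (inv_ne_zero (hx0 3))) (inv_ne_zero (hx0 4))
  have hunit : ∀ m : Submonoid.powers (tt k), IsUnit (ev m) := by
    rintro ⟨_, n, rfl⟩
    simp only [map_pow]
    exact (IsUnit.mk0 _ hevt).pow n
  let ev' : DD5 k →ₐ[k] k := IsLocalization.liftAlgHom (M := Submonoid.powers (tt k))
    (S := DD5 k) (f := ev) hunit
  have hev'u : ∀ i, ev' (ub k i) = y i := by
    intro i
    rw [ub]
    change IsLocalization.liftAlgHom (M := Submonoid.powers (tt k)) (S := DD5 k) (f := ev) hunit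
      (algebraMap (EE k) (DD5 k) (yb k i)) = y i
    rw [IsLocalization.liftAlgHom_apply, IsLocalization.lift_eq]
    exact hev i
  have hev'v : ∀ i, ev' (vb k i) = x i := by
    intro i
    have h1 := congrArg ev' (ub_mul_vb k i)
    rw [map_mul, map_one, hev'u] at h1
    have h2 : y i * x i = 1 := hyx i
    have hyi : y i ≠ 0 := inv_ne_zero (hx0 i)
    exact mul_left_cancel₀ hyi (h1.trans h2.symm)
  have hcomp : ev'.comp (phi5 k) = aeval x := by
    apply MvPolynomial.algHom_ext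
    intro i
    rw [AlgHom.comp_apply, phi5, aeval_X, aeval_X, hev'v]
  have : aeval x f = ev' (phi5 k f) := by
    rw [← hcomp]; rfl
  rw [this, (RingHom.mem_ker).mp hf, map_zero]

variable [IsAlgClosed k]

theorem s5_mul_mem_radical (f : MvPolynomial (Fin 5) k) (hf : f ∈ RingHom.ker (phi5 k)) :
    s5 k * f ∈ (I24 k).radical := by
  rw [← MvPolynomial.vanishingIdeal_zeroLocus_eq_radical (K := k),
    MvPolynomial.mem_vanishingIdeal_iff]
  intro x hx
  rw [map_mul]
  by_cases h : ∀ i, x i ≠ 0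
  · rw [aeval_eq_zero_of_mem_ker k f hf x hx h, mul_zero]
  · push Not at h
    obtain ⟨i, hi⟩ := h
    have : aeval x (s5 k) = 0 := by
      rw [s5, map_prod]
      exact Finset.prod_eq_zero (Finset.mem_univ i) (by rw [aeval_X, hi])
    rw [this, zero_mul]

theorem ker_le_radical5 [CharZero k] : RingHom.ker (phi5 k) ≤ (I24 k).radical := by
  intro f hf
  rw [← Ideal.sInf_minimalPrimes, Ideal.mem_sInf]
  intro q hq
  have hqp : q.IsPrime := hq.1.1
  have h1 : s5 k * f ∈ q := (hqp.radical_le_iff.mpr hq.1.2) (s5_mul_mem_radical k f hf)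
  exact (hqp.mem_or_mem h1).resolve_left (s5_notMem_of_mem_minimalPrimes k q hq)

theorem radical_I24_isPrime [CharZero k] : (I24 k).radical.IsPrime := by
  have h : (I24 k).radical = RingHom.ker (phi5 k) := by
    apply le_antisymm
    · have hp : (RingHom.ker (phi5 k)).IsPrime := RingHom.ker_isPrime _
      exact (Ideal.IsPrime.radical_le_iff hp).mpr (I24_le_ker k)
    · exact ker_le_radical5 k
  rw [h]
  exact RingHom.ker_isPrime _

end Groth.Agent.Lib.Helper11.Cubic
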