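import Mathlib
import Groth.Agent.Lib.Helper7.FCompleteTorsion
import Groth.Agent.Lib.Helper7.FCompleteIdeal

set_option autoImplicit false
set_option linter.unusedSectionVars false
universe u v

namespace Groth.Agent.Lib.Helper11.DCFin

open Groth.Agent.Lib.Helper7.FComplete PowerSeries

variable {A : Type u} [CommRing A] {M : Type v} [AddCommGroup M] [Module A M]

section Sum

variable {g : A} (hg : IsFComplete g M)

lemma sum_smul (a : A) (c : ℕ → M) : hg.sum (a • c) = a • hg.sum c := by
  have : hg.sol (a • c) = a • hg.sol c := by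
    apply hg.sol_eq
    rw [map_smul, hg.sol_spec]
  rw [IsFComplete.sum, this]
  rfl

lemma sum_smul' (a : A) (c : ℕ → M) : hg.sum (fun n => a • c n) = a • hg.sum c :=
  sum_smul hg a c

lemma sum_add' (c c' : ℕ → M) : hg.sum (fun n => c n + c' n) = hg.sum c + hg.sum c' :=
  hg.sum_add c c'

lemma sum_finset_sum {ι : Type*} (s : Finset ι) (c : ι → ℕ → M) :
    hg.sum (fun n => ∑ j ∈ s, c j n) = ∑ j ∈ s, hg.sum (c j) := by
  classical
  induction s using Finset.induction_on with
  | empty =>
    simp only [Finset.sum_empty]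
    exact hg.sum_zero
  | insert j s hj ih =>
    simp only [Finset.sum_insert hj]
    rw [sum_add', ih]

/-- shifting a sequence by one multiplies the sum by `g` -/
def shift (s : ℕ → M) : ℕ → M
  | 0 => 0
  | n + 1 => s n

lemma sum_shift (s : ℕ → M) : hg.sum (shift s) = g • hg.sum s := by
  rw [hg.sum_eq (shift s) 1]
  simp [shift]

lemma sum_congr {c c' : ℕ → M} (h : ∀ n, c n = c' n) : hg.sum c = hg.sum c' := by
  rw [funext h]

/-- Fubini for the sum operator -/
lemma sum_sum (c : ℕ → ℕ → M) :
    hg.sum (fun i => hg.sum (c i)) =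
      hg.sum (fun n => ∑ p ∈ Finset.HasAntidiagonal.antidiagonal n, c p.1 p.2) := by
  -- `D j n = ∑_{i+k=n} c (i+j) k`
  let D : ℕ → ℕ → M := fun j n => ∑ p ∈ Finset.HasAntidiagonal.antidiagonal n, c (p.1 + j) p.2
  have hD : ∀ j n, D j n = c j n + shift (D (j + 1)) n := by
    intro j n
    cases n with
    | zero => simp [D, shift]
    | succ n =>
      simp only [D, shift]
      rw [Finset.Nat.antidiagonal_succ, Finset.sum_cons, Finset.sum_map]
      simp only [zero_add]
      congr 1
      apply Finset.sum_congr rfl
      intro p _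
      show c (p.1 + 1 + j) p.2 = c (p.1 + (j + 1)) p.2
      rw [add_assoc, add_comm 1 j]
  let u : ℕ → M := fun j => hg.sum (D j)
  have hu : Δ g M u = fun j => hg.sum (c j) := by
    funext j
    rw [Δ_apply]
    show hg.sum (D j) - g • hg.sum (D (j + 1)) = _
    rw [sum_congr hg (hD j), sum_add', sum_shift]
    abel
  have h1 := hg.sol_eq _ u hu
  have h2 : hg.sum (fun i => hg.sum (c i)) = u 0 := by
    rw [IsFComplete.sum, h1]
  rw [h2]
  show hg.sum (D 0) = _
  apply sum_congr
  intro n
  simp [D]

end Sum

section PSModule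

variable {g : A} (hg : IsFComplete g M)

/-- the action of a power series in `g` on a `g`-complete module -/
noncomputable def psSMul (h : A⟦X⟧) (m : M) : M := hg.sum (fun i => coeff i h • m)

lemma psSMul_def (h : A⟦X⟧) (m : M) : psSMul hg h m = hg.sum (fun i => coeff i h • m) := rfl

lemma psSMul_C (a : A) (m : M) : psSMul hg (C a) m = a • m := by
  classical
  rw [psSMul_def]
  have : (fun i => coeff i (C a : A⟦X⟧) • m) = Pi.single 0 (a • m) := by
    funext i
    rw [coeff_C]
    by_cases hi : i = 0
    · subst hi; simp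
    · simp [hi]
  rw [this, hg.sum_single, pow_zero, one_smul]

lemma psSMul_X (m : M) : psSMul hg (X : A⟦X⟧) m = g • m := by
  classical
  rw [psSMul_def]
  have : (fun i => coeff i (X : A⟦X⟧) • m) = Pi.single 1 m := by
    funext i
    rw [coeff_X]
    by_cases hi : i = 1
    · subst hi; simp
    · simp [hi]
  rw [this, hg.sum_single, pow_one]

lemma psSMul_mul (h h' : A⟦X⟧) (m : M) : psSMul hg (h * h') m = psSMul hg h (psSMul hg h' m) := by
  rw [psSMul_def, psSMul_def]
  have h1 : ∀ i, coeff i h • psSMul hg h' m = hg.sum (fun k => coeff i h • coeff k h' • m) := by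
    intro i
    rw [psSMul_def, ← sum_smul']
  rw [sum_congr hg h1, sum_sum]
  apply sum_congr
  intro n
  rw [coeff_mul, Finset.sum_smul]
  apply Finset.sum_congr rfl
  intro p _
  rw [mul_smul]

/-- the `A⟦X⟧`-module structure on a `g`-complete module, `X` acting by `g` -/
@[reducible] noncomputable def psModule : Module A⟦X⟧ M where
  smul := psSMul hg
  one_smul m := by
    show psSMul hg 1 m = m
    rw [← map_one (C (R := A)), psSMul_C, one_smul]
  mul_smul h h' m := psSMul_mul hg h h' m
  smul_zero h := by
    show psSMul hg h 0 = 0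
    rw [psSMul_def]
    simp only [smul_zero]
    exact hg.sum_zero
  smul_add h m m' := by
    show psSMul hg h (m + m') = psSMul hg h m + psSMul hg h m'
    rw [psSMul_def, psSMul_def, psSMul_def, ← sum_add']
    apply sum_congr
    intro n
    rw [smul_add]
  add_smul h h' m := by
    show psSMul hg (h + h') m = psSMul hg h m + psSMul hg h' m
    rw [psSMul_def, psSMul_def, psSMul_def, ← sum_add']
    apply sum_congr
    intro n
    rw [map_add, add_smul]
  zero_smul m := by
    show psSMul hg 0 m = 0
    rw [psSMul_def]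
    simp only [map_zero, zero_smul]
    exact hg.sum_zero

lemma psModule_smul_def (h : A⟦X⟧) (m : M) :
    letI := psModule hg
    h • m = hg.sum (fun i => coeff i h • m) := rfl

lemma psModule_C_smul (a : A) (m : M) :
    letI := psModule hg
    (C a : A⟦X⟧) • m = a • m := psSMul_C hg a m

lemma psModule_X_smul (m : M) :
    letI := psModule hg
    (X : A⟦X⟧) • m = g • m := psSMul_X hg m

theorem psModule_isScalarTower :
    letI := psModule hg
    IsScalarTower A A⟦X⟧ M := by
  letI := psModule hg
  refine ⟨fun a h m => ?_⟩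
  rw [smul_eq_C_mul, mul_smul, psModule_C_smul]

end PSModule

end Groth.Agent.Lib.Helper11.DCFin
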