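import Mathlib
import Groth.Agent.Lib.Helper11.DCFin1

set_option autoImplicit false
set_option linter.unusedSectionVars false
universe u v

namespace Groth.Agent.Lib.Helper11.DCFin

open Groth.Agent.Lib.Helper7.FComplete PowerSeries

variable {A : Type u} [CommRing A] {M : Type v} [AddCommGroup M] [Module A M]

section SpanSmul

/-- elements of `(span s) • ⊤` for a finite set `s` -/
theorem mem_span_finset_smul_top_iff (s : Finset A) (w : M) :
    w ∈ Ideal.span (s : Set A) • (⊤ : Submodule A M) ↔ ∃ y : A → M, w = ∑ k ∈ s, k • y k := by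
  classical
  constructor
  · intro hw
    refine Submodule.smul_induction_on hw (fun a ha m _ => ?_) (fun x y hx hy => ?_)
    · obtain ⟨b, -, hb⟩ := Submodule.mem_span_finset.1 ha
      refine ⟨fun k => b k • m, ?_⟩
      rw [← hb, Finset.sum_smul]
      apply Finset.sum_congr rfl
      intro k _
      rw [smul_eq_mul, mul_smul, smul_comm]
    · obtain ⟨y1, rfl⟩ := hx
      obtain ⟨y2, rfl⟩ := hy
      refine ⟨y1 + y2, ?_⟩
      rw [← Finset.sum_add_distrib]
      apply Finset.sum_congr rfl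
      intro k _
      rw [Pi.add_apply, smul_add]
  · rintro ⟨y, rfl⟩
    refine Submodule.sum_mem _ fun k hk => ?_
    exact Submodule.smul_mem_smul (Ideal.subset_span hk) trivial

variable {g : A} (hg : IsFComplete g M)

/-- `𝔠 • ⊤` is closed under the sum operator for finitely generated `𝔠` -/
theorem sum_mem_smul_top (𝔠 : Ideal A) (h𝔠 : 𝔠.FG) (c : ℕ → M)
    (hc : ∀ n, c n ∈ 𝔠 • (⊤ : Submodule A M)) : hg.sum c ∈ 𝔠 • (⊤ : Submodule A M) := by
  obtain ⟨s, rfl⟩ := h𝔠
  choose y hy using fun n => (mem_span_finset_smul_top_iff s (c n)).1 (hc n)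
  rw [mem_span_finset_smul_top_iff]
  refine ⟨fun k => hg.sum (fun n => y n k), ?_⟩
  rw [sum_congr hg hy, sum_finset_sum]
  apply Finset.sum_congr rfl
  intro k _
  rw [sum_smul']

end SpanSmul

section FinStep

variable {g : A} (hg : IsFComplete g M)

/-- generators of `M/(𝔠 + g)M` generate `M/𝔠M` over `A⟦X⟧` -/
theorem exists_ps_repr (𝔠 : Ideal A) (h𝔠 : 𝔠.FG) {t : ℕ} (x : Fin t → M)
    (H : ∀ m : M, ∃ (a : Fin t → A) (m' w : M), w ∈ 𝔠 • (⊤ : Submodule A M) ∧
      m = ∑ j, a j • x j + g • m' + w) (m : M) :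
    ∃ (h : Fin t → A⟦X⟧) (w : M), w ∈ 𝔠 • (⊤ : Submodule A M) ∧
      m = ∑ j, psSMul hg (h j) (x j) + w := by
  choose a m' w hw hm using H
  let μ : ℕ → M := fun n => Nat.rec m (fun _ y => m' y) n
  have hμ : ∀ n, μ (n + 1) = m' (μ n) := fun n => rfl
  let c : ℕ → M := fun n => ∑ j, a (μ n) j • x j + w (μ n)
  have hΔ : Δ g M μ = c := by
    funext n
    rw [Δ_apply, hμ]
    have h := hm (μ n)
    calc μ n - g • m' (μ n)
        = (∑ j, a (μ n) j • x j + g • m' (μ n) + w (μ n)) - g • m' (μ n) := by rw [← h]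
      _ = c n := by simp only [c]; abel
  have h1 : hg.sum c = m := by
    rw [IsFComplete.sum, hg.sol_eq c μ hΔ]
    rfl
  refine ⟨fun j => PowerSeries.mk (fun n => a (μ n) j), hg.sum (fun n => w (μ n)),
    sum_mem_smul_top hg 𝔠 h𝔠 _ (fun n => hw _), ?_⟩
  rw [← h1]
  simp only [c]
  rw [sum_add', sum_finset_sum]
  congr 1
  apply Finset.sum_congr rfl
  intro j _
  rw [psSMul_def]
  apply sum_congr
  intro n
  rw [coeff_mk]

end FinStep

section Transfer

variable {B : Type*} [CommRing B] [Module B M]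

/-- transfer of `𝔞ⁿM ⊆ 𝔟ⁿM` between two rings acting on the same module -/
theorem pow_smul_top_transfer (𝔞 : Ideal A) (𝔟 : Ideal B)
    (H : ∀ a ∈ 𝔞, ∃ b ∈ 𝔟, ∀ x : M, b • x = a • x) (n : ℕ) (m : M)
    (hm : m ∈ 𝔞 ^ n • (⊤ : Submodule A M)) : m ∈ 𝔟 ^ n • (⊤ : Submodule B M) := by
  induction n generalizing m with
  | zero =>
    rw [pow_zero, Ideal.one_eq_top, Submodule.top_smul]
    trivial
  | succ n ih =>
    rw [pow_succ', Submodule.mul_smul] at hm ⊢
    refine Submodule.smul_induction_on hm (fun a ha x hx => ?_) (fun x y hx hy => add_mem hx hy)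
    obtain ⟨b, hb, hbx⟩ := H a ha
    rw [← hbx]
    exact Submodule.smul_mem_smul hb (ih x hx)

/-- `IsFComplete` only depends on the endomorphism -/
theorem isFComplete_of_smul_eq (b : B) (a : A) (h : ∀ x : M, b • x = a • x)
    (ha : IsFComplete a M) : IsFComplete b M := by
  have : (Δ b M : (ℕ → M) → (ℕ → M)) = Δ a M := by
    funext m n
    simp [Δ_apply, h]
  rw [IsFComplete, this]
  exact ha

end Transfer

section Jacobson

/-- `J·A⟦X⟧ + (X)` lies in the Jacobson radical of `A⟦X⟧` when `J` lies in that of `A` -/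
theorem map_C_sup_span_X_le_jacobson (J : Ideal A) (hJ : J ≤ Ideal.jacobson ⊥) :
    J.map (C (R := A)) ⊔ Ideal.span {(X : A⟦X⟧)} ≤ Ideal.jacobson ⊥ := by
  have h1 : J.map (C (R := A)) ⊔ Ideal.span {(X : A⟦X⟧)} ≤ J.comap (constantCoeff (R := A)) := by
    refine sup_le ?_ ?_
    · rw [Ideal.map_le_iff_le_comap]
      intro j hj
      rw [Ideal.mem_comap, Ideal.mem_comap, constantCoeff_C]
      exact hj
    · rw [Ideal.span_le]
      intro y hy
      rw [Set.mem_singleton_iff] at hy
      subst hy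
      rw [SetLike.mem_coe, Ideal.mem_comap, constantCoeff_X]
      exact J.zero_mem
  intro x hx
  have hx0 : constantCoeff x ∈ J := h1 hx
  rw [Ideal.mem_jacobson_bot]
  intro y
  rw [isUnit_iff_constantCoeff, map_add, map_mul, map_one]
  exact (Ideal.mem_jacobson_bot.1 (hJ hx0)) _

end Jacobson

end Groth.Agent.Lib.Helper11.DCFin
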