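import Mathlib
import Groth.Agent.Lib.Helper11.DCFin2
import Groth.Agent.Lib.Helper7.FCompleteAdic

set_option autoImplicit false
set_option linter.unusedSectionVars false
universe u v

namespace Groth.Agent.Lib.Helper11.DCFin

open Groth.Agent.Lib.Helper7.FComplete PowerSeries

section Base

variable {A : Type u} [CommRing A] [IsNoetherianRing A] {M : Type v} [AddCommGroup M] [Module A M]

/-- a module complete for all elements of `J` (as is the ring) with `M/JM` finite is finite -/
theorem finite_of_quotient_finite (J : Ideal A) (hJA : ∀ g ∈ J, IsFComplete g A)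
    (hJM : ∀ g ∈ J, IsFComplete g M)
    (hfin : Module.Finite A (M ⧸ J • (⊤ : Submodule A M))) : Module.Finite A M := by
  classical
  obtain ⟨t, xb, hxb⟩ := Module.Finite.exists_fin (R := A) (M := M ⧸ J • (⊤ : Submodule A M))
  choose x hx using fun j => Submodule.mkQ_surjective (J • (⊤ : Submodule A M)) (xb j)
  let u : (Fin t → A) →ₗ[A] M := Fintype.linearCombination A x
  have hQ : ∀ g ∈ J, IsFComplete g (M ⧸ LinearMap.range u) := fun g hg =>
    (IsFComplete.pi (fun _ => hJA g hg)).coker u (hJM g hg)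
  obtain ⟨s, hs⟩ := IsNoetherian.noetherian J
  have htop : Ideal.span (s : Set A) • (⊤ : Submodule A (M ⧸ LinearMap.range u)) = ⊤ := by
    rw [eq_top_iff]
    rintro q -
    obtain ⟨m, rfl⟩ := Submodule.mkQ_surjective _ q
    have h1 : (J • (⊤ : Submodule A M)).mkQ m ∈ Submodule.span A (Set.range xb) := by
      rw [hxb]; trivial
    obtain ⟨a, ha⟩ := (Submodule.mem_span_range_iff_exists_fun A).1 h1
    have h2 : m - u a ∈ J • (⊤ : Submodule A M) := by
      rw [← Submodule.Quotient.mk_eq_zero, Submodule.Quotient.mk_sub, sub_eq_zero]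
      show (J • (⊤ : Submodule A M)).mkQ m = (J • (⊤ : Submodule A M)).mkQ (u a)
      rw [← ha]
      simp only [u, Fintype.linearCombination_apply, map_sum, map_smul, hx]
    have h3 : (LinearMap.range u).mkQ m = (LinearMap.range u).mkQ (m - u a) := by
      rw [map_sub]
      have : (LinearMap.range u).mkQ (u a) = 0 := by
        rw [Submodule.mkQ_apply, Submodule.Quotient.mk_eq_zero]
        exact ⟨a, rfl⟩
      rw [this, sub_zero]
    rw [h3]
    have h4 := Submodule.mem_map_of_mem (f := (LinearMap.range u).mkQ) h2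
    rw [Submodule.map_smul'', Submodule.map_top, Submodule.range_mkQ] at h4
    have hs' : Ideal.span (s : Set A) = J := hs
    rwa [hs']
  have hsub := subsingleton_of_isFComplete_of_smul_top_eq_top s (M ⧸ LinearMap.range u)
    (fun f hf => hQ f (hs ▸ Ideal.subset_span hf)) htop
  have hrange : LinearMap.range u = ⊤ := by
    rw [eq_top_iff]
    rintro m -
    rw [← Submodule.Quotient.mk_eq_zero]
    exact Subsingleton.elim _ _
  exact Module.Finite.of_surjective u (LinearMap.range_eq_top.1 hrange)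

end Base

/-- the separatedness statement, for `r` extra generators -/
def HausStmt (r : ℕ) : Prop :=
  ∀ (A : Type u) [CommRing A] [IsNoetherianRing A] (M : Type u) [AddCommGroup M] [Module A M]
    (J : Ideal A), J ≤ Ideal.jacobson ⊥ → (∀ g ∈ J, IsFComplete g A) →
    (∀ g ∈ J, IsFComplete g M) → ∀ (f : Fin r → A), (∀ i, IsFComplete (f i) M) →
    Module.Finite A (M ⧸ (J ⊔ Ideal.span (Set.range f)) • (⊤ : Submodule A M)) →
    ∀ m : M, (∀ n, m ∈ (J ⊔ Ideal.span (Set.range f)) ^ n • (⊤ : Submodule A M)) → m = 0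

theorem haus_zero : HausStmt.{u} 0 := by
  intro A _ _ M _ _ J hJ hJA hJM f hf hfin m hm
  have hrange : Ideal.span (Set.range f) = ⊥ := by
    rw [Set.range_eq_empty, Ideal.span_empty]
  rw [hrange, sup_bot_eq] at hfin
  simp only [hrange, sup_bot_eq] at hm
  haveI : Module.Finite A M := finite_of_quotient_finite J hJA hJM hfin
  have h1 := Ideal.iInf_pow_smul_eq_bot_of_le_jacobson (M := M) J hJ
  have h2 : m ∈ (⨅ i : ℕ, J ^ i • ⊤ : Submodule A M) := (Submodule.mem_iInf _).2 hm
  rw [h1] at h2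
  exact (Submodule.mem_bot A).1 h2

section Step

variable {A : Type u} [CommRing A] {M : Type u} [AddCommGroup M] [Module A M]

/-- the new generators `X, C (f 1), …, C (f r)` -/
noncomputable def newGen {r : ℕ} (f : Fin (r + 1) → A) : Fin (r + 1) → A⟦X⟧ :=
  Fin.cons (X : A⟦X⟧) (fun i : Fin r => C (f i.succ))

theorem haus_succ (r : ℕ) (ih : HausStmt.{u} r) : HausStmt.{u} (r + 1) := by
  intro A _ _ M _ _ J hJ hJA hJM f hf hfin m hm
  classical
  have hg : IsFComplete (f 0) M := hf 0
  letI : Module A⟦X⟧ M := psModule hg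
  haveI : IsScalarTower A A⟦X⟧ M := psModule_isScalarTower hg
  have hCs : ∀ (a : A) (x : M), (C a : A⟦X⟧) • x = a • x := fun a x => psModule_C_smul hg a x
  have hXs : ∀ x : M, (X : A⟦X⟧) • x = f 0 • x := fun x => psModule_X_smul hg x
  let J' : Ideal A⟦X⟧ := J.map (C (R := A)) ⊔ Ideal.span {(X : A⟦X⟧)}
  let f' : Fin r → A⟦X⟧ := fun i => C (f i.succ)
  have hJ' : J' ≤ Ideal.jacobson ⊥ := map_C_sup_span_X_le_jacobson J hJ
  -- generators of J'
  have hJ'span : J' = Ideal.span ((C (R := A)) '' (J : Set A) ∪ {(X : A⟦X⟧)}) := by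
    rw [Ideal.span_union]
    rfl
  have hJA' : ∀ y ∈ J', IsFComplete y A⟦X⟧ := by
    intro y hy
    rw [hJ'span] at hy
    refine isFComplete_of_mem_span ?_ hy
    rintro z (⟨j, hj, rfl⟩ | hz)
    · have hps : IsFComplete j A⟦X⟧ := IsFComplete.pi (fun _ => hJA j hj)
      refine isFComplete_of_smul_eq (M := A⟦X⟧) (C j) j (fun x => ?_) hps
      rw [smul_eq_C_mul, smul_eq_mul]
    · rw [Set.mem_singleton_iff] at hz
      subst hz
      exact isFComplete_of_isAdicComplete (I := Ideal.span {(X : A⟦X⟧)})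
        (Ideal.subset_span rfl) A⟦X⟧
  have hJM' : ∀ y ∈ J', IsFComplete y M := by
    intro y hy
    rw [hJ'span] at hy
    refine isFComplete_of_mem_span ?_ hy
    rintro z (⟨j, hj, rfl⟩ | hz)
    · exact isFComplete_of_smul_eq (C j) j (hCs j) (hJM j hj)
    · rw [Set.mem_singleton_iff] at hz
      subst hz
      exact isFComplete_of_smul_eq X (f 0) hXs hg
  have hf' : ∀ i, IsFComplete (f' i) M := fun i =>
    isFComplete_of_smul_eq (C (f i.succ)) (f i.succ) (hCs _) (hf i.succ)
  -- transfer of elements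
  have hF' : ∀ i : Fin (r + 1), newGen f i ∈ J' ⊔ Ideal.span (Set.range f') ∧
      ∀ x : M, newGen f i • x = f i • x := by
    intro i
    refine Fin.cases ⟨?_, ?_⟩ (fun i => ⟨?_, ?_⟩) i
    · exact Ideal.mem_sup_left (Ideal.mem_sup_right (Ideal.subset_span rfl))
    · intro x
      exact hXs x
    · exact Ideal.mem_sup_right (Ideal.subset_span ⟨i, rfl⟩)
    · intro x
      show (C (f i.succ) : A⟦X⟧) • x = _
      exact hCs _ x
  have H : ∀ a ∈ J ⊔ Ideal.span (Set.range f), ∃ b ∈ J' ⊔ Ideal.span (Set.range f'),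
      ∀ x : M, b • x = a • x := by
    intro a ha
    obtain ⟨j, hj, c, hc, rfl⟩ := Submodule.mem_sup.1 ha
    obtain ⟨κ, rfl⟩ := (Ideal.mem_span_range_iff_exists_fun).1 hc
    refine ⟨C j + ∑ i, C (κ i) * newGen f i, ?_, ?_⟩
    · refine add_mem (Ideal.mem_sup_left (Ideal.mem_sup_left (Ideal.mem_map_of_mem _ hj))) ?_
      exact Ideal.sum_mem _ fun i _ => Ideal.mul_mem_left _ _ (hF' i).1
    · intro x
      rw [add_smul, add_smul, hCs, Finset.sum_smul, Finset.sum_smul]
      congr 1
      apply Finset.sum_congr rfl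
      intro i _
      rw [mul_smul, (hF' i).2, hCs, mul_smul]
  -- finiteness
  have hfin' : Module.Finite A⟦X⟧
      (M ⧸ (J' ⊔ Ideal.span (Set.range f')) • (⊤ : Submodule A⟦X⟧ M)) := by
    let 𝔠 : Ideal A := J ⊔ Ideal.span (Set.range fun i : Fin r => f i.succ)
    have h𝔠 : 𝔠.FG := IsNoetherian.noetherian 𝔠
    have hle : J ⊔ Ideal.span (Set.range f) ≤ 𝔠 ⊔ Ideal.span {f 0} := by
      refine sup_le (le_sup_of_le_left le_sup_left) ?_
      rw [Ideal.span_le]
      rintro _ ⟨i, rfl⟩
      refine Fin.cases ?_ (fun i => ?_) i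
      · exact Ideal.mem_sup_right (Ideal.subset_span rfl)
      · exact Ideal.mem_sup_left (Ideal.mem_sup_right (Ideal.subset_span ⟨i, rfl⟩))
    have h𝔠le : 𝔠 ≤ J ⊔ Ideal.span (Set.range f) := by
      refine sup_le le_sup_left (le_sup_of_le_right ?_)
      rw [Ideal.span_le]
      rintro _ ⟨i, rfl⟩
      exact Ideal.subset_span ⟨i.succ, rfl⟩
    obtain ⟨t, xb, hxb⟩ := Module.Finite.exists_fin (R := A)
      (M := M ⧸ (J ⊔ Ideal.span (Set.range f)) • (⊤ : Submodule A M))
    choose x hx using fun j =>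
      Submodule.mkQ_surjective ((J ⊔ Ideal.span (Set.range f)) • (⊤ : Submodule A M)) (xb j)
    have Hx : ∀ m : M, ∃ (a : Fin t → A) (m' w : M), w ∈ 𝔠 • (⊤ : Submodule A M) ∧
        m = ∑ j, a j • x j + f 0 • m' + w := by
      intro m
      have h1 : ((J ⊔ Ideal.span (Set.range f)) • (⊤ : Submodule A M)).mkQ m ∈
          Submodule.span A (Set.range xb) := by
        rw [hxb]; trivial
      obtain ⟨a, ha⟩ := (Submodule.mem_span_range_iff_exists_fun A).1 h1
      have h2 : m - ∑ j, a j • x j ∈ (J ⊔ Ideal.span (Set.range f)) • (⊤ : Submodule A M) := by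
        rw [← Submodule.Quotient.mk_eq_zero, Submodule.Quotient.mk_sub, sub_eq_zero]
        show ((J ⊔ Ideal.span (Set.range f)) • (⊤ : Submodule A M)).mkQ m =
          ((J ⊔ Ideal.span (Set.range f)) • (⊤ : Submodule A M)).mkQ (∑ j, a j • x j)
        rw [← ha]
        simp only [map_sum, map_smul, hx]
      have h3 : m - ∑ j, a j • x j ∈ 𝔠 • (⊤ : Submodule A M) ⊔
          (Ideal.span {f 0} : Ideal A) • (⊤ : Submodule A M) := by
        rw [← Submodule.sup_smul]
        exact Submodule.smul_mono_left hle h2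
      obtain ⟨w, hw, v, hv, hwv⟩ := Submodule.mem_sup.1 h3
      rw [Submodule.ideal_span_singleton_smul, Submodule.mem_smul_pointwise_iff_exists] at hv
      obtain ⟨m', -, rfl⟩ := hv
      refine ⟨a, m', w, hw, ?_⟩
      rw [add_assoc, add_comm (f 0 • m') w, hwv]
      abel
    have Hrepr := exists_ps_repr hg 𝔠 h𝔠 x Hx
    let φ : (Fin t → A⟦X⟧) →ₗ[A⟦X⟧]
        (M ⧸ (J' ⊔ Ideal.span (Set.range f')) • (⊤ : Submodule A⟦X⟧ M)) :=
      (Submodule.mkQ _) ∘ₗ Fintype.linearCombination A⟦X⟧ x
    refine Module.Finite.of_surjective φ ?_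
    intro q
    obtain ⟨m, rfl⟩ := Submodule.mkQ_surjective _ q
    obtain ⟨h, w, hw, hmw⟩ := Hrepr m
    refine ⟨h, ?_⟩
    have hw' : w ∈ (J' ⊔ Ideal.span (Set.range f')) • (⊤ : Submodule A⟦X⟧ M) := by
      have hw1 : w ∈ (J ⊔ Ideal.span (Set.range f)) ^ 1 • (⊤ : Submodule A M) := by
        rw [pow_one]
        exact Submodule.smul_mono_left h𝔠le hw
      have := pow_smul_top_transfer (J ⊔ Ideal.span (Set.range f))
        (J' ⊔ Ideal.span (Set.range f')) H 1 w hw1
      rwa [pow_one] at this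
    show Submodule.Quotient.mk (Fintype.linearCombination A⟦X⟧ x h) = Submodule.Quotient.mk m
    rw [Submodule.Quotient.eq, hmw, Fintype.linearCombination_apply]
    have : (∑ j, h j • x j) - (∑ j, psSMul hg (h j) (x j) + w) = -w := by
      have : ∀ j, h j • x j = psSMul hg (h j) (x j) := fun j => rfl
      simp only [this]
      abel
    rw [this]
    exact neg_mem hw'
  exact ih A⟦X⟧ M J' hJ' hJA' hJM' f' hf' hfin' m
    (fun n => pow_smul_top_transfer _ _ H n m (hm n))

theorem haus_all : ∀ r : ℕ, HausStmt.{u} r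
  | 0 => haus_zero
  | r + 1 => haus_succ r (haus_all r)

end Step

end Groth.Agent.Lib.Helper11.DCFin
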