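import Mathlib
import Groth.Agent.Lib.Helper16.DepthExt

/-!
# Depth and localization, universe polymorphically

`depth_I(M) = inf_{p ⊇ I} depth_{A_p}(M_p)` for a finite module over a Noetherian ring.
-/

set_option autoImplicit false
universe u v w w'
open CategoryTheory Abelian RingTheory.Sequence Pointwise
open Groth.Agent.Lib.Helper16.Depth

namespace Groth.Agent.Lib.Helper11.DepthLoc

section congr

variable {R : Type u} [CommRing R]

lemma smul_top_eq_top_congr (I : Ideal R) {M : Type v} {N : Type w} [AddCommGroup M]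
    [Module R M] [AddCommGroup N] [Module R N] (e : M ≃ₗ[R] N) :
    I • (⊤ : Submodule R M) = ⊤ ↔ I • (⊤ : Submodule R N) = ⊤ := by
  have h1 : (I • (⊤ : Submodule R M)).map e.toLinearMap = I • (⊤ : Submodule R N) := by
    rw [Submodule.map_smul'', Submodule.map_top, LinearEquiv.range]
  constructor
  · intro h
    rw [← h1, h, Submodule.map_top, LinearEquiv.range]
  · intro h
    have : (I • (⊤ : Submodule R M)).map e.toLinearMap = (⊤ : Submodule R M).map e.toLinearMap := by
      rw [h1, h, Submodule.map_top, LinearEquiv.range]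
    exact Submodule.map_injective_of_injective e.injective this

lemma hasRegSeq_congr (I : Ideal R) {M : Type v} {N : Type w} [AddCommGroup M]
    [Module R M] [AddCommGroup N] [Module R N] (e : M ≃ₗ[R] N) (n : ℕ) :
    HasRegSeq I M n ↔ HasRegSeq I N n := by
  constructor
  · rintro ⟨rs, h1, h2, h3⟩
    exact ⟨rs, h1, (e.isWeaklyRegular_congr rs).1 h2, h3⟩
  · rintro ⟨rs, h1, h2, h3⟩
    exact ⟨rs, h1, (e.isWeaklyRegular_congr rs).2 h2, h3⟩

lemma idealDepth_congr (I : Ideal R) {M : Type v} {N : Type w} [AddCommGroup M]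
    [Module R M] [AddCommGroup N] [Module R N] (e : M ≃ₗ[R] N) :
    LocCoh.idealDepth I M = LocCoh.idealDepth I N := by
  apply le_antisymm
  · rw [← ENat.forall_natCast_le_iff_le]
    intro n hn
    rw [le_idealDepth_iff] at hn ⊢
    rwa [← smul_top_eq_top_congr I e, ← hasRegSeq_congr I e]
  · rw [← ENat.forall_natCast_le_iff_le]
    intro n hn
    rw [le_idealDepth_iff] at hn ⊢
    rwa [smul_top_eq_top_congr I e, hasRegSeq_congr I e]

end congr

section rees

variable {B : Type u} [CommRing B] [IsNoetherianRing B] (I : Ideal B)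
  (T : Type w) [AddCommGroup T] [Module B T] [Module.Finite B T] [Small.{w} B]

/-- If `T` has a regular sequence of length `n + 1` inside `I` and `x ∈ I` is `T`-regular, then
`T/xT` has a regular sequence of length `n` inside `I` (via the Rees theorem). -/
theorem hasRegSeq_quotSMulTop (hIT : I • (⊤ : Submodule B T) ≠ ⊤) {x : B} (hx : x ∈ I)
    (hreg : IsSMulRegular T x) (n : ℕ) (h : HasRegSeq I T (n + 1)) :
    HasRegSeq I (QuotSMulTop x T) n := by
  obtain ⟨rs, hlen, hrs, hmem⟩ := h
  have lt : I • (⊤ : Submodule B (ModuleCat.of B T)) < ⊤ := lt_top_iff_ne_top.mpr hIT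
  have hle : Ideal.ofList rs ≤ I := by
    rw [Ideal.ofList, Ideal.span_le]
    intro r hr
    exact hmem r hr
  have hreg' : RingTheory.Sequence.IsRegular T rs := by
    refine ⟨hrs, ?_⟩
    intro htop
    apply hIT
    exact eq_top_iff.mpr (htop.le.trans (Submodule.smul_mono_left hle))
  have h2 : ∀ i < n + 1, Subsingleton
      (Ext (ModuleCat.of B (Shrink.{w} (B ⧸ I))) (ModuleCat.of B T) i) := by
    have := ((ModuleCat.exists_isRegular_tfae I (n + 1) (ModuleCat.of B T) lt).out 3 1).1
    exact this ⟨rs, hlen, hmem, hreg'⟩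
  have lt' : I • (⊤ : Submodule B (ModuleCat.of B (QuotSMulTop x T))) < ⊤ :=
    lt_top_iff_ne_top.mpr (smul_top_quotSMulTop_ne_top hx hIT)
  have hS : (ModuleCat.smulShortComplex (ModuleCat.of B T) x).ShortExact :=
    IsSMulRegular.smulShortComplex_shortExact (M := ModuleCat.of B T) hreg
  have h3 := ((ModuleCat.exists_isRegular_tfae I n (ModuleCat.of B (QuotSMulTop x T)) lt').out 1 3).1
  obtain ⟨rs', hlen', hmem', hreg''⟩ :=
    h3 (fun i hi => ext_X₃ hS _ i (h2 i (by omega)) (h2 (i + 1) (by omega)))
  exact ⟨rs', hlen', hreg''.toIsWeaklyRegular, hmem'⟩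

/-- `depth_I(T/xT) ≥ depth_I(T) - 1` for `x ∈ I` regular on `T`. -/
theorem le_idealDepth_quotSMulTop {x : B} (hx : x ∈ I) (hreg : IsSMulRegular T x) (n : ℕ)
    (h : ((n + 1 : ℕ) : ℕ∞) ≤ LocCoh.idealDepth I T) :
    (n : ℕ∞) ≤ LocCoh.idealDepth I (QuotSMulTop x T) := by
  rw [le_idealDepth_iff] at h ⊢
  by_cases hIT : I • (⊤ : Submodule B T) = ⊤
  · left
    have h1 : (I • (⊤ : Submodule B T)).map (Submodule.mkQ (x • (⊤ : Submodule B T))) =
        I • (⊤ : Submodule B (QuotSMulTop x T)) := by
      rw [Submodule.map_smul'', Submodule.map_top, Submodule.range_mkQ]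
    rw [← h1, hIT, Submodule.map_top, Submodule.range_mkQ]
  · right
    exact hasRegSeq_quotSMulTop I T hIT hx hreg n (h.resolve_left hIT)

end rees

section local_ring

variable {B : Type u} [CommRing B] [IsLocalRing B]

lemma maximalIdeal_smul_top_ne_top (T : Type w) [AddCommGroup T] [Module B T] [Module.Finite B T]
    [Nontrivial T] : IsLocalRing.maximalIdeal B • (⊤ : Submodule B T) ≠ ⊤ := by
  intro h
  have h1 : (⊤ : Submodule B T) = ⊥ :=
    Submodule.eq_bot_of_le_smul_of_le_jacobson_bot _ _ Module.Finite.fg_top h.ge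
      (IsLocalRing.maximalIdeal_le_jacobson _)
  exact top_ne_bot h1

lemma depth_eq_top_of_subsingleton (T : Type w) [AddCommGroup T] [Module B T] [Subsingleton T] :
    LocCoh.depth B T = ⊤ := by
  apply idealDepth_eq_top_of_smul_top_eq_top
  exact Subsingleton.elim _ _

/-- If the maximal ideal is an associated prime of `T`, then `depth T = 0`. -/
theorem not_one_le_depth_of_mem_associatedPrimes [IsNoetherianRing B] (T : Type w)
    [AddCommGroup T] [Module B T] [Module.Finite B T]
    (h : IsLocalRing.maximalIdeal B ∈ associatedPrimes B T) :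
    ¬ ((1 : ℕ) : ℕ∞) ≤ LocCoh.depth B T := by
  intro h1
  obtain ⟨hp, t, ht⟩ := (isAssociatedPrime_iff).1 h
  have htne : t ≠ 0 := by
    rintro rfl
    apply hp.ne_top
    rw [ht]
    ext r
    simp [Submodule.mem_colon_singleton]
  have : Nontrivial T := ⟨⟨t, 0, htne⟩⟩
  unfold LocCoh.depth at h1
  rw [le_idealDepth_iff] at h1
  obtain ⟨rs, hlen, hreg, hmem⟩ := h1.resolve_left (maximalIdeal_smul_top_ne_top T)
  match rs, hlen with
  | [x], _ =>
    have hx : x ∈ IsLocalRing.maximalIdeal B := hmem x (by simp)
    rw [ht, Submodule.mem_colon_singleton] at hx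
    have hxreg : IsSMulRegular T x := ((isWeaklyRegular_cons_iff T x []).1 hreg).1
    apply htne
    apply hxreg
    simpa using hx

end local_ring

section loc

variable {A : Type u} [CommRing A] (p : Ideal A) [p.IsPrime]

theorem depth_eq_of_isLocalizedModule {M : Type v} [AddCommGroup M] [Module A M]
    {T : Type w} [AddCommGroup T] [Module A T] [Module (Localization.AtPrime p) T]
    [IsScalarTower A (Localization.AtPrime p) T]
    {T' : Type w'} [AddCommGroup T'] [Module A T'] [Module (Localization.AtPrime p) T']
    [IsScalarTower A (Localization.AtPrime p) T']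
    (f : M →ₗ[A] T) [IsLocalizedModule p.primeCompl f] (f' : M →ₗ[A] T')
    [IsLocalizedModule p.primeCompl f'] :
    LocCoh.depth (Localization.AtPrime p) T = LocCoh.depth (Localization.AtPrime p) T' :=
  idealDepth_congr _ ((IsLocalizedModule.linearEquiv p.primeCompl f f').extendScalarsOfIsLocalization
    p.primeCompl (Localization.AtPrime p))

/-- The localization of `M/xM` is `T/xT`. -/
theorem exists_isLocalizedModule_quotSMulTop {M : Type v} [AddCommGroup M] [Module A M]
    {T : Type w} [AddCommGroup T] [Module A T] [Module (Localization.AtPrime p) T]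
    [IsScalarTower A (Localization.AtPrime p) T]
    (f : M →ₗ[A] T) [IsLocalizedModule p.primeCompl f] (x : A) :
    ∃ g : QuotSMulTop x M →ₗ[A] QuotSMulTop (algebraMap A (Localization.AtPrime p) x) T,
      IsLocalizedModule p.primeCompl g := by
  have hf : IsBaseChange (Localization.AtPrime p) f :=
    IsLocalizedModule.isBaseChange p.primeCompl (Localization.AtPrime p) f
  let e := (QuotSMulTop.algebraMapTensorEquivTensorQuotSMulTop x M (Localization.AtPrime p)).symm ≪≫ₗ
      QuotSMulTop.congr ((algebraMap A (Localization.AtPrime p)) x) hf.equiv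
  have hg : IsBaseChange (Localization.AtPrime p) <|
      e.toLinearMap.restrictScalars A ∘ₗ
        TensorProduct.mk A (Localization.AtPrime p) (QuotSMulTop x M) 1 :=
    IsBaseChange.of_equiv e (fun _ ↦ by simp)
  exact ⟨_, (isLocalizedModule_iff_isBaseChange p.primeCompl (Localization.AtPrime p) _).2 hg⟩

theorem le_depth_localization_quotSMulTop [IsNoetherianRing A] (M : Type v) [AddCommGroup M]
    [Module A M] [Module.Finite A M] {x : A} (hx : x ∈ p) (hreg : IsSMulRegular M x) (n : ℕ)
    (h : ((n + 1 : ℕ) : ℕ∞) ≤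
      LocCoh.depth (Localization.AtPrime p) (LocalizedModule p.primeCompl M)) :
    (n : ℕ∞) ≤ LocCoh.depth (Localization.AtPrime p)
      (LocalizedModule p.primeCompl (QuotSMulTop x M)) := by
  obtain ⟨g, hg⟩ := exists_isLocalizedModule_quotSMulTop p
    (LocalizedModule.mkLinearMap p.primeCompl M) x
  rw [depth_eq_of_isLocalizedModule p
    (LocalizedModule.mkLinearMap p.primeCompl (QuotSMulTop x M)) g]
  have h1 : IsNoetherianRing (Localization.AtPrime p) :=
    IsLocalization.isNoetherianRing p.primeCompl _ inferInstance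
  have h2 : Module.Finite (Localization.AtPrime p) (LocalizedModule p.primeCompl M) :=
    Module.Finite.of_isLocalizedModule p.primeCompl (LocalizedModule.mkLinearMap p.primeCompl M)
  have hf : IsBaseChange (Localization.AtPrime p) (LocalizedModule.mkLinearMap p.primeCompl M) :=
    IsLocalizedModule.isBaseChange p.primeCompl (Localization.AtPrime p) _
  have h3 : Module.Flat A (Localization.AtPrime p) :=
    IsLocalization.flat (Localization.AtPrime p) p.primeCompl
  have hreg' : IsSMulRegular (LocalizedModule p.primeCompl M)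
      (algebraMap A (Localization.AtPrime p) x) := hreg.of_flat_of_isBaseChange hf
  have hx' : algebraMap A (Localization.AtPrime p) x ∈
      IsLocalRing.maximalIdeal (Localization.AtPrime p) :=
    (IsLocalization.AtPrime.to_map_mem_maximal_iff (Localization.AtPrime p) p x).2 hx
  exact le_idealDepth_quotSMulTop (IsLocalRing.maximalIdeal (Localization.AtPrime p))
    (LocalizedModule p.primeCompl M) hx' hreg' n h

/-- A regular sequence in `I ⊆ p` localizes to a regular sequence in the maximal ideal. -/
theorem le_depth_localization_of_hasRegSeq {I : Ideal A} (hI : I ≤ p) (M : Type v)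
    [AddCommGroup M] [Module A M] (n : ℕ) (h : HasRegSeq I M n) :
    (n : ℕ∞) ≤ LocCoh.depth (Localization.AtPrime p) (LocalizedModule p.primeCompl M) := by
  obtain ⟨rs, hlen, hreg, hmem⟩ := h
  unfold LocCoh.depth
  rw [le_idealDepth_iff]
  right
  refine ⟨rs.map (algebraMap A (Localization.AtPrime p)), by simp [hlen],
    hreg.of_isLocalizedModule (Localization.AtPrime p) p.primeCompl
      (LocalizedModule.mkLinearMap p.primeCompl M), ?_⟩
  intro r hr
  obtain ⟨a, ha, rfl⟩ := List.mem_map.1 hr
  exact (IsLocalization.AtPrime.to_map_mem_maximal_iff (Localization.AtPrime p) p a).2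
    (hI (hmem a ha))

/-- If `IM = M` and `I ⊆ p` then `𝔪 M_p = M_p`. -/
theorem depth_localization_eq_top_of_smul_top_eq_top {I : Ideal A} (hI : I ≤ p) (M : Type v)
    [AddCommGroup M] [Module A M] (h : I • (⊤ : Submodule A M) = ⊤) :
    LocCoh.depth (Localization.AtPrime p) (LocalizedModule p.primeCompl M) = ⊤ := by
  apply idealDepth_eq_top_of_smul_top_eq_top
  rw [eq_top_iff]
  rintro y -
  obtain ⟨⟨m, s⟩, rfl⟩ := IsLocalizedModule.mk'_surjective p.primeCompl
    (LocalizedModule.mkLinearMap p.primeCompl M) y
  have hm : m ∈ I • (⊤ : Submodule A M) := by rw [h]; exact Submodule.mem_top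
  simp only [Function.uncurry_apply_pair]
  refine Submodule.smul_induction_on (p := fun m => IsLocalizedModule.mk'
    (LocalizedModule.mkLinearMap p.primeCompl M) m s ∈
      IsLocalRing.maximalIdeal (Localization.AtPrime p) •
        (⊤ : Submodule (Localization.AtPrime p) (LocalizedModule p.primeCompl M))) hm ?_ ?_
  · intro a ha m' _
    rw [IsLocalizedModule.mk'_smul, ← algebraMap_smul (Localization.AtPrime p) a
      (IsLocalizedModule.mk' (LocalizedModule.mkLinearMap p.primeCompl M) m' s)]
    exact Submodule.smul_mem_smul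
      ((IsLocalization.AtPrime.to_map_mem_maximal_iff (Localization.AtPrime p) p a).2 (hI ha))
      Submodule.mem_top
  · intro m₁ m₂ h₁ h₂
    rw [IsLocalizedModule.mk'_add]
    exact Submodule.add_mem _ h₁ h₂

end loc

section main

variable {A : Type u} [CommRing A] [IsNoetherianRing A] (I : Ideal A)

/-- Either `I` contains an `M`-regular element, or `I` lies in an associated prime of `M`. -/
theorem exists_regular_or_le_associatedPrime (M : Type v) [AddCommGroup M] [Module A M]
    [Module.Finite A M] :
    (∃ x ∈ I, IsSMulRegular M x) ∨ ∃ q ∈ associatedPrimes A M, I ≤ q := by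
  by_contra hcon
  push Not at hcon
  obtain ⟨h1, h2⟩ := hcon
  have hsub : (I : Set A) ⊆ ⋃ q ∈ associatedPrimes A M, (q : Set A) := by
    rw [biUnion_associatedPrimes_eq_compl_regular]
    intro x hx
    exact h1 x hx
  have hfin : (associatedPrimes A M).Finite := associatedPrimes.finite A M
  have hsub' : (I : Set A) ⊆ ⋃ q ∈ (hfin.toFinset : Set (Ideal A)), ((id q : Ideal A) : Set A) := by
    simpa using hsub
  obtain ⟨q, hq, hIq⟩ := (Ideal.subset_union_prime (f := id) ⊥ ⊥ (fun q hq _ _ => by
    have : q ∈ associatedPrimes A M := by simpa using hq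
    exact this.isPrime)).1 hsub'
  exact h2 q (by simpa using hq) hIq

/-- **Key**: if `depth M_p ≥ n` for all primes `p ⊇ I` then `depth_I(M) ≥ n`. -/
theorem le_idealDepth_of_forall_le_depth_localization (n : ℕ) :
    ∀ (M : Type v) [AddCommGroup M] [Module A M] [Module.Finite A M],
      (∀ (p : Ideal A) [p.IsPrime], I ≤ p → (n : ℕ∞) ≤
        LocCoh.depth (Localization.AtPrime p) (LocalizedModule p.primeCompl M)) →
      (n : ℕ∞) ≤ LocCoh.idealDepth I M := by
  induction n with
  | zero => intro M _ _ _ _; simp
  | succ n ih =>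
    intro M _ _ _ h
    by_cases hIM : I • (⊤ : Submodule A M) = ⊤
    · rw [idealDepth_eq_top_of_smul_top_eq_top I M hIM]
      exact le_top
    rcases exists_regular_or_le_associatedPrime I M with ⟨x, hxI, hreg⟩ | ⟨q, hq, hIq⟩
    · have h1 : (n : ℕ∞) ≤ LocCoh.idealDepth I (QuotSMulTop x M) := by
        apply ih
        intro p _ hp
        exact le_depth_localization_quotSMulTop p M (hp hxI) hreg n (h p hp)
      rw [le_idealDepth_iff] at h1 ⊢
      right
      exact HasRegSeq.cons hxI hreg (h1.resolve_left (smul_top_quotSMulTop_ne_top hxI hIM))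
    · exfalso
      have : q.IsPrime := hq.isPrime
      have h1 := Module.associatedPrimes.mem_associatedPrimes_atPrime_of_mem_associatedPrimes hq
      have h2 : IsNoetherianRing (Localization.AtPrime q) :=
        IsLocalization.isNoetherianRing q.primeCompl _ inferInstance
      have h3 : Module.Finite (Localization.AtPrime q) (LocalizedModule q.primeCompl M) :=
        Module.Finite.of_isLocalizedModule q.primeCompl (LocalizedModule.mkLinearMap q.primeCompl M)
      refine not_one_le_depth_of_mem_associatedPrimes (LocalizedModule q.primeCompl M) h1 ?_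
      refine le_trans ?_ (h q hIq)
      exact_mod_cast Nat.le_add_left 1 n

omit [IsNoetherianRing A] in
/-- `depth_I(M) ≤ depth M_p` for `p ⊇ I`. -/
theorem idealDepth_le_depth_localization (M : Type v) [AddCommGroup M] [Module A M]
    (p : Ideal A) [p.IsPrime] (hp : I ≤ p) :
    LocCoh.idealDepth I M ≤
      LocCoh.depth (Localization.AtPrime p) (LocalizedModule p.primeCompl M) := by
  rw [← ENat.forall_natCast_le_iff_le]
  intro n hn
  rw [le_idealDepth_iff] at hn
  rcases hn with h | h
  · rw [depth_localization_eq_top_of_smul_top_eq_top p hp M h]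
    exact le_top
  · exact le_depth_localization_of_hasRegSeq p hp M n h

/-- **Depth and localization**: `depth_I(M) = inf_{p ⊇ I} depth M_p`. -/
theorem idealDepth_eq_iInf (M : Type v) [AddCommGroup M] [Module A M] [Module.Finite A M] :
    LocCoh.idealDepth I M = ⨅ (p : PrimeSpectrum A) (_ : I ≤ p.asIdeal),
      LocCoh.depth (Localization.AtPrime p.asIdeal) (LocalizedModule p.asIdeal.primeCompl M) := by
  apply le_antisymm
  · exact le_iInf₂ fun p hp => idealDepth_le_depth_localization I M p.asIdeal hp
  · rw [← ENat.forall_natCast_le_iff_le]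
    intro n hn
    apply le_idealDepth_of_forall_le_depth_localization I n M
    intro p _ hp
    exact hn.trans (iInf₂_le (⟨p, inferInstance⟩ : PrimeSpectrum A) hp)

omit [IsNoetherianRing A] in
lemma isWeaklyRegular_of_subsingleton (rs : List A) :
    ∀ (N : Type w) [AddCommGroup N] [Module A N] [Subsingleton N], IsWeaklyRegular N rs := by
  induction rs with
  | nil => intro N _ _ _; exact IsWeaklyRegular.nil A N
  | cons x rs ih =>
    intro N _ _ _
    rw [isWeaklyRegular_cons_iff]
    refine ⟨fun a b _ => Subsingleton.elim a b, ?_⟩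
    have : Subsingleton (QuotSMulTop x N) := Function.Surjective.subsingleton
      (Submodule.mkQ_surjective _)
    exact ih (QuotSMulTop x N)

omit [IsNoetherianRing A] in
/-- If `IM = M` there are weakly regular sequences in `I` of any length. -/
theorem hasRegSeq_of_smul_top_eq_top (M : Type v) [AddCommGroup M] [Module A M]
    [Module.Finite A M] (h : I • (⊤ : Submodule A M) = ⊤) (n : ℕ) : HasRegSeq I M n := by
  obtain ⟨r, hr1, hr0⟩ := Submodule.exists_sub_one_mem_and_smul_eq_zero_of_fg_of_le_smul I
    (⊤ : Submodule A M) Module.Finite.fg_top h.ge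
  have ha : 1 - r ∈ I := by
    have := I.neg_mem hr1
    simpa using this
  have hact : ∀ m : M, (1 - r) • m = m := by
    intro m
    rw [sub_smul, one_smul, hr0 m Submodule.mem_top, sub_zero]
  rcases n with _ | n
  · exact HasRegSeq.zero
  · refine ⟨(1 - r) :: List.replicate n 0, by simp, ?_, ?_⟩
    · rw [isWeaklyRegular_cons_iff]
      refine ⟨fun a b hab => ?_, ?_⟩
      · simpa [hact] using hab
      · have : Subsingleton (QuotSMulTop (1 - r) M) := by
          apply Submodule.Quotient.subsingleton_iff.2
          rw [eq_top_iff]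
          rintro m -
          exact ⟨m, Submodule.mem_top, hact m⟩
        exact isWeaklyRegular_of_subsingleton _ _
    · intro x hx
      rcases List.mem_cons.1 hx with rfl | hx
      · exact ha
      · rw [List.eq_of_mem_replicate hx]
        exact I.zero_mem

/-- `depth M_p ≥ r` for all primes `p ⊇ I` iff `I` contains a weakly `M`-regular sequence of
length `r`. -/
theorem forall_le_depth_iff (M : Type v) [AddCommGroup M] [Module A M] [Module.Finite A M]
    (r : ℕ) :
    (∀ (p : Ideal A) [p.IsPrime], I ≤ p → (r : ℕ∞) ≤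
        LocCoh.depth (Localization.AtPrime p) (LocalizedModule p.primeCompl M)) ↔
      ∃ fs : List A, fs.length = r ∧ (∀ f ∈ fs, f ∈ I) ∧ IsWeaklyRegular M fs := by
  constructor
  · intro h
    have h1 := le_idealDepth_of_forall_le_depth_localization I r M h
    rw [le_idealDepth_iff] at h1
    have h2 : HasRegSeq I M r := by
      rcases h1 with h1 | h1
      · exact hasRegSeq_of_smul_top_eq_top I M h1 r
      · exact h1
    obtain ⟨fs, h3, h4, h5⟩ := h2
    exact ⟨fs, h3, h5, h4⟩
  · rintro ⟨fs, h3, h5, h4⟩ p _ hp
    exact le_depth_localization_of_hasRegSeq p hp M r ⟨fs, h3, h4, h5⟩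

end main

end Groth.Agent.Lib.Helper11.DepthLoc
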