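import Mathlib
import Groth.Agent.Lib.Helper22.Horseshoe.DerivedLES
import Groth.Agent.Lib.Helper22.DimShiftIso

set_option autoImplicit false
set_option linter.unusedSectionVars false
universe v v' u u'
open CategoryTheory CategoryTheory.Limits ZeroObject

namespace Groth.Agent.Lib.Helper11.FAcyc

section Basic
variable {A : Type u} [Category.{v} A] [Abelian A] [EnoughInjectives A]
  {B : Type u'} [Category.{v'} B] [Abelian B] (F : A ⥤ B) [F.Additive]

/-- `FD F d X`: `RⁱF(X) = 0` for all `i > d`. -/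
def FD (d : ℕ) : ObjectProperty A := fun X => ∀ i : ℕ, d < i → IsZero ((F.rightDerived i).obj X)

lemma FD_mono {d d' : ℕ} (h : d ≤ d') {X : A} (hX : FD F d X) : FD F d' X :=
  fun i hi => hX i (lt_of_le_of_lt h hi)

lemma FD_of_injective (X : A) [Injective X] (d : ℕ) : FD F d X := by
  intro i hi
  obtain ⟨k, rfl⟩ : ∃ k, i = k + 1 := ⟨i - 1, by omega⟩
  exact F.isZero_rightDerived_obj_injective_succ k X

lemma FD_of_iso {d : ℕ} {X Y : A} (e : X ≅ Y) (hX : FD F d X) : FD F d Y :=
  fun i hi => (hX i hi).of_iso ((F.rightDerived i).mapIso e.symm)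

instance (d : ℕ) : (FD F d).IsClosedUnderIsomorphisms := ⟨fun e h => FD_of_iso F e h⟩

lemma FD_zero (d : ℕ) : FD F d (0 : A) :=
  fun i _ => (F.rightDerived i).map_isZero (isZero_zero A)

lemma FD_of_isZero {d : ℕ} {X : A} (h : IsZero X) : FD F d X :=
  fun i _ => (F.rightDerived i).map_isZero h

lemma FD_biprod {d : ℕ} {X Y : A} (hX : FD F d X) (hY : FD F d Y) : FD F d (X ⊞ Y) := by
  intro i hi
  have : (F.rightDerived i).Additive := inferInstance
  rw [IsZero.iff_id_eq_zero, ← (F.rightDerived i).map_id, ← biprod.total, Functor.map_add,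
    Functor.map_comp, Functor.map_comp, (hX i hi).eq_of_tgt ((F.rightDerived i).map biprod.fst) 0,
    (hY i hi).eq_of_tgt ((F.rightDerived i).map biprod.snd) 0, zero_comp, zero_comp, add_zero]

/-- dimension shifting: in a short exact sequence with acyclic middle term, the dimension of the
cokernel drops. -/
lemma FD_of_shortExact {S : ShortComplex A} (hS : S.ShortExact) {d : ℕ} (h₂ : FD F 0 S.X₂)
    (h₁ : FD F (d + 1) S.X₁) : FD F d S.X₃ := by
  intro i hi
  have Δ := Groth.Agent.Lib.Helper22.Horseshoe.derivedLES F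
  exact (Δ.exact₃ S hS i (i + 1) rfl).isZero_of_both_zeros
    ((h₂ i (by omega)).eq_of_src _ _) ((h₁ (i + 1) (by omega)).eq_of_tgt _ _)

/-- the cokernel of a monomorphism between `F`-acyclic objects is `F`-acyclic -/
lemma FD_zero_of_shortExact {S : ShortComplex A} (hS : S.ShortExact) (h₁ : FD F 0 S.X₁)
    (h₂ : FD F 0 S.X₂) : FD F 0 S.X₃ :=
  FD_of_shortExact F hS h₂ (FD_mono F (Nat.zero_le _) h₁)

/-- if `RⁿF = 0` then `RⁱF = 0` for all `i ≥ n`. -/
lemma isZero_rightDerived_of_le (n : ℕ) (hn : ∀ X : A, IsZero ((F.rightDerived n).obj X))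
    (i : ℕ) (hi : n ≤ i) (X : A) : IsZero ((F.rightDerived i).obj X) := by
  induction i, hi using Nat.le_induction generalizing X with
  | base => exact hn X
  | succ i hi ih =>
    have Δ := Groth.Agent.Lib.Helper22.Horseshoe.derivedLES F
    let S : ShortComplex A := ShortComplex.mk (Injective.ι X) (cokernel.π (Injective.ι X))
      (cokernel.condition _)
    have hS : S.ShortExact :=
      { exact := ShortComplex.exact_cokernel _
        mono_f := inferInstanceAs (Mono (Injective.ι X))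
        epi_g := inferInstanceAs (Epi (cokernel.π (Injective.ι X))) }
    exact (Δ.exact₁ S hS i (i + 1) rfl).isZero_of_both_zeros
      ((ih _).eq_of_src _ _)
      ((F.isZero_rightDerived_obj_injective_succ i (Injective.under X)).eq_of_tgt _ _)

lemma FD_of_vanishing (n : ℕ) (hn : ∀ X : A, IsZero ((F.rightDerived n).obj X)) (X : A) :
    FD F n X :=
  fun i hi => isZero_rightDerived_of_le F n hn i hi.le X

end Basic

section KL
variable {A : Type u} [Category.{v} A] [Abelian A] [EnoughInjectives A]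
  {B : Type u'} [Category.{v'} B] [Abelian B] (F : A ⥤ B) [F.Additive] [PreservesFiniteLimits F]

lemma epi_map_of_FD {S : ShortComplex A} (hS : S.ShortExact) (h₁ : FD F 0 S.X₁) :
    Epi (F.map S.g) := by
  have Δ := Groth.Agent.Lib.Helper22.Horseshoe.derivedLES F
  have h0 : Epi ((F.rightDerived 0).map S.g) :=
    ((Δ.exact₃ S hS 0 1 rfl).epi_f_iff).2 ((h₁ 1 Nat.one_pos).eq_of_tgt _ _)
  have e : F.map S.g = F.rightDerivedZeroIsoSelf.inv.app S.X₂ ≫ (F.rightDerived 0).map S.g ≫
      F.rightDerivedZeroIsoSelf.hom.app S.X₃ := by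
    rw [F.rightDerivedZeroIsoSelf.hom.naturality, Iso.inv_hom_id_app_assoc]
  rw [e]
  infer_instance

lemma shortExact_map {S : ShortComplex A} (hS : S.ShortExact) (h₁ : FD F 0 S.X₁) :
    (S.map F).ShortExact := by
  have hm : Mono S.f := hS.mono_f
  have h1 : (S.map F).Exact := hS.exact.map_of_mono_of_preservesKernel F hm inferInstance
  have h2 : Mono (S.map F).f := inferInstanceAs (Mono (F.map S.f))
  exact ShortComplex.ShortExact.mk' h1 h2 (epi_map_of_FD F hS h₁)

omit [EnoughInjectives A] in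
lemma epi_toCycles (C : CochainComplex A ℤ) (i j : ℤ) (hij : i + 1 = j) (hC : C.ExactAt j) :
    Epi (C.toCycles i j) := by
  rw [C.exactAt_iff' i j (j + 1) (by simp; omega) (by simp)] at hC
  rw [epi_iff_surjective_up_to_refinements]
  intro W z
  obtain ⟨W', c, hc, x, hx⟩ := hC.exact_up_to_refinements (z ≫ C.iCycles j) (by
    change (z ≫ C.iCycles j) ≫ C.d j (j + 1) = 0
    rw [Category.assoc, C.iCycles_d, comp_zero])
  refine ⟨W', c, hc, x, ?_⟩
  rw [← cancel_mono (C.iCycles j), Category.assoc, Category.assoc, C.toCycles_i]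
  exact hx

omit [EnoughInjectives A] in
lemma cycles_shortExact (C : CochainComplex A ℤ) (i j : ℤ) (hij : i + 1 = j) (hC : C.ExactAt j) :
    (ShortComplex.mk (C.iCycles i) (C.toCycles i j) (by
      rw [← cancel_mono (C.iCycles j), Category.assoc, C.toCycles_i, C.iCycles_d,
        zero_comp])).ShortExact := by
  have hex : (ShortComplex.mk (C.iCycles i) (C.d i j) (C.iCycles_d i j)).Exact :=
    ShortComplex.exact_of_f_is_kernel _ (C.cyclesIsKernel i j (by simp; omega))
  let φ : ShortComplex.mk (C.iCycles i) (C.toCycles i j) (by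
      rw [← cancel_mono (C.iCycles j), Category.assoc, C.toCycles_i, C.iCycles_d,
        zero_comp]) ⟶ ShortComplex.mk (C.iCycles i) (C.d i j) (C.iCycles_d i j) :=
    { τ₁ := 𝟙 _, τ₂ := 𝟙 _, τ₃ := C.iCycles j }
  have : Epi φ.τ₁ := inferInstanceAs (Epi (𝟙 _))
  have : IsIso φ.τ₂ := inferInstanceAs (IsIso (𝟙 _))
  have : Mono φ.τ₃ := inferInstanceAs (Mono (C.iCycles j))
  exact { exact := (ShortComplex.exact_iff_of_epi_of_isIso_of_mono φ).2 hex
          mono_f := inferInstanceAs (Mono (C.iCycles i))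
          epi_g := epi_toCycles C i j hij hC }

/-- cycles of an acyclic complex of `F`-acyclic objects are `F`-acyclic when `RⁿF = 0`. -/
lemma FD_cycles (n : ℕ) (hn : ∀ X : A, IsZero ((F.rightDerived n).obj X))
    (C : CochainComplex A ℤ) (hC : ∀ i, C.ExactAt i) (hCX : ∀ i, FD F 0 (C.X i)) (i : ℤ) :
    FD F 0 (C.cycles i) := by
  have Δ := Groth.Agent.Lib.Helper22.Horseshoe.derivedLES F
  have key : ∀ (m : ℕ) (i : ℤ) (k : ℕ), 0 < k → n ≤ k + m →
      IsZero ((F.rightDerived k).obj (C.cycles i)) := by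
    intro m
    induction m with
    | zero =>
      intro i k _ hk
      exact isZero_rightDerived_of_le F n hn k (by omega) _
    | succ m ih =>
      intro i k hk hkm
      have hS := cycles_shortExact C (i - 1) i (by omega) (hC i)
      exact (Δ.exact₃ _ hS k (k + 1) rfl).isZero_of_both_zeros
        ((hCX (i - 1) k hk).eq_of_src _ _) ((ih (i - 1) (k + 1) (by omega) (by omega)).eq_of_tgt _ _)
  intro k hk
  exact key n i k hk (by omega)

/-- **Key lemma**: `F` maps acyclic complexes of `F`-acyclic objects to acyclic complexes, when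
`F` has finite cohomological dimension. -/
theorem exactAt_map_of_acyclic (n : ℕ) (hn : ∀ X : A, IsZero ((F.rightDerived n).obj X))
    (C : CochainComplex A ℤ) (hC : ∀ i, C.ExactAt i) (hCX : ∀ i, FD F 0 (C.X i)) (i : ℤ) :
    ((F.mapHomologicalComplex (ComplexShape.up ℤ)).obj C).ExactAt i := by
  rw [HomologicalComplex.exactAt_iff' _ (i - 1) i (i + 1) (by simp) (by simp)]
  have hZ := FD_cycles F n hn C hC hCX
  have hS₁ := cycles_shortExact C (i - 1) i (by omega) (hC i)
  have hS₂ := cycles_shortExact C i (i + 1) rfl (hC (i + 1))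
  have h2 := (shortExact_map F hS₂ (hZ i)).exact
  have hepi := epi_map_of_FD F hS₁ (hZ (i - 1))
  dsimp at hepi
  have w : F.map (C.d (i - 1) i) ≫ F.map (C.toCycles i (i + 1)) = 0 := by
    rw [← F.map_comp, ← cancel_mono (F.map (C.iCycles (i + 1))), ← F.map_comp, Category.assoc,
      C.toCycles_i, C.d_comp_d, F.map_zero, zero_comp]
  let S' : ShortComplex B := ShortComplex.mk _ _ w
  let φ₁ : S' ⟶ (ShortComplex.mk (C.iCycles i) (C.toCycles i (i + 1)) (by
      rw [← cancel_mono (C.iCycles (i + 1)), Category.assoc, C.toCycles_i, C.iCycles_d,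
        zero_comp])).map F :=
    { τ₁ := F.map (C.toCycles (i - 1) i), τ₂ := 𝟙 _, τ₃ := 𝟙 _
      comm₁₂ := by
        change F.map (C.toCycles (i - 1) i) ≫ F.map (C.iCycles i) = F.map (C.d (i - 1) i) ≫ 𝟙 _
        rw [Category.comp_id, ← F.map_comp, C.toCycles_i]
      comm₂₃ := by
        change 𝟙 _ ≫ F.map (C.toCycles i (i + 1)) = F.map (C.toCycles i (i + 1)) ≫ 𝟙 _
        rw [Category.comp_id, Category.id_comp] }
  have : Epi φ₁.τ₁ := hepi
  have : IsIso φ₁.τ₂ := inferInstanceAs (IsIso (𝟙 _))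
  have : Mono φ₁.τ₃ := inferInstanceAs (Mono (𝟙 _))
  have hS' : S'.Exact := (ShortComplex.exact_iff_of_epi_of_isIso_of_mono φ₁).2 h2
  let φ₂ : S' ⟶ ((F.mapHomologicalComplex (ComplexShape.up ℤ)).obj C).sc' (i - 1) i (i + 1) :=
    { τ₁ := 𝟙 _, τ₂ := 𝟙 _, τ₃ := F.map (C.iCycles (i + 1))
      comm₁₂ := by
        change 𝟙 _ ≫ F.map (C.d (i - 1) i) = F.map (C.d (i - 1) i) ≫ 𝟙 _
        rw [Category.comp_id, Category.id_comp]
      comm₂₃ := by
        change 𝟙 _ ≫ F.map (C.d i (i + 1)) =
          F.map (C.toCycles i (i + 1)) ≫ F.map (C.iCycles (i + 1))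
        rw [Category.id_comp, ← F.map_comp, C.toCycles_i] }
  have : Epi φ₂.τ₁ := inferInstanceAs (Epi (𝟙 _))
  have : IsIso φ₂.τ₂ := inferInstanceAs (IsIso (𝟙 _))
  have : Mono φ₂.τ₃ := inferInstanceAs (Mono (F.map (C.iCycles (i + 1))))
  exact (ShortComplex.exact_iff_of_epi_of_isIso_of_mono φ₂).1 hS'

end KL

end Groth.Agent.Lib.Helper11.FAcyc
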