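import Mathlib
import Groth.Agent.Lib.Helper11.FAcyc1

set_option autoImplicit false
set_option linter.unusedSectionVars false
universe w w' v v' u u'
open CategoryTheory CategoryTheory.Limits ZeroObject

namespace Groth.Agent.Lib.Helper11.FAcyc

section Emb
variable {A : Type u} [Category.{v} A] [Abelian A] [EnoughInjectives A] (K : CochainComplex A ℤ)

/-- a complex of injectives receiving a termwise monomorphism from `K`. -/
noncomputable def IJ : CochainComplex A ℤ :=
  CochainComplex.of (fun n => Injective.under (K.X n) ⊞ Injective.under (K.X (n + 1)))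
    (fun n => biprod.snd ≫ biprod.inl) (fun n => by simp)

/-- the termwise monomorphism `K ⟶ IJ K`. -/
noncomputable def emb : K ⟶ IJ K :=
  CochainComplex.ofHom
    (fun i => biprod.lift (Injective.ι (K.X i)) (K.d i (i + 1) ≫ Injective.ι (K.X (i + 1))))
    (fun i => by
      dsimp only [IJ]
      rw [CochainComplex.of_d]
      ext <;> simp)

instance mono_emb_f (i : ℤ) : Mono ((emb K).f i) :=
  mono_of_mono_fac (biprod.lift_fst (Injective.ι (K.X i)) _)

instance injective_IJ_X (i : ℤ) : Injective ((IJ K).X i) :=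
  inferInstanceAs (Injective (Injective.under (K.X i) ⊞ Injective.under (K.X (i + 1))))

instance mono_emb : Mono (emb K) := HomologicalComplex.mono_of_mono_f _ (fun _ => inferInstance)

/-- the short exact sequence `0 → K → IJ K → coker → 0`. -/
noncomputable def embSC : ShortComplex (CochainComplex A ℤ) :=
  ShortComplex.mk (emb K) (cokernel.π (emb K)) (cokernel.condition _)

lemma embSC_shortExact : (embSC K).ShortExact where
  exact := ShortComplex.exact_cokernel _
  mono_f := inferInstanceAs (Mono (emb K))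
  epi_g := inferInstanceAs (Epi (cokernel.π (emb K)))

variable {B : Type u'} [Category.{v'} B] [Abelian B] (F : A ⥤ B) [F.Additive]

lemma FD_cokernel_emb (d : ℕ) (hK : ∀ i, FD F (d + 1) (K.X i)) (i : ℤ) :
    FD F d ((cokernel (emb K)).X i) := by
  have hS := (embSC_shortExact K).map_of_exact (HomologicalComplex.eval A (ComplexShape.up ℤ) i)
  exact FD_of_shortExact F hS (FD_of_injective F ((IJ K).X i) 0) (hK i)

end Emb

section Res
open HomotopyCategory CochainComplex
variable {A : Type u} [Category.{v} A] [Abelian A] [EnoughInjectives A]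
  {B : Type u'} [Category.{v'} B] [Abelian B] (F : A ⥤ B) [F.Additive]

/-- objects of the homotopy category represented by complexes whose terms have `F`-dimension
`≤ d`. -/
def TP (d : ℕ) : ObjectProperty (HomotopyCategory A (ComplexShape.up ℤ)) :=
  fun X => ∃ K : CochainComplex A ℤ, (∀ n, FD F d (K.X n)) ∧
    Nonempty (X ≅ (HomotopyCategory.quotient A (ComplexShape.up ℤ)).obj K)

instance (d : ℕ) : (TP F d).IsClosedUnderIsomorphisms where
  of_iso := by
    rintro X Y e ⟨K, hK, ⟨e'⟩⟩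
    exact ⟨K, hK, ⟨e.symm ≪≫ e'⟩⟩

lemma TP_quotient_obj {d : ℕ} (K : CochainComplex A ℤ) (hK : ∀ n, FD F d (K.X n)) :
    TP F d ((HomotopyCategory.quotient A (ComplexShape.up ℤ)).obj K) :=
  ⟨K, hK, ⟨Iso.refl _⟩⟩

lemma TP_shift {d : ℕ} {X : HomotopyCategory A (ComplexShape.up ℤ)} (hX : TP F d X) (n : ℤ) :
    TP F d (X⟦n⟧) := by
  obtain ⟨K, hK, ⟨e⟩⟩ := hX
  refine ⟨K⟦n⟧, fun i => hK (i + n), ⟨(CategoryTheory.shiftFunctor _ n).mapIso e ≪≫
    (((HomotopyCategory.quotient A (ComplexShape.up ℤ)).commShiftIso n).app K).symm⟩⟩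

lemma TP_mappingCone {K L : CochainComplex A ℤ} (g : K ⟶ L) (hK : ∀ n, FD F 0 (K.X n))
    (hL : ∀ n, FD F 0 (L.X n)) :
    TP F 0 ((HomotopyCategory.quotient A (ComplexShape.up ℤ)).obj (mappingCone g)) := by
  refine TP_quotient_obj F _ (fun n => ?_)
  exact FD_of_iso F (HomologicalComplex.homotopyCofiber.XIsoBiprod g n (n + 1) rfl).symm
    (FD_biprod F (hK (n + 1)) (hL n))

end Res

section Step
open HomotopyCategory CochainComplex Pretriangulated
variable {A : Type u} [Category.{v} A] [Abelian A] [EnoughInjectives A]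
  [HasDerivedCategory.{w} A]
  {B : Type u'} [Category.{v'} B] [Abelian B] (F : A ⥤ B) [F.Additive]

local notation "Kh" => HomotopyCategory A (ComplexShape.up ℤ)
local notation "qq" => HomotopyCategory.quotient A (ComplexShape.up ℤ)
local notation "WW" => HomotopyCategory.quasiIso A (ComplexShape.up ℤ)

lemma W_iff_isIso {X Y : Kh} (f : X ⟶ Y) : WW f ↔ IsIso (DerivedCategory.Qh.map f) :=
  (DerivedCategory.isIso_Qh_map_iff f).symm

lemma W_of_isIso {X Y : Kh} (f : X ⟶ Y) [IsIso f] : WW f := by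
  rw [W_iff_isIso]
  infer_instance

lemma W_comp {X Y Z : Kh} (f : X ⟶ Y) (g : Y ⟶ Z) (hf : WW f) (hg : WW g) : WW (f ≫ g) := by
  rw [W_iff_isIso] at hf hg ⊢
  rw [Functor.map_comp]
  infer_instance

lemma W_quotient_map {K L : CochainComplex A ℤ} (f : K ⟶ L) : WW ((qq).map f) ↔ QuasiIso f := by
  rw [HomotopyCategory.quotient_map_mem_quasiIso_iff, HomologicalComplex.mem_quasiIso_iff]

/-- the inductive step for resolutions. -/
lemma exists_resolution_step (d : ℕ)
    (ih : ∀ X : Kh, TP F d X → ∃ Y : Kh, TP F 0 Y ∧ ∃ w : X ⟶ Y, WW w)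
    (X : Kh) (hX : TP F (d + 1) X) : ∃ Y : Kh, TP F 0 Y ∧ ∃ w : X ⟶ Y, WW w := by
  obtain ⟨K, hK, ⟨e₁⟩⟩ := TP_shift F hX (-1 : ℤ)
  have hS := embSC_shortExact K
  obtain ⟨Y', ⟨T', hT', ⟨eY⟩⟩, w', hw'⟩ := ih ((qq).obj (cokernel (emb K)))
    (TP_quotient_obj F _ (FD_cokernel_emb K F d hK))
  obtain ⟨ψ, hψ⟩ := (qq).map_surjective (w' ≫ eY.hom)
  have hψq : QuasiIso ψ := by
    rw [← W_quotient_map, hψ]
    exact W_comp _ _ hw' (W_of_isIso _)
  let g : IJ K ⟶ T' := cokernel.π (emb K) ≫ ψ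
  let d₀ : mappingCone (emb K) ⟶ cokernel (emb K) := mappingCone.descShortComplex (embSC K)
  have hd₀ : QuasiIso d₀ := mappingCone.quasiIso_descShortComplex hS
  let h : mappingCone (emb K) ⟶ T' := d₀ ≫ ψ
  have hh : QuasiIso h := quasiIso_comp d₀ ψ
  have hcomm : mappingCone.inr (emb K) ≫ h = g := by
    dsimp only [h, g]
    rw [← Category.assoc]
    congr 1
    exact mappingCone.inr_descShortComplex (embSC K)
  let T₁ := (mappingCone.triangleh (emb K)).rotate
  let T₂ := mappingCone.triangleh g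
  have hT₁ : T₁ ∈ distTriang Kh := rot_of_distTriang _ (mappingCone_triangleh_distinguished _)
  have hT₂ : T₂ ∈ distTriang Kh := mappingCone_triangleh_distinguished _
  have hφ₁ : T₁.mor₁ ≫ (qq).map h = 𝟙 _ ≫ T₂.mor₁ := by
    change (qq).map (mappingCone.inr (emb K)) ≫ (qq).map h = 𝟙 ((qq).obj (IJ K)) ≫ (qq).map g
    rw [Category.id_comp, ← Functor.map_comp, hcomm]
  obtain ⟨c, hc₁, hc₂⟩ :=
    CategoryTheory.Pretriangulated.complete_distinguished_triangle_morphism T₁ T₂ hT₁ hT₂ (𝟙 _)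
      ((qq).map h) hφ₁
  let φ : T₁ ⟶ T₂ :=
    { hom₁ := 𝟙 _
      hom₂ := (qq).map h
      hom₃ := c
      comm₁ := hφ₁
      comm₂ := hc₁
      comm₃ := hc₂ }
  have hcW : WW c := by
    rw [W_iff_isIso]
    have h1 : IsIso (DerivedCategory.Qh.mapTriangle.map φ).hom₁ := by
      change IsIso (DerivedCategory.Qh.map (𝟙 _))
      infer_instance
    have h2 : IsIso (DerivedCategory.Qh.mapTriangle.map φ).hom₂ := by
      change IsIso (DerivedCategory.Qh.map ((qq).map h))
      rw [← W_iff_isIso, W_quotient_map]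
      exact hh
    exact isIso₃_of_isIso₁₂ (DerivedCategory.Qh.mapTriangle.map φ)
      (DerivedCategory.Qh.map_distinguished _ hT₁) (DerivedCategory.Qh.map_distinguished _ hT₂)
      h1 h2
  refine ⟨(qq).obj (mappingCone g), TP_mappingCone F g (fun n => FD_of_injective F _ 0) hT',
    (shiftNegShift X (1 : ℤ)).inv ≫ e₁.hom⟦(1 : ℤ)⟧' ≫ c, ?_⟩
  exact W_comp _ _ (W_of_isIso _) (W_comp _ _ (W_of_isIso _) hcW)

theorem exists_resolution_of_TP (d : ℕ) (X : Kh) (hX : TP F d X) :
    ∃ Y : Kh, TP F 0 Y ∧ ∃ w : X ⟶ Y, WW w := by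
  induction d generalizing X with
  | zero => exact ⟨X, hX, 𝟙 X, W_of_isIso _⟩
  | succ d ih => exact exists_resolution_step F d ih X hX

theorem exists_resolution (n : ℕ) (hn : ∀ X : A, IsZero ((F.rightDerived n).obj X)) (X : Kh) :
    ∃ Y : Kh, TP F 0 Y ∧ ∃ w : X ⟶ Y, WW w := by
  obtain ⟨K, rfl⟩ : ∃ K, X = (qq).obj K := ⟨X.as, rfl⟩
  exact exists_resolution_of_TP F n _
    (TP_quotient_obj F K (fun i => FD_of_vanishing F n hn _))

end Step

end Groth.Agent.Lib.Helper11.FAcyc
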