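import Mathlib
import Groth.Agent.Lib.Helper11.FAcyc2

set_option autoImplicit false
set_option linter.unusedSectionVars false
universe w w' v v' u u'
open CategoryTheory CategoryTheory.Limits ZeroObject

namespace Groth.Agent.Lib.Helper11.FAcyc

section Tri
open HomotopyCategory CochainComplex Pretriangulated
variable {A : Type u} [Category.{v} A] [Abelian A] [EnoughInjectives A]
  {B : Type u'} [Category.{v'} B] [Abelian B] (F : A ⥤ B) [F.Additive]

local notation "Kh" => HomotopyCategory A (ComplexShape.up ℤ)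
local notation "qq" => HomotopyCategory.quotient A (ComplexShape.up ℤ)
local notation "WW" => HomotopyCategory.quasiIso A (ComplexShape.up ℤ)

instance TP_containsZero (d : ℕ) : (TP F d).ContainsZero where
  exists_zero := ⟨(qq).obj 0, (qq).map_isZero (isZero_zero _),
    TP_quotient_obj F _ (fun n => FD_of_isZero F
      ((HomologicalComplex.eval A (ComplexShape.up ℤ) n).map_isZero (isZero_zero _)))⟩

instance TP_isStableUnderShift (d : ℕ) : (TP F d).IsStableUnderShift ℤ where
  isStableUnderShiftBy n := ⟨fun _ hX => TP_shift F hX n⟩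

instance TP_isTriangulatedClosed₃ : (TP F 0).IsTriangulatedClosed₃ :=
  ObjectProperty.IsTriangulatedClosed₃.mk' (by
    rintro T hT ⟨K₁, hK₁, ⟨e₁⟩⟩ ⟨K₂, hK₂, ⟨e₂⟩⟩
    obtain ⟨φ, hφ⟩ := (qq).map_surjective (e₁.inv ≫ T.mor₁ ≫ e₂.hom)
    obtain ⟨e', _, _⟩ := exists_iso_of_arrow_iso T (mappingCone.triangleh φ) hT
      (mappingCone_triangleh_distinguished φ) (Arrow.isoMk e₁ e₂ (by
        change e₁.hom ≫ (qq).map φ = T.mor₁ ≫ e₂.hom
        rw [hφ, Iso.hom_inv_id_assoc]))
    exact (TP F 0).prop_of_iso (Triangle.π₃.mapIso e').symm (TP_mappingCone F φ hK₁ hK₂))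

instance TP_isTriangulated : (TP F 0).IsTriangulated where
  toIsTriangulatedClosed₂ := ObjectProperty.IsTriangulatedClosed₂.of_isTriangulatedClosed₃

end Tri

section Loc
open HomotopyCategory CochainComplex Pretriangulated
variable {A : Type u} [Category.{v} A] [Abelian A] [EnoughInjectives A]
  [HasDerivedCategory.{w} A]
  {B : Type u'} [Category.{v'} B] [Abelian B] (F : A ⥤ B) [F.Additive]
  (n : ℕ) (hn : ∀ X : A, IsZero ((F.rightDerived n).obj X))

local notation "Kh" => HomotopyCategory A (ComplexShape.up ℤ)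
local notation "qq" => HomotopyCategory.quotient A (ComplexShape.up ℤ)
local notation "WW" => HomotopyCategory.quasiIso A (ComplexShape.up ℤ)
local notation "BB" => HomotopyCategory.subcategoryAcyclic A

omit [EnoughInjectives A] [HasDerivedCategory.{w} A] in
lemma W_eq : WW = (BB).trW := HomotopyCategory.quasiIso_eq_trW_subcategoryAcyclic A

include hn in
lemma exists_resolution_trW (X : Kh) :
    ∃ Y : Kh, TP F 0 Y ∧ ∃ w : X ⟶ Y, (BB).trW w := by
  obtain ⟨Y, hY, w, hw⟩ := exists_resolution F n hn X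
  exact ⟨Y, hY, w, by rwa [← W_eq]⟩

lemma trW_comp {X Y Z : Kh} (f : X ⟶ Y) (g : Y ⟶ Z) (hf : (BB).trW f) (hg : (BB).trW g) :
    (BB).trW (f ≫ g) := by
  rw [← W_eq] at hf hg ⊢
  exact W_comp f g hf hg

lemma trW_of_comp {X Y Z : Kh} (f : X ⟶ Y) (g : Y ⟶ Z) (hf : (BB).trW f)
    (hfg : (BB).trW (f ≫ g)) : (BB).trW g := by
  rw [← W_eq, W_iff_isIso] at hf hfg ⊢
  rw [Functor.map_comp] at hfg
  exact IsIso.of_isIso_comp_left (DerivedCategory.Qh.map f) (DerivedCategory.Qh.map g)

include hn in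
lemma isVerdierRightLocalizing : (TP F 0).IsVerdierRightLocalizing (BB) := by
  rw [ObjectProperty.isVerdierRightLocalizing_iff]
  intro X Y s hX hs
  obtain ⟨Z, hZ, b, hb⟩ := exists_resolution_trW F n hn Y
  refine ⟨Z, s ≫ b, b, hZ, ?_, rfl⟩
  obtain ⟨C, g, h, hT⟩ := CategoryTheory.Pretriangulated.distinguished_cocone_triangle (s ≫ b)
  rw [ObjectProperty.trW_iff]
  refine ⟨C, g, h, hT, ?_, ?_⟩
  · exact (TP F 0).ext_of_isTriangulatedClosed₃ _ hT hX hZ
  · exact ((BB).trW_iff_of_distinguished _ hT).1 (trW_comp s b hs hb)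

/-- the localizer morphism given by the inclusion of complexes with `F`-acyclic terms. -/
noncomputable abbrev Φ : LocalizerMorphism ((BB).inverseImage (TP F 0).ι).trW (BB).trW :=
  (TP F 0).triangulatedLocalizerMorphism (BB)

include hn in
lemma hasRightResolutions : (Φ F).HasRightResolutions := fun X => by
  obtain ⟨Y, hY, w, hw⟩ := exists_resolution_trW F n hn X
  exact ⟨{ X₁ := ⟨Y, hY⟩, w := w, hw := hw }⟩

include hn in
lemma isLocalizedEquivalence : (Φ F).IsLocalizedEquivalence := by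
  have := isVerdierRightLocalizing F n hn
  have := hasRightResolutions F n hn
  let L₁ := (((BB).inverseImage (TP F 0).ι).trW).Q
  let L₂ := ((BB).trW).Q
  let G := (Φ F).localizedFunctor L₁ L₂
  have h1 : G.Full := inferInstance
  have h2 : G.Faithful := inferInstance
  have h3 : ((Φ F).functor ⋙ L₂).EssSurj := (Φ F).essSurj_of_hasRightResolutions L₂
  let e : (Φ F).functor ⋙ L₂ ≅ L₁ ⋙ G := CatCommSq.iso (Φ F).functor L₁ L₂ G
  have h4 : G.EssSurj := ⟨fun Y => ⟨L₁.obj (((Φ F).functor ⋙ L₂).objPreimage Y),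
    ⟨(e.app _).symm ≪≫ ((Φ F).functor ⋙ L₂).objObjPreimageIso Y⟩⟩⟩
  have h5 : G.IsEquivalence := {}
  exact LocalizerMorphism.IsLocalizedEquivalence.mk' (Φ F) L₁ L₂ G

include hn in
lemma isConnected_rightResolution (X : Kh) : IsConnected ((Φ F).RightResolution X) := by
  have : Nonempty ((Φ F).RightResolution X) := hasRightResolutions F n hn X
  apply zigzag_isConnected
  intro R R'
  obtain ⟨ψ, hψ⟩ := MorphismProperty.HasLeftCalculusOfFractions.exists_leftFraction
    (W := (BB).trW) (MorphismProperty.RightFraction.mk R.w R.hw R'.w)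
  dsimp at hψ
  obtain ⟨Z, hZ, r, hr⟩ := exists_resolution_trW F n hn ψ.Y'
  have hf : (BB).trW ψ.f := trW_of_comp R.w ψ.f R.hw (by
    rw [← hψ]
    exact trW_comp _ _ R'.hw ψ.hs)
  let R'' : (Φ F).RightResolution X :=
    { X₁ := ⟨Z, hZ⟩
      w := R.w ≫ ψ.f ≫ r
      hw := trW_comp _ _ R.hw (trW_comp _ _ hf hr) }
  let a : R ⟶ R'' :=
    { f := (TP F 0).homMk (ψ.f ≫ r)
      comm := rfl }
  let b : R' ⟶ R'' :=
    { f := (TP F 0).homMk (ψ.s ≫ r)
      comm := by
        change R'.w ≫ ψ.s ≫ r = R.w ≫ ψ.f ≫ r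
        rw [reassoc_of% hψ] }
  exact (Zigzag.of_hom a).trans (Zigzag.of_inv b)

include hn in
lemma hasRightResolutions_arrow : (Φ F).arrow.HasRightResolutions := by
  intro f
  obtain ⟨Y', hY', rY, hrY⟩ := exists_resolution_trW F n hn f.right
  obtain ⟨C, v, δ, hT⟩ := CategoryTheory.Pretriangulated.distinguished_cocone_triangle (f.hom ≫ rY)
  obtain ⟨C', hC', rC, hrC⟩ := exists_resolution_trW F n hn C
  obtain ⟨X', u', δ', hT'⟩ := CategoryTheory.Pretriangulated.distinguished_cocone_triangle₁ (v ≫ rC)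
  have hX' : TP F 0 X' := (TP F 0).ext_of_isTriangulatedClosed₁ _ hT' hY' hC'
  obtain ⟨a, ha₁, ha₂⟩ := CategoryTheory.Pretriangulated.complete_distinguished_triangle_morphism₁ _ _
    hT hT' (𝟙 Y') rC (Category.id_comp _).symm
  let φ : Triangle.mk (f.hom ≫ rY) v δ ⟶ Triangle.mk u' (v ≫ rC) δ' :=
    { hom₁ := a
      hom₂ := 𝟙 _
      hom₃ := rC
      comm₁ := ha₁
      comm₂ := (Category.id_comp _).symm
      comm₃ := ha₂ }
  have haW : (BB).trW a := by
    rw [← W_eq, W_iff_isIso]
    have h2 : IsIso (DerivedCategory.Qh.mapTriangle.map φ).hom₂ := by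
      change IsIso (DerivedCategory.Qh.map (𝟙 _))
      infer_instance
    have h3 : IsIso (DerivedCategory.Qh.mapTriangle.map φ).hom₃ := by
      change IsIso (DerivedCategory.Qh.map rC)
      rw [← W_iff_isIso, W_eq]
      exact hrC
    exact isIso₁_of_isIso₂₃ (DerivedCategory.Qh.mapTriangle.map φ)
      (DerivedCategory.Qh.map_distinguished _ hT) (DerivedCategory.Qh.map_distinguished _ hT')
      h2 h3
  have ha₁' : a ≫ u' = f.hom ≫ rY := ha₁.symm.trans (Category.comp_id _)
  exact ⟨{ X₁ := Arrow.mk ((TP F 0).homMk u' : (⟨X', hX'⟩ : (TP F 0).FullSubcategory) ⟶ ⟨Y', hY'⟩)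
           w := Arrow.homMk a rY ha₁'
           hw := ⟨haW, hrY⟩ }⟩

include hn in
theorem isRightDerivabilityStructure : (Φ F).IsRightDerivabilityStructure := by
  have := isLocalizedEquivalence F n hn
  have := isConnected_rightResolution F n hn
  have := hasRightResolutions_arrow F n hn
  exact LocalizerMorphism.IsRightDerivabilityStructure.mk' (Φ F)

end Loc

end Groth.Agent.Lib.Helper11.FAcyc
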