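import Mathlib
import Groth.Agent.Lib.Helper11.FAcyc3
import Groth.Agent.Lib.Helper17.KInjRes

set_option autoImplicit false
set_option linter.unusedSectionVars false
universe w w' v v' u u'
open CategoryTheory CategoryTheory.Limits ZeroObject

namespace Groth.Agent.Lib.Helper11.DerivStr

open Groth.Agent.Lib.Helper11.FAcyc

section Gen
open HomotopyCategory CochainComplex Pretriangulated
variable {A : Type u} [Category.{v} A] [Abelian A] [EnoughInjectives A]
  [HasDerivedCategory.{w} A]

local notation "Kh" => HomotopyCategory A (ComplexShape.up ℤ)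
local notation "qq" => HomotopyCategory.quotient A (ComplexShape.up ℤ)
local notation "WW" => HomotopyCategory.quasiIso A (ComplexShape.up ℤ)
local notation "BB" => HomotopyCategory.subcategoryAcyclic A

variable (S : ObjectProperty (HomotopyCategory A (ComplexShape.up ℤ))) [S.IsTriangulated]
  [S.IsClosedUnderIsomorphisms]
  (hres : ∀ X : HomotopyCategory A (ComplexShape.up ℤ),
    ∃ Y : HomotopyCategory A (ComplexShape.up ℤ), S Y ∧ ∃ w : X ⟶ Y,
      (HomotopyCategory.subcategoryAcyclic A).trW w)

include hres in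
lemma isVerdierRightLocalizing : S.IsVerdierRightLocalizing (BB) := by
  rw [ObjectProperty.isVerdierRightLocalizing_iff]
  intro X Y s hX hs
  obtain ⟨Z, hZ, b, hb⟩ := hres Y
  refine ⟨Z, s ≫ b, b, hZ, ?_, rfl⟩
  obtain ⟨C, g, h, hT⟩ := CategoryTheory.Pretriangulated.distinguished_cocone_triangle (s ≫ b)
  rw [ObjectProperty.trW_iff]
  refine ⟨C, g, h, hT, ?_, ?_⟩
  · exact S.ext_of_isTriangulatedClosed₃ _ hT hX hZ
  · exact ((BB).trW_iff_of_distinguished _ hT).1 (trW_comp s b hs hb)

/-- the localizer morphism given by the inclusion of `S`. -/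
noncomputable abbrev Ψ : LocalizerMorphism ((BB).inverseImage S.ι).trW (BB).trW :=
  S.triangulatedLocalizerMorphism (BB)

include hres in
lemma hasRightResolutions : (Ψ S).HasRightResolutions := fun X => by
  obtain ⟨Y, hY, w, hw⟩ := hres X
  exact ⟨{ X₁ := ⟨Y, hY⟩, w := w, hw := hw }⟩

include hres in
lemma isLocalizedEquivalence : (Ψ S).IsLocalizedEquivalence := by
  have := isVerdierRightLocalizing S hres
  have := hasRightResolutions S hres
  let L₁ := (((BB).inverseImage S.ι).trW).Q
  let L₂ := ((BB).trW).Q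
  let G := (Ψ S).localizedFunctor L₁ L₂
  have h1 : G.Full := inferInstance
  have h2 : G.Faithful := inferInstance
  have h3 : ((Ψ S).functor ⋙ L₂).EssSurj := (Ψ S).essSurj_of_hasRightResolutions L₂
  let e : (Ψ S).functor ⋙ L₂ ≅ L₁ ⋙ G := CatCommSq.iso (Ψ S).functor L₁ L₂ G
  have h4 : G.EssSurj := ⟨fun Y => ⟨L₁.obj (((Ψ S).functor ⋙ L₂).objPreimage Y),
    ⟨(e.app _).symm ≪≫ ((Ψ S).functor ⋙ L₂).objObjPreimageIso Y⟩⟩⟩
  have h5 : G.IsEquivalence := {}
  exact LocalizerMorphism.IsLocalizedEquivalence.mk' (Ψ S) L₁ L₂ G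

include hres in
lemma isConnected_rightResolution (X : Kh) : IsConnected ((Ψ S).RightResolution X) := by
  have : Nonempty ((Ψ S).RightResolution X) := hasRightResolutions S hres X
  apply zigzag_isConnected
  intro R R'
  obtain ⟨ψ, hψ⟩ := MorphismProperty.HasLeftCalculusOfFractions.exists_leftFraction
    (W := (BB).trW) (MorphismProperty.RightFraction.mk R.w R.hw R'.w)
  dsimp at hψ
  obtain ⟨Z, hZ, r, hr⟩ := hres ψ.Y'
  have hf : (BB).trW ψ.f := trW_of_comp R.w ψ.f R.hw (by
    rw [← hψ]
    exact trW_comp _ _ R'.hw ψ.hs)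
  let R'' : (Ψ S).RightResolution X :=
    { X₁ := ⟨Z, hZ⟩
      w := R.w ≫ ψ.f ≫ r
      hw := trW_comp _ _ R.hw (trW_comp _ _ hf hr) }
  let a : R ⟶ R'' :=
    { f := S.homMk (ψ.f ≫ r)
      comm := rfl }
  let b : R' ⟶ R'' :=
    { f := S.homMk (ψ.s ≫ r)
      comm := by
        change R'.w ≫ ψ.s ≫ r = R.w ≫ ψ.f ≫ r
        rw [reassoc_of% hψ] }
  exact (Zigzag.of_hom a).trans (Zigzag.of_inv b)

include hres in
lemma hasRightResolutions_arrow : (Ψ S).arrow.HasRightResolutions := by
  intro f
  obtain ⟨Y', hY', rY, hrY⟩ := hres f.right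
  obtain ⟨C, v, δ, hT⟩ := CategoryTheory.Pretriangulated.distinguished_cocone_triangle (f.hom ≫ rY)
  obtain ⟨C', hC', rC, hrC⟩ := hres C
  obtain ⟨X', u', δ', hT'⟩ := CategoryTheory.Pretriangulated.distinguished_cocone_triangle₁ (v ≫ rC)
  have hX' : S X' := S.ext_of_isTriangulatedClosed₁ _ hT' hY' hC'
  obtain ⟨a, ha₁, ha₂⟩ := CategoryTheory.Pretriangulated.complete_distinguished_triangle_morphism₁ _ _
    hT hT' (𝟙 Y') rC (Category.id_comp _).symm
  let φ : Triangle.mk (f.hom ≫ rY) v δ ⟶ Triangle.mk u' (v ≫ rC) δ' :=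
    { hom₁ := a
      hom₂ := 𝟙 _
      hom₃ := rC
      comm₁ := ha₁
      comm₂ := (Category.id_comp _).symm
      comm₃ := ha₂ }
  have haW : (BB).trW a := by
    rw [← W_eq, W_iff_isIso]
    have h2 : IsIso (DerivedCategory.Qh.mapTriangle.map φ).hom₂ := by
      change IsIso (DerivedCategory.Qh.map (𝟙 _))
      infer_instance
    have h3 : IsIso (DerivedCategory.Qh.mapTriangle.map φ).hom₃ := by
      change IsIso (DerivedCategory.Qh.map rC)
      rw [← W_iff_isIso, W_eq]
      exact hrC
    exact isIso₁_of_isIso₂₃ (DerivedCategory.Qh.mapTriangle.map φ)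
      (DerivedCategory.Qh.map_distinguished _ hT) (DerivedCategory.Qh.map_distinguished _ hT')
      h2 h3
  have ha₁' : a ≫ u' = f.hom ≫ rY := ha₁.symm.trans (Category.comp_id _)
  exact ⟨{ X₁ := Arrow.mk (S.homMk u' : (⟨X', hX'⟩ : S.FullSubcategory) ⟶ ⟨Y', hY'⟩)
           w := Arrow.homMk a rY ha₁'
           hw := ⟨haW, hrY⟩ }⟩

include hres in
theorem isRightDerivabilityStructure : (Ψ S).IsRightDerivabilityStructure := by
  have := isLocalizedEquivalence S hres
  have := isConnected_rightResolution S hres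
  have := hasRightResolutions_arrow S hres
  exact LocalizerMorphism.IsRightDerivabilityStructure.mk' (Ψ S)

end Gen

section KInj
open HomotopyCategory CochainComplex Pretriangulated
variable {A : Type u} [Category.{v} A] [Abelian A] [IsGrothendieckAbelian.{v} A]
  [HasDerivedCategory.{w} A]

local notation "Kh" => HomotopyCategory A (ComplexShape.up ℤ)
local notation "qq" => HomotopyCategory.quotient A (ComplexShape.up ℤ)
local notation "WW" => HomotopyCategory.quasiIso A (ComplexShape.up ℤ)
local notation "BB" => HomotopyCategory.subcategoryAcyclic A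

variable (A) in
/-- the K-injective objects of the homotopy category. -/
abbrev SK : ObjectProperty (HomotopyCategory A (ComplexShape.up ℤ)) :=
  (HomotopyCategory.subcategoryAcyclic A).rightOrthogonal

omit [HasDerivedCategory.{w} A] in
lemma hresK (X : Kh) : ∃ Y : Kh, SK A Y ∧ ∃ w : X ⟶ Y, (BB).trW w := by
  obtain ⟨M, rfl⟩ := HomotopyCategory.quotient_obj_surjective X
  obtain ⟨I, f, hI, hf, -, -⟩ := Groth.Agent.Lib.Helper17.KInjRes.exists_kInjective_resolution M
  refine ⟨(qq).obj I, (CochainComplex.isKInjective_iff_rightOrthogonal I).1 hI, (qq).map f, ?_⟩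
  rw [← W_eq, HomotopyCategory.quotient_map_mem_quasiIso_iff]
  exact (HomologicalComplex.mem_quasiIso_iff _).2 hf

omit [IsGrothendieckAbelian.{v} A] [HasDerivedCategory.{w} A] in
/-- a quasi-isomorphism between K-injective objects is an isomorphism in `K(A)`. -/
lemma isIso_of_trW_of_SK {X Y : Kh} (f : X ⟶ Y) (hX : SK A X) (hY : SK A Y) (hf : (BB).trW f) :
    IsIso f := by
  rw [ObjectProperty.trW_iff] at hf
  obtain ⟨C, g, h, hT, hC⟩ := hf
  have hC' : SK A C := (SK A).ext_of_isTriangulatedClosed₃ _ hT hX hY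
  have h0 : IsZero C := by
    rw [IsZero.iff_id_eq_zero]
    exact hC' (𝟙 C) hC
  exact (CategoryTheory.Pretriangulated.Triangle.isZero₃_iff_isIso₁ _ hT).1 h0

/-- every functor is derived by the K-injectives. -/
lemma derivesK {D : Type*} [Category D] (G : Kh ⥤ D) : (Ψ (SK A)).Derives G := by
  intro X Y f hf
  rw [ObjectProperty.trW_inverseImage_ι_iff] at hf
  have hf' : (BB).trW f.hom := by
    rw [ObjectProperty.trW_iff] at hf ⊢
    obtain ⟨C, g, h, hT, -, hC'⟩ := hf
    exact ⟨C, g, h, hT, hC'⟩
  have : IsIso f.hom := isIso_of_trW_of_SK f.hom X.property Y.property hf'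
  change IsIso (G.map f.hom)
  infer_instance

theorem isRightDerivabilityStructureK : (Ψ (SK A)).IsRightDerivabilityStructure :=
  isRightDerivabilityStructure (SK A) hresK

/-- the unit of the total right derived functor of any functor is an isomorphism on K-injective
objects. -/
theorem isIso_unit_app_of_SK {D : Type*} [Category D] (G : Kh ⥤ D)
    [G.HasRightDerivedFunctor (HomotopyCategory.quasiIso A (ComplexShape.up ℤ))]
    (X : Kh) (hX : SK A X) :
    IsIso ((G.totalRightDerivedUnit DerivedCategory.Qh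
      (HomotopyCategory.quasiIso A (ComplexShape.up ℤ))).app X) := by
  have := isRightDerivabilityStructureK (A := A)
  have h := derivesK (A := A) G
  have key : ∀ (W : MorphismProperty Kh) (hW : W = (BB).trW)
      [(DerivedCategory.Qh : Kh ⥤ DerivedCategory A).IsLocalization W]
      [G.HasRightDerivedFunctor W],
      IsIso ((G.totalRightDerivedUnit DerivedCategory.Qh W).app X) := by
    intro W hW _ _
    subst hW
    exact h.isIso_of_isRightDerivedFunctor
      (G.totalRightDerivedUnit DerivedCategory.Qh (BB).trW)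
      (⟨X, hX⟩ : (SK A).FullSubcategory)
  exact key _ W_eq

end KInj

section Good
open HomotopyCategory CochainComplex Pretriangulated
variable {A : Type u} [Category.{v} A] [Abelian A] [IsGrothendieckAbelian.{v} A]
  [HasDerivedCategory.{w} A]

local notation "Kh" => HomotopyCategory A (ComplexShape.up ℤ)
local notation "qq" => HomotopyCategory.quotient A (ComplexShape.up ℤ)
local notation "WW" => HomotopyCategory.quasiIso A (ComplexShape.up ℤ)
local notation "BB" => HomotopyCategory.subcategoryAcyclic A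

variable {D : Type u'} [Category.{v'} D] (G : HomotopyCategory A (ComplexShape.up ℤ) ⥤ D)
  [G.HasRightDerivedFunctor (HomotopyCategory.quasiIso A (ComplexShape.up ℤ))]

/-- `X` is good if the unit `G X ⟶ RG X` is an isomorphism. -/
def Good (X : HomotopyCategory A (ComplexShape.up ℤ)) : Prop :=
  IsIso ((G.totalRightDerivedUnit DerivedCategory.Qh
    (HomotopyCategory.quasiIso A (ComplexShape.up ℤ))).app X)

lemma good_iff {X I : Kh} (c : X ⟶ I) (hc : (BB).trW c) (hI : SK A I) :
    Good G X ↔ IsIso (G.map c) := by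
  let α := G.totalRightDerivedUnit DerivedCategory.Qh
    (HomotopyCategory.quasiIso A (ComplexShape.up ℤ))
  let RG := G.totalRightDerived DerivedCategory.Qh
    (HomotopyCategory.quasiIso A (ComplexShape.up ℤ))
  have h1 : IsIso (α.app I) := isIso_unit_app_of_SK G I hI
  have h2 : IsIso (DerivedCategory.Qh.map c) := by
    rw [← W_iff_isIso, W_eq]
    exact hc
  have h3 : IsIso (RG.map (DerivedCategory.Qh.map c)) := inferInstance
  have nat : G.map c ≫ α.app I = α.app X ≫ RG.map (DerivedCategory.Qh.map c) := α.naturality c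
  constructor
  · intro (h : IsIso (α.app X))
    have : G.map c = α.app X ≫ RG.map (DerivedCategory.Qh.map c) ≫ inv (α.app I) := by
      rw [← Category.assoc, ← nat, Category.assoc, IsIso.hom_inv_id, Category.comp_id]
    rw [this]
    infer_instance
  · intro h
    have : α.app X = G.map c ≫ α.app I ≫ inv (RG.map (DerivedCategory.Qh.map c)) := by
      rw [← Category.assoc, nat, Category.assoc, IsIso.hom_inv_id, Category.comp_id]
    change IsIso (α.app X)
    rw [this]
    infer_instance

lemma good_of_iso {X Y : Kh} (e : X ≅ Y) (hX : Good G X) : Good G Y := by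
  let α := G.totalRightDerivedUnit DerivedCategory.Qh
    (HomotopyCategory.quasiIso A (ComplexShape.up ℤ))
  have : IsIso (α.app X) := hX
  change IsIso (α.app Y)
  exact (NatTrans.isIso_app_iff_of_iso α e).1 this

variable [HasZeroObject D] [HasShift D ℤ] [Preadditive D]
  [∀ n : ℤ, (CategoryTheory.shiftFunctor D n).Additive] [Pretriangulated D]
  [G.CommShift ℤ] [G.IsTriangulated]

/-- good objects are stable under cones. -/
theorem good_of_distinguished (T : Triangle Kh) (hT : T ∈ distTriang Kh)
    (h₁ : Good G T.obj₁) (h₂ : Good G T.obj₂) : Good G T.obj₃ := by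
  obtain ⟨I₁, hI₁, c₁, hc₁⟩ := hresK T.obj₁
  obtain ⟨I₂, hI₂, c₂, hc₂⟩ := hresK T.obj₂
  have hloc : (BB).trW.isLocal I₂ := by
    rw [ObjectProperty.isLocal_trW]
    exact hI₂
  obtain ⟨f', hf'⟩ := (hloc c₁ hc₁).2 (T.mor₁ ≫ c₂)
  dsimp at hf'
  obtain ⟨C, g', h', hT'⟩ := CategoryTheory.Pretriangulated.distinguished_cocone_triangle f'
  have hC : SK A C := (SK A).ext_of_isTriangulatedClosed₃ _ hT' hI₁ hI₂
  obtain ⟨c₃, hc₃, hc₃'⟩ := CategoryTheory.Pretriangulated.complete_distinguished_triangle_morphism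
    T _ hT hT' c₁ c₂ hf'.symm
  let φ : T ⟶ Triangle.mk f' g' h' :=
    { hom₁ := c₁
      hom₂ := c₂
      hom₃ := c₃
      comm₁ := hf'.symm
      comm₂ := hc₃
      comm₃ := hc₃' }
  have hc₃W : (BB).trW c₃ := by
    rw [← W_eq, W_iff_isIso]
    have h1 : IsIso (DerivedCategory.Qh.mapTriangle.map φ).hom₁ := by
      change IsIso (DerivedCategory.Qh.map c₁)
      rw [← W_iff_isIso, W_eq]
      exact hc₁
    have h2 : IsIso (DerivedCategory.Qh.mapTriangle.map φ).hom₂ := by
      change IsIso (DerivedCategory.Qh.map c₂)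
      rw [← W_iff_isIso, W_eq]
      exact hc₂
    exact isIso₃_of_isIso₁₂ (DerivedCategory.Qh.mapTriangle.map φ)
      (DerivedCategory.Qh.map_distinguished _ hT) (DerivedCategory.Qh.map_distinguished _ hT')
      h1 h2
  rw [good_iff G c₃ hc₃W hC]
  have h1 : IsIso (G.mapTriangle.map φ).hom₁ := by
    change IsIso (G.map c₁)
    rw [← good_iff G c₁ hc₁ hI₁]
    exact h₁
  have h2 : IsIso (G.mapTriangle.map φ).hom₂ := by
    change IsIso (G.map c₂)
    rw [← good_iff G c₂ hc₂ hI₂]
    exact h₂
  exact isIso₃_of_isIso₁₂ (G.mapTriangle.map φ)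
    (G.map_distinguished _ hT) (G.map_distinguished _ hT') h1 h2

end Good

end Groth.Agent.Lib.Helper11.DerivStr
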