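import Mathlib
import Groth.Agent.Lib.Helper11.FAcyc3

set_option autoImplicit false
set_option linter.unusedSectionVars false
universe w w' v v' u u'
open CategoryTheory CategoryTheory.Limits ZeroObject

namespace Groth.Agent.Lib.Helper11.FAcyc

section Der
open HomotopyCategory CochainComplex Pretriangulated
variable {A : Type u} [Category.{v} A] [Abelian A] [EnoughInjectives A]
  [HasDerivedCategory.{w} A]
  {B : Type u'} [Category.{v'} B] [Abelian B] [HasDerivedCategory.{w'} B]
  (F : A ⥤ B) [F.Additive] [PreservesFiniteLimits F]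
  (n : ℕ) (hn : ∀ X : A, IsZero ((F.rightDerived n).obj X))

local notation "Kh" => HomotopyCategory A (ComplexShape.up ℤ)
local notation "qq" => HomotopyCategory.quotient A (ComplexShape.up ℤ)
local notation "BB" => HomotopyCategory.subcategoryAcyclic A

include hn in
/-- `F` maps acyclic complexes with `F`-acyclic terms to acyclic complexes (homotopy category
version). -/
lemma mapHomotopyCategory_acyclic (C : Kh) (hC : TP F 0 C) (hC' : (BB) C) :
    (HomotopyCategory.subcategoryAcyclic B)
      ((F.mapHomotopyCategory (ComplexShape.up ℤ)).obj C) := by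
  obtain ⟨K, hK, ⟨e⟩⟩ := hC
  have hK' : (BB) ((qq).obj K) := (BB).prop_of_iso e hC'
  rw [HomotopyCategory.quotient_obj_mem_subcategoryAcyclic_iff_exactAt] at hK'
  have h1 := exactAt_map_of_acyclic F n hn K hK' hK
  have h2 : (HomotopyCategory.subcategoryAcyclic B)
      ((HomotopyCategory.quotient B (ComplexShape.up ℤ)).obj
        ((F.mapHomologicalComplex (ComplexShape.up ℤ)).obj K)) := by
    rw [HomotopyCategory.quotient_obj_mem_subcategoryAcyclic_iff_exactAt]
    exact h1
  exact (HomotopyCategory.subcategoryAcyclic B).prop_of_iso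
    (((F.mapHomotopyCategoryFactors (ComplexShape.up ℤ)).app K).symm ≪≫
      (F.mapHomotopyCategory (ComplexShape.up ℤ)).mapIso e.symm) h2

include hn in
lemma derives : (Φ F).Derives
    (F.mapHomotopyCategory (ComplexShape.up ℤ) ⋙ (DerivedCategory.Qh : _ ⥤ DerivedCategory B)) := by
  intro X Y f hf
  rw [ObjectProperty.trW_inverseImage_ι_iff, ObjectProperty.trW_iff] at hf
  obtain ⟨C, g, h, hT, hC, hC'⟩ := hf
  have hT' := (F.mapHomotopyCategory (ComplexShape.up ℤ)).map_distinguished _ hT
  have hW : (HomotopyCategory.subcategoryAcyclic B).trW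
      ((F.mapHomotopyCategory (ComplexShape.up ℤ)).map f.hom) := by
    rw [ObjectProperty.trW_iff]
    exact ⟨_, _, _, hT', mapHomotopyCategory_acyclic F n hn C hC hC'⟩
  exact Localization.inverts DerivedCategory.Qh (HomotopyCategory.subcategoryAcyclic B).trW _ hW

include hn in
theorem hasRightDerivedFunctor :
    (F.mapHomotopyCategory (ComplexShape.up ℤ) ⋙
      (DerivedCategory.Qh : _ ⥤ DerivedCategory B)).HasRightDerivedFunctor
      (HomotopyCategory.quasiIso A (ComplexShape.up ℤ)) := by
  rw [W_eq]
  have := isRightDerivabilityStructure F n hn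
  have := (derives F n hn).hasPointwiseRightDerivedFunctor
  infer_instance

include hn in
theorem isIso_unit_app
    [(F.mapHomotopyCategory (ComplexShape.up ℤ) ⋙
      (DerivedCategory.Qh : _ ⥤ DerivedCategory B)).HasRightDerivedFunctor
      (HomotopyCategory.quasiIso A (ComplexShape.up ℤ))]
    (K : CochainComplex A ℤ) (hK : ∀ m, FD F 0 (K.X m)) :
    IsIso (((F.mapHomotopyCategory (ComplexShape.up ℤ) ⋙
      (DerivedCategory.Qh : _ ⥤ DerivedCategory B)).totalRightDerivedUnit DerivedCategory.Qh
      (HomotopyCategory.quasiIso A (ComplexShape.up ℤ))).app ((qq).obj K)) := by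
  have := isRightDerivabilityStructure F n hn
  have h := derives F n hn
  have key : ∀ (W : MorphismProperty Kh) (hW : W = (BB).trW)
      [(DerivedCategory.Qh : Kh ⥤ DerivedCategory A).IsLocalization W]
      [(F.mapHomotopyCategory (ComplexShape.up ℤ) ⋙
        (DerivedCategory.Qh : _ ⥤ DerivedCategory B)).HasRightDerivedFunctor W],
      IsIso (((F.mapHomotopyCategory (ComplexShape.up ℤ) ⋙
        (DerivedCategory.Qh : _ ⥤ DerivedCategory B)).totalRightDerivedUnit DerivedCategory.Qh
        W).app ((qq).obj K)) := by
    intro W hW _ _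
    subst hW
    exact h.isIso_of_isRightDerivedFunctor
      ((F.mapHomotopyCategory (ComplexShape.up ℤ) ⋙
        (DerivedCategory.Qh : _ ⥤ DerivedCategory B)).totalRightDerivedUnit DerivedCategory.Qh
        (BB).trW) (⟨(qq).obj K, TP_quotient_obj F K hK⟩ : (TP F 0).FullSubcategory)
  exact key _ W_eq

end Der

section Final
variable {A : Type u} [Category.{v} A] [Abelian A] [HasDerivedCategory.{w} A]
  [HasInjectiveResolutions A]
  {B : Type u'} [Category.{v'} B] [Abelian B] [HasDerivedCategory.{w'} B]
  (F : A ⥤ B) [F.Additive] [PreservesFiniteLimits F]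
  (n : ℕ) (hn : ∀ X : A, IsZero ((F.rightDerived n).obj X))

omit [HasDerivedCategory.{w} A] in
lemma enoughInjectives_of_hasInjectiveResolutions : EnoughInjectives A :=
  ⟨fun X => ⟨{ J := (injectiveResolution X).cocomplex.X 0
               injective := inferInstance
               f := Groth.Agent.Lib.Helper22.DimShift.ι0 (injectiveResolution X)
               mono := inferInstance }⟩⟩

include hn in
theorem main_S0994 :
    (F.mapHomotopyCategory (ComplexShape.up ℤ) ⋙
      (DerivedCategory.Qh : _ ⥤ DerivedCategory B)).HasRightDerivedFunctor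
      (HomotopyCategory.quasiIso A (ComplexShape.up ℤ)) := by
  have : EnoughInjectives A := enoughInjectives_of_hasInjectiveResolutions
  exact hasRightDerivedFunctor F n hn

include hn in
theorem main_S0995
    [(F.mapHomotopyCategory (ComplexShape.up ℤ) ⋙
      (DerivedCategory.Qh : _ ⥤ DerivedCategory B)).HasRightDerivedFunctor
      (HomotopyCategory.quasiIso A (ComplexShape.up ℤ))]
    (K : CochainComplex A ℤ)
    (hK : ∀ (m : ℤ) (i : ℕ), 0 < i → IsZero ((F.rightDerived i).obj (K.X m))) :
    IsIso (((F.mapHomotopyCategory (ComplexShape.up ℤ) ⋙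
      (DerivedCategory.Qh : _ ⥤ DerivedCategory B)).totalRightDerivedUnit DerivedCategory.Qh
      (HomotopyCategory.quasiIso A (ComplexShape.up ℤ))).app
        ((HomotopyCategory.quotient A (ComplexShape.up ℤ)).obj K)) := by
  have : EnoughInjectives A := enoughInjectives_of_hasInjectiveResolutions
  exact isIso_unit_app F n hn K hK

end Final

end Groth.Agent.Lib.Helper11.FAcyc
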