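import Mathlib
import Groth.Agent.Lib.Helper11.DerivStr1
import Groth.Agent.Lib.Helper11.FAcyc4

set_option autoImplicit false
set_option linter.unusedSectionVars false
universe w w' v v' u u'
open CategoryTheory CategoryTheory.Limits ZeroObject

namespace Groth.Agent.Lib.Helper11.DerivStr

open Groth.Agent.Lib.Helper11.FAcyc

section KL
variable {A : Type u} [Category.{v} A] [Abelian A] [EnoughInjectives A]
  {B : Type u'} [Category.{v'} B] [Abelian B] (F : A ⥤ B) [F.Additive] [PreservesFiniteLimits F]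

/-- `F` maps acyclic complexes whose cycles are `F`-acyclic to acyclic complexes. -/
theorem exactAt_map_of_cycles
    (C : CochainComplex A ℤ) (hC : ∀ i, C.ExactAt i) (hZ : ∀ i, FD F 0 (C.cycles i)) (i : ℤ) :
    ((F.mapHomologicalComplex (ComplexShape.up ℤ)).obj C).ExactAt i := by
  rw [HomologicalComplex.exactAt_iff' _ (i - 1) i (i + 1) (by simp) (by simp)]
  have hS₁ := cycles_shortExact C (i - 1) i (by omega) (hC i)
  have hS₂ := cycles_shortExact C i (i + 1) rfl (hC (i + 1))
  have h2 := (shortExact_map F hS₂ (hZ i)).exact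
  have hepi := epi_map_of_FD F hS₁ (hZ (i - 1))
  dsimp at hepi
  have w : F.map (C.d (i - 1) i) ≫ F.map (C.toCycles i (i + 1)) = 0 := by
    rw [← F.map_comp, ← cancel_mono (F.map (C.iCycles (i + 1))), ← F.map_comp, Category.assoc,
      C.toCycles_i, C.d_comp_d, F.map_zero, zero_comp]
  let S' : ShortComplex B := ShortComplex.mk _ _ w
  let φ₁ : S' ⟶ (ShortComplex.mk (C.iCycles i) (C.toCycles i (i + 1)) (by
      rw [← cancel_mono (C.iCycles (i + 1)), Category.assoc, C.toCycles_i, C.iCycles_d,
        zero_comp])).map F :=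
    { τ₁ := F.map (C.toCycles (i - 1) i), τ₂ := 𝟙 _, τ₃ := 𝟙 _
      comm₁₂ := by
        change F.map (C.toCycles (i - 1) i) ≫ F.map (C.iCycles i) = F.map (C.d (i - 1) i) ≫ 𝟙 _
        rw [Category.comp_id, ← F.map_comp, C.toCycles_i]
      comm₂₃ := by
        change 𝟙 _ ≫ F.map (C.toCycles i (i + 1)) = F.map (C.toCycles i (i + 1)) ≫ 𝟙 _
        rw [Category.comp_id, Category.id_comp] }
  have : Epi φ₁.τ₁ := hepi
  have : IsIso φ₁.τ₂ := inferInstanceAs (IsIso (𝟙 _))
  have : Mono φ₁.τ₃ := inferInstanceAs (Mono (𝟙 _))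
  have hS' : S'.Exact := (ShortComplex.exact_iff_of_epi_of_isIso_of_mono φ₁).2 h2
  let φ₂ : S' ⟶ ((F.mapHomologicalComplex (ComplexShape.up ℤ)).obj C).sc' (i - 1) i (i + 1) :=
    { τ₁ := 𝟙 _, τ₂ := 𝟙 _, τ₃ := F.map (C.iCycles (i + 1))
      comm₁₂ := by
        change 𝟙 _ ≫ F.map (C.d (i - 1) i) = F.map (C.d (i - 1) i) ≫ 𝟙 _
        rw [Category.comp_id, Category.id_comp]
      comm₂₃ := by
        change 𝟙 _ ≫ F.map (C.d i (i + 1)) =
          F.map (C.toCycles i (i + 1)) ≫ F.map (C.iCycles (i + 1))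
        rw [Category.id_comp, ← F.map_comp, C.toCycles_i] }
  have : Epi φ₂.τ₁ := inferInstanceAs (Epi (𝟙 _))
  have : IsIso φ₂.τ₂ := inferInstanceAs (IsIso (𝟙 _))
  have : Mono φ₂.τ₃ := inferInstanceAs (Mono (F.map (C.iCycles (i + 1))))
  exact (ShortComplex.exact_iff_of_epi_of_isIso_of_mono φ₂).1 hS'

omit [PreservesFiniteLimits F] in
/-- cycles of a bounded below acyclic complex of `F`-acyclic objects are `F`-acyclic. -/
lemma FD_cycles_of_isStrictlyGE (C : CochainComplex A ℤ) (a : ℤ) [C.IsStrictlyGE a]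
    (hC : ∀ i, C.ExactAt i) (hCX : ∀ i, FD F 0 (C.X i)) (i : ℤ) : FD F 0 (C.cycles i) := by
  have key : ∀ (k : ℕ) (i : ℤ), i ≤ a - 1 + k → FD F 0 (C.cycles i) := by
    intro k
    induction k with
    | zero =>
      intro i hi
      have h0 : IsZero (C.X i) := CochainComplex.isZero_of_isStrictlyGE C a i (by omega)
      exact FD_of_isZero F (IsZero.of_mono (C.iCycles i) h0)
    | succ k ih =>
      intro i hi
      by_cases h : i ≤ a - 1 + k
      · exact ih i h
      · have hS := cycles_shortExact C (i - 1) i (by omega) (hC i)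
        exact FD_zero_of_shortExact F hS (ih (i - 1) (by push_cast at hi; omega)) (hCX (i - 1))
  exact key (i - (a - 1)).toNat i (by omega)

end KL

section BddBelow
open HomotopyCategory CochainComplex Pretriangulated
variable {A : Type u} [Category.{v} A] [Abelian A] [IsGrothendieckAbelian.{v} A]
  [HasDerivedCategory.{w} A]
  {B : Type u'} [Category.{v'} B] [Abelian B] [HasDerivedCategory.{w'} B]
  (F : A ⥤ B) [F.Additive] [PreservesFiniteLimits F]

local notation "Kh" => HomotopyCategory A (ComplexShape.up ℤ)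
local notation "qq" => HomotopyCategory.quotient A (ComplexShape.up ℤ)
local notation "BB" => HomotopyCategory.subcategoryAcyclic A

omit [HasDerivedCategory.{w} A] [HasDerivedCategory.{w'} B] in
lemma mapHomotopyCategory_acyclic_of_isStrictlyGE (C : CochainComplex A ℤ) (a : ℤ)
    [C.IsStrictlyGE a] (hC : ∀ i, C.ExactAt i) (hCX : ∀ i, FD F 0 (C.X i)) :
    (HomotopyCategory.subcategoryAcyclic B)
      ((F.mapHomotopyCategory (ComplexShape.up ℤ)).obj ((qq).obj C)) := by
  have h1 := exactAt_map_of_cycles F C hC (FD_cycles_of_isStrictlyGE F C a hC hCX)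
  have h2 : (HomotopyCategory.subcategoryAcyclic B)
      ((HomotopyCategory.quotient B (ComplexShape.up ℤ)).obj
        ((F.mapHomologicalComplex (ComplexShape.up ℤ)).obj C)) := by
    rw [HomotopyCategory.quotient_obj_mem_subcategoryAcyclic_iff_exactAt]
    exact h1
  exact (HomotopyCategory.subcategoryAcyclic B).prop_of_iso
    (((F.mapHomotopyCategoryFactors (ComplexShape.up ℤ)).app C).symm) h2

variable
  [(F.mapHomotopyCategory (ComplexShape.up ℤ) ⋙
      (DerivedCategory.Qh : _ ⥤ DerivedCategory B)).HasRightDerivedFunctor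
      (HomotopyCategory.quasiIso A (ComplexShape.up ℤ))]

/-- bounded below complexes with `F`-acyclic terms are good. -/
theorem good_of_isStrictlyGE (L : CochainComplex A ℤ) (a : ℤ) [L.IsStrictlyGE a]
    (hL : ∀ n, FD F 0 (L.X n)) :
    Good (F.mapHomotopyCategory (ComplexShape.up ℤ) ⋙
      (DerivedCategory.Qh : _ ⥤ DerivedCategory B)) ((qq).obj L) := by
  obtain ⟨I, j, hj, hI, hIa⟩ := CochainComplex.Plus.modelCategoryQuillen.exists_quasiIso_injective L a
  have hIK : I.IsKInjective := CochainComplex.isKInjective_of_injective I a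
  have hc : (BB).trW ((qq).map j) := by
    rw [← W_eq, HomotopyCategory.quotient_map_mem_quasiIso_iff]
    exact (HomologicalComplex.mem_quasiIso_iff _).2 hj
  rw [good_iff _ ((qq).map j) hc ((CochainComplex.isKInjective_iff_rightOrthogonal I).1 hIK)]
  have hT := HomotopyCategory.mappingCone_triangleh_distinguished j
  have hT' := (F.mapHomotopyCategory (ComplexShape.up ℤ)).map_distinguished _ hT
  have hge : (mappingCone j).IsStrictlyGE (a - 1) := by
    rw [CochainComplex.isStrictlyGE_iff]
    intro i hi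
    have h1 : IsZero (L.X (i + 1)) := CochainComplex.isZero_of_isStrictlyGE L a (i + 1) (by omega)
    have h2 : IsZero (I.X i) := CochainComplex.isZero_of_isStrictlyGE I a i (by omega)
    refine IsZero.of_iso ?_ (HomologicalComplex.homotopyCofiber.XIsoBiprod j i (i + 1) rfl)
    rw [IsZero.iff_id_eq_zero]
    apply biprod.hom_ext
    · exact h1.eq_of_tgt _ _
    · exact h2.eq_of_tgt _ _
  have hacyc : ∀ i, (mappingCone j).ExactAt i := by
    have h3 : (BB) ((qq).obj (mappingCone j)) := ((BB).trW_iff_of_distinguished _ hT).1 hc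
    rwa [HomotopyCategory.quotient_obj_mem_subcategoryAcyclic_iff_exactAt] at h3
  have hX : ∀ n, FD F 0 ((mappingCone j).X n) := fun n =>
    FD_of_iso F (HomologicalComplex.homotopyCofiber.XIsoBiprod j n (n + 1) rfl).symm
      (FD_biprod F (hL (n + 1)) (FD_of_injective F (I.X n) 0))
  have hW : (HomotopyCategory.subcategoryAcyclic B).trW
      ((F.mapHomotopyCategory (ComplexShape.up ℤ)).map ((qq).map j)) := by
    rw [ObjectProperty.trW_iff]
    exact ⟨_, _, _, hT', mapHomotopyCategory_acyclic_of_isStrictlyGE F (mappingCone j) (a - 1)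
      hacyc hX⟩
  exact Localization.inverts DerivedCategory.Qh (HomotopyCategory.subcategoryAcyclic B).trW _ hW

end BddBelow

end Groth.Agent.Lib.Helper11.DerivStr
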