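import Mathlib

set_option autoImplicit false
set_option linter.unusedSectionVars false
universe w w' v v' u u'
open CategoryTheory CategoryTheory.Limits ZeroObject

namespace Groth.Agent.Lib.Helper11.DerivStr

section Tel
variable {C : Type u} [Category.{v} C] [Preadditive C]
  (X : ℕ → C) (t : ∀ m, X m ⟶ X (m + 1)) (Y : C) (c : ∀ m, X m ⟶ Y)
  (hc : ∀ m, t m ≫ c (m + 1) = c m)
  (P : C) (ι : ∀ m, X m ⟶ P) (hP : IsColimit (Cofan.mk P ι))
  (N : ℕ) (h0 : ∀ m, m < N → IsZero (X m)) (h1 : ∀ m, N ≤ m → IsIso (c m))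
  (f : P ⟶ P) (hf : ∀ m, ι m ≫ f = ι m - t m ≫ ι (m + 1))
  (π : P ⟶ Y) (hπ : ∀ m, ι m ≫ π = c m)

include hc hP h0 h1 hf hπ in
/-- the telescope sequence of an eventually constant sequence is split. -/
theorem exists_splitting_telescope :
    ∃ (r : P ⟶ P) (s : Y ⟶ P), f ≫ r = 𝟙 P ∧ s ≫ π = 𝟙 Y ∧ r ≫ f + π ≫ s = 𝟙 P := by
  classical
  let ci : ∀ m, Y ⟶ X m := fun m => if h : N ≤ m then (haveI := h1 m h; inv (c m)) else 0
  have ci_eq : ∀ m (h : N ≤ m), ci m = (haveI := h1 m h; inv (c m)) := fun m h => dif_pos h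
  have ci_c : ∀ m, N ≤ m → ci m ≫ c m = 𝟙 Y := fun m h => by
    haveI := h1 m h
    rw [ci_eq m h, IsIso.inv_hom_id]
  have c_ci : ∀ m, N ≤ m → c m ≫ ci m = 𝟙 (X m) := fun m h => by
    haveI := h1 m h
    rw [ci_eq m h, IsIso.hom_inv_id]
  have ci_t : ∀ m, N ≤ m → ci m ≫ t m = ci (m + 1) := fun m h => by
    calc ci m ≫ t m = ci m ≫ t m ≫ c (m + 1) ≫ ci (m + 1) := by
          rw [c_ci (m + 1) (by omega), Category.comp_id]
      _ = ci (m + 1) := by rw [reassoc_of% (hc m), reassoc_of% (ci_c m h)]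
  let uu : ∀ (j m : ℕ), X j ⟶ P := fun j m => c j ≫ ci m ≫ ι m
  have uu_self : ∀ j, N ≤ j → uu j j = ι j := fun j h => by
    change c j ≫ ci j ≫ ι j = ι j
    rw [reassoc_of% (c_ci j h)]
  let r : P ⟶ P := Cofan.IsColimit.desc hP (fun j => - ∑ m ∈ Finset.Ico N j, uu j m)
  have hr : ∀ j, ι j ≫ r = - ∑ m ∈ Finset.Ico N j, uu j m := fun j =>
    Cofan.IsColimit.fac hP _ j
  have tuu : ∀ j m, t j ≫ uu (j + 1) m = uu j m := fun j m => by
    change t j ≫ c (j + 1) ≫ ci m ≫ ι m = c j ≫ ci m ≫ ι m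
    rw [reassoc_of% (hc j)]
  have uuf : ∀ j m, N ≤ m → uu j m ≫ f = uu j m - uu j (m + 1) := fun j m h => by
    change (c j ≫ ci m ≫ ι m) ≫ f = c j ≫ ci m ≫ ι m - c j ≫ ci (m + 1) ≫ ι (m + 1)
    rw [Category.assoc, Category.assoc, hf, Preadditive.comp_sub, Preadditive.comp_sub,
      reassoc_of% (ci_t m h)]
  have tele : ∀ (j : ℕ) (k : ℕ),
      ∑ m ∈ Finset.Ico N (N + k), (uu j m - uu j (m + 1)) = uu j N - uu j (N + k) := by
    intro j k
    induction k with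
    | zero => simp
    | succ k ih =>
      rw [← add_assoc, Finset.sum_Ico_succ_top (by omega), ih]
      abel
  refine ⟨r, ci N ≫ ι N, ?_, ?_, ?_⟩
  · apply Cofan.IsColimit.hom_ext hP
    intro j
    change ι j ≫ f ≫ r = ι j ≫ 𝟙 P
    by_cases hj : N ≤ j
    · rw [reassoc_of% (hf j), Preadditive.sub_comp, Category.assoc, hr, hr, Preadditive.comp_neg,
        Preadditive.comp_sum, Finset.sum_Ico_succ_top hj, Category.comp_id]
      simp only [tuu]
      rw [uu_self j hj]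
      abel
    · exact (h0 j (by omega)).eq_of_src _ _
  · rw [Category.assoc, hπ, ci_c N le_rfl]
  · apply Cofan.IsColimit.hom_ext hP
    intro j
    change ι j ≫ (r ≫ f + π ≫ ci N ≫ ι N) = ι j ≫ 𝟙 P
    by_cases hj : N ≤ j
    · obtain ⟨k, rfl⟩ : ∃ k, j = N + k := ⟨j - N, by omega⟩
      rw [Preadditive.comp_add, reassoc_of% (hr (N + k)), reassoc_of% (hπ (N + k)),
        Preadditive.neg_comp, Preadditive.sum_comp, Category.comp_id]
      have : ∑ m ∈ Finset.Ico N (N + k), uu (N + k) m ≫ f =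
          ∑ m ∈ Finset.Ico N (N + k), (uu (N + k) m - uu (N + k) (m + 1)) :=
        Finset.sum_congr rfl (fun m hm => uuf _ m (Finset.mem_Ico.1 hm).1)
      rw [this, tele, uu_self _ hj]
      change -(uu (N + k) N - ι (N + k)) + uu (N + k) N = ι (N + k)
      abel
    · exact (h0 j (by omega)).eq_of_src _ _

end Tel

end Groth.Agent.Lib.Helper11.DerivStr
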