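import Mathlib
import Groth.Agent.Lib.Helper17.TotQis

set_option autoImplicit false
set_option linter.unusedSectionVars false
universe w w' v v' u u'
open CategoryTheory CategoryTheory.Limits ZeroObject

namespace Groth.Agent.Lib.Helper11.DerivStr

section Trunc
variable {A : Type u} [Category.{v} A] [Abelian A] (K : CochainComplex A ℤ)

/-- projection onto the stupid truncation `σ_{≤ r}`. -/
noncomputable def πLE (r : ℤ) : K ⟶ K.stupidTrunc (ComplexShape.embeddingUpIntLE r) :=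
  Groth.Agent.Lib.Helper17.TotQis.πStupid (ComplexShape.embeddingUpIntLE r) K

lemma isIso_πLE_f (r n : ℤ) (h : n ≤ r) : IsIso ((πLE K r).f n) :=
  Groth.Agent.Lib.Helper17.TotQis.isIso_πStupid_f _ K
    (Groth.Agent.Lib.Helper17.TotQis.embLE_f r n h)

lemma isZero_stupidTruncLE_X (r n : ℤ) (h : r < n) :
    IsZero ((K.stupidTrunc (ComplexShape.embeddingUpIntLE r)).X n) :=
  HomologicalComplex.isZero_stupidTrunc_X _ _ _
    ((ComplexShape.notMem_range_embeddingUpIntLE_iff r n).2 h)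

/-- the stupid truncation `σ_{≥ -m}K`, as a subcomplex. -/
noncomputable def sig (m : ℕ) : CochainComplex A ℤ := kernel (πLE K (-(m : ℤ) - 1))

/-- the inclusion `σ_{≥ -m}K ⟶ K`. -/
noncomputable def sigι (m : ℕ) : sig K m ⟶ K := kernel.ι _

lemma sigι_πLE (m : ℕ) : sigι K m ≫ πLE K (-(m : ℤ) - 1) = 0 := kernel.condition _

/-- termwise kernel fork -/
noncomputable def sigIsLimit (m : ℕ) (n : ℤ) :
    IsLimit ((KernelFork.ofι (sigι K m) (sigι_πLE K m)).map
      (HomologicalComplex.eval A (ComplexShape.up ℤ) n)) :=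
  KernelFork.mapIsLimit _ (kernelIsKernel _) _

lemma isZero_sig_X (m : ℕ) (n : ℤ) (h : n < -(m : ℤ)) : IsZero ((sig K m).X n) := by
  have : IsIso ((πLE K (-(m : ℤ) - 1)).f n) := isIso_πLE_f K _ n (by omega)
  have : Mono ((HomologicalComplex.eval A (ComplexShape.up ℤ) n).map (πLE K (-(m : ℤ) - 1))) :=
    inferInstanceAs (Mono ((πLE K (-(m : ℤ) - 1)).f n))
  exact KernelFork.IsLimit.isZero_of_mono (sigIsLimit K m n)

lemma isIso_sigι_f (m : ℕ) (n : ℤ) (h : -(m : ℤ) ≤ n) : IsIso ((sigι K m).f n) := by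
  have h0 : (HomologicalComplex.eval A (ComplexShape.up ℤ) n).map (πLE K (-(m : ℤ) - 1)) = 0 :=
    (isZero_stupidTruncLE_X K _ n (by omega)).eq_of_tgt _ _
  exact KernelFork.IsLimit.isIso_ι _ (sigIsLimit K m n) h0

instance (m : ℕ) : (sig K m).IsStrictlyGE (-(m : ℤ)) := by
  rw [CochainComplex.isStrictlyGE_iff]
  intro i hi
  exact isZero_sig_X K m i hi

/-- the transition map `σ_{≥ -m}K ⟶ σ_{≥ -m-1}K`. -/
noncomputable def sigT (m : ℕ) : sig K m ⟶ sig K (m + 1) :=
  kernel.lift _ (sigι K m) (by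
    ext n
    by_cases h : n < -(m : ℤ)
    · exact (isZero_sig_X K m n h).eq_of_src _ _
    · exact (isZero_stupidTruncLE_X K _ n (by push_cast; omega)).eq_of_tgt _ _)

@[reassoc (attr := simp)]
lemma sigT_ι (m : ℕ) : sigT K m ≫ sigι K (m + 1) = sigι K m := kernel.lift_ι _ _ _

end Trunc

end Groth.Agent.Lib.Helper11.DerivStr
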