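import Mathlib
import Groth.Agent.Lib27.DCoprod
import Groth.Agent.Lib.Helper11.DerivStr3
import Groth.Agent.Lib.Helper11.DerivStr4

set_option autoImplicit false
set_option linter.unusedSectionVars false
universe w w' v v' u u'
open CategoryTheory CategoryTheory.Limits ZeroObject

namespace Groth.Agent.Lib.Helper11.DerivStr

section SES
variable {A : Type u} [Category.{v} A] [Abelian A] [HasCoproductsOfShape ℕ A]
  (K : CochainComplex A ℤ)

/-- the coproduct of the stupid truncations. -/
noncomputable abbrev TT : CochainComplex A ℤ := ∐ (sig K)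

/-- `1 - shift`. -/
noncomputable def telF : TT K ⟶ TT K :=
  Sigma.desc (fun m => Sigma.ι (sig K) m - sigT K m ≫ Sigma.ι (sig K) (m + 1))

/-- the canonical map to `K`. -/
noncomputable def telπ : TT K ⟶ K := Sigma.desc (sigι K)

@[reassoc]
lemma ι_telF (m : ℕ) :
    Sigma.ι (sig K) m ≫ telF K = Sigma.ι (sig K) m - sigT K m ≫ Sigma.ι (sig K) (m + 1) :=
  Sigma.ι_desc _ _

@[reassoc]
lemma ι_telπ (m : ℕ) : Sigma.ι (sig K) m ≫ telπ K = sigι K m := Sigma.ι_desc _ _

lemma telF_π : telF K ≫ telπ K = 0 := by
  apply Sigma.hom_ext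
  intro m
  rw [ι_telF_assoc, Preadditive.sub_comp, Category.assoc, ι_telπ, ι_telπ, sigT_ι, sub_self,
    comp_zero]

/-- the telescope short complex. -/
noncomputable def telS : ShortComplex (CochainComplex A ℤ) :=
  ShortComplex.mk (telF K) (telπ K) (telF_π K)

lemma exists_telSplitting (n : ℤ) :
    ∃ (r : (TT K).X n ⟶ (TT K).X n) (s : K.X n ⟶ (TT K).X n),
      (telF K).f n ≫ r = 𝟙 _ ∧ s ≫ (telπ K).f n = 𝟙 _ ∧
        r ≫ (telF K).f n + (telπ K).f n ≫ s = 𝟙 _ := by
  refine exists_splitting_telescope (fun m => (sig K m).X n) (fun m => (sigT K m).f n) (K.X n)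
    (fun m => (sigι K m).f n) ?_ ((TT K).X n) (fun m => (Sigma.ι (sig K) m).f n)
    (Groth.Agent.Lib27.DCoprod.isColimitEvalCofan (sig K) n) (-n).toNat ?_ ?_
    ((telF K).f n) ?_ ((telπ K).f n) ?_
  · intro m
    rw [← HomologicalComplex.comp_f, sigT_ι]
  · intro m hm
    exact isZero_sig_X K m n (by omega)
  · intro m hm
    exact isIso_sigι_f K m n (by omega)
  · intro m
    rw [← HomologicalComplex.comp_f, ι_telF, HomologicalComplex.sub_f_apply,
      HomologicalComplex.comp_f]
  · intro m
    rw [← HomologicalComplex.comp_f, ι_telπ]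

/-- the degreewise splittings of the telescope short complex. -/
noncomputable def telSplitting (n : ℤ) :
    ((telS K).map (HomologicalComplex.eval A (ComplexShape.up ℤ) n)).Splitting where
  r := (exists_telSplitting K n).choose
  s := (exists_telSplitting K n).choose_spec.choose
  f_r := (exists_telSplitting K n).choose_spec.choose_spec.1
  s_g := (exists_telSplitting K n).choose_spec.choose_spec.2.1
  id := (exists_telSplitting K n).choose_spec.choose_spec.2.2

/-- the telescope triangle `∐ σ_{≥-m}K ⟶ ∐ σ_{≥-m}K ⟶ K ⟶` is distinguished. -/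
lemma telTriangle_distinguished :
    CochainComplex.trianglehOfDegreewiseSplit (telS K) (telSplitting K) ∈
      distTriang (HomotopyCategory A (ComplexShape.up ℤ)) :=
  (HomotopyCategory.distinguished_iff_iso_trianglehOfDegreewiseSplit _).2
    ⟨_, _, ⟨Iso.refl _⟩⟩

end SES

end Groth.Agent.Lib.Helper11.DerivStr
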