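import Mathlib

set_option autoImplicit false
set_option linter.unusedSectionVars false
universe w w' v v' u u'
open CategoryTheory CategoryTheory.Limits ZeroObject

namespace Groth.Agent.Lib.Helper11.DerivStr

section Filt
open CoproductsFromFiniteFiltered
variable {C : Type u} [Category.{v} C] {D : Type u'} [Category.{v'} D]
  (F : C ⥤ D) {α : Type w} [HasFiniteCoproducts C]
  [HasColimitsOfShape (Finset (Discrete α)) C] [HasCoproductsOfShape α C]
  [PreservesFiniteCoproducts F] [PreservesColimitsOfShape (Finset (Discrete α)) F]

/-- inclusion into a finite subcoproduct -/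
noncomputable def pc (f : α → C) (S : Finset (Discrete α)) (x : S) :
    f x.1.as ⟶ (liftToFinsetObj (Discrete.functor f)).obj S :=
  Sigma.ι (fun x : S => (Discrete.functor f).obj x.1) x

/-- finite pieces -/
noncomputable def isColimitFinitePiece (f : α → C) (S : Finset (Discrete α)) :
    IsColimit (Cofan.mk (F.obj ((liftToFinsetObj (Discrete.functor f)).obj S))
      (fun x => F.map (pc f S x))) :=
  haveI : PreservesColimitsOfShape (Discrete S) F := inferInstance
  isColimitCofanMkObjOfIsColimit F _ _ (coproductIsCoproduct _)

/-- the cocone leg -/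
noncomputable def cι (f : α → C) (S : Finset (Discrete α)) :
    (liftToFinsetObj (Discrete.functor f)).obj S ⟶ ∐ f :=
  (finiteSubcoproductsCocone f).ι.app S

omit [HasColimitsOfShape (Finset (Discrete α)) C] in
lemma pc_ι (f : α → C) (S : Finset (Discrete α)) (x : S) :
    pc f S x ≫ cι f S = Sigma.ι f x.1.as := by
  dsimp [finiteSubcoproductsCocone, pc, cι]
  exact Sigma.ι_desc _ _

omit [HasColimitsOfShape (Finset (Discrete α)) C] [HasCoproductsOfShape α C] in
lemma pc_map (f : α → C) {S S' : Finset (Discrete α)} (h : S ⟶ S') (x : S) :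
    pc f S x ≫ (liftToFinsetObj (Discrete.functor f)).map h =
      pc f S' ⟨x.1, h.down.down x.2⟩ := by
  simp [liftToFinsetObj, pc]

lemma filt_hom_ext (f : α → C) (T : D) (m m' : F.obj (∐ f) ⟶ T)
    (h : ∀ j, F.map (Sigma.ι f j) ≫ m = F.map (Sigma.ι f j) ≫ m') : m = m' := by
  have hFc : IsColimit (F.mapCocone (finiteSubcoproductsCocone f)) :=
    isColimitOfPreserves F (isColimitFiniteSubproductsCocone f)
  apply hFc.hom_ext
  intro S
  apply Cofan.IsColimit.hom_ext (isColimitFinitePiece F f S)
  intro x
  change F.map (pc f S x) ≫ F.map (cι f S) ≫ m = F.map (pc f S x) ≫ F.map (cι f S) ≫ m'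
  rw [← F.map_comp_assoc, ← F.map_comp_assoc, pc_ι]
  exact h _

lemma filt_exists_desc (f : α → C) (T : D) (g : ∀ j, F.obj (f j) ⟶ T) :
    ∃ m : F.obj (∐ f) ⟶ T, ∀ j, F.map (Sigma.ι f j) ≫ m = g j := by
  have hFc : IsColimit (F.mapCocone (finiteSubcoproductsCocone f)) :=
    isColimitOfPreserves F (isColimitFiniteSubproductsCocone f)
  let lam : ∀ S : Finset (Discrete α),
      F.obj ((liftToFinsetObj (Discrete.functor f)).obj S) ⟶ T := fun S =>
    Cofan.IsColimit.desc (isColimitFinitePiece F f S) (fun x => g x.1.as)
  have hlam : ∀ (S : Finset (Discrete α)) (x : S), F.map (pc f S x) ≫ lam S = g x.1.as :=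
    fun S x => Cofan.IsColimit.fac (isColimitFinitePiece F f S) _ x
  let s : Cocone (liftToFinsetObj (Discrete.functor f) ⋙ F) :=
    { pt := T
      ι :=
        { app := lam
          naturality := by
            intro S S' h
            apply Cofan.IsColimit.hom_ext (isColimitFinitePiece F f S)
            intro x
            change F.map (pc f S x) ≫
                F.map ((liftToFinsetObj (Discrete.functor f)).map h) ≫ lam S' =
              F.map (pc f S x) ≫ lam S ≫ 𝟙 T
            rw [Category.comp_id, hlam, ← F.map_comp_assoc, pc_map, hlam] } }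
  refine ⟨hFc.desc s, fun j => ?_⟩
  have h1 := pc_ι f {Discrete.mk j} ⟨Discrete.mk j, by simp⟩
  have h2 : F.map (cι f {Discrete.mk j}) ≫ hFc.desc s = lam {Discrete.mk j} := hFc.fac s _
  have h3 := hlam {Discrete.mk j} ⟨Discrete.mk j, by simp⟩
  change F.map (Sigma.ι f j) ≫ hFc.desc s = g j
  change _ = Sigma.ι f j at h1
  rw [← h1, F.map_comp, Category.assoc, h2]
  exact h3

/-- a functor preserving finite coproducts and filtered colimits preserves coproducts. -/
lemma preservesCoproductsOfShape_of_filtered : PreservesColimitsOfShape (Discrete α) F := by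
  haveI : ∀ f : α → C, PreservesColimit (Discrete.functor f) F := fun f =>
    preservesColimit_of_preserves_colimit_cocone (coproductIsCoproduct f)
      ((isColimitMapCoconeCofanMkEquiv _ _ _).symm
        (Cofan.IsColimit.mk _ (fun s => (filt_exists_desc F f s.pt s.inj).choose)
          (fun s j => (filt_exists_desc F f s.pt s.inj).choose_spec j)
          (fun s m hm => filt_hom_ext F f _ _ _ (fun j => by
            have h1 := hm j
            have h2 := (filt_exists_desc F f s.pt s.inj).choose_spec j
            dsimp at h1
            rw [h1, h2]))))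
  exact preservesColimitsOfShape_of_discrete _

end Filt

end Groth.Agent.Lib.Helper11.DerivStr
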