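import Mathlib
import Groth.Agent.Lib27.DCoprod
import Groth.Agent.Lib.Helper11.DerivStr1
import Groth.Agent.Lib.Helper11.DerivStr2
import Groth.Agent.Lib.Helper11.DerivStr5
import Groth.Agent.Lib.Helper11.DerivStr6

set_option autoImplicit false
set_option linter.unusedSectionVars false
set_option linter.style.haveILetI false
universe w w' v v' u u'
open CategoryTheory CategoryTheory.Limits ZeroObject

namespace Groth.Agent.Lib.Helper11.DerivStr

open Groth.Agent.Lib.Helper11.FAcyc

section Formal

lemma isIso_of_isColimit {J : Type*} [Category J] {C : Type*} [Category C] {D₁ D₂ : J ⥤ C}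
    {c₁ : Cocone D₁} (h₁ : IsColimit c₁) {c₂ : Cocone D₂} (h₂ : IsColimit c₂) (τ : D₁ ⟶ D₂)
    (hτ : ∀ j, IsIso (τ.app j)) (φ : c₁.pt ⟶ c₂.pt)
    (hφ : ∀ j, c₁.ι.app j ≫ φ = τ.app j ≫ c₂.ι.app j) : IsIso φ := by
  haveI : IsIso τ := NatIso.isIso_of_isIso_app τ
  let e := IsColimit.coconePointsIsoOfNatIso h₁ h₂ (asIso τ)
  have : φ = e.hom := h₁.hom_ext (fun j => by
    rw [hφ, IsColimit.comp_coconePointsIsoOfNatIso_hom]
    rfl)
  rw [this]
  infer_instance

end Formal

section Coprod
open HomotopyCategory CochainComplex Pretriangulated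
variable {A : Type u} [Category.{v} A] [Abelian A] [IsGrothendieckAbelian.{v} A]
  [HasDerivedCategory.{w} A]

local notation "Kh" => HomotopyCategory A (ComplexShape.up ℤ)
local notation "qq" => HomotopyCategory.quotient A (ComplexShape.up ℤ)
local notation "WW" => HomotopyCategory.quasiIso A (ComplexShape.up ℤ)
local notation "BB" => HomotopyCategory.subcategoryAcyclic A

omit [HasDerivedCategory.{w} A] in
lemma quasiIso_stable_nat :
    (HomotopyCategory.quasiIso A (ComplexShape.up ℤ)).IsStableUnderCoproductsOfShape ℕ :=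
  Groth.Agent.Lib27.DCoprod.stable_of_quotient (HomotopyCategory.quotient A (ComplexShape.up ℤ))
    (HomologicalComplex.quasiIso A (ComplexShape.up ℤ))
    (HomotopyCategory.quasiIso A (ComplexShape.up ℤ))
    (fun f => HomotopyCategory.quotient_map_mem_quasiIso_iff f)

lemma preserves_Qh :
    PreservesColimitsOfShape (Discrete ℕ)
      (DerivedCategory.Qh : HomotopyCategory A (ComplexShape.up ℤ) ⥤ DerivedCategory A) := by
  haveI := quasiIso_stable_nat (A := A)
  haveI : ∀ X : ℕ → Kh, PreservesColimit (Discrete.functor X)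
      (DerivedCategory.Qh : Kh ⥤ DerivedCategory A) := fun X =>
    preservesColimit_of_preserves_colimit_cocone (coproductIsCoproduct X)
      ((isColimitMapCoconeCofanMkEquiv _ _ _).symm
        (Groth.Agent.Lib27.DCoprod.isColimitMapCofan DerivedCategory.Qh
          (HomotopyCategory.quasiIso A (ComplexShape.up ℤ)) X))
  exact preservesColimitsOfShape_of_discrete _

lemma preserves_Q :
    PreservesColimitsOfShape (Discrete ℕ)
      (HomotopyCategory.quotient A (ComplexShape.up ℤ) ⋙
        (DerivedCategory.Qh : HomotopyCategory A (ComplexShape.up ℤ) ⥤ DerivedCategory A)) := by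
  haveI := preserves_Qh (A := A)
  infer_instance

variable {D : Type u'} [Category.{v'} D] (G : HomotopyCategory A (ComplexShape.up ℤ) ⥤ D)
  [G.HasRightDerivedFunctor (HomotopyCategory.quasiIso A (ComplexShape.up ℤ))]

/-- good objects are stable under countable coproducts of complexes. -/
theorem good_coproduct
    [PreservesColimitsOfShape (Discrete ℕ) (HomotopyCategory.quotient A (ComplexShape.up ℤ) ⋙ G)]
    [PreservesColimitsOfShape (Discrete ℕ) (G.totalRightDerived DerivedCategory.Qh
      (HomotopyCategory.quasiIso A (ComplexShape.up ℤ)))]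
    (X : ℕ → CochainComplex A ℤ) (hX : ∀ m, Good G ((qq).obj (X m))) :
    Good G ((qq).obj (∐ X)) := by
  let α := G.totalRightDerivedUnit DerivedCategory.Qh
    (HomotopyCategory.quasiIso A (ComplexShape.up ℤ))
  let RG := G.totalRightDerived DerivedCategory.Qh
    (HomotopyCategory.quasiIso A (ComplexShape.up ℤ))
  haveI := preserves_Q (A := A)
  let c := colimit.cocone (Discrete.functor X)
  have hc : IsColimit c := colimit.isColimit _
  have h₁ : IsColimit (((qq) ⋙ G).mapCocone c) := isColimitOfPreserves _ hc
  have h₂ : IsColimit ((((qq) ⋙ DerivedCategory.Qh) ⋙ RG).mapCocone c) :=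
    isColimitOfPreserves _ hc
  let τ : Discrete.functor X ⋙ ((qq) ⋙ G) ⟶
      Discrete.functor X ⋙ (((qq) ⋙ DerivedCategory.Qh) ⋙ RG) :=
    Functor.whiskerLeft (Discrete.functor X) (Functor.whiskerLeft (qq) α)
  exact isIso_of_isColimit h₁ h₂ τ (fun j => hX j.as) (α.app ((qq).obj (∐ X)))
    (fun j => α.naturality _)

end Coprod

section Main
open HomotopyCategory CochainComplex Pretriangulated
variable {A : Type u} [Category.{v} A] [Abelian A] [IsGrothendieckAbelian.{v} A]
  [HasDerivedCategory.{w} A]
  {B : Type u'} [Category.{v} B] [Abelian B] [IsGrothendieckAbelian.{v} B]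
  [HasDerivedCategory.{w'} B]
  (F : A ⥤ B) [F.Additive] [PreservesFiniteLimits F]

local notation "Kh" => HomotopyCategory A (ComplexShape.up ℤ)
local notation "qq" => HomotopyCategory.quotient A (ComplexShape.up ℤ)

omit [IsGrothendieckAbelian.{v} A] [HasDerivedCategory.{w} A] [IsGrothendieckAbelian.{v} B]
  [HasDerivedCategory.{w'} B] [PreservesFiniteLimits F] in
lemma preserves_mapHomologicalComplex [HasCoproductsOfShape ℕ A] [HasCoproductsOfShape ℕ B]
    [PreservesColimitsOfShape (Discrete ℕ) F] :
    PreservesColimitsOfShape (Discrete ℕ) (F.mapHomologicalComplex (ComplexShape.up ℤ)) := by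
  apply HomologicalComplex.preservesColimitsOfShape_of_eval
  intro i
  have : PreservesColimitsOfShape (Discrete ℕ)
      (HomologicalComplex.eval A (ComplexShape.up ℤ) i ⋙ F) := inferInstance
  exact preservesColimitsOfShape_of_natIso
    (NatIso.ofComponents (fun K => Iso.refl _) (fun {X Y} f => by
        change F.map (f.f i) ≫ 𝟙 _ = 𝟙 _ ≫ F.map (f.f i)
        rw [Category.comp_id, Category.id_comp]) :
      HomologicalComplex.eval A (ComplexShape.up ℤ) i ⋙ F ≅
        F.mapHomologicalComplex (ComplexShape.up ℤ) ⋙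
          HomologicalComplex.eval B (ComplexShape.up ℤ) i)

/-- `F ≅ R⁰F` preserves countable coproducts if `R⁰F` preserves filtered colimits. -/
lemma preserves_coprod_of_rightDerived_zero
    (hcolim : ∀ (J : Type v) [SmallCategory J] [IsFiltered J],
      PreservesColimitsOfShape J (F.rightDerived 0)) :
    PreservesColimitsOfShape (Discrete ℕ) F := by
  haveI h1 : PreservesFilteredColimitsOfSize.{v, v} (F.rightDerived 0) := ⟨fun J _ _ => hcolim J⟩
  haveI h2 : PreservesFilteredColimitsOfSize.{0, 0} (F.rightDerived 0) :=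
    preservesSmallestFilteredColimits_of_preservesFilteredColimits.{v, v} _
  haveI h3 : PreservesColimitsOfShape (Finset (Discrete ℕ)) (F.rightDerived 0) :=
    h2.preserves_filtered_colimits _
  haveI h4 : PreservesColimitsOfShape (Finset (Discrete ℕ)) F :=
    preservesColimitsOfShape_of_natIso F.rightDerivedZeroIsoSelf
  exact preservesCoproductsOfShape_of_filtered F

variable
  [(F.mapHomotopyCategory (ComplexShape.up ℤ) ⋙
      (DerivedCategory.Qh : _ ⥤ DerivedCategory B)).HasRightDerivedFunctor
      (HomotopyCategory.quasiIso A (ComplexShape.up ℤ))]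

/-- **Main theorem**: if `R⁰F` commutes with filtered colimits and `RF` with countable coproducts,
then `F(K) ⟶ RF(K)` is an isomorphism for every complex `K` with `F`-acyclic terms. -/
theorem isIso_unit_of_acyclic_of_preservesCoproducts
    (hcolim : ∀ (J : Type v) [SmallCategory J] [IsFiltered J],
      PreservesColimitsOfShape J (F.rightDerived 0))
    [PreservesColimitsOfShape (Discrete ℕ)
      ((F.mapHomotopyCategory (ComplexShape.up ℤ) ⋙
        (DerivedCategory.Qh : _ ⥤ DerivedCategory B)).totalRightDerived DerivedCategory.Qh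
        (HomotopyCategory.quasiIso A (ComplexShape.up ℤ)))]
    (K : CochainComplex A ℤ) (hK : ∀ m, FD F 0 (K.X m)) :
    Good (F.mapHomotopyCategory (ComplexShape.up ℤ) ⋙
      (DerivedCategory.Qh : _ ⥤ DerivedCategory B)) ((qq).obj K) := by
  haveI hF := preserves_coprod_of_rightDerived_zero F hcolim
  haveI := preserves_mapHomologicalComplex F
  haveI := preserves_Qh (A := B)
  haveI : PreservesColimitsOfShape (Discrete ℕ) ((qq) ⋙ (F.mapHomotopyCategory (ComplexShape.up ℤ) ⋙
      (DerivedCategory.Qh : _ ⥤ DerivedCategory B))) := by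
    have h : PreservesColimitsOfShape (Discrete ℕ)
        ((F.mapHomologicalComplex (ComplexShape.up ℤ) ⋙
          HomotopyCategory.quotient B (ComplexShape.up ℤ)) ⋙
            (DerivedCategory.Qh : _ ⥤ DerivedCategory B)) := inferInstance
    exact preservesColimitsOfShape_of_natIso
      (Functor.isoWhiskerRight (F.mapHomotopyCategoryFactors (ComplexShape.up ℤ)).symm
        (DerivedCategory.Qh : _ ⥤ DerivedCategory B))
  have hsig : ∀ (m : ℕ) (n : ℤ), FD F 0 ((sig K m).X n) := by
    intro m n
    by_cases h : n < -(m : ℤ)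
    · exact FD_of_isZero F (isZero_sig_X K m n h)
    · haveI := isIso_sigι_f K m n (by omega)
      exact FD_of_iso F (asIso ((sigι K m).f n)).symm (hK n)
  have h1 : ∀ m, Good (F.mapHomotopyCategory (ComplexShape.up ℤ) ⋙
      (DerivedCategory.Qh : _ ⥤ DerivedCategory B)) ((qq).obj (sig K m)) := fun m =>
    good_of_isStrictlyGE F (sig K m) (-(m : ℤ)) (hsig m)
  have h2 : Good (F.mapHomotopyCategory (ComplexShape.up ℤ) ⋙
      (DerivedCategory.Qh : _ ⥤ DerivedCategory B)) ((qq).obj (TT K)) :=
    good_coproduct _ (sig K) h1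
  exact good_of_distinguished _ _ (telTriangle_distinguished K) h2 h2

end Main

end Groth.Agent.Lib.Helper11.DerivStr
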