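import Mathlib

set_option autoImplicit false
universe u v
open TensorProduct

namespace Groth.Agent.Lib.Helper11.Diag

section
variable (k : Type u) [Field k] (A : Type v) [CommRing A] [Algebra k A]

/-- `Θ (a ⊗ b) = a • d b`. -/
noncomputable def Θ : A ⊗[k] A →ₗ[A] Ω[A⁄k] := (KaehlerDifferential.D k A).tensorProductTo

@[simp] lemma Θ_tmul (a b : A) : Θ k A (a ⊗ₜ[k] b) = a • KaehlerDifferential.D k A b := rfl

lemma Θ_eq_zero_iff (x : A ⊗[k] A) (hx : x ∈ KaehlerDifferential.ideal k A) :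
    Θ k A x = 0 ↔ x ∈ (KaehlerDifferential.ideal k A) ^ 2 := by
  have h := KaehlerDifferential.D_tensorProductTo (R := k) (S := A) ⟨x, hx⟩
  unfold Θ
  rw [h]
  exact Ideal.toCotangent_eq_zero _ _

lemma Θ_surjective_on_ideal (ω : Ω[A⁄k]) :
    ∃ x ∈ KaehlerDifferential.ideal k A, Θ k A x = ω := by
  obtain ⟨x, rfl⟩ := (KaehlerDifferential.ideal k A).toCotangent_surjective ω
  exact ⟨x, x.2, KaehlerDifferential.D_tensorProductTo x⟩

/-- `z a b x y = (a ⊗ b) * δx * δy`. -/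
def zz (a b x y : A) : A ⊗[k] A :=
  (a * x * y) ⊗ₜ[k] b - (a * x) ⊗ₜ[k] (b * y) - (a * y) ⊗ₜ[k] (b * x) + a ⊗ₜ[k] (b * x * y)

lemma zz_eq (a b x y : A) :
    zz k A a b x y = (a ⊗ₜ[k] b) * ((1 ⊗ₜ[k] x - x ⊗ₜ[k] 1) * (1 ⊗ₜ[k] y - y ⊗ₜ[k] 1)) := by
  simp only [zz, mul_sub, sub_mul, Algebra.TensorProduct.tmul_mul_tmul, one_mul, mul_one]
  ring_nf

lemma sq_le (W : Submodule k (A ⊗[k] A)) (hW : ∀ a b x y : A, zz k A a b x y ∈ W) :
    ∀ t ∈ (KaehlerDifferential.ideal k A) ^ 2, t ∈ W := by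
  intro t ht
  rw [pow_two, ← KaehlerDifferential.span_range_eq_ideal, Ideal.span_mul_span'] at ht
  have key : ∀ s : A ⊗[k] A, s * t ∈ W := by
    induction ht using Submodule.span_induction with
    | mem t ht =>
      obtain ⟨_, ⟨x, rfl⟩, _, ⟨y, rfl⟩, rfl⟩ := ht
      intro s
      induction s using TensorProduct.induction_on with
      | zero => simp
      | tmul a b => rw [← zz_eq]; exact hW a b x y
      | add s₁ s₂ h₁ h₂ => rw [add_mul]; exact W.add_mem h₁ h₂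
    | zero => intro s; simp
    | add t₁ t₂ _ _ h₁ h₂ => intro s; rw [mul_add]; exact W.add_mem (h₁ s) (h₂ s)
    | smul c t _ h => intro s; rw [smul_eq_mul, ← mul_assoc]; exact h _
  simpa using key 1

/-- swap as a linear map -/
noncomputable abbrev τ : A ⊗[k] A →ₗ[k] A ⊗[k] A := (TensorProduct.comm k A A).toLinearMap

/-- multiplication -/
noncomputable abbrev μ : A ⊗[k] A →ₗ[k] A := LinearMap.mul' k A

/-- `a ↦ a ⊗ 1` -/
noncomputable abbrev ιL : A →ₗ[k] A ⊗[k] A := (Algebra.TensorProduct.includeLeft (R := k) (S := k) (A := A) (B := A)).toLinearMap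

lemma mem_ideal_iff (x : A ⊗[k] A) : x ∈ KaehlerDifferential.ideal k A ↔ μ k A x = 0 := by
  rw [RingHom.mem_ker]
  rfl

lemma μ_τ (y : A ⊗[k] A) : μ k A (τ k A y) = μ k A y := by
  induction y using TensorProduct.induction_on with
  | zero => simp
  | tmul a b => simp [mul_comm]
  | add y₁ y₂ h₁ h₂ => simp only [map_add, h₁, h₂]

lemma Θ_ιL (a : A) : Θ k A (ιL k A a) = 0 := by
  show (KaehlerDifferential.D k A).tensorProductTo (a ⊗ₜ[k] (1 : A)) = 0
  rw [Derivation.tensorProductTo_tmul]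
  simp

end

section S12
variable (k : Type u) [Field k] [CharZero k] (A : Type v) [CommRing A] [Algebra k A]

/-- `R a b c = ab ⊗ c + ac ⊗ b + bc ⊗ a` -/
def RR (a b c : A) : A ⊗[k] A := (a * b) ⊗ₜ[k] c + (a * c) ⊗ₜ[k] b + (b * c) ⊗ₜ[k] a

lemma zz_eq_RR (a b x y : A) :
    zz k A a b x y = RR k A (a * x) y b - RR k A 1 (a * x) (b * y) - RR k A 1 (a * y) (b * x)
      + RR k A 1 a (b * x * y) - RR k A (b * x) y a + RR k A 1 (b * x) (a * y) := by
  simp only [zz, RR, one_mul]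
  ring_nf

theorem main12
    (r : A ⊗[k] (A ⊗[k] A) →ₗ[k] A ⊗[k] A)
    (hr : ∀ a b c : A, r (a ⊗ₜ[k] (b ⊗ₜ[k] c)) = (a * b) ⊗ₜ[k] c)
    (D : A ⊗[k] A →ₗ[k] Ω[A⁄k])
    (hD : ∀ a b : A, D (a ⊗ₜ[k] b) = (2 : A) • (a • KaehlerDifferential.D k A b) - b • KaehlerDifferential.D k A a) :
    (∀ y : A ⊗[k] A, D y = 0 ↔ ∃ x : A ⊗[k] (A ⊗[k] A),
        TensorProduct.leftComm k A A A x = x ∧
        LinearMap.lTensor A (TensorProduct.comm k A A).toLinearMap x = x ∧ r x = y) ∧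
    Function.Surjective D := by
  -- formula for D
  have hDΘ : ∀ y, D y = Θ k A ((2 : k) • y - τ k A y - ιL k A (μ k A y)) := by
    intro y
    induction y using TensorProduct.induction_on with
    | zero => simp
    | tmul a b =>
      rw [hD]
      simp only [map_sub, Θ_ιL, sub_zero]
      rw [LinearMap.map_smul_of_tower]
      simp [τ, ofNat_smul_eq_nsmul, two_smul]
    | add y₁ y₂ h₁ h₂ =>
      rw [map_add, h₁, h₂, ← map_add]
      congr 1
      simp only [smul_add, map_add]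
      abel
  have hcI : ∀ y, (2 : k) • y - τ k A y - ιL k A (μ k A y) ∈ KaehlerDifferential.ideal k A := by
    intro y
    rw [mem_ideal_iff]
    simp only [map_sub, map_smul, μ_τ]
    have : μ k A (ιL k A (μ k A y)) = μ k A y := by simp [ιL]
    rw [this, two_smul]
    abel
  -- the submodule W = r(Inv)
  let s₁ : A ⊗[k] (A ⊗[k] A) →ₗ[k] A ⊗[k] (A ⊗[k] A) := (TensorProduct.leftComm k A A A).toLinearMap
  let s₂ : A ⊗[k] (A ⊗[k] A) →ₗ[k] A ⊗[k] (A ⊗[k] A) :=
    LinearMap.lTensor A (TensorProduct.comm k A A).toLinearMap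
  let Inv : Submodule k (A ⊗[k] (A ⊗[k] A)) :=
    LinearMap.eqLocus s₁ LinearMap.id ⊓ LinearMap.eqLocus s₂ LinearMap.id
  let W : Submodule k (A ⊗[k] A) := Inv.map r
  have hWiff : ∀ y, y ∈ W ↔ ∃ x : A ⊗[k] (A ⊗[k] A),
        TensorProduct.leftComm k A A A x = x ∧
        LinearMap.lTensor A (TensorProduct.comm k A A).toLinearMap x = x ∧ r x = y := by
    intro y
    constructor
    · rintro ⟨x, ⟨h1, h2⟩, rfl⟩
      exact ⟨x, h1, h2, rfl⟩
    · rintro ⟨x, h1, h2, rfl⟩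
      exact ⟨x, ⟨h1, h2⟩, rfl⟩
  -- R a b c ∈ W
  have hRW : ∀ a b c : A, RR k A a b c ∈ W := by
    intro a b c
    refine ⟨(2 : k)⁻¹ • (a ⊗ₜ[k] (b ⊗ₜ[k] c) + a ⊗ₜ[k] (c ⊗ₜ[k] b) + b ⊗ₜ[k] (a ⊗ₜ[k] c)
      + b ⊗ₜ[k] (c ⊗ₜ[k] a) + c ⊗ₜ[k] (a ⊗ₜ[k] b) + c ⊗ₜ[k] (b ⊗ₜ[k] a)), ⟨?_, ?_⟩, ?_⟩
    · show s₁ _ = _
      simp only [s₁, map_smul, map_add, LinearEquiv.coe_coe, TensorProduct.leftComm_tmul, LinearMap.id_apply]
      congr 1
      abel
    · show s₂ _ = _
      simp only [s₂, map_smul, map_add, LinearMap.lTensor_tmul, LinearEquiv.coe_coe,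
        TensorProduct.comm_tmul, LinearMap.id_apply]
      congr 1
      abel
    · simp only [map_smul, map_add, hr, RR]
      rw [inv_smul_eq_iff₀ (two_ne_zero), two_smul]
      ring_nf
  have hzW : ∀ a b x y : A, zz k A a b x y ∈ W := by
    intro a b x y
    rw [zz_eq_RR]
    exact W.add_mem (W.sub_mem (W.add_mem (W.sub_mem (W.sub_mem (hRW _ _ _) (hRW _ _ _)) (hRW _ _ _))
      (hRW _ _ _)) (hRW _ _ _)) (hRW _ _ _)
  have hI2W := sq_le k A W hzW
  -- symmetrizer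
  have hDrS : (D.comp r).comp (LinearMap.id + s₁ + s₂ + s₁.comp s₂ + s₂.comp s₁ + s₁.comp (s₂.comp s₁)) = 0 := by
    apply TensorProduct.ext_threefold'
    intro a b c
    simp only [LinearMap.comp_apply, LinearMap.add_apply, LinearMap.id_apply, s₁, s₂,
      LinearEquiv.coe_coe, TensorProduct.leftComm_tmul, LinearMap.lTensor_tmul, TensorProduct.comm_tmul,
      map_add, hr, hD, LinearMap.zero_apply, Derivation.leibniz]
    module
  have h6 : (6 : k) ≠ 0 := by norm_num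
  have h3 : (3 : k) ≠ 0 := by norm_num
  have hbr : ∀ y : A ⊗[k] A, y + τ k A y - ιL k A (μ k A y) - (1 : A) ⊗ₜ[k] (μ k A y) ∈ W := by
    intro y
    induction y using TensorProduct.induction_on with
    | zero => simp
    | tmul a b =>
      have : a ⊗ₜ[k] b + τ k A (a ⊗ₜ[k] b) - ιL k A (μ k A (a ⊗ₜ[k] b)) - (1 : A) ⊗ₜ[k] (μ k A (a ⊗ₜ[k] b))
          = - zz k A 1 1 a b := by
        simp only [zz, τ, μ, ιL, LinearEquiv.coe_coe, TensorProduct.comm_tmul, LinearMap.mul'_apply,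
          AlgHom.toLinearMap_apply, Algebra.TensorProduct.includeLeft_apply, one_mul]
        abel
      rw [this]
      exact W.neg_mem (hzW _ _ _ _)
    | add y₁ y₂ h₁ h₂ =>
      have := W.add_mem h₁ h₂
      convert this using 1
      simp only [map_add, TensorProduct.tmul_add]
      abel
  refine ⟨fun y => ⟨fun hy => ?_, ?_⟩, ?_⟩
  · rw [← hWiff]
    have h1 : (2 : k) • y - τ k A y - ιL k A (μ k A y) ∈ W := by
      apply hI2W
      rw [← Θ_eq_zero_iff k A _ (hcI y), ← hDΘ, hy]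
    have h2 := hbr y
    have h3' : RR k A 1 1 (μ k A y) ∈ W := hRW _ _ _
    have : y = (3 : k)⁻¹ • (((2 : k) • y - τ k A y - ιL k A (μ k A y)) +
        (y + τ k A y - ιL k A (μ k A y) - (1 : A) ⊗ₜ[k] (μ k A y)) + RR k A 1 1 (μ k A y)) := by
      rw [eq_inv_smul_iff₀ h3]
      simp only [RR, ιL, AlgHom.toLinearMap_apply, Algebra.TensorProduct.includeLeft_apply, one_mul]
      module
    rw [this]
    exact W.smul_mem _ (W.add_mem (W.add_mem h1 h2) h3')
  · rintro ⟨x, hx1, hx2, rfl⟩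
    have e1 : s₁ x = x := hx1
    have e2 : s₂ x = x := hx2
    have := LinearMap.congr_fun hDrS x
    simp only [LinearMap.comp_apply, LinearMap.add_apply, LinearMap.id_apply, e1, e2,
      LinearMap.zero_apply] at this
    have h66 : (6 : k) • D (r x) = 0 := by
      rw [← this]
      simp only [map_add]
      module
    exact (smul_eq_zero.mp h66).resolve_left h6
  · intro ω
    obtain ⟨i, hi, rfl⟩ := Θ_surjective_on_ideal k A ω
    have hμi : μ k A i = 0 := (mem_ideal_iff k A i).mp hi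
    have hττ : τ k A (τ k A i) = i := by simp [τ]
    refine ⟨(3 : k)⁻¹ • ((2 : k) • i + τ k A i), ?_⟩
    rw [hDΘ]
    congr 1
    simp only [map_smul, map_add, hττ, μ_τ, hμi, smul_zero, add_zero, map_zero, sub_zero]
    rw [eq_comm, ← sub_eq_zero]
    have : i = (3 : k)⁻¹ • ((3 : k) • i) := by rw [inv_smul_smul₀ h3]
    conv_lhs => rw [this]
    module

end S12

end Groth.Agent.Lib.Helper11.Diag
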