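import Groth.Agent.Lib.Helper11.Diag1

set_option autoImplicit false
set_option linter.unusedSectionVars false
universe u v
open TensorProduct

namespace Groth.Agent.Lib.Helper11.Diag

section S13
variable (k : Type u) [Field k] [CharZero k] (A : Type v) [CommRing A] [Algebra k A]

lemma zz_split (a b x y : A) :
    zz k A a b x y = zz k A a 1 (b * x) y - zz k A (a * x) 1 b y := by
  simp only [zz, one_mul]
  ring_nf

/-- `a ↦ 1 ⊗ a` -/
noncomputable abbrev ιR : A →ₗ[k] A ⊗[k] A :=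
  (Algebra.TensorProduct.includeRight (R := k) (A := A) (B := A)).toLinearMap

/-- `Φ (b ⊗ c) = c ⊗ (b ⊗ 1 + 1 ⊗ b)` -/
noncomputable def Φ : A ⊗[k] A →ₗ[k] A ⊗[k] (A ⊗[k] A) :=
  (LinearMap.lTensor A (ιL k A + ιR k A)).comp (TensorProduct.comm k A A).toLinearMap

lemma Φ_tmul (b c : A) : Φ k A (b ⊗ₜ[k] c) = c ⊗ₜ[k] (b ⊗ₜ[k] 1) + c ⊗ₜ[k] ((1 : A) ⊗ₜ[k] b) := by
  simp [Φ, ιL, ιR, TensorProduct.tmul_add]

theorem main13
    (r₁₂ r₂₃ : A ⊗[k] (A ⊗[k] A) →ₗ[k] A ⊗[k] A)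
    (h₁₂ : ∀ a u v : A, r₁₂ (a ⊗ₜ[k] (u ⊗ₜ[k] v)) = (a * u) ⊗ₜ[k] v)
    (h₂₃ : ∀ a u v : A, r₂₃ (a ⊗ₜ[k] (u ⊗ₜ[k] v)) = (u * v) ⊗ₜ[k] a)
    (ψ : (A ⊗[k] A) × (A ⊗[k] A) →ₗ[k] Ω[A⁄k])
    (hψ : ∀ a u b v : A, ψ (a ⊗ₜ[k] u, b ⊗ₜ[k] v) =
      (2 : A) • (a • KaehlerDifferential.D k A u) - v • KaehlerDifferential.D k A b) :
    (∀ p q : A ⊗[k] A, LinearMap.mul' k A p = LinearMap.mul' k A q →
      (ψ (p, q) = 0 ↔ ∃ x : A ⊗[k] (A ⊗[k] A),
        LinearMap.lTensor A (TensorProduct.comm k A A).toLinearMap x = x ∧ r₁₂ x = p ∧ r₂₃ x = q)) ∧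
    (∀ ω : Ω[A⁄k], ∃ p q : A ⊗[k] A, LinearMap.mul' k A p = LinearMap.mul' k A q ∧ ψ (p, q) = ω) := by
  have h2 : (2 : k) ≠ 0 := by norm_num
  have h00 : ψ (0, 0) = 0 := by rw [Prod.mk_zero_zero, map_zero]
  -- formula for ψ
  have hψ1 : ∀ p, ψ (p, 0) = Θ k A ((2 : k) • p) := by
    intro p
    induction p using TensorProduct.induction_on with
    | zero => simp [h00]
    | tmul a u =>
      have := hψ a u 0 0
      rw [TensorProduct.tmul_zero] at this
      rw [this, LinearMap.map_smul_of_tower]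
      simp [ofNat_smul_eq_nsmul, two_smul]
    | add p₁ p₂ h₁ h₂ =>
      have : ((p₁ + p₂, 0) : (A ⊗[k] A) × (A ⊗[k] A)) = (p₁, 0) + (p₂, 0) := by simp
      rw [this, map_add, h₁, h₂, ← map_add, smul_add]
  have hψ2 : ∀ q, ψ (0, q) = - Θ k A (τ k A q) := by
    intro q
    induction q using TensorProduct.induction_on with
    | zero => simp [h00]
    | tmul b v =>
      have := hψ 0 0 b v
      rw [TensorProduct.tmul_zero] at this
      rw [this]
      simp [τ]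
    | add q₁ q₂ h₁ h₂ =>
      have : ((0, q₁ + q₂) : (A ⊗[k] A) × (A ⊗[k] A)) = (0, q₁) + (0, q₂) := by simp
      rw [this, map_add, h₁, h₂, map_add, map_add, neg_add]
  have hψΘ : ∀ p q, ψ (p, q) = Θ k A ((2 : k) • p - τ k A q) := by
    intro p q
    have : ((p, q) : (A ⊗[k] A) × (A ⊗[k] A)) = (p, 0) + (0, q) := by simp
    rw [this, map_add, hψ1, hψ2, map_sub, sub_eq_add_neg]
  let σ : A ⊗[k] (A ⊗[k] A) →ₗ[k] A ⊗[k] (A ⊗[k] A) :=
    LinearMap.lTensor A (TensorProduct.comm k A A).toLinearMap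
  -- Φ properties
  have hΦσ : ∀ q, σ (Φ k A q) = Φ k A q := by
    intro q
    induction q using TensorProduct.induction_on with
    | zero => simp
    | tmul b c =>
      simp only [Φ_tmul, map_add, σ, LinearMap.lTensor_tmul, LinearEquiv.coe_coe, TensorProduct.comm_tmul]
      abel
    | add q₁ q₂ h₁ h₂ => simp only [map_add, h₁, h₂]
  have hΦ23 : ∀ q, r₂₃ (Φ k A q) = (2 : k) • q := by
    intro q
    induction q using TensorProduct.induction_on with
    | zero => simp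
    | tmul b c =>
      simp only [Φ_tmul, map_add, h₂₃, mul_one, one_mul, two_smul]
    | add q₁ q₂ h₁ h₂ => simp only [map_add, h₁, h₂, smul_add]
  have hΦ12 : ∀ q, r₁₂ (Φ k A q) = ιL k A (μ k A q) + τ k A q := by
    intro q
    induction q using TensorProduct.induction_on with
    | zero => simp
    | tmul b c =>
      simp only [Φ_tmul, map_add, h₁₂, mul_one, τ, μ, ιL, LinearEquiv.coe_coe, TensorProduct.comm_tmul,
        LinearMap.mul'_apply, AlgHom.toLinearMap_apply, Algebra.TensorProduct.includeLeft_apply, mul_comm c b]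
    | add q₁ q₂ h₁ h₂ => simp only [map_add, h₁, h₂]; abel
  -- the submodule V₀ of e with a lift x'' invariant, r₂₃ x'' = 0
  let V₀ : Submodule k (A ⊗[k] A) := (LinearMap.eqLocus σ LinearMap.id ⊓ LinearMap.ker r₂₃).map r₁₂
  have hzV1 : ∀ a u v : A, zz k A a 1 u v ∈ V₀ := by
    intro a u v
    refine ⟨a ⊗ₜ[k] ((u * v) ⊗ₜ[k] 1) - a ⊗ₜ[k] (u ⊗ₜ[k] v) - a ⊗ₜ[k] (v ⊗ₜ[k] u)
      + a ⊗ₜ[k] ((1 : A) ⊗ₜ[k] (u * v)), ⟨?_, ?_⟩, ?_⟩
    · show σ _ = _
      simp only [σ, map_add, map_sub, LinearMap.lTensor_tmul, LinearEquiv.coe_coe,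
        TensorProduct.comm_tmul, LinearMap.id_apply]
      abel
    · show r₂₃ _ = 0
      simp only [map_add, map_sub, h₂₃, mul_one, one_mul, mul_comm v u]
      abel
    · simp only [map_add, map_sub, h₁₂, zz, mul_one, one_mul]
      ring_nf
  have hzV : ∀ a b x y : A, zz k A a b x y ∈ V₀ := by
    intro a b x y
    rw [zz_split]
    exact V₀.sub_mem (hzV1 _ _ _) (hzV1 _ _ _)
  have hI2V := sq_le k A V₀ hzV
  -- (⇐) computation
  have hsym : (((Θ k A).restrictScalars k).comp ((2 : k) • r₁₂ - (τ k A).comp r₂₃)).comp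
      (LinearMap.id + σ) = 0 := by
    apply TensorProduct.ext_threefold'
    intro a u v
    simp only [LinearMap.comp_apply, LinearMap.add_apply, LinearMap.id_apply, σ,
      LinearMap.lTensor_tmul, LinearEquiv.coe_coe, TensorProduct.comm_tmul, map_add,
      LinearMap.sub_apply, LinearMap.smul_apply, h₁₂, h₂₃, LinearMap.zero_apply, τ,
      LinearMap.coe_restrictScalars, map_sub, two_smul, Θ_tmul, Derivation.leibniz]
    module
  refine ⟨fun p q hpq => ⟨fun h0 => ?_, ?_⟩, ?_⟩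
  · -- (⇒)
    have heI : (2 : k) • p - τ k A q - ιL k A (μ k A p) ∈ KaehlerDifferential.ideal k A := by
      rw [mem_ideal_iff]
      simp only [map_sub, map_smul, μ_τ]
      have : μ k A (ιL k A (μ k A p)) = μ k A p := by simp [ιL]
      rw [this, two_smul, show μ k A q = μ k A p from hpq.symm]
      abel
    have heV : (2 : k) • p - τ k A q - ιL k A (μ k A p) ∈ V₀ := by
      apply hI2V
      rw [← Θ_eq_zero_iff k A _ heI, map_sub, Θ_ιL, sub_zero, ← hψΘ, h0]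
    obtain ⟨x'', ⟨hx1, hx2⟩, hx3⟩ := heV
    have hx1' : σ x'' = x'' := hx1
    have hx2' : r₂₃ x'' = 0 := hx2
    refine ⟨(2 : k)⁻¹ • (Φ k A q + x''), ?_, ?_, ?_⟩
    · show σ _ = _
      rw [map_smul, map_add, hΦσ, hx1']
    · rw [map_smul, map_add, hΦ12, hx3, inv_smul_eq_iff₀ h2, show μ k A q = μ k A p from hpq.symm]
      abel
    · rw [map_smul, map_add, hΦ23, hx2', add_zero, inv_smul_smul₀ h2]
  · rintro ⟨x, hx, rfl, rfl⟩
    have hx' : σ x = x := hx
    have := LinearMap.congr_fun hsym x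
    simp only [LinearMap.comp_apply, LinearMap.add_apply, LinearMap.id_apply, hx',
      LinearMap.zero_apply, LinearMap.sub_apply, LinearMap.smul_apply,
      LinearMap.coe_restrictScalars] at this
    have h22 : (2 : k) • ψ (r₁₂ x, r₂₃ x) = 0 := by
      rw [hψΘ, ← this, two_smul, ← map_add]
      congr 1
      simp only [map_add, smul_add, two_smul]
      abel
    exact (smul_eq_zero.mp h22).resolve_left h2
  · intro ω
    obtain ⟨i, hi, rfl⟩ := Θ_surjective_on_ideal k A ω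
    have hμi : μ k A i = 0 := (mem_ideal_iff k A i).mp hi
    refine ⟨(2 : k)⁻¹ • i, 0, ?_, ?_⟩
    · show μ k A _ = μ k A 0
      rw [map_smul, hμi, smul_zero, map_zero]
    · rw [hψΘ, map_zero, sub_zero, smul_inv_smul₀ h2]

end S13

end Groth.Agent.Lib.Helper11.Diag
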