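import Groth.Statements.S12102
import Groth.Agent.Lib.Helper13.PCBottom
import Groth.Agent.Lib.Helper13.PCTriangle
import Groth.Agent.Lib.Helper13.PCCoherent2
import Mathlib.Algebra.Homology.Augment
import Mathlib.Algebra.Homology.Embedding.ExtendHomology

set_option autoImplicit false
universe w v u
open CategoryTheory CategoryTheory.Limits ZeroObject

namespace Groth.Agent.Lib.Helper11.NPres

open Groth.Agent.Lib.Helper13.PC PCoh

variable {C : Type u} [Category.{v} C] [Abelian C] [HasDerivedCategory.{w} C]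
variable (P : ObjectProperty C) [P.IsClosedUnderIsomorphisms] [P.ContainsZero]

/-- `F` has an `n`-presentation by objects of `P` (recursive form). -/
def HasPres : ℕ → C → Prop
  | 0, F => IsOfFiniteType P F
  | n + 1, F => ∃ (E : C) (π : E ⟶ F), P E ∧ Epi π ∧ HasPres n (kernel π)

lemma shortExact_kernel' {E M : C} (π : E ⟶ M) [Epi π] :
    (ShortComplex.mk (kernel.ι π) π (kernel.condition π)).ShortExact :=
  { exact := ShortComplex.exact_kernel π
    mono_f := inferInstanceAs (Mono (kernel.ι π))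
    epi_g := inferInstanceAs (Epi π) }

variable {P}
variable (hsum : ∀ X Y : C, P X → P Y → P (X ⨯ Y))
  (hqs : IsQuasiStableUnderKernels P) (hql : IsQuasiLiftable P)

include hsum hqs hql in
lemma hasPres_of_isNPC (n : ℕ) : ∀ (F : C),
    IsNPC P (-(n : ℤ)) ((DerivedCategory.singleFunctor C 0).obj F) → HasPres P n F := by
  induction n with
  | zero =>
    intro F h
    exact isOfFiniteType_of_isNPC_single hqs (by simpa using h)
  | succ n ih =>
    intro F h
    obtain ⟨E, π, hE, hπ⟩ : IsOfFiniteType P F :=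
      isOfFiniteType_of_isNPC_single hqs (h.of_le (by push_cast; omega))
    refine ⟨E, π, hE, hπ, ih _ ?_⟩
    have hS := shortExact_kernel' π
    have h₂ : IsNPC P (-((n + 1 : ℕ) : ℤ) + 1) ((DerivedCategory.singleFunctor C 0).obj E) :=
      isNPC_single (P := P) 0 (X := E) hE _
    have := isNPC_obj₁ hsum hqs hql _ hS.singleTriangle_distinguished h₂ h
    have e : (-((n + 1 : ℕ) : ℤ)) + 1 = -(n : ℤ) := by push_cast; ring
    rw [e] at this
    exact this

include hsum hqs hql in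
lemma isNPC_of_hasPres (n : ℕ) : ∀ (F : C), HasPres P n F →
    IsNPC P (-(n : ℤ)) ((DerivedCategory.singleFunctor C 0).obj F) := by
  induction n with
  | zero =>
    intro F h
    simpa using isNPC_single_of_isOfFiniteType (P := P) hsum hql h
  | succ n ih =>
    rintro F ⟨E, π, hE, hπ, hK⟩
    have hS := shortExact_kernel' π
    have h₁ := ih _ hK
    have h₂ : IsNPC P (-((n + 1 : ℕ) : ℤ)) ((DerivedCategory.singleFunctor C 0).obj E) :=
      isNPC_single (P := P) 0 (X := E) hE _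
    refine isNPC_obj₃ hsum hqs hql _ hS.singleTriangle_distinguished ?_ h₂
    have e : (-((n + 1 : ℕ) : ℤ)) + 1 = -(n : ℤ) := by push_cast; ring
    rw [e]
    exact h₁


include hsum hqs hql in
/-- (A) ⟹ (B). -/
theorem isNPC_of_chainComplex (F : C) (n : ℕ) (K : ChainComplex C ℕ) (φ : K.X 0 ≅ F)
    (hex : ∀ j : ℕ, j ≤ n → K.ExactAt j) (hP : ∀ j : ℕ, 1 ≤ j → j ≤ n + 1 → P (K.X j)) :
    IsNPC P (-(n : ℤ)) ((DerivedCategory.singleFunctor C 0).obj F) := by
  let e := ComplexShape.embeddingDownNat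
  let E : CochainComplex C ℤ := K.extend e
  have hX : ∀ k : ℕ, E.X (-(k : ℤ)) ≅ K.X k := fun k => K.extendXIso e (by simp [e])
  have hE : ∀ k : ℕ, k ≤ n → E.ExactAt (-(k : ℤ)) := fun k hk =>
    (K.extend_exactAt_iff e (j := k) (by simp [e])).2 (hex k hk)
  have key : ∀ j : ℕ, j ≤ n → IsNPC P (-(j : ℤ))
      ((DerivedCategory.singleFunctor C 0).obj (E.cycles (-(n : ℤ) + j))) := by
    intro j
    induction j with
    | zero =>
      intro _
      have hepi : Epi (E.toCycles (-((n + 1 : ℕ) : ℤ)) (-(n : ℤ))) :=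
        epi_toCycles_of_exactAt E _ _ (by push_cast; ring) (hE n le_rfl)
      have hft : IsOfFiniteType P (E.cycles (-(n : ℤ))) :=
        ⟨_, E.toCycles (-((n + 1 : ℕ) : ℤ)) (-(n : ℤ)),
          (P.prop_iff_of_iso (hX (n + 1))).2 (hP (n + 1) (by omega) le_rfl), hepi⟩
      have := isNPC_single_of_isOfFiniteType (P := P) hsum hql hft
      simpa using this
    | succ j ih =>
      intro hj
      have ih' := ih (by omega)
      obtain ⟨k, hk, hkn⟩ : ∃ k : ℕ, (-(n : ℤ) + j) = -(k : ℤ) ∧ 1 ≤ k ∧ k ≤ n :=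
        ⟨n - j, by omega, by omega, by omega⟩
      obtain ⟨k', hk', hkn'⟩ : ∃ k' : ℕ, (-(n : ℤ) + j + 1) = -(k' : ℤ) ∧ k' ≤ n :=
        ⟨n - j - 1, by omega, by omega⟩
      have hS : (cyclesSC E (-(n : ℤ) + j) (-(n : ℤ) + j + 1)).ShortExact :=
        { exact := cyclesSC_exact E _ _ rfl
          mono_f := inferInstanceAs (Mono (E.iCycles _))
          epi_g := epi_toCycles_of_exactAt E _ _ rfl (by rw [hk']; exact hE k' hkn') }
      have hPX : P (E.X (-(n : ℤ) + j)) := by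
        rw [hk]; exact (P.prop_iff_of_iso (hX k)).2 (hP k hkn.1 (by omega))
      have h₂ : IsNPC P (-((j + 1 : ℕ) : ℤ))
          ((DerivedCategory.singleFunctor C 0).obj (E.X (-(n : ℤ) + j))) :=
        isNPC_single (P := P) 0 (X := E.X (-(n : ℤ) + j)) hPX _
      have := isNPC_obj₃ hsum hqs hql _ hS.singleTriangle_distinguished
        (by
          have e' : (-((j + 1 : ℕ) : ℤ)) + 1 = -(j : ℤ) := by push_cast; ring
          rw [e']; exact ih') h₂
      have e'' : (-(n : ℤ) + ((j + 1 : ℕ) : ℤ)) = -(n : ℤ) + j + 1 := by push_cast; ring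
      rw [e'']
      exact this
  have h0 := key n le_rfl
  have hz1 : IsZero (E.X 1) := K.isZero_extend_X e 1 (fun k => by simp [e]; omega)
  have : IsIso (E.iCycles 0) := E.isIso_iCycles 0 1 (by simp) (hz1.eq_of_tgt _ _)
  have e0 : (-(n : ℤ) + (n : ℤ)) = 0 := by ring
  rw [e0] at h0
  have iso : E.cycles 0 ≅ F := asIso (E.iCycles 0) ≪≫ (by simpa using hX 0) ≪≫ φ
  exact h0.of_iso ((DerivedCategory.singleFunctor C 0).mapIso iso)


section splice

omit [HasDerivedCategory.{w} C]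

lemma exactAt_zero_of_epi (K : ChainComplex C ℕ) (h : Epi (K.d 1 0)) : K.ExactAt 0 := by
  rw [K.exactAt_iff' 1 0 0 (by simp) (by simp)]
  exact (ShortComplex.exact_iff_epi _ (K.shape 0 0 (by simp))).2 h

lemma epi_of_exactAt_zero (K : ChainComplex C ℕ) (h : K.ExactAt 0) : Epi (K.d 1 0) := by
  rw [K.exactAt_iff' 1 0 0 (by simp) (by simp)] at h
  exact (ShortComplex.exact_iff_epi _ (K.shape 0 0 (by simp))).1 h

variable {E F : C} (K' : ChainComplex C ℕ) (π : E ⟶ F) (φ : K'.X 0 ≅ kernel π)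

/-- the map `K'_1 ⟶ E`. -/
noncomputable def spliceMap : K'.X 1 ⟶ E := K'.d 1 0 ≫ φ.hom ≫ kernel.ι π

/-- intermediate complex: `E` in degree 0, `K'_{j+1}` in degree `j+1`. -/
noncomputable def splice₁ : ChainComplex C ℕ :=
  ChainComplex.augment (ChainComplex.truncate.obj K') (spliceMap K' π φ) (by
    change K'.d 2 1 ≫ K'.d 1 0 ≫ φ.hom ≫ kernel.ι π = 0
    rw [K'.d_comp_d_assoc, zero_comp])

/-- the spliced complex. -/
noncomputable def splice : ChainComplex C ℕ :=
  ChainComplex.augment (splice₁ K' π φ) π (by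
    change spliceMap K' π φ ≫ π = 0
    simp [spliceMap])

lemma splice_d_one_zero : (splice K' π φ).d 1 0 = π := rfl
lemma splice_d_two_one : (splice K' π φ).d 2 1 = spliceMap K' π φ := rfl
lemma splice_d_succ (j : ℕ) : (splice K' π φ).d (j + 3) (j + 2) = K'.d (j + 2) (j + 1) := by
  change (ChainComplex.augment (splice₁ K' π φ) π _).d ((j + 2) + 1) ((j + 1) + 1) = _
  rw [ChainComplex.augment_d_succ_succ]
  change (ChainComplex.augment (ChainComplex.truncate.obj K') (spliceMap K' π φ) _).d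
    ((j + 1) + 1) (j + 1) = _
  rw [ChainComplex.augment_d_succ_succ]
  rfl

lemma splice_exactAt_zero [Epi π] : (splice K' π φ).ExactAt 0 :=
  exactAt_zero_of_epi _ (inferInstanceAs (Epi π))

lemma splice_exactAt_one (h0 : K'.ExactAt 0) : (splice K' π φ).ExactAt 1 := by
  rw [(splice K' π φ).exactAt_iff' 2 1 0 (by simp) (by simp)]
  have hepi : Epi (K'.d 1 0) := epi_of_exactAt_zero K' h0
  let S₂ : ShortComplex C := ShortComplex.mk (kernel.ι π) π (kernel.condition π)
  let ψ : (splice K' π φ).sc' 2 1 0 ⟶ S₂ :=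
    { τ₁ := K'.d 1 0 ≫ φ.hom
      τ₂ := 𝟙 _
      τ₃ := 𝟙 _
      comm₁₂ := by
        change (K'.d 1 0 ≫ φ.hom) ≫ kernel.ι π = (splice K' π φ).d 2 1 ≫ 𝟙 _
        rw [splice_d_two_one, spliceMap, Category.comp_id, Category.assoc]
      comm₂₃ := by
        change 𝟙 _ ≫ π = (splice K' π φ).d 1 0 ≫ 𝟙 _
        rw [splice_d_one_zero, Category.comp_id, Category.id_comp] }
  have : Epi ψ.τ₁ := inferInstanceAs (Epi (K'.d 1 0 ≫ φ.hom))
  have : IsIso ψ.τ₂ := inferInstanceAs (IsIso (𝟙 E))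
  have : Mono ψ.τ₃ := inferInstanceAs (Mono (𝟙 F))
  exact (ShortComplex.exact_iff_of_epi_of_isIso_of_mono ψ).2 (ShortComplex.exact_kernel π)

lemma splice_exactAt_two (h1 : K'.ExactAt 1) : (splice K' π φ).ExactAt 2 := by
  rw [(splice K' π φ).exactAt_iff' 3 2 1 (by simp) (by simp)]
  rw [K'.exactAt_iff' 2 1 0 (by simp) (by simp)] at h1
  let ψ : K'.sc' 2 1 0 ⟶ (splice K' π φ).sc' 3 2 1 :=
    { τ₁ := 𝟙 _
      τ₂ := 𝟙 _
      τ₃ := φ.hom ≫ kernel.ι π
      comm₁₂ := by
        change 𝟙 _ ≫ (splice K' π φ).d 3 2 = K'.d 2 1 ≫ 𝟙 _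
        rw [splice_d_succ K' π φ 0, Category.comp_id, Category.id_comp]
      comm₂₃ := by
        change 𝟙 _ ≫ (splice K' π φ).d 2 1 = K'.d 1 0 ≫ φ.hom ≫ kernel.ι π
        rw [splice_d_two_one, spliceMap, Category.id_comp] }
  have : Epi ψ.τ₁ := inferInstanceAs (Epi (𝟙 (K'.X 2)))
  have : IsIso ψ.τ₂ := inferInstanceAs (IsIso (𝟙 (K'.X 1)))
  have : Mono ψ.τ₃ := inferInstanceAs (Mono (φ.hom ≫ kernel.ι π))
  exact (ShortComplex.exact_iff_of_epi_of_isIso_of_mono ψ).1 h1

lemma splice_exactAt_succ (j : ℕ) (h : K'.ExactAt (j + 2)) : (splice K' π φ).ExactAt (j + 3) := by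
  rw [(splice K' π φ).exactAt_iff' (j + 4) (j + 3) (j + 2) (by simp) (by simp)]
  rw [K'.exactAt_iff' (j + 3) (j + 2) (j + 1) (by simp) (by simp)] at h
  refine ShortComplex.exact_of_iso (ShortComplex.isoMk (Iso.refl _) (Iso.refl _) (Iso.refl _) ?_ ?_) h
  · change 𝟙 _ ≫ (splice K' π φ).d (j + 4) (j + 3) = K'.d (j + 3) (j + 2) ≫ 𝟙 _
    rw [splice_d_succ K' π φ (j + 1), Category.comp_id, Category.id_comp]
  · change 𝟙 _ ≫ (splice K' π φ).d (j + 3) (j + 2) = K'.d (j + 2) (j + 1) ≫ 𝟙 _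
    rw [splice_d_succ K' π φ j, Category.comp_id, Category.id_comp]

end splice


omit [HasDerivedCategory.{w} C] in
/-- HasPres ⟹ (A). -/
theorem exists_chainComplex_of_hasPres (n : ℕ) : ∀ (F : C), HasPres P n F →
    ∃ K : ChainComplex C ℕ, Nonempty (K.X 0 ≅ F) ∧ (∀ j : ℕ, j ≤ n → K.ExactAt j) ∧
      (∀ j : ℕ, n + 1 < j → IsZero (K.X j)) ∧ (∀ j : ℕ, 1 ≤ j → j ≤ n + 1 → P (K.X j)) := by
  induction n with
  | zero =>
    rintro F ⟨E, π, hE, hπ⟩
    let S := (ChainComplex.single₀ C).obj E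
    let π' : S.X 0 ⟶ F := (HomologicalComplex.singleObjXSelf (ComplexShape.down ℕ) 0 E).hom ≫ π
    let K := ChainComplex.augment S π' (by
      have : S.d 1 0 = 0 := by simp [S]
      rw [this, zero_comp])
    refine ⟨K, ⟨Iso.refl _⟩, ?_, ?_, ?_⟩
    · intro j hj
      obtain rfl : j = 0 := by omega
      exact exactAt_zero_of_epi K (inferInstanceAs (Epi π'))
    · intro j hj
      obtain ⟨i, rfl⟩ : ∃ i, j = (i + 1) + 1 := ⟨j - 2, by omega⟩
      exact HomologicalComplex.isZero_single_obj_X (ComplexShape.down ℕ) 0 E (i + 1) (by simp)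
    · intro j h1 h2
      obtain rfl : j = 1 := by omega
      exact (P.prop_iff_of_iso (HomologicalComplex.singleObjXSelf (ComplexShape.down ℕ) 0 E)).2 hE
  | succ n ih =>
    rintro F ⟨E, π, hE, hπ, hK⟩
    obtain ⟨K', ⟨φ⟩, hex, hz, hP⟩ := ih _ hK
    refine ⟨splice K' π φ, ⟨Iso.refl _⟩, ?_, ?_, ?_⟩
    · intro j hj
      match j, hj with
      | 0, _ => exact splice_exactAt_zero K' π φ
      | 1, _ => exact splice_exactAt_one K' π φ (hex 0 (by omega))
      | 2, h => exact splice_exactAt_two K' π φ (hex 1 (by omega))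
      | (i + 3), h => exact splice_exactAt_succ K' π φ i (hex (i + 2) (by omega))
    · intro j hj
      obtain ⟨i, rfl⟩ : ∃ i, j = (i + 1) + 1 := ⟨j - 2, by omega⟩
      exact hz (i + 1) (by omega)
    · intro j h1 h2
      match j, h1, h2 with
      | 1, _, _ => exact hE
      | (i + 2), _, h => exact hP (i + 1) (by omega) (by omega)

include hsum hqs hql in
theorem main (F : C) (n : ℕ) :
    (∃ K : ChainComplex C ℕ, Nonempty (K.X 0 ≅ F) ∧ (∀ j : ℕ, j ≤ n → K.ExactAt j) ∧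
        (∀ j : ℕ, n + 1 < j → IsZero (K.X j)) ∧ (∀ j : ℕ, 1 ≤ j → j ≤ n + 1 → P (K.X j))) ↔
      (∃ E : CochainComplex C ℤ, PCoh.IsStrictPC P (-(n : ℤ)) E ∧
        Nonempty (DerivedCategory.Q.obj E ≅ (DerivedCategory.singleFunctor C 0).obj F)) := by
  constructor
  · rintro ⟨K, ⟨φ⟩, hex, -, hP⟩
    exact isNPC_of_chainComplex hsum hqs hql F n K φ hex hP
  · intro h
    exact exists_chainComplex_of_hasPres n F (hasPres_of_isNPC hsum hqs hql n F h)

end Groth.Agent.Lib.Helper11.NPres
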