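import Mathlib.Algebra.Homology.DerivedCategory.ExactFunctor
import Mathlib.Algebra.Homology.DerivedCategory.TStructure
import Mathlib.CategoryTheory.Preadditive.Injective.Basic
import Mathlib.Algebra.Homology.Opposite
import Mathlib.CategoryTheory.Abelian.Opposite
import Groth.Agent.Lib.Helper11.FFRes
import Groth.Agent.Lib.Helper11.NPres
import Groth.Agent.Lib.Helper17.IRes
import Groth.Agent.Lib.Helper13.PCInfinite
import Groth.Agent.Lib.Helper13.PCSingle
import Groth.Agent.Lib.Helper13.PCPerfect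

set_option autoImplicit false
set_option linter.unusedSectionVars false
universe w w' v v' u u'
open CategoryTheory CategoryTheory.Limits PCoh Groth.Agent.Lib.Helper13.PC Opposite ZeroObject

namespace Groth.Agent.Lib.Helper11.DualRes

variable {A' : Type u'} [Category.{v'} A'] [Abelian A']
    {A : Type u} [Category.{v} A] [Abelian A]
    (ι : A' ⥤ A) [ι.Additive] [PreservesFiniteLimits ι] [PreservesFiniteColimits ι] [ι.Full] [ι.Faithful]

/-- objects of `Aᵒᵖ` in the essential image of `ι` and injective in `A`. -/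
def PI : ObjectProperty Aᵒᵖ := fun X => ι.essImage X.unop ∧ Injective X.unop

instance : (PI ι).IsClosedUnderIsomorphisms where
  of_iso {_ _} e h := ⟨ι.essImage.prop_of_iso e.unop.symm h.1,
    haveI := h.2; Injective.of_iso e.unop.symm inferInstance⟩

instance : (PI ι).ContainsZero where
  exists_zero := ⟨op 0, (isZero_zero A).op, ⟨0, ⟨(ι.mapZeroObject)⟩⟩, inferInstance⟩

/-- the essential image is closed under cokernels. -/
lemma essImage_cokernel {X Y : A} (f : X ⟶ Y) (hX : ι.essImage X) (hY : ι.essImage Y) :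
    ι.essImage (cokernel f) := by
  obtain ⟨X', ⟨eX⟩⟩ := hX
  obtain ⟨Y', ⟨eY⟩⟩ := hY
  let g : X' ⟶ Y' := ι.preimage (eX.hom ≫ f ≫ eY.inv)
  have hg : ι.map g = eX.hom ≫ f ≫ eY.inv := ι.map_preimage _
  refine ⟨cokernel g, ⟨(PreservesCokernel.iso ι g) ≪≫ cokernel.mapIso _ _ eX eY ?_⟩⟩
  rw [hg]; simp

lemma hsum : ∀ X Y : Aᵒᵖ, PI ι X → PI ι Y → PI ι (X ⨯ Y) := by
  intro X Y hX hY
  have e : (X ⨯ Y).unop ≅ X.unop ⊞ Y.unop :=
    (biprod.isoProd X Y).unop ≪≫ Groth.Agent.Lib.Helper17.IRes.unopBiprodIso X Y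
  obtain ⟨X', ⟨eX⟩⟩ := hX.1
  obtain ⟨Y', ⟨eY⟩⟩ := hY.1
  have := hX.2
  have := hY.2
  have : PreservesBinaryBiproducts ι := preservesBinaryBiproducts_of_preservesBiproducts ι
  refine ⟨ι.essImage.prop_of_iso e.symm ⟨X' ⊞ Y', ⟨ι.mapBiprod X' Y' ≪≫ biprod.mapIso eX eY⟩⟩,
    Injective.of_iso e.symm inferInstance⟩

lemma hql : IsQuasiLiftable (PI ι) := by
  intro E F u hu hF
  have := hF.2
  have : Mono u.unop := inferInstance
  refine ⟨F, (Injective.factorThru (𝟙 F.unop) u.unop).op, hF, ?_⟩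
  have : (Injective.factorThru (𝟙 F.unop) u.unop).op ≫ u = 𝟙 F := by
    apply Quiver.Hom.unop_inj
    simp
  rw [this]
  infer_instance

lemma hst : ∀ (E F : Aᵒᵖ) (u : E ⟶ F), Epi u → PI ι E → PI ι F → PI ι (kernel u) := by
  intro E F u hu hE hF
  have e : (kernel u).unop ≅ cokernel u.unop := (cokernelUnopOp u).unop
  have := hF.2
  have := hE.2
  have : Mono u.unop := inferInstance
  refine ⟨ι.essImage.prop_of_iso e.symm (essImage_cokernel ι u.unop hF.1 hE.1), ?_⟩
  -- cokernel of a split mono is a retract of `E.unop`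
  let r : E.unop ⟶ F.unop := Injective.factorThru (𝟙 F.unop) u.unop
  have hr : u.unop ≫ r = 𝟙 _ := Injective.comp_factorThru _ _
  -- section of cokernel.π
  let s : cokernel u.unop ⟶ E.unop := cokernel.desc u.unop (𝟙 _ - r ≫ u.unop) (by
    rw [Preadditive.comp_sub, Category.comp_id, reassoc_of% hr, sub_self])
  have hs : s ≫ cokernel.π u.unop = 𝟙 _ := by
    apply coequalizer.hom_ext
    simp [s, Preadditive.sub_comp]
  exact Injective.of_iso e.symm (Retract.injective (Y := E.unop) ⟨s, cokernel.π u.unop, hs⟩)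

section
variable {C : Type*} [Category C] [Abelian C] (P : ObjectProperty C)

lemma hasPres_iso (n : ℕ) : ∀ {F F' : C} (_ : F ≅ F'), NPres.HasPres P n F → NPres.HasPres P n F' := by
  induction n with
  | zero => exact fun e h => isOfFiniteType_of_iso P e h
  | succ n ih =>
    rintro F F' e ⟨E, π, hE, hπ, hk⟩
    exact ⟨E, π ≫ e.hom, hE, epi_comp _ _, ih (kernelCompMono π e.hom).symm hk⟩

end

section Flip
variable {C : Type*} [Category C] [Abelian C]
open FFRes

/-- flip: `K ↦` the complex in `Cᵒᵖ` with `X n = op (K.X (-n))`. -/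
noncomputable def flipOp (K : CochainComplex C ℤ) : CochainComplex Cᵒᵖ ℤ :=
  HomologicalComplex.restriction (show ChainComplex Cᵒᵖ ℤ from K.op) eUD

/-- flip back. -/
noncomputable def flipUnop (E : CochainComplex Cᵒᵖ ℤ) : CochainComplex C ℤ :=
  HomologicalComplex.restriction (show ChainComplex C ℤ from E.unop) eUD

/-- (contravariant) functoriality of `flipUnop`. -/
noncomputable def flipUnopMap {E E' : CochainComplex Cᵒᵖ ℤ} (u : E ⟶ E') :
    flipUnop E' ⟶ flipUnop E :=
  HomologicalComplex.restrictionMap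
    (show (show ChainComplex C ℤ from E'.unop) ⟶ (show ChainComplex C ℤ from E.unop) from
      (HomologicalComplex.unopFunctor C _).map u.op) eUD

noncomputable def flipUnopOpIso (K : CochainComplex C ℤ) : flipUnop (flipOp K) ≅ K :=
  HomologicalComplex.Hom.isoOfComponents (fun i => K.XIsoOfEq (neg_neg i)) (by
    intro i j _
    change (K.XIsoOfEq (neg_neg i)).hom ≫ K.d i j = K.d (-(-i)) (-(-j)) ≫ (K.XIsoOfEq (neg_neg j)).hom
    simp)

lemma quasiIsoAt_restrictionMap_eUD {K L : ChainComplex C ℤ} (f : K ⟶ L) (j : ℤ)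
    (h : QuasiIsoAt f (-j)) : QuasiIsoAt (HomologicalComplex.restrictionMap f eUD) j := by
  rw [quasiIsoAt_iff' _ (j - 1) j (j + 1) (by simp) (by simp)]
  rw [quasiIsoAt_iff' _ (-(j - 1)) (-j) (-(j + 1)) (by simp; omega) (by simp; omega)] at h
  exact h

lemma quasiIso_flipUnopMap {E E' : CochainComplex Cᵒᵖ ℤ} (u : E ⟶ E') [QuasiIso u] :
    QuasiIso (flipUnopMap u) := by
  rw [quasiIso_iff]
  intro j
  apply quasiIsoAt_restrictionMap_eUD
  exact (HomologicalComplex.quasiIsoAt_unopFunctor_map_iff u (-j)).2 inferInstance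

/-- homology of `flipOp`. -/
noncomputable def flipOpHomologyIso (K : CochainComplex C ℤ) (i : ℤ) :
    (flipOp K).homology i ≅ op (K.homology (-i)) :=
  flipHomologyIso (show ChainComplex Cᵒᵖ ℤ from K.op) i ≪≫ K.homologyOp (-i)

end Flip

/-- lift a complex with terms in the essential image. -/
lemma exists_lift_cx (K : CochainComplex A ℤ) (hK : ∀ n, ι.essImage (K.X n)) :
    ∃ (K' : CochainComplex A' ℤ), Nonempty ((ι.mapHomologicalComplex _).obj K' ≅ K) := by
  let e : ∀ n, ι.obj (hK n).witness ≅ K.X n := fun n => (hK n).getIso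
  let K' : CochainComplex A' ℤ :=
    { X := fun n => (hK n).witness
      d := fun i j => ι.preimage ((e i).hom ≫ K.d i j ≫ (e j).inv)
      shape := fun i j h => by
        apply ι.map_injective
        rw [ι.map_preimage, K.shape i j h, zero_comp, comp_zero, Functor.map_zero]
      d_comp_d' := fun i j k _ _ => by
        apply ι.map_injective
        rw [Functor.map_comp, ι.map_preimage, ι.map_preimage, Functor.map_zero]
        simp }
  refine ⟨K', ⟨HomologicalComplex.Hom.isoOfComponents e ?_⟩⟩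
  intro i j _
  change (e i).hom ≫ K.d i j = ι.map (ι.preimage ((e i).hom ≫ K.d i j ≫ (e j).inv)) ≫ (e j).hom
  rw [ι.map_preimage]
  simp

lemma isZero_of_isZero_obj {X : A'} (h : IsZero (ι.obj X)) : IsZero X := by
  rw [IsZero.iff_id_eq_zero]
  apply ι.map_injective
  rw [Functor.map_zero]
  exact h.eq_of_src _ _

variable (hinj : ∀ X' : A', ∃ (Y' : A') (i : X' ⟶ Y'), Mono i ∧ Injective (ι.obj Y'))
include hinj

lemma hasPres_op (n : ℕ) : ∀ (H' : A), ι.essImage H' → NPres.HasPres (PI ι) n (op H') := by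
  induction n with
  | zero =>
    rintro H' ⟨X', ⟨e⟩⟩
    obtain ⟨Y', i, hi, hY'⟩ := hinj X'
    have : Mono (ι.map i) := inferInstance
    exact ⟨op (ι.obj Y'), (e.inv ≫ ι.map i).op, ⟨⟨Y', ⟨Iso.refl _⟩⟩, hY'⟩, inferInstance⟩
  | succ n ih =>
    rintro H' ⟨X', ⟨e⟩⟩
    obtain ⟨Y', i, hi, hY'⟩ := hinj X'
    have : Mono (ι.map i) := inferInstance
    refine ⟨op (ι.obj Y'), (e.inv ≫ ι.map i).op, ⟨⟨Y', ⟨Iso.refl _⟩⟩, hY'⟩, inferInstance, ?_⟩
    exact hasPres_iso _ n (kernelOpOp (e.inv ≫ ι.map i)).symm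
      (ih _ (essImage_cokernel ι _ ⟨X', ⟨e⟩⟩ ⟨Y', ⟨Iso.refl _⟩⟩))

open DerivedCategory in
theorem main [HasDerivedCategory.{w'} A'] [HasDerivedCategory.{w} A]
    (Z : DerivedCategory A) (a : ℤ) [Z.IsGE a]
    (hZ : ∀ i : ℤ, ι.essImage ((DerivedCategory.homologyFunctor A i).obj Z)) :
    ∃ (I : CochainComplex A' ℤ), I.IsStrictlyGE a ∧ (∀ n : ℤ, Injective (ι.obj (I.X n))) ∧
      Nonempty (ι.mapDerivedCategory.obj (DerivedCategory.Q.obj I) ≅ Z) := by
  obtain ⟨Z₀, hZ₀, ⟨eZ⟩⟩ := Z.exists_iso_Q_obj_of_isGE a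
  let _ : HasDerivedCategory Aᵒᵖ := HasDerivedCategory.standard _
  have hqs : IsQuasiStableUnderKernels (PI ι) := isQuasiStableUnderKernels_of_hst (P := PI ι) (hst ι)
  -- homology of Z₀
  have hZ₀' : ∀ j : ℤ, ι.essImage (Z₀.homology j) := fun j =>
    ι.essImage.prop_of_iso ((DerivedCategory.homologyFunctor A j).mapIso eZ ≪≫
      (DerivedCategory.homologyFunctorFactors A j).app Z₀) (hZ j)
  let F := flipOp Z₀
  have hFz : ∀ i : ℤ, -a < i → IsZero (F.homology i) := fun i hi =>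
    IsZero.of_iso (Z₀.exactAt_of_isGE a (-i) (by lia)).isZero_homology.op
      (flipOpHomologyIso Z₀ i)
  have hsingle : ∀ (H' : A), ι.essImage H' → ∀ m : ℤ,
      IsNPC (PI ι) m ((DerivedCategory.singleFunctor Aᵒᵖ 0).obj (op H')) := fun H' hH' m =>
    (NPres.isNPC_of_hasPres (hsum ι) hqs (hql ι) (-m).toNat _
      (hasPres_op ι hinj (-m).toNat H' hH')).of_le (by lia)
  have hF : IsPC (PI ι) (Q.obj F) := fun n =>
    isNPC_of_homology (hsum ι) hqs (hql ι) (Q.obj F) (-a)
      (fun i hi => IsZero.of_iso (hFz i hi) (homologyQIso F i))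
      (fun i _ => (hsingle _ (hZ₀' (-i)) (n - i)).of_iso
        ((DerivedCategory.singleFunctor Aᵒᵖ 0).mapIso
          (homologyQIso F i ≪≫ flipOpHomologyIso Z₀ i).symm))
  obtain ⟨E', u', hP, hz, hq⟩ := exists_strictPCAll_quasiIso (hsum ι) hqs (hql ι) F hF (-a + 1)
    (fun i hi => hFz i (by lia))
  let I₀ := flipUnop E'
  let α : Z₀ ⟶ I₀ := (flipUnopOpIso Z₀).inv ≫ flipUnopMap u'
  have hα : QuasiIso α := by
    have := quasiIso_flipUnopMap u'
    infer_instance
  have : IsIso (Q.map α) := by rw [isIso_Q_map_iff_quasiIso]; exact hα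
  obtain ⟨I, ⟨eI⟩⟩ := exists_lift_cx ι I₀ (fun n => (hP (-n)).1)
  have eIn : ∀ n, ι.obj (I.X n) ≅ (E'.X (-n)).unop := fun n =>
    (HomologicalComplex.eval _ _ n).mapIso eI
  refine ⟨I, ?_, fun n => ?_, ⟨?_⟩⟩
  · rw [CochainComplex.isStrictlyGE_iff]
    intro n hn
    exact isZero_of_isZero_obj ι (IsZero.of_iso (hz (-n) (by lia)).unop (eIn n))
  · have := (hP (-n)).2
    exact Injective.of_iso (eIn n).symm inferInstance
  · exact (ι.mapDerivedCategoryFactors).app I ≪≫ Q.mapIso eI ≪≫ (asIso (Q.map α)).symm ≪≫ eZ.symm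

end Groth.Agent.Lib.Helper11.DualRes
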