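import Mathlib

set_option autoImplicit false
universe u

namespace Groth.Agent.Lib.Helper11.Dynk

section comb
variable {ι : Type u} [DecidableEq ι] (a : ι → ι → ℤ) (S : Finset ι)

/-- the hypotheses on a (generalised) Cartan matrix restricted to `S` -/
structure Hyp : Prop where
  nonpos : ∀ i ∈ S, ∀ j ∈ S, i ≠ j → a i j ≤ 0
  zero_iff : ∀ i ∈ S, ∀ j ∈ S, a i j = 0 → a j i = 0
  neg_one : ∀ i ∈ S, ∀ j ∈ S, i ≠ j → a i j ≤ -2 → a j i = -1
  posdef : ∀ T : Finset ι, T ⊆ S → T.Nonempty → ∀ w : ι → ℤ, (∀ t ∈ T, 0 < w t) →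
    ¬ (∀ t ∈ T, 2 * w t + ∑ s ∈ T.erase t, w s * a s t ≤ 0)

/-- neighbours of `t` inside `T` -/
def nbr (T : Finset ι) (t : ι) : Finset ι := (T.erase t).filter (fun s => a s t ≠ 0)

variable {a S}

theorem mem_nbr {T : Finset ι} {t s : ι} : s ∈ nbr a T t ↔ s ∈ T ∧ s ≠ t ∧ a s t ≠ 0 := by
  simp only [nbr, Finset.mem_filter, Finset.mem_erase, ne_eq]
  tauto

theorem sum_erase_eq_sum_nbr (T : Finset ι) (t : ι) (w : ι → ℤ) :
    ∑ s ∈ T.erase t, w s * a s t = ∑ s ∈ nbr a T t, w s * a s t := by
  unfold nbr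
  rw [Finset.sum_filter]
  apply Finset.sum_congr rfl
  intro s _
  split_ifs with h
  · rfl
  · rw [not_not] at h
    rw [h, mul_zero]

/-- a good vertex: isolated, or a leaf whose edge has coefficient `-1` on its side -/
def Good (T : Finset ι) (v : ι) : Prop :=
  nbr a T v = ∅ ∨ ∃ u, nbr a T v = {u} ∧ a v u = -1

theorem exists_good (h : Hyp a S) (T : Finset ι) (hT : T ⊆ S) (hne : T.Nonempty) :
    ∃ v ∈ T, Good (a := a) T v := by
  classical
  by_contra hcon
  replace hcon : ∀ v ∈ T, ¬ Good (a := a) T v := fun v hv hg => hcon ⟨v, hv, hg⟩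
  -- every vertex is not good
  have hnz : ∀ {s t}, s ∈ T → t ∈ T → a s t ≠ 0 → a t s ≠ 0 := by
    intro s t hs ht hst hts
    exact hst (h.zero_iff t (hT ht) s (hT hs) hts)
  have hle : ∀ {s t}, s ∈ T → t ∈ T → s ≠ t → a s t ≠ 0 → a s t ≤ -1 := by
    intro s t hs ht hst hne'
    have := h.nonpos s (hT hs) t (hT ht) hst
    omega
  -- bad leaves
  have hleaf : ∀ {t u}, t ∈ T → nbr a T t = {u} → u ∈ T ∧ u ≠ t ∧ a t u ≤ -2 ∧ a u t = -1 := by
    intro t u ht hu
    have hmem : u ∈ nbr a T t := by rw [hu]; exact Finset.mem_singleton_self u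
    obtain ⟨huT, hut, hau⟩ := mem_nbr.1 hmem
    have h1 : a t u ≠ 0 := hnz huT ht hau
    have h2 : a t u ≤ -1 := hle ht huT (Ne.symm hut) h1
    have h3 : a t u ≠ -1 := by
      intro h3
      exact hcon t ht (Or.inr ⟨u, hu, h3⟩)
    have h4 : a t u ≤ -2 := by omega
    exact ⟨huT, hut, h4, h.neg_one t (hT ht) u (hT huT) (Ne.symm hut) h4⟩
  let w : ι → ℤ := fun t => if (nbr a T t).card = 1 then 1 else 2
  have hwpos : ∀ t ∈ T, 0 < w t := by
    intro t _
    simp only [w]
    split_ifs <;> norm_num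
  refine h.posdef T hT hne w hwpos (fun t ht => ?_)
  rw [sum_erase_eq_sum_nbr]
  by_cases hc : (nbr a T t).card = 1
  · obtain ⟨u, hu⟩ := Finset.card_eq_one.1 hc
    obtain ⟨huT, hut, h4, h5⟩ := hleaf ht hu
    have hwt : w t = 1 := by simp only [w]; rw [if_pos hc]
    have hwu : w u = 2 := by
      simp only [w]
      rw [if_neg]
      intro hcu
      obtain ⟨t', ht'⟩ := Finset.card_eq_one.1 hcu
      have : t ∈ nbr a T u := mem_nbr.2 ⟨ht, Ne.symm hut, by omega⟩
      rw [ht', Finset.mem_singleton] at this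
      subst this
      exact hcon u huT (Or.inr ⟨t, ht', h5⟩)
    rw [hu, Finset.sum_singleton, hwt, hwu, h5]
    norm_num
  · have hc0 : (nbr a T t).card ≠ 0 := by
      intro h0
      exact hcon t ht (Or.inl (Finset.card_eq_zero.1 h0))
    have hc2 : 2 ≤ (nbr a T t).card := by omega
    have hwt : w t = 2 := by simp only [w]; rw [if_neg hc]
    have hterm : ∀ s ∈ nbr a T t, w s * a s t ≤ -2 := by
      intro s hs
      obtain ⟨hsT, hst, hast⟩ := mem_nbr.1 hs
      by_cases hcs : (nbr a T s).card = 1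
      · obtain ⟨t', ht'⟩ := Finset.card_eq_one.1 hcs
        have : t ∈ nbr a T s := mem_nbr.2 ⟨ht, Ne.symm hst, hnz hsT ht hast⟩
        rw [ht', Finset.mem_singleton] at this
        subst this
        obtain ⟨-, -, h4, -⟩ := hleaf hsT ht'
        have hws : w s = 1 := by simp only [w]; rw [if_pos hcs]
        rw [hws, one_mul]
        exact h4
      · have hws : w s = 2 := by simp only [w]; rw [if_neg hcs]
        have := hle hsT ht hst hast
        rw [hws]
        omega
    have hsum : ∑ s ∈ nbr a T t, w s * a s t ≤ (nbr a T t).card • (-2 : ℤ) :=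
      Finset.sum_le_card_nsmul _ _ _ hterm
    rw [hwt]
    rw [nsmul_eq_mul] at hsum
    have : ((nbr a T t).card : ℤ) ≥ 2 := by exact_mod_cast hc2
    nlinarith

theorem exists_solution (h : Hyp a S) (e : ι → ι → ℤ)
    (hanti : ∀ i j, e j i = - e i j)
    (hzero : ∀ i ∈ S, ∀ j ∈ S, i ≠ j → a i j = 0 → e i j = 0) :
    ∀ T : Finset ι, T ⊆ S → ∃ c : ι → ℤ, ∀ i ∈ T, ∀ j ∈ T, i ≠ j →
      a j i * c j - a i j * c i = e i j := by
  classical
  intro T
  induction T using Finset.strongInduction with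
  | H T ih =>
    intro hT
    rcases T.eq_empty_or_nonempty with rfl | hne
    · exact ⟨fun _ => 0, by simp⟩
    obtain ⟨v, hv, hgood⟩ := exists_good h T hT hne
    obtain ⟨c', hc'⟩ := ih (T.erase v) (Finset.erase_ssubset hv)
      ((Finset.erase_subset v T).trans hT)
    -- facts on non-neighbours
    have hnon : ∀ s ∈ T, s ≠ v → s ∉ nbr a T v → a s v = 0 ∧ a v s = 0 := by
      intro s hs hsv hn
      have h1 : a s v = 0 := by
        by_contra h1
        exact hn (mem_nbr.2 ⟨hs, hsv, h1⟩)
      exact ⟨h1, h.zero_iff s (hT hs) v (hT hv) h1⟩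
    rcases hgood with hiso | ⟨u, hu, hvu⟩
    · refine ⟨c', ?_⟩
      intro i hi j hj hij
      by_cases hiv : i = v
      · subst hiv
        obtain ⟨h1, h2⟩ := hnon j hj (Ne.symm hij) (by rw [hiso]; exact Finset.notMem_empty j)
        rw [h1, h2, zero_mul, zero_mul, sub_zero]
        exact (hzero i (hT hi) j (hT hj) hij h2).symm
      · by_cases hjv : j = v
        · subst hjv
          obtain ⟨h1, h2⟩ := hnon i hi hij (by rw [hiso]; exact Finset.notMem_empty i)
          rw [h1, h2, zero_mul, zero_mul, sub_zero]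
          exact (hzero i (hT hi) j (hT hj) hij h1).symm
        · exact hc' i (Finset.mem_erase.2 ⟨hiv, hi⟩) j (Finset.mem_erase.2 ⟨hjv, hj⟩) hij
    · have humem : u ∈ nbr a T v := by rw [hu]; exact Finset.mem_singleton_self u
      obtain ⟨huT, huv, hauv⟩ := mem_nbr.1 humem
      refine ⟨Function.update c' v (-(e u v + a u v * c' u)), ?_⟩
      intro i hi j hj hij
      by_cases hiv : i = v
      · subst hiv
        rw [Function.update_self, Function.update_of_ne (Ne.symm hij)]
        by_cases hju : j = u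
        · subst hju
          rw [hvu, hanti j i]
          ring
        · obtain ⟨h1, h2⟩ := hnon j hj (Ne.symm hij) (by rw [hu, Finset.mem_singleton]; exact hju)
          rw [h1, h2, zero_mul, zero_mul, sub_zero]
          exact (hzero i (hT hi) j (hT hj) hij h2).symm
      · by_cases hjv : j = v
        · subst hjv
          rw [Function.update_self, Function.update_of_ne hiv]
          by_cases hiu : i = u
          · subst hiu
            rw [hvu]
            ring
          · obtain ⟨h1, h2⟩ := hnon i hi hij (by rw [hu, Finset.mem_singleton]; exact hiu)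
            rw [h1, h2, zero_mul, zero_mul, sub_zero]
            exact (hzero i (hT hi) j (hT hj) hij h1).symm
        · rw [Function.update_of_ne hiv, Function.update_of_ne hjv]
          exact hc' i (Finset.mem_erase.2 ⟨hiv, hi⟩) j (Finset.mem_erase.2 ⟨hjv, hj⟩) hij

end comb

end Groth.Agent.Lib.Helper11.Dynk
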