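import Groth.Agent.Lib.Helper11.Dynk1

set_option autoImplicit false
universe u v w x

namespace Groth.Agent.Lib.Helper11.Dynk
open Submodule Set

section root
variable {ι : Type u} {R : Type v} {M : Type w} {N : Type x} [CommRing R] [IsDomain R] [CharZero R]
    [AddCommGroup M] [Module R M] [AddCommGroup N] [Module R N] (P : RootPairing ι R M N)
    [Finite ι] [P.IsCrystallographic] [P.IsReduced] (b : P.Base)

theorem two_mul_posForm [Fintype ι] (i j : ι) :
    2 * (P.posRootForm ℤ).posForm (P.rootSpanMem ℤ i) (P.rootSpanMem ℤ j)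
      = P.pairingIn ℤ i j * (P.posRootForm ℤ).posForm (P.rootSpanMem ℤ j) (P.rootSpanMem ℤ j) := by
  apply FaithfulSMul.algebraMap_injective ℤ R
  have := (P.posRootForm ℤ).toInvariantForm.two_mul_apply_root_root i j
  rw [map_mul, map_mul, (P.posRootForm ℤ).algebraMap_posForm, (P.posRootForm ℤ).algebraMap_posForm,
    P.algebraMap_pairingIn, map_ofNat]
  exact this

theorem posdef_aux [DecidableEq ι] (T : Finset ι) (hT : T ⊆ b.support) (hne : T.Nonempty)
    (wt : ι → ℤ) (hw : ∀ t ∈ T, 0 < wt t)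
    (hcon : ∀ t ∈ T, 2 * wt t + ∑ s ∈ T.erase t, wt s * P.pairingIn ℤ s t ≤ 0) : False := by
  classical
  have : Fintype ι := Fintype.ofFinite ι
  have : Module.IsReflexive R M := .of_isPerfPair P.toLinearMap
  have : Module.IsReflexive R N := .of_isPerfPair P.flip.toLinearMap
  set B := (P.posRootForm ℤ).posForm with hB
  let y : P.rootSpan ℤ := ∑ s ∈ T, wt s • P.rootSpanMem ℤ s
  have hl : ∀ t, 0 < B (P.rootSpanMem ℤ t) (P.rootSpanMem ℤ t) := fun t =>
    (P.posRootForm ℤ).zero_lt_posForm_apply_root t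
  -- y ≠ 0
  have hy : y ≠ 0 := by
    intro hy0
    have h1 : ((y : P.rootSpan ℤ) : M) = ∑ s ∈ T, (wt s : R) • P.root s := by
      simp only [y, Submodule.coe_sum, Submodule.coe_smul]
      apply Finset.sum_congr rfl
      intro s _
      rw [← Int.cast_smul_eq_zsmul R]
    rw [hy0] at h1
    obtain ⟨t₀, ht₀⟩ := hne
    have := linearIndepOn_iff'.mp b.linearIndepOn_root T (fun s => (wt s : R))
      (by exact_mod_cast hT) h1.symm t₀ ht₀
    have h2 : wt t₀ = 0 := by exact_mod_cast this
    have := hw t₀ ht₀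
    omega
  have hpos : 0 < B y y := P.posRootForm_posForm_pos_of_ne_zero ℤ hy
  -- compute
  have h1 : ∀ t ∈ T, 2 * B y (P.rootSpanMem ℤ t)
      = B (P.rootSpanMem ℤ t) (P.rootSpanMem ℤ t) *
        (2 * wt t + ∑ s ∈ T.erase t, wt s * P.pairingIn ℤ s t) := by
    intro t ht
    have : B y (P.rootSpanMem ℤ t) = ∑ s ∈ T, wt s * B (P.rootSpanMem ℤ s) (P.rootSpanMem ℤ t) := by
      simp only [y, map_sum, LinearMap.sum_apply, map_smul, LinearMap.smul_apply, smul_eq_mul]
    rw [this, Finset.mul_sum]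
    have h2 : ∀ s ∈ T, 2 * (wt s * B (P.rootSpanMem ℤ s) (P.rootSpanMem ℤ t))
        = B (P.rootSpanMem ℤ t) (P.rootSpanMem ℤ t) * (wt s * P.pairingIn ℤ s t) := by
      intro s _
      have := two_mul_posForm P s t
      rw [← hB] at this
      linear_combination (wt s) * this
    rw [Finset.sum_congr rfl h2, ← Finset.mul_sum, ← Finset.add_sum_erase T _ ht, P.pairingIn_same]
    ring
  have h2 : 2 * B y y = ∑ t ∈ T, wt t * (2 * B y (P.rootSpanMem ℤ t)) := by
    have : B y y = ∑ t ∈ T, wt t * B y (P.rootSpanMem ℤ t) := by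
      have hy' : y = ∑ s ∈ T, wt s • P.rootSpanMem ℤ s := rfl
      calc B y y = B y (∑ s ∈ T, wt s • P.rootSpanMem ℤ s) := by rw [← hy']
        _ = _ := by simp only [map_sum, map_smul, smul_eq_mul]
    rw [this, Finset.mul_sum]
    apply Finset.sum_congr rfl
    intro t _
    ring
  have h3 : ∑ t ∈ T, wt t * (2 * B y (P.rootSpanMem ℤ t)) ≤ 0 := by
    apply Finset.sum_nonpos
    intro t ht
    rw [h1 t ht]
    have := mul_nonpos_of_nonneg_of_nonpos (hl t).le (hcon t ht)
    exact mul_nonpos_of_nonneg_of_nonpos (hw t ht).le this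
  omega

theorem hyp [DecidableEq ι] : Hyp (fun i j => P.pairingIn ℤ i j) b.support where
  nonpos := fun i hi j hj hij => b.pairingIn_le_zero_of_ne hij hi hj
  zero_iff := fun i _ j _ h => by
    have : Module.IsReflexive R M := .of_isPerfPair P.toLinearMap
    exact (P.pairingIn_eq_zero_iff (S := ℤ)).1 h
  neg_one := fun i hi j hj hij h => by
    have h1 : P.root i ≠ P.root j := fun h' => hij (P.root.injective h')
    have h2 : P.root i ≠ -P.root j := b.root_ne_neg_of_ne hi hj hij
    have := P.pairingIn_pairingIn_mem_set_of_isCrystal_of_isRed' i j h1 h2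
    simp only [mem_insert_iff, mem_singleton_iff, Prod.mk.injEq] at this
    omega
  posdef := fun T hT hne wt hw hcon => posdef_aux P b T hT hne wt hw hcon

end root

end Groth.Agent.Lib.Helper11.Dynk
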