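import Mathlib

set_option autoImplicit false
set_option linter.unusedSectionVars false
set_option linter.unusedVariables false
set_option linter.style.haveILetI false

open Module

namespace Groth.Agent.Lib.Helper11.EE

section linalg

variable (K : Type*) {V : Type*} [Field K] [AddCommGroup V] [Module K V]

/-- The rank of a family of vectors. -/
noncomputable def rk {ι : Type*} (v : ι → V) : ℕ :=
  Module.finrank K (Submodule.span K (Set.range v))

variable {K}

lemma rk_mono {ι ι' : Type*} [Finite ι'] {v : ι → V} {v' : ι' → V}
    (h : Submodule.span K (Set.range v) ≤ Submodule.span K (Set.range v')) :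
    rk K v ≤ rk K v' := by
  haveI : Module.Finite K (Submodule.span K (Set.range v')) :=
    FiniteDimensional.span_of_finite K (Set.finite_range v')
  exact Submodule.finrank_mono h

lemma finrank_sup_singleton_le {ι : Type*} [Finite ι] (y : ι → V) (z : V) :
    Module.finrank K ↥(Submodule.span K (Set.range y) ⊔ Submodule.span K {z}) ≤ rk K y + 1 := by
  haveI : Module.Finite K (Submodule.span K (Set.range y)) :=
    FiniteDimensional.span_of_finite K (Set.finite_range y)
  haveI : Module.Finite K (Submodule.span K ({z} : Set V)) :=
    FiniteDimensional.span_of_finite K (Set.finite_singleton z)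
  refine (Submodule.finrank_add_le_finrank_add_finrank _ _).trans ?_
  have : Module.finrank K (Submodule.span K ({z} : Set V)) ≤ 1 := by
    have := finrank_span_le_card (R := K) ({z} : Set V)
    simpa using this
  unfold rk
  omega

/-- Replacing `(v₀,…,v_{u-1}, z)` by `(v₀ + a₀ z, …)` drops the rank by at most one. -/
lemma rk_le_succ {u : ℕ} (v : Fin (u + 1) → V) (a : Fin u → K) :
    rk K v ≤ rk K (fun i : Fin u => v i.castSucc + a i • v (Fin.last u)) + 1 := by
  haveI : Module.Finite K (Submodule.span K (Set.range
      (fun i : Fin u => v i.castSucc + a i • v (Fin.last u))) ⊔ Submodule.span K {v (Fin.last u)} :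
      Submodule K V) := by
    haveI : Module.Finite K (Submodule.span K (Set.range
      (fun i : Fin u => v i.castSucc + a i • v (Fin.last u)))) :=
      FiniteDimensional.span_of_finite K (Set.finite_range _)
    haveI : Module.Finite K (Submodule.span K ({v (Fin.last u)} : Set V)) :=
      FiniteDimensional.span_of_finite K (Set.finite_singleton _)
    infer_instance
  refine le_trans ?_ (finrank_sup_singleton_le _ (v (Fin.last u)))
  unfold rk
  refine Submodule.finrank_mono ?_
  rw [Submodule.span_le]
  rintro _ ⟨i, rfl⟩
  have hz : v (Fin.last u) ∈ (Submodule.span K (Set.range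
      (fun i : Fin u => v i.castSucc + a i • v (Fin.last u))) ⊔ Submodule.span K {v (Fin.last u)} :
      Submodule K V) :=
    Submodule.mem_sup_right (Submodule.mem_span_singleton_self _)
  refine Fin.lastCases hz (fun i => ?_) i
  have h1 : v i.castSucc + a i • v (Fin.last u) ∈ (Submodule.span K (Set.range
      (fun i : Fin u => v i.castSucc + a i • v (Fin.last u))) ⊔ Submodule.span K {v (Fin.last u)} :
      Submodule K V) :=
    Submodule.mem_sup_left (Submodule.subset_span ⟨i, rfl⟩)
  have h2 := Submodule.sub_mem _ h1 (Submodule.smul_mem _ (a i) hz)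
  simpa using h2

lemma le_rk_of_indep {ι : Type*} [Finite ι] (v : ι → V) {w : ℕ} (s : Fin w → ι)
    (h : LinearIndependent K (v ∘ s)) : w ≤ rk K v := by
  have h1 : rk K (v ∘ s) = w := by
    unfold rk
    rw [finrank_span_eq_card h, Fintype.card_fin]
  rw [← h1]
  refine rk_mono (Submodule.span_mono ?_)
  rintro _ ⟨i, rfl⟩
  exact ⟨s i, rfl⟩

lemma exists_indep_of_le_rk {ι : Type*} [Finite ι] (v : ι → V) {w : ℕ} (h : w ≤ rk K v) :
    ∃ s : Fin w → ι, LinearIndependent K (v ∘ s) := by
  classical
  obtain ⟨b, hb, hspan, hli⟩ := exists_linearIndependent K (Set.range v)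
  have hbfin : b.Finite := (Set.finite_range v).subset hb
  haveI : Fintype b := hbfin.fintype
  have hcard : Fintype.card b = rk K v := by
    unfold rk
    rw [← hspan]
    have := finrank_span_eq_card hli
    rw [Subtype.range_coe] at this
    exact this.symm
  have hw : w ≤ Fintype.card b := hcard ▸ h
  -- an injection `Fin w ↪ b`
  have hinj : Nonempty (Fin w ↪ b) := by
    refine Function.Embedding.nonempty_of_card_le ?_
    simpa using hw
  obtain ⟨f⟩ := hinj
  have hpre : ∀ i : Fin w, ∃ j : ι, v j = (f i : V) := fun i => hb (f i).2
  choose s hs using hpre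
  refine ⟨s, ?_⟩
  have : v ∘ s = (fun x : b => (x : V)) ∘ f := by
    funext i
    simp [hs]
  rw [this]
  exact hli.comp f f.injective

/-- The adjustment lemma: if `span(y, z)` has dimension at least `w ≤ u`, then after adding
`c • z` to at most one of the `y i` the family `y` alone has rank at least `w`. -/
lemma adjust {u : ℕ} (y : Fin u → V) (z : V) (c : K) (hc : c ≠ 0) (w : ℕ) (hwu : w ≤ u)
    (hw : w ≤ Module.finrank K ↥(Submodule.span K (Set.range y) ⊔ Submodule.span K {z})) :
    ∃ l : Option (Fin u), w ≤ rk K (fun i : Fin u => y i + (if l = some i then c else 0) • z) := by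
  classical
  by_cases h1 : w ≤ rk K y
  · refine ⟨none, ?_⟩
    simpa using h1
  · rw [not_le] at h1
    -- `rk y = w - 1 < u`, so `y` is linearly dependent
    have h2 := finrank_sup_singleton_le (K := K) y z
    have hrk : rk K y + 1 = w := by omega
    have hdep : ¬ LinearIndependent K y := by
      intro hli
      have : rk K y = u := by
        unfold rk
        rw [finrank_span_eq_card hli, Fintype.card_fin]
      omega
    rw [Fintype.linearIndependent_iff] at hdep
    push Not at hdep
    obtain ⟨g, hg, l, hl⟩ := hdep
    refine ⟨some l, ?_⟩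
    -- `y l` is in the span of the others
    set y' : Fin u → V := fun i : Fin u => y i + (if some l = some i then c else 0) • z with hy'
    have hy'i : ∀ i, i ≠ l → y' i = y i := by
      intro i hi
      simp [hy', Ne.symm hi]
    have hy'l : y' l = y l + c • z := by simp [hy']
    have hothers : ∀ i, i ≠ l → y i ∈ Submodule.span K (Set.range y') := by
      intro i hi
      rw [← hy'i i hi]
      exact Submodule.subset_span ⟨i, rfl⟩
    have hyl : y l ∈ Submodule.span K (Set.range y') := by
      have h3 : g l • y l = - ∑ i ∈ Finset.univ.erase l, g i • y i := by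
        rw [← Finset.add_sum_erase _ _ (Finset.mem_univ l)] at hg
        exact eq_neg_of_add_eq_zero_left hg
      have h4 : y l = (g l)⁻¹ • (- ∑ i ∈ Finset.univ.erase l, g i • y i) := by
        rw [← h3, smul_smul, inv_mul_cancel₀ hl, one_smul]
      rw [h4]
      refine Submodule.smul_mem _ _ (Submodule.neg_mem _ (Submodule.sum_mem _ ?_))
      intro i hi
      exact Submodule.smul_mem _ _ (hothers i (Finset.ne_of_mem_erase hi))
    have hz : z ∈ Submodule.span K (Set.range y') := by
      have h5 : y' l ∈ Submodule.span K (Set.range y') := Submodule.subset_span ⟨l, rfl⟩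
      rw [hy'l] at h5
      have h6 := Submodule.sub_mem _ h5 hyl
      rw [add_sub_cancel_left] at h6
      have h7 := Submodule.smul_mem _ c⁻¹ h6
      rwa [smul_smul, inv_mul_cancel₀ hc, one_smul] at h7
    have hle : Submodule.span K (Set.range y) ⊔ Submodule.span K {z} ≤
        Submodule.span K (Set.range y') := by
      refine sup_le ?_ ?_
      · rw [Submodule.span_le]
        rintro _ ⟨i, rfl⟩
        by_cases hi : i = l
        · rw [hi]; exact hyl
        · exact hothers i hi
      · rw [Submodule.span_le]
        rintro _ rfl
        exact hz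
    haveI : Module.Finite K (Submodule.span K (Set.range y')) :=
      FiniteDimensional.span_of_finite K (Set.finite_range y')
    exact hw.trans (Submodule.finrank_mono hle)

end linalg

end Groth.Agent.Lib.Helper11.EE
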