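import Mathlib
import Groth.Agent.Lib.Helper11.EE1

set_option autoImplicit false
set_option linter.unusedSectionVars false
set_option linter.unusedVariables false
set_option linter.style.haveILetI false

open Module TensorProduct

universe u v

namespace Groth.Agent.Lib.Helper11.EE

section local_general

variable {R : Type*} [CommRing R] [IsLocalRing R] {N : Type*} [AddCommGroup N] [Module R N]

/-- Linear independence in the fibre gives injectivity of `k ⊗ l`. -/
lemma lTensor_injective_of_indep {w : ℕ} (y : Fin w → N)
    (h : LinearIndependent (IsLocalRing.ResidueField R)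
      (fun i => (1 : IsLocalRing.ResidueField R) ⊗ₜ[R] y i)) :
    Function.Injective ((Fintype.linearCombination R y).lTensor (IsLocalRing.ResidueField R)) := by
  have key : ∀ t : IsLocalRing.ResidueField R ⊗[R] (Fin w → R),
      (Fintype.linearCombination R y).lTensor (IsLocalRing.ResidueField R) t =
        Fintype.linearCombination (IsLocalRing.ResidueField R)
          (fun i => (1 : IsLocalRing.ResidueField R) ⊗ₜ[R] y i)
          (TensorProduct.piScalarRight R (IsLocalRing.ResidueField R)
            (IsLocalRing.ResidueField R) (Fin w) t) := by
    intro t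
    induction t using TensorProduct.induction_on with
    | zero => simp
    | tmul c f =>
      rw [LinearMap.lTensor_tmul, Fintype.linearCombination_apply, TensorProduct.tmul_sum,
        Fintype.linearCombination_apply]
      refine Finset.sum_congr rfl fun i _ => ?_
      rw [TensorProduct.piScalarRight_apply, TensorProduct.piScalarRightHom_tmul,
        TensorProduct.tmul_smul, TensorProduct.smul_tmul', TensorProduct.smul_tmul',
        smul_eq_mul, mul_one]
    | add a b ha hb => rw [map_add, map_add, map_add, ha, hb]
  rw [injective_iff_map_eq_zero]
  intro t ht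
  rw [key] at ht
  have := (Fintype.linearIndependent_iff'.mp h)
  have h2 : TensorProduct.piScalarRight R (IsLocalRing.ResidueField R)
      (IsLocalRing.ResidueField R) (Fin w) t = 0 := by
    have h3 := Fintype.linearIndependent_iff.mp h _ (by
      rw [Fintype.linearCombination_apply] at ht; exact ht)
    funext i
    exact h3 i
  exact (LinearEquiv.map_eq_zero_iff _).mp h2

end local_general

section fibre

variable {A : Type u} [CommRing A] {M : Type v} [AddCommGroup M] [Module A M]
variable (p : Ideal A) [p.IsPrime]

/-- Reduction of an element of `M` to the fibre `κ(p) ⊗ M_p`. -/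
noncomputable def red (m : M) :
    IsLocalRing.ResidueField (Localization.AtPrime p) ⊗[Localization.AtPrime p]
      LocalizedModule p.primeCompl M :=
  (1 : IsLocalRing.ResidueField (Localization.AtPrime p)) ⊗ₜ[Localization.AtPrime p]
    LocalizedModule.mk m 1

lemma red_def (m : M) : red p m =
    (1 : IsLocalRing.ResidueField (Localization.AtPrime p)) ⊗ₜ[Localization.AtPrime p]
      LocalizedModule.mk m 1 := rfl

@[simp] lemma red_zero : red p (0 : M) = 0 := by
  rw [red_def, LocalizedModule.zero_mk, TensorProduct.tmul_zero]

lemma red_add (m m' : M) : red p (m + m') = red p m + red p m' := by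
  rw [red_def, red_def, red_def, ← TensorProduct.tmul_add, LocalizedModule.mk_add_mk]
  simp

lemma red_smul (a : A) (m : M) :
    red p (a • m) = algebraMap A (IsLocalRing.ResidueField (Localization.AtPrime p)) a • red p m := by
  rw [red_def, red_def, TensorProduct.smul_tmul', ← LocalizedModule.smul'_mk,
    ← algebraMap_smul (Localization.AtPrime p) a (LocalizedModule.mk m 1),
    TensorProduct.tmul_smul, TensorProduct.smul_tmul']
  congr 1

lemma red_sum {ι : Type*} (s : Finset ι) (f : ι → M) :
    red p (∑ i ∈ s, f i) = ∑ i ∈ s, red p (f i) := by
  classical
  induction s using Finset.induction_on with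
  | empty => simp
  | insert a s ha ih => rw [Finset.sum_insert ha, Finset.sum_insert ha, red_add, ih]

/-- The rank of a family of elements of `M` in the fibre at `p`. -/
noncomputable def rkAt {ι : Type*} (x : ι → M) : ℕ :=
  rk (IsLocalRing.ResidueField (Localization.AtPrime p)) (fun i => red p (x i))

/-- A functional `σ : M → A^ι` induces a `κ`-linear map on the fibre. -/
noncomputable def sigmaBar {ι : Type*} (σ : M →ₗ[A] (ι → A)) :
    (IsLocalRing.ResidueField (Localization.AtPrime p) ⊗[Localization.AtPrime p]
      LocalizedModule p.primeCompl M) →ₗ[IsLocalRing.ResidueField (Localization.AtPrime p)]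
      (ι → IsLocalRing.ResidueField (Localization.AtPrime p)) :=
  LinearMap.liftBaseChange (IsLocalRing.ResidueField (Localization.AtPrime p))
    (LinearMap.extendScalarsOfIsLocalization p.primeCompl (Localization.AtPrime p)
      (LocalizedModule.lift p.primeCompl
        (((Algebra.linearMap A (IsLocalRing.ResidueField (Localization.AtPrime p))).compLeft ι) ∘ₗ σ)
        (fun x => (isLocalizedModule_id p.primeCompl
          (ι → IsLocalRing.ResidueField (Localization.AtPrime p))
          (Localization.AtPrime p)).map_units x)))

lemma sigmaBar_red {ι : Type*} (σ : M →ₗ[A] (ι → A)) (m : M) (i : ι) :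
    sigmaBar p σ (red p m) i =
      algebraMap A (IsLocalRing.ResidueField (Localization.AtPrime p)) (σ m i) := by
  rw [sigmaBar, red_def, LinearMap.liftBaseChange_tmul, one_smul,
    LinearMap.extendScalarsOfIsLocalization_apply', LocalizedModule.lift_mk_one]
  rfl

lemma red_mem_span {ι : Type*} (x : ι → M) (m : M) (hm : m ∈ Submodule.span A (Set.range x)) :
    red p m ∈ Submodule.span (IsLocalRing.ResidueField (Localization.AtPrime p))
      (Set.range fun i => red p (x i)) := by
  induction hm using Submodule.span_induction with
  | mem y hy =>
    obtain ⟨i, rfl⟩ := hy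
    exact Submodule.subset_span ⟨i, rfl⟩
  | zero => rw [red_zero]; exact Submodule.zero_mem _
  | add y z _ _ hy hz => rw [red_add]; exact Submodule.add_mem _ hy hz
  | smul a y _ hy => rw [red_smul]; exact Submodule.smul_mem _ _ hy

lemma span_red_eq_top {ι : Type*} (x : ι → M) (hx : Submodule.span A (Set.range x) = ⊤) :
    Submodule.span (IsLocalRing.ResidueField (Localization.AtPrime p))
      (Set.range fun i => red p (x i)) = ⊤ := by
  rw [eq_top_iff]
  rintro t -
  induction t using TensorProduct.induction_on with
  | zero => exact Submodule.zero_mem _
  | tmul c z =>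
    induction z using LocalizedModule.induction_on with
    | h m s =>
      have h1 : LocalizedModule.mk m s =
          (Localization.mk 1 s : Localization.AtPrime p) • LocalizedModule.mk m 1 := by
        rw [LocalizedModule.mk_smul_mk, one_smul, mul_one]
      have h2 : c ⊗ₜ[Localization.AtPrime p] (LocalizedModule.mk m s) =
          ((Localization.mk 1 s : Localization.AtPrime p) • c) • red p m := by
        rw [h1, TensorProduct.tmul_smul, TensorProduct.smul_tmul', red_def,
          TensorProduct.smul_tmul', smul_eq_mul, mul_one]
      rw [h2]
      exact Submodule.smul_mem _ _ (red_mem_span p x m (hx ▸ Submodule.mem_top))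
  | add a b ha hb => exact Submodule.add_mem _ ha hb

lemma rkAt_eq_of_span_eq_top {ι : Type*} [Finite ι] (x : ι → M)
    (hx : Submodule.span A (Set.range x) = ⊤) {r : ℕ}
    (e : LocalizedModule p.primeCompl M ≃ₗ[Localization.AtPrime p]
      (Fin r → Localization.AtPrime p)) :
    rkAt p x = r := by
  haveI : Module.Free (Localization.AtPrime p) (LocalizedModule p.primeCompl M) :=
    Module.Free.of_equiv e.symm
  unfold rkAt rk
  rw [span_red_eq_top p x hx, finrank_top, Module.finrank_baseChange, e.finrank_eq,
    Module.finrank_fin_fun]

end fibre

end Groth.Agent.Lib.Helper11.EE
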