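import Mathlib
import Groth.Agent.Lib.Helper11.EE2

set_option autoImplicit false
set_option linter.unusedSectionVars false
set_option linter.unusedVariables false
set_option linter.style.haveILetI false

open Module TensorProduct

universe u v

namespace Groth.Agent.Lib.Helper11.EE

section detIdeal

variable {A : Type u} [CommRing A] {M : Type v} [AddCommGroup M] [Module A M]

/-- The ideal generated by the `w × w` "minors" of a family `x` with respect to functionals. -/
def detIdeal {ι : Type*} (x : ι → M) (w : ℕ) : Ideal A :=
  Ideal.span {a | ∃ (s : Fin w → ι) (σ : M →ₗ[A] (Fin w → A)),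
    a = Matrix.det (Matrix.of fun i j => σ (x (s j)) i)}

variable (p : Ideal A) [p.IsPrime]

lemma le_rkAt_of_not_detIdeal_le {ι : Type*} [Finite ι] (x : ι → M) (w : ℕ)
    (h : ¬ detIdeal x w ≤ p) : w ≤ rkAt p x := by
  classical
  rw [detIdeal, Ideal.span_le, Set.not_subset] at h
  obtain ⟨a, ⟨s, σ, rfl⟩, ha⟩ := h
  refine le_rk_of_indep (fun i => red p (x i)) s ?_
  rw [Fintype.linearIndependent_iff]
  intro c hc
  have h1 := congrArg (sigmaBar p σ) hc
  rw [map_sum, map_zero] at h1
  have h2 : (Matrix.of fun i j => algebraMap A (IsLocalRing.ResidueField (Localization.AtPrime p))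
      (σ (x (s j)) i)).mulVec c = 0 := by
    funext i
    have := congrFun h1 i
    rw [Finset.sum_apply] at this
    rw [Pi.zero_apply] at this
    rw [Pi.zero_apply, ← this]
    simp only [Matrix.mulVec, dotProduct, Matrix.of_apply]
    refine Finset.sum_congr rfl fun j _ => ?_
    rw [map_smul, Pi.smul_apply, Function.comp_apply, sigmaBar_red, smul_eq_mul, mul_comm]
  have hdet : (Matrix.of fun i j => algebraMap A (IsLocalRing.ResidueField (Localization.AtPrime p))
      (σ (x (s j)) i)).det ≠ 0 := by
    have h3 : (Matrix.of fun i j => algebraMap A (IsLocalRing.ResidueField (Localization.AtPrime p))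
        (σ (x (s j)) i)) = (algebraMap A (IsLocalRing.ResidueField (Localization.AtPrime p))).mapMatrix
          (Matrix.of fun i j => σ (x (s j)) i) := by
      ext i j; simp
    rw [h3, ← RingHom.map_det]
    intro h0
    exact ha ((Ideal.algebraMap_residueField_eq_zero (I := p)).mp h0)
  have h4 := Matrix.eq_zero_of_mulVec_eq_zero hdet h2
  intro i
  exact congrFun h4 i

lemma not_detIdeal_le_of_le_rkAt [Module.FinitePresentation A M] {ι : Type*} [Finite ι]
    (x : ι → M) (w : ℕ) {r : ℕ}
    (e : LocalizedModule p.primeCompl M ≃ₗ[Localization.AtPrime p]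
      (Fin r → Localization.AtPrime p))
    (h : w ≤ rkAt p x) : ¬ detIdeal x w ≤ p := by
  classical
  obtain ⟨s, hs⟩ := exists_indep_of_le_rk _ h
  haveI : Module.Free (Localization.AtPrime p) (LocalizedModule p.primeCompl M) :=
    Module.Free.of_equiv e.symm
  have hinj := lTensor_injective_of_indep
    (fun j : Fin w => (LocalizedModule.mk (x (s j)) 1 : LocalizedModule p.primeCompl M)) hs
  obtain ⟨l', hl'⟩ := (IsLocalRing.split_injective_iff_lTensor_residueField_injective
    (Fintype.linearCombination (Localization.AtPrime p)
      (fun j : Fin w => (LocalizedModule.mk (x (s j)) 1 : LocalizedModule p.primeCompl M)))).mpr hinj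
  have hl'y : ∀ j : Fin w, l' (LocalizedModule.mk (x (s j)) 1) = Pi.single j 1 := by
    intro j
    have := LinearMap.congr_fun hl' (Pi.single j 1)
    rwa [LinearMap.comp_apply, Fintype.linearCombination_apply_single, one_smul,
      LinearMap.id_apply] at this
  have hex : ∀ i : Fin w, ∃ (h : M →ₗ[A] A) (t : p.primeCompl),
      (Algebra.linearMap A (Localization.AtPrime p)) ∘ₗ h =
        t • ((((LinearMap.proj i : (Fin w → Localization.AtPrime p) →ₗ[Localization.AtPrime p]
          Localization.AtPrime p) ∘ₗ l').restrictScalars A) ∘ₗ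
          LocalizedModule.mkLinearMap p.primeCompl M) := fun i =>
    Module.FinitePresentation.exists_lift_of_isLocalizedModule p.primeCompl
      (Algebra.linearMap A (Localization.AtPrime p)) _
  choose hh t hht using hex
  have hT : ∀ i j : Fin w, algebraMap A (Localization.AtPrime p) (hh i (x (s j))) =
      if i = j then algebraMap A (Localization.AtPrime p) (t i) else 0 := by
    intro i j
    have := LinearMap.congr_fun (hht i) (x (s j))
    rw [LinearMap.comp_apply, Algebra.linearMap_apply, LinearMap.smul_apply, LinearMap.comp_apply,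
      LocalizedModule.mkLinearMap_apply, LinearMap.restrictScalars_apply, LinearMap.comp_apply,
      hl'y, LinearMap.proj_apply, Submonoid.smul_def, Pi.single_apply, Algebra.smul_def] at this
    rw [this]
    split_ifs <;> simp
  intro hle
  have hmem : (Matrix.of fun i j => (LinearMap.pi hh : M →ₗ[A] (Fin w → A)) (x (s j)) i).det ∈ p :=
    hle (Ideal.subset_span ⟨s, LinearMap.pi hh, rfl⟩)
  have hdet : algebraMap A (Localization.AtPrime p)
      (Matrix.of fun i j => (LinearMap.pi hh : M →ₗ[A] (Fin w → A)) (x (s j)) i).det =
      ∏ i, algebraMap A (Localization.AtPrime p) (t i) := by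
    rw [RingHom.map_det]
    have : (algebraMap A (Localization.AtPrime p)).mapMatrix
        (Matrix.of fun i j => (LinearMap.pi hh : M →ₗ[A] (Fin w → A)) (x (s j)) i) =
        Matrix.diagonal (fun i => algebraMap A (Localization.AtPrime p) (t i)) := by
      ext i j
      simp only [RingHom.mapMatrix_apply, Matrix.map_apply, Matrix.of_apply, LinearMap.pi_apply,
        Matrix.diagonal_apply]
      exact hT i j
    rw [this, Matrix.det_diagonal]
  have hu : IsUnit (algebraMap A (Localization.AtPrime p)
      (Matrix.of fun i j => (LinearMap.pi hh : M →ₗ[A] (Fin w → A)) (x (s j)) i).det) := by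
    rw [hdet]
    exact IsUnit.prod_univ_iff.mpr (fun i => IsLocalization.map_units _ (t i))
  exact (IsLocalization.AtPrime.isUnit_to_map_iff (Localization.AtPrime p) p _).mp hu hmem

end detIdeal

end Groth.Agent.Lib.Helper11.EE
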