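import Mathlib
import Groth.Agent.Lib.Helper11.EE3

set_option autoImplicit false
set_option linter.unusedSectionVars false
set_option linter.unusedVariables false
set_option linter.style.haveILetI false

open Module TensorProduct

universe u v

namespace Groth.Agent.Lib.Helper11.EE

section FP

variable {A : Type u} [CommRing A] {M : Type v} [AddCommGroup M] [Module A M]

/-- The modified family `(x_i + a_i x_last)`. -/
def shrink {u : ℕ} (x : Fin (u + 1) → M) (a : Fin u → A) : Fin u → M :=
  fun i => x i.castSucc + a i • x (Fin.last u)

lemma red_shrink (p : Ideal A) [p.IsPrime] {u : ℕ} (x : Fin (u + 1) → M) (a : Fin u → A)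
    (i : Fin u) :
    red p (shrink x a i) = red p (x i.castSucc) +
      algebraMap A (IsLocalRing.ResidueField (Localization.AtPrime p)) (a i) • red p (x (Fin.last u)) := by
  rw [shrink, red_add, red_smul]

lemma rkAt_le_succ (p : Ideal A) [p.IsPrime] {u : ℕ} (x : Fin (u + 1) → M) (a : Fin u → A) :
    rkAt p x ≤ rkAt p (shrink x a) + 1 := by
  unfold rkAt
  have := rk_le_succ (K := IsLocalRing.ResidueField (Localization.AtPrime p))
    (fun i => red p (x i))
    (fun i => algebraMap A (IsLocalRing.ResidueField (Localization.AtPrime p)) (a i))
  convert this using 3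
  funext i
  exact red_shrink p x a i

theorem exists_adjust_finite (E : Finset (PrimeSpectrum A)) {u : ℕ} (x : Fin (u + 1) → M) :
    ∃ a : Fin u → A, ∀ p ∈ E, ∀ w ≤ u, w ≤ rkAt p.asIdeal x → w ≤ rkAt p.asIdeal (shrink x a) := by
  classical
  induction' hn : E.card with n ih generalizing E
  · rw [Finset.card_eq_zero] at hn
    subst hn
    exact ⟨0, fun p hp => absurd hp (Finset.notMem_empty p)⟩
  · have hne : E.Nonempty := by
      rw [← Finset.card_pos]; omega
    obtain ⟨p, hpE, hpmin⟩ := E.exists_minimal hne
    obtain ⟨a, ha⟩ := ih (E.erase p) (by rw [Finset.card_erase_of_mem hpE]; omega)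
    -- an element of all the other primes, not in `p`
    have hex : ∀ q ∈ E.erase p, ∃ c : A, c ∈ q.asIdeal ∧ c ∉ p.asIdeal := by
      intro q hq
      have hqE := Finset.mem_of_mem_erase hq
      have hqp : q ≠ p := Finset.ne_of_mem_erase hq
      by_contra hcon
      push Not at hcon
      have hle : q ≤ p := fun c hc => hcon c hc
      exact hqp (le_antisymm hle (hpmin hqE hle))
    choose! cq hcq using hex
    set c : A := ∏ q ∈ E.erase p, cq q with hc
    have hcmem : ∀ q ∈ E.erase p, c ∈ q.asIdeal := by
      intro q hq
      exact Ideal.mem_of_dvd _ (Finset.dvd_prod_of_mem cq hq) (hcq q hq).1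
    have hcp : c ∉ p.asIdeal := by
      intro hmem
      obtain ⟨q, hq, hq'⟩ := Ideal.IsPrime.prod_mem_iff.mp hmem
      exact (hcq q hq).2 hq'
    have hcbar : algebraMap A (IsLocalRing.ResidueField (Localization.AtPrime p.asIdeal)) c ≠ 0 :=
      fun h0 => hcp ((Ideal.algebraMap_residueField_eq_zero (I := p.asIdeal)).mp h0)
    -- apply the adjustment lemma at `p`
    have hw₀ : min u (rkAt p.asIdeal x) ≤ Module.finrank
        (IsLocalRing.ResidueField (Localization.AtPrime p.asIdeal))
        ↥(Submodule.span (IsLocalRing.ResidueField (Localization.AtPrime p.asIdeal))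
          (Set.range (fun i => red p.asIdeal (shrink x a i))) ⊔
          Submodule.span (IsLocalRing.ResidueField (Localization.AtPrime p.asIdeal))
            {red p.asIdeal (x (Fin.last u))}) := by
      refine (min_le_right _ _).trans ?_
      unfold rkAt rk
      haveI : Module.Finite (IsLocalRing.ResidueField (Localization.AtPrime p.asIdeal))
          ↥(Submodule.span (IsLocalRing.ResidueField (Localization.AtPrime p.asIdeal))
          (Set.range (fun i => red p.asIdeal (shrink x a i))) ⊔
          Submodule.span (IsLocalRing.ResidueField (Localization.AtPrime p.asIdeal))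
            {red p.asIdeal (x (Fin.last u))}) := by
        haveI : Module.Finite (IsLocalRing.ResidueField (Localization.AtPrime p.asIdeal))
          ↥(Submodule.span (IsLocalRing.ResidueField (Localization.AtPrime p.asIdeal))
          (Set.range (fun i => red p.asIdeal (shrink x a i)))) :=
          FiniteDimensional.span_of_finite _ (Set.finite_range _)
        haveI : Module.Finite (IsLocalRing.ResidueField (Localization.AtPrime p.asIdeal))
          ↥(Submodule.span (IsLocalRing.ResidueField (Localization.AtPrime p.asIdeal))
            ({red p.asIdeal (x (Fin.last u))} : Set _)) :=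
          FiniteDimensional.span_of_finite _ (Set.finite_singleton _)
        infer_instance
      refine Submodule.finrank_mono ?_
      rw [Submodule.span_le]
      rintro _ ⟨i, rfl⟩
      have hz : red p.asIdeal (x (Fin.last u)) ∈
          (Submodule.span (IsLocalRing.ResidueField (Localization.AtPrime p.asIdeal))
          (Set.range (fun i => red p.asIdeal (shrink x a i))) ⊔
          Submodule.span (IsLocalRing.ResidueField (Localization.AtPrime p.asIdeal))
            {red p.asIdeal (x (Fin.last u))} : Submodule _ _) :=
        Submodule.mem_sup_right (Submodule.mem_span_singleton_self _)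
      refine Fin.lastCases hz (fun i => ?_) i
      have h1 : red p.asIdeal (shrink x a i) ∈
          (Submodule.span (IsLocalRing.ResidueField (Localization.AtPrime p.asIdeal))
          (Set.range (fun i => red p.asIdeal (shrink x a i))) ⊔
          Submodule.span (IsLocalRing.ResidueField (Localization.AtPrime p.asIdeal))
            {red p.asIdeal (x (Fin.last u))} : Submodule _ _) :=
        Submodule.mem_sup_left (Submodule.subset_span ⟨i, rfl⟩)
      rw [red_shrink] at h1
      have h2 := Submodule.sub_mem _ h1 (Submodule.smul_mem _
        (algebraMap A (IsLocalRing.ResidueField (Localization.AtPrime p.asIdeal)) (a i)) hz)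
      simpa using h2
    obtain ⟨l, hl⟩ := adjust (fun i => red p.asIdeal (shrink x a i)) (red p.asIdeal (x (Fin.last u)))
      _ hcbar (min u (rkAt p.asIdeal x)) (min_le_left _ _) hw₀
    -- the new coefficients
    have hnew : ∀ (q : PrimeSpectrum A) (i : Fin u),
        red q.asIdeal (shrink x (fun i => a i + (if l = some i then c else 0)) i) =
        red q.asIdeal (shrink x a i) +
          (if l = some i then algebraMap A (IsLocalRing.ResidueField (Localization.AtPrime q.asIdeal)) c
            else 0) • red q.asIdeal (x (Fin.last u)) := by
      intro q i
      rw [red_shrink, red_shrink, map_add, add_smul, add_assoc, apply_ite (algebraMap A _), map_zero]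
    refine ⟨fun i => a i + (if l = some i then c else 0), ?_⟩
    intro q hq w hwu hw
    by_cases hqp : q = p
    · subst hqp
      have h3 : rkAt q.asIdeal (shrink x (fun i => a i + (if l = some i then c else 0))) =
          rk (IsLocalRing.ResidueField (Localization.AtPrime q.asIdeal))
            (fun i => red q.asIdeal (shrink x a i) +
              (if l = some i then algebraMap A
                (IsLocalRing.ResidueField (Localization.AtPrime q.asIdeal)) c else 0) •
                red q.asIdeal (x (Fin.last u))) := by
        unfold rkAt
        congr 1
        funext i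
        exact hnew q i
      rw [h3]
      exact (le_min hwu hw).trans hl
    · have hq' : q ∈ E.erase p := Finset.mem_erase.mpr ⟨hqp, hq⟩
      have h0 : algebraMap A (IsLocalRing.ResidueField (Localization.AtPrime q.asIdeal)) c = 0 :=
        (Ideal.algebraMap_residueField_eq_zero (I := q.asIdeal)).mpr (hcmem q hq')
      have h3 : rkAt q.asIdeal (shrink x (fun i => a i + (if l = some i then c else 0))) =
          rkAt q.asIdeal (shrink x a) := by
        unfold rkAt
        congr 1
        funext i
        rw [hnew q i, h0]
        simp
      rw [h3]
      exact ha q hq' w hwu hw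

end FP

end Groth.Agent.Lib.Helper11.EE
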