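import Mathlib
import Groth.Agent.Lib.Helper11.EE4

set_option autoImplicit false
set_option linter.unusedSectionVars false
set_option linter.unusedVariables false
set_option linter.style.haveILetI false

open Module TensorProduct

universe u v

namespace Groth.Agent.Lib.Helper11.EE

section step

variable {A : Type u} [CommRing A] {M : Type v} [AddCommGroup M] [Module A M]

/-- Eisenbud–Evans "goodness": `x` is `min(u, r - ht p)`-fold basic at every prime of height `≤ k`. -/
def Good (A : Type u) [CommRing A] {M : Type v} [AddCommGroup M] [Module A M]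
    (k r : ℕ) {u : ℕ} (x : Fin u → M) : Prop :=
  ∀ p : PrimeSpectrum A, p.asIdeal.height ≤ k → ∀ w : ℕ, w ≤ u →
    (w : ℕ∞) + p.asIdeal.height ≤ r → w ≤ rkAt p.asIdeal x

variable [IsNoetherianRing A] [Module.Finite A M]

theorem good_step (k r : ℕ)
    (hM : ∀ p : PrimeSpectrum A, p.asIdeal.height ≤ k →
      Nonempty (LocalizedModule p.asIdeal.primeCompl M ≃ₗ[Localization.AtPrime p.asIdeal]
        (Fin r → Localization.AtPrime p.asIdeal)))
    {u : ℕ} (x : Fin (u + 1) → M) (hx : Good A k r x) :
    ∃ a : Fin u → A, Good A k r (shrink x a) := by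
  classical
  haveI : Module.FinitePresentation A M := Module.finitePresentation_of_finite A M
  -- the finite set of bad primes
  have hfin : {p : PrimeSpectrum A | p.asIdeal.height ≤ k ∧ ∃ w : ℕ, w ≤ u + 1 ∧
      (w : ℕ∞) + p.asIdeal.height ≤ r + 1 ∧ rkAt p.asIdeal x < w}.Finite := by
    have hsub : {p : PrimeSpectrum A | p.asIdeal.height ≤ k ∧ ∃ w : ℕ, w ≤ u + 1 ∧
        (w : ℕ∞) + p.asIdeal.height ≤ r + 1 ∧ rkAt p.asIdeal x < w} ⊆
        ⋃ w ∈ Finset.range (u + 2), PrimeSpectrum.asIdeal ⁻¹' (detIdeal x w).minimalPrimes := by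
      rintro p ⟨hpk, w, hwu, hwr, hlt⟩
      simp only [Set.mem_iUnion, Set.mem_preimage, Finset.mem_range]
      refine ⟨w, by omega, ?_⟩
      refine ⟨⟨p.isPrime, ?_⟩, ?_⟩
      · by_contra hle
        exact absurd (le_rkAt_of_not_detIdeal_le p.asIdeal x w hle) (not_le.mpr hlt)
      · rintro q ⟨hq, hIq⟩ hqp
        by_contra hpq
        have hlt' : q < p.asIdeal := lt_of_le_not_ge hqp hpq
        haveI := hq
        have hpfin : p.asIdeal.FiniteHeight :=
          ⟨Or.inr (ne_top_of_le_ne_top (ENat.natCast_ne_top k) hpk)⟩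
        have hht : q.height < p.asIdeal.height :=
          Ideal.height_strict_mono_of_isPrime_of_isPrime hlt'
        have hqk : q.height ≤ k := hht.le.trans hpk
        obtain ⟨np, hnp⟩ := ENat.ne_top_iff_exists.mp
          (ne_top_of_le_ne_top (ENat.natCast_ne_top k) hpk)
        obtain ⟨nq, hnq⟩ := ENat.ne_top_iff_exists.mp
          (ne_top_of_le_ne_top (ENat.natCast_ne_top k) hqk)
        rw [← hnp] at hwr hht
        rw [← hnq] at hht
        have h1 : nq < np := by exact_mod_cast hht
        have h2 : w + np ≤ r + 1 := by exact_mod_cast hwr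
        have h3 : (w : ℕ∞) + q.height ≤ r := by
          rw [← hnq]
          have : w + nq ≤ r := by omega
          exact_mod_cast this
        have h4 := hx ⟨q, hq⟩ hqk w hwu h3
        obtain ⟨e⟩ := hM ⟨q, hq⟩ hqk
        exact not_detIdeal_le_of_le_rkAt q x w e h4 hIq
    refine Set.Finite.subset ?_ hsub
    refine Set.Finite.biUnion (Finset.finite_toSet _) fun w _ => ?_
    exact Set.Finite.preimage (fun a _ b _ hab => PrimeSpectrum.ext hab)
      (Ideal.finite_minimalPrimes_of_isNoetherianRing A (detIdeal x w))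
  obtain ⟨a, ha⟩ := exists_adjust_finite hfin.toFinset x
  refine ⟨a, ?_⟩
  intro p hpk w hwu hwr
  by_cases hpE : p ∈ hfin.toFinset
  · exact ha p hpE w hwu (hx p hpk w (by omega) hwr)
  · rw [Set.Finite.mem_toFinset, Set.mem_ofPred_eq] at hpE
    push Not at hpE
    have h1 := hpE hpk (w + 1) (by omega) (by
      push_cast
      calc (w : ℕ∞) + 1 + p.asIdeal.height = (w : ℕ∞) + p.asIdeal.height + 1 := by ring
        _ ≤ r + 1 := by gcongr)
    have h2 := rkAt_le_succ p.asIdeal x a
    omega

theorem exists_good_of_good (k r : ℕ)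
    (hM : ∀ p : PrimeSpectrum A, p.asIdeal.height ≤ k →
      Nonempty (LocalizedModule p.asIdeal.primeCompl M ≃ₗ[Localization.AtPrime p.asIdeal]
        (Fin r → Localization.AtPrime p.asIdeal)))
    (j d : ℕ) (x : Fin (j + d) → M) (hx : Good A k r x) :
    ∃ y : Fin j → M, Good A k r y := by
  induction d with
  | zero => exact ⟨x, hx⟩
  | succ d ih =>
    obtain ⟨a, ha⟩ := good_step k r hM (u := j + d) x hx
    exact ih _ ha

theorem exists_basic_family (k r : ℕ) (hkr : k ≤ r)
    (hM : ∀ p : PrimeSpectrum A, p.asIdeal.height ≤ k →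
      Nonempty (LocalizedModule p.asIdeal.primeCompl M ≃ₗ[Localization.AtPrime p.asIdeal]
        (Fin r → Localization.AtPrime p.asIdeal))) :
    ∃ y : Fin (r - k) → M, ∀ p : PrimeSpectrum A, p.asIdeal.height ≤ k →
      LinearIndependent (IsLocalRing.ResidueField (Localization.AtPrime p.asIdeal))
        (fun i => red p.asIdeal (y i)) := by
  obtain ⟨n, x₀, hx₀⟩ := Module.Finite.exists_fin (R := A) (M := M)
  have hspan : Submodule.span A (Set.range (Fin.append (fun _ : Fin (r - k) => (0 : M)) x₀)) = ⊤ := by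
    rw [eq_top_iff, ← hx₀]
    refine Submodule.span_mono ?_
    rintro _ ⟨i, rfl⟩
    exact ⟨Fin.natAdd (r - k) i, by simp⟩
  have hgood : Good A k r (Fin.append (fun _ : Fin (r - k) => (0 : M)) x₀) := by
    intro p hpk w hwu hwr
    obtain ⟨e⟩ := hM p hpk
    rw [rkAt_eq_of_span_eq_top p.asIdeal _ hspan e]
    have : (w : ℕ∞) ≤ r := le_self_add.trans hwr
    exact_mod_cast this
  obtain ⟨y, hy⟩ := exists_good_of_good k r hM (r - k) n _ hgood
  refine ⟨y, fun p hpk => ?_⟩
  have h1 : r - k ≤ rkAt p.asIdeal y := by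
    refine hy p hpk (r - k) le_rfl ?_
    calc ((r - k : ℕ) : ℕ∞) + p.asIdeal.height ≤ ((r - k : ℕ) : ℕ∞) + k := by gcongr
      _ = r := by
        have : r - k + k = r := by omega
        exact_mod_cast this
  rw [linearIndependent_iff_card_le_finrank_span, Fintype.card_fin]
  exact h1

end step

end Groth.Agent.Lib.Helper11.EE
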