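import Mathlib
import Groth.Agent.Lib.Helper11.EE5

set_option autoImplicit false
set_option linter.unusedSectionVars false
set_option linter.unusedVariables false
set_option linter.style.haveILetI false

open Module TensorProduct

universe u v

namespace Groth.Agent.Lib.Helper11.EE

section local_quot

variable {R : Type*} [CommRing R] [IsLocalRing R] {N Q : Type*} [AddCommGroup N] [Module R N]
  [AddCommGroup Q] [Module R Q]

/-- Over a local ring: the quotient of a free module of rank `r` by `j` elements which are
independent in the fibre is free of rank `r - j`. -/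
lemma nonempty_equiv_of_exact {r j : ℕ} (e : N ≃ₗ[R] (Fin r → R)) (y : Fin j → N)
    (hy : LinearIndependent (IsLocalRing.ResidueField R)
      (fun i => (1 : IsLocalRing.ResidueField R) ⊗ₜ[R] y i))
    (g : N →ₗ[R] Q) (hg : Function.Surjective g)
    (hex : Function.Exact (Fintype.linearCombination R y) g) :
    Nonempty (Q ≃ₗ[R] (Fin (r - j) → R)) := by
  classical
  haveI : Module.Free R N := Module.Free.of_equiv e.symm
  haveI : Module.Finite R N := Module.Finite.equiv e.symm
  have hinj := lTensor_injective_of_indep y hy
  haveI : Module.Free R Q :=
    Module.free_of_lTensor_residueField_injective (Fintype.linearCombination R y) g hg hex hinj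
  haveI : Module.Finite R Q := Module.Finite.of_surjective g hg
  obtain ⟨l', hl'⟩ := (IsLocalRing.split_injective_iff_lTensor_residueField_injective
    (Fintype.linearCombination R y)).mpr hinj
  obtain ⟨σ, hσ⟩ := Module.projective_lifting_property g LinearMap.id hg
  -- `N ≃ R^j × Q`
  have hbij : Function.Bijective
      ((Fintype.linearCombination R y).coprod σ : (Fin j → R) × Q →ₗ[R] N) := by
    constructor
    · rw [injective_iff_map_eq_zero]
      rintro ⟨c, q⟩ h
      rw [LinearMap.coprod_apply] at h
      have h1 := congrArg g h
      rw [map_add, map_zero, (hex _).mpr ⟨c, rfl⟩, zero_add] at h1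
      have h2 : q = 0 := by
        have := LinearMap.congr_fun hσ q
        rw [LinearMap.comp_apply, h1, LinearMap.id_apply] at this
        exact this.symm
      subst h2
      rw [map_zero, add_zero] at h
      have h3 := congrArg l' h
      rw [← LinearMap.comp_apply, hl', LinearMap.id_apply, map_zero] at h3
      exact Prod.ext h3 rfl
    · intro z
      have h1 : g (z - σ (g z)) = 0 := by
        rw [map_sub]
        have := LinearMap.congr_fun hσ (g z)
        rw [LinearMap.comp_apply, LinearMap.id_apply] at this
        rw [this, sub_self]
      obtain ⟨c, hc⟩ := (hex _).mp h1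
      refine ⟨(c, g z), ?_⟩
      rw [LinearMap.coprod_apply, hc]
      abel
  have hrank : r = j + Module.finrank R Q := by
    have h1 := (LinearEquiv.ofBijective _ hbij).finrank_eq
    rw [Module.finrank_prod, Module.finrank_fin_fun, e.finrank_eq, Module.finrank_fin_fun] at h1
    exact h1.symm
  have h2 : Module.finrank R Q = r - j := by omega
  exact ⟨(Module.finBasis R Q).equivFun ≪≫ₗ LinearEquiv.funCongrLeft R R (finCongr h2.symm)⟩

end local_quot

section final

variable {A : Type u} [CommRing A] {M : Type v} [AddCommGroup M] [Module A M]
variable (p : Ideal A) [p.IsPrime]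

lemma mk_sum' {ι : Type*} (S : Submonoid A) (s : Finset ι) (f : ι → M) (t : S) :
    (LocalizedModule.mk (∑ i ∈ s, f i) t : LocalizedModule S M) =
      ∑ i ∈ s, LocalizedModule.mk (f i) t := by
  have h : ∀ m : M, (LocalizedModule.mk m t : LocalizedModule S M) =
      (Localization.mk 1 t : Localization S) • LocalizedModule.mkLinearMap S M m := by
    intro m
    rw [LocalizedModule.mkLinearMap_apply, LocalizedModule.mk_smul_mk, one_smul, mul_one]
  rw [h, map_sum, Finset.smul_sum]
  exact Finset.sum_congr rfl fun i _ => (h _).symm

/-- Localisation of the presentation `A^j → M → M/span(y) → 0`. -/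
lemma exact_localized_mkQ {j : ℕ} (y : Fin j → M) :
    Function.Exact
      (Fintype.linearCombination (Localization.AtPrime p)
        (fun i => (LocalizedModule.mk (y i) 1 : LocalizedModule p.primeCompl M)))
      (LocalizedModule.map p.primeCompl (Submodule.span A (Set.range y)).mkQ) := by
  intro z
  constructor
  · intro hz
    induction z using LocalizedModule.induction_on with
    | h m s =>
      rw [LocalizedModule.map_mk, ← LocalizedModule.zero_mk 1, LocalizedModule.mk_eq] at hz
      obtain ⟨t, ht⟩ := hz
      rw [one_smul, smul_zero, smul_zero, Submonoid.smul_def, ← map_smul, Submodule.mkQ_apply,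
        Submodule.Quotient.mk_eq_zero, Submodule.mem_span_range_iff_exists_fun] at ht
      obtain ⟨c, hc⟩ := ht
      refine ⟨fun i => Localization.mk (c i) (t * s), ?_⟩
      rw [Fintype.linearCombination_apply, ← LocalizedModule.mk_cancel_common_left t s m,
        Submonoid.smul_def, ← hc, mk_sum']
      refine Finset.sum_congr rfl fun i _ => ?_
      rw [LocalizedModule.mk_smul_mk, mul_one]
  · rintro ⟨c, rfl⟩
    rw [Fintype.linearCombination_apply, map_sum]
    refine Finset.sum_eq_zero fun i _ => ?_
    rw [map_smul, LocalizedModule.map_mk, Submodule.mkQ_apply,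
      (Submodule.Quotient.mk_eq_zero _).mpr (Submodule.subset_span (Set.mem_range_self i)),
      LocalizedModule.zero_mk, smul_zero]

lemma localized_mkQ_surjective (N : Submodule A M) :
    Function.Surjective (LocalizedModule.map p.primeCompl N.mkQ) := by
  intro z
  induction z using LocalizedModule.induction_on with
  | h q s =>
    obtain ⟨m, rfl⟩ := N.mkQ_surjective q
    exact ⟨LocalizedModule.mk m s, LocalizedModule.map_mk _ _ _ _⟩

theorem nonempty_equiv_quotient {r j : ℕ}
    (e : LocalizedModule p.primeCompl M ≃ₗ[Localization.AtPrime p]
      (Fin r → Localization.AtPrime p))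
    (y : Fin j → M)
    (hy : LinearIndependent (IsLocalRing.ResidueField (Localization.AtPrime p))
      (fun i => red p (y i))) :
    Nonempty (LocalizedModule p.primeCompl (M ⧸ Submodule.span A (Set.range y))
      ≃ₗ[Localization.AtPrime p] (Fin (r - j) → Localization.AtPrime p)) :=
  nonempty_equiv_of_exact e
    (fun i => (LocalizedModule.mk (y i) 1 : LocalizedModule p.primeCompl M)) hy
    (LocalizedModule.map p.primeCompl (Submodule.span A (Set.range y)).mkQ)
    (localized_mkQ_surjective p _) (exact_localized_mkQ p y)

/-- Independence in the fibre at `p` (with `M_p` free) gives independence of the images in `M_p`. -/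
lemma linearIndependent_localized {r j : ℕ}
    (e : LocalizedModule p.primeCompl M ≃ₗ[Localization.AtPrime p]
      (Fin r → Localization.AtPrime p))
    (y : Fin j → M)
    (hy : LinearIndependent (IsLocalRing.ResidueField (Localization.AtPrime p))
      (fun i => red p (y i))) :
    LinearIndependent (Localization.AtPrime p)
      (fun i => (LocalizedModule.mk (y i) 1 : LocalizedModule p.primeCompl M)) := by
  haveI : Module.Free (Localization.AtPrime p) (LocalizedModule p.primeCompl M) :=
    Module.Free.of_equiv e.symm
  exact IsLocalRing.linearIndependent_of_flat _ hy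

end final

end Groth.Agent.Lib.Helper11.EE
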