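import Mathlib
import Groth.Agent.Lib.Helper11.EE6

set_option autoImplicit false
set_option linter.unusedSectionVars false
set_option linter.unusedVariables false
set_option linter.style.haveILetI false

open Module TensorProduct

universe u v

namespace Groth.Agent.Lib.Helper11.EE

/-- **Serre / Eisenbud–Evans**: free submodule of rank `r - k` with quotient free of rank `k` at all
primes of height `≤ k`. -/
theorem exists_free_submodule (A : Type u) [CommRing A] [IsNoetherianRing A]
    (M : Type v) [AddCommGroup M] [Module A M] [Module.Finite A M] (k r : ℕ) (hkr : k ≤ r)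
    (hAss : ∀ p ∈ associatedPrimes A A, p.height ≤ k)
    (hM : ∀ p : PrimeSpectrum A, p.asIdeal.height ≤ k →
      Nonempty (LocalizedModule p.asIdeal.primeCompl M ≃ₗ[Localization.AtPrime p.asIdeal]
        (Fin r → Localization.AtPrime p.asIdeal))) :
    ∃ N : Submodule A M, Nonempty (N ≃ₗ[A] (Fin (r - k) → A)) ∧
      ∀ p : PrimeSpectrum A, p.asIdeal.height ≤ k →
        Nonempty (LocalizedModule p.asIdeal.primeCompl (M ⧸ N) ≃ₗ[Localization.AtPrime p.asIdeal]
          (Fin k → Localization.AtPrime p.asIdeal)) := by
  classical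
  obtain ⟨y, hy⟩ := exists_basic_family k r hkr hM
  have hli : LinearIndependent A y := by
    rw [Fintype.linearIndependent_iff]
    intro g hg i
    by_contra hne
    obtain ⟨P, hP, hle⟩ := exists_le_isAssociatedPrime_of_isNoetherianRing A (g i) hne
    have hPk : P.height ≤ k := hAss P hP
    haveI := hP.isPrime
    obtain ⟨e⟩ := hM ⟨P, hP.isPrime⟩ hPk
    have hliP := linearIndependent_localized P e y (hy ⟨P, hP.isPrime⟩ hPk)
    have h0 : ∑ i, algebraMap A (Localization.AtPrime P) (g i) •
        (LocalizedModule.mk (y i) 1 : LocalizedModule P.primeCompl M) = 0 := by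
      have h1 : ∀ i, algebraMap A (Localization.AtPrime P) (g i) •
          (LocalizedModule.mk (y i) 1 : LocalizedModule P.primeCompl M) =
          LocalizedModule.mk (g i • y i) 1 := by
        intro i
        rw [algebraMap_smul, LocalizedModule.smul'_mk]
      simp_rw [h1]
      rw [← mk_sum', hg, LocalizedModule.zero_mk]
    have h2 := Fintype.linearIndependent_iff.mp hliP _ h0 i
    obtain ⟨s, hs⟩ := (IsLocalization.map_eq_zero_iff P.primeCompl (Localization.AtPrime P) (g i)).mp h2
    have h3 : (s : A) ∈ P := hle (Submodule.mem_colon_singleton.mpr (by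
      rw [smul_eq_mul, hs]; exact Submodule.zero_mem _))
    exact s.2 h3
  refine ⟨Submodule.span A (Set.range y), ⟨(Module.Basis.span hli).equivFun⟩, ?_⟩
  intro p hpk
  obtain ⟨e⟩ := hM p hpk
  obtain ⟨f⟩ := nonempty_equiv_quotient p.asIdeal e y (hy p hpk)
  have hk : r - (r - k) = k := by omega
  exact ⟨f ≪≫ₗ LinearEquiv.funCongrLeft _ _ (finCongr hk.symm)⟩

end Groth.Agent.Lib.Helper11.EE
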