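import Mathlib

set_option autoImplicit false
set_option linter.unusedSectionVars false
set_option linter.unusedVariables false
set_option linter.style.haveILetI false

open MvPolynomial

universe u v

namespace Groth.Agent.Lib.Helper11.ElemInv

section algebra

variable {k : Type u} [Field k] {n : ℕ}

/-- The elementary automorphism `x_i ↦ x_i + x_j^d` as an algebra endomorphism. -/
noncomputable def T (k : Type u) [Field k] {n : ℕ} (i j : Fin n) (d : ℕ) :
    MvPolynomial (Fin n) k →ₐ[k] MvPolynomial (Fin n) k :=
  MvPolynomial.aeval (R := k)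
    (Function.update MvPolynomial.X i (MvPolynomial.X i + MvPolynomial.X j ^ d) :
      Fin n → MvPolynomial (Fin n) k)

/-- `b` is an `L`-valued point of `V(I)`. -/
def InZ (I : Ideal (MvPolynomial (Fin n) k)) {L : Type v} [CommRing L] [Algebra k L]
    (b : Fin n → L) : Prop :=
  ∀ f ∈ I, MvPolynomial.aeval b f = 0

variable (I : Ideal (MvPolynomial (Fin n) k))

lemma InZ.map {L : Type v} [CommRing L] [Algebra k L] {L' : Type*} [CommRing L'] [Algebra k L']
    (φ : L →ₐ[k] L') {b : Fin n → L} (hb : InZ I b) : InZ I (fun l => φ (b l)) := by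
  intro f hf
  have h := hb f hf
  have h2 := congrArg φ h
  rw [map_zero] at h2
  rw [← h2]
  have := MvPolynomial.comp_aeval (R := k) b φ
  exact (AlgHom.congr_fun this f).symm

variable (hI : ∀ i j : Fin n, i ≠ j → ∀ d : ℕ, ∀ f ∈ I, T k i j d f ∈ I)
include hI

lemma InZ.update {L : Type v} [CommRing L] [Algebra k L] {b : Fin n → L} (hb : InZ I b)
    (i j : Fin n) (hij : i ≠ j) (d : ℕ) :
    InZ I (Function.update b i (b i + b j ^ d)) := by
  classical
  intro f hf
  have h := hb _ (hI i j hij d f hf)
  have h2 : (MvPolynomial.aeval b) (T k i j d f) =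
      MvPolynomial.aeval (Function.update b i (b i + b j ^ d)) f := by
    have := MvPolynomial.comp_aeval (R := k)
      (Function.update MvPolynomial.X i (MvPolynomial.X i + MvPolynomial.X j ^ d) :
        Fin n → MvPolynomial (Fin n) k) (MvPolynomial.aeval (R := k) b)
    have h3 := AlgHom.congr_fun this f
    rw [AlgHom.comp_apply] at h3
    have hfun : (fun l => (MvPolynomial.aeval b) ((Function.update MvPolynomial.X i
        (MvPolynomial.X i + MvPolynomial.X j ^ d) : Fin n → MvPolynomial (Fin n) k) l)) =
        Function.update b i (b i + b j ^ d) := by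
      funext l
      by_cases hl : l = i
      · subst hl
        simp [Function.update_self]
      · simp [Function.update_of_ne hl]
    rw [T, h3, hfun]
  rw [← h2, h]

/-- The line argument. -/
lemma InZ.line {L : Type v} [CommRing L] [IsDomain L] [Algebra k L] {b : Fin n → L} (hb : InZ I b)
    (i j : Fin n) (hij : i ≠ j) (hinj : Function.Injective (fun d : ℕ => b j ^ d)) :
    InZ I (Function.update (fun l => Polynomial.C (b l)) i (Polynomial.X : Polynomial L)) := by
  classical
  intro f hf
  apply Polynomial.eq_zero_of_infinite_isRoot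
  refine Set.Infinite.mono ?_ (Set.infinite_range_of_injective
    (f := fun d : ℕ => b i + b j ^ d) (fun d d' h => hinj (add_left_cancel h)))
  rintro _ ⟨d, rfl⟩
  show Polynomial.IsRoot _ _
  rw [Polynomial.IsRoot.def]
  -- evaluate
  have h1 := InZ.update I hI hb i j hij d f hf
  have h2 := MvPolynomial.comp_aeval (R := k)
    (Function.update (fun l => Polynomial.C (b l)) i (Polynomial.X : Polynomial L))
    ((Polynomial.aeval (b i + b j ^ d) : Polynomial L →ₐ[L] L).restrictScalars k)
  have h3 := AlgHom.congr_fun h2 f
  rw [AlgHom.comp_apply] at h3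
  have h4 : ((Polynomial.aeval (b i + b j ^ d) : Polynomial L →ₐ[L] L).restrictScalars k)
      (MvPolynomial.aeval (Function.update (fun l => Polynomial.C (b l)) i
        (Polynomial.X : Polynomial L)) f) =
      Polynomial.eval (b i + b j ^ d) (MvPolynomial.aeval (Function.update
        (fun l => Polynomial.C (b l)) i (Polynomial.X : Polynomial L)) f) := by
    rw [AlgHom.restrictScalars_apply, Polynomial.coe_aeval_eq_eval]
  have hfun : (fun l => ((Polynomial.aeval (b i + b j ^ d) : Polynomial L →ₐ[L] L).restrictScalars k)
      (Function.update (fun l => Polynomial.C (b l)) i (Polynomial.X : Polynomial L) l)) =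
      Function.update b i (b i + b j ^ d) := by
    funext l
    by_cases hl : l = i
    · subst hl
      simp [Function.update_self]
    · simp [Function.update_of_ne hl]
  rw [← h4, h3, hfun, h1]

/-- The point `b_Σ`: coordinates in `Σ` are made generic. -/
noncomputable def pt {K : Type v} [Field K] (b : Fin n → K) (S : Finset (Fin n)) :
    Fin n → MvPolynomial (Fin n) K :=
  fun l => if l ∈ S then MvPolynomial.X l else MvPolynomial.C (b l)

omit hI in
lemma inZ_pt_empty {K : Type v} [Field K] [Algebra k K] {b : Fin n → K} (hb : InZ I b) :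
    InZ I (pt b ∅) := by
  have := InZ.map I ((Algebra.ofId K (MvPolynomial (Fin n) K)).restrictScalars k) hb
  convert this using 1
  funext l
  simp [pt, Algebra.ofId_apply, MvPolynomial.algebraMap_eq]

lemma inZ_pt_insert {K : Type v} [Field K] [Algebra k K] {b : Fin n → K} (S : Finset (Fin n))
    (i j : Fin n) (hi : i ∉ S) (hij : i ≠ j)
    (hj : j ∈ S ∨ Function.Injective (fun d : ℕ => b j ^ d))
    (h : InZ I (pt b S)) : InZ I (pt b (insert i S)) := by
  classical
  have hinj : Function.Injective (fun d : ℕ => pt b S j ^ d) := by
    rcases hj with hj | hj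
    · intro d d' hdd
      simp only [pt, if_pos hj] at hdd
      have := congrArg MvPolynomial.totalDegree hdd
      simpa [MvPolynomial.totalDegree_X_pow] using this
    · by_cases hjS : j ∈ S
      · intro d d' hdd
        simp only [pt, if_pos hjS] at hdd
        have := congrArg MvPolynomial.totalDegree hdd
        simpa [MvPolynomial.totalDegree_X_pow] using this
      · intro d d' hdd
        simp only [pt, if_neg hjS, ← map_pow] at hdd
        exact hj (MvPolynomial.C_injective _ _ hdd)
  have hline := InZ.line I hI h i j hij hinj
  have := InZ.map I ((Polynomial.aeval (MvPolynomial.X i : MvPolynomial (Fin n) K) :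
    Polynomial (MvPolynomial (Fin n) K) →ₐ[MvPolynomial (Fin n) K]
      MvPolynomial (Fin n) K).restrictScalars k) hline
  convert this using 1
  funext l
  by_cases hl : l = i
  · subst hl
    simp [pt, Function.update_self]
  · have : (l ∈ insert i S) ↔ l ∈ S := by
      simp [Finset.mem_insert, hl]
    simp [pt, Function.update_of_ne hl, this]

theorem eq_bot_of_point (hn : 2 ≤ n) {K : Type v} [Field K] [Algebra k K] (b : Fin n → K)
    (hb : InZ I b) (j : Fin n) (hj : Function.Injective (fun d : ℕ => b j ^ d)) : I = ⊥ := by
  classical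
  haveI : Nontrivial (Fin n) := Fin.nontrivial_iff_two_le.mpr hn
  obtain ⟨i, hij⟩ := exists_ne j
  -- first step
  have h1 : InZ I (pt b {i}) := by
    have := inZ_pt_insert I hI (b := b) ∅ i j (Finset.notMem_empty i) hij (Or.inr hj)
      (inZ_pt_empty I hb)
    simpa using this
  -- general step
  have key : ∀ (m : ℕ) (S : Finset (Fin n)), (Finset.univ \ S).card = m → i ∈ S →
      InZ I (pt b S) → InZ I (pt b Finset.univ) := by
    intro m
    induction m with
    | zero =>
      intro S hS _ h
      have : S = Finset.univ := by
        rw [Finset.card_eq_zero, Finset.sdiff_eq_empty_iff_subset] at hS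
        exact Finset.univ_subset_iff.mp hS
      rwa [this] at h
    | succ m ih =>
      intro S hS hiS h
      have hne : (Finset.univ \ S).Nonempty := by
        rw [← Finset.card_pos]; omega
      obtain ⟨l, hl⟩ := hne
      have hlS : l ∉ S := (Finset.mem_sdiff.mp hl).2
      have hli : l ≠ i := fun h' => hlS (h' ▸ hiS)
      refine ih (insert l S) ?_ (Finset.mem_insert_of_mem hiS)
        (inZ_pt_insert I hI S l i hlS hli (Or.inl hiS) h)
      have : Finset.univ \ insert l S = (Finset.univ \ S).erase l := by
        ext x; simp [Finset.mem_sdiff, Finset.mem_erase, Finset.mem_insert]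
      rw [this, Finset.card_erase_of_mem hl, hS, Nat.add_sub_cancel]
  have huniv := key _ {i} rfl (Finset.mem_singleton_self i) h1
  rw [eq_bot_iff]
  intro f hf
  have h2 := huniv f hf
  have h3 : MvPolynomial.aeval (pt b Finset.univ) f = MvPolynomial.map (algebraMap k K) f := by
    have hpt : pt b Finset.univ = (MvPolynomial.X : Fin n → MvPolynomial (Fin n) K) := by
      funext l; simp [pt]
    have e : algebraMap k (MvPolynomial (Fin n) K) =
        (MvPolynomial.C).comp (algebraMap k K) := by
      rw [IsScalarTower.algebraMap_eq k K (MvPolynomial (Fin n) K), MvPolynomial.algebraMap_eq]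
    rw [hpt, MvPolynomial.aeval_def, e, MvPolynomial.map_eq_eval₂Hom_C_comp]
    rfl
  rw [h3] at h2
  have := MvPolynomial.map_injective (algebraMap k K) (algebraMap k K).injective
    (a₁ := f) (a₂ := 0) (by rw [h2, map_zero])
  exact this

end algebra

end Groth.Agent.Lib.Helper11.ElemInv
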