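import Mathlib

set_option autoImplicit false
set_option linter.unusedSectionVars false
set_option linter.unusedVariables false
set_option linter.style.haveILetI false

open Polynomial

universe u v

namespace Groth.Agent.Lib.Helper11.ElemInv

/-- In a field of characteristic `p`, an element with `c^d = c^d'`, `d < d'` satisfies
`c^(p^m) = c` for some `m > 0`. -/
theorem exists_pow_char_pow_eq {K : Type u} [Field K] (p : ℕ) [hp : Fact p.Prime] [CharP K p]
    (c : K) {d d' : ℕ} (hdd : d < d') (h : c ^ d = c ^ d') : ∃ m : ℕ, 0 < m ∧ c ^ (p ^ m) = c := by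
  by_cases hc : c = 0
  · refine ⟨1, one_pos, ?_⟩
    subst hc
    rw [zero_pow]
    exact pow_ne_zero _ hp.out.ne_zero
  have hN : c ^ (d' - d) = 1 := by
    have h1 : c ^ d' = c ^ d * c ^ (d' - d) := by
      rw [← pow_add]; congr 1; omega
    rw [h1] at h
    have h2 : c ^ d ≠ 0 := pow_ne_zero _ hc
    have h3 : c ^ d * c ^ (d' - d) = c ^ d * 1 := by rw [mul_one]; exact h.symm
    exact mul_left_cancel₀ h2 h3
  have hN0 : d' - d ≠ 0 := by omega
  obtain ⟨e, N', hN', hNeq⟩ := Nat.exists_eq_pow_mul_and_not_dvd hN0 p hp.out.ne_one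
  rw [hNeq] at hN
  haveI : ExpChar K p := ExpChar.prime hp.out
  rw [ExpChar.pow_prime_pow_mul_eq_one_iff] at hN
  have hcop : Nat.Coprime p N' := (Nat.Prime.coprime_iff_not_dvd hp.out).mpr hN'
  have hN'0 : 0 < N' := by
    rcases Nat.eq_zero_or_pos N' with h0 | h0
    · exfalso; apply hN'; rw [h0]; exact dvd_zero _
    · exact h0
  have hmod := Nat.ModEq.pow_totient hcop
  refine ⟨Nat.totient N', Nat.totient_pos.mpr hN'0, ?_⟩
  -- p ^ φ N' ≡ 1 mod N'
  have h1le : 1 ≤ p ^ Nat.totient N' := Nat.one_le_pow _ _ hp.out.pos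
  obtain ⟨q, hq⟩ := (Nat.modEq_iff_dvd' h1le).mp hmod.symm
  have : p ^ Nat.totient N' = 1 + N' * q := by omega
  rw [this, pow_add, pow_one, pow_mul, hN, one_pow, mul_one]

theorem false_of_roots_of_unity {K : Type u} [Field K] [CharZero K] (u : K)
    (h : ∀ t : ℕ, ∃ N : ℕ, 0 < N ∧ (u + t) ^ N = 1) : False := by
  have hint : ∀ t : ℕ, IsIntegral ℤ (u + t) := by
    intro t
    obtain ⟨N, hN, hu⟩ := h t
    refine ⟨X ^ N - C 1, monic_X_pow_sub_C 1 hN.ne', ?_⟩
    simp [hu]
  have hu : IsIntegral ℤ u := by simpa using hint 0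
  set P := minpoly ℤ u with hP
  have key : ∀ t : ℕ, minpoly ℤ (u + t) = P.comp (X - C (t : ℤ)) := by
    intro t
    have h1 : minpoly ℚ (u + t) = (minpoly ℤ (u + t)).map (algebraMap ℤ ℚ) :=
      minpoly.isIntegrallyClosed_eq_field_fractions' ℚ (hint t)
    have h2 : minpoly ℚ u = P.map (algebraMap ℤ ℚ) :=
      minpoly.isIntegrallyClosed_eq_field_fractions' ℚ hu
    have h3 : minpoly ℚ (u + t) = (minpoly ℚ u).comp (X - C (t : ℚ)) := by
      have := minpoly.add_algebraMap (A := ℚ) u (t : ℚ)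
      simpa using this
    apply Polynomial.map_injective (algebraMap ℤ ℚ) (RingHom.injective_int _)
    rw [← h1, h3, h2, Polynomial.map_comp]
    simp
  have hval : ∀ t : ℕ, P.eval (-(t : ℤ)) = 1 ∨ P.eval (-(t : ℤ)) = -1 := by
    intro t
    obtain ⟨N, hN, hu⟩ := h t
    have hdvd : minpoly ℤ (u + t) ∣ X ^ N - C 1 :=
      minpoly.isIntegrallyClosed_dvd (hint t) (by simp [hu])
    rw [key t] at hdvd
    have h0 := Polynomial.eval_dvd (x := 0) hdvd
    rw [eval_comp, eval_sub, eval_X, eval_C, zero_sub, eval_sub, eval_pow, eval_X, eval_C,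
      zero_pow hN.ne', zero_sub] at h0
    have h1 : IsUnit (P.eval (-(t : ℤ))) := isUnit_of_dvd_unit h0 (isUnit_one.neg)
    exact Int.isUnit_iff.mp h1
  have hQ : (P - 1) * (P + 1) = 0 := by
    apply Polynomial.eq_zero_of_infinite_isRoot
    refine Set.Infinite.mono ?_ (Set.infinite_range_of_injective (f := fun t : ℕ => -(t : ℤ)) ?_)
    · rintro _ ⟨t, rfl⟩
      show IsRoot _ _
      rw [IsRoot.def, eval_mul, eval_sub, eval_add, eval_one]
      rcases hval t with h | h <;> rw [h] <;> simp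
    · intro a b hab
      simpa using hab
  have hdeg := minpoly.natDegree_pos hu
  rcases mul_eq_zero.mp hQ with h1 | h1
  · have : P = 1 := sub_eq_zero.mp h1
    rw [← hP, this] at hdeg
    simp at hdeg
  · have : P = -1 := eq_neg_of_add_eq_zero_left h1
    rw [← hP, this] at hdeg
    simp at hdeg

theorem false_of_charZero {K : Type u} [Field K] [CharZero K] (c : K)
    (h : ∀ m : ℕ, ∃ d d' : ℕ, d < d' ∧ (c + m) ^ d = (c + m) ^ d') : False := by
  have aux : ∀ x : K, x ≠ 0 → (∃ d d' : ℕ, d < d' ∧ x ^ d = x ^ d') → ∃ N : ℕ, 0 < N ∧ x ^ N = 1 := by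
    rintro x hx ⟨d, d', hdd, hxx⟩
    refine ⟨d' - d, by omega, ?_⟩
    have h1 : x ^ d' = x ^ d * x ^ (d' - d) := by
      rw [← pow_add]; congr 1; omega
    rw [h1] at hxx
    have h2 : x ^ d ≠ 0 := pow_ne_zero _ hx
    have h3 : x ^ d * x ^ (d' - d) = x ^ d * 1 := by rw [mul_one]; exact hxx.symm
    exact mul_left_cancel₀ h2 h3
  by_cases hex : ∃ m₁ : ℕ, c + m₁ = 0
  · obtain ⟨m₁, hm₁⟩ := hex
    apply false_of_roots_of_unity (1 : K)
    intro t
    have hne : (1 : K) + t ≠ 0 := by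
      have : ((1 + t : ℕ) : K) ≠ 0 := Nat.cast_ne_zero.mpr (by omega)
      simpa using this
    apply aux _ hne
    have := h (m₁ + 1 + t)
    have e : c + ((m₁ + 1 + t : ℕ) : K) = 1 + t := by
      push_cast
      rw [← add_assoc, ← add_assoc, hm₁, zero_add]
    rwa [e] at this
  · push Not at hex
    apply false_of_roots_of_unity c
    intro t
    exact aux _ (hex t) (h t)

end Groth.Agent.Lib.Helper11.ElemInv
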