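import Mathlib
import Groth.Agent.Lib.Helper11.ElemInv1
import Groth.Agent.Lib.Helper11.ElemInv2

set_option autoImplicit false
set_option linter.unusedSectionVars false
set_option linter.unusedVariables false
set_option linter.style.haveILetI false

open CategoryTheory AlgebraicGeometry MvPolynomial

universe u v

namespace Groth.Agent.Lib.Helper11.ElemInv

section

variable {k : Type u} [Field k] {n : ℕ}


/-- The residue-field point of a prime. -/
noncomputable def rpt (q : Ideal (MvPolynomial (Fin n) k)) [q.IsPrime] : Fin n → q.ResidueField :=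
  fun l => algebraMap (MvPolynomial (Fin n) k) q.ResidueField (MvPolynomial.X l)

lemma aeval_rpt (q : Ideal (MvPolynomial (Fin n) k)) [q.IsPrime] (f : (MvPolynomial (Fin n) k)) :
    MvPolynomial.aeval (rpt q) f = algebraMap (MvPolynomial (Fin n) k) q.ResidueField f := by
  have := MvPolynomial.aeval_unique
    ((IsScalarTower.toAlgHom k (MvPolynomial (Fin n) k) q.ResidueField))
  have h2 := AlgHom.congr_fun this f
  rw [IsScalarTower.toAlgHom_apply] at h2
  rw [h2]
  rfl

lemma inZ_rpt (I : Ideal (MvPolynomial (Fin n) k)) (q : Ideal (MvPolynomial (Fin n) k)) [q.IsPrime] (h : I ≤ q) : InZ I (rpt q) := by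
  intro f hf
  rw [aeval_rpt]
  exact Ideal.algebraMap_residueField_eq_zero.mpr (h hf)

variable (I : Ideal (MvPolynomial (Fin n) k))
variable (hI : ∀ i j : Fin n, i ≠ j → ∀ d : ℕ, ∀ f ∈ I, T k i j d f ∈ I)
include hI

lemma inZ_shift {K : Type v} [Field K] [Algebra k K] (b : Fin n → K) (hb : InZ I b)
    (i j : Fin n) (hij : i ≠ j) (m : ℕ) : InZ I (Function.update b i (b i + m)) := by
  induction m with
  | zero => simpa using hb
  | succ m ih =>
    have := InZ.update I hI ih i j hij 0
    convert this using 1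
    rw [Function.update_self, pow_zero, Function.update_idem]
    congr 1
    push_cast
    ring

lemma exists_pow_eq (hn : 2 ≤ n) (hne : I ≠ ⊥) {K : Type v} [Field K] [Algebra k K]
    (b : Fin n → K) (hb : InZ I b) (i : Fin n) (m : ℕ) :
    ∃ d d' : ℕ, d < d' ∧ (b i + m) ^ d = (b i + m) ^ d' := by
  classical
  haveI : Nontrivial (Fin n) := Fin.nontrivial_iff_two_le.mpr hn
  obtain ⟨j, hji⟩ := exists_ne i
  have h1 := inZ_shift I hI b hb i j hji.symm m
  by_contra hcon
  apply hne
  apply eq_bot_of_point I hI hn _ h1 i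
  rw [Function.update_self]
  intro d d' hdd
  by_contra hne'
  apply hcon
  rcases lt_or_gt_of_ne hne' with hlt | hlt
  · exact ⟨d, d', hlt, hdd⟩
  · exact ⟨d', d, hlt, hdd.symm⟩

lemma false_of_charZero_of_le (hn : 2 ≤ n) (hne : I ≠ ⊥) [CharZero k]
    (q : Ideal (MvPolynomial (Fin n) k)) [q.IsPrime] (hq : I ≤ q) : False := by
  haveI : CharZero q.ResidueField :=
    charZero_of_injective_algebraMap (algebraMap k q.ResidueField).injective
  have i : Fin n := ⟨0, by omega⟩
  exact false_of_charZero (rpt q i)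
    (fun m => exists_pow_eq I hI hn hne (rpt q) (inZ_rpt I q hq) i m)

lemma coord_of_le (hn : 2 ≤ n) (hne : I ≠ ⊥) (p : ℕ) [hp : Fact p.Prime] [CharP k p]
    (q : Ideal (MvPolynomial (Fin n) k)) [q.IsPrime] (hq : I ≤ q) (i : Fin n) :
    ∃ m : ℕ, 0 < m ∧ (algebraMap (MvPolynomial (Fin n) k) q.ResidueField (MvPolynomial.X i)) ^ (p ^ m) =
      algebraMap (MvPolynomial (Fin n) k) q.ResidueField (MvPolynomial.X i) := by
  haveI : CharP q.ResidueField p :=
    charP_of_injective_algebraMap (algebraMap k q.ResidueField).injective p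
  obtain ⟨d, d', hdd, h⟩ := exists_pow_eq I hI hn hne (rpt q) (inZ_rpt I q hq) i 0
  simp only [Nat.cast_zero, add_zero] at h
  exact exists_pow_char_pow_eq p (rpt q i) hdd h

lemma isMaximal_of_le (hn : 2 ≤ n) (hne : I ≠ ⊥) (p : ℕ) [hp : Fact p.Prime] [CharP k p]
    (q : Ideal (MvPolynomial (Fin n) k)) [q.IsPrime] (hq : I ≤ q) : q.IsMaximal := by
  have hinj : Function.Injective (algebraMap ((MvPolynomial (Fin n) k) ⧸ q) q.ResidueField) :=
    IsFractionRing.injective ((MvPolynomial (Fin n) k) ⧸ q) q.ResidueField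
  have hX : ∀ i : Fin n, IsIntegral k (Ideal.Quotient.mk q (MvPolynomial.X i)) := by
    intro i
    obtain ⟨m, hm, h⟩ := coord_of_le I hI hn hne p q hq i
    have h2 : (Ideal.Quotient.mk q (MvPolynomial.X i)) ^ (p ^ m) =
        Ideal.Quotient.mk q (MvPolynomial.X i) := by
      apply hinj
      rw [map_pow]
      have e : algebraMap ((MvPolynomial (Fin n) k) ⧸ q) q.ResidueField (Ideal.Quotient.mk q (MvPolynomial.X i)) =
          algebraMap (MvPolynomial (Fin n) k) q.ResidueField (MvPolynomial.X i) := by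
        rw [← Ideal.Quotient.algebraMap_eq, ← IsScalarTower.algebraMap_apply]
      rw [e, h]
    have hlt : 1 < p ^ m := Nat.one_lt_pow hm.ne' hp.out.one_lt
    refine ⟨Polynomial.X ^ (p ^ m) - Polynomial.X, Polynomial.monic_X_pow_sub ?_, ?_⟩
    · rw [Polynomial.degree_X]; exact_mod_cast hlt
    · simp [h2]
  have hall : ∀ f : (MvPolynomial (Fin n) k), IsIntegral k (Ideal.Quotient.mk q f) := by
    intro f
    induction f using MvPolynomial.induction_on with
    | C a =>
      have : Ideal.Quotient.mk q (MvPolynomial.C a) = algebraMap k ((MvPolynomial (Fin n) k) ⧸ q) a := rfl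
      rw [this]
      exact isIntegral_algebraMap
    | add f g hf hg => rw [map_add]; exact hf.add hg
    | mul_X f i hf => rw [map_mul]; exact hf.mul (hX i)
  haveI : Algebra.IsIntegral k ((MvPolynomial (Fin n) k) ⧸ q) := ⟨fun x => by
    obtain ⟨f, rfl⟩ := Ideal.Quotient.mk_surjective x
    exact hall f⟩
  exact Ideal.Quotient.maximal_of_isField q
    (isField_of_isIntegral_of_isField' (R := k) (Field.toIsField k))

end

end Groth.Agent.Lib.Helper11.ElemInv
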