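import Mathlib
import Groth.Agent.Lib.Helper11.ElemInv3

set_option autoImplicit false
set_option linter.unusedSectionVars false
set_option linter.unusedVariables false
set_option linter.style.haveILetI false

open CategoryTheory AlgebraicGeometry

universe u v

namespace Groth.Agent.Lib.Helper11.ElemInv

theorem main (k : Type u) [Field k] (n : ℕ) (hn : 2 ≤ n)
    (W : (Spec (CommRingCat.of (MvPolynomial (Fin n) k))).Opens)
    (hW : (W : Set ↥(Spec (CommRingCat.of (MvPolynomial (Fin n) k)))).Nonempty)
    (hinv : ∀ (i j : Fin n), i ≠ j → ∀ d : ℕ,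
      (Spec.map (CommRingCat.ofHom (MvPolynomial.aeval (R := k)
        (Function.update MvPolynomial.X i (MvPolynomial.X i + MvPolynomial.X j ^ d) :
          Fin n → MvPolynomial (Fin n) k)).toRingHom)) ⁻¹ᵁ W = W) :
    W = ⊤ ∨ ∃ p : ℕ, p.Prime ∧ CharP k p ∧ ((W : Set ↥(Spec (CommRingCat.of (MvPolynomial (Fin n) k))))ᶜ).Finite ∧
      ∀ x : ↥(Spec (CommRingCat.of (MvPolynomial (Fin n) k))),
        x ∉ (W : Set ↥(Spec (CommRingCat.of (MvPolynomial (Fin n) k)))) →
        IsClosed ({x} : Set ↥(Spec (CommRingCat.of (MvPolynomial (Fin n) k)))) ∧ ∀ i : Fin n, ∃ m : ℕ, 0 < m ∧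
          (algebraMap (MvPolynomial (Fin n) k) x.asIdeal.ResidueField (MvPolynomial.X i)) ^ (p ^ m) =
            algebraMap (MvPolynomial (Fin n) k) x.asIdeal.ResidueField (MvPolynomial.X i) := by
  classical
  -- the closed complement
  set Z : Set (PrimeSpectrum (MvPolynomial (Fin n) k)) :=
    ((W : Set ↥(Spec (CommRingCat.of (MvPolynomial (Fin n) k))))ᶜ :
      Set ↥(Spec (CommRingCat.of (MvPolynomial (Fin n) k)))) with hZdef
  have hZcl : IsClosed Z := W.isOpen.isClosed_compl
  set I : Ideal (MvPolynomial (Fin n) k) := PrimeSpectrum.vanishingIdeal Z with hIdef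
  have hzl : PrimeSpectrum.zeroLocus (I : Set (MvPolynomial (Fin n) k)) = Z := by
    rw [hIdef, PrimeSpectrum.zeroLocus_vanishingIdeal_eq_closure, hZcl.closure_eq]
  have hmemZ : ∀ z : PrimeSpectrum (MvPolynomial (Fin n) k), z ∈ Z ↔ I ≤ z.asIdeal := by
    intro z
    rw [← hzl, PrimeSpectrum.mem_zeroLocus]
    rfl
  -- invariance
  have hI : ∀ i j : Fin n, i ≠ j → ∀ d : ℕ, ∀ f ∈ I, T k i j d f ∈ I := by
    intro i j hij d f hf
    rw [hIdef, PrimeSpectrum.mem_vanishingIdeal]
    intro z hz
    have h1 := hinv i j hij d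
    have h2 : (Spec.map (CommRingCat.ofHom (MvPolynomial.aeval (R := k)
        (Function.update MvPolynomial.X i (MvPolynomial.X i + MvPolynomial.X j ^ d) :
          Fin n → MvPolynomial (Fin n) k)).toRingHom)) z ∉ W := by
      intro hcon
      have : z ∈ (Spec.map (CommRingCat.ofHom (MvPolynomial.aeval (R := k)
        (Function.update MvPolynomial.X i (MvPolynomial.X i + MvPolynomial.X j ^ d) :
          Fin n → MvPolynomial (Fin n) k)).toRingHom)) ⁻¹ᵁ W := hcon
      rw [h1] at this
      exact hz this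
    have h3 : PrimeSpectrum.comap ((MvPolynomial.aeval (R := k)
        (Function.update MvPolynomial.X i (MvPolynomial.X i + MvPolynomial.X j ^ d) :
          Fin n → MvPolynomial (Fin n) k)).toRingHom) z ∈ Z := h2
    have h4 := (PrimeSpectrum.mem_vanishingIdeal _ _).mp hf _ h3
    exact h4
  have hne : I ≠ ⊥ := by
    intro hbot
    rw [hbot] at hzl
    obtain ⟨w, hw⟩ := hW
    have : w ∈ Z := by
      rw [← hzl]
      simp only [Submodule.bot_coe, PrimeSpectrum.zeroLocus_singleton_zero]
      exact Set.mem_univ _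
    exact this hw
  by_cases hZe : Z = ∅
  · left
    ext x
    simp only [TopologicalSpace.Opens.coe_top, Set.mem_univ, iff_true]
    by_contra hx
    have : x ∈ Z := hx
    rw [hZe] at this
    exact this
  · obtain ⟨z, hz⟩ := Set.nonempty_iff_ne_empty.mpr hZe
    obtain ⟨p, hp⟩ := CharP.exists k
    rcases CharP.char_is_prime_or_zero k p with hpp | hp0
    · right
      haveI : Fact p.Prime := ⟨hpp⟩
      have hmax : ∀ x ∈ Z, x.asIdeal.IsMaximal := fun x hx =>
        isMaximal_of_le I hI hn hne p x.asIdeal ((hmemZ x).mp hx)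
      refine ⟨p, hpp, hp, ?_, ?_⟩
      · -- finiteness
        have hfin : (I.minimalPrimes).Finite := Ideal.finite_minimalPrimes_of_isNoetherianRing _ I
        have hsub : Z ⊆ PrimeSpectrum.asIdeal ⁻¹' I.minimalPrimes := by
          intro x hx
          have hIx := (hmemZ x).mp hx
          obtain ⟨P, hP, hPx⟩ := Ideal.exists_minimalPrimes_le hIx
          haveI : P.IsPrime := hP.1.1
          have hPZ : (⟨P, hP.1.1⟩ : PrimeSpectrum (MvPolynomial (Fin n) k)) ∈ Z :=
            (hmemZ _).mpr hP.1.2
          have hPmax : P.IsMaximal := hmax _ hPZ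
          have : P = x.asIdeal := hPmax.eq_of_le x.2.ne_top hPx
          show x.asIdeal ∈ I.minimalPrimes
          rw [← this]
          exact hP
        exact (hfin.preimage (fun a _ b _ hab => PrimeSpectrum.ext hab)).subset hsub
      · intro x hx
        have hxZ : x ∈ Z := hx
        refine ⟨?_, fun i => coord_of_le I hI hn hne p x.asIdeal ((hmemZ x).mp hxZ) i⟩
        exact (PrimeSpectrum.isClosed_singleton_iff_isMaximal x).mpr (hmax x hxZ)
    · exfalso
      subst hp0
      haveI : CharZero k := CharP.charP_to_charZero k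
      exact false_of_charZero_of_le I hI hn hne z.asIdeal ((hmemZ z).mp hz)

end Groth.Agent.Lib.Helper11.ElemInv
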