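import Mathlib
import Groth.Prelude.Def_Smoothing
import Groth.Agent.Lib.Helper8.AA4
import Groth.Agent.S0536

/-!
# Functors preserving filtered colimits on a Henselian pair with regular completion map
-/

set_option backward.isDefEq.respectTransparency.types false
set_option autoImplicit false
set_option linter.unusedSectionVars false
set_option linter.unusedVariables false
set_option linter.style.haveILetI false

open Smoothing TensorProduct CategoryTheory CategoryTheory.Limits

namespace Groth.Agent.Lib.Helper11.FApx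

universe u

open Groth.Agent.Lib.Helper4.IndEt Groth.Agent.Lib.Helper4.FinAcc Groth.Agent.Lib.Helper8

/-- any finitely presented stage mapping to the completion retracts onto `A`, compatibly with the
reduction modulo `I`. -/
theorem exists_retraction (A : Type u) [CommRing A] [IsNoetherianRing A] (I : Ideal A)
    [HenselianRing A I] (hreg : CAlg.IsRegularHom A (AdicCompletion I A))
    (Z : Under (CommRingCat.of A)) (hZ : Z.hom.hom.FinitePresentation)
    (ι : Z ⟶ Under.mk (CommRingCat.ofHom (algebraMap A (AdicCompletion I A)))) :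
    ∃ w : Z ⟶ Under.mk (𝟙 (CommRingCat.of A)),
      ∀ z : Z.right, Ideal.Quotient.mk I (w.right.hom z) =
        AdicCompletion.evalOneₐ I (ι.right.hom z) := by
  letI := Z.hom.hom.toAlgebra
  haveI : Algebra.FinitePresentation A Z.right := hZ
  let g : Z.right →ₐ[A] AdicCompletion I A :=
    { toRingHom := ι.right.hom
      commutes' := fun a => by
        have := congrArg (fun φ => φ.hom a) (Under.w ι)
        exact this }
  haveI : IsNoetherianRing (AdicCompletion I A) :=
    Groth.Agent.Lib.Helper21.isNoetherianRing_adicCompletion_of_fg I (IsNoetherian.noetherian I)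
  obtain ⟨B, _, _, hsm, u, h, huh⟩ := PO5.popescu A (AdicCompletion I A) hreg Z.right inferInstance g
  haveI := hsm
  let σ : B →ₐ[A] A ⧸ I := (AdicCompletion.evalOneₐ I).comp h
  obtain ⟨τ, hτ⟩ := Groth.Agent.S0536.result A B A I σ
  let w : Z ⟶ Under.mk (𝟙 (CommRingCat.of A)) :=
    Under.homMk (CommRingCat.ofHom (τ.comp u).toRingHom) (by
      ext a
      exact (τ.comp u).commutes a)
  refine ⟨w, fun z => ?_⟩
  change Ideal.Quotient.mk I (τ (u z)) = AdicCompletion.evalOneₐ I (g z)
  have h1 : Ideal.Quotient.mk I (τ (u z)) = σ (u z) := by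
    rw [← hτ]
    rfl
  rw [h1, ← huh]
  rfl

/-- maps out of the initial object `A` of `Under A` agree -/
theorem hom_initial_ext (A : Type u) [CommRing A] {X : Under (CommRingCat.of A)}
    (f g : Under.mk (𝟙 (CommRingCat.of A)) ⟶ X) : f = g :=
  (Under.mkIdInitial (X := CommRingCat.of A)).hom_ext f g

theorem functor_injective (A : Type u) [CommRing A] [IsNoetherianRing A] (I : Ideal A)
    [HenselianRing A I] (hreg : CAlg.IsRegularHom A (AdicCompletion I A))
    (G : Under (CommRingCat.of A) ⥤ Type u)
    (hG : ∀ (J : Type u) [SmallCategory J] [IsFiltered J], PreservesColimitsOfShape J G)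
    (c : Under.mk (𝟙 (CommRingCat.of A)) ⟶
      Under.mk (CommRingCat.ofHom (algebraMap A (AdicCompletion I A)))) :
    Function.Injective (G.map c) := by
  intro x₁ x₂ hx
  obtain ⟨J, _, _, pres, hp⟩ := ind_pfp (R := A)
    (Under.mk (CommRingCat.ofHom (algebraMap A (AdicCompletion I A))))
  haveI := hG J
  have hc := isColimitOfPreserves G pres.isColimit
  obtain ⟨j₀⟩ := IsFiltered.nonempty (C := J)
  let a : ∀ j : J, Under.mk (𝟙 (CommRingCat.of A)) ⟶ pres.diag.obj j := fun j =>
    (Under.mkIdInitial (X := CommRingCat.of A)).to _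
  have ha : ∀ j, a j ≫ pres.ι.app j = c := fun j => hom_initial_ext A _ _
  have h1 : (G.mapCocone pres.cocone).ι.app j₀ (G.map (a j₀) x₁) =
      (G.mapCocone pres.cocone).ι.app j₀ (G.map (a j₀) x₂) := by
    change G.map (pres.ι.app j₀) (G.map (a j₀) x₁) = G.map (pres.ι.app j₀) (G.map (a j₀) x₂)
    rw [← FunctorToTypes.map_comp_apply, ← FunctorToTypes.map_comp_apply, ha, hx]
  obtain ⟨k, f, g, hfg⟩ := (Types.FilteredColimit.isColimit_eq_iff _ hc).mp h1
  have h2 : G.map (a k) x₁ = G.map (a k) x₂ := by
    have e1 : a j₀ ≫ pres.diag.map f = a k := hom_initial_ext A _ _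
    have e2 : a j₀ ≫ pres.diag.map g = a k := hom_initial_ext A _ _
    change G.map (pres.diag.map f) (G.map (a j₀) x₁) = G.map (pres.diag.map g) (G.map (a j₀) x₂)
      at hfg
    rw [← FunctorToTypes.map_comp_apply, ← FunctorToTypes.map_comp_apply, e1, e2] at hfg
    exact hfg
  obtain ⟨w, -⟩ := exists_retraction A I hreg (pres.diag.obj k) (hp k) (pres.ι.app k)
  have e3 : a k ≫ w = 𝟙 _ := hom_initial_ext A _ _
  calc x₁ = G.map (a k ≫ w) x₁ := by rw [e3]; simp
    _ = G.map w (G.map (a k) x₁) := by simp
    _ = G.map w (G.map (a k) x₂) := by rw [h2]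
    _ = G.map (a k ≫ w) x₂ := by simp
    _ = x₂ := by rw [e3]; simp

theorem functor_lifts_iff (A : Type u) [CommRing A] [IsNoetherianRing A] (I : Ideal A)
    [HenselianRing A I] (hreg : CAlg.IsRegularHom A (AdicCompletion I A))
    (G : Under (CommRingCat.of A) ⥤ Type u)
    (hG : ∀ (J : Type u) [SmallCategory J] [IsFiltered J], PreservesColimitsOfShape J G)
    (c : Under.mk (𝟙 (CommRingCat.of A)) ⟶
      Under.mk (CommRingCat.ofHom (algebraMap A (AdicCompletion I A))))
    (q : Under.mk (𝟙 (CommRingCat.of A)) ⟶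
      Under.mk (CommRingCat.ofHom (algebraMap A (A ⧸ I))))
    (ev : Under.mk (CommRingCat.ofHom (algebraMap A (AdicCompletion I A))) ⟶
      Under.mk (CommRingCat.ofHom (algebraMap A (A ⧸ I))))
    (hev : ev.right = CommRingCat.ofHom (AdicCompletion.evalOneₐ I).toRingHom)
    (xbar : G.obj (Under.mk (CommRingCat.ofHom (algebraMap A (A ⧸ I))))) :
    (∃ x, G.map q x = xbar) ↔ (∃ y, G.map ev y = xbar) := by
  constructor
  · rintro ⟨x, rfl⟩
    refine ⟨G.map c x, ?_⟩
    have : c ≫ ev = q := hom_initial_ext A _ _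
    rw [← FunctorToTypes.map_comp_apply, this]
  · rintro ⟨y, rfl⟩
    obtain ⟨Z, hZ, ι, x, hx⟩ := AA4.exists_fp_stage A _ G hG y
    obtain ⟨w, hw⟩ := exists_retraction A I hreg Z hZ ι
    have hq : q.right = CommRingCat.ofHom (algebraMap A (A ⧸ I)) := by
      have := Under.w q
      simpa using this
    have hcomm : w ≫ q = ι ≫ ev := by
      ext z
      change q.right.hom (w.right.hom z) = ev.right.hom (ι.right.hom z)
      rw [hq, hev]
      exact hw z
    refine ⟨G.map w x, ?_⟩
    calc G.map q (G.map w x) = G.map (w ≫ q) x := by simp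
      _ = G.map (ι ≫ ev) x := by rw [hcomm]
      _ = G.map ev (G.map ι x) := by simp
      _ = G.map ev y := by rw [hx]

end Groth.Agent.Lib.Helper11.FApx
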