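import Mathlib

/-!
# Algebra lemmas for the theorem on formal functions (helper11, requested by helper12)
-/
universe u

namespace Groth.Agent.Lib.Helper11.FFAlg

open TensorProduct

/-- the inverse limit of a tower of additive groups, as a subgroup of the product -/
def limSub (Hn : ℕ → Type u) [∀ n, AddCommGroup (Hn n)] (t : ∀ n, Hn (n + 1) →+ Hn n) :
    AddSubgroup (∀ n, Hn n) where
  carrier := {x | ∀ n, t n (x (n + 1)) = x n}
  zero_mem' := by intro n; simp
  add_mem' := by intro x y hx hy n; simp [hx n, hy n]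
  neg_mem' := by intro x hx n; simp [hx n]

/-- TASK B3. -/
theorem isAdicComplete_of_finite_of_isNoetherianRing {A : Type u} [CommRing A] [IsNoetherianRing A]
    (I : Ideal A) [IsAdicComplete I A] (H : Type u) [AddCommGroup H] [Module A H] [Module.Finite A H] :
    IsAdicComplete I H := by
  rw [← AdicCompletion.of_bijective_iff]
  have h1 := AdicCompletion.ofTensorProduct_bijective_of_finite_of_isNoetherian I H
  let e : A ≃ₗ[A] AdicCompletion I A :=
    LinearEquiv.ofBijective (AdicCompletion.of I A) (AdicCompletion.of_bijective I A)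
  let e2 : H ≃ₗ[A] AdicCompletion I A ⊗[A] H :=
    (TensorProduct.lid A H).symm ≪≫ₗ (TensorProduct.congr e (LinearEquiv.refl A H))
  have h2 : (AdicCompletion.of I H : H → _) = (AdicCompletion.ofTensorProduct I H) ∘ e2 := by
    funext h
    have : e 1 = 1 := rfl
    simp [e2, AdicCompletion.ofTensorProduct_tmul, this]
  rw [h2]
  exact h1.comp e2.bijective

/-- compatible families are compatible with the iterated transition maps -/
theorem T_compat (Hn : ℕ → Type u) [∀ n, AddCommGroup (Hn n)]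
    (t : ∀ n, Hn (n + 1) →+ Hn n) (T : ∀ n k, n ≤ k → (Hn k →+ Hn n))
    (hT0 : ∀ n (y : Hn n), T n n le_rfl y = y)
    (hT1 : ∀ n k (h : n ≤ k) (y : Hn (k + 1)), T n (k + 1) (Nat.le_succ_of_le h) y = T n k h (t k y))
    (y : ∀ n, Hn n) (hy : ∀ n, t n (y (n + 1)) = y n) (n k : ℕ) (h : n ≤ k) :
    T n k h (y k) = y n := by
  induction k, h using Nat.le_induction with
  | base => exact hT0 n _
  | succ k hk ih => rw [hT1 n k hk, hy k, ih]

/-- TASK B2 (complete case). -/
theorem bijective_toLim_of_isAdicComplete {A : Type u} [CommRing A] (I : Ideal A)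
    {H : Type u} [AddCommGroup H] [Module A H] [IsAdicComplete I H]
    (Hn : ℕ → Type u) [∀ n, AddCommGroup (Hn n)]
    (φ : ∀ n, H →+ Hn n) (t : ∀ n, Hn (n + 1) →+ Hn n)
    (T : ∀ n k, n ≤ k → (Hn k →+ Hn n))
    (hT0 : ∀ n (y : Hn n), T n n le_rfl y = y)
    (hT1 : ∀ n k (h : n ≤ k) (y : Hn (k + 1)), T n (k + 1) (Nat.le_succ_of_le h) y = T n k h (t k y))
    (hφ : ∀ n x, t n (φ (n + 1) x) = φ n x)
    (h0 : ∀ n, ∀ x ∈ (I ^ (n + 1) • (⊤ : Submodule A H)), φ n x = 0)
    (h1 : ∃ c, ∀ n, c ≤ n → ∀ x, φ n x = 0 → x ∈ I ^ (n - c) • (⊤ : Submodule A H))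
    (h2 : ∃ c, ∀ n k (h : n ≤ k), n + c ≤ k → ∀ y : Hn k, ∃ x : H, φ n x = T n k h y) :
    Function.Bijective (fun x : H => (⟨fun n => φ n x, fun n => hφ n x⟩ : limSub Hn t)) := by
  obtain ⟨c1, h1⟩ := h1
  obtain ⟨c2, h2⟩ := h2
  have Tc := T_compat Hn t T hT0 hT1
  have pow_mono : ∀ {m n : ℕ}, n ≤ m → (I ^ m • (⊤ : Submodule A H)) ≤ I ^ n • (⊤ : Submodule A H) :=
    fun h => Submodule.smul_mono_left (Ideal.pow_le_pow_right h)
  constructor
  · intro x x' hxx'
    have hx : ∀ n, φ n x = φ n x' := fun n => congrFun (congrArg Subtype.val hxx') n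
    rw [IsHausdorff.eq_iff_smodEq (I := I)]
    intro n
    rw [SModEq.sub_mem]
    have := h1 (n + c1) (by lia) (x - x') (by rw [map_sub, hx, sub_self])
    simpa using this
  · rintro ⟨y, hy⟩
    have hy' : ∀ n, t n (y (n + 1)) = y n := hy
    have hex : ∀ n, ∃ x : H, φ n x = y n := fun n => by
      obtain ⟨x, hx⟩ := h2 n (n + c2) (by lia) le_rfl (y (n + c2))
      exact ⟨x, by rw [hx, Tc y hy']⟩
    choose g hg using hex
    have hker : ∀ n, φ n (g (n + 1) - g n) = 0 := fun n => by
      rw [map_sub, ← hφ n (g (n + 1)), hg, hg, hy' n, sub_self]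
    let f : ℕ → H := fun m => g (m + c1)
    have hstep : ∀ m, f (m + 1) - f m ∈ I ^ m • (⊤ : Submodule A H) := fun m => by
      have := h1 (m + c1) (by lia) _ (hker (m + c1))
      have e : m + c1 - c1 = m := by lia
      rw [e] at this
      have e2 : f (m + 1) = g (m + c1 + 1) := by
        change g (m + 1 + c1) = _
        congr 1; lia
      rw [e2]
      exact this
    have hcauchy : ∀ {m n}, m ≤ n → f m ≡ f n [SMOD (I ^ m • ⊤ : Submodule A H)] := by
      intro m n hmn
      induction n, hmn using Nat.le_induction with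
      | base => rfl
      | succ n hn ih =>
        refine ih.trans ?_
        rw [SModEq.sub_mem]
        have := pow_mono hn (hstep n)
        have e : f n - f (n + 1) = -(f (n + 1) - f n) := by abel
        rw [e]
        exact Submodule.neg_mem _ this
    obtain ⟨L, hL⟩ := IsPrecomplete.prec' (I := I) f hcauchy
    refine ⟨L, Subtype.ext (funext fun n => ?_)⟩
    change φ n L = y n
    have hLn : f (n + 1) - L ∈ I ^ (n + 1) • (⊤ : Submodule A H) := by
      rw [← SModEq.sub_mem]; exact hL (n + 1)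
    have h3 : φ n (f (n + 1)) = φ n L := by
      have := h0 n _ hLn
      rwa [map_sub, sub_eq_zero] at this
    rw [← h3]
    have h4 : ∀ k (h : n ≤ k), φ n (g k) = y n := fun k h => by
      rw [← Tc (fun j => φ j (g k)) (fun j => hφ j (g k)) n k h]
      rw [hg, Tc y hy']
    exact h4 _ (by lia)

/-- TASK B1 (completion versus limit). `T n k h : Hn k →+ Hn n` are the iterated transition maps. -/
theorem nonempty_adicCompletion_addEquiv_lim {A : Type u} [CommRing A] (I : Ideal A)
    {H : Type u} [AddCommGroup H] [Module A H]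
    (Hn : ℕ → Type u) [∀ n, AddCommGroup (Hn n)]
    (φ : ∀ n, H →+ Hn n) (t : ∀ n, Hn (n + 1) →+ Hn n)
    (T : ∀ n k, n ≤ k → (Hn k →+ Hn n))
    (hT0 : ∀ n (y : Hn n), T n n le_rfl y = y)
    (hT1 : ∀ n k (h : n ≤ k) (y : Hn (k + 1)), T n (k + 1) (Nat.le_succ_of_le h) y = T n k h (t k y))
    (hφ : ∀ n x, t n (φ (n + 1) x) = φ n x)
    (h0 : ∀ n, ∀ x ∈ (I ^ (n + 1) • (⊤ : Submodule A H)), φ n x = 0)
    (h1 : ∃ c, ∀ n, c ≤ n → ∀ x, φ n x = 0 → x ∈ I ^ (n - c) • (⊤ : Submodule A H))
    (h2 : ∃ c, ∀ n k (h : n ≤ k), n + c ≤ k → ∀ y : Hn k, ∃ x : H, φ n x = T n k h y) :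
    Nonempty (AdicCompletion I H ≃+ limSub Hn t) := by
  obtain ⟨c1, h1⟩ := h1
  obtain ⟨c2, h2⟩ := h2
  have Tc := T_compat Hn t T hT0 hT1
  have hrep : ∀ (x : AdicCompletion I H) (n : ℕ), ∃ h : H,
      Submodule.Quotient.mk (p := (I ^ n • ⊤ : Submodule A H)) h = x.val n :=
    fun x n => Submodule.Quotient.mk_surjective _ _
  choose rep hrep using hrep
  have hR : ∀ (x : AdicCompletion I H) (m n : ℕ) (hmn : m ≤ n),
      Submodule.Quotient.mk (p := (I ^ m • ⊤ : Submodule A H)) (rep x n) = x.val m := by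
    intro x m n hmn
    have := x.property hmn
    rw [← hrep x n] at this
    exact this
  have hK : ∀ (x : AdicCompletion I H) (n : ℕ) (h : H),
      Submodule.Quotient.mk (p := (I ^ (n + 1) • ⊤ : Submodule A H)) h = x.val (n + 1) →
        φ n h = φ n (rep x (n + 1)) := by
    intro x n h hh
    rw [← hrep x (n + 1), Submodule.Quotient.eq] at hh
    have := h0 n _ hh
    rwa [map_sub, sub_eq_zero] at this
  let F : AdicCompletion I H →+ limSub Hn t :=
    { toFun := fun x => ⟨fun n => φ n (rep x (n + 1)), fun n => by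
        change t n (φ (n + 1) (rep x (n + 1 + 1))) = φ n (rep x (n + 1))
        rw [hφ]
        exact hK x n _ (hR x (n + 1) (n + 1 + 1) (Nat.le_succ _))⟩
      map_zero' := by
        apply Subtype.ext; funext n
        change φ n (rep 0 (n + 1)) = 0
        rw [← hK 0 n 0 (by rw [Submodule.Quotient.mk_zero, AdicCompletion.val_zero_apply]), map_zero]
      map_add' := fun x y => by
        apply Subtype.ext; funext n
        change φ n (rep (x + y) (n + 1)) = φ n (rep x (n + 1)) + φ n (rep y (n + 1))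
        rw [← map_add, ← hK (x + y) n (rep x (n + 1) + rep y (n + 1))
          (by rw [Submodule.Quotient.mk_add, hrep, hrep, AdicCompletion.val_add_apply])] }
  refine ⟨AddEquiv.ofBijective F ⟨?_, ?_⟩⟩
  · rw [injective_iff_map_eq_zero]
    intro x hx
    have hx' : ∀ n, φ n (rep x (n + 1)) = 0 := fun n => congrFun (congrArg Subtype.val hx) n
    apply AdicCompletion.ext
    intro m
    rw [AdicCompletion.val_zero_apply, ← hR x m (m + c1 + 1) (by lia),
      Submodule.Quotient.mk_eq_zero]
    have := h1 (m + c1) (by lia) _ (hx' (m + c1))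
    simpa using this
  · rintro ⟨y, hy⟩
    have hy' : ∀ n, t n (y (n + 1)) = y n := hy
    have hex : ∀ n, ∃ x : H, φ n x = y n := fun n => by
      obtain ⟨x, hx⟩ := h2 n (n + c2) (by lia) le_rfl (y (n + c2))
      exact ⟨x, by rw [hx, Tc y hy']⟩
    choose g hg using hex
    have hφg : ∀ n k (h : n ≤ k), φ n (g k) = y n := fun n k h => by
      rw [← Tc (fun j => φ j (g k)) (fun j => hφ j (g k)) n k h]
      rw [hg, Tc y hy']
    have hdiff : ∀ m m' (h : m ≤ m'), g (m' + c1) - g (m + c1) ∈ I ^ m • (⊤ : Submodule A H) := by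
      intro m m' h
      have hz : φ (m + c1) (g (m' + c1) - g (m + c1)) = 0 := by
        rw [map_sub, hg, hφg (m + c1) (m' + c1) (by lia), sub_self]
      have := h1 (m + c1) (by lia) _ hz
      simpa using this
    let x : AdicCompletion I H := ⟨fun m => Submodule.Quotient.mk (g (m + c1)), fun {m n} hmn => by
      change Submodule.Quotient.mk (g (n + c1)) = Submodule.Quotient.mk (g (m + c1))
      rw [Submodule.Quotient.eq]
      exact hdiff m n hmn⟩
    refine ⟨x, Subtype.ext (funext fun n => ?_)⟩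
    change φ n (rep x (n + 1)) = y n
    rw [← hK x n (g (n + 1 + c1)) rfl]
    exact hφg n _ (by lia)

end Groth.Agent.Lib.Helper11.FFAlg
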