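import Mathlib
import Groth.Prelude.Def_W4c2filtblowupsingRees
import Groth.Prelude.Def_GrLC
import Groth.Agent.Lib.Helper11.GrLCDecomp

/-!
# The extended Rees algebra of a filtration as a ℤ-graded *local ring
-/

set_option autoImplicit false
set_option linter.unusedSectionVars false
set_option linter.unusedVariables false
set_option linter.style.haveILetI false
universe u

namespace Groth.Agent.Lib.Helper11.FiltRees

open LaurentPolynomial DirectSum FiltBl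

variable {A : Type u} [CommRing A] (𝓕 : IdealFiltration A)

theorem mem_extRees {f : A[T;T⁻¹]} : f ∈ 𝓕.extRees ↔ ∀ n : ℤ, f.coeff n ∈ 𝓕.F n.toNat := Iff.rfl

theorem coe_mem (f : 𝓕.extRees) (n : ℤ) : (f : A[T;T⁻¹]).coeff n ∈ 𝓕.F n.toNat := f.2 n

theorem single_mem {n : ℤ} {a : A} (ha : a ∈ 𝓕.F n.toNat) :
    (AddMonoidAlgebra.single n a : A[T;T⁻¹]) ∈ 𝓕.extRees := by
  classical
  intro m
  rw [AddMonoidAlgebra.coeff_single, Finsupp.single_apply]
  split_ifs with h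
  · subst h; exact ha
  · exact Ideal.zero_mem _

/-- the pieces of the grading -/
noncomputable def erGr (n : ℤ) : AddSubgroup 𝓕.extRees :=
  (AddMonoidHom.range (AddMonoidAlgebra.singleAddHom n : A →+ A[T;T⁻¹])).comap
    ((𝓕.extRees.val.toRingHom : 𝓕.extRees →+* A[T;T⁻¹]).toAddMonoidHom)

theorem mem_erGr {n : ℤ} {f : 𝓕.extRees} :
    f ∈ erGr 𝓕 n ↔ ∃ a : A, AddMonoidAlgebra.single n a = (f : A[T;T⁻¹]) := Iff.rfl

/-- the component maps -/
noncomputable def erProj (n : ℤ) : 𝓕.extRees →+ 𝓕.extRees where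
  toFun f := ⟨AddMonoidAlgebra.single n ((f : A[T;T⁻¹]).coeff n), single_mem 𝓕 (coe_mem 𝓕 f n)⟩
  map_zero' := by
    apply Subtype.ext
    simp
  map_add' x y := by
    apply Subtype.ext
    simp [AddMonoidAlgebra.coeff_add, AddMonoidAlgebra.single_add]

theorem coe_erProj (n : ℤ) (f : 𝓕.extRees) :
    ((erProj 𝓕 n f : 𝓕.extRees) : A[T;T⁻¹]) =
      AddMonoidAlgebra.single n ((f : A[T;T⁻¹]).coeff n) := rfl

theorem erProj_same (n : ℤ) (f : 𝓕.extRees) (hf : f ∈ erGr 𝓕 n) : erProj 𝓕 n f = f := by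
  classical
  obtain ⟨a, ha⟩ := (mem_erGr 𝓕).mp hf
  apply Subtype.ext
  rw [coe_erProj, ← ha, AddMonoidAlgebra.coeff_single, Finsupp.single_apply, if_pos rfl]

theorem erProj_ne (n n' : ℤ) (f : 𝓕.extRees) (hf : f ∈ erGr 𝓕 n) (hne : n' ≠ n) :
    erProj 𝓕 n' f = 0 := by
  classical
  obtain ⟨a, ha⟩ := (mem_erGr 𝓕).mp hf
  apply Subtype.ext
  rw [coe_erProj, ← ha, AddMonoidAlgebra.coeff_single, Finsupp.single_apply, if_neg (Ne.symm hne)]
  simp

theorem erGr_isInternal : DirectSum.IsInternal (erGr 𝓕) := by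
  classical
  refine Groth.Agent.Lib.Helper11.GrLCLib.isInternal_of_proj (erGr 𝓕) (erProj 𝓕) ?_
    (erProj_same 𝓕) (fun n n' f hf hne => erProj_ne 𝓕 n n' f hf hne) ?_
  · intro n f
    exact (mem_erGr 𝓕).mpr ⟨_, rfl⟩
  · intro f
    refine ⟨(f : A[T;T⁻¹]).coeff.support, ?_⟩
    apply Subtype.ext
    rw [AddSubmonoidClass.coe_finsetSum]
    simp only [coe_erProj]
    exact AddMonoidAlgebra.sum_coeff_single (f : A[T;T⁻¹])

noncomputable instance erDecomposition : DirectSum.Decomposition (erGr 𝓕) :=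
  (erGr_isInternal 𝓕).chooseDecomposition

noncomputable instance erGradedRing : GradedRing (erGr 𝓕) where
  one_mem := (mem_erGr 𝓕).mpr ⟨1, rfl⟩
  mul_mem := by
    intro i j f g hf hg
    obtain ⟨a, ha⟩ := (mem_erGr 𝓕).mp hf
    obtain ⟨b, hb⟩ := (mem_erGr 𝓕).mp hg
    refine (mem_erGr 𝓕).mpr ⟨a * b, ?_⟩
    change _ = (f : A[T;T⁻¹]) * (g : A[T;T⁻¹])
    rw [← ha, ← hb, AddMonoidAlgebra.single_mul_single]

theorem coe_decompose (f : 𝓕.extRees) (n : ℤ) :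
    ((decompose (erGr 𝓕) f n : 𝓕.extRees) : A[T;T⁻¹]) =
      AddMonoidAlgebra.single n ((f : A[T;T⁻¹]).coeff n) := by
  classical
  have h := Groth.Agent.Lib.Helper11.GrLCLib.decompose_eq_proj (erGr 𝓕) (erProj 𝓕)
    (erProj_same 𝓕) (fun n n' f hf hne => erProj_ne 𝓕 n n' f hf hne) f n
  rw [h]
  rfl

section Local

open IsLocalRing

variable [IsLocalRing A] (hF1 : 𝓕.F 1 ≤ maximalIdeal A)

include hF1 in
theorem coeff_zero_mul_mem (f g : 𝓕.extRees)
    (hf : (f : A[T;T⁻¹]).coeff 0 ∈ maximalIdeal A) :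
    ((f * g : 𝓕.extRees) : A[T;T⁻¹]).coeff 0 ∈ maximalIdeal A := by
  classical
  change ((f : A[T;T⁻¹]) * (g : A[T;T⁻¹])).coeff 0 ∈ _
  rw [AddMonoidAlgebra.coeff_mul]
  unfold Finsupp.sum
  refine Ideal.sum_mem _ fun i _ => Ideal.sum_mem _ fun j _ => ?_
  show (if i + j = 0 then (f : A[T;T⁻¹]).coeff i * (g : A[T;T⁻¹]).coeff j else 0) ∈ maximalIdeal A
  split_ifs with h
  · rcases lt_trichotomy i 0 with hi | hi | hi
    · have hj : 1 ≤ j.toNat := by omega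
      exact Ideal.mul_mem_left _ _ (hF1 (𝓕.antitone hj (coe_mem 𝓕 g j)))
    · subst hi
      exact Ideal.mul_mem_right _ _ hf
    · have hi' : 1 ≤ i.toNat := by omega
      exact Ideal.mul_mem_right _ _ (hF1 (𝓕.antitone hi' (coe_mem 𝓕 f i)))
  · exact zero_mem _

/-- the *maximal ideal of the extended Rees algebra -/
noncomputable def erMax : Ideal 𝓕.extRees where
  carrier := {f | (f : A[T;T⁻¹]).coeff 0 ∈ maximalIdeal A}
  add_mem' := by
    intro f g hf hg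
    change ((f : A[T;T⁻¹]) + (g : A[T;T⁻¹])).coeff 0 ∈ maximalIdeal A
    rw [AddMonoidAlgebra.coeff_add, Finsupp.add_apply]
    exact Ideal.add_mem _ hf hg
  zero_mem' := by
    change ((0 : A[T;T⁻¹])).coeff 0 ∈ maximalIdeal A
    simp
  smul_mem' := by
    intro c f hf
    rw [smul_eq_mul, mul_comm]
    exact coeff_zero_mul_mem 𝓕 hF1 f c hf

theorem mem_erMax {f : 𝓕.extRees} :
    f ∈ erMax 𝓕 hF1 ↔ (f : A[T;T⁻¹]).coeff 0 ∈ maximalIdeal A := Iff.rfl

theorem single_zero_isUnit {a : A} (ha : IsUnit a) (h : (AddMonoidAlgebra.single (0 : ℤ) a :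
    A[T;T⁻¹]) ∈ 𝓕.extRees) : IsUnit (⟨_, h⟩ : 𝓕.extRees) := by
  obtain ⟨b, hb⟩ := ha.exists_right_inv
  have hb' : (AddMonoidAlgebra.single (0 : ℤ) b : A[T;T⁻¹]) ∈ 𝓕.extRees :=
    single_mem 𝓕 (by simp [𝓕.zero_eq])
  refine IsUnit.of_mul_eq_one ⟨_, hb'⟩ ?_
  apply Subtype.ext
  change (AddMonoidAlgebra.single (0 : ℤ) a : A[T;T⁻¹]) * AddMonoidAlgebra.single (0 : ℤ) b = 1
  rw [AddMonoidAlgebra.single_mul_single, hb, add_zero]
  rfl

instance erMax_isMaximal : (erMax 𝓕 hF1).IsMaximal := by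
  classical
  rw [Ideal.isMaximal_iff]
  constructor
  · rw [mem_erMax]
    change ((1 : A[T;T⁻¹])).coeff 0 ∉ _
    rw [AddMonoidAlgebra.one_def, AddMonoidAlgebra.coeff_single, Finsupp.single_apply, if_pos rfl]
    exact fun h => (maximalIdeal.isMaximal A).ne_top ((Ideal.eq_top_iff_one _).mpr h)
  · intro J x hle hx hxJ
    rw [mem_erMax, IsLocalRing.mem_maximalIdeal, mem_nonunits_iff, not_not] at hx
    have h0 : (AddMonoidAlgebra.single (0 : ℤ) ((x : A[T;T⁻¹]).coeff 0) : A[T;T⁻¹]) ∈ 𝓕.extRees :=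
      single_mem 𝓕 (coe_mem 𝓕 x 0)
    set x0 : 𝓕.extRees := ⟨_, h0⟩ with hx0
    have hy : x - x0 ∈ erMax 𝓕 hF1 := by
      rw [mem_erMax]
      change ((x : A[T;T⁻¹]) - AddMonoidAlgebra.single (0 : ℤ) ((x : A[T;T⁻¹]).coeff 0)).coeff 0 ∈ _
      rw [sub_eq_add_neg, AddMonoidAlgebra.coeff_add, AddMonoidAlgebra.coeff_neg, Finsupp.add_apply,
        Finsupp.neg_apply, AddMonoidAlgebra.coeff_single, Finsupp.single_apply, if_pos rfl, add_neg_cancel]
      exact zero_mem _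
    have hx0J : x0 ∈ J := by
      have := J.sub_mem hxJ (hle hy)
      rwa [sub_sub_cancel] at this
    have hu := single_zero_isUnit 𝓕 hx h0
    exact (Ideal.eq_top_iff_one J).mp (Ideal.eq_top_of_isUnit_mem J hx0J hu)

theorem erMax_isHomogeneous : (erMax 𝓕 hF1).IsHomogeneous (erGr 𝓕) := by
  classical
  intro n f hf
  rw [mem_erMax, coe_decompose, AddMonoidAlgebra.coeff_single, Finsupp.single_apply]
  split_ifs with h
  · subst h
    exact hf
  · exact zero_mem _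

/-- the *maximal ideal as a homogeneous ideal -/
noncomputable def erMaxH : HomogeneousIdeal (erGr 𝓕) :=
  ⟨erMax 𝓕 hF1, erMax_isHomogeneous 𝓕 hF1⟩

theorem isStarLocal_erMaxH : GrLC.IsStarLocal (erGr 𝓕) (erMaxH 𝓕 hF1) := by
  classical
  have hne : erMaxH 𝓕 hF1 ≠ ⊤ := by
    intro h
    have h1 : (erMaxH 𝓕 hF1).toIdeal = ⊤ := by rw [h]; rfl
    exact (erMax_isMaximal 𝓕 hF1).ne_top h1
  have hco : IsCoatom (erMaxH 𝓕 hF1) := by
    refine ⟨hne, fun b hb => ?_⟩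
    have h1 : (erMaxH 𝓕 hF1).toIdeal < b.toIdeal := hb
    have h2 : b.toIdeal = ⊤ := (erMax_isMaximal 𝓕 hF1).1.2 _ h1
    apply HomogeneousIdeal.toIdeal_injective
    exact h2
  refine ⟨hco, fun N hN => ?_⟩
  have hN1 : N.toIdeal ≠ ⊤ := by
    intro h
    apply hN.1
    apply HomogeneousIdeal.toIdeal_injective
    exact h
  have hle : N ≤ erMaxH 𝓕 hF1 := by
    intro a ha
    change a ∈ erMax 𝓕 hF1
    rw [mem_erMax]
    by_contra hc
    rw [IsLocalRing.mem_maximalIdeal, mem_nonunits_iff, not_not] at hc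
    have h0 : (decompose (erGr 𝓕) a 0 : 𝓕.extRees) ∈ N.toIdeal := N.isHomogeneous 0 ha
    have h00 : (AddMonoidAlgebra.single (0 : ℤ) ((a : A[T;T⁻¹]).coeff 0) : A[T;T⁻¹]) ∈ 𝓕.extRees :=
      single_mem 𝓕 (coe_mem 𝓕 a 0)
    have h1 : (decompose (erGr 𝓕) a 0 : 𝓕.extRees) = ⟨_, h00⟩ := by
      apply Subtype.ext
      rw [coe_decompose]
    rw [h1] at h0
    exact hN1 (Ideal.eq_top_of_isUnit_mem _ h0 (single_zero_isUnit 𝓕 hc h00))
  rcases eq_or_lt_of_le hle with h | h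
  · exact h
  · exact absurd (hN.2 _ h) hne

end Local

section U

theorem coe_u : ((𝓕.u : 𝓕.extRees) : A[T;T⁻¹]) = T (-1) := rfl

theorem u_isSMulRegular : IsSMulRegular 𝓕.extRees 𝓕.u := by
  intro f g h
  have h1 : (T (-1) : A[T;T⁻¹]) * (f : A[T;T⁻¹]) = T (-1) * (g : A[T;T⁻¹]) :=
    congrArg Subtype.val h
  apply Subtype.ext
  exact (LaurentPolynomial.isUnit_T (-1)).mul_right_injective h1

theorem u_mem_nonZeroDivisors : 𝓕.u ∈ nonZeroDivisors 𝓕.extRees := by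
  rw [mem_nonZeroDivisors_iff_right]
  intro x hx
  apply u_isSMulRegular 𝓕
  show 𝓕.u • x = 𝓕.u • (0 : 𝓕.extRees)
  rw [smul_eq_mul, smul_eq_mul, mul_zero, mul_comm]
  exact hx

theorem u_mem_erMax [IsLocalRing A] (hF1 : 𝓕.F 1 ≤ IsLocalRing.maximalIdeal A) :
    𝓕.u ∈ erMax 𝓕 hF1 := by
  rw [mem_erMax, coe_u, LaurentPolynomial.T_apply, if_neg (by decide)]
  exact zero_mem _

end U

end Groth.Agent.Lib.Helper11.FiltRees
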