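import Mathlib
import Groth.Agent.Lib.Helper11.FiltRees

/-!
# The extended Rees algebra: finite type / Noetherian
-/

set_option autoImplicit false
set_option linter.unusedSectionVars false
set_option linter.unusedVariables false
set_option linter.style.haveILetI false
universe u

namespace Groth.Agent.Lib.Helper11.FiltRees

open LaurentPolynomial DirectSum FiltBl

variable {A : Type u} [CommRing A] (𝓕 : IdealFiltration A)

theorem toLaurent_mem (f : Polynomial A) (hf : f ∈ 𝓕.rees) :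
    Polynomial.toLaurent f ∈ 𝓕.extRees := by
  rw [Polynomial.as_sum_support f, map_sum]
  refine Subalgebra.sum_mem _ fun n _ => ?_
  rw [Polynomial.toLaurent_C_mul_T, ← LaurentPolynomial.single_eq_C_mul_T]
  exact single_mem 𝓕 (by simpa using hf n)

/-- The inclusion of the Rees algebra in the extended Rees algebra. -/
noncomputable def reesToExt : 𝓕.rees →ₐ[A] 𝓕.extRees :=
  ((Polynomial.toLaurentAlg (R := A)).comp 𝓕.rees.val).codRestrict 𝓕.extRees (fun f => by
    change Polynomial.toLaurentAlg (f : Polynomial A) ∈ _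
    rw [Polynomial.toLaurentAlg_apply]
    exact toLaurent_mem 𝓕 _ f.2)

theorem coe_reesToExt (f : 𝓕.rees) :
    ((reesToExt 𝓕 f : 𝓕.extRees) : A[T;T⁻¹]) = Polynomial.toLaurent (f : Polynomial A) := rfl

theorem monomial_mem {n : ℕ} {a : A} (ha : a ∈ 𝓕.F n) : Polynomial.monomial n a ∈ 𝓕.rees := by
  intro m
  rw [Polynomial.coeff_monomial]
  split_ifs with h
  · subst h; exact ha
  · exact zero_mem _

theorem sum_erProj (f : 𝓕.extRees) :
    ∑ n ∈ (f : A[T;T⁻¹]).coeff.support, erProj 𝓕 n f = f := by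
  classical
  apply Subtype.ext
  rw [AddSubmonoidClass.coe_finsetSum]
  simp only [coe_erProj]
  exact AddMonoidAlgebra.sum_coeff_single (f : A[T;T⁻¹])

theorem finiteType_extRees (hfg : Algebra.FiniteType A 𝓕.rees) :
    Algebra.FiniteType A 𝓕.extRees := by
  classical
  obtain ⟨s, hs⟩ := hfg.out
  refine ⟨⟨s.image (reesToExt 𝓕) ∪ {𝓕.u}, ?_⟩⟩
  rw [eq_top_iff]
  intro f _
  set B := Algebra.adjoin A ((↑(s.image (reesToExt 𝓕) ∪ {𝓕.u}) : Set 𝓕.extRees)) with hB
  have hu : 𝓕.u ∈ B := Algebra.subset_adjoin (by simp)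
  have hι : ∀ x : 𝓕.rees, reesToExt 𝓕 x ∈ B := by
    intro x
    have hx : x ∈ Algebra.adjoin A (↑s : Set 𝓕.rees) := by rw [hs]; trivial
    have h1 : reesToExt 𝓕 x ∈ (Algebra.adjoin A (↑s : Set 𝓕.rees)).map (reesToExt 𝓕) :=
      ⟨x, hx, rfl⟩
    rw [AlgHom.map_adjoin] at h1
    refine Algebra.adjoin_mono ?_ h1
    intro y hy
    simp only [Finset.coe_union, Finset.coe_image, Set.mem_union]
    exact Or.inl hy
  rw [← sum_erProj 𝓕 f]
  refine Subalgebra.sum_mem _ fun n _ => ?_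
  rcases le_or_gt 0 n with hn | hn
  · obtain ⟨k, rfl⟩ := Int.eq_ofNat_of_zero_le hn
    have ha : (f : A[T;T⁻¹]).coeff (k : ℤ) ∈ 𝓕.F k := by
      simpa using coe_mem 𝓕 f (k : ℤ)
    have : erProj 𝓕 (k : ℤ) f = reesToExt 𝓕 ⟨_, monomial_mem 𝓕 ha⟩ := by
      apply Subtype.ext
      rw [coe_erProj, coe_reesToExt]
      change _ = Polynomial.toLaurent (Polynomial.monomial k _)
      rw [Polynomial.toLaurent_C_mul_T, ← LaurentPolynomial.single_eq_C_mul_T]
    rw [this]
    exact hι _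
  · obtain ⟨k, hk⟩ : ∃ k : ℕ, n = -(k : ℤ) := ⟨(-n).toNat, by omega⟩
    have : erProj 𝓕 n f = (f : A[T;T⁻¹]).coeff n • 𝓕.u ^ k := by
      apply Subtype.ext
      rw [coe_erProj]
      change _ = (f : A[T;T⁻¹]).coeff n • (T (-1) : A[T;T⁻¹]) ^ k
      rw [LaurentPolynomial.T_pow, LaurentPolynomial.smul_eq_C_mul,
        ← LaurentPolynomial.single_eq_C_mul_T, hk]
      congr 1
      ring
    rw [this]
    exact Subalgebra.smul_mem _ (Subalgebra.pow_mem _ hu _) _

theorem isNoetherianRing_extRees [IsNoetherianRing A] (hfg : Algebra.FiniteType A 𝓕.rees) :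
    IsNoetherianRing 𝓕.extRees :=
  haveI := finiteType_extRees 𝓕 hfg
  Algebra.FiniteType.isNoetherianRing A 𝓕.extRees

theorem F_one_le_maximalIdeal [IsLocalRing A] (hsep : ⨅ n, 𝓕.F n = ⊥) :
    𝓕.F 1 ≤ IsLocalRing.maximalIdeal A := by
  apply IsLocalRing.le_maximalIdeal
  intro h1
  have hall : ∀ n, 𝓕.F n = ⊤ := by
    intro n
    induction n with
    | zero => exact 𝓕.zero_eq
    | succ n ih =>
      have := 𝓕.mul_le n 1
      rw [ih, h1, Ideal.top_mul] at this
      exact top_le_iff.mp this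
  have : (⨅ n, 𝓕.F n) = ⊤ := by
    simp [hall]
  rw [this] at hsep
  exact top_ne_bot hsep

end Groth.Agent.Lib.Helper11.FiltRees
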