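import Mathlib
import Groth.Prelude.Def_GrLC
import Groth.Agent.Lib.Helper11.GrCoreA

/-!
# Relative heights; height of a non-homogeneous prime over its core (ℤ-graded)
-/

set_option autoImplicit false
set_option linter.unusedSectionVars false
universe u

namespace Groth.Agent.Lib.Helper11.GrHt

open DirectSum

section RelHt

variable {R : Type u} [CommRing R] [IsNoetherianRing R]

/-- relative height of `q` over `J`. -/
noncomputable def relHt (J q : Ideal R) : ℕ∞ := (q.map (Ideal.Quotient.mk J)).height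

lemma relHt_self (J : Ideal R) [J.IsPrime] : relHt J J = 0 := by
  unfold relHt
  rw [Ideal.map_quotient_self]
  exact Ideal.height_bot

lemma relHt_mono (J : Ideal R) {q q' : Ideal R} (h : q ≤ q') : relHt J q ≤ relHt J q' :=
  Ideal.height_mono (Ideal.map_mono h)

lemma map_lt_map {J q q' : Ideal R} (hJq : J ≤ q) (h : q < q') :
    q.map (Ideal.Quotient.mk J) < q'.map (Ideal.Quotient.mk J) := by
  refine lt_of_le_of_ne (Ideal.map_mono h.le) fun he => ?_
  have h1 := Ideal.comap_map_mk hJq
  have h2 := Ideal.comap_map_mk (hJq.trans h.le)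
  rw [he, h2] at h1
  exact h.ne h1.symm

lemma relHt_add_one_le {J q q' : Ideal R} [q.IsPrime] [q'.IsPrime] (hJq : J ≤ q) (h : q < q') :
    relHt J q + 1 ≤ relHt J q' := by
  have := Ideal.isPrime_map_quotientMk_of_isPrime hJq
  have := Ideal.isPrime_map_quotientMk_of_isPrime (hJq.trans h.le)
  exact Ideal.height_add_one_le_of_lt_of_isPrime (map_lt_map hJq h)

lemma relHt_ne_top {J q : Ideal R} [q.IsPrime] (hJq : J ≤ q) : relHt J q ≠ ⊤ := by
  have := Ideal.isPrime_map_quotientMk_of_isPrime hJq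
  exact Ideal.height_ne_top_of_isPrime

lemma relHt_le_iff {J p : Ideal R} [p.IsPrime] (hJp : J ≤ p) {n : ℕ} :
    relHt J p ≤ n ↔ ∀ q : Ideal R, q.IsPrime → J ≤ q → q < p → relHt J q < n := by
  have := Ideal.isPrime_map_quotientMk_of_isPrime hJp
  unfold relHt
  rw [Ideal.height_le_iff]
  constructor
  · intro h q hq hJq hqp
    have := Ideal.isPrime_map_quotientMk_of_isPrime hJq
    exact h _ this (map_lt_map hJq hqp)
  · intro h q' hq' hq'p
    have hq : (q'.comap (Ideal.Quotient.mk J)).IsPrime := Ideal.comap_isPrime _ _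
    have hJq : J ≤ q'.comap (Ideal.Quotient.mk J) := by
      intro x hx
      rw [Ideal.mem_comap, Ideal.Quotient.eq_zero_iff_mem.2 hx]
      exact q'.zero_mem
    have hmap : (q'.comap (Ideal.Quotient.mk J)).map (Ideal.Quotient.mk J) = q' :=
      Ideal.map_comap_of_surjective _ Ideal.Quotient.mk_surjective _
    have hlt : q'.comap (Ideal.Quotient.mk J) < p := by
      refine lt_of_le_of_ne ?_ fun he => ?_
      · rw [← Ideal.comap_map_mk hJp]
        exact Ideal.comap_mono hq'p.le
      · rw [he] at hmap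
        exact hq'p.ne hmap.symm
    have := h _ hq hJq hlt
    rwa [hmap] at this

end RelHt

section Int

variable {R : Type u} [CommRing R] [IsNoetherianRing R] (𝒜 : ℤ → AddSubgroup R) [GradedRing 𝒜]

open Groth.Agent.Lib.Helper11.GrCore

/-- (D1) -/
theorem relHt_core_eq_one (p : Ideal R) [hp : p.IsPrime] (hnh : ¬ Ideal.IsHomogeneous 𝒜 p) :
    relHt (Ideal.homogeneousCore 𝒜 p).toIdeal p = 1 := by
  set P := (Ideal.homogeneousCore 𝒜 p).toIdeal with hPdef
  have hPprime : P.IsPrime := Ideal.IsPrime.homogeneousCore hp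
  have hPhom : P.IsHomogeneous 𝒜 := (Ideal.homogeneousCore 𝒜 p).isHomogeneous
  have hPp : P ≤ p := Ideal.toIdeal_homogeneousCore_le 𝒜 p
  have hcore : ∀ t, SetLike.IsHomogeneousElem 𝒜 t → t ∈ p → t ∈ P := fun t ht htp =>
    Ideal.mem_homogeneousCore_of_homogeneous_of_mem ht htp
  have hne : ¬ p ≤ P := fun h => hnh (by
    have : p = P := le_antisymm h hPp
    rw [this]
    exact hPhom)
  obtain ⟨a, hap, haP, hkey⟩ := key 𝒜 P p hPhom hcore hne
  have hmin : p ∈ (P ⊔ Ideal.span {a}).minimalPrimes := by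
    refine ⟨⟨hp, sup_le hPp ?_⟩, ?_⟩
    · rw [Ideal.span_le, Set.singleton_subset_iff]
      exact hap
    · rintro q ⟨hq, hle⟩ hqp x hx
      obtain ⟨t, _, htp, htx⟩ := hkey x hx
      have h1 : t * x ∈ q := hle htx
      exact (hq.mem_or_mem h1).resolve_left fun h => htp (hqp h)
  have hle : relHt P p ≤ 1 := Ideal.map_height_le_one_of_mem_minimalPrimes hmin
  have hlt : P < p := lt_of_le_of_ne hPp fun h => hne h.ge
  have hge : relHt P P + 1 ≤ relHt P p := relHt_add_one_le le_rfl hlt
  rw [relHt_self, zero_add] at hge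
  exact le_antisymm hle hge

/-- No prime lies strictly between the core and `p`. -/
theorem not_between_core (p : Ideal R) [hp : p.IsPrime] (hnh : ¬ Ideal.IsHomogeneous 𝒜 p)
    (q : Ideal R) [hq : q.IsPrime] (h1 : (Ideal.homogeneousCore 𝒜 p).toIdeal < q) (h2 : q < p) :
    False := by
  have hPprime : (Ideal.homogeneousCore 𝒜 p).toIdeal.IsPrime := Ideal.IsPrime.homogeneousCore hp
  have e1 := relHt_add_one_le (J := (Ideal.homogeneousCore 𝒜 p).toIdeal) le_rfl h1
  have e2 := relHt_add_one_le (J := (Ideal.homogeneousCore 𝒜 p).toIdeal) h1.le h2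
  rw [relHt_core_eq_one 𝒜 p hnh, relHt_self, zero_add] at *
  have : (1 : ℕ∞) + 1 ≤ 1 := le_trans (add_le_add_left e1 1) e2
  exact absurd this (by decide)

/-- (D2) -/
theorem relHt_eq_relHt_core_add_one (J : Ideal R) (hJhom : J.IsHomogeneous 𝒜) :
    ∀ (p : Ideal R) [hp : p.IsPrime], ¬ Ideal.IsHomogeneous 𝒜 p → J ≤ p →
      relHt J p = relHt J (Ideal.homogeneousCore 𝒜 p).toIdeal + 1 := by
  have hJcore : ∀ q : Ideal R, J ≤ q → J ≤ (Ideal.homogeneousCore 𝒜 q).toIdeal := by
    intro q hq
    have := Ideal.homogeneousCore_mono 𝒜 hq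
    rw [← hJhom.toIdeal_homogeneousCore_eq_self]
    exact this
  have key : ∀ m : ℕ, ∀ (p : Ideal R) [hp : p.IsPrime], ¬ Ideal.IsHomogeneous 𝒜 p → J ≤ p →
      relHt J p ≤ m → relHt J p ≤ relHt J (Ideal.homogeneousCore 𝒜 p).toIdeal + 1 := by
    intro m
    induction m with
    | zero =>
      intro p hp _ _ h
      exact le_trans h bot_le
    | succ m ih =>
      intro p hp hnh hJp hm
      set P := (Ideal.homogeneousCore 𝒜 p).toIdeal with hPdef
      have hPprime : P.IsPrime := Ideal.IsPrime.homogeneousCore hp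
      have hPp : P ≤ p := Ideal.toIdeal_homogeneousCore_le 𝒜 p
      have hJP : J ≤ P := hJcore p hJp
      have hfin : relHt J P ≠ ⊤ := relHt_ne_top hJP
      obtain ⟨k, hk⟩ := ENat.ne_top_iff_exists.1 hfin
      rw [← hk]
      have : ((k : ℕ∞) + 1) = ((k + 1 : ℕ) : ℕ∞) := by push_cast; rfl
      rw [this, relHt_le_iff hJp]
      intro q hq hJq hqp
      have hk1 : ((k + 1 : ℕ) : ℕ∞) = (k : ℕ∞) + 1 := by push_cast; rfl
      rw [hk1, ENat.lt_add_one_iff (ENat.natCast_ne_top k), hk]
      by_cases hqh : Ideal.IsHomogeneous 𝒜 q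
      · have : q ≤ P := by
          rw [← hqh.toIdeal_homogeneousCore_eq_self]
          exact Ideal.homogeneousCore_mono 𝒜 hqp.le
        exact relHt_mono J this
      · set Q := (Ideal.homogeneousCore 𝒜 q).toIdeal with hQdef
        have hQprime : Q.IsPrime := Ideal.IsPrime.homogeneousCore hq
        have hQP : Q ≤ P := Ideal.homogeneousCore_mono 𝒜 hqp.le
        have hQq : Q ≤ q := Ideal.toIdeal_homogeneousCore_le 𝒜 q
        have hqlt : relHt J q < relHt J p := by
          have := relHt_add_one_le hJq hqp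
          exact lt_of_lt_of_le ((ENat.add_one_le_iff (relHt_ne_top hJq)).1 le_rfl) this
        have hqm : relHt J q ≤ m := by
          have h1 : relHt J q < ((m + 1 : ℕ) : ℕ∞) := lt_of_lt_of_le hqlt hm
          have h2 : ((m + 1 : ℕ) : ℕ∞) = (m : ℕ∞) + 1 := by push_cast; rfl
          rw [h2, ENat.lt_add_one_iff (ENat.natCast_ne_top m)] at h1
          exact h1
        have h3 := ih q hqh hJq hqm
        have hQne : Q ≠ P := by
          intro he
          have hlt1 : P < q := by
            rw [← he]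
            exact lt_of_le_of_ne hQq fun h => hqh (h ▸ (Ideal.homogeneousCore 𝒜 q).isHomogeneous)
          exact not_between_core 𝒜 p hnh q hlt1 hqp
        have hQlt : Q < P := lt_of_le_of_ne hQP hQne
        have h4 := relHt_add_one_le (hJcore q hJq) hQlt
        exact le_trans h3 h4
  intro p hp hnh hJp
  have hPprime : (Ideal.homogeneousCore 𝒜 p).toIdeal.IsPrime := Ideal.IsPrime.homogeneousCore hp
  have hPp : (Ideal.homogeneousCore 𝒜 p).toIdeal ≤ p := Ideal.toIdeal_homogeneousCore_le 𝒜 p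
  have hlt : (Ideal.homogeneousCore 𝒜 p).toIdeal < p :=
    lt_of_le_of_ne hPp fun h => hnh (h ▸ (Ideal.homogeneousCore 𝒜 p).isHomogeneous)
  apply le_antisymm
  · obtain ⟨m, hm⟩ := ENat.ne_top_iff_exists.1 (relHt_ne_top hJp)
    exact key m p hnh hJp hm.ge
  · exact relHt_add_one_le (hJcore p hJp) hlt

end Int

end Groth.Agent.Lib.Helper11.GrHt
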