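import Groth.Agent.Lib.Helper11.GrLCOrdA
import Groth.Agent.Lib.Helper11.GrBassC
import Groth.Agent.Lib.Helper11.GrLCH

set_option autoImplicit false
set_option linter.unusedSectionVars false
universe u
open CategoryTheory

namespace Groth.Agent.Lib.Helper11.GrLCOrd

open Groth.Agent.Lib.Helper16.LC GrLC Groth.Agent.Lib.Helper11.GrBass
  Groth.Agent.Lib.Helper11.GrLCLib Groth.Agent.Lib.Helper11.GrExt

variable {ι : Type} [DecidableEq ι] [AddCommGroup ι]
variable {R : Type u} [CommRing R] [IsNoetherianRing R] {𝒜 : ι → AddSubgroup R} [GradedRing 𝒜]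
variable {M : Type u} [AddCommGroup M] [Module R M] {ℳ : ι → AddSubgroup M}
  [DirectSum.Decomposition ℳ] [SetLike.GradedSMul 𝒜 ℳ]

/-- Dimension shifting along a resolution with acyclic terms. -/
theorem nonempty_H_ker_equiv (I : Ideal R) (E : StarInjRes 𝒜 ℳ)
    (hacyc : ∀ n p, Subsingleton (LocCoh.H I (p + 1) (E.X n).carrier)) (j : ℕ) :
    ∀ p n : ℕ, n = p + j + 2 →
      Nonempty (LocCoh.H I (p + 1) (LinearMap.ker (E.d (j + 1))) ≃ₗ[R] LocCoh.H I n M) := by
  induction j with
  | zero =>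
    intro p n hn
    subst hn
    have hT := Groth.Agent.Lib.Helper16.Depth.shortExact_of_linearMaps E.ε (dRes E 0)
      E.ε_injective (dRes_surjective E 0) (by
        rw [LinearMap.exact_iff, dRes_ker, E.exact_zero])
    exact nonempty_H_equiv_shift I hT p (hacyc 0 p) (hacyc 0 (p + 1))
  | succ j ih =>
    intro p n hn
    subst hn
    have hT := Groth.Agent.Lib.Helper16.Depth.shortExact_of_linearMaps
      (LinearMap.ker (E.d (j + 1))).subtype (dRes E (j + 1))
      (Submodule.injective_subtype _) (dRes_surjective E (j + 1)) (by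
        rw [LinearMap.exact_iff, dRes_ker, Submodule.range_subtype])
    obtain ⟨e1⟩ := nonempty_H_equiv_shift I hT p (hacyc (j + 1) p) (hacyc (j + 1) (p + 1))
    obtain ⟨e2⟩ := ih (p + 1) (p + (j + 1) + 2) (by omega)
    exact ⟨e1.trans e2⟩

/-- An acyclic resolution computes local cohomology. -/
theorem nonempty_H_equiv_of_acyclic (E : StarInjRes 𝒜 ℳ) (a : HomogeneousIdeal 𝒜)
    (hacyc : ∀ n p, Subsingleton (LocCoh.H a.toIdeal (p + 1) (E.X n).carrier)) (i : ℕ) :
    Nonempty (E.H a i ≃ₗ[R] LocCoh.H a.toIdeal i M) := by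
  rcases i with _ | i
  · exact nonempty_H_zero_equiv a.toIdeal E.ε E.ε_injective (LinearMap.ker (E.d 0)) E.exact_zero
  rcases i with _ | i
  · exact nonempty_H_one_equiv a.toIdeal E.ε (E.d 0) E.ε_injective (by
      rw [LinearMap.exact_iff, E.exact_zero]) (hacyc 0 0) (LinearMap.ker (E.d 1)) (E.exact_succ 0)
  · obtain ⟨e1⟩ := nonempty_H_one_equiv a.toIdeal (LinearMap.ker (E.d (i + 1))).subtype
      (E.d (i + 1)) (Submodule.injective_subtype _) (by
        rw [LinearMap.exact_iff, Submodule.range_subtype]) (hacyc (i + 1) 0)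
      (LinearMap.ker (E.d (i + 1 + 1))) (E.exact_succ (i + 1))
    obtain ⟨e2⟩ := nonempty_H_ker_equiv a.toIdeal E hacyc i 0 (i + 1 + 1) (by omega)
    exact ⟨e1.trans e2⟩

/-- *Injective modules are acyclic for local cohomology with support in a homogeneous ideal. -/
theorem subsingleton_H_of_isStarInj {X : Type u} [AddCommGroup X] [Module R X]
    (𝒳 : ι → AddSubgroup X) [DirectSum.Decomposition 𝒳] [SetLike.GradedSMul 𝒜 𝒳]
    (hX : IsStarInj 𝒜 𝒳) (a : HomogeneousIdeal 𝒜) (p : ℕ) :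
    Subsingleton (LocCoh.H a.toIdeal (p + 1) X) := by
  suffices h0 : ∀ x : LocCoh.H a.toIdeal (p + 1) X, x = 0 from ⟨fun x y => by rw [h0 x, h0 y]⟩
  intro x
  obtain ⟨k, e, rfl⟩ := ι_jointly_surjective a.toIdeal (p + 1) (ModuleCat.of R X) x
  have hh : ((a.toIdeal ^ k : Ideal R) : Submodule R R).IsHomogeneous 𝒜 := isHomogeneous_pow 𝒜 a k
  let _ := quotDecomposition 𝒜 ((a.toIdeal ^ k : Ideal R) : Submodule R R) hh
  have hsub := ext_subsingleton_of_isStarInj 𝒜 𝒳 hX p (R ⧸ a.toIdeal ^ k)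
    (quotGrM 𝒜 ((a.toIdeal ^ k : Ideal R) : Submodule R R))
  rw [hsub.elim e 0, map_zero]

/-- The graded local cohomology computed from a *injective resolution is the local cohomology. -/
theorem nonempty_H_equiv (E : StarInjRes 𝒜 ℳ) (a : HomogeneousIdeal 𝒜) (i : ℕ) :
    Nonempty (E.H a i ≃ₗ[R] LocCoh.H a.toIdeal i M) :=
  nonempty_H_equiv_of_acyclic E a
    (fun n p => subsingleton_H_of_isStarInj (E.X n).gr (E.starInj n) a p) i

end Groth.Agent.Lib.Helper11.GrLCOrd
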