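import Groth.Agent.Lib.Helper11.GrLesG
import Groth.Agent.Lib.Helper11.GrHt
import Groth.Agent.Lib.Helper11.DepthLoc
import Groth.Agent.Lib.Helper11.GrLCOrdB
import Groth.Agent.Lib.Helper16.LocCohDepth

set_option autoImplicit false
set_option linter.unusedSectionVars false
set_option linter.style.haveILetI false
universe u

namespace Groth.Agent.Lib.Helper11.GrLes

open DirectSum GrLC Groth.Agent.Lib.Helper11.GrLCLib

section Pos

variable {R : Type u} [CommRing R] (𝒜 : ℤ → AddSubgroup R) [GradedRing 𝒜]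

lemma eq_zero_of_neg_deg (hpos : ∀ n : ℤ, n < 0 → 𝒜 n = ⊥) {j : ℤ} (hj : j < 0) {y : R}
    (hy : y ∈ 𝒜 j) : y = 0 := by
  have hb : y ∈ (⊥ : AddSubgroup R) := hpos j hj ▸ hy
  exact (AddSubgroup.mem_bot).1 hb

/-- In a non-negatively graded ring, homogeneous elements of positive degree lie in every
*maximal ideal. -/
lemma mem_of_pos_deg (hpos : ∀ n : ℤ, n < 0 → 𝒜 n = ⊥) {m : HomogeneousIdeal 𝒜} (hm : IsCoatom m)
    {i : ℤ} (hi : 0 < i) {x : R} (hx : x ∈ 𝒜 i) : x ∈ m.toIdeal := by
  by_contra hxm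
  obtain ⟨a, s, ha, has⟩ := Groth.Agent.Lib.Helper11.GrGor.exists_mul_sub_one_mem_of_isCoatom 𝒜 hm
    ⟨i, hx⟩ hxm
  have h1 : (decompose 𝒜 (a + s * x) 0 : R) = 1 := by
    rw [has]
    exact decompose_of_mem_same 𝒜 SetLike.GradedOne.one_mem
  have h2 : (decompose 𝒜 (s * x) (-i + i) : R) = decompose 𝒜 s (-i) * x :=
    DirectSum.coe_decompose_mul_add_of_right_mem 𝒜 hx
  have h3 : (decompose 𝒜 s (-i) : R) = 0 :=
    eq_zero_of_neg_deg 𝒜 hpos (by omega) (SetLike.coe_mem _)
  rw [neg_add_cancel, h3, zero_mul] at h2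
  rw [decompose_add, DirectSum.add_apply, AddMemClass.coe_add, h2, add_zero] at h1
  have h4 : (decompose 𝒜 a 0 : R) ∈ m.toIdeal := m.isHomogeneous 0 ha
  rw [h1] at h4
  apply hm.1
  apply HomogeneousIdeal.toIdeal_injective
  exact (Ideal.eq_top_iff_one _).2 h4

/-- In a non-negatively graded ring, a *maximal ideal is a maximal ideal. -/
theorem isMaximal_of_isCoatom (hpos : ∀ n : ℤ, n < 0 → 𝒜 n = ⊥) {m : HomogeneousIdeal 𝒜}
    (hm : IsCoatom m) : m.toIdeal.IsMaximal := by
  rw [Ideal.isMaximal_iff]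
  constructor
  · intro h1
    apply hm.1
    apply HomogeneousIdeal.toIdeal_injective
    exact (Ideal.eq_top_iff_one _).2 h1
  · intro J x hmJ hxm hxJ
    -- all components of nonzero degree lie in `m`
    have hcomp : ∀ j : ℤ, j ≠ 0 → (decompose 𝒜 x j : R) ∈ m.toIdeal := by
      intro j hj
      rcases lt_or_gt_of_ne hj with h | h
      · rw [eq_zero_of_neg_deg 𝒜 hpos h (SetLike.coe_mem _)]
        exact zero_mem _
      · exact mem_of_pos_deg 𝒜 hpos hm h (SetLike.coe_mem _)
    have hx0 : x - (decompose 𝒜 x 0 : R) ∈ m.toIdeal := by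
      rw [m.isHomogeneous.mem_iff]
      intro j
      rw [decompose_sub, DirectSum.sub_apply, AddSubgroupClass.coe_sub]
      by_cases hj : j = 0
      · subst hj
        rw [decompose_of_mem_same 𝒜 (SetLike.coe_mem _), sub_self]
        exact zero_mem _
      · rw [decompose_of_mem_ne 𝒜 (SetLike.coe_mem _) (Ne.symm hj), sub_zero]
        exact hcomp j hj
    have hx0m : (decompose 𝒜 x 0 : R) ∉ m.toIdeal := by
      intro h
      apply hxm
      have := add_mem hx0 h
      rwa [sub_add_cancel] at this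
    obtain ⟨a, s, ha, has⟩ :=
      Groth.Agent.Lib.Helper11.GrGor.exists_mul_sub_one_mem_of_isCoatom 𝒜 hm
        ⟨0, SetLike.coe_mem (decompose 𝒜 x 0)⟩ hx0m
    have e : (1 : R) = a - s * (x - (decompose 𝒜 x 0 : R)) + s * x := by
      rw [← has]; ring
    rw [e]
    exact add_mem (hmJ (sub_mem ha (Ideal.mul_mem_left _ _ hx0))) (Ideal.mul_mem_left _ _ hxJ)

end Pos

section Local

variable {R : Type u} [CommRing R] [IsNoetherianRing R] (𝒜 : ℤ → AddSubgroup R) [GradedRing 𝒜]

/-- In a Noetherian *local ring every proper homogeneous ideal lies in the *maximal ideal. -/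
theorem le_of_isHomogeneous_ne_top {m : HomogeneousIdeal 𝒜} (hloc : IsStarLocal 𝒜 m)
    (J : Ideal R) (hJ : J.IsHomogeneous 𝒜) (hne : J ≠ ⊤) : J ≤ m.toIdeal := by
  let S : Set (Ideal R) := {K | K.IsHomogeneous 𝒜 ∧ J ≤ K ∧ K ≠ ⊤}
  have hSne : S.Nonempty := ⟨J, hJ, le_rfl, hne⟩
  obtain ⟨K, hKS, hKmax⟩ := set_has_maximal_iff_noetherian.2 inferInstance S hSne
  have hco : IsCoatom (⟨K, hKS.1⟩ : HomogeneousIdeal 𝒜) := by
    constructor
    · intro h
      exact hKS.2.2 (congrArg HomogeneousIdeal.toIdeal h)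
    · intro K'' hK'
      by_contra hne'
      let K' : HomogeneousIdeal 𝒜 := K''
      have hle : K ≤ HomogeneousIdeal.toIdeal K' := fun y hy => hK'.le hy
      have hK'S : HomogeneousIdeal.toIdeal K' ∈ S := by
        refine ⟨HomogeneousIdeal.isHomogeneous K', hKS.2.1.trans hle, ?_⟩
        intro h
        exact hne' (HomogeneousIdeal.toIdeal_injective h)
      have hlt : K < HomogeneousIdeal.toIdeal K' := by
        refine lt_of_le_of_ne hle ?_
        intro h
        apply hK'.ne
        apply HomogeneousIdeal.toIdeal_injective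
        exact h
      exact hKmax _ hK'S hlt
  have := hloc.2 _ hco
  rw [← this]
  exact hKS.2.1

/-- relative height over `⊥` is the height. -/
lemma relHt_bot (p : Ideal R) : Groth.Agent.Lib.Helper11.GrHt.relHt ⊥ p = p.height := by
  unfold Groth.Agent.Lib.Helper11.GrHt.relHt
  have e : (Ideal.Quotient.mk (⊥ : Ideal R)) = ((RingEquiv.quotientBot R).symm : R →+* R ⧸ (⊥ : Ideal R)) := by
    ext x; rfl
  rw [e]
  exact RingEquiv.height_map (RingEquiv.quotientBot R).symm p

/-- The dimension of a non-negatively graded Noetherian *local ring is the height of its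
*maximal ideal. -/
theorem ringKrullDim_eq_height (hpos : ∀ n : ℤ, n < 0 → 𝒜 n = ⊥) {m : HomogeneousIdeal 𝒜}
    (hloc : IsStarLocal 𝒜 m) : ringKrullDim R = (m.toIdeal.height : WithBot ℕ∞) := by
  have hmax := isMaximal_of_isCoatom 𝒜 hpos hloc.1
  have hmp : m.toIdeal.IsPrime := hmax.isPrime
  apply le_antisymm
  · rw [ringKrullDim_le_iff_isMaximal_height_le]
    intro M hM
    have hMp : M.IsPrime := hM.isPrime
    norm_cast
    by_cases hMh : M.IsHomogeneous 𝒜
    · have := le_of_isHomogeneous_ne_top 𝒜 hloc M hMh hM.ne_top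
      rw [hM.eq_of_le hmax.ne_top this]
    · have h1 := Groth.Agent.Lib.Helper11.GrHt.relHt_eq_relHt_core_add_one 𝒜 ⊥
        (Ideal.IsHomogeneous.bot 𝒜) M hMh bot_le
      rw [relHt_bot, relHt_bot] at h1
      rw [h1]
      have hPp : (Ideal.homogeneousCore 𝒜 M).toIdeal.IsPrime := Ideal.IsPrime.homogeneousCore hMp
      have hPle : (Ideal.homogeneousCore 𝒜 M).toIdeal ≤ m.toIdeal :=
        le_of_isHomogeneous_ne_top 𝒜 hloc _ (Ideal.homogeneousCore 𝒜 M).isHomogeneous hPp.ne_top
      have hPne : (Ideal.homogeneousCore 𝒜 M).toIdeal ≠ m.toIdeal := by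
        intro h
        have h2 : m.toIdeal ≤ M := h ▸ Ideal.toIdeal_homogeneousCore_le 𝒜 M
        have h3 := hmax.eq_of_le hM.ne_top h2
        exact hMh (h3 ▸ m.isHomogeneous)
      exact Ideal.height_add_one_le_of_lt_of_isPrime (lt_of_le_of_ne hPle hPne)
  · exact Ideal.height_le_ringKrullDim_of_ne_top hmax.ne_top

end Local

section CM

variable {R : Type u} [CommRing R] [LocCoh.IsCohenMacaulayRing R]

/-- In a Cohen–Macaulay ring the depth of a maximal ideal is at least its height. -/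
theorem le_idealDepth_of_isMaximal (m : Ideal R) [hm : m.IsMaximal] (n : ℕ)
    (hn : (n : ℕ∞) ≤ m.height) : (n : ℕ∞) ≤ LocCoh.idealDepth m R := by
  apply Groth.Agent.Lib.Helper11.DepthLoc.le_idealDepth_of_forall_le_depth_localization m n R
  intro p hp hmp
  have hpm : m = p := hm.eq_of_le hp.ne_top hmp
  subst hpm
  have hCM := LocCoh.IsCohenMacaulayRing.isCohenMacaulayLocalRing_localization (R := R) m
  have h1 := hCM.supportDim_eq_depth
  rw [Module.supportDim_self_eq_ringKrullDim, IsLocalization.AtPrime.ringKrullDim_eq_height m] at h1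
  have h2 : LocCoh.depth (Localization.AtPrime m) (LocalizedModule m.primeCompl R) =
      LocCoh.depth (Localization.AtPrime m) (Localization.AtPrime m) :=
    Groth.Agent.Lib.Helper11.DepthLoc.depth_eq_of_isLocalizedModule m
      (LocalizedModule.mkLinearMap m.primeCompl R) (Algebra.linearMap R (Localization.AtPrime m))
  rw [h2]
  have h3 : m.height = LocCoh.depth (Localization.AtPrime m) (Localization.AtPrime m) := by
    exact_mod_cast h1
  rw [← h3]
  exact hn

variable (𝒜 : ℤ → AddSubgroup R) [GradedRing 𝒜]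

/-- Vanishing of graded local cohomology of a Cohen–Macaulay ring below the height of a maximal
homogeneous ideal. -/
theorem subsingleton_H_of_lt_height (m : HomogeneousIdeal 𝒜) (hm : m.toIdeal.IsMaximal)
    (I : GrLC.StarInjRes 𝒜 𝒜) (n : ℕ) (hn : (n : ℕ∞) ≤ m.toIdeal.height) (i : ℕ) (hi : i < n) :
    Subsingleton (I.H m i) := by
  obtain ⟨e⟩ := Groth.Agent.Lib.Helper11.GrLCOrd.nonempty_H_equiv I m i
  have hIM : m.toIdeal • (⊤ : Submodule R R) ≠ ⊤ := by
    rw [smul_eq_mul, Ideal.mul_top]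
    exact hm.ne_top
  have := Groth.Agent.Lib.Helper16.LC.subsingleton_H_of_lt_idealDepth m.toIdeal R hIM n
    (le_idealDepth_of_isMaximal m.toIdeal n hn) i hi
  exact e.injective.subsingleton

end CM

end Groth.Agent.Lib.Helper11.GrLes
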