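import Groth.Agent.Lib.Helper11.GrVanD
import Groth.Agent.Lib.Helper11.GrCoreF
import Groth.Agent.Lib.Helper11.GrLesH
import Groth.Agent.Lib.Helper16.CMLocalRing
import Groth.Agent.Lib.Helper18.FibQuot
import Mathlib.RingTheory.Localization.LocalizationLocalization

/-!
# A graded *local ring whose localization at the *maximal ideal is Cohen–Macaulay is
Cohen–Macaulay
-/

set_option autoImplicit false
set_option linter.unusedSectionVars false
set_option linter.unusedVariables false
set_option linter.style.haveILetI false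
universe u

namespace Groth.Agent.Lib.Helper11.GrCMGlob

open DirectSum GrLC Groth.Agent.Lib.Helper11.GrLCLib CategoryTheory

section Local

variable {R : Type u} [CommRing R] [IsNoetherianRing R]

/-- Bass numbers vanish below the height at a prime where the ring is Cohen–Macaulay. -/
theorem bassNum_eq_zero_of_isCM (p : Ideal R) [hp : p.IsPrime]
    [hCM : LocCoh.IsCohenMacaulayLocalRing (Localization.AtPrime p)] (n : ℕ)
    (hn : p.height = n) (i : ℕ) (hi : i < n) : GrLC.bassNum p R i = 0 := by
  rw [Groth.Agent.Lib.Helper11.GrGor.bassNum_self_eq]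
  unfold GrLC.bassNumLocal
  rw [Module.length_eq_zero_iff]
  have h1 := hCM.supportDim_eq_depth
  rw [Module.supportDim_self_eq_ringKrullDim, IsLocalization.AtPrime.ringKrullDim_eq_height p,
    hn] at h1
  have h2 : ((n : ℕ) : ℕ∞) = LocCoh.depth (Localization.AtPrime p) (Localization.AtPrime p) := by
    exact_mod_cast h1
  have h3 : (i : ℕ∞) < LocCoh.idealDepth (IsLocalRing.maximalIdeal (Localization.AtPrime p))
      (Localization.AtPrime p) := by
    change (i : ℕ∞) < LocCoh.depth (Localization.AtPrime p) (Localization.AtPrime p)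
    rw [← h2]
    exact_mod_cast hi
  exact Groth.Agent.Lib.Helper16.Depth.subsingleton_ext_of_lt_idealDepth
    (IsLocalRing.maximalIdeal (Localization.AtPrime p)) (Localization.AtPrime p) i h3

/-- If the Bass numbers vanish below the height, the localization is Cohen–Macaulay. -/
theorem isCM_of_bassNum (p : Ideal R) [hp : p.IsPrime] (n : ℕ) (hn : p.height = n)
    (h : ∀ i, i < n → GrLC.bassNum p R i = 0) :
    LocCoh.IsCohenMacaulayLocalRing (Localization.AtPrime p) := by
  haveI : IsNoetherianRing (Localization.AtPrime p) :=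
    IsLocalization.isNoetherianRing p.primeCompl _ inferInstance
  refine { supportDim_eq_depth := ?_ }
  rw [Module.supportDim_self_eq_ringKrullDim, IsLocalization.AtPrime.ringKrullDim_eq_height p, hn]
  have h1 : (n : ℕ∞) ≤ LocCoh.depth (Localization.AtPrime p) (Localization.AtPrime p) := by
    change (n : ℕ∞) ≤ LocCoh.idealDepth (IsLocalRing.maximalIdeal (Localization.AtPrime p))
      (Localization.AtPrime p)
    rw [Groth.Agent.Lib.Helper16.Depth.le_idealDepth_iff_ext']
    intro i hi
    have h2 := h i hi
    rw [Groth.Agent.Lib.Helper11.GrGor.bassNum_self_eq] at h2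
    unfold GrLC.bassNumLocal at h2
    rw [Module.length_eq_zero_iff] at h2
    exact h2
  have h2 := Groth.Agent.Lib.Helper18.CM.depth_localization_le_height p
  rw [hn] at h2
  rw [le_antisymm h2 h1]

/-- Cohen–Macaulayness passes to smaller primes. -/
theorem isCM_atPrime_of_le (m p : Ideal R) [hm : m.IsPrime] [hp : p.IsPrime] (hpm : p ≤ m)
    [hCM : LocCoh.IsCohenMacaulayLocalRing (Localization.AtPrime m)] :
    LocCoh.IsCohenMacaulayLocalRing (Localization.AtPrime p) := by
  haveI hA : LocCoh.IsCohenMacaulayRing (Localization.AtPrime m) :=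
    Groth.Agent.Lib.Helper16.CMLocalRing.isCohenMacaulayRing (Localization.AtPrime m)
  have hdisj : Disjoint (m.primeCompl : Set R) (p : Set R) := by
    rw [Set.disjoint_left]
    intro x hx hxp
    exact hx (hpm hxp)
  set q : Ideal (Localization.AtPrime m) := p.map (algebraMap R (Localization.AtPrime m)) with hq
  haveI hqp : q.IsPrime :=
    IsLocalization.isPrime_of_isPrime_disjoint m.primeCompl (Localization.AtPrime m) p hp hdisj
  have hcomap : q.comap (algebraMap R (Localization.AtPrime m)) = p :=
    IsLocalization.comap_map_of_isPrime_disjoint m.primeCompl (Localization.AtPrime m) hp hdisj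
  haveI := hA.isCohenMacaulayLocalRing_localization q
  have key : ∀ (p' : Ideal R) [p'.IsPrime], p' = p →
      (Localization.AtPrime p' ≃+* Localization.AtPrime q) →
      LocCoh.IsCohenMacaulayLocalRing (Localization.AtPrime p) := by
    intro p' _ hp' e
    subst hp'
    exact Groth.Agent.Lib.Helper18.FibQuot.isCohenMacaulayLocalRing_of_ringEquiv e.symm
  haveI : (q.comap (algebraMap R (Localization.AtPrime m))).IsPrime := Ideal.comap_isPrime _ _
  exact key _ hcomap
    (IsLocalization.localizationLocalizationAtPrimeIsoLocalization m.primeCompl q).toRingEquiv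

end Local

section Graded

variable {R : Type u} [CommRing R] [IsNoetherianRing R] (𝒜 : ℤ → AddSubgroup R) [GradedRing 𝒜]

/-- **Globalization of the Cohen–Macaulay property for graded rings.** -/
theorem isCohenMacaulayRing_of_local (m : HomogeneousIdeal 𝒜) (hm : IsStarLocal 𝒜 m)
    [hmp : m.toIdeal.IsPrime]
    [hCM : LocCoh.IsCohenMacaulayLocalRing (Localization.AtPrime m.toIdeal)] :
    LocCoh.IsCohenMacaulayRing R := by
  refine { isCohenMacaulayLocalRing_localization := fun p hp => ?_ }
  by_cases hph : p.IsHomogeneous 𝒜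
  · have hle := Groth.Agent.Lib.Helper11.GrLes.le_of_isHomogeneous_ne_top 𝒜 hm p hph hp.ne_top
    exact isCM_atPrime_of_le m.toIdeal p hle
  · haveI hPp : (Ideal.homogeneousCore 𝒜 p).toIdeal.IsPrime := Ideal.IsPrime.homogeneousCore hp
    set P := (Ideal.homogeneousCore 𝒜 p).toIdeal with hP
    have hPle : P ≤ m.toIdeal :=
      Groth.Agent.Lib.Helper11.GrLes.le_of_isHomogeneous_ne_top 𝒜 hm _
        (Ideal.homogeneousCore 𝒜 p).isHomogeneous hPp.ne_top
    haveI hCMP : LocCoh.IsCohenMacaulayLocalRing (Localization.AtPrime P) :=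
      isCM_atPrime_of_le m.toIdeal P hPle
    obtain ⟨nP, hnP⟩ := ENat.ne_top_iff_exists.mp (Ideal.height_ne_top hPp.ne_top)
    have hht : p.height = ((nP + 1 : ℕ) : ℕ∞) := by
      have h1 := Groth.Agent.Lib.Helper11.GrHt.relHt_eq_relHt_core_add_one 𝒜 ⊥
        (Ideal.IsHomogeneous.bot 𝒜) p hph bot_le
      rw [Groth.Agent.Lib.Helper11.GrLes.relHt_bot, Groth.Agent.Lib.Helper11.GrLes.relHt_bot] at h1
      rw [h1, ← hP, ← hnP]
      rfl
    have hb := Groth.Agent.Lib.Helper11.GrCore.bassNum_int 𝒜 𝒜 p hph
    refine isCM_of_bassNum p (nP + 1) hht ?_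
    intro i hi
    rcases i with _ | j
    · exact hb.1
    · rw [hb.2 j]
      exact bassNum_eq_zero_of_isCM P nP hnP.symm j (by omega)

end Graded

end Groth.Agent.Lib.Helper11.GrCMGlob
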