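import Mathlib
import Groth.Agent.Lib.Helper16.Linkage
import Groth.Agent.Lib.Helper16.GorLinkSum
import Groth.Agent.Lib.Helper16.Liaison5

/-!
# Peskine–Szpiro: Cohen–Macaulayness passes along direct links (local form)

`T` Noetherian local, `T/𝔞` Gorenstein of dimension `n`, `𝔞 ≤ I`, `T/I` Cohen–Macaulay of dimension
`n`; then `T/(𝔞 : I)` is Cohen–Macaulay of dimension `n` (or `(𝔞 : I) = T`).
-/

set_option autoImplicit false
set_option linter.unusedSectionVars false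
universe u
open IsLocalRing RingTheory.Sequence Pointwise

namespace Groth.Agent.Lib.Helper11.LinkCM

open Groth.Agent.Lib.Helper18.CM Groth.Agent.Lib.Helper16.Depth Groth.Agent.Lib.Helper16.GorQuot
open Groth.Agent.Lib.Helper16.Liaison

variable {T : Type u} [CommRing T] [IsLocalRing T] [IsNoetherianRing T]

theorem cm_ring_of_cm_module (𝔟 : Ideal T) (h𝔟 : 𝔟 ≠ ⊤)
    (h : LocCoh.IsCohenMacaulayModule T (T ⧸ 𝔟)) : LocCoh.IsCohenMacaulayLocalRing (T ⧸ 𝔟) := by
  have hl : IsLocalRing (T ⧸ 𝔟) := isLocalRing_quotient 𝔟 h𝔟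
  have hloc : IsLocalHom (algebraMap T (T ⧸ 𝔟)) :=
    IsLocalHom.of_surjective _ Ideal.Quotient.mk_surjective
  refine { supportDim_eq_depth := ?_ }
  unfold LocCoh.IsCohenMacaulayModule at h
  rw [depth_eq_of_finite (A := T) (B := T ⧸ 𝔟) (T ⧸ 𝔟),
    Module.supportDim_quotient_eq_ringKrullDim] at h
  rwa [Module.supportDim_self_eq_ringKrullDim]

theorem le_colon (𝔞 I : Ideal T) : 𝔞 ≤ 𝔞.colon (I : Set T) := by
  intro t ht
  rw [Submodule.mem_colon]
  intro s _
  rw [smul_eq_mul]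
  exact Ideal.mul_mem_right _ _ ht

section key

variable (𝔞 I : Ideal T) (h𝔞I : 𝔞 ≤ I) (hG : LocCoh.IsGorensteinLocalRing (T ⧸ 𝔞))
  (hCM : LocCoh.IsCohenMacaulayLocalRing (T ⧸ I))
  (hdim : ringKrullDim (T ⧸ I) = ringKrullDim (T ⧸ 𝔞))
  (x : T) (hreg : ∀ t, x * t ∈ 𝔞 → t ∈ 𝔞)

theorem mk_mem_annihilator_iff (t : T) :
    Ideal.Quotient.mk 𝔞 t ∈ Submodule.annihilator (I.map (Ideal.Quotient.mk 𝔞)) ↔
      t ∈ 𝔞.colon (I : Set T) := by
  rw [Submodule.mem_annihilator, Submodule.mem_colon]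
  constructor
  · intro h s hs
    have := h (Ideal.Quotient.mk 𝔞 s) (Ideal.mem_map_of_mem _ hs)
    rw [smul_eq_mul, ← map_mul, Ideal.Quotient.eq_zero_iff_mem] at this
    exact this
  · intro h n hn
    obtain ⟨s, hs, rfl⟩ := (Ideal.mem_map_iff_of_surjective _ Ideal.Quotient.mk_surjective).1 hn
    rw [smul_eq_mul, ← map_mul, Ideal.Quotient.eq_zero_iff_mem]
    exact h s hs

include h𝔞I hG hCM hdim hreg in
theorem colon_formulas' :
    (𝔞 ⊔ Ideal.span {x}).colon (I : Set T) = 𝔞.colon (I : Set T) ⊔ Ideal.span {x} ∧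
      ∀ t, x * t ∈ 𝔞.colon (I : Set T) → t ∈ 𝔞.colon (I : Set T) := by
  set A := T ⧸ 𝔞
  set Ī : Ideal A := I.map (Ideal.Quotient.mk 𝔞) with hĪ
  let e : (A ⧸ Ī) ≃+* T ⧸ I := DoubleQuot.quotQuotEquivQuotOfLE h𝔞I
  haveI hCM' : LocCoh.IsCohenMacaulayLocalRing (A ⧸ Ī) := cm_of_ringEquiv e.symm hCM
  have hdim' : ringKrullDim (A ⧸ Ī) = ringKrullDim A := by
    rw [ringKrullDim_eq_of_ringEquiv e, hdim]
  have hext := fun i hi =>
    Groth.Agent.Lib.Helper16.Linkage.subsingleton_ext_quotient_self Ī hdim' i hi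
  have hreg' : IsSMulRegular A (Ideal.Quotient.mk 𝔞 x) := by
    rw [isSMulRegular_iff_right_eq_zero_of_smul]
    intro m hm
    obtain ⟨t, rfl⟩ := Ideal.Quotient.mk_surjective m
    rw [smul_eq_mul, ← map_mul, Ideal.Quotient.eq_zero_iff_mem] at hm
    rw [Ideal.Quotient.eq_zero_iff_mem]
    exact hreg t hm
  have hwr : IsWeaklyRegular A [Ideal.Quotient.mk 𝔞 x] :=
    (isWeaklyRegular_singleton_iff A _).mpr hreg'
  obtain ⟨F1, F2⟩ := Groth.Agent.Lib.Helper16.Linkage.colon_formulas Ī _ hwr hext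
  rw [Ideal.ofList_singleton] at F1 F2
  constructor
  · apply le_antisymm
    · intro t ht
      have h1 : Ideal.Quotient.mk 𝔞 t ∈
          Submodule.colon (Ideal.span {Ideal.Quotient.mk 𝔞 x}) (Ī : Set A) := by
        rw [Submodule.mem_colon]
        intro n hn
        obtain ⟨s, hs, rfl⟩ := (Ideal.mem_map_iff_of_surjective _ Ideal.Quotient.mk_surjective).1 hn
        rw [Submodule.mem_colon] at ht
        have h2 := ht s hs
        rw [smul_eq_mul] at h2 ⊢
        obtain ⟨a, ha, b, hb, hab⟩ := Submodule.mem_sup.1 h2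
        obtain ⟨c, rfl⟩ := Ideal.mem_span_singleton'.1 hb
        rw [← map_mul, ← hab, map_add, Ideal.Quotient.eq_zero_iff_mem.2 ha, zero_add, map_mul]
        exact Ideal.mul_mem_left _ _ (Ideal.mem_span_singleton_self _)
      rw [← F1] at h1
      obtain ⟨u, hu, v, hv, huv⟩ := Submodule.mem_sup.1 h1
      obtain ⟨j, rfl⟩ := Ideal.Quotient.mk_surjective u
      obtain ⟨w, rfl⟩ := Ideal.mem_span_singleton'.1 hv
      obtain ⟨s, rfl⟩ := Ideal.Quotient.mk_surjective w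
      rw [mk_mem_annihilator_iff] at hu
      have h3 : t - (j + s * x) ∈ 𝔞 := by
        rw [← Ideal.Quotient.eq_zero_iff_mem, map_sub, map_add, map_mul, huv, sub_self]
      have h4 : t = (t - (j + s * x) + j) + s * x := by ring
      rw [h4]
      exact Submodule.add_mem_sup (Ideal.add_mem _ (le_colon 𝔞 I h3) hu)
        (Ideal.mul_mem_left _ _ (Ideal.mem_span_singleton_self _))
    · refine sup_le ?_ ?_
      · intro t ht
        rw [Submodule.mem_colon] at ht ⊢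
        intro s hs
        exact Ideal.mem_sup_left (ht s hs)
      · rw [Ideal.span_le, Set.singleton_subset_iff]
        show x ∈ (𝔞 ⊔ Ideal.span {x}).colon (I : Set T)
        rw [Submodule.mem_colon]
        intro s _
        rw [smul_eq_mul]
        exact Ideal.mem_sup_right (Ideal.mul_mem_right _ _ (Ideal.mem_span_singleton_self _))
  · intro t ht
    have h1 : Ideal.Quotient.mk 𝔞 x * Ideal.Quotient.mk 𝔞 t ∈
        Submodule.annihilator Ī ⊓ Ideal.span {Ideal.Quotient.mk 𝔞 x} := by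
      refine Submodule.mem_inf.2 ⟨?_, Ideal.mul_mem_right _ _ (Ideal.mem_span_singleton_self _)⟩
      rw [← map_mul]
      exact (mk_mem_annihilator_iff 𝔞 I _).2 ht
    rw [F2, Ideal.mem_span_singleton_mul] at h1
    obtain ⟨z, hz, hzt⟩ := h1
    have h2 : z = Ideal.Quotient.mk 𝔞 t := hreg' hzt
    refine (mk_mem_annihilator_iff 𝔞 I t).1 ?_
    rw [← h2]
    exact hz

end key


theorem cm_of_cm_quotSMulTop (M : Type u) [AddCommGroup M] [Module T M] [Module.Finite T M]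
    {x : T} (hx : x ∈ maximalIdeal T) (hreg : IsSMulRegular M x)
    (h : LocCoh.IsCohenMacaulayModule T (QuotSMulTop x M)) : LocCoh.IsCohenMacaulayModule T M := by
  have h1 := Module.supportDim_quotSMulTop_succ_eq_supportDim_mem_jacobson hreg
    (mem_jacobson_annihilator M hx)
  have h2 := depth_quotSMulTop M hx hreg
  unfold LocCoh.IsCohenMacaulayModule at h ⊢
  rw [← h1, h, ← h2]
  rfl

theorem colon_sup_span_right (𝔞 I : Ideal T) (x : T) :
    (𝔞 ⊔ Ideal.span {x}).colon ((I ⊔ Ideal.span {x} : Ideal T) : Set T) =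
      (𝔞 ⊔ Ideal.span {x}).colon (I : Set T) := by
  ext t
  rw [Submodule.mem_colon, Submodule.mem_colon]
  constructor
  · intro h s hs
    exact h s (Ideal.mem_sup_left hs)
  · intro h s hs
    obtain ⟨a, ha, b, hb, rfl⟩ := Submodule.mem_sup.1 hs
    rw [smul_add]
    refine Ideal.add_mem _ (h a ha) ?_
    rw [smul_eq_mul]
    exact Ideal.mem_sup_right (Ideal.mul_mem_left _ _ hb)

/-- **Peskine–Szpiro**, local form. -/
theorem cm_quot_colon (n : ℕ) : ∀ (𝔞 I : Ideal T), 𝔞 ≤ I →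
    LocCoh.IsGorensteinLocalRing (T ⧸ 𝔞) → LocCoh.IsCohenMacaulayModule T (T ⧸ I) →
    ringKrullDim (T ⧸ 𝔞) = n → ringKrullDim (T ⧸ I) = n → 𝔞.colon (I : Set T) ≠ ⊤ →
    LocCoh.IsCohenMacaulayModule T (T ⧸ 𝔞.colon (I : Set T)) ∧
      ringKrullDim (T ⧸ 𝔞.colon (I : Set T)) = n := by
  induction n with
  | zero =>
    intro 𝔞 I h𝔞I hG hCMI hd𝔞 hdI hJ
    have hl : IsLocalRing (T ⧸ 𝔞.colon (I : Set T)) := isLocalRing_quotient _ hJ
    have hd : ringKrullDim (T ⧸ 𝔞.colon (I : Set T)) = 0 := by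
      apply le_antisymm
      · have := ringKrullDim_le_of_surjective (Ideal.Quotient.factor (le_colon 𝔞 I))
          (Ideal.Quotient.factor_surjective (le_colon 𝔞 I))
        rw [hd𝔞] at this
        exact_mod_cast this
      · exact ringKrullDim_nonneg_of_nontrivial
    refine ⟨?_, by rw [hd]; rfl⟩
    unfold LocCoh.IsCohenMacaulayModule
    have h1 := depth_le_supportDim (R := T) (T ⧸ 𝔞.colon (I : Set T))
    rw [Module.supportDim_quotient_eq_ringKrullDim, hd] at h1 ⊢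
    have h2 : LocCoh.depth T (T ⧸ 𝔞.colon (I : Set T)) = 0 := by
      have : LocCoh.depth T (T ⧸ 𝔞.colon (I : Set T)) ≤ 0 := by exact_mod_cast h1
      exact le_antisymm this zero_le
    rw [h2]
    rfl
  | succ n ih =>
    intro 𝔞 I h𝔞I hG hCMI hd𝔞 hdI hJ
    have hI : I ≠ ⊤ := by
      rintro rfl
      haveI : Subsingleton (T ⧸ (⊤ : Ideal T)) := Ideal.Quotient.subsingleton_iff.2 rfl
      rw [ringKrullDim_eq_bot_of_subsingleton] at hdI
      exact WithBot.bot_ne_coe hdI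
    have h𝔞 : 𝔞 ≠ ⊤ := fun h => hI (top_le_iff.1 (h ▸ h𝔞I))
    have hCMA : LocCoh.IsCohenMacaulayLocalRing (T ⧸ 𝔞) :=
      Groth.Agent.Lib.Helper11.GorCM.isCohenMacaulayLocalRing_of_gorenstein (T ⧸ 𝔞)
    have hN := cm_module_of_cm_ring 𝔞 hCMA
    have hdep𝔞 := depth_eq_of_cm 𝔞 hN (n + 1) hd𝔞
    have hdepI := depth_eq_of_cm I hCMI (n + 1) hdI
    obtain ⟨x, hx, hxreg⟩ := exists_regular_of_depth_pos ({𝔞, I} : Finset (Ideal T)) (by
      intro 𝔠 h𝔠
      rw [Finset.mem_insert, Finset.mem_singleton] at h𝔠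
      rcases h𝔠 with rfl | rfl
      · rw [hdep𝔞]; exact_mod_cast Nat.succ_pos n
      · rw [hdepI]; exact_mod_cast Nat.succ_pos n)
    have hreg𝔞 := hxreg 𝔞 (by simp)
    have hregI := hxreg I (by simp)
    have hCMring := cm_ring_of_cm_module I hI hCMI
    obtain ⟨hcol, hregJ⟩ := colon_formulas' 𝔞 I h𝔞I hG hCMring (hdI.trans hd𝔞.symm) x hreg𝔞
    have hG' := (gor_sup_iff 𝔞 h𝔞 x hx hreg𝔞).1 hG
    have hCM' := cm_sup_span I hCMI x hx hregI
    have hd𝔞' : ringKrullDim (T ⧸ (𝔞 ⊔ Ideal.span {x})) = n := by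
      have := ringKrullDim_sup_span_add_one 𝔞 x hx hreg𝔞
      rw [hd𝔞] at this
      exact withBot_add_one_eq this
    have hdI' : ringKrullDim (T ⧸ (I ⊔ Ideal.span {x})) = n := by
      have := ringKrullDim_sup_span_add_one I x hx hregI
      rw [hdI] at this
      exact withBot_add_one_eq this
    have hcol' : (𝔞 ⊔ Ideal.span {x}).colon ((I ⊔ Ideal.span {x} : Ideal T) : Set T) =
        𝔞.colon (I : Set T) ⊔ Ideal.span {x} := by
      rw [colon_sup_span_right, hcol]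
    have hJ' : 𝔞.colon (I : Set T) ⊔ Ideal.span {x} ≠ ⊤ := sup_span_ne_top _ hJ x hx
    obtain ⟨h1, h2⟩ := ih (𝔞 ⊔ Ideal.span {x}) (I ⊔ Ideal.span {x}) (sup_le_sup_right h𝔞I _)
      hG' hCM' hd𝔞' hdI' (by rw [hcol']; exact hJ')
    rw [hcol'] at h1 h2
    constructor
    · apply cm_of_cm_quotSMulTop (T ⧸ 𝔞.colon (I : Set T)) hx
        ((isSMulRegular_quotient_iff _ x).mpr hregJ)
      exact (isCohenMacaulayModule_congr (quotSMulTopEquiv _ x)).mpr h1
    · have := ringKrullDim_sup_span_add_one _ x hx hregJ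
      rw [h2] at this
      rw [← this]
      rfl

end Groth.Agent.Lib.Helper11.LinkCM
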