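import Groth.Agent.Lib.Helper11.GrCoreE
import Groth.Agent.Lib.Helper16.GorensteinTopLC
import Groth.Prelude.Def_GrLC2

set_option autoImplicit false
set_option linter.unusedSectionVars false
universe u
open CategoryTheory CategoryTheory.Abelian

namespace Groth.Agent.Lib.Helper11.GrGor

open Groth.Agent.Lib.Helper11.GrCore

section Gor

variable {R : Type u} [CommRing R]

/-- Bass numbers only depend on the module up to isomorphism (local form). -/
theorem bassNumLocal_congr {A : Type u} [CommRing A] [IsLocalRing A] {N N' : Type u}
    [AddCommGroup N] [Module A N] [AddCommGroup N'] [Module A N'] (φ : N ≃ₗ[A] N') (i : ℕ) :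
    GrLC.bassNumLocal A N i = GrLC.bassNumLocal A N' i := by
  unfold GrLC.bassNumLocal
  exact (extEquivOfIso₂ (ModuleCat.of A (IsLocalRing.ResidueField A)) φ.toModuleIso i).length_eq

/-- The Bass numbers of the ring itself, via the localization as a ring. -/
theorem bassNum_self_eq (p : Ideal R) [hp : p.IsPrime] (i : ℕ) :
    GrLC.bassNum p R i = GrLC.bassNumLocal (Localization.AtPrime p) (Localization.AtPrime p) i := by
  unfold GrLC.bassNum
  have e1R : LocalizedModule p.primeCompl R ≃ₗ[R] Localization.AtPrime p :=
    IsLocalizedModule.linearEquiv p.primeCompl (LocalizedModule.mkLinearMap p.primeCompl R)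
      (Algebra.linearMap R (Localization.AtPrime p))
  exact bassNumLocal_congr (e1R.extendScalarsOfIsLocalization p.primeCompl (Localization.AtPrime p)) i

/-- Bass numbers of a Gorenstein ring at a prime of height `n`. -/
theorem bassNum_gorenstein [hG : LocCoh.IsGorensteinRing R] (p : Ideal R) [hp : p.IsPrime] (n : ℕ)
    (hn : p.height = n) :
    (∀ i, i < n → GrLC.bassNum p R i = 0) ∧ GrLC.bassNum p R (n + 1) = 0 ∧
      GrLC.bassNum p R n = 1 := by
  have hA : LocCoh.IsGorensteinLocalRing (Localization.AtPrime p) :=
    hG.isGorensteinLocalRing_localization p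
  have hdim : ringKrullDim (Localization.AtPrime p) = n := by
    rw [IsLocalization.AtPrime.ringKrullDim_eq_height p, hn]
    rfl
  have hH := Groth.Agent.Lib.Helper16.GorTop.hyp hdim
  refine ⟨fun i hi => ?_, ?_, ?_⟩
  · rw [bassNum_self_eq]
    unfold GrLC.bassNumLocal
    rw [Module.length_eq_zero_iff]
    exact hH.low i hi
  · rw [bassNum_self_eq]
    unfold GrLC.bassNumLocal
    rw [Module.length_eq_zero_iff]
    exact hH.high
  · rw [bassNum_self_eq]
    exact Groth.Agent.Lib.Helper16.GorTop.length_ext_residueField hdim

end Gor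

end Groth.Agent.Lib.Helper11.GrGor
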