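import Groth.Agent.Lib.Helper11.GrCMGlob
import Groth.Agent.Lib.Helper11.GrGorC
import Groth.Agent.Lib.Helper11.Bass
import Groth.Agent.Lib.Helper2.Gor.GK1
import Groth.Agent.Lib.Helper16.GorAnn
import Groth.Agent.Lib.Helper16.GorensteinTopLC

/-!
# A graded *local ring whose localization at the *maximal ideal is Gorenstein is Gorenstein
-/

set_option autoImplicit false
set_option linter.unusedSectionVars false
set_option linter.unusedVariables false
set_option linter.style.haveILetI false
universe u

namespace Groth.Agent.Lib.Helper11.Wat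

open DirectSum GrLC Groth.Agent.Lib.Helper11.GrLCLib CategoryTheory CategoryTheory.Abelian

section Local

variable {R : Type u} [CommRing R] [IsNoetherianRing R]

/-- Bass numbers vanish above the height at a prime where the ring is Gorenstein. -/
theorem bassNum_eq_zero_of_isGor (p : Ideal R) [hp : p.IsPrime]
    [hG : LocCoh.IsGorensteinLocalRing (Localization.AtPrime p)] (n : ℕ)
    (hn : p.height = n) (i : ℕ) (hi : n < i) : GrLC.bassNum p R i = 0 := by
  rw [Groth.Agent.Lib.Helper11.GrGor.bassNum_self_eq]
  unfold GrLC.bassNumLocal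
  rw [Module.length_eq_zero_iff]
  have hdim : ringKrullDim (Localization.AtPrime p) = n := by
    rw [IsLocalization.AtPrime.ringKrullDim_eq_height p, hn]
    rfl
  have hd := Groth.Agent.Lib.Helper16.GorTop.depth_eq hdim
  have := Groth.Agent.Lib.Helper11.GorCM.hasInjectiveDimensionLT_of_depth n
    (Localization.AtPrime p) hd
  exact HasInjectiveDimensionLT.subsingleton _ (n + 1) i (by omega) _

/-- If the Bass numbers of `R` at `p` vanish in high degrees, `R_p` is Gorenstein. -/
theorem isGor_of_bassNum (p : Ideal R) [hp : p.IsPrime] (N : ℕ)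
    (h : ∀ i, N ≤ i → GrLC.bassNum p R i = 0) :
    LocCoh.IsGorensteinLocalRing (Localization.AtPrime p) := by
  haveI : IsNoetherianRing (Localization.AtPrime p) :=
    IsLocalization.isNoetherianRing p.primeCompl _ inferInstance
  refine { exists_hasInjectiveDimensionLT := ⟨N + 1, ?_⟩ }
  refine Groth.Agent.Lib.Helper11.Bass.hasInjectiveDimensionLT_of_residueField
    (ModuleCat.of (Localization.AtPrime p) (Localization.AtPrime p)) N fun i hi => ?_
  have h2 := h i hi
  rw [Groth.Agent.Lib.Helper11.GrGor.bassNum_self_eq] at h2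
  unfold GrLC.bassNumLocal at h2
  rw [Module.length_eq_zero_iff] at h2
  exact h2

/-- Gorensteinness passes to smaller primes. -/
theorem isGor_atPrime_of_le (m p : Ideal R) [hm : m.IsPrime] [hp : p.IsPrime] (hpm : p ≤ m)
    [hG : LocCoh.IsGorensteinLocalRing (Localization.AtPrime m)] :
    LocCoh.IsGorensteinLocalRing (Localization.AtPrime p) := by
  have hdisj : Disjoint (m.primeCompl : Set R) (p : Set R) := by
    rw [Set.disjoint_left]
    intro x hx hxp
    exact hx (hpm hxp)
  set q : Ideal (Localization.AtPrime m) := p.map (algebraMap R (Localization.AtPrime m)) with hq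
  haveI hqp : q.IsPrime :=
    IsLocalization.isPrime_of_isPrime_disjoint m.primeCompl (Localization.AtPrime m) p hp hdisj
  have hcomap : q.comap (algebraMap R (Localization.AtPrime m)) = p :=
    IsLocalization.comap_map_of_isPrime_disjoint m.primeCompl (Localization.AtPrime m) hp hdisj
  have hGq : LocCoh.IsGorensteinLocalRing (Localization.AtPrime q) :=
    Groth.Agent.Lib.Helper16.GorAnn.isGorensteinLocalRing_localization q
  have key : ∀ (p' : Ideal R) [p'.IsPrime], p' = p →
      (Localization.AtPrime p' ≃+* Localization.AtPrime q) →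
      LocCoh.IsGorensteinLocalRing (Localization.AtPrime p) := by
    intro p' _ hp' e
    subst hp'
    exact Groth.Agent.Lib.Helper2.GK.gor_of_ringEquiv e.symm hGq
  haveI : (q.comap (algebraMap R (Localization.AtPrime m))).IsPrime := Ideal.comap_isPrime _ _
  exact key _ hcomap
    (IsLocalization.localizationLocalizationAtPrimeIsoLocalization m.primeCompl q).toRingEquiv

end Local

section Graded

variable {R : Type u} [CommRing R] [IsNoetherianRing R] (𝒜 : ℤ → AddSubgroup R) [GradedRing 𝒜]

/-- **Globalization of the Gorenstein property for graded rings.** -/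
theorem isGorensteinRing_of_local (m : HomogeneousIdeal 𝒜) (hm : IsStarLocal 𝒜 m)
    [hmp : m.toIdeal.IsPrime]
    [hG : LocCoh.IsGorensteinLocalRing (Localization.AtPrime m.toIdeal)] :
    LocCoh.IsGorensteinRing R := by
  refine { isGorensteinLocalRing_localization := fun p hp => ?_ }
  by_cases hph : p.IsHomogeneous 𝒜
  · have hle := Groth.Agent.Lib.Helper11.GrLes.le_of_isHomogeneous_ne_top 𝒜 hm p hph hp.ne_top
    exact isGor_atPrime_of_le m.toIdeal p hle
  · haveI hPp : (Ideal.homogeneousCore 𝒜 p).toIdeal.IsPrime := Ideal.IsPrime.homogeneousCore hp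
    set P := (Ideal.homogeneousCore 𝒜 p).toIdeal with hP
    have hPle : P ≤ m.toIdeal :=
      Groth.Agent.Lib.Helper11.GrLes.le_of_isHomogeneous_ne_top 𝒜 hm _
        (Ideal.homogeneousCore 𝒜 p).isHomogeneous hPp.ne_top
    haveI hGP : LocCoh.IsGorensteinLocalRing (Localization.AtPrime P) :=
      isGor_atPrime_of_le m.toIdeal P hPle
    obtain ⟨nP, hnP⟩ := ENat.ne_top_iff_exists.mp (Ideal.height_ne_top hPp.ne_top)
    have hb := Groth.Agent.Lib.Helper11.GrCore.bassNum_int 𝒜 𝒜 p hph
    refine isGor_of_bassNum p (nP + 2) ?_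
    intro i hi
    obtain ⟨j, rfl⟩ : ∃ j, i = j + 1 := ⟨i - 1, by omega⟩
    rw [hb.2 j]
    exact bassNum_eq_zero_of_isGor P nP hnP.symm j (by omega)

end Graded

end Groth.Agent.Lib.Helper11.Wat
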