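import Mathlib
import Groth.Agent.Lib.Helper11.FiltReesB
import Groth.Agent.Lib.Helper11.WatGlob
import Groth.Agent.Lib.Helper11.GrCMGlob
import Groth.Agent.Lib.Helper11.LinkCM
import Groth.Agent.Lib.Helper8.CMQ1
import Groth.Agent.Lib.Helper16.GorBC2
import Groth.Agent.Lib.Helper16.GorQuot

/-!
# The extended Rees algebra is CM / Gorenstein iff the associated graded ring is
-/

set_option autoImplicit false
set_option linter.unusedSectionVars false
set_option linter.unusedVariables false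
set_option linter.style.haveILetI false
universe u

namespace Groth.Agent.Lib.Helper11.FiltRees

open LaurentPolynomial DirectSum FiltBl IsLocalRing Pointwise

/-- converse of `cm_local_quot`. -/
theorem cm_local_of_quot {T : Type u} [CommRing T] [IsNoetherianRing T] [IsLocalRing T] (x : T)
    (hx : x ∈ maximalIdeal T) (hreg : IsSMulRegular T x)
    (h : LocCoh.IsCohenMacaulayLocalRing (T ⧸ Ideal.span {x})) :
    LocCoh.IsCohenMacaulayLocalRing T := by
  have h1 : LocCoh.IsCohenMacaulayModule T (T ⧸ Ideal.span {x}) :=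
    Groth.Agent.Lib.Helper16.GorQuot.cm_module_of_cm_ring _ h
  have hspan : Ideal.span {x} = x • (⊤ : Ideal T) := by
    simp [← Submodule.ideal_span_singleton_smul]
  let e : QuotSMulTop x T ≃ₗ[T] T ⧸ Ideal.span {x} :=
    Submodule.quotEquivOfEq _ _ hspan.symm
  have h2 : LocCoh.IsCohenMacaulayModule T (QuotSMulTop x T) :=
    (Groth.Agent.Lib.Helper18.CM.isCohenMacaulayModule_congr e).mpr h1
  have h3 := Groth.Agent.Lib.Helper11.LinkCM.cm_of_cm_quotSMulTop T hx hreg h2
  exact { supportDim_eq_depth := h3 }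

/-- localized version -/
theorem cm_atPrime_of_quot {R : Type u} [CommRing R] [IsNoetherianRing R] (x : R)
    (hreg : IsSMulRegular R x) (q : Ideal (R ⧸ Ideal.span {x})) [q.IsPrime]
    (Q : Ideal R) [Q.IsPrime] (hQ : Q = q.comap (Ideal.Quotient.mk (Ideal.span {x})))
    (h : LocCoh.IsCohenMacaulayLocalRing (Localization.AtPrime q)) :
    LocCoh.IsCohenMacaulayLocalRing (Localization.AtPrime Q) := by
  have hxQ : x ∈ Q := by
    rw [hQ, Ideal.mem_comap]
    have : Ideal.Quotient.mk (Ideal.span {x}) x = 0 :=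
      Ideal.Quotient.eq_zero_iff_mem.mpr (Ideal.mem_span_singleton_self x)
    rw [this]
    exact Ideal.zero_mem _
  have hxm : algebraMap R (Localization.AtPrime Q) x ∈ maximalIdeal (Localization.AtPrime Q) :=
    (IsLocalization.AtPrime.to_map_mem_maximal_iff (Localization.AtPrime Q) Q x).mpr hxQ
  have hreg' : IsSMulRegular (Localization.AtPrime Q) (algebraMap R (Localization.AtPrime Q) x) := by
    have h1 : RingTheory.Sequence.IsWeaklyRegular R [x] := by
      rw [RingTheory.Sequence.isWeaklyRegular_cons_iff]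
      exact ⟨hreg, RingTheory.Sequence.IsWeaklyRegular.nil _ _⟩
    have h2 := RingTheory.Sequence.IsWeaklyRegular.of_isLocalization (Localization.AtPrime Q)
      Q.primeCompl h1
    rw [List.map_cons, RingTheory.Sequence.isWeaklyRegular_cons_iff] at h2
    exact h2.1
  have hmap : (Ideal.span {x}).map (algebraMap R (Localization.AtPrime Q))
      = Ideal.span {algebraMap R (Localization.AtPrime Q) x} := by
    rw [Ideal.map_span, Set.image_singleton]
  have e := Groth.Agent.Lib.Helper8.CMQ.locQuotEquiv (Ideal.span {x}) q Q hQ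
  rw [hmap] at e
  have h3 : LocCoh.IsCohenMacaulayLocalRing
      (Localization.AtPrime Q ⧸ Ideal.span {algebraMap R (Localization.AtPrime Q) x}) :=
    Groth.Agent.Lib.Helper18.FibQuot.isCohenMacaulayLocalRing_of_ringEquiv
      (R := Localization.AtPrime q) (h := h) e
  exact cm_local_of_quot _ hxm hreg' h3

variable {A : Type u} [CommRing A] [IsNoetherianRing A] [IsLocalRing A] (𝓕 : IdealFiltration A)

theorem comap_map_erMax (hF1 : 𝓕.F 1 ≤ maximalIdeal A) :
    ((erMax 𝓕 hF1).map (Ideal.Quotient.mk (Ideal.span {𝓕.u}))).comap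
      (Ideal.Quotient.mk (Ideal.span {𝓕.u})) = erMax 𝓕 hF1 := by
  rw [Ideal.comap_map_of_surjective _ Ideal.Quotient.mk_surjective, ← RingHom.ker_eq_comap_bot,
    Ideal.mk_ker, sup_eq_left, Ideal.span_le, Set.singleton_subset_iff]
  exact u_mem_erMax 𝓕 hF1

theorem map_erMax_isPrime (hF1 : 𝓕.F 1 ≤ maximalIdeal A) :
    ((erMax 𝓕 hF1).map (Ideal.Quotient.mk (Ideal.span {𝓕.u}))).IsPrime := by
  apply Ideal.map_isPrime_of_surjective Ideal.Quotient.mk_surjective
  rw [Ideal.mk_ker, Ideal.span_le, Set.singleton_subset_iff]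
  exact u_mem_erMax 𝓕 hF1

theorem cm_iff (hsep : ⨅ n, 𝓕.F n = ⊥) (hfg : Algebra.FiniteType A 𝓕.rees) :
    LocCoh.IsCohenMacaulayRing 𝓕.extRees ↔ LocCoh.IsCohenMacaulayRing 𝓕.Gr := by
  constructor
  · intro h
    exact Groth.Agent.Lib.Helper8.CMQ.cm_quot_regular 𝓕.u (u_isSMulRegular 𝓕)
  · intro h
    haveI : IsNoetherianRing 𝓕.extRees := isNoetherianRing_extRees 𝓕 hfg
    have hF1 := F_one_le_maximalIdeal 𝓕 hsep
    haveI hq := map_erMax_isPrime 𝓕 hF1
    haveI hmp : (erMaxH 𝓕 hF1).toIdeal.IsPrime := (erMax_isMaximal 𝓕 hF1).isPrime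
    have hCMq := h.isCohenMacaulayLocalRing_localization
      ((erMax 𝓕 hF1).map (Ideal.Quotient.mk (Ideal.span {𝓕.u})))
    haveI hloc : LocCoh.IsCohenMacaulayLocalRing (Localization.AtPrime (erMaxH 𝓕 hF1).toIdeal) :=
      cm_atPrime_of_quot 𝓕.u (u_isSMulRegular 𝓕) _ (erMaxH 𝓕 hF1).toIdeal
        (comap_map_erMax 𝓕 hF1).symm hCMq
    exact Groth.Agent.Lib.Helper11.GrCMGlob.isCohenMacaulayRing_of_local (erGr 𝓕) (erMaxH 𝓕 hF1)
      (isStarLocal_erMaxH 𝓕 hF1)

theorem gor_iff (hsep : ⨅ n, 𝓕.F n = ⊥) (hfg : Algebra.FiniteType A 𝓕.rees) :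
    LocCoh.IsGorensteinRing 𝓕.extRees ↔ LocCoh.IsGorensteinRing 𝓕.Gr := by
  constructor
  · intro h
    exact Groth.Agent.Lib.Helper16.GorBC.gorRing_quot 𝓕.extRees h 𝓕.u (u_mem_nonZeroDivisors 𝓕)
      (Ideal.span {𝓕.u}) rfl
  · intro h
    haveI : IsNoetherianRing 𝓕.extRees := isNoetherianRing_extRees 𝓕 hfg
    have hF1 := F_one_le_maximalIdeal 𝓕 hsep
    haveI hq := map_erMax_isPrime 𝓕 hF1
    haveI hmp : (erMaxH 𝓕 hF1).toIdeal.IsPrime := (erMax_isMaximal 𝓕 hF1).isPrime
    have hGq := h.isGorensteinLocalRing_localization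
      ((erMax 𝓕 hF1).map (Ideal.Quotient.mk (Ideal.span {𝓕.u})))
    haveI hloc : LocCoh.IsGorensteinLocalRing (Localization.AtPrime (erMaxH 𝓕 hF1).toIdeal) :=
      (Groth.Agent.Lib.Helper2.GK.gor_localization_quot_iff 𝓕.u (u_mem_nonZeroDivisors 𝓕)
        (Ideal.span {𝓕.u}) rfl _ (erMaxH 𝓕 hF1).toIdeal (comap_map_erMax 𝓕 hF1).symm).mpr hGq
    exact Groth.Agent.Lib.Helper11.Wat.isGorensteinRing_of_local (erGr 𝓕) (erMaxH 𝓕 hF1)
      (isStarLocal_erMaxH 𝓕 hF1)

end Groth.Agent.Lib.Helper11.FiltRees
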