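import Mathlib
import Groth.Agent.Lib.Helper11.FiltReesC
import Groth.Agent.Lib.Helper14.CMBC
import Groth.Agent.Lib.Helper14.FieldBase

/-!
# General lemmas on Cohen–Macaulay localizations; the extended Rees algebra away from `u`
-/

set_option autoImplicit false
set_option linter.unusedSectionVars false
set_option linter.unusedVariables false
set_option linter.style.haveILetI false
universe u

namespace Groth.Agent.Lib.Helper11.FiltRees

open LaurentPolynomial DirectSum FiltBl IsLocalRing

section General

/-- CM transfers along ring isomorphisms at corresponding primes. -/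
theorem cm_atPrime_of_ringEquiv {R S : Type u} [CommRing R] [CommRing S] (e : R ≃+* S)
    (p : Ideal S) [p.IsPrime] (P : Ideal R) [P.IsPrime] (hP : P = p.comap (e : R →+* S))
    (h : LocCoh.IsCohenMacaulayLocalRing (Localization.AtPrime P)) :
    LocCoh.IsCohenMacaulayLocalRing (Localization.AtPrime p) := by
  have H : P.primeCompl.map e.toMonoidHom = p.primeCompl := by
    ext b
    constructor
    · rintro ⟨a, ha, rfl⟩
      change a ∉ P at ha
      rw [hP] at ha
      exact ha
    · intro hb
      refine ⟨e.symm b, ?_, e.apply_symm_apply b⟩
      change e.symm b ∉ P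
      rw [hP]
      intro h
      apply hb
      have : e (e.symm b) ∈ p := h
      rwa [e.apply_symm_apply] at this
  exact Groth.Agent.Lib.Helper18.FibQuot.isCohenMacaulayLocalRing_of_ringEquiv
    (IsLocalization.ringEquivOfRingEquiv (Localization.AtPrime P) (Localization.AtPrime p) e H)

theorem cm_atPrime_of_eq {R : Type u} [CommRing R] (P P' : Ideal R) [P.IsPrime] [P'.IsPrime]
    (h : P = P') (hc : LocCoh.IsCohenMacaulayLocalRing (Localization.AtPrime P)) :
    LocCoh.IsCohenMacaulayLocalRing (Localization.AtPrime P') := by
  subst h
  exact hc

end General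

end Groth.Agent.Lib.Helper11.FiltRees
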