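import Mathlib
import Groth.Agent.Lib.Helper11.FiltReesD

/-!
# The extended Rees algebra away from `u`: localizations at primes not containing `u`
-/

set_option autoImplicit false
set_option linter.unusedSectionVars false
set_option linter.unusedVariables false
set_option linter.style.haveILetI false
universe u

namespace Groth.Agent.Lib.Helper11.FiltRees

open LaurentPolynomial DirectSum FiltBl IsLocalRing

theorem flat_atPrime_of_away {A R' B : Type u} [CommRing A] [CommRing R'] [CommRing B]
    [Algebra A R'] [Algebra R' B] [Algebra A B]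
    [IsScalarTower A R' B] [Module.Flat A B] (u : R') [IsLocalization.Away u B]
    (P : Ideal R') [P.IsPrime] (hu : u ∉ P) : Module.Flat A (Localization.AtPrime P) := by
  have hle : Submonoid.powers u ≤ P.primeCompl := by
    rw [Submonoid.powers_le]
    exact hu
  letI alg : Algebra B (Localization.AtPrime P) :=
    IsLocalization.localizationAlgebraOfSubmonoidLe B (Localization.AtPrime P)
      (Submonoid.powers u) P.primeCompl hle
  haveI tower : IsScalarTower R' B (Localization.AtPrime P) :=
    IsLocalization.localization_isScalarTower_of_submonoid_le B (Localization.AtPrime P)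
      (Submonoid.powers u) P.primeCompl hle
  haveI loc : IsLocalization (P.primeCompl.map (algebraMap R' B)) (Localization.AtPrime P) :=
    IsLocalization.isLocalization_of_submonoid_le B (Localization.AtPrime P)
      (Submonoid.powers u) P.primeCompl hle
  haveI : Module.Flat B (Localization.AtPrime P) :=
    IsLocalization.flat (Localization.AtPrime P) (P.primeCompl.map (algebraMap R' B))
  haveI : IsScalarTower A B (Localization.AtPrime P) := by
    refine IsScalarTower.of_algebraMap_eq fun a => ?_
    rw [IsScalarTower.algebraMap_apply A R' (Localization.AtPrime P),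
      IsScalarTower.algebraMap_apply R' B (Localization.AtPrime P),
      ← IsScalarTower.algebraMap_apply A R' B]
  exact Module.Flat.trans A B (Localization.AtPrime P)

theorem cm_atPrime_iff_of_flat {A R' : Type u} [CommRing A] [CommRing R']
    [IsNoetherianRing A] [IsNoetherianRing R'] [Algebra A R']
    (P : Ideal R') [P.IsPrime] (q : Ideal A) [q.IsPrime]
    (hq : q = P.comap (algebraMap A R'))
    (hflat : Module.Flat A (Localization.AtPrime P))
    (hgen : P.map (algebraMap R' (Localization.AtPrime P)) ≤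
      q.map (algebraMap A (Localization.AtPrime P))) :
    LocCoh.IsCohenMacaulayLocalRing (Localization.AtPrime P) ↔
      LocCoh.IsCohenMacaulayLocalRing (Localization.AtPrime q) := by
  haveI : IsNoetherianRing (Localization.AtPrime P) :=
    IsLocalization.isNoetherianRing P.primeCompl _ inferInstance
  haveI : IsNoetherianRing (Localization.AtPrime q) :=
    IsLocalization.isNoetherianRing q.primeCompl _ inferInstance
  letI algAq : Algebra (Localization.AtPrime q) (Localization.AtPrime P) :=
    (Localization.localRingHom q P (algebraMap A R') hq).toAlgebra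
  haveI hloc : IsLocalHom (algebraMap (Localization.AtPrime q) (Localization.AtPrime P)) :=
    Localization.isLocalHom_localRingHom q P (algebraMap A R') hq
  haveI tower : IsScalarTower A (Localization.AtPrime q) (Localization.AtPrime P) := by
    refine IsScalarTower.of_algebraMap_eq fun a => ?_
    change _ = Localization.localRingHom q P (algebraMap A R') hq (algebraMap A _ a)
    rw [Localization.localRingHom_to_map, ← IsScalarTower.algebraMap_apply]
  haveI : Module.Flat (Localization.AtPrime q) (Localization.AtPrime P) :=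
    (Module.flat_iff_of_isLocalization (Localization.AtPrime q) q.primeCompl
      (Localization.AtPrime P)).mpr hflat
  have heq : (maximalIdeal (Localization.AtPrime q)).map
      (algebraMap (Localization.AtPrime q) (Localization.AtPrime P)) =
      maximalIdeal (Localization.AtPrime P) := by
    apply le_antisymm
    · exact ((IsLocalRing.local_hom_TFAE (algebraMap (Localization.AtPrime q)
        (Localization.AtPrime P))).out 0 2).mp hloc
    · rw [← Localization.AtPrime.map_eq_maximalIdeal, ← Localization.AtPrime.map_eq_maximalIdeal,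
        Ideal.map_map, ← IsScalarTower.algebraMap_eq]
      exact hgen
  have hmax : ((maximalIdeal (Localization.AtPrime q)).map
      (algebraMap (Localization.AtPrime q) (Localization.AtPrime P))).IsMaximal := by
    rw [heq]
    infer_instance
  have hfield : LocCoh.IsCohenMacaulayLocalRing (Localization.AtPrime P ⧸
      (maximalIdeal (Localization.AtPrime q)).map
        (algebraMap (Localization.AtPrime q) (Localization.AtPrime P))) :=
    Groth.Agent.Lib.Helper14.AS.cm_of_isField _
      ((Ideal.Quotient.maximal_ideal_iff_isField_quotient _).mp hmax)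
  rw [Groth.Agent.Lib.Helper14.AS.cm_flat_local_iff (Localization.AtPrime q)
    (Localization.AtPrime P)]
  exact ⟨fun h => h.1, fun h => ⟨h, hfield⟩⟩

section Core

open Groth.Agent.Lib.Helper11.GrCMGlob GrLC

variable {R : Type u} [CommRing R] [IsNoetherianRing R] (𝒜 : ℤ → AddSubgroup R) [GradedRing 𝒜]

/-- In a `ℤ`-graded Noetherian ring, `R_p` is Cohen–Macaulay as soon as `R_{p*}` is. -/
theorem isCM_atPrime_of_core (p : Ideal R) [hp : p.IsPrime]
    [hPp : (Ideal.homogeneousCore 𝒜 p).toIdeal.IsPrime]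
    [hCMP : LocCoh.IsCohenMacaulayLocalRing
      (Localization.AtPrime (Ideal.homogeneousCore 𝒜 p).toIdeal)] :
    LocCoh.IsCohenMacaulayLocalRing (Localization.AtPrime p) := by
  by_cases hph : p.IsHomogeneous 𝒜
  · exact cm_atPrime_of_eq _ p (Ideal.IsHomogeneous.toIdeal_homogeneousCore_eq_self hph) hCMP
  · set P := (Ideal.homogeneousCore 𝒜 p).toIdeal with hP
    obtain ⟨nP, hnP⟩ := ENat.ne_top_iff_exists.mp (Ideal.height_ne_top hPp.ne_top)
    have hht : p.height = ((nP + 1 : ℕ) : ℕ∞) := by
      have h1 := Groth.Agent.Lib.Helper11.GrHt.relHt_eq_relHt_core_add_one 𝒜 ⊥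
        (Ideal.IsHomogeneous.bot 𝒜) p hph bot_le
      rw [Groth.Agent.Lib.Helper11.GrLes.relHt_bot, Groth.Agent.Lib.Helper11.GrLes.relHt_bot] at h1
      rw [h1, ← hP, ← hnP]
      rfl
    have hb := Groth.Agent.Lib.Helper11.GrCore.bassNum_int 𝒜 𝒜 p hph
    refine isCM_of_bassNum p (nP + 1) hht ?_
    intro i hi
    rcases i with _ | j
    · exact hb.1
    · rw [hb.2 j]
      exact bassNum_eq_zero_of_isCM P nP hnP.symm j (by omega)

end Core

variable {A : Type u} [CommRing A] (𝓕 : IdealFiltration A)

theorem algebraMap_extRees (f : 𝓕.extRees) : algebraMap 𝓕.extRees A[T;T⁻¹] f = (f : A[T;T⁻¹]) := rfl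

theorem coeff_mul_T (z : A[T;T⁻¹]) (m n : ℤ) : (z * T m).coeff n = z.coeff (n - m) := by
  change (z * AddMonoidAlgebra.single m 1).coeff n = _
  rw [AddMonoidAlgebra.coeff_mul_single_apply, mul_one, sub_eq_add_neg]

theorem exists_mul_T_mem (z : A[T;T⁻¹]) : ∃ k : ℕ, z * T (-(k : ℤ)) ∈ 𝓕.extRees := by
  classical
  obtain ⟨k, hk⟩ : ∃ k : ℕ, ∀ n ∈ z.coeff.support, n ≤ (k : ℤ) := by
    obtain ⟨b, hb⟩ := z.coeff.support.bddAbove
    refine ⟨b.toNat, fun n hn => ?_⟩
    have := hb hn
    omega
  refine ⟨k, fun n => ?_⟩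
  rw [coeff_mul_T]
  by_cases hn : 0 < n
  · have : z.coeff (n - -(k : ℤ)) = 0 := by
      by_contra hne
      have := hk _ (Finsupp.mem_support_iff.mpr hne)
      omega
    rw [this]
    exact zero_mem _
  · have : n.toNat = 0 := by omega
    rw [this, 𝓕.zero_eq]
    trivial

instance isLocalization_away_u : IsLocalization.Away 𝓕.u A[T;T⁻¹] := by
  rw [IsLocalization.Away, isLocalization_iff]
  refine ⟨?_, ?_, ?_⟩
  · rintro ⟨_, n, rfl⟩
    rw [map_pow]
    exact (LaurentPolynomial.isUnit_T (-1)).pow n
  · intro z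
    obtain ⟨k, hk⟩ := exists_mul_T_mem 𝓕 z
    refine ⟨(⟨_, hk⟩, ⟨𝓕.u ^ k, k, rfl⟩), ?_⟩
    change z * ((𝓕.u ^ k : 𝓕.extRees) : A[T;T⁻¹]) = z * T (-(k : ℤ))
    congr 1
    change (T (-1) : A[T;T⁻¹]) ^ k = _
    rw [LaurentPolynomial.T_pow]
    congr 1
    ring
  · intro x y h
    exact ⟨1, by rw [Subtype.ext h]⟩


theorem coe_algebraMap (a : A) :
    ((algebraMap A 𝓕.extRees a : 𝓕.extRees) : A[T;T⁻¹]) = AddMonoidAlgebra.single 0 a := rfl

theorem coe_pow_u (k : ℕ) : ((𝓕.u ^ k : 𝓕.extRees) : A[T;T⁻¹]) = T (-(k : ℤ)) := by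
  change (T (-1) : A[T;T⁻¹]) ^ k = _
  rw [LaurentPolynomial.T_pow]
  congr 1
  ring

section HomPrime

variable (P : Ideal 𝓕.extRees) [hP : P.IsPrime] (hu : 𝓕.u ∉ P)

include hu in
theorem single_mem_iff (n : ℤ) (a : A) (ha : a ∈ 𝓕.F n.toNat) :
    (⟨AddMonoidAlgebra.single n a, single_mem 𝓕 ha⟩ : 𝓕.extRees) ∈ P ↔
      algebraMap A 𝓕.extRees a ∈ P := by
  have hpow : ∀ k : ℕ, 𝓕.u ^ k ∉ P := fun k hk => hu (hP.mem_of_pow_mem k hk)
  rcases le_or_gt 0 n with hn | hn
  · have key : 𝓕.u ^ n.toNat * (⟨AddMonoidAlgebra.single n a, single_mem 𝓕 ha⟩ : 𝓕.extRees) =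
        algebraMap A 𝓕.extRees a := by
      apply Subtype.ext
      change ((𝓕.u ^ n.toNat : 𝓕.extRees) : A[T;T⁻¹]) * AddMonoidAlgebra.single n a = _
      rw [coe_pow_u, coe_algebraMap]
      change AddMonoidAlgebra.single _ 1 * AddMonoidAlgebra.single n a = _
      rw [AddMonoidAlgebra.single_mul_single, one_mul]
      congr 1
      omega
    rw [← key]
    constructor
    · intro h
      exact P.mul_mem_left _ h
    · intro h
      exact (hP.mem_or_mem h).resolve_left (hpow _)
  · have key : (⟨AddMonoidAlgebra.single n a, single_mem 𝓕 ha⟩ : 𝓕.extRees) =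
        algebraMap A 𝓕.extRees a * 𝓕.u ^ (-n).toNat := by
      apply Subtype.ext
      change AddMonoidAlgebra.single n a =
        ((algebraMap A 𝓕.extRees a : 𝓕.extRees) : A[T;T⁻¹]) * ((𝓕.u ^ (-n).toNat : 𝓕.extRees) : A[T;T⁻¹])
      rw [coe_pow_u, coe_algebraMap]
      change _ = AddMonoidAlgebra.single 0 a * AddMonoidAlgebra.single _ 1
      rw [AddMonoidAlgebra.single_mul_single, mul_one]
      congr 1
      omega
    rw [key]
    constructor
    · intro h
      exact (hP.mem_or_mem h).resolve_right (hpow _)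
    · intro h
      exact P.mul_mem_right _ h

include hu in
theorem mem_iff_coeff (hPh : P.IsHomogeneous (erGr 𝓕)) (f : 𝓕.extRees) :
    f ∈ P ↔ ∀ n : ℤ, algebraMap A 𝓕.extRees ((f : A[T;T⁻¹]).coeff n) ∈ P := by
  classical
  constructor
  · intro hf n
    have h1 : (decompose (erGr 𝓕) f n : 𝓕.extRees) ∈ P := hPh n hf
    have h2 : (decompose (erGr 𝓕) f n : 𝓕.extRees) =
        ⟨AddMonoidAlgebra.single n ((f : A[T;T⁻¹]).coeff n), single_mem 𝓕 (coe_mem 𝓕 f n)⟩ := by
      apply Subtype.ext
      rw [coe_decompose]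
    rw [h2] at h1
    exact (single_mem_iff 𝓕 P hu n _ (coe_mem 𝓕 f n)).mp h1
  · intro h
    rw [← sum_erProj 𝓕 f]
    refine Ideal.sum_mem _ fun n _ => ?_
    exact (single_mem_iff 𝓕 P hu n _ (coe_mem 𝓕 f n)).mpr (h n)

end HomPrime


/-- the prime of the extended Rees algebra cut out coefficientwise by a prime of `A`. -/
noncomputable def primeOf (q : Ideal A) : Ideal 𝓕.extRees :=
  RingHom.ker ((AddMonoidAlgebra.mapRingHom ℤ (Ideal.Quotient.mk q)).comp
    (algebraMap 𝓕.extRees A[T;T⁻¹]))

theorem mem_primeOf {q : Ideal A} {f : 𝓕.extRees} :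
    f ∈ primeOf 𝓕 q ↔ ∀ n : ℤ, (f : A[T;T⁻¹]).coeff n ∈ q := by
  unfold primeOf
  rw [RingHom.mem_ker, RingHom.comp_apply]
  constructor
  · intro h n
    have := congrArg (fun g => AddMonoidAlgebra.coeff g n) h
    simp only [AddMonoidAlgebra.coeff_mapRingHom] at this
    exact Ideal.Quotient.eq_zero_iff_mem.mp this
  · intro h
    apply AddMonoidAlgebra.ext
    ext n
    rw [AddMonoidAlgebra.coeff_mapRingHom]
    exact Ideal.Quotient.eq_zero_iff_mem.mpr (h n)

instance primeOf_isPrime (q : Ideal A) [q.IsPrime] : (primeOf 𝓕 q).IsPrime :=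
  RingHom.ker_isPrime _

end Groth.Agent.Lib.Helper11.FiltRees
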