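import Mathlib
import Groth.Agent.Lib.Helper11.FiltReesE

/-!
# Cohen–Macaulayness of the extended Rees algebra off the positive part
-/

set_option autoImplicit false
set_option linter.unusedSectionVars false
set_option linter.unusedVariables false
set_option linter.style.haveILetI false
universe u

namespace Groth.Agent.Lib.Helper11.FiltRees

open LaurentPolynomial DirectSum FiltBl IsLocalRing

section Quot

/-- local version of: CM iff CM modulo a regular element. -/
theorem cm_atPrime_quot_iff {R : Type u} [CommRing R] [IsNoetherianRing R] (x : R)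
    (hreg : IsSMulRegular R x) (q : Ideal (R ⧸ Ideal.span {x})) [q.IsPrime]
    (Q : Ideal R) [Q.IsPrime] (hQ : Q = q.comap (Ideal.Quotient.mk (Ideal.span {x}))) :
    LocCoh.IsCohenMacaulayLocalRing (Localization.AtPrime Q) ↔
      LocCoh.IsCohenMacaulayLocalRing (Localization.AtPrime q) := by
  refine ⟨fun hCM => ?_, fun h => cm_atPrime_of_quot x hreg q Q hQ h⟩
  have hxQ : x ∈ Q := by
    rw [hQ, Ideal.mem_comap]
    have : Ideal.Quotient.mk (Ideal.span {x}) x = 0 :=
      Ideal.Quotient.eq_zero_iff_mem.mpr (Ideal.mem_span_singleton_self x)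
    rw [this]
    exact Ideal.zero_mem _
  have hxm : algebraMap R (Localization.AtPrime Q) x ∈ maximalIdeal (Localization.AtPrime Q) :=
    (IsLocalization.AtPrime.to_map_mem_maximal_iff (Localization.AtPrime Q) Q x).mpr hxQ
  have hreg' : IsSMulRegular (Localization.AtPrime Q) (algebraMap R (Localization.AtPrime Q) x) := by
    have h1 : RingTheory.Sequence.IsWeaklyRegular R [x] := by
      rw [RingTheory.Sequence.isWeaklyRegular_cons_iff]
      exact ⟨hreg, RingTheory.Sequence.IsWeaklyRegular.nil _ _⟩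
    have h2 := RingTheory.Sequence.IsWeaklyRegular.of_isLocalization (Localization.AtPrime Q)
      Q.primeCompl h1
    rw [List.map_cons, RingTheory.Sequence.isWeaklyRegular_cons_iff] at h2
    exact h2.1
  have h3 := Groth.Agent.Lib.Helper8.CMQ.cm_local_quot (T := Localization.AtPrime Q) _ hxm hreg'
  have hmap : (Ideal.span {x}).map (algebraMap R (Localization.AtPrime Q))
      = Ideal.span {algebraMap R (Localization.AtPrime Q) x} := by
    rw [Ideal.map_span, Set.image_singleton]
  have e := Groth.Agent.Lib.Helper8.CMQ.locQuotEquiv (Ideal.span {x}) q Q hQ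
  rw [hmap] at e
  exact Groth.Agent.Lib.Helper18.FibQuot.isCohenMacaulayLocalRing_of_ringEquiv
    (R := Localization.AtPrime Q ⧸ Ideal.span {algebraMap R (Localization.AtPrime Q) x})
    (S := Localization.AtPrime q) (h := h3) e.symm

/-- the same for an arbitrary presentation `G = R / x R`. -/
theorem cm_atPrime_iff_of_surjective {R G : Type u} [CommRing R] [CommRing G] [IsNoetherianRing R]
    (φ : R →+* G) (hφ : Function.Surjective φ) (x : R) (hreg : IsSMulRegular R x)
    (hker : RingHom.ker φ = Ideal.span {x}) (p : Ideal G) [p.IsPrime] (P : Ideal R) [P.IsPrime]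
    (hP : P = p.comap φ) :
    LocCoh.IsCohenMacaulayLocalRing (Localization.AtPrime P) ↔
      LocCoh.IsCohenMacaulayLocalRing (Localization.AtPrime p) := by
  let e : (R ⧸ Ideal.span {x}) ≃+* G :=
    (Ideal.quotEquivOfEq hker.symm).trans (RingHom.quotientKerEquivOfSurjective hφ)
  have he : ∀ r : R, e (Ideal.Quotient.mk _ r) = φ r := fun r => rfl
  set p' : Ideal (R ⧸ Ideal.span {x}) := p.comap (e : (R ⧸ Ideal.span {x}) →+* G) with hp'
  haveI : p'.IsPrime := Ideal.comap_isPrime _ _
  have hP' : P = p'.comap (Ideal.Quotient.mk (Ideal.span {x})) := by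
    rw [hP, hp', Ideal.comap_comap]
    congr 1
  rw [cm_atPrime_quot_iff x hreg p' P hP']
  constructor
  · exact cm_atPrime_of_ringEquiv e p p' rfl
  · intro h
    refine cm_atPrime_of_ringEquiv e.symm p' p ?_ h
    ext g
    rw [hp', Ideal.mem_comap, Ideal.mem_comap]
    change g ∈ p ↔ e (e.symm g) ∈ p
    rw [e.apply_symm_apply]

end Quot

variable {A : Type u} [CommRing A] (𝓕 : IdealFiltration A)

theorem primeOf_isHomogeneous (q : Ideal A) : (primeOf 𝓕 q).IsHomogeneous (erGr 𝓕) := by
  classical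
  intro n f hf
  rw [mem_primeOf] at hf ⊢
  intro m
  rw [coe_decompose, AddMonoidAlgebra.coeff_single, Finsupp.single_apply]
  split_ifs with h
  · exact hf n
  · exact zero_mem _

theorem u_notMem_primeOf (q : Ideal A) (hq : q ≠ ⊤) : 𝓕.u ∉ primeOf 𝓕 q := by
  intro h
  rw [mem_primeOf] at h
  have := h (-1)
  rw [coe_u, LaurentPolynomial.T_apply, if_pos rfl] at this
  exact hq ((Ideal.eq_top_iff_one _).mpr this)

theorem comap_primeOf (q : Ideal A) : (primeOf 𝓕 q).comap (algebraMap A 𝓕.extRees) = q := by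
  classical
  ext a
  rw [Ideal.mem_comap, mem_primeOf]
  constructor
  · intro h
    have := h 0
    rw [coe_algebraMap, AddMonoidAlgebra.coeff_single, Finsupp.single_apply, if_pos rfl] at this
    exact this
  · intro h n
    rw [coe_algebraMap, AddMonoidAlgebra.coeff_single, Finsupp.single_apply]
    split_ifs
    · exact h
    · exact zero_mem _

section HomPrime

variable (P : Ideal 𝓕.extRees) [hP : P.IsPrime] (hu : 𝓕.u ∉ P)

theorem pow_u_mul_erProj (n : ℤ) (hn : 0 ≤ n) (f : 𝓕.extRees) :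
    𝓕.u ^ n.toNat * erProj 𝓕 n f = algebraMap A 𝓕.extRees ((f : A[T;T⁻¹]).coeff n) := by
  apply Subtype.ext
  change ((𝓕.u ^ n.toNat : 𝓕.extRees) : A[T;T⁻¹]) *
    AddMonoidAlgebra.single n ((f : A[T;T⁻¹]).coeff n) = _
  rw [coe_pow_u, coe_algebraMap]
  change AddMonoidAlgebra.single _ 1 * AddMonoidAlgebra.single n _ = _
  rw [AddMonoidAlgebra.single_mul_single, one_mul]
  congr 1
  omega

theorem erProj_eq_mul_pow_u (n : ℤ) (hn : n < 0) (f : 𝓕.extRees) :
    erProj 𝓕 n f = algebraMap A 𝓕.extRees ((f : A[T;T⁻¹]).coeff n) * 𝓕.u ^ (-n).toNat := by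
  apply Subtype.ext
  change AddMonoidAlgebra.single n ((f : A[T;T⁻¹]).coeff n) =
    ((algebraMap A 𝓕.extRees _ : 𝓕.extRees) : A[T;T⁻¹]) *
      ((𝓕.u ^ (-n).toNat : 𝓕.extRees) : A[T;T⁻¹])
  rw [coe_pow_u, coe_algebraMap]
  change _ = AddMonoidAlgebra.single 0 _ * AddMonoidAlgebra.single _ 1
  rw [AddMonoidAlgebra.single_mul_single, mul_one]
  congr 1
  omega

include hu in
theorem map_le_map_of_homogeneous (hPh : P.IsHomogeneous (erGr 𝓕)) :
    P.map (algebraMap 𝓕.extRees (Localization.AtPrime P)) ≤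
      (P.comap (algebraMap A 𝓕.extRees)).map (algebraMap A (Localization.AtPrime P)) := by
  classical
  rw [Ideal.map_le_iff_le_comap]
  intro f hf
  rw [Ideal.mem_comap, ← sum_erProj 𝓕 f, map_sum]
  refine Ideal.sum_mem _ fun n _ => ?_
  have ha : algebraMap A 𝓕.extRees ((f : A[T;T⁻¹]).coeff n) ∈ P :=
    (mem_iff_coeff 𝓕 P hu hPh f).mp hf n
  have ha' : algebraMap A (Localization.AtPrime P) ((f : A[T;T⁻¹]).coeff n) ∈
      (P.comap (algebraMap A 𝓕.extRees)).map (algebraMap A (Localization.AtPrime P)) :=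
    Ideal.mem_map_of_mem _ ha
  have hpow : ∀ k : ℕ, 𝓕.u ^ k ∈ P.primeCompl := fun k hk => hu (hP.mem_of_pow_mem k hk)
  rcases le_or_gt 0 n with hn | hn
  · have key := pow_u_mul_erProj 𝓕 n hn f
    have hunit : IsUnit (algebraMap 𝓕.extRees (Localization.AtPrime P) (𝓕.u ^ n.toNat)) :=
      IsLocalization.map_units (Localization.AtPrime P) ⟨_, hpow _⟩
    have h2 : algebraMap 𝓕.extRees (Localization.AtPrime P) (𝓕.u ^ n.toNat) *
        algebraMap 𝓕.extRees (Localization.AtPrime P) (erProj 𝓕 n f) =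
        algebraMap A (Localization.AtPrime P) ((f : A[T;T⁻¹]).coeff n) := by
      rw [← map_mul, key, ← IsScalarTower.algebraMap_apply]
    rw [← Ideal.unit_mul_mem_iff_mem _ hunit, h2]
    exact ha'
  · rw [erProj_eq_mul_pow_u 𝓕 n hn f, map_mul, ← IsScalarTower.algebraMap_apply]
    exact Ideal.mul_mem_right _ _ ha'

include hu in
theorem cm_iff_of_homogeneous [IsNoetherianRing A] [IsNoetherianRing 𝓕.extRees]
    (hPh : P.IsHomogeneous (erGr 𝓕)) (q : Ideal A) [q.IsPrime]
    (hq : q = P.comap (algebraMap A 𝓕.extRees)) :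
    LocCoh.IsCohenMacaulayLocalRing (Localization.AtPrime P) ↔
      LocCoh.IsCohenMacaulayLocalRing (Localization.AtPrime q) := by
  refine cm_atPrime_iff_of_flat P q hq
    (flat_atPrime_of_away (B := A[T;T⁻¹]) 𝓕.u P hu) ?_
  rw [hq]
  exact map_le_map_of_homogeneous 𝓕 P hu hPh

end HomPrime

end Groth.Agent.Lib.Helper11.FiltRees
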