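import Mathlib
import Groth.Agent.Lib.Helper11.FiltReesF

/-!
# Cohen–Macaulayness of the extended Rees algebra off the positive part: main theorem
-/

set_option autoImplicit false
set_option linter.unusedSectionVars false
set_option linter.unusedVariables false
set_option linter.style.haveILetI false
universe u

namespace Groth.Agent.Lib.Helper11.FiltRees

open LaurentPolynomial DirectSum FiltBl IsLocalRing

variable {A : Type u} [CommRing A] [IsNoetherianRing A] (𝓕 : IdealFiltration A)

theorem cm_off_iff (hfg : Algebra.FiniteType A 𝓕.rees)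
    (G : Type u) [CommRing G] (φ : 𝓕.extRees →+* G) (hφ : Function.Surjective φ)
    (hker : RingHom.ker φ = Ideal.span {𝓕.u}) (Rp : Ideal 𝓕.extRees)
    (hRp : Rp = Ideal.span {x : 𝓕.extRees | ∃ n : ℕ, 0 < n ∧ ∃ a ∈ 𝓕.F n,
      (x : LaurentPolynomial A) = LaurentPolynomial.C a * LaurentPolynomial.T (n : ℤ)}) :
    (∀ (P : Ideal 𝓕.extRees) [P.IsPrime], ¬ Rp ≤ P →
        LocCoh.IsCohenMacaulayLocalRing (Localization.AtPrime P)) ↔
      ((∀ (p : Ideal G) [p.IsPrime], ¬ Ideal.map φ Rp ≤ p →
          LocCoh.IsCohenMacaulayLocalRing (Localization.AtPrime p)) ∧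
        (∀ (q : Ideal A) [q.IsPrime], ¬ 𝓕.F 1 ≤ q →
            LocCoh.IsCohenMacaulayLocalRing (Localization.AtPrime q))) := by
  classical
  haveI : IsNoetherianRing 𝓕.extRees := isNoetherianRing_extRees 𝓕 hfg
  constructor
  · intro h
    refine ⟨fun p hp hnp => ?_, fun q hq hnq => ?_⟩
    · haveI : (p.comap φ).IsPrime := Ideal.comap_isPrime _ _
      have hn : ¬ Rp ≤ p.comap φ := by
        intro hle
        exact hnp ((Ideal.map_mono hle).trans Ideal.map_comap_le)
      exact (cm_atPrime_iff_of_surjective φ hφ 𝓕.u (u_isSMulRegular 𝓕) hker p (p.comap φ) rfl).mp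
        (h _ hn)
    · have hn : ¬ Rp ≤ primeOf 𝓕 q := by
        intro hle
        apply hnq
        intro a ha
        have hmem : (AddMonoidAlgebra.single (1 : ℤ) a : A[T;T⁻¹]) ∈ 𝓕.extRees :=
          single_mem 𝓕 (by simpa using ha)
        have hx : (⟨_, hmem⟩ : 𝓕.extRees) ∈ Rp := by
          rw [hRp]
          refine Ideal.subset_span ⟨1, one_pos, a, ha, ?_⟩
          change AddMonoidAlgebra.single (1 : ℤ) a = _
          rw [LaurentPolynomial.single_eq_C_mul_T]
          rfl
        have := (mem_primeOf 𝓕).mp (hle hx) 1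
        change (AddMonoidAlgebra.single (1 : ℤ) a : A[T;T⁻¹]).coeff 1 ∈ q at this
        rwa [AddMonoidAlgebra.coeff_single, Finsupp.single_apply, if_pos rfl] at this
      exact (cm_iff_of_homogeneous 𝓕 (primeOf 𝓕 q) (u_notMem_primeOf 𝓕 q hq.ne_top)
        (primeOf_isHomogeneous 𝓕 q) q (comap_primeOf 𝓕 q).symm).mp (h _ hn)
  · rintro ⟨hG, hA⟩ P hP hnP
    by_cases hu : 𝓕.u ∈ P
    · have hkerP : RingHom.ker φ ≤ P := by
        rw [hker, Ideal.span_le, Set.singleton_subset_iff]
        exact hu
      haveI : (P.map φ).IsPrime := Ideal.map_isPrime_of_surjective hφ hkerP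
      have hcomap : (P.map φ).comap φ = P := by
        rw [Ideal.comap_map_of_surjective φ hφ, ← RingHom.ker_eq_comap_bot, sup_eq_left]
        exact hkerP
      have hn : ¬ Ideal.map φ Rp ≤ P.map φ := by
        intro hle
        apply hnP
        calc Rp ≤ (Rp.map φ).comap φ := Ideal.le_comap_map
          _ ≤ (P.map φ).comap φ := Ideal.comap_mono hle
          _ = P := hcomap
      exact (cm_atPrime_iff_of_surjective φ hφ 𝓕.u (u_isSMulRegular 𝓕) hker (P.map φ) P
        hcomap.symm).mpr (hG _ hn)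
    · haveI hPp : (Ideal.homogeneousCore (erGr 𝓕) P).toIdeal.IsPrime :=
        Ideal.IsPrime.homogeneousCore hP
      set Ps := (Ideal.homogeneousCore (erGr 𝓕) P).toIdeal with hPs
      have hle : Ps ≤ P := Ideal.toIdeal_homogeneousCore_le (erGr 𝓕) P
      have hus : 𝓕.u ∉ Ps := fun h => hu (hle h)
      have hPsh : Ps.IsHomogeneous (erGr 𝓕) := (Ideal.homogeneousCore (erGr 𝓕) P).isHomogeneous
      set q : Ideal A := Ps.comap (algebraMap A 𝓕.extRees) with hq
      haveI : q.IsPrime := Ideal.comap_isPrime _ _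
      have hnq : ¬ 𝓕.F 1 ≤ q := by
        intro hF
        apply hnP
        rw [hRp, Ideal.span_le]
        rintro x ⟨n, hn, a, ha, hx⟩
        apply hle
        rw [mem_iff_coeff 𝓕 Ps hus hPsh]
        intro m
        rw [hx, ← LaurentPolynomial.single_eq_C_mul_T, AddMonoidAlgebra.coeff_single,
          Finsupp.single_apply]
        split_ifs
        · exact hF (𝓕.antitone hn ha)
        · rw [map_zero]
          exact zero_mem _
      haveI : LocCoh.IsCohenMacaulayLocalRing (Localization.AtPrime Ps) :=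
        (cm_iff_of_homogeneous 𝓕 Ps hus hPsh q rfl).mpr (hA q hnq)
      exact isCM_atPrime_of_core (erGr 𝓕) P

end Groth.Agent.Lib.Helper11.FiltRees
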