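import Mathlib
import Groth.Agent.Lib.Helper11.FiltReesG
import Groth.Agent.Lib.Helper18.SerreNormal
import Groth.Agent.Lib.Helper18.FibBridge

/-!
# Depth and height of localizations of the extended Rees algebra; Serre's condition `(S_2)`
-/

set_option autoImplicit false
set_option linter.unusedSectionVars false
set_option linter.unusedVariables false
set_option linter.style.haveILetI false
universe u

namespace Groth.Agent.Lib.Helper11.FiltRees

open LaurentPolynomial DirectSum FiltBl IsLocalRing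

section Arith

theorem sk_iff (k : ℕ) (h d : ℕ∞) :
    min (k : WithBot ℕ∞) (h : WithBot ℕ∞) ≤ (d : WithBot ℕ∞) ↔ min (k : ℕ∞) h ≤ d := by
  have : (k : WithBot ℕ∞) = ((k : ℕ∞) : WithBot ℕ∞) := rfl
  rw [this, ← WithBot.coe_min, WithBot.coe_le_coe]

theorem ar1 (h d : ℕ∞) (H : min (2 : ℕ∞) (h + 1) ≤ d + 1) : min (1 : ℕ∞) h ≤ d := by
  rcases eq_or_ne h 0 with rfl | hne
  · simp
  · have h1 : (1 : ℕ∞) ≤ h := Order.one_le_iff_pos.mpr (pos_iff_ne_zero.mpr hne)
    have h2 : (2 : ℕ∞) ≤ h + 1 := by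
      calc (2 : ℕ∞) = 1 + 1 := by norm_num
        _ ≤ h + 1 := by gcongr
    rw [min_eq_left h2] at H
    have h3 : (1 : ℕ∞) + 1 ≤ d + 1 := by
      calc (1 : ℕ∞) + 1 = 2 := by norm_num
        _ ≤ d + 1 := H
    have := (ENat.add_le_add_iff_right ENat.one_ne_top).mp h3
    exact (min_le_left _ _).trans this

theorem ar2 (k : ℕ) (h d : ℕ∞) (H : min (k : ℕ∞) h ≤ d) :
    min ((k + 1 : ℕ) : ℕ∞) (h + 1) ≤ d + 1 := by
  have : min ((k + 1 : ℕ) : ℕ∞) (h + 1) = min (k : ℕ∞) h + 1 := by
    push_cast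
    rw [min_add_add_right]
  rw [this]
  gcongr

theorem ar3 (k : ℕ) (h d : ℕ∞) (H : min (k : ℕ∞) h ≤ d) : min (k : ℕ∞) (h + 1) ≤ d + 1 := by
  calc min (k : ℕ∞) (h + 1) ≤ min ((k : ℕ∞) + 1) (h + 1) := min_le_min (le_self_add) le_rfl
    _ = min (k : ℕ∞) h + 1 := by rw [min_add_add_right]
    _ ≤ d + 1 := by gcongr

end Arith

section Core

open Groth.Agent.Lib.Helper11.GrCMGlob GrLC

variable {R : Type u} [CommRing R] [IsNoetherianRing R]

theorem le_depth_iff_bassNum (p : Ideal R) [hp : p.IsPrime] (n : ℕ) :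
    (n : ℕ∞) ≤ LocCoh.depth (Localization.AtPrime p) (Localization.AtPrime p) ↔
      ∀ i, i < n → GrLC.bassNum p R i = 0 := by
  haveI : IsNoetherianRing (Localization.AtPrime p) :=
    IsLocalization.isNoetherianRing p.primeCompl _ inferInstance
  change (n : ℕ∞) ≤ LocCoh.idealDepth (IsLocalRing.maximalIdeal (Localization.AtPrime p))
      (Localization.AtPrime p) ↔ _
  rw [Groth.Agent.Lib.Helper16.Depth.le_idealDepth_iff_ext']
  constructor
  · intro h i hi
    rw [Groth.Agent.Lib.Helper11.GrGor.bassNum_self_eq]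
    unfold GrLC.bassNumLocal
    rw [Module.length_eq_zero_iff]
    exact h i hi
  · intro h i hi
    have h2 := h i hi
    rw [Groth.Agent.Lib.Helper11.GrGor.bassNum_self_eq] at h2
    unfold GrLC.bassNumLocal at h2
    rw [Module.length_eq_zero_iff] at h2
    exact h2

variable (𝒜 : ℤ → AddSubgroup R) [GradedRing 𝒜]

theorem depth_eq_core_add_one (p : Ideal R) [hp : p.IsPrime] (hph : ¬ p.IsHomogeneous 𝒜)
    [hPp : (Ideal.homogeneousCore 𝒜 p).toIdeal.IsPrime] :
    LocCoh.depth (Localization.AtPrime p) (Localization.AtPrime p) =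
      LocCoh.depth (Localization.AtPrime (Ideal.homogeneousCore 𝒜 p).toIdeal)
        (Localization.AtPrime (Ideal.homogeneousCore 𝒜 p).toIdeal) + 1 := by
  have hb := Groth.Agent.Lib.Helper11.GrCore.bassNum_int 𝒜 𝒜 p hph
  apply le_antisymm
  · rw [← ENat.forall_natCast_le_iff_le]
    intro n hn
    rcases n with _ | m
    · simp
    · rw [le_depth_iff_bassNum] at hn
      have : (m : ℕ∞) ≤ LocCoh.depth (Localization.AtPrime (Ideal.homogeneousCore 𝒜 p).toIdeal)
          (Localization.AtPrime (Ideal.homogeneousCore 𝒜 p).toIdeal) := by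
        rw [le_depth_iff_bassNum]
        intro j hj
        rw [← hb.2 j]
        exact hn (j + 1) (by omega)
      push_cast
      gcongr
  · rw [← ENat.forall_natCast_le_iff_le]
    intro n hn
    rcases n with _ | m
    · simp
    · have hm : (m : ℕ∞) ≤ LocCoh.depth (Localization.AtPrime (Ideal.homogeneousCore 𝒜 p).toIdeal)
          (Localization.AtPrime (Ideal.homogeneousCore 𝒜 p).toIdeal) := by
        push_cast at hn
        exact (ENat.add_le_add_iff_right ENat.one_ne_top).mp hn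
      rw [le_depth_iff_bassNum] at hm ⊢
      intro i hi
      rcases i with _ | j
      · exact hb.1
      · rw [hb.2 j]
        exact hm j (by omega)

theorem height_eq_core_add_one (p : Ideal R) [hp : p.IsPrime] (hph : ¬ p.IsHomogeneous 𝒜) :
    p.height = (Ideal.homogeneousCore 𝒜 p).toIdeal.height + 1 := by
  have h1 := Groth.Agent.Lib.Helper11.GrHt.relHt_eq_relHt_core_add_one 𝒜 ⊥
    (Ideal.IsHomogeneous.bot 𝒜) p hph bot_le
  rw [Groth.Agent.Lib.Helper11.GrLes.relHt_bot, Groth.Agent.Lib.Helper11.GrLes.relHt_bot] at h1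
  exact h1

end Core

end Groth.Agent.Lib.Helper11.FiltRees
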