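import Mathlib
import Groth.Agent.Lib.Helper11.FiltReesH

/-!
# Serre's condition `(S_2)` for the extended Rees algebra
-/

set_option autoImplicit false
set_option linter.unusedSectionVars false
set_option linter.unusedVariables false
set_option linter.style.haveILetI false
universe u

namespace Groth.Agent.Lib.Helper11.FiltRees

open LaurentPolynomial DirectSum FiltBl IsLocalRing Pointwise

theorem dim_depth_atPrime_of_flat {A R' : Type u} [CommRing A] [CommRing R']
    [IsNoetherianRing A] [IsNoetherianRing R'] [Algebra A R']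
    (P : Ideal R') [P.IsPrime] (q : Ideal A) [q.IsPrime]
    (hq : q = P.comap (algebraMap A R'))
    (hflat : Module.Flat A (Localization.AtPrime P))
    (hgen : P.map (algebraMap R' (Localization.AtPrime P)) ≤
      q.map (algebraMap A (Localization.AtPrime P))) :
    P.height = q.height ∧
      LocCoh.depth (Localization.AtPrime P) (Localization.AtPrime P) =
        LocCoh.depth (Localization.AtPrime q) (Localization.AtPrime q) := by
  haveI : IsNoetherianRing (Localization.AtPrime P) :=
    IsLocalization.isNoetherianRing P.primeCompl _ inferInstance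
  haveI : IsNoetherianRing (Localization.AtPrime q) :=
    IsLocalization.isNoetherianRing q.primeCompl _ inferInstance
  letI algAq : Algebra (Localization.AtPrime q) (Localization.AtPrime P) :=
    (Localization.localRingHom q P (algebraMap A R') hq).toAlgebra
  haveI hloc : IsLocalHom (algebraMap (Localization.AtPrime q) (Localization.AtPrime P)) :=
    Localization.isLocalHom_localRingHom q P (algebraMap A R') hq
  haveI tower : IsScalarTower A (Localization.AtPrime q) (Localization.AtPrime P) := by
    refine IsScalarTower.of_algebraMap_eq fun a => ?_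
    change _ = Localization.localRingHom q P (algebraMap A R') hq (algebraMap A _ a)
    rw [Localization.localRingHom_to_map, ← IsScalarTower.algebraMap_apply]
  haveI : Module.Flat (Localization.AtPrime q) (Localization.AtPrime P) :=
    (Module.flat_iff_of_isLocalization (Localization.AtPrime q) q.primeCompl
      (Localization.AtPrime P)).mpr hflat
  have heq : (maximalIdeal (Localization.AtPrime q)).map
      (algebraMap (Localization.AtPrime q) (Localization.AtPrime P)) =
      maximalIdeal (Localization.AtPrime P) := by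
    apply le_antisymm
    · exact ((IsLocalRing.local_hom_TFAE (algebraMap (Localization.AtPrime q)
        (Localization.AtPrime P))).out 0 2).mp hloc
    · rw [← Localization.AtPrime.map_eq_maximalIdeal, ← Localization.AtPrime.map_eq_maximalIdeal,
        Ideal.map_map, ← IsScalarTower.algebraMap_eq]
      exact hgen
  have hmax : ((maximalIdeal (Localization.AtPrime q)).map
      (algebraMap (Localization.AtPrime q) (Localization.AtPrime P))).IsMaximal := by
    rw [heq]
    infer_instance
  have hfield : IsField (Localization.AtPrime P ⧸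
      (maximalIdeal (Localization.AtPrime q)).map
        (algebraMap (Localization.AtPrime q) (Localization.AtPrime P))) :=
    (Ideal.Quotient.maximal_ideal_iff_isField_quotient _).mp hmax
  haveI hlq : IsLocalRing (Localization.AtPrime P ⧸
      (maximalIdeal (Localization.AtPrime q)).map
        (algebraMap (Localization.AtPrime q) (Localization.AtPrime P))) :=
    (Groth.Agent.Lib.Helper14.AS.cm_of_isField _ hfield).toIsLocalRing
  have hd0 : ringKrullDim (Localization.AtPrime P ⧸
      (maximalIdeal (Localization.AtPrime q)).map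
        (algebraMap (Localization.AtPrime q) (Localization.AtPrime P))) = 0 :=
    ringKrullDim_eq_zero_of_isField hfield
  have hdim := Groth.Agent.Lib.Helper18.FlatLocal.ringKrullDim_eq_add_fibre_of_flat
    (Localization.AtPrime q) (Localization.AtPrime P)
  have hdepth := Groth.Agent.Lib.Helper18.FlatLocal.depth_eq_add_fibre_of_flat
    (Localization.AtPrime q) (Localization.AtPrime P)
  rw [hd0, add_zero, IsLocalization.AtPrime.ringKrullDim_eq_height P (Localization.AtPrime P),
    IsLocalization.AtPrime.ringKrullDim_eq_height q (Localization.AtPrime q)] at hdim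
  rw [Groth.Agent.Lib.Helper18.FibBridge.depth_eq_zero_of_ringKrullDim_eq_zero _ hd0,
    add_zero] at hdepth
  exact ⟨by exact_mod_cast hdim, hdepth⟩

theorem depth_dim_local_quot {T : Type u} [CommRing T] [IsNoetherianRing T] [IsLocalRing T] (x : T)
    (hx : x ∈ maximalIdeal T) (hreg : IsSMulRegular T x) [IsLocalRing (T ⧸ Ideal.span {x})] :
    LocCoh.depth (T ⧸ Ideal.span {x}) (T ⧸ Ideal.span {x}) + 1 = LocCoh.depth T T ∧
      ringKrullDim (T ⧸ Ideal.span {x}) + 1 = ringKrullDim T := by
  refine ⟨?_, ringKrullDim_quotient_span_singleton_succ_eq_ringKrullDim hreg hx⟩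
  have hspan : Ideal.span {x} = x • (⊤ : Ideal T) := by
    simp [← Submodule.ideal_span_singleton_smul]
  let e : QuotSMulTop x T ≃ₗ[T] T ⧸ Ideal.span {x} :=
    Submodule.quotEquivOfEq _ _ hspan.symm
  haveI hloc : IsLocalHom (algebraMap T (T ⧸ Ideal.span {x})) :=
    IsLocalHom.of_surjective _ Ideal.Quotient.mk_surjective
  rw [← Groth.Agent.Lib.Helper18.CM.depth_quotSMulTop T hx hreg,
    Groth.Agent.Lib.Helper18.CM.depth_congr e,
    Groth.Agent.Lib.Helper18.CM.depth_eq_of_finite (A := T) (B := T ⧸ Ideal.span {x})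
      (T ⧸ Ideal.span {x})]

theorem depth_height_atPrime_quot {R : Type u} [CommRing R] [IsNoetherianRing R] (x : R)
    (hreg : IsSMulRegular R x) (q : Ideal (R ⧸ Ideal.span {x})) [q.IsPrime]
    (Q : Ideal R) [Q.IsPrime] (hQ : Q = q.comap (Ideal.Quotient.mk (Ideal.span {x}))) :
    LocCoh.depth (Localization.AtPrime q) (Localization.AtPrime q) + 1 =
        LocCoh.depth (Localization.AtPrime Q) (Localization.AtPrime Q) ∧
      q.height + 1 = Q.height := by
  haveI : IsNoetherianRing (Localization.AtPrime Q) :=
    IsLocalization.isNoetherianRing Q.primeCompl _ inferInstance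
  haveI : IsNoetherianRing (Localization.AtPrime q) :=
    IsLocalization.isNoetherianRing q.primeCompl _ inferInstance
  have hxQ : x ∈ Q := by
    rw [hQ, Ideal.mem_comap]
    have : Ideal.Quotient.mk (Ideal.span {x}) x = 0 :=
      Ideal.Quotient.eq_zero_iff_mem.mpr (Ideal.mem_span_singleton_self x)
    rw [this]
    exact Ideal.zero_mem _
  have hxm : algebraMap R (Localization.AtPrime Q) x ∈ maximalIdeal (Localization.AtPrime Q) :=
    (IsLocalization.AtPrime.to_map_mem_maximal_iff (Localization.AtPrime Q) Q x).mpr hxQ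
  have hreg' : IsSMulRegular (Localization.AtPrime Q) (algebraMap R (Localization.AtPrime Q) x) := by
    have h1 : RingTheory.Sequence.IsWeaklyRegular R [x] := by
      rw [RingTheory.Sequence.isWeaklyRegular_cons_iff]
      exact ⟨hreg, RingTheory.Sequence.IsWeaklyRegular.nil _ _⟩
    have h2 := RingTheory.Sequence.IsWeaklyRegular.of_isLocalization (Localization.AtPrime Q)
      Q.primeCompl h1
    rw [List.map_cons, RingTheory.Sequence.isWeaklyRegular_cons_iff] at h2
    exact h2.1
  have hmap : (Ideal.span {x}).map (algebraMap R (Localization.AtPrime Q))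
      = Ideal.span {algebraMap R (Localization.AtPrime Q) x} := by
    rw [Ideal.map_span, Set.image_singleton]
  have e := Groth.Agent.Lib.Helper8.CMQ.locQuotEquiv (Ideal.span {x}) q Q hQ
  rw [hmap] at e
  haveI : IsLocalRing (Localization.AtPrime Q ⧸
      Ideal.span {algebraMap R (Localization.AtPrime Q) x}) := e.isLocalRing
  haveI : IsNoetherianRing (Localization.AtPrime Q ⧸
      Ideal.span {algebraMap R (Localization.AtPrime Q) x}) := inferInstance
  obtain ⟨h1, h2⟩ := depth_dim_local_quot (T := Localization.AtPrime Q) _ hxm hreg'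
  rw [← Groth.Agent.Lib.Helper18.Serre.depth_self_eq_of_ringEquiv e] at h1
  rw [← ringKrullDim_eq_of_ringEquiv e,
    IsLocalization.AtPrime.ringKrullDim_eq_height q (Localization.AtPrime q),
    IsLocalization.AtPrime.ringKrullDim_eq_height Q (Localization.AtPrime Q)] at h2
  exact ⟨h1, by exact_mod_cast h2⟩

variable {A : Type u} [CommRing A] [IsNoetherianRing A] (𝓕 : IdealFiltration A)

theorem dim_depth_of_homogeneous [IsNoetherianRing 𝓕.extRees]
    (P : Ideal 𝓕.extRees) [hP : P.IsPrime] (hu : 𝓕.u ∉ P)
    (hPh : P.IsHomogeneous (erGr 𝓕)) (q : Ideal A) [q.IsPrime]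
    (hq : q = P.comap (algebraMap A 𝓕.extRees)) :
    P.height = q.height ∧
      LocCoh.depth (Localization.AtPrime P) (Localization.AtPrime P) =
        LocCoh.depth (Localization.AtPrime q) (Localization.AtPrime q) := by
  refine dim_depth_atPrime_of_flat P q hq
    (flat_atPrime_of_away (B := A[T;T⁻¹]) 𝓕.u P hu) ?_
  rw [hq]
  exact map_le_map_of_homogeneous 𝓕 P hu hPh

theorem s2_iff (hfg : Algebra.FiniteType A 𝓕.rees) :
    LocCoh.HasSk 2 𝓕.extRees 𝓕.extRees ↔ (LocCoh.HasSk 1 𝓕.Gr 𝓕.Gr ∧ LocCoh.HasSk 2 A A) := by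
  classical
  haveI : IsNoetherianRing 𝓕.extRees := isNoetherianRing_extRees 𝓕 hfg
  haveI : IsNoetherianRing 𝓕.Gr := inferInstanceAs (IsNoetherianRing (𝓕.extRees ⧸ Ideal.span {𝓕.u}))
  rw [Groth.Agent.Lib.Helper18.Serre.hasSk_self_iff, Groth.Agent.Lib.Helper18.Serre.hasSk_self_iff,
    Groth.Agent.Lib.Helper18.Serre.hasSk_self_iff]
  simp only [sk_iff]
  constructor
  · intro h
    refine ⟨fun p hp => ?_, fun q hq => ?_⟩
    · haveI : (p.comap (Ideal.Quotient.mk (Ideal.span {𝓕.u}))).IsPrime := Ideal.comap_isPrime _ _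
      obtain ⟨h1, h2⟩ := depth_height_atPrime_quot 𝓕.u (u_isSMulRegular 𝓕) p
        (p.comap (Ideal.Quotient.mk (Ideal.span {𝓕.u}))) rfl
      have := h (p.comap (Ideal.Quotient.mk (Ideal.span {𝓕.u})))
      rw [← h1, ← h2] at this
      exact ar1 _ _ this
    · obtain ⟨h1, h2⟩ := dim_depth_of_homogeneous 𝓕 (primeOf 𝓕 q)
        (u_notMem_primeOf 𝓕 q hq.ne_top) (primeOf_isHomogeneous 𝓕 q) q (comap_primeOf 𝓕 q).symm
      have := h (primeOf 𝓕 q)
      rwa [h1, h2] at this
  · rintro ⟨hG, hA⟩ P hP
    by_cases hu : 𝓕.u ∈ P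
    · have hkerP : Ideal.span {𝓕.u} ≤ P := by
        rw [Ideal.span_le, Set.singleton_subset_iff]
        exact hu
      haveI : (P.map (Ideal.Quotient.mk (Ideal.span {𝓕.u}))).IsPrime :=
        Ideal.map_isPrime_of_surjective Ideal.Quotient.mk_surjective (by rwa [Ideal.mk_ker])
      have hcomap : (P.map (Ideal.Quotient.mk (Ideal.span {𝓕.u}))).comap
          (Ideal.Quotient.mk (Ideal.span {𝓕.u})) = P := by
        rw [Ideal.comap_map_of_surjective _ Ideal.Quotient.mk_surjective,
          ← RingHom.ker_eq_comap_bot, Ideal.mk_ker, sup_eq_left]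
        exact hkerP
      obtain ⟨h1, h2⟩ := depth_height_atPrime_quot 𝓕.u (u_isSMulRegular 𝓕)
        (P.map (Ideal.Quotient.mk (Ideal.span {𝓕.u}))) P hcomap.symm
      have := hG (P.map (Ideal.Quotient.mk (Ideal.span {𝓕.u})))
      rw [← h1, ← h2]
      exact ar2 1 _ _ this
    · haveI hPp : (Ideal.homogeneousCore (erGr 𝓕) P).toIdeal.IsPrime :=
        Ideal.IsPrime.homogeneousCore hP
      have hle : (Ideal.homogeneousCore (erGr 𝓕) P).toIdeal ≤ P :=
        Ideal.toIdeal_homogeneousCore_le (erGr 𝓕) P
      have hus : 𝓕.u ∉ (Ideal.homogeneousCore (erGr 𝓕) P).toIdeal := fun h => hu (hle h)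
      have hPsh : (Ideal.homogeneousCore (erGr 𝓕) P).toIdeal.IsHomogeneous (erGr 𝓕) :=
        (Ideal.homogeneousCore (erGr 𝓕) P).isHomogeneous
      haveI : ((Ideal.homogeneousCore (erGr 𝓕) P).toIdeal.comap
          (algebraMap A 𝓕.extRees)).IsPrime := Ideal.comap_isPrime _ _
      obtain ⟨h1, h2⟩ := dim_depth_of_homogeneous 𝓕 (Ideal.homogeneousCore (erGr 𝓕) P).toIdeal
        hus hPsh _ rfl
      have hs := hA ((Ideal.homogeneousCore (erGr 𝓕) P).toIdeal.comap (algebraMap A 𝓕.extRees))
      rw [← h1, ← h2] at hs
      by_cases hph : P.IsHomogeneous (erGr 𝓕)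
      · have heq : (Ideal.homogeneousCore (erGr 𝓕) P).toIdeal = P :=
          Ideal.IsHomogeneous.toIdeal_homogeneousCore_eq_self hph
        have key : ∀ (P' : Ideal 𝓕.extRees) [P'.IsPrime], P' = P →
            min ((2 : ℕ) : ℕ∞) P'.height ≤
              LocCoh.depth (Localization.AtPrime P') (Localization.AtPrime P') →
            min ((2 : ℕ) : ℕ∞) P.height ≤
              LocCoh.depth (Localization.AtPrime P) (Localization.AtPrime P) := by
          intro P' _ hP' h
          subst hP'
          exact h
        exact key _ heq hs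
      · rw [height_eq_core_add_one (erGr 𝓕) P hph, depth_eq_core_add_one (erGr 𝓕) P hph]
        exact ar3 2 _ _ hs

end Groth.Agent.Lib.Helper11.FiltRees
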