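import Mathlib
import Groth.Agent.Lib.Helper11.FiltReesG

/-!
# Unique factorization in the extended Rees algebra (Nagata's criterion)
-/

set_option autoImplicit false
set_option linter.unusedSectionVars false
set_option linter.unusedVariables false
set_option linter.style.haveILetI false
universe u

namespace Groth.Agent.Lib.Helper11.FiltRees

open LaurentPolynomial FiltBl

variable {A : Type u} [CommRing A] [IsDomain A]

/-- factors of monomials in a polynomial ring over a domain are monomials -/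
theorem poly_monomial_of_mul_eq {x y : Polynomial A} {a : A} {N : ℕ} (ha : a ≠ 0)
    (h : x * y = Polynomial.monomial N a) :
    ∃ (c : A) (k : ℕ), x = Polynomial.monomial k c := by
  have hne : Polynomial.monomial N a ≠ 0 := by
    rw [Ne, Polynomial.monomial_eq_zero_iff]
    exact ha
  have hx : x ≠ 0 := by
    rintro rfl
    rw [zero_mul] at h
    exact hne h.symm
  have hy : y ≠ 0 := by
    rintro rfl
    rw [mul_zero] at h
    exact hne h.symm
  have h1 := Polynomial.natDegree_mul hx hy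
  have h2 := Polynomial.natTrailingDegree_mul hx hy
  rw [h, Polynomial.natDegree_monomial_eq N ha] at h1
  rw [h, Polynomial.natTrailingDegree_monomial ha] at h2
  have h3 := Polynomial.natTrailingDegree_le_natDegree x
  have h4 := Polynomial.natTrailingDegree_le_natDegree y
  have h5 : x.natTrailingDegree = x.natDegree := by omega
  refine ⟨x.coeff x.natDegree, x.natDegree, ?_⟩
  ext j
  rw [Polynomial.coeff_monomial]
  split_ifs with hj
  · rw [hj]
  · rcases lt_or_gt_of_ne hj with hlt | hgt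
    · exact Polynomial.coeff_eq_zero_of_natDegree_lt hlt
    · exact Polynomial.coeff_eq_zero_of_lt_natTrailingDegree (by omega)

/-- factors of monomials in a Laurent polynomial ring over a domain are monomials -/
theorem laurent_monomial_of_mul_eq {x y : A[T;T⁻¹]} {a : A} {n : ℤ} (ha : a ≠ 0)
    (h : x * y = C a * T n) : ∃ (c : A) (k : ℤ), x = C c * T k := by
  obtain ⟨m, x', hx'⟩ := LaurentPolynomial.exists_T_pow x
  obtain ⟨m', y', hy'⟩ := LaurentPolynomial.exists_T_pow y
  have h1 : Polynomial.toLaurent (x' * y') = C a * T (n + m + m') := by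
    rw [map_mul, hx', hy']
    calc x * T m * (y * T m') = (x * y) * (T m * T m') := by ring
      _ = C a * T (n + m + m') := by
        rw [h, ← T_add, mul_assoc, ← T_add]
        congr 2
        ring
  have hN : 0 ≤ n + m + m' := by
    by_contra hneg
    have h2 : (Polynomial.toLaurent (x' * y')).coeff (n + m + m') = a := by
      rw [h1, ← LaurentPolynomial.single_eq_C_mul_T, AddMonoidAlgebra.coeff_single,
        Finsupp.single_apply, if_pos rfl]
    have h3 : (Polynomial.toLaurent (x' * y')).coeff (n + m + m') = 0 := by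
      rw [LaurentPolynomial.coeff_toLaurent]
      apply Finsupp.mapDomain_notin_range
      rintro ⟨j, hj⟩
      apply hneg
      rw [← hj]
      exact Int.natCast_nonneg j
    exact ha (h2.symm.trans h3)
  obtain ⟨N, hN'⟩ := Int.eq_ofNat_of_zero_le hN
  rw [hN', ← Polynomial.toLaurent_C_mul_T] at h1
  have h2 := Polynomial.toLaurent_injective h1
  obtain ⟨c, k, hck⟩ := poly_monomial_of_mul_eq ha h2
  refine ⟨c, k - m, ?_⟩
  have h3 : x * T m = C c * T k := by
    rw [← hx', hck, Polynomial.toLaurent_C_mul_T]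
  calc x = x * T m * T (-m) := by rw [mul_assoc, ← T_add, add_neg_cancel, T_zero, mul_one]
    _ = C c * T (k - m) := by rw [h3, mul_assoc, ← T_add, sub_eq_add_neg]

theorem ufd_laurent [UniqueFactorizationMonoid A] : UniqueFactorizationMonoid A[T;T⁻¹] :=
  UniqueFactorizationMonoid.of_isLocalization (Submonoid.powers (Polynomial.X : Polynomial A))
    A[T;T⁻¹]

theorem coeff_C_mul (c : A) (h : A[T;T⁻¹]) (n : ℤ) : (C c * h).coeff n = c * h.coeff n := by
  rw [← LaurentPolynomial.smul_eq_C_mul]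
  rfl

theorem C_injective' : Function.Injective (C : A → A[T;T⁻¹]) := by
  intro a b h
  have := congrArg (fun f => f.coeff 0) h
  simpa using this

theorem prime_of_prime_C {c : A} (h : Prime (C c : A[T;T⁻¹])) : Prime c := by
  refine ⟨?_, ?_, ?_⟩
  · rintro rfl
    exact h.ne_zero (map_zero _)
  · intro hu
    exact h.not_isUnit (hu.map C)
  · intro x y hxy
    have h1 : (C c : A[T;T⁻¹]) ∣ C x * C y := by
      rw [← map_mul]
      exact map_dvd C hxy
    have key : ∀ z : A, (C c : A[T;T⁻¹]) ∣ C z → c ∣ z := by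
      rintro z ⟨g, hg⟩
      refine ⟨g.coeff 0, ?_⟩
      have h3 : (C z : A[T;T⁻¹]).coeff 0 = (C c * g).coeff 0 := by rw [hg]
      rw [coeff_C_mul, LaurentPolynomial.C_apply, if_pos rfl] at h3
      exact h3
    rcases h.dvd_or_dvd h1 with h2 | h2
    · exact Or.inl (key x h2)
    · exact Or.inr (key y h2)

theorem ufd_of_ufd_laurent (h : UniqueFactorizationMonoid A[T;T⁻¹]) :
    UniqueFactorizationMonoid A := by
  rw [UniqueFactorizationMonoid.iff_exists_prime_mem_of_isPrime]
  intro q hq hqp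
  obtain ⟨a, haq, ha0⟩ := Submodule.exists_mem_ne_zero_of_ne_bot hq
  set Q : Ideal A[T;T⁻¹] := RingHom.ker (AddMonoidAlgebra.mapRingHom ℤ (Ideal.Quotient.mk q))
    with hQ
  haveI : Q.IsPrime := RingHom.ker_isPrime _
  have hCQ : ∀ c : A, C c ∈ Q ↔ c ∈ q := by
    intro c
    rw [hQ, RingHom.mem_ker]
    change AddMonoidAlgebra.mapRingHom ℤ (Ideal.Quotient.mk q) (AddMonoidAlgebra.single 0 c) = 0 ↔ _
    rw [AddMonoidAlgebra.mapRingHom_single, AddMonoidAlgebra.single_eq_zero,
      Ideal.Quotient.eq_zero_iff_mem]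
  have hCa : (C a : A[T;T⁻¹]) ≠ 0 := by
    intro h0
    exact ha0 (C_injective' (h0.trans (map_zero _).symm))
  obtain ⟨f, hf, hfa⟩ := UniqueFactorizationMonoid.exists_prime_factors (C a : A[T;T⁻¹]) hCa
  have hprod : f.prod ∈ Q := by
    obtain ⟨w, hw⟩ := hfa.symm
    rw [← hw]
    exact Q.mul_mem_right _ ((hCQ a).mpr haq)
  obtain ⟨π, hπf, hπQ⟩ := (Ideal.IsPrime.multiset_prod_mem_iff_exists_mem ‹Q.IsPrime› f).mp hprod
  have hπp := hf π hπf
  have hdvd : π ∣ C a := (Multiset.dvd_prod hπf).trans hfa.dvd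
  obtain ⟨y, hy⟩ := hdvd
  have hy' : π * y = C a * T 0 := by rw [← hy, T_zero, mul_one]
  obtain ⟨c, k, hck⟩ := laurent_monomial_of_mul_eq ha0 hy'
  have hCc : (C c : A[T;T⁻¹]) = π * T (-k) := by
    rw [hck, mul_assoc, ← T_add, add_neg_cancel, T_zero, mul_one]
  have hassoc : Associated π (C c) := by
    rw [hCc]
    exact associated_mul_unit_right π _ (LaurentPolynomial.isUnit_T (-k))
  have hCcp : Prime (C c : A[T;T⁻¹]) := hassoc.prime hπp
  refine ⟨c, ?_, prime_of_prime_C hCcp⟩
  rw [← hCQ, hCc]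
  exact Q.mul_mem_right _ hπQ

variable (𝓕 : IdealFiltration A)

theorem u_ne_zero : 𝓕.u ≠ 0 := by
  intro h
  have := congrArg (fun f : 𝓕.extRees => (f : A[T;T⁻¹]).coeff (-1)) h
  simp only [coe_u, LaurentPolynomial.T_apply, if_pos] at this
  exact one_ne_zero this

theorem F_eq_top_of_unit_mem {c : A} (hc : IsUnit c) {k : ℕ} (hk : 0 < k) (h : c ∈ 𝓕.F k) :
    𝓕.F 1 = ⊤ := by
  have h1 : c ∈ 𝓕.F 1 := 𝓕.antitone hk h
  exact Ideal.eq_top_of_isUnit_mem _ h1 hc

theorem coeff_C_mul_T (c : A) (k n : ℤ) : (C c * T k : A[T;T⁻¹]).coeff n = if k = n then c else 0 := by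
  classical
  rw [← LaurentPolynomial.single_eq_C_mul_T, AddMonoidAlgebra.coeff_single, Finsupp.single_apply]

theorem single_zero_isUnit' {a : A} (ha : IsUnit a) (h : (AddMonoidAlgebra.single (0 : ℤ) a :
    A[T;T⁻¹]) ∈ 𝓕.extRees) : IsUnit (⟨_, h⟩ : 𝓕.extRees) := by
  obtain ⟨b, hb⟩ := ha.exists_right_inv
  have hb' : (AddMonoidAlgebra.single (0 : ℤ) b : A[T;T⁻¹]) ∈ 𝓕.extRees :=
    single_mem 𝓕 (by simp [𝓕.zero_eq])
  refine IsUnit.of_mul_eq_one ⟨_, hb'⟩ ?_
  apply Subtype.ext
  change (AddMonoidAlgebra.single (0 : ℤ) a : A[T;T⁻¹]) * AddMonoidAlgebra.single (0 : ℤ) b = 1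
  rw [AddMonoidAlgebra.single_mul_single, hb, add_zero]
  rfl

theorem u_irreducible (hF1 : 𝓕.F 1 ≠ ⊤) : Irreducible 𝓕.u := by
  classical
  constructor
  · intro hu
    obtain ⟨v, hv⟩ := hu.exists_right_inv
    have h1 : (T (-1) : A[T;T⁻¹]) * (v : A[T;T⁻¹]) = 1 := congrArg Subtype.val hv
    have h2 : (v : A[T;T⁻¹]) = T 1 := by
      calc (v : A[T;T⁻¹]) = T 1 * (T (-1) * (v : A[T;T⁻¹])) := by
            rw [← mul_assoc, ← T_add]; simp
        _ = T 1 := by rw [h1, mul_one]
    have h3 := coe_mem 𝓕 v 1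
    rw [h2, LaurentPolynomial.T_apply, if_pos rfl] at h3
    exact hF1 ((Ideal.eq_top_iff_one _).mpr (by simpa using h3))
  · intro x y hxy
    have h1 : (x : A[T;T⁻¹]) * (y : A[T;T⁻¹]) = C 1 * T (-1) := by
      rw [map_one, one_mul]
      exact (congrArg Subtype.val hxy).symm
    obtain ⟨c, k, hck⟩ := laurent_monomial_of_mul_eq (one_ne_zero) h1
    have h1' : (y : A[T;T⁻¹]) * (x : A[T;T⁻¹]) = C 1 * T (-1) := by rw [mul_comm]; exact h1
    obtain ⟨c', k', hck'⟩ := laurent_monomial_of_mul_eq (one_ne_zero) h1'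
    have h2 : (C (c * c') * T (k + k') : A[T;T⁻¹]) = C 1 * T (-1) := by
      rw [← h1, hck, hck', map_mul, T_add]
      ring
    have h3 : k + k' = -1 := by
      by_contra hne
      have := congrArg (fun f : A[T;T⁻¹] => f.coeff (-1)) h2
      simp only [coeff_C_mul_T, if_neg hne, if_pos] at this
      exact zero_ne_one this
    have h4 : c * c' = 1 := by
      have := congrArg (fun f : A[T;T⁻¹] => f.coeff (-1)) h2
      simp only [coeff_C_mul_T, if_pos h3, if_pos] at this
      exact this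
    have hcu : IsUnit c := IsUnit.of_mul_eq_one c' h4
    have hcu' : IsUnit c' := IsUnit.of_mul_eq_one c (by rw [mul_comm]; exact h4)
    -- now case on k
    rcases lt_trichotomy k 0 with hk | hk | hk
    · rcases eq_or_lt_of_le (show k ≤ -1 by omega) with hk1 | hk1
      · -- k = -1, k' = 0: y is a unit
        right
        have hk' : k' = 0 := by omega
        have hy : (y : A[T;T⁻¹]) = AddMonoidAlgebra.single (0 : ℤ) c' := by
          rw [hck', hk', LaurentPolynomial.single_eq_C_mul_T]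
        have hmem : (AddMonoidAlgebra.single (0 : ℤ) c' : A[T;T⁻¹]) ∈ 𝓕.extRees := hy ▸ y.2
        have := single_zero_isUnit' 𝓕 hcu' hmem
        convert this using 1
        exact Subtype.ext hy
      · -- k' > 0: c' ∈ F k'
        exfalso
        have hk' : 0 < k' := by omega
        have h5 := coe_mem 𝓕 y k'
        rw [hck', coeff_C_mul_T, if_pos rfl] at h5
        exact hF1 (F_eq_top_of_unit_mem 𝓕 hcu' (k := k'.toNat) (by omega) h5)
    · left
      have hx : (x : A[T;T⁻¹]) = AddMonoidAlgebra.single (0 : ℤ) c := by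
        rw [hck, hk, LaurentPolynomial.single_eq_C_mul_T]
      have hmem : (AddMonoidAlgebra.single (0 : ℤ) c : A[T;T⁻¹]) ∈ 𝓕.extRees := hx ▸ x.2
      have := single_zero_isUnit' 𝓕 hcu hmem
      convert this using 1
      exact Subtype.ext hx
    · exfalso
      have h5 := coe_mem 𝓕 x k
      rw [hck, coeff_C_mul_T, if_pos rfl] at h5
      exact hF1 (F_eq_top_of_unit_mem 𝓕 hcu (k := k.toNat) (by omega) h5)

theorem ufd_iff [IsNoetherianRing A] [IsDomain 𝓕.extRees] (hfg : Algebra.FiniteType A 𝓕.rees)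
    (hF1 : 𝓕.F 1 ≠ ⊤) :
    UniqueFactorizationMonoid 𝓕.extRees ↔ (UniqueFactorizationMonoid A ∧ IsDomain 𝓕.Gr) := by
  haveI : IsNoetherianRing 𝓕.extRees := isNoetherianRing_extRees 𝓕 hfg
  have hprime_iff : IsDomain 𝓕.Gr ↔ Prime 𝓕.u := by
    rw [← Ideal.span_singleton_prime (u_ne_zero 𝓕)]
    exact Ideal.Quotient.isDomain_iff_prime _
  constructor
  · intro h
    refine ⟨?_, ?_⟩
    · apply ufd_of_ufd_laurent
      exact UniqueFactorizationMonoid.of_isLocalization (Submonoid.powers 𝓕.u) A[T;T⁻¹]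
    · rw [hprime_iff]
      exact UniqueFactorizationMonoid.irreducible_iff_prime.mp (u_irreducible 𝓕 hF1)
  · rintro ⟨hA, hG⟩
    have hu : Prime 𝓕.u := hprime_iff.mp hG
    rw [UniqueFactorizationMonoid.iff_of_isLocalizationAway_of_prime hu A[T;T⁻¹]]
    exact ufd_laurent

end Groth.Agent.Lib.Helper11.FiltRees
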