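import Mathlib
import Groth.Agent.Lib.Helper11.FiltReesI
import Groth.Agent.Lib.Helper11.DepthLoc

/-!
# Basic facts on the Rees algebra inside the extended Rees algebra
-/

set_option autoImplicit false
set_option linter.unusedSectionVars false
set_option linter.unusedVariables false
set_option linter.style.haveILetI false
universe u

namespace Groth.Agent.Lib.Helper11.FiltRees

open LaurentPolynomial DirectSum FiltBl IsLocalRing Pointwise

variable {A : Type u} [CommRing A] (𝓕 : IdealFiltration A)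

/-- the monomial `a Xⁿ` of the Rees algebra -/
noncomputable def rmon (n : ℕ) (a : A) (ha : a ∈ 𝓕.F n) : 𝓕.rees :=
  ⟨Polynomial.monomial n a, monomial_mem 𝓕 ha⟩

theorem coe_rmon (n : ℕ) (a : A) (ha : a ∈ 𝓕.F n) :
    ((rmon 𝓕 n a ha : 𝓕.rees) : Polynomial A) = Polynomial.monomial n a := rfl

theorem reesToExt_injective : Function.Injective (reesToExt 𝓕) := by
  intro f g h
  apply Subtype.ext
  apply Polynomial.toLaurent_injective
  rw [← coe_reesToExt, ← coe_reesToExt, h]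

theorem coe_reesToExt_rmon (n : ℕ) (a : A) (ha : a ∈ 𝓕.F n) :
    ((reesToExt 𝓕 (rmon 𝓕 n a ha) : 𝓕.extRees) : A[T;T⁻¹]) =
      AddMonoidAlgebra.single (n : ℤ) a := by
  rw [coe_reesToExt, coe_rmon, ← Polynomial.C_mul_X_pow_eq_monomial,
    Polynomial.toLaurent_C_mul_X_pow, LaurentPolynomial.single_eq_C_mul_T]

theorem mem_range_reesToExt {r' : 𝓕.extRees}
    (h : ∀ m : ℤ, m < 0 → (r' : A[T;T⁻¹]).coeff m = 0) : r' ∈ (reesToExt 𝓕).range := by
  classical
  rw [← sum_erProj 𝓕 r']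
  refine Subalgebra.sum_mem _ fun m hm => ?_
  have hm0 : 0 ≤ m := by
    by_contra hneg
    rw [not_le] at hneg
    exact (Finsupp.mem_support_iff.mp hm) (h m hneg)
  lift m to ℕ using hm0
  refine ⟨rmon 𝓕 m ((r' : A[T;T⁻¹]).coeff m) (by simpa using coe_mem 𝓕 r' m), Subtype.ext ?_⟩
  change ((reesToExt 𝓕 (rmon 𝓕 m ((r' : A[T;T⁻¹]).coeff m) _) : 𝓕.extRees) : A[T;T⁻¹]) = _
  rw [coe_reesToExt_rmon, coe_erProj]

theorem sum_rmon (g : 𝓕.rees) :
    ∑ n ∈ (g : Polynomial A).support, rmon 𝓕 n ((g : Polynomial A).coeff n) (g.2 n) = g := by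
  apply Subtype.ext
  rw [AddSubmonoidClass.coe_finsetSum]
  simp only [coe_rmon]
  exact (Polynomial.as_sum_support (g : Polynomial A)).symm

theorem mem_of_rmon_mem (Q : Ideal 𝓕.rees) (g : 𝓕.rees)
    (h : ∀ n, rmon 𝓕 n ((g : Polynomial A).coeff n) (g.2 n) ∈ Q) : g ∈ Q := by
  rw [← sum_rmon 𝓕 g]
  exact Ideal.sum_mem _ fun n _ => h n

/-- the constant coefficient map -/
noncomputable def c0 : 𝓕.rees →+* A :=
  (Polynomial.constantCoeff : Polynomial A →+* A).comp 𝓕.rees.val.toRingHom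

theorem c0_apply (g : 𝓕.rees) : c0 𝓕 g = (g : Polynomial A).coeff 0 := rfl

/-- the irrelevant ideal of the Rees algebra -/
noncomputable def irr : Ideal 𝓕.rees := RingHom.ker (c0 𝓕)

theorem mem_irr {g : 𝓕.rees} : g ∈ irr 𝓕 ↔ (g : Polynomial A).coeff 0 = 0 := by
  unfold irr
  rw [RingHom.mem_ker, c0_apply]

theorem coe_algebraMap_rees (a : A) :
    ((algebraMap A 𝓕.rees a : 𝓕.rees) : Polynomial A) = Polynomial.C a := rfl

theorem rmon_mem_irr (n : ℕ) (hn : 1 ≤ n) (a : A) (ha : a ∈ 𝓕.F n) : rmon 𝓕 n a ha ∈ irr 𝓕 := by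
  rw [mem_irr, coe_rmon, Polynomial.coeff_monomial, if_neg (by omega)]

theorem irr_le_iff (Q : Ideal 𝓕.rees) :
    irr 𝓕 ≤ Q ↔ ∀ (n : ℕ), 1 ≤ n → ∀ (a : A) (ha : a ∈ 𝓕.F n), rmon 𝓕 n a ha ∈ Q := by
  constructor
  · intro h n hn a ha
    exact h (rmon_mem_irr 𝓕 n hn a ha)
  · intro h g hg
    apply mem_of_rmon_mem
    intro n
    rcases Nat.eq_zero_or_pos n with rfl | hn
    · have : rmon 𝓕 0 ((g : Polynomial A).coeff 0) (g.2 0) = 0 := by
        apply Subtype.ext
        rw [coe_rmon, (mem_irr 𝓕).mp hg]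
        simp
      rw [this]
      exact zero_mem _
    · exact h n hn _ _

theorem sub_algebraMap_mem_irr (g : 𝓕.rees) :
    g - algebraMap A 𝓕.rees ((g : Polynomial A).coeff 0) ∈ irr 𝓕 := by
  rw [mem_irr]
  change ((g : Polynomial A) - Polynomial.C ((g : Polynomial A).coeff 0)).coeff 0 = 0
  simp

theorem mem_iff_of_irr_le (P : Ideal 𝓕.rees) (hirr : irr 𝓕 ≤ P) (g : 𝓕.rees) :
    g ∈ P ↔ (g : Polynomial A).coeff 0 ∈ P.comap (algebraMap A 𝓕.rees) := by
  rw [Ideal.mem_comap]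
  have := hirr (sub_algebraMap_mem_irr 𝓕 g)
  constructor
  · intro hg
    have h2 := P.sub_mem hg this
    rwa [sub_sub_cancel] at h2
  · intro hg
    have h2 := P.add_mem this hg
    rwa [sub_add_cancel] at h2

theorem algebraMap_isSMulRegular_rees {x : A} (hx : IsSMulRegular A x) :
    IsSMulRegular 𝓕.rees (algebraMap A 𝓕.rees x) := by
  intro g g' h
  apply Subtype.ext
  ext n
  have h1 : (Polynomial.C x * (g : Polynomial A)).coeff n =
      (Polynomial.C x * (g' : Polynomial A)).coeff n :=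
    congrArg (fun z : 𝓕.rees => (z : Polynomial A).coeff n) h
  rw [Polynomial.coeff_C_mul, Polynomial.coeff_C_mul] at h1
  exact hx h1

theorem coeff_algebraMap_mul (x : A) (g : 𝓕.extRees) (n : ℤ) :
    ((algebraMap A 𝓕.extRees x * g : 𝓕.extRees) : A[T;T⁻¹]).coeff n =
      x * (g : A[T;T⁻¹]).coeff n := by
  change (C x * (g : A[T;T⁻¹])).coeff n = _
  rw [← LaurentPolynomial.smul_eq_C_mul]
  rfl

theorem algebraMap_isSMulRegular_extRees {x : A} (hx : IsSMulRegular A x) :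
    IsSMulRegular 𝓕.extRees (algebraMap A 𝓕.extRees x) := by
  intro g g' h
  apply Subtype.ext
  apply LaurentPolynomial.ext
  intro n
  have h1 := congrArg (fun z : 𝓕.extRees => (z : A[T;T⁻¹]).coeff n) h
  simp only [smul_eq_mul, coeff_algebraMap_mul] at h1
  exact hx h1

theorem rmon_isSMulRegular {x : A} (hx : IsSMulRegular A x) (n : ℕ) (hxn : x ∈ 𝓕.F n) :
    IsSMulRegular 𝓕.rees (rmon 𝓕 n x hxn) := by
  intro g g' h
  apply Subtype.ext
  ext m
  have h1 : (Polynomial.monomial n x * (g : Polynomial A)).coeff (m + n) =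
      (Polynomial.monomial n x * (g' : Polynomial A)).coeff (m + n) :=
    congrArg (fun z : 𝓕.rees => (z : Polynomial A).coeff (m + n)) h
  rw [← Polynomial.C_mul_X_pow_eq_monomial, mul_assoc, mul_assoc, Polynomial.coeff_C_mul,
    Polynomial.coeff_C_mul, Polynomial.coeff_X_pow_mul, Polynomial.coeff_X_pow_mul] at h1
  exact hx h1

theorem reesToExt_algebraMap (a : A) :
    reesToExt 𝓕 (algebraMap A 𝓕.rees a) = algebraMap A 𝓕.extRees a :=
  (reesToExt 𝓕).commutes a

end Groth.Agent.Lib.Helper11.FiltRees
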