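import Mathlib
import Groth.Agent.Lib.Helper11.FiltReesK

/-!
# Transfer of height and depth along a subring that becomes equal after inverting an element
-/

set_option autoImplicit false
set_option linter.unusedSectionVars false
set_option linter.unusedVariables false
set_option linter.style.haveILetI false
universe u

namespace Groth.Agent.Lib.Helper11.FiltRees

open LaurentPolynomial DirectSum FiltBl IsLocalRing Pointwise

section General

variable {R R' : Type u} [CommRing R] [CommRing R'] [Algebra R R']

theorem away_of_subring (hinj : Function.Injective (algebraMap R R')) (f : R)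
    (hf : ∀ r' : R', ∃ (j : ℕ) (z : R), algebraMap R R' z = (algebraMap R R' f) ^ j * r')
    (B : Type u) [CommRing B] [Algebra R' B] [Algebra R B] [IsScalarTower R R' B]
    [IsLocalization.Away (algebraMap R R' f) B] : IsLocalization.Away f B := by
  rw [IsLocalization.Away, isLocalization_iff]
  refine ⟨?_, ?_, ?_⟩
  · rintro ⟨_, n, rfl⟩
    rw [map_pow, IsScalarTower.algebraMap_apply R R' B]
    exact (IsLocalization.Away.algebraMap_isUnit (algebraMap R R' f)).pow n
  · intro b
    obtain ⟨⟨r', ⟨_, k, rfl⟩⟩, hb⟩ := IsLocalization.surj (Submonoid.powers (algebraMap R R' f)) b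
    obtain ⟨j, z, hz⟩ := hf r'
    refine ⟨(z, ⟨f ^ (k + j), k + j, rfl⟩), ?_⟩
    simp only at hb ⊢
    rw [IsScalarTower.algebraMap_apply R R' B, IsScalarTower.algebraMap_apply R R' B z, hz,
      map_pow, map_pow, map_mul, map_pow, ← hb, map_pow, pow_add]
    ring
  · intro x y h
    rw [IsScalarTower.algebraMap_apply R R' B, IsScalarTower.algebraMap_apply R R' B y] at h
    obtain ⟨⟨_, c, rfl⟩, hc⟩ :=
      (IsLocalization.eq_iff_exists (Submonoid.powers (algebraMap R R' f)) B).mp h
    refine ⟨⟨f ^ c, c, rfl⟩, ?_⟩
    apply hinj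
    simp only at hc ⊢
    rw [map_mul, map_mul, map_pow]
    exact hc

variable [IsNoetherianRing R] [IsNoetherianRing R']

theorem exists_prime_of_away_subring (hinj : Function.Injective (algebraMap R R')) (f : R)
    (hf : ∀ r' : R', ∃ (j : ℕ) (z : R), algebraMap R R' z = (algebraMap R R' f) ^ j * r')
    (P : Ideal R) [P.IsPrime] (hfP : f ∉ P) :
    ∃ (Q : Ideal R') (_ : Q.IsPrime), Q.height = P.height ∧
      LocCoh.depth (Localization.AtPrime Q) (Localization.AtPrime Q) =
        LocCoh.depth (Localization.AtPrime P) (Localization.AtPrime P) := by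
  set B := Localization.Away (algebraMap R R' f) with hB
  haveI : IsLocalization.Away f B := away_of_subring hinj f hf B
  have hdisj : Disjoint (Submonoid.powers f : Set R) (P : Set R) := by
    rw [Set.disjoint_left]
    rintro _ ⟨n, rfl⟩ hn
    exact hfP (Ideal.IsPrime.mem_of_pow_mem inferInstance n hn)
  haveI hP' : (P.map (algebraMap R B)).IsPrime :=
    IsLocalization.isPrime_of_isPrime_disjoint (Submonoid.powers f) B P inferInstance hdisj
  have hcomap : (P.map (algebraMap R B)).comap (algebraMap R B) = P :=
    IsLocalization.comap_map_of_isPrime_disjoint (Submonoid.powers f) B inferInstance hdisj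
  set Q : Ideal R' := (P.map (algebraMap R B)).comap (algebraMap R' B) with hQ
  haveI hQp : Q.IsPrime := Ideal.comap_isPrime _ _
  have hQc : P = Q.comap (algebraMap R R') := by
    rw [hQ, Ideal.comap_comap, ← IsScalarTower.algebraMap_eq, hcomap]
  have hfQ : algebraMap R R' f ∉ Q := by
    intro hmem
    rw [hQ, Ideal.mem_comap] at hmem
    exact hP'.ne_top (Ideal.eq_top_of_isUnit_mem _ hmem
      (IsLocalization.Away.algebraMap_isUnit (algebraMap R R' f)))
  haveI : Module.Flat R B := IsLocalization.flat B (Submonoid.powers f)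
  have hflat : Module.Flat R (Localization.AtPrime Q) :=
    flat_atPrime_of_away (A := R) (R' := R') (B := B) (algebraMap R R' f) Q hfQ
  have hgen : Q.map (algebraMap R' (Localization.AtPrime Q)) ≤
      P.map (algebraMap R (Localization.AtPrime Q)) := by
    rw [Ideal.map_le_iff_le_comap]
    intro r' hr'
    rw [Ideal.mem_comap]
    obtain ⟨j, z, hz⟩ := hf r'
    have hzP : z ∈ P := by
      rw [hQc, Ideal.mem_comap, hz]
      exact Q.mul_mem_left _ hr'
    have hunit : IsUnit (algebraMap R' (Localization.AtPrime Q) ((algebraMap R R' f) ^ j)) := by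
      rw [map_pow]
      refine IsUnit.pow j ?_
      exact IsLocalization.map_units (Localization.AtPrime Q)
        (⟨algebraMap R R' f, hfQ⟩ : Q.primeCompl)
    have h1 : algebraMap R' (Localization.AtPrime Q) ((algebraMap R R' f) ^ j) *
        algebraMap R' (Localization.AtPrime Q) r' ∈
        P.map (algebraMap R (Localization.AtPrime Q)) := by
      rw [← map_mul, ← hz, ← IsScalarTower.algebraMap_apply]
      exact Ideal.mem_map_of_mem _ hzP
    exact (Ideal.unit_mul_mem_iff_mem _ hunit).mp h1
  obtain ⟨h1, h2⟩ := dim_depth_atPrime_of_flat (A := R) (R' := R') Q P hQc hflat hgen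
  exact ⟨Q, hQp, h1, h2⟩

end General

end Groth.Agent.Lib.Helper11.FiltRees
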