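import Mathlib
import Groth.Agent.Lib.Helper11.FiltReesL

/-!
# Serre's condition `(S_2)` ascends from the extended Rees algebra to the Rees algebra
-/

set_option autoImplicit false
set_option linter.unusedSectionVars false
set_option linter.unusedVariables false
set_option linter.style.haveILetI false
universe u

namespace Groth.Agent.Lib.Helper11.FiltRees

open LaurentPolynomial DirectSum FiltBl IsLocalRing Pointwise
open Groth.Agent.Lib.Helper16.Depth Groth.Agent.Lib.Helper11.DepthLoc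

variable {A : Type u} [CommRing A] (𝓕 : IdealFiltration A)

theorem coeff_toLaurent' (g : Polynomial A) (m : ℤ) :
    (Polynomial.toLaurent g).coeff m = if 0 ≤ m then g.coeff m.toNat else 0 := by
  classical
  induction g using Polynomial.induction_on' with
  | add p q hp hq =>
    rw [map_add, AddMonoidAlgebra.coeff_add, Finsupp.add_apply, hp, hq, Polynomial.coeff_add]
    split_ifs <;> simp
  | monomial k a =>
    rw [← Polynomial.C_mul_X_pow_eq_monomial, Polynomial.toLaurent_C_mul_X_pow,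
      ← LaurentPolynomial.single_eq_C_mul_T, AddMonoidAlgebra.coeff_single, Finsupp.single_apply,
      Polynomial.coeff_C_mul_X_pow]
    by_cases hm : 0 ≤ m
    · rw [if_pos hm]
      by_cases hk : (k : ℤ) = m
      · rw [if_pos hk, if_pos (by omega)]
      · rw [if_neg hk, if_neg (by omega)]
    · rw [if_neg hm, if_neg (by omega)]

theorem coeff_reesToExt (z : 𝓕.rees) (n : ℕ) :
    ((reesToExt 𝓕 z : 𝓕.extRees) : A[T;T⁻¹]).coeff (n : ℤ) = (z : Polynomial A).coeff n := by
  rw [coe_reesToExt, coeff_toLaurent', if_pos (by omega), Int.toNat_natCast]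

theorem exists_pow_mul_eq (n : ℕ) (hn : 1 ≤ n) (a : A) (ha : a ∈ 𝓕.F n) (r' : 𝓕.extRees) :
    ∃ (j : ℕ) (z : 𝓕.rees), reesToExt 𝓕 z = (reesToExt 𝓕 (rmon 𝓕 n a ha)) ^ j * r' := by
  classical
  obtain ⟨k, hk⟩ : ∃ k : ℕ, ∀ m ∈ (r' : A[T;T⁻¹]).coeff.support, -(k : ℤ) ≤ m := by
    obtain ⟨b, hb⟩ := (r' : A[T;T⁻¹]).coeff.support.bddBelow
    refine ⟨(-b).toNat, fun m hm => ?_⟩
    have := hb hm
    omega
  have hmem : (reesToExt 𝓕 (rmon 𝓕 n a ha)) ^ k * r' ∈ (reesToExt 𝓕).range := by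
    apply mem_range_reesToExt
    intro m hm
    have hcoe : (((reesToExt 𝓕 (rmon 𝓕 n a ha)) ^ k * r' : 𝓕.extRees) : A[T;T⁻¹]) =
        AddMonoidAlgebra.single (k • (n : ℤ)) (a ^ k) * (r' : A[T;T⁻¹]) := by
      rw [← AddMonoidAlgebra.single_pow, ← coe_reesToExt_rmon 𝓕 n a ha]
      rfl
    rw [hcoe, AddMonoidAlgebra.coeff_single_mul_apply]
    have h0 : (r' : A[T;T⁻¹]).coeff (-(k • (n : ℤ)) + m) = 0 := by
      by_contra hne
      have h1 := hk _ (Finsupp.mem_support_iff.mpr hne)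
      have h2 : (k : ℤ) ≤ k • (n : ℤ) := by
        rw [nsmul_eq_mul]
        have : (1 : ℤ) ≤ n := by exact_mod_cast hn
        nlinarith
      omega
    rw [h0, mul_zero]
  obtain ⟨z, hz⟩ := hmem
  exact ⟨k, z, hz⟩

section Noeth

variable [IsNoetherianRing A] [IsNoetherianRing 𝓕.rees] [IsNoetherianRing 𝓕.extRees]

theorem case1 (P : Ideal 𝓕.rees) [P.IsPrime] (hP : ¬ irr 𝓕 ≤ P) :
    ∃ (Q : Ideal 𝓕.extRees) (_ : Q.IsPrime), Q.height = P.height ∧
      LocCoh.depth (Localization.AtPrime Q) (Localization.AtPrime Q) =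
        LocCoh.depth (Localization.AtPrime P) (Localization.AtPrime P) := by
  rw [irr_le_iff] at hP
  push Not at hP
  obtain ⟨n, hn, a, ha, hnot⟩ := hP
  letI : Algebra 𝓕.rees 𝓕.extRees := (reesToExt 𝓕).toRingHom.toAlgebra
  exact exists_prime_of_away_subring (R := 𝓕.rees) (R' := 𝓕.extRees) (reesToExt_injective 𝓕)
    (rmon 𝓕 n a ha) (exists_pow_mul_eq 𝓕 n hn a ha) P hnot

end Noeth

end Groth.Agent.Lib.Helper11.FiltRees
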