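import Mathlib
import Groth.Agent.Lib.Helper11.FiltReesM

/-!
# Serre's condition `(S_2)` ascends from the extended Rees algebra to the Rees algebra, II
-/

set_option autoImplicit false
set_option linter.unusedSectionVars false
set_option linter.unusedVariables false
set_option linter.style.haveILetI false
universe u

namespace Groth.Agent.Lib.Helper11.FiltRees

open LaurentPolynomial DirectSum FiltBl IsLocalRing Pointwise
open Groth.Agent.Lib.Helper16.Depth Groth.Agent.Lib.Helper11.DepthLoc
open Groth.Agent.Lib.Helper18.Serre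

theorem exists_regular_of_height {B : Type u} [CommRing B] [IsNoetherianRing B]
    (hS : ∀ (q : Ideal B) [q.IsPrime], min ((2 : ℕ) : ℕ∞) q.height ≤
      LocCoh.depth (Localization.AtPrime q) (Localization.AtPrime q))
    (I : Ideal B) (hI : 1 ≤ I.height) : ∃ x ∈ I, IsSMulRegular B x := by
  rcases exists_regular_or_le_associatedPrime I B with h | ⟨q, hq, hIq⟩
  · exact h
  · exfalso
    haveI : q.IsPrime := hq.isPrime
    have h1 := Module.associatedPrimes.mem_associatedPrimes_atPrime_of_mem_associatedPrimes hq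
    have h2 : IsNoetherianRing (Localization.AtPrime q) :=
      IsLocalization.isNoetherianRing q.primeCompl _ inferInstance
    have h3 : Module.Finite (Localization.AtPrime q) (LocalizedModule q.primeCompl B) :=
      Module.Finite.of_isLocalizedModule q.primeCompl (LocalizedModule.mkLinearMap q.primeCompl B)
    refine not_one_le_depth_of_mem_associatedPrimes (LocalizedModule q.primeCompl B) h1 ?_
    rw [depth_localizedModule_self]
    have h4 : (1 : ℕ∞) ≤ q.height := hI.trans (Ideal.height_mono hIq)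
    refine le_trans ?_ (hS q)
    rw [le_min_iff]
    exact ⟨by norm_num, by exact_mod_cast h4⟩

variable {A : Type u} [CommRing A] (𝓕 : IdealFiltration A)

theorem algebraMap_mul_rmon (c : A) (n : ℕ) (a : A) (ha : a ∈ 𝓕.F n) :
    algebraMap A 𝓕.rees c * rmon 𝓕 n a ha = rmon 𝓕 n (c * a) (Ideal.mul_mem_left _ _ ha) := by
  apply Subtype.ext
  change Polynomial.C c * Polynomial.monomial n a = Polynomial.monomial n (c * a)
  rw [Polynomial.C_mul_monomial]

theorem pow_mem_F {s : A} (hs : s ∈ 𝓕.F 1) (n : ℕ) : s ^ n ∈ 𝓕.F n := by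
  induction n with
  | zero => rw [𝓕.zero_eq]; trivial
  | succ n ih =>
    rw [pow_succ]
    exact 𝓕.mul_le n 1 (Ideal.mul_mem_mul ih hs)

theorem rmon_one_pow {s : A} (hs : s ∈ 𝓕.F 1) (n : ℕ) :
    (rmon 𝓕 1 s hs) ^ n = rmon 𝓕 n (s ^ n) (pow_mem_F 𝓕 hs n) := by
  apply Subtype.ext
  change (Polynomial.monomial 1 s) ^ n = Polynomial.monomial n (s ^ n)
  rw [Polynomial.monomial_pow, one_mul]

section Noeth

variable [IsNoetherianRing A] [IsNoetherianRing 𝓕.rees] [IsNoetherianRing 𝓕.extRees]

theorem case2 (P : Ideal 𝓕.rees) [hP : P.IsPrime] (hirr : irr 𝓕 ≤ P)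
    (hp : (P.comap (algebraMap A 𝓕.rees)).height = 0)
    (s : A) (hs : s ∈ 𝓕.F 1) (hsp : s ∉ P.comap (algebraMap A 𝓕.rees))
    (x : A) (hx1 : x ∈ 𝓕.F 1) (hx : IsSMulRegular A x) :
    P.height ≤ 1 ∧ (1 : ℕ∞) ≤
      LocCoh.depth (Localization.AtPrime P) (Localization.AtPrime P) := by
  constructor
  · refine Ideal.height_le_one_of_isPrincipal_of_mem_minimalPrimes
      (Ideal.span {rmon 𝓕 1 s hs}) P ?_
    refine ⟨⟨hP, ?_⟩, ?_⟩
    · rw [Ideal.span_le, Set.singleton_subset_iff]
      exact hirr (rmon_mem_irr 𝓕 1 le_rfl s hs)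
    · rintro Q ⟨hQ, hle⟩ hQP
      haveI := hQ
      have hsQ : rmon 𝓕 1 s hs ∈ Q := hle (Ideal.subset_span rfl)
      have hcomap : Q.comap (algebraMap A 𝓕.rees) = P.comap (algebraMap A 𝓕.rees) := by
        haveI : (P.comap (algebraMap A 𝓕.rees)).IsPrime := Ideal.comap_isPrime _ _
        haveI : (Q.comap (algebraMap A 𝓕.rees)).IsPrime := Ideal.comap_isPrime _ _
        have hmin := Ideal.height_eq_zero_iff.mp hp
        exact le_antisymm (Ideal.comap_mono hQP)
          (hmin.2 ⟨inferInstance, bot_le⟩ (Ideal.comap_mono hQP))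
      have hsQ' : algebraMap A 𝓕.rees s ∉ Q := by
        intro h
        apply hsp
        rw [← hcomap]
        exact h
      have hirrQ : irr 𝓕 ≤ Q := by
        rw [irr_le_iff]
        intro n hn a ha
        have h1 : algebraMap A 𝓕.rees (s ^ n) * rmon 𝓕 n a ha =
            algebraMap A 𝓕.rees a * (rmon 𝓕 1 s hs) ^ n := by
          rw [algebraMap_mul_rmon, rmon_one_pow, algebraMap_mul_rmon]
          apply Subtype.ext
          rw [coe_rmon, coe_rmon, mul_comm]
        have h2 : algebraMap A 𝓕.rees (s ^ n) * rmon 𝓕 n a ha ∈ Q := by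
          rw [h1]
          exact Q.mul_mem_left _ (Q.pow_mem_of_mem hsQ n (by omega))
        rcases hQ.mem_or_mem h2 with h3 | h3
        · exfalso
          rw [map_pow] at h3
          exact hsQ' (hQ.mem_of_pow_mem n h3)
        · exact h3
      intro g hg
      rw [mem_iff_of_irr_le 𝓕 Q hirrQ, hcomap]
      exact (mem_iff_of_irr_le 𝓕 P hirr g).mp hg
  · rw [← depth_localizedModule_self]
    refine le_depth_localization_of_hasRegSeq P (le_refl P) 𝓕.rees 1 ?_
    exact HasRegSeq.cons (hirr (rmon_mem_irr 𝓕 1 le_rfl x hx1)) (rmon_isSMulRegular 𝓕 hx 1 hx1)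
      HasRegSeq.zero

end Noeth

end Groth.Agent.Lib.Helper11.FiltRees
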