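import Mathlib
import Groth.Agent.Lib.Helper11.FiltReesN

/-!
# Serre's condition `(S_2)` ascends from the extended Rees algebra to the Rees algebra, III
-/

set_option autoImplicit false
set_option linter.unusedSectionVars false
set_option linter.unusedVariables false
set_option linter.style.haveILetI false
universe u

namespace Groth.Agent.Lib.Helper11.FiltRees

open LaurentPolynomial DirectSum FiltBl IsLocalRing Pointwise
open Groth.Agent.Lib.Helper16.Depth Groth.Agent.Lib.Helper11.DepthLoc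
open Groth.Agent.Lib.Helper18.Serre

variable {A : Type u} [CommRing A] (𝓕 : IdealFiltration A)

theorem primeOf_le_of_map_le (P : Ideal 𝓕.rees) (hirr : irr 𝓕 ≤ P) (Q : Ideal 𝓕.extRees)
    (hPQ : ∀ g ∈ P, reesToExt 𝓕 g ∈ Q) :
    primeOf 𝓕 (P.comap (algebraMap A 𝓕.rees)) ≤ Q := by
  classical
  intro f hf
  rw [mem_primeOf] at hf
  rw [← sum_erProj 𝓕 f]
  refine Ideal.sum_mem _ fun m _ => ?_
  by_cases hm : 0 ≤ m
  · lift m to ℕ using hm
    have hmem : (f : A[T;T⁻¹]).coeff (m : ℤ) ∈ 𝓕.F m := by simpa using coe_mem 𝓕 f m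
    have h1 : erProj 𝓕 (m : ℤ) f = reesToExt 𝓕 (rmon 𝓕 m ((f : A[T;T⁻¹]).coeff m) hmem) := by
      apply Subtype.ext
      rw [coe_reesToExt_rmon, coe_erProj]
    rw [h1]
    apply hPQ
    rw [mem_iff_of_irr_le 𝓕 P hirr, coe_rmon, Polynomial.coeff_monomial]
    split_ifs
    · exact hf m
    · exact zero_mem _
  · rw [erProj_eq_mul_pow_u 𝓕 m (by omega) f]
    apply Q.mul_mem_right
    rw [← reesToExt_algebraMap]
    apply hPQ
    exact hf m

theorem mem_smul_of_reesToExt_mem (x : A) (z : 𝓕.rees) (w' : 𝓕.extRees)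
    (h : reesToExt 𝓕 z = algebraMap A 𝓕.extRees x * w') :
    ∃ w : 𝓕.rees, z = algebraMap A 𝓕.rees x * w := by
  classical
  have hmem : ∀ n : ℕ, (w' : A[T;T⁻¹]).coeff (n : ℤ) ∈ 𝓕.F n := fun n => by
    simpa using coe_mem 𝓕 w' n
  refine ⟨∑ n ∈ (z : Polynomial A).support, rmon 𝓕 n ((w' : A[T;T⁻¹]).coeff (n : ℤ)) (hmem n), ?_⟩
  rw [Finset.mul_sum]
  conv_lhs => rw [← sum_rmon 𝓕 z]
  refine Finset.sum_congr rfl fun n _ => ?_
  rw [algebraMap_mul_rmon]
  apply Subtype.ext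
  rw [coe_rmon, coe_rmon, ← coeff_reesToExt, h, coeff_algebraMap_mul]

section Noeth

variable [IsNoetherianRing A] [IsNoetherianRing 𝓕.rees] [IsNoetherianRing 𝓕.extRees]

theorem two_le_height (hht : 2 ≤ (𝓕.F 1).height) (P : Ideal 𝓕.rees) [hP : P.IsPrime]
    (hirr : irr 𝓕 ≤ P) (hp : (P.comap (algebraMap A 𝓕.rees)).height ≠ 0)
    (Q : Ideal 𝓕.extRees) [hQ : Q.IsPrime] (hPQ : ∀ g ∈ P, reesToExt 𝓕 g ∈ Q) :
    2 ≤ Q.height := by
  haveI hpp : (P.comap (algebraMap A 𝓕.rees)).IsPrime := Ideal.comap_isPrime _ _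
  have hle := primeOf_le_of_map_le 𝓕 P hirr Q hPQ
  obtain ⟨h1, -⟩ := dim_depth_of_homogeneous 𝓕 (primeOf 𝓕 (P.comap (algebraMap A 𝓕.rees)))
    (u_notMem_primeOf 𝓕 _ hpp.ne_top) (primeOf_isHomogeneous 𝓕 _) (P.comap (algebraMap A 𝓕.rees))
    (comap_primeOf 𝓕 _).symm
  by_cases hF : 𝓕.F 1 ≤ P.comap (algebraMap A 𝓕.rees)
  · calc (2 : ℕ∞) ≤ (𝓕.F 1).height := hht
      _ ≤ (P.comap (algebraMap A 𝓕.rees)).height := Ideal.height_mono hF
      _ = (primeOf 𝓕 (P.comap (algebraMap A 𝓕.rees))).height := h1.symm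
      _ ≤ Q.height := Ideal.height_mono hle
  · obtain ⟨s, hs, hsp⟩ := SetLike.not_le_iff_exists.mp hF
    have hlt : primeOf 𝓕 (P.comap (algebraMap A 𝓕.rees)) < Q := by
      refine lt_of_le_of_ne hle ?_
      intro heq
      have h2 : reesToExt 𝓕 (rmon 𝓕 1 s hs) ∈ primeOf 𝓕 (P.comap (algebraMap A 𝓕.rees)) := by
        rw [heq]
        exact hPQ _ (hirr (rmon_mem_irr 𝓕 1 le_rfl s hs))
      rw [mem_primeOf] at h2
      have h3 := h2 ((1 : ℕ) : ℤ)
      rw [coeff_reesToExt, coe_rmon, Polynomial.coeff_monomial, if_pos rfl] at h3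
      exact hsp h3
    have h4 := Ideal.height_add_one_le_of_lt_of_isPrime hlt
    rw [h1] at h4
    have h5 : (1 : ℕ∞) ≤ (P.comap (algebraMap A 𝓕.rees)).height :=
      Order.one_le_iff_pos.mpr (pos_iff_ne_zero.mpr hp)
    calc (2 : ℕ∞) = 1 + 1 := by norm_num
      _ ≤ (P.comap (algebraMap A 𝓕.rees)).height + 1 := by gcongr
      _ ≤ Q.height := h4

theorem case3 (hht : 2 ≤ (𝓕.F 1).height)
    (hS' : ∀ (Q : Ideal 𝓕.extRees) [Q.IsPrime], min ((2 : ℕ) : ℕ∞) Q.height ≤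
      LocCoh.depth (Localization.AtPrime Q) (Localization.AtPrime Q))
    (P : Ideal 𝓕.rees) [hP : P.IsPrime] (hirr : irr 𝓕 ≤ P)
    (hp : (P.comap (algebraMap A 𝓕.rees)).height ≠ 0)
    (x : A) (hxp : x ∈ P.comap (algebraMap A 𝓕.rees)) (hx : IsSMulRegular A x) :
    ((2 : ℕ) : ℕ∞) ≤ LocCoh.depth (Localization.AtPrime P) (Localization.AtPrime P) := by
  rw [← depth_localizedModule_self]
  refine le_depth_localization_of_hasRegSeq P (le_refl P) 𝓕.rees 2 ?_
  refine HasRegSeq.cons (x := algebraMap A 𝓕.rees x) hxp (algebraMap_isSMulRegular_rees 𝓕 hx) ?_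
  rcases exists_regular_or_le_associatedPrime P (QuotSMulTop (algebraMap A 𝓕.rees x) 𝓕.rees) with
    ⟨y, hyP, hy⟩ | ⟨𝔞, h𝔞, hP𝔞⟩
  · exact HasRegSeq.cons hyP hy HasRegSeq.zero
  · exfalso
    obtain ⟨h𝔞p, zbar, hz⟩ := isAssociatedPrime_iff.mp h𝔞
    obtain ⟨z, rfl⟩ := Submodule.Quotient.mk_surjective _ zbar
    have hzne : ∀ w : 𝓕.rees, z ≠ algebraMap A 𝓕.rees x * w := by
      intro w hw
      apply h𝔞p.ne_top
      rw [hz, eq_top_iff]
      intro r _
      rw [Submodule.mem_colon_singleton, Submodule.mem_bot, ← Submodule.Quotient.mk_smul,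
        Submodule.Quotient.mk_eq_zero, Submodule.mem_smul_pointwise_iff_exists]
      refine ⟨r * w, trivial, ?_⟩
      rw [hw, smul_eq_mul, smul_eq_mul]
      ring
    have h1 : ∀ g ∈ P, ∃ w : 𝓕.rees, g * z = algebraMap A 𝓕.rees x * w := by
      intro g hg
      have h2 := hP𝔞 hg
      rw [hz, Submodule.mem_colon_singleton, Submodule.mem_bot, ← Submodule.Quotient.mk_smul,
        Submodule.Quotient.mk_eq_zero, Submodule.mem_smul_pointwise_iff_exists] at h2
      obtain ⟨w, -, hw⟩ := h2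
      exact ⟨w, by rw [← smul_eq_mul g z, ← hw, smul_eq_mul]⟩
    have hz'ne : (Submodule.Quotient.mk (reesToExt 𝓕 z) :
        QuotSMulTop (algebraMap A 𝓕.extRees x) 𝓕.extRees) ≠ 0 := by
      intro h0
      rw [Submodule.Quotient.mk_eq_zero, Submodule.mem_smul_pointwise_iff_exists] at h0
      obtain ⟨w', -, hw'⟩ := h0
      obtain ⟨w, hw⟩ := mem_smul_of_reesToExt_mem 𝓕 x z w' (by rw [← hw', smul_eq_mul])
      exact hzne w hw
    obtain ⟨Q, hQass, hQle⟩ :=
      exists_le_isAssociatedPrime_of_isNoetherianRing 𝓕.extRees _ hz'ne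
    haveI hQp : Q.IsPrime := hQass.isPrime
    have hPQ : ∀ g ∈ P, reesToExt 𝓕 g ∈ Q := by
      intro g hg
      apply hQle
      obtain ⟨w, hw⟩ := h1 g hg
      rw [Submodule.mem_colon_singleton, Submodule.mem_bot, ← Submodule.Quotient.mk_smul,
        Submodule.Quotient.mk_eq_zero, Submodule.mem_smul_pointwise_iff_exists]
      refine ⟨reesToExt 𝓕 w, trivial, ?_⟩
      rw [smul_eq_mul, smul_eq_mul, ← map_mul, hw, map_mul, reesToExt_algebraMap]
    have hht2 : 2 ≤ Q.height := two_le_height 𝓕 hht P hirr hp Q hPQ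
    have hd : ((1 + 1 : ℕ) : ℕ∞) ≤ LocCoh.depth (Localization.AtPrime Q)
        (LocalizedModule Q.primeCompl 𝓕.extRees) := by
      rw [depth_localizedModule_self]
      have h3 := hS' Q
      rwa [min_eq_left (by exact_mod_cast hht2)] at h3
    have hxQ : algebraMap A 𝓕.extRees x ∈ Q := by
      rw [← reesToExt_algebraMap]
      exact hPQ _ hxp
    have h3 := le_depth_localization_quotSMulTop Q 𝓕.extRees hxQ
      (algebraMap_isSMulRegular_extRees 𝓕 hx) 1 hd
    have h4 := Module.associatedPrimes.mem_associatedPrimes_atPrime_of_mem_associatedPrimes hQass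
    have h5 : IsNoetherianRing (Localization.AtPrime Q) :=
      IsLocalization.isNoetherianRing Q.primeCompl _ inferInstance
    have h6 : Module.Finite (Localization.AtPrime Q)
        (LocalizedModule Q.primeCompl (QuotSMulTop (algebraMap A 𝓕.extRees x) 𝓕.extRees)) :=
      Module.Finite.of_isLocalizedModule Q.primeCompl (LocalizedModule.mkLinearMap Q.primeCompl _)
    exact not_one_le_depth_of_mem_associatedPrimes _ h4 h3

end Noeth

end Groth.Agent.Lib.Helper11.FiltRees
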