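import Groth.Agent.Lib.Helper11.GrLesH
import Groth.Agent.Lib.Helper16.LocCohFlatBaseChange
import Groth.Agent.Lib.Helper16.LocCohGrothVanish

set_option autoImplicit false
set_option linter.unusedSectionVars false
set_option linter.style.haveILetI false
universe u

namespace Groth.Agent.Lib.Helper11.GrVan

open DirectSum GrLC Groth.Agent.Lib.Helper11.GrLCLib

section Socle

variable {R : Type u} [CommRing R] (𝒜 : ℤ → AddSubgroup R) [GradedRing 𝒜]
variable {T : Type u} [AddCommGroup T] [Module R T] (𝒯 : ℤ → AddSubgroup T)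
  [DirectSum.Decomposition 𝒯] [SetLike.GradedSMul 𝒜 𝒯]

/-- component of a product with a homogeneous scalar. -/
lemma decompose_smul_of_mem {a : R} {h : ℤ} (ha : a ∈ 𝒜 h) (y : T) (j : ℤ) :
    (decompose 𝒯 (a • y) (j + h) : T) = a • (decompose 𝒯 y j : T) :=
  decompose_map_deg 𝒯 𝒯 (isGrHomDeg_lsmul 𝒯 𝒜 ha) y j

/-- if a homogeneous ideal kills `y` it kills every component of `y`. -/
lemma smul_decompose_eq_zero (m : HomogeneousIdeal 𝒜) {y : T} (hy : ∀ a ∈ m.toIdeal, a • y = 0)
    {a : R} (ha : a ∈ m.toIdeal) (j : ℤ) : a • (decompose 𝒯 y j : T) = 0 := by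
  classical
  rw [← DirectSum.sum_support_decompose 𝒜 a, Finset.sum_smul]
  apply Finset.sum_eq_zero
  intro h _
  have hah : (decompose 𝒜 a h : R) ∈ m.toIdeal := m.isHomogeneous h ha
  rw [← decompose_smul_of_mem 𝒜 𝒯 (SetLike.coe_mem (decompose 𝒜 a h)) y j, hy _ hah,
    decompose_zero, DirectSum.zero_apply, ZeroMemClass.coe_zero]

include 𝒯 in
/-- Elements outside a *maximal ideal `m` act injectively on the `m`-socle of a graded module. -/
theorem eq_zero_of_smul_eq_zero_of_socle {m : HomogeneousIdeal 𝒜} (hm : IsCoatom m) {s : R}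
    (hs : s ∉ m.toIdeal) {y : T} (hy : ∀ a ∈ m.toIdeal, a • y = 0) (hsy : s • y = 0) : y = 0 := by
  classical
  by_contra hy0
  -- top degree of `y`
  have hsupp : (decompose 𝒯 y).support.Nonempty := by
    rw [Finset.nonempty_iff_ne_empty]
    intro he
    apply hy0
    rw [← DirectSum.sum_support_decompose 𝒯 y, he, Finset.sum_empty]
  set j₀ := (decompose 𝒯 y).support.max' hsupp with hj₀
  have hj₀mem : j₀ ∈ (decompose 𝒯 y).support := Finset.max'_mem _ _
  have hyj₀ : (decompose 𝒯 y j₀ : T) ≠ 0 := by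
    intro h
    rw [DFinsupp.mem_support_toFun] at hj₀mem
    exact hj₀mem (Subtype.ext h)
  have hygt : ∀ j, j₀ < j → (decompose 𝒯 y j : T) = 0 := by
    intro j hj
    by_contra h
    have : j ∈ (decompose 𝒯 y).support := by
      rw [DFinsupp.mem_support_toFun]
      intro h'
      exact h (congrArg Subtype.val h')
    exact absurd (Finset.le_max' _ _ this) (not_le.2 hj)
  -- top degree of `s` outside `m`
  let H := (decompose 𝒜 s).support.filter fun h => (decompose 𝒜 s h : R) ∉ m.toIdeal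
  have hH : H.Nonempty := by
    rw [Finset.nonempty_iff_ne_empty]
    intro he
    apply hs
    rw [← DirectSum.sum_support_decompose 𝒜 s]
    apply Ideal.sum_mem
    intro h hh
    by_contra hn
    have : h ∈ H := Finset.mem_filter.2 ⟨hh, hn⟩
    rw [he] at this
    exact absurd this (Finset.notMem_empty _)
  set h₀ := H.max' hH with hh₀
  have hh₀mem : h₀ ∈ H := Finset.max'_mem _ _
  have hsh₀ : (decompose 𝒜 s h₀ : R) ∉ m.toIdeal := (Finset.mem_filter.1 hh₀mem).2
  have hsgt : ∀ h, h₀ < h → (decompose 𝒜 s h : R) ∈ m.toIdeal := by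
    intro h hh
    by_contra hn
    have hsup : h ∈ (decompose 𝒜 s).support := by
      rw [DFinsupp.mem_support_toFun]
      intro h'
      apply hn
      rw [h']
      exact zero_mem _
    have : h ∈ H := Finset.mem_filter.2 ⟨hsup, hn⟩
    exact absurd (Finset.le_max' _ _ this) (not_le.2 hh)
  -- the component of `s • y` in degree `h₀ + j₀`
  have hcomp : (decompose 𝒯 (s • y) (j₀ + h₀) : T) =
      (decompose 𝒜 s h₀ : R) • (decompose 𝒯 y j₀ : T) := by
    conv_lhs => rw [← DirectSum.sum_support_decompose 𝒜 s, Finset.sum_smul]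
    rw [decompose_sum, DFinsupp.finsetSum_apply, AddSubmonoidClass.coe_finsetSum]
    rw [Finset.sum_eq_single h₀]
    · exact decompose_smul_of_mem 𝒜 𝒯 (SetLike.coe_mem _) y j₀
    · intro h _ hne
      have e : j₀ + h₀ = (j₀ + h₀ - h) + h := by ring
      rw [e, decompose_smul_of_mem 𝒜 𝒯 (SetLike.coe_mem _) y (j₀ + h₀ - h)]
      rcases lt_or_gt_of_ne hne with hlt | hgt
      · rw [hygt (j₀ + h₀ - h) (by omega), smul_zero]
      · exact smul_decompose_eq_zero 𝒜 𝒯 m hy (hsgt h hgt) _
    · intro hn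
      rw [DFinsupp.notMem_support_iff] at hn
      rw [hn, ZeroMemClass.coe_zero, zero_smul, decompose_zero, DirectSum.zero_apply,
        ZeroMemClass.coe_zero]
  rw [hsy, decompose_zero, DirectSum.zero_apply, ZeroMemClass.coe_zero] at hcomp
  obtain ⟨a, t, ha, hat⟩ := Groth.Agent.Lib.Helper11.GrGor.exists_mul_sub_one_mem_of_isCoatom 𝒜 hm
    ⟨h₀, SetLike.coe_mem (decompose 𝒜 s h₀)⟩ hsh₀
  apply hyj₀
  calc (decompose 𝒯 y j₀ : T) = (1 : R) • (decompose 𝒯 y j₀ : T) := (one_smul _ _).symm
    _ = (a + t * (decompose 𝒜 s h₀ : R)) • (decompose 𝒯 y j₀ : T) := by rw [hat]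
    _ = 0 := by
      rw [add_smul, mul_smul, ← hcomp, smul_zero, add_zero]
      exact smul_decompose_eq_zero 𝒜 𝒯 m hy ha j₀

include 𝒯 in
/-- Elements outside a *maximal ideal `m` act injectively on `m`-power torsion elements of a graded
module. -/
theorem eq_zero_of_smul_eq_zero_of_torsion {m : HomogeneousIdeal 𝒜} (hm : IsCoatom m) {s : R}
    (hs : s ∉ m.toIdeal) {z : T} (hz : ∃ k : ℕ, ∀ a ∈ m.toIdeal ^ k, a • z = 0)
    (hsz : s • z = 0) : z = 0 := by
  classical
  by_contra hz0
  have hk0 : Nat.find hz ≠ 0 := by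
    intro h0
    have := Nat.find_spec hz
    rw [h0, pow_zero] at this
    apply hz0
    have h1 := this 1 (by rw [Ideal.one_eq_top]; exact Submodule.mem_top)
    rwa [one_smul] at h1
  obtain ⟨k', hk'⟩ := Nat.exists_eq_succ_of_ne_zero hk0
  have hmin : ¬ ∀ a ∈ m.toIdeal ^ k', a • z = 0 := by
    intro h
    have := Nat.find_min' hz h
    omega
  push Not at hmin
  obtain ⟨r, hr, hrz⟩ := hmin
  apply hrz
  apply eq_zero_of_smul_eq_zero_of_socle 𝒜 𝒯 hm hs
  · intro a ha
    rw [smul_smul]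
    have hspec := Nat.find_spec hz
    rw [hk'] at hspec
    apply hspec
    rw [Nat.succ_eq_add_one, pow_succ']
    exact Ideal.mul_mem_mul ha hr
  · rw [smul_comm, hsz, smul_zero]

end Socle

section GV

variable {R : Type u} [CommRing R] [IsNoetherianRing R] {𝒜 : ℤ → AddSubgroup R} [GradedRing 𝒜]
variable {M : Type u} [AddCommGroup M] [Module R M] {ℳ : ℤ → AddSubgroup M}
  [DirectSum.Decomposition ℳ] [SetLike.GradedSMul 𝒜 ℳ]

open TensorProduct in
/-- ordinary statement: the localisation at `p` of `H^i_p(M)` vanishes above the height of `p`. -/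
theorem subsingleton_tensor_H (p : Ideal R) [hp : p.IsPrime] (n : ℕ) (hn : p.height = n) (i : ℕ)
    (hi : n < i) :
    Subsingleton (Localization.AtPrime p ⊗[R] LocCoh.H p i M) := by
  obtain ⟨e⟩ := Groth.Agent.Lib.Helper16.DTL.nonempty_H_baseChange_equiv
    (R' := Localization.AtPrime p) p i M
  have hdim : Module.supportDim (Localization.AtPrime p) (Localization.AtPrime p ⊗[R] M) <
      ((n + 1 : ℕ) : WithBot ℕ∞) := by
    refine lt_of_le_of_lt (Module.supportDim_le_ringKrullDim _ _) ?_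
    rw [IsLocalization.AtPrime.ringKrullDim_eq_height p, hn]
    exact_mod_cast Nat.lt_succ_self n
  have := Groth.Agent.Lib.Helper16.LC.subsingleton_H_of_supportDim_lt
    (p.map (algebraMap R (Localization.AtPrime p))) (Localization.AtPrime p ⊗[R] M) (n + 1) hdim i hi
  exact e.injective.subsingleton

/-- **Graded Grothendieck vanishing**: for a *maximal ideal `m` of a Noetherian ℤ-graded ring, the
graded local cohomology `*H^i_m(M)` vanishes for `i > ht m`. -/
theorem subsingleton_H_of_height_lt {m : HomogeneousIdeal 𝒜} (hm : IsCoatom m)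
    (E : StarInjRes 𝒜 ℳ) (n : ℕ) (hn : m.toIdeal.height = n) (i : ℕ) (hi : n < i) :
    Subsingleton (E.H m i) := by
  have hmp : m.toIdeal.IsPrime := Groth.Agent.Lib.Helper11.GrGor.isPrime_of_isCoatom 𝒜 hm
  letI : DirectSum.Decomposition (E.Hgr m i) := (Hgr_isInternal 𝒜 ℳ E m i).chooseDecomposition
  letI : SetLike.GradedSMul 𝒜 (E.Hgr m i) := ⟨by
    intro h j r z hr hz
    have := Groth.Agent.Lib.Helper11.GrLes.smul_mem_Hcomp E m i hr hz
    rwa [add_comm] at this⟩
  obtain ⟨e⟩ := Groth.Agent.Lib.Helper11.GrLCOrd.nonempty_H_equiv E m i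
  have hsub := subsingleton_tensor_H (M := M) m.toIdeal n hn i hi
  have hloc : IsLocalizedModule m.toIdeal.primeCompl
      (TensorProduct.mk R (Localization.AtPrime m.toIdeal) (LocCoh.H m.toIdeal i M) 1) :=
    (isLocalizedModule_iff_isBaseChange m.toIdeal.primeCompl (Localization.AtPrime m.toIdeal) _).2
      (TensorProduct.isBaseChange R (LocCoh.H m.toIdeal i M) (Localization.AtPrime m.toIdeal))
  suffices h0 : ∀ z : E.H m i, z = 0 from ⟨fun a b => by rw [h0 a, h0 b]⟩
  intro z
  have h1 : TensorProduct.mk R (Localization.AtPrime m.toIdeal) (LocCoh.H m.toIdeal i M) 1 (e z) = 0 :=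
    Subsingleton.elim _ _
  obtain ⟨s, hs⟩ := (IsLocalizedModule.eq_zero_iff m.toIdeal.primeCompl _).1 h1
  have hsz : (s : R) • z = 0 := by
    apply e.injective
    rw [map_smul, map_zero]
    exact hs
  obtain ⟨w, rfl⟩ := Submodule.mkQ_surjective _ z
  obtain ⟨k, hk⟩ := w.2.1
  refine eq_zero_of_smul_eq_zero_of_torsion 𝒜 (E.Hgr m i) hm s.2 ⟨k, fun a ha => ?_⟩ hsz
  have h0 : a • w = 0 := by
    apply Subtype.ext
    rw [Submodule.coe_smul, Submodule.coe_zero]
    exact hk a ha
  rw [← map_smul, h0, map_zero]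

end GV

end Groth.Agent.Lib.Helper11.GrVan
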