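import Groth.Agent.Lib.Helper11.Conorm2

set_option autoImplicit false
set_option linter.unusedSectionVars false
universe u
open TensorProduct

namespace Groth.Agent.Lib.Helper11.FundLoc
open Groth.Agent.Lib.Helper11.NormDet Groth.Agent.Lib.Helper11.Conorm

section detbc
variable (A B : Type u) [CommRing A] [CommRing B] [Algebra A B]
  (Q : Type u) [AddCommGroup Q] [Module A Q]

variable {A Q} in
/-- base-changed coordinates -/
noncomputable def wBC {n : ℕ} (v : Q →ₗ[A] (Fin n → A)) : (B ⊗[A] Q) →ₗ[B] (Fin n → B) :=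
  LinearMap.liftBaseChange B
    ((LinearMap.pi fun i => (Algebra.linearMap A B) ∘ₗ (LinearMap.proj i)) ∘ₗ v)

variable {A Q} in
theorem wBC_tmul {n : ℕ} (v : Q →ₗ[A] (Fin n → A)) (b : B) (q : Q) (i : Fin n) :
    wBC B v (b ⊗ₜ q) i = b * algebraMap A B (v q i) := by
  simp [wBC]

variable {A Q} in
theorem wBC_frame {n : ℕ} (e : Fin n → Q) (v : Q →ₗ[A] (Fin n → A)) (s : A)
    (h : ∀ m : Q, ∑ i, v m i • e i = s • m) (x : B ⊗[A] Q) :
    ∑ i, wBC B v x i • ((1 : B) ⊗ₜ[A] e i) = algebraMap A B s • x := by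
  induction x using TensorProduct.induction_on with
  | zero => simp
  | tmul b q =>
    simp only [wBC_tmul, TensorProduct.smul_tmul', smul_eq_mul, mul_one]
    have : ∀ i, (b * algebraMap A B (v q i)) ⊗ₜ[A] e i = b ⊗ₜ[A] (v q i • e i) := by
      intro i
      rw [TensorProduct.tmul_smul, TensorProduct.smul_tmul', Algebra.smul_def, mul_comm]
    simp only [this]
    rw [← TensorProduct.tmul_sum, h q, TensorProduct.tmul_smul, TensorProduct.smul_tmul',
      Algebra.smul_def]
  | add x y hx hy =>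
    simp only [map_add, Pi.add_apply, add_smul, Finset.sum_add_distrib, hx, hy, smul_add]

/-- base change of the top exterior power of a finite projective module of constant rank -/
theorem exists_det_baseChange_equiv [Module.Finite A Q] [Module.Projective A Q] (n : ℕ)
    (hQ : ∀ q : PrimeSpectrum A, Module.rankAtStalk Q q = n) :
    ∃ φ : (B ⊗[A] ⋀[A]^n Q) ≃ₗ[B] ⋀[B]^n (B ⊗[A] Q), ∀ z : Fin n → Q,
      φ ((1 : B) ⊗ₜ[A] exteriorPower.ιMulti A n z) =
        exteriorPower.ιMulti B n (fun i => (1 : B) ⊗ₜ[A] z i) := by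
  classical
  refine exists_linearEquiv_of_ARank1 (A := B) (G := Fin n → Q)
    (fun z => (1 : B) ⊗ₜ[A] exteriorPower.ιMulti A n z)
    (fun z => exteriorPower.ιMulti B n (fun i => (1 : B) ⊗ₜ[A] z i)) (fun P hP => ?_)
  have hp : (P.comap (algebraMap A B)).IsPrime := Ideal.comap_isPrime _ _
  obtain ⟨e, v, s, hs, h1, h2⟩ := exists_local_frame' A A Q n hQ (P.comap (algebraMap A B))
  simp only [Algebra.algebraMap_self, RingHom.id_apply] at h1 h2
  have hsP : algebraMap A B s ∉ P := fun h => hs (Ideal.mem_comap.2 h)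
  have hX0 : ARank1 (exteriorPower.ιMulti A n e) (dTop n v) (s ^ n) := ARank1_top n e v s h2
  let dX : (B ⊗[A] ⋀[A]^n Q) →ₗ[B] B :=
    LinearMap.liftBaseChange B ((Algebra.linearMap A B) ∘ₗ (dTop n v))
  have hdX : ∀ (b : B) (y : ⋀[A]^n Q), dX (b ⊗ₜ y) = b * algebraMap A B (dTop n v y) := by
    intro b y
    simp [dX]
  have hX : ARank1 ((1 : B) ⊗ₜ[A] exteriorPower.ιMulti A n e) dX (algebraMap A B (s ^ n)) := by
    intro x
    induction x using TensorProduct.induction_on with
    | zero => simp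
    | tmul b y =>
      rw [hdX, TensorProduct.smul_tmul', smul_eq_mul, mul_one, mul_comm, ← Algebra.smul_def,
        TensorProduct.smul_tmul, hX0 y, TensorProduct.tmul_smul]
      rw [algebra_compatible_smul B (s ^ n) (b ⊗ₜ[A] y)]
    | add x y hx hy => rw [map_add, add_smul, hx, hy, smul_add]
  have hY : ARank1 (exteriorPower.ιMulti B n (fun i => (1 : B) ⊗ₜ[A] e i)) (dTop n (wBC B v))
      (algebraMap A B s ^ n) :=
    ARank1_top n (fun i => (1 : B) ⊗ₜ[A] e i) (wBC B v) (algebraMap A B s) (wBC_frame B e v s h2)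
  refine ⟨e, dX, algebraMap A B (s ^ n), dTop n (wBC B v), algebraMap A B s ^ n, ?_, ?_, hX, hY, ?_⟩
  · rw [map_pow]
    exact fun h' => hsP (hP.mem_of_pow_mem _ h')
  · exact fun h' => hsP (hP.mem_of_pow_mem _ h')
  · intro z
    refine ⟨1, fun h => hP.ne_top ((Ideal.eq_top_iff_one _).2 h), ?_⟩
    rw [one_mul, one_mul, hdX, one_mul, dTop_ιMulti, dTop_ιMulti, RingHom.map_det]
    congr 1
    ext a b
    simp [wBC_tmul]

end detbc

end Groth.Agent.Lib.Helper11.FundLoc
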