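import Groth.Agent.Lib.Helper11.FundLoc1

set_option autoImplicit false
set_option linter.unusedSectionVars false
universe u
open TensorProduct

namespace Groth.Agent.Lib.Helper11.FundLoc
open Groth.Agent.Lib.Helper11.NormDet Groth.Agent.Lib.Helper11.Conorm

section endo
variable (B : Type*) [CommRing B] (L : Type*) [AddCommGroup L] [Module B L]

/-- endomorphisms of a module that is locally approximately free of rank one are scalars -/
theorem exists_end_equiv
    (h : ∀ P : Ideal B, P.IsPrime → ∃ (g : L) (d : L →ₗ[B] B) (s : B), s ∉ P ∧ ARank1 g d s ∧ d g = s) :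
    Nonempty ((L →ₗ[B] L) ≃ₗ[B] B) := by
  have hinj : Function.Injective (LinearMap.lsmul B L) := by
    rw [injective_iff_map_eq_zero]
    intro b hb
    refine eq_zero_of_forall_prime (A := B) b (fun P hP => ?_)
    obtain ⟨g, d, s, hs, h1, h2⟩ := h P hP
    refine ⟨s, hs, ?_⟩
    have h3 : b • g = 0 := by
      have := LinearMap.congr_fun hb g
      simpa using this
    have h4 := congrArg d h3
    rw [map_smul, h2, map_zero, smul_eq_mul, mul_comm] at h4
    exact h4
  have hsurj : Function.Surjective (LinearMap.lsmul B L) := by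
    rw [← LinearMap.range_eq_top]
    refine eq_top_of_forall_prime (A := B) _ (fun P hP => ?_)
    obtain ⟨g, d, s, hs, h1, h2⟩ := h P hP
    refine ⟨s * s, fun h' => (hP.mem_or_mem h').elim hs hs, fun φ => ?_⟩
    refine ⟨s * d (φ g), ?_⟩
    ext x
    simp only [LinearMap.lsmul_apply, LinearMap.smul_apply]
    have e1 : s • φ x = d x • φ g := by rw [← map_smul, ← h1 x, map_smul]
    have e2 : s • φ g = d (φ g) • g := (h1 (φ g)).symm
    rw [mul_smul, mul_smul, e1, smul_comm s (d x) (φ g), e2, smul_comm (d x), h1 x,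
      smul_comm]
  exact ⟨(LinearEquiv.ofBijective (LinearMap.lsmul B L) ⟨hinj, hsurj⟩).symm⟩

end endo

section endtop
variable (B : Type u) [CommRing B] (Q : Type u) [AddCommGroup Q] [Module B Q]

theorem exists_end_top_equiv [Module.Finite B Q] [Module.Projective B Q] (k : ℕ)
    (hQ : ∀ q : PrimeSpectrum B, Module.rankAtStalk Q q = k) :
    Nonempty ((⋀[B]^k Q →ₗ[B] ⋀[B]^k Q) ≃ₗ[B] B) := by
  classical
  refine exists_end_equiv B _ (fun P hP => ?_)
  obtain ⟨e, v, s, hs, h1, h2⟩ := exists_local_frame' B B Q k hQ P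
  simp only [Algebra.algebraMap_self, RingHom.id_apply] at h1 h2
  refine ⟨exteriorPower.ιMulti B k e, dTop k v, s ^ k, fun h' => hs (hP.mem_of_pow_mem _ h'),
    ARank1_top k e v s h2, ?_⟩
  rw [dTop_ιMulti]
  have : (Matrix.of fun a b => v (e a) b) = s • (1 : Matrix (Fin k) (Fin k) B) := by
    ext a b
    simp [h1, Matrix.one_apply]
  rw [this, Matrix.det_smul, Matrix.det_one, Fintype.card_fin, mul_one]

end endtop

end Groth.Agent.Lib.Helper11.FundLoc
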