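import Groth.Agent.Lib.Helper11.FundLoc2
import Groth.Agent.Lib.Helper11.Conorm1
import Groth.Agent.Lib.Helper11.Conorm3

set_option autoImplicit false
set_option linter.unusedSectionVars false
universe u
open TensorProduct

namespace Groth.Agent.Lib.Helper11.FundLoc
open Groth.Agent.Lib.Helper11.NormDet Groth.Agent.Lib.Helper11.Conorm

section conormdet
variable (k A : Type u) [CommRing k] [CommRing A] [Algebra k A]

theorem exists_det_restrict [Algebra.FormallySmooth k A]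
    [Module.Finite A Ω[A⁄k]] [Module.Projective A Ω[A⁄k]]
    (n : ℕ) (hn : ∀ q : PrimeSpectrum A, Module.rankAtStalk (Ω[A⁄k]) q = n)
    (p : ℕ) (F : Fin p → A) (hreg : RingTheory.Sequence.IsWeaklyRegular A (List.ofFn F))
    (I : Ideal A) (hI : I = Ideal.span (Set.range F))
    [Algebra.FormallySmooth k (A ⧸ I)]
    [Module.Finite (A ⧸ I) Ω[(A ⧸ I)⁄k]] [Module.Projective (A ⧸ I) Ω[(A ⧸ I)⁄k]] (hpn : p ≤ n) :
    (∀ q : PrimeSpectrum (A ⧸ I), Module.rankAtStalk (Ω[(A ⧸ I)⁄k]) q = n - p) ∧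
    Nonempty (((A ⧸ I) ⊗[A] ⋀[A]^n Ω[A⁄k]) ≃ₗ[A ⧸ I] ⋀[A ⧸ I]^(n - p) Ω[(A ⧸ I)⁄k]) := by
  classical
  have hf : Function.Surjective (algebraMap A (A ⧸ I)) := Ideal.Quotient.mk_surjective
  obtain ⟨bC, -⟩ := exists_cotangent_basis F hreg I hI
  obtain ⟨eS⟩ := exists_conormal_split k A (A ⧸ I) hf
  let eJ : (RingHom.ker (algebraMap A (A ⧸ I))).Cotangent ≃ₗ[A] I.Cotangent :=
    Ideal.Cotangent.equivOfEq _ _ Ideal.mk_ker
  let eC : I.Cotangent ≃ₗ[A] (Fin p → (A ⧸ I)) := bC.equivFun.restrictScalars A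
  let e' : (Ω[(A ⧸ I)⁄k] × (Fin p → (A ⧸ I))) ≃ₗ[A] ((A ⧸ I) ⊗[A] Ω[A⁄k]) :=
    (LinearEquiv.prodComm A _ _).trans
      ((LinearEquiv.prodCongr (eC.symm.trans eJ.symm) (LinearEquiv.refl A _)).trans eS.symm)
  let e : (Ω[(A ⧸ I)⁄k] × (Fin p → (A ⧸ I))) ≃ₗ[A ⧸ I] ((A ⧸ I) ⊗[A] Ω[A⁄k]) :=
    e'.extendScalarsOfSurjective hf
  have hrank : ∀ q : PrimeSpectrum (A ⧸ I), Module.rankAtStalk (Ω[(A ⧸ I)⁄k]) q = n - p := by
    intro q
    have : Nontrivial (A ⧸ I) := q.nontrivial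
    have h1 : Module.rankAtStalk (Ω[(A ⧸ I)⁄k] × (Fin p → (A ⧸ I))) q = n := by
      rw [Module.rankAtStalk_eq_of_equiv e, Module.rankAtStalk_baseChange, hn]
    have h2 : Module.rankAtStalk (Fin p → (A ⧸ I)) q = p := by
      rw [Module.rankAtStalk_eq_finrank_of_free]
      simp
    rw [Module.rankAtStalk_prod, Pi.add_apply, h2] at h1
    omega
  refine ⟨hrank, ?_⟩
  obtain ⟨ψ⟩ := exists_det_prod_pi_equiv (A ⧸ I) p Ω[(A ⧸ I)⁄k] (n - p) n (by omega) hrank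
  obtain ⟨φ, -⟩ := exists_det_baseChange_equiv A (A ⧸ I) Ω[A⁄k] n hn
  exact ⟨φ.trans ((extPowCongr (A ⧸ I) n e).symm.trans ψ.symm)⟩

end conormdet

end Groth.Agent.Lib.Helper11.FundLoc
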