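import Groth.Agent.Lib.Helper11.GrCMGlob
import Groth.Agent.Lib.Helper16.LocCohGrothVanish

/-!
# Cohen–Macaulayness of a graded *local ring in terms of graded local cohomology
-/

set_option autoImplicit false
set_option linter.unusedSectionVars false
set_option linter.unusedVariables false
set_option linter.style.haveILetI false
universe u

namespace Groth.Agent.Lib.Helper11.GrCMGlob

open DirectSum GrLC Groth.Agent.Lib.Helper11.GrLCLib CategoryTheory

section

variable {R : Type u} [CommRing R] [IsNoetherianRing R] (𝒜 : ℤ → AddSubgroup R) [GradedRing 𝒜]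

/-- Grothendieck vanishing for graded local cohomology above the dimension. -/
theorem subsingleton_H_of_dim_lt {ι : Type} [DecidableEq ι] [AddCommGroup ι]
    {𝒜' : ι → AddSubgroup R} [GradedRing 𝒜']
    {M : Type u} [AddCommGroup M] [Module R M]
    {ℳ : ι → AddSubgroup M} [DirectSum.Decomposition ℳ] [SetLike.GradedSMul 𝒜' ℳ]
    (E : StarInjRes 𝒜' ℳ) (a : HomogeneousIdeal 𝒜') (n : ℕ)
    (hn : Module.supportDim R M ≤ (n : WithBot ℕ∞)) (i : ℕ) (hi : n < i) :
    Subsingleton (E.H a i) := by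
  obtain ⟨e⟩ := Groth.Agent.Lib.Helper11.GrLCOrd.nonempty_H_equiv E a i
  have hdim : Module.supportDim R M < ((n + 1 : ℕ) : WithBot ℕ∞) := by
    refine lt_of_le_of_lt hn ?_
    exact_mod_cast Nat.lt_succ_self n
  haveI := Groth.Agent.Lib.Helper16.LC.subsingleton_H_of_supportDim_lt a.toIdeal M (n + 1) hdim i hi
  exact e.toEquiv.subsingleton

/-- A non-negatively graded Noetherian *local ring of dimension `t` is Cohen–Macaulay iff its
graded local cohomology vanishes below `t`. -/
theorem isCohenMacaulayRing_iff_H_vanish (hpos : ∀ n : ℤ, n < 0 → 𝒜 n = ⊥)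
    (m : HomogeneousIdeal 𝒜) (hm : IsStarLocal 𝒜 m) (t : ℕ) (ht : ringKrullDim R = t)
    (I : StarInjRes 𝒜 𝒜) :
    LocCoh.IsCohenMacaulayRing R ↔ ∀ q, q < t → Subsingleton (I.H m q) := by
  have hmax := Groth.Agent.Lib.Helper11.GrLes.isMaximal_of_isCoatom 𝒜 hpos hm.1
  have hht := Groth.Agent.Lib.Helper11.GrLes.ringKrullDim_eq_height 𝒜 hpos hm
  rw [ht] at hht
  have hht' : m.toIdeal.height = (t : ℕ∞) := by exact_mod_cast hht.symm
  constructor
  · intro hCM q hq
    exact Groth.Agent.Lib.Helper11.GrLes.subsingleton_H_of_lt_height 𝒜 m hmax I t hht'.ge q hq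
  · intro h
    haveI := hmax
    haveI : m.toIdeal.IsPrime := hmax.isPrime
    haveI := Groth.Agent.Lib.Helper11.GrVan.isCohenMacaulayLocalRing_of_H_vanish 𝒜 m t hht' I h
    exact isCohenMacaulayRing_of_local 𝒜 m hm

/-- For a Cohen–Macaulay graded *local ring of dimension `r`, the graded local cohomology is
concentrated in degree `r`. -/
theorem subsingleton_H_of_ne_dim [LocCoh.IsCohenMacaulayRing R]
    (hpos : ∀ n : ℤ, n < 0 → 𝒜 n = ⊥)
    (m : HomogeneousIdeal 𝒜) (hm : IsStarLocal 𝒜 m) (r : ℕ) (hr : ringKrullDim R = r)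
    (I : StarInjRes 𝒜 𝒜) (i : ℕ) (hi : i ≠ r) : Subsingleton (I.H m i) := by
  rcases Nat.lt_or_gt_of_ne hi with h | h
  · exact ((isCohenMacaulayRing_iff_H_vanish 𝒜 hpos m hm r hr I).mp inferInstance) i h
  · refine subsingleton_H_of_dim_lt I m r ?_ i h
    rw [← hr]
    exact Module.supportDim_le_ringKrullDim R R

end

end Groth.Agent.Lib.Helper11.GrCMGlob
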