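import Mathlib
import Groth.Prelude.Def_GrLC
import Groth.Agent.Lib.Helper11.GrCoreB
import Groth.Agent.Lib.Helper11.GrHt

/-!
# Dimension of a localized finite module as a relative height
-/

set_option autoImplicit false
set_option linter.unusedSectionVars false
universe u

namespace Groth.Agent.Lib.Helper11.GrDim

open Groth.Agent.Lib.Helper11.GrHt

section Ann

variable {R : Type u} [CommRing R] (S : Submonoid R) (M : Type u) [AddCommGroup M] [Module R M]

theorem annihilator_localizedModule [Module.Finite R M] :
    Module.annihilator (Localization S) (LocalizedModule S M) =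
      (Module.annihilator R M).map (algebraMap R (Localization S)) := by
  classical
  apply le_antisymm
  · intro y hy
    obtain ⟨x, s, rfl⟩ := IsLocalization.exists_mk'_eq S y
    rw [IsLocalization.mk'_mem_map_algebraMap_iff S]
    obtain ⟨G, hG⟩ := (Module.finite_def.1 (inferInstance : Module.Finite R M))
    -- for each generator, a denominator
    have h1 : ∀ m : M, ∃ t : S, (t : R) • x • m = 0 := by
      intro m
      have h2 := Module.mem_annihilator.1 hy (LocalizedModule.mk m 1)
      have h3 : algebraMap R (Localization S) (s : R) • (IsLocalization.mk' (Localization S) x s •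
          LocalizedModule.mk m (1 : S)) = 0 := by rw [h2, smul_zero]
      rw [← mul_smul, IsLocalization.mk'_spec', algebraMap_smul, LocalizedModule.smul'_mk,
        ← LocalizedModule.zero_mk (1 : S), LocalizedModule.mk_eq] at h3
      obtain ⟨u, hu⟩ := h3
      refine ⟨u, ?_⟩
      have hu' : u • x • m = 0 := by simpa using hu
      exact hu'
    choose t ht using h1
    refine ⟨∏ m ∈ G, (t m : R), ?_, ?_⟩
    · have : ((∏ m ∈ G, t m : S) : R) = ∏ m ∈ G, (t m : R) := by simp
      rw [← this]
      exact (∏ m ∈ G, t m).2
    · rw [Module.mem_annihilator]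
      intro m
      have hm : m ∈ Submodule.span R (G : Set M) := hG ▸ Submodule.mem_top
      induction hm using Submodule.span_induction with
      | mem m hm =>
        have hm' : m ∈ G := hm
        rw [← Finset.mul_prod_erase G _ hm', mul_comm (t m : R), mul_assoc, mul_smul, mul_smul,
          ht m, smul_zero]
      | zero => rw [smul_zero]
      | add a b _ _ ha hb => rw [smul_add, ha, hb, add_zero]
      | smul r a _ ha => rw [smul_comm, ha, smul_zero]
  · rw [Ideal.map_le_iff_le_comap]
    intro a ha
    rw [Ideal.mem_comap, Module.mem_annihilator]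
    intro m
    induction m using LocalizedModule.induction_on with
    | h n s =>
      rw [algebraMap_smul, LocalizedModule.smul'_mk, Module.mem_annihilator.1 ha n,
        LocalizedModule.zero_mk]

end Ann

section Dim

variable {R : Type u} [CommRing R]

theorem ringKrullDim_quotient_map_atPrime (I q : Ideal R) [hq : q.IsPrime] (hIq : I ≤ q) :
    ringKrullDim (Localization.AtPrime q ⧸ I.map (algebraMap R (Localization.AtPrime q))) =
      ((q.map (Ideal.Quotient.mk I)).height : WithBot ℕ∞) := by
  have hprime : (q.map (Ideal.Quotient.mk I)).IsPrime := Ideal.isPrime_map_quotientMk_of_isPrime hIq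
  have heq : Algebra.algebraMapSubmonoid (R ⧸ I) q.primeCompl =
      (q.map (Ideal.Quotient.mk I)).primeCompl := by
    ext x
    obtain ⟨x, rfl⟩ := Ideal.Quotient.mk_surjective x
    have hcomap := Ideal.comap_map_mk hIq
    constructor
    · rintro ⟨s, hs, hsx⟩ hx
      apply hs
      have : Ideal.Quotient.mk I s ∈ q.map (Ideal.Quotient.mk I) := by
        have h1 : algebraMap R (R ⧸ I) s = Ideal.Quotient.mk I s := rfl
        rw [← h1, hsx]
        exact hx
      rw [← hcomap]
      exact this
    · intro hx
      refine ⟨x, ?_, rfl⟩
      intro hxq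
      exact hx (Ideal.mem_map_of_mem _ hxq)
  have inst : IsLocalization (Algebra.algebraMapSubmonoid (R ⧸ I) q.primeCompl)
      (Localization.AtPrime q ⧸ I.map (algebraMap R (Localization.AtPrime q))) := inferInstance
  rw [heq] at inst
  exact IsLocalization.AtPrime.ringKrullDim_eq_height (q.map (Ideal.Quotient.mk I)) _

theorem supportDim_localization_eq_relHt (q : Ideal R) [hq : q.IsPrime] (M : Type u)
    [AddCommGroup M] [Module R M] [Module.Finite R M] (hq' : Module.annihilator R M ≤ q) :
    Module.supportDim (Localization.AtPrime q) (LocalizedModule q.primeCompl M) =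
      ((relHt (Module.annihilator R M) q : ℕ∞) : WithBot ℕ∞) := by
  rw [Module.supportDim_eq_ringKrullDim_quotient_annihilator,
    annihilator_localizedModule q.primeCompl M]
  exact ringKrullDim_quotient_map_atPrime _ q hq'

end Dim

section Graded

open DirectSum Groth.Agent.Lib.Helper11.GrCore

variable {ι : Type} [DecidableEq ι] [AddCommGroup ι]
variable {R : Type u} [CommRing R] (𝒜 : ι → AddSubgroup R) [GradedRing 𝒜]
variable {M : Type u} [AddCommGroup M] [Module R M] (ℳ : ι → AddSubgroup M)
  [DirectSum.Decomposition ℳ] [SetLike.GradedSMul 𝒜 ℳ]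

include ℳ in
theorem annihilator_isHomogeneous : (Module.annihilator R M).IsHomogeneous 𝒜 := by
  intro g r hr
  rw [Module.mem_annihilator] at hr ⊢
  intro m
  induction m using DirectSum.Decomposition.inductionOn ℳ with
  | zero => rw [smul_zero]
  | @homogeneous h m =>
    rw [← decompose_smul_right 𝒜 ℳ m.2 r g, hr, decompose_zero, DirectSum.zero_apply,
      ZeroMemClass.coe_zero]
  | add a b ha hb => rw [smul_add, ha, hb, add_zero]

end Graded

end Groth.Agent.Lib.Helper11.GrDim
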