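import Mathlib
import Groth.Agent.Lib.Helper11.HSDeg

set_option autoImplicit false
set_option linter.unusedSectionVars false
universe u
open Polynomial PolynomialModule Pointwise

namespace Groth.Agent.Lib.Helper11.HS

section RelLength

variable {A : Type u} [CommRing A] {M T : Type u} [AddCommGroup M] [Module A M] [AddCommGroup T]
  [Module A T]

/-- `ℓ(M/N₁) ≤ ℓ(M/N₂) + ℓ(T)` if `N₂/N₁` embeds into `T` -/
theorem length_quot_le_add (N₁ N₂ : Submodule A M) (h12 : N₁ ≤ N₂) (φ : ↥N₂ →ₗ[A] T)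
    (hφ : ∀ v : N₂, φ v = 0 → (v : M) ∈ N₁) :
    Module.length A (M ⧸ N₁) ≤ Module.length A (M ⧸ N₂) + Module.length A T := by
  let K : Submodule A ↥N₂ := N₁.comap N₂.subtype
  let f : (↥N₂ ⧸ K) →ₗ[A] M ⧸ N₁ := Submodule.mapQ K N₁ N₂.subtype le_rfl
  let g : (M ⧸ N₁) →ₗ[A] M ⧸ N₂ := Submodule.mapQ N₁ N₂ LinearMap.id (by
    rw [Submodule.comap_id]; exact h12)
  have hf : Function.Injective f := by
    rw [← LinearMap.ker_eq_bot]
    show LinearMap.ker (Submodule.mapQ K N₁ N₂.subtype le_rfl) = ⊥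
    rw [Submodule.ker_mapQ]
    exact Submodule.mkQ_map_self K
  have hg : Function.Surjective g := by
    intro v
    obtain ⟨m, rfl⟩ := Submodule.Quotient.mk_surjective _ v
    exact ⟨Submodule.Quotient.mk m, rfl⟩
  have hfg : Function.Exact f g := by
    intro v
    obtain ⟨m, rfl⟩ := Submodule.Quotient.mk_surjective _ v
    show (Submodule.Quotient.mk m : M ⧸ N₂) = 0 ↔ _
    rw [Submodule.Quotient.mk_eq_zero]
    constructor
    · intro hm
      exact ⟨Submodule.Quotient.mk ⟨m, hm⟩, rfl⟩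
    · rintro ⟨w, hw⟩
      obtain ⟨⟨m', hm'⟩, rfl⟩ := Submodule.Quotient.mk_surjective _ w
      have : (Submodule.Quotient.mk m' : M ⧸ N₁) = Submodule.Quotient.mk m := hw
      rw [Submodule.Quotient.eq] at this
      have h2 : m = m' - (m' - m) := by abel
      rw [h2]
      exact sub_mem hm' (h12 this)
  rw [Module.length_eq_add_of_exact f g hf hg hfg, add_comm]
  refine add_le_add le_rfl ?_
  -- `N₂/K` embeds into `T`
  have hK : LinearMap.ker φ ≤ K := fun v hv => hφ v (LinearMap.mem_ker.1 hv)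
  have h1 : Module.length A (↥N₂ ⧸ K) ≤ Module.length A (↥N₂ ⧸ LinearMap.ker φ) := by
    refine Module.length_le_of_surjective (Submodule.mapQ (LinearMap.ker φ) K LinearMap.id (by
      rw [Submodule.comap_id]; exact hK)) ?_
    intro v
    obtain ⟨m, rfl⟩ := Submodule.Quotient.mk_surjective _ v
    exact ⟨Submodule.Quotient.mk m, rfl⟩
  refine le_trans h1 ?_
  rw [(LinearMap.quotKerEquivRange φ).length_eq]
  exact Module.length_le_of_injective _ (Submodule.subtype_injective _)

end RelLength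

end Groth.Agent.Lib.Helper11.HS

namespace Groth.Agent.Lib.Helper11.HS

section AbstractKer

variable {A : Type u} [CommRing A] {R : Type u} [CommRing R] [Algebra A R]
  {s : ℕ} {x : Fin s → R}
  {G : Type u} [AddCommGroup G] [Module A G] [Module R G] [IsScalarTower A R G]
  (P : GrProj (A := A) x G) (y : R) (j : Fin s) (hy : x j = y)

theorem length_kerGr_piece (k : ℕ) :
    Module.length A ((kerGr P y j hy).piece k) =
      Module.length A (LinearMap.ker (μmap P y j hy k)) := by
  have h1 := exact_α_μ P y j hy k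
  rw [LinearMap.exact_iff] at h1
  rw [h1]
  exact (LinearEquiv.ofInjective _ (αmap_injective P y j hy k)).length_eq

end AbstractKer

section AbstractKer2

variable {A : Type u} [CommRing A] {R : Type u} [CommRing R] [Algebra A R] [IsNoetherianRing R]
  {t : ℕ} {x : Fin (t + 1) → R}
  {G : Type u} [AddCommGroup G] [Module A G] [Module R G] [IsScalarTower A R G] [Module.Finite R G]
  (P : GrProj (A := A) x G)

/-- the kernel of the last generator on the graded pieces has polynomial growth of degree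
`< t`, one less than expected. -/
theorem kerMu_isEvPoly (hx : Algebra.adjoin A (Set.range x) = ⊤)
    (hfl : ∀ n, IsFiniteLength A (P.piece n)) :
    ∃ Q : ℚ[X], Q.degree < (t : WithBot ℕ) ∧
      IsEvPoly (fun n => ((Module.length A (LinearMap.ker
        (μmap P (x (Fin.last t)) (Fin.last t) rfl n))).toNat : ℤ)) Q := by
  set y := x (Fin.last t) with hy
  have hnoeth : IsNoetherian R G := isNoetherian_of_isNoetherianRing_of_finite R G
  have hKfin : Module.Finite R (kerY (G := G) y) :=
    Module.Finite.iff_fg.2 (IsNoetherian.noetherian _)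
  have hkillK : ∀ i : Fin (t + 1), t ≤ (i : ℕ) → ∀ v : kerY (G := G) y, x i • v = 0 := by
    intro i hi v
    apply Subtype.ext
    rw [Submodule.coe_smul, Submodule.coe_zero]
    have : i = Fin.last t := Fin.ext (by rw [Fin.val_last]; have := i.2; omega)
    rw [this]
    exact (mem_kerY y _).1 v.2
  have hflK : ∀ n, IsFiniteLength A ((kerGr P y (Fin.last t) rfl).piece n) := by
    intro n
    rw [← Module.length_ne_top_iff, length_kerGr_piece]
    exact ne_top_of_le_ne_top (Module.length_ne_top_iff.2 (hfl n))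
      (Module.length_le_of_injective _ (Submodule.subtype_injective _))
  obtain ⟨Q, hQdeg, hQ⟩ := hilbertSerre (A := A) (R := R) (x := x) hx t (Nat.le_succ t)
    (kerY (G := G) y) (kerGr P y (Fin.last t) rfl) hkillK hflK
  refine ⟨Q, hQdeg, ?_⟩
  obtain ⟨N, hN⟩ := hQ
  refine ⟨N, fun n hn => ?_⟩
  rw [← hN n hn]
  simp only [GrProj.len]
  rw [length_kerGr_piece]

end AbstractKer2

section Ker

variable {A : Type u} [CommRing A] (I : Ideal A) (M : Type u) [AddCommGroup M] [Module A M]
  {s : ℕ} (g : Fin s → A) (hg : ∀ i, g i ∈ I) (j : Fin s)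

include hg in
theorem smul_mem_pow_succ (i : Fin s) (n : ℕ) {m : M} (hm : m ∈ (I ^ n • ⊤ : Submodule A M)) :
    g i • m ∈ (I ^ (n + 1) • ⊤ : Submodule A M) := by
  rw [pow_succ', mul_smul]
  exact Submodule.smul_mem_smul (hg i) hm

theorem xgen_smul_ψmap (i : Fin s) (n : ℕ) (m : ↥(I ^ n • ⊤ : Submodule A M)) :
    xgen I g hg i • ψmap I M n m =
      ψmap I M (n + 1) ⟨g i • (m : M), smul_mem_pow_succ I M g hg i n m.2⟩ := by
  show xgen I g hg i • (Submodule.Quotient.mk _ : GrMod I M) = Submodule.Quotient.mk _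
  rw [← Submodule.Quotient.mk_smul]
  congr 1
  apply Subtype.ext
  rw [Submodule.coe_smul]
  show (monomial 1 (g i) : A[X]) • single A n (m : M) = single A (n + 1) (g i • (m : M))
  rw [monomial_smul_single, add_comm]

/-- `Wₙ = (Iⁿ⁺¹M : x)` -/
noncomputable abbrev Wsub (n : ℕ) : Submodule A M := LinearMap.ker (βmapx I M (g j) (n + 1))

theorem mem_Wsub (n : ℕ) (m : M) :
    m ∈ Wsub I M g j n ↔ g j • m ∈ (I ^ (n + 1) • ⊤ : Submodule A M) := by
  rw [LinearMap.mem_ker, βmapx_apply, Submodule.Quotient.mk_eq_zero]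

include hg in
theorem pow_smul_top_le_Wsub (n : ℕ) : (I ^ n • ⊤ : Submodule A M) ≤ Wsub I M g j n := by
  intro m hm
  rw [mem_Wsub]
  exact smul_mem_pow_succ I M g hg j n hm

/-- the kernel of the initial form of `g j` on the `k`-th graded piece -/
noncomputable abbrev Kmu (k : ℕ) : Submodule A ((grProj I M g hg).piece k) :=
  LinearMap.ker (μmap (grProj I M g hg) (xgen I g hg j) j rfl k)

/-- `Wₙ ∩ IᵏM → ker (x* : gr_k → gr_{k+1})` -/
noncomputable def Φmap (n k : ℕ) (hk : k + 1 ≤ n) :
    ↥(Wsub I M g j n ⊓ (I ^ k • ⊤ : Submodule A M)) →ₗ[A] ↥(Kmu I M g hg j k) :=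
  LinearMap.codRestrict _
    (LinearMap.codRestrict ((grProj I M g hg).piece k)
      ((ψmap I M k) ∘ₗ (Submodule.inclusion (inf_le_right :
        Wsub I M g j n ⊓ (I ^ k • ⊤ : Submodule A M) ≤ I ^ k • ⊤)))
      (fun v => by rw [← range_ψmap]; exact ⟨_, rfl⟩))
    (fun v => by
      rw [LinearMap.mem_ker]
      apply Subtype.ext
      show xgen I g hg j • ψmap I M k ⟨(v : M), v.2.2⟩ = 0
      rw [xgen_smul_ψmap]
      have hker := ker_ψmap I M (k + 1)
      have : (⟨g j • (v : M), smul_mem_pow_succ I M g hg j k v.2.2⟩ :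
          ↥(I ^ (k + 1) • ⊤ : Submodule A M)) ∈ LinearMap.ker (ψmap I M (k + 1)) := by
        rw [hker, Submodule.mem_comap]
        have h1 := (mem_Wsub I M g j n _).1 v.2.1
        exact Submodule.smul_mono (Ideal.pow_le_pow_right (by omega)) le_rfl h1
      exact LinearMap.mem_ker.1 this)

theorem Φmap_eq_zero (n k : ℕ) (hk : k + 1 ≤ n)
    (v : ↥(Wsub I M g j n ⊓ (I ^ k • ⊤ : Submodule A M))) (hv : Φmap I M g hg j n k hk v = 0) :
    (v : M) ∈ Wsub I M g j n ⊓ (I ^ (k + 1) • ⊤ : Submodule A M) := by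
  refine ⟨v.2.1, ?_⟩
  have h1 : ψmap I M k ⟨(v : M), v.2.2⟩ = 0 := congrArg Subtype.val (congrArg Subtype.val hv)
  have h2 : (⟨(v : M), v.2.2⟩ : ↥(I ^ k • ⊤ : Submodule A M)) ∈ LinearMap.ker (ψmap I M k) :=
    LinearMap.mem_ker.2 h1
  rw [ker_ψmap, Submodule.mem_comap] at h2
  exact h2

theorem length_quot_W_step (n k : ℕ) (hk : k + 1 ≤ n) :
    Module.length A (M ⧸ (Wsub I M g j n ⊓ (I ^ (k + 1) • ⊤ : Submodule A M))) ≤
      Module.length A (M ⧸ (Wsub I M g j n ⊓ (I ^ k • ⊤ : Submodule A M))) +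
        Module.length A (Kmu I M g hg j k) := by
  refine length_quot_le_add _ _ (inf_le_inf le_rfl ?_) (Φmap I M g hg j n k hk)
    (Φmap_eq_zero I M g hg j n k hk)
  rw [pow_succ', mul_smul]
  exact Submodule.smul_le_right

theorem length_quot_W_chain (n b : ℕ) (t : ℕ) (hbt : b + t ≤ n) :
    Module.length A (M ⧸ (Wsub I M g j n ⊓ (I ^ (b + t) • ⊤ : Submodule A M))) ≤
      Module.length A (M ⧸ (Wsub I M g j n ⊓ (I ^ b • ⊤ : Submodule A M))) +
        ∑ i ∈ Finset.range t, Module.length A (Kmu I M g hg j (b + i)) := by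
  induction t with
  | zero => simp
  | succ t ih =>
    refine le_trans (length_quot_W_step I M g hg j n (b + t) (by omega)) ?_
    refine le_trans (add_le_add (ih (by omega)) le_rfl) ?_
    rw [Finset.sum_range_succ, add_assoc]

end Ker

end Groth.Agent.Lib.Helper11.HS

namespace Groth.Agent.Lib.Helper11.HS

section Star

variable {A : Type u} [CommRing A] [IsNoetherianRing A] (I : Ideal A) (M : Type u) [AddCommGroup M]
  [Module A M] [Module.Finite A M] {s : ℕ} (g : Fin s → A) (hg : ∀ i, g i ∈ I) (j : Fin s)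

theorem exists_Wsub_le (hx : IsSMulRegular M (g j)) :
    ∃ c : ℕ, ∀ b : ℕ, Wsub I M g j (b + c) ≤ (I ^ b • ⊤ : Submodule A M) := by
  obtain ⟨c, hc⟩ := artinRees I M (LinearMap.range (LinearMap.lsmul A M (g j)))
  refine ⟨c, fun b m hm => ?_⟩
  rw [mem_Wsub] at hm
  have h1 : g j • m ∈ (I ^ (b + c) • ⊤ : Submodule A M) ⊓
      LinearMap.range (LinearMap.lsmul A M (g j)) :=
    ⟨Submodule.smul_mono (Ideal.pow_le_pow_right (Nat.le_succ _)) le_rfl hm, ⟨m, rfl⟩⟩
  have h2 := hc b h1
  have h3 : (I ^ b • LinearMap.range (LinearMap.lsmul A M (g j)) : Submodule A M) =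
      Submodule.map (LinearMap.lsmul A M (g j)) (I ^ b • ⊤ : Submodule A M) := by
    rw [Submodule.map_smul'', Submodule.map_top]
  rw [h3] at h2
  obtain ⟨m', hm', h⟩ := h2
  have : m' = m := hx h
  rwa [← this]

theorem star_ineq (hx : IsSMulRegular M (g j)) :
    ∃ c : ℕ, ∀ b : ℕ,
      Module.length A (Sq I M (b + c)) + Module.length A (Sq I (QuotSMulTop (g j) M) (b + c + 1)) ≤
        Module.length A (Sq I M (b + c + 1)) +
          ∑ i ∈ Finset.range c, Module.length A (Kmu I M g hg j (b + i)) := by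
  obtain ⟨c, hc⟩ := exists_Wsub_le I M g j hx
  refine ⟨c, fun b => ?_⟩
  have h1 := length_quot_W_chain I M g hg j (b + c) b c le_rfl
  rw [inf_eq_right.2 (pow_smul_top_le_Wsub I M g hg j (b + c)), inf_eq_left.2 (hc b)] at h1
  have h2 : Module.length A (M ⧸ Wsub I M g j (b + c)) =
      Module.length A (LinearMap.range (βmapx I M (g j) (b + c + 1))) :=
    (LinearMap.quotKerEquivRange _).length_eq
  rw [h2] at h1
  rw [length_Sq_eq I M (g j) (b + c + 1)]
  calc Module.length A (Sq I M (b + c)) + Module.length A (Sq I (QuotSMulTop (g j) M) (b + c + 1))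
      ≤ (Module.length A (LinearMap.range (βmapx I M (g j) (b + c + 1))) +
          ∑ i ∈ Finset.range c, Module.length A (Kmu I M g hg j (b + i))) +
          Module.length A (Sq I (QuotSMulTop (g j) M) (b + c + 1)) := add_le_add h1 le_rfl
    _ = _ := by ring

end Star

end Groth.Agent.Lib.Helper11.HS

namespace Groth.Agent.Lib.Helper11.HS

section PolyCoeff

/-- the coefficient of `Xᵗ` in `P(X + c)` for `deg P ≤ t + 1` -/
theorem coeff_comp_X_add_C (P : ℚ[X]) (c : ℚ) (t : ℕ) (hP : P.natDegree ≤ t + 1) :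
    (P.comp (X + C c)).coeff t = P.coeff t + (t + 1) * c * P.coeff (t + 1) := by
  rw [comp_eq_sum_left, sum_over_range' _ (by intro n; simp) (t + 2) (by omega), finsetSum_coeff]
  simp only [coeff_C_mul, coeff_X_add_C_pow]
  rw [Finset.sum_range_succ, Finset.sum_range_succ, Finset.sum_eq_zero]
  · simp only [zero_add, Nat.sub_self, pow_zero, Nat.choose_self, Nat.cast_one, mul_one,
      Nat.add_sub_cancel_left, pow_one, Nat.choose_succ_self_right, Nat.cast_add]
    ring
  · intro i hi
    rw [Finset.mem_range] at hi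
    rw [Nat.choose_eq_zero_of_lt hi]
    simp

theorem coeff_comp_X_add_C_top (P : ℚ[X]) (c : ℚ) (t : ℕ) (hP : P.natDegree ≤ t) :
    (P.comp (X + C c)).coeff t = P.coeff t := by
  have h0 : P.coeff (t + 1) = 0 := coeff_eq_zero_of_natDegree_lt (by omega)
  rw [coeff_comp_X_add_C P c t (by omega), h0]
  ring

theorem coeff_Δ (P : ℚ[X]) (t : ℕ) (hP : P.natDegree ≤ t + 1) :
    (Δ P).coeff t = (t + 1) * P.coeff (t + 1) := by
  unfold Δ
  have := coeff_comp_X_add_C P 1 t hP
  rw [map_one] at this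
  rw [coeff_sub, this]
  ring


end PolyCoeff

section E3

variable {A : Type u} [CommRing A] [IsNoetherianRing A] (I : Ideal A) (M : Type u) [AddCommGroup M]
  [Module A M] [Module.Finite A M] {t : ℕ} (g : Fin (t + 1) → A)

theorem degree_sum_comp_le (Q : ℚ[X]) (c : ℕ) :
    (∑ i ∈ Finset.range c, Q.comp (X + C (i : ℚ))).degree ≤ Q.degree := by
  refine le_trans (degree_sum_le _ _) ?_
  rw [Finset.sup_le_iff]
  intro i _
  rw [degree_comp_X_add_C]

/-- integer form of `star_ineq` -/
theorem star_ineq_int (hg : ∀ i, g i ∈ I) (j : Fin (t + 1)) (hx : IsSMulRegular M (g j))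
    (h : FL I M) :
    ∃ c : ℕ, ∀ b : ℕ,
      samuel I M (b + c) + samuel I (QuotSMulTop (g j) M) (b + c + 1) ≤
        samuel I M (b + c + 1) +
          ∑ i ∈ Finset.range c, ((Module.length A (Kmu I M g hg j (b + i))).toNat : ℤ) := by
  have hq : FL I (QuotSMulTop (g j) M) := h.of_surjective I _ (Submodule.mkQ_surjective _)
  have hflp : ∀ n, Module.length A ((grProj I M g hg).piece n) ≠ ⊤ := by
    intro n
    rw [length_piece, Module.length_ne_top_iff]
    exact isFiniteLength_range_θmap I M h.isFiniteLength_quot n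
  have hk : ∀ k, Module.length A (Kmu I M g hg j k) ≠ ⊤ := fun k =>
    ne_top_of_le_ne_top (hflp k) (Module.length_le_of_injective _ (Submodule.subtype_injective _))
  obtain ⟨c, hc⟩ := star_ineq I M g hg j hx
  refine ⟨c, fun b => ?_⟩
  have h1 := hc b
  rw [← ENat.natCast_toNat (Module.length_ne_top_iff.2 (h (b + c))),
    ← ENat.natCast_toNat (Module.length_ne_top_iff.2 (hq (b + c + 1))),
    ← ENat.natCast_toNat (Module.length_ne_top_iff.2 (h (b + c + 1))),
    Finset.sum_congr rfl (fun i _ => (ENat.natCast_toNat (hk (b + i))).symm), ← Nat.cast_sum] at h1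
  unfold samuel
  exact_mod_cast h1

theorem samuel_succ_le (x : A) (hx : x ∈ I) (h : FL I M) (n : ℕ) :
    samuel I M (n + 1) ≤ samuel I M n + samuel I (QuotSMulTop x M) (n + 1) := by
  rw [samuel_eq_add I M x h (n + 1)]
  have h1 := length_range_βmapx_le I M x hx n
  have h2 := ENat.toNat_le_toNat h1 (Module.length_ne_top_iff.2 (h n))
  unfold samuel
  have h3 : ((Module.length A (LinearMap.range (βmapx I M x (n + 1)))).toNat : ℤ) ≤
      ((Module.length A (Sq I M n)).toNat : ℤ) := by exact_mod_cast h2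
  linarith

/-- **the multiplicity drops exactly along a regular generator of a parameter-type ideal** -/
theorem coeff_samuelPoly_quotSMulTop (hI : I = Ideal.span (Set.range g))
    (hx : IsSMulRegular M (g (Fin.last t))) (h : FL I M) :
    (samuelPoly I (QuotSMulTop (g (Fin.last t)) M)).coeff t =
      (t + 1) * (samuelPoly I M).coeff (t + 1) := by
  have hg : ∀ i, g i ∈ I := fun i => hI ▸ Ideal.subset_span ⟨i, rfl⟩
  set x := g (Fin.last t) with hxdef
  have hq : FL I (QuotSMulTop x M) := h.of_surjective I _ (Submodule.mkQ_surjective _)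
  set P := samuelPoly I M with hPdef
  set P₁ := samuelPoly I (QuotSMulTop x M) with hP₁def
  -- degrees
  have hPdeg : P.degree < ((t + 1 + 1 : ℕ) : WithBot ℕ) := by
    obtain ⟨P', hP'deg, hP'⟩ := samuel_isEvPoly_of_gens I M g hI h.isFiniteLength_quot
    rw [hPdef, samuelPoly_eq I M hP']
    exact hP'deg
  have hP₁deg : P₁.degree < ((t + 1 : ℕ) : WithBot ℕ) :=
    degree_samuelPoly_lt_of_regular I M x h hx (t + 1) hPdeg
  have hPnat : P.natDegree ≤ t + 1 := by
    by_cases h0 : P = 0
    · rw [h0]; simp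
    · rw [degree_eq_natDegree h0] at hPdeg
      have : P.natDegree < t + 1 + 1 := by exact_mod_cast hPdeg
      omega
  have hP₁nat : P₁.natDegree ≤ t := by
    by_cases h0 : P₁ = 0
    · rw [h0]; simp
    · rw [degree_eq_natDegree h0] at hP₁deg
      have : P₁.natDegree < t + 1 := by exact_mod_cast hP₁deg
      omega
  -- the polynomial for the graded kernel
  have hflp : ∀ n, IsFiniteLength A ((grProj I M g hg).piece n) := by
    intro n
    rw [← Module.length_ne_top_iff, length_piece, Module.length_ne_top_iff]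
    exact isFiniteLength_range_θmap I M h.isFiniteLength_quot n
  obtain ⟨Q, hQdeg, N₂, hN₂⟩ := kerMu_isEvPoly (grProj I M g hg) (adjoin_xgen I g hg hI) hflp
  obtain ⟨N₀, hN₀⟩ : IsEvPoly (samuel I M) P := samuelPoly_spec I M h
  obtain ⟨N₁, hN₁⟩ : IsEvPoly (samuel I (QuotSMulTop x M)) P₁ :=
    samuelPoly_spec I (QuotSMulTop x M) hq
  obtain ⟨c, hc⟩ := star_ineq_int I M g hg (Fin.last t) hx h
  set D₀ : ℚ[X] := P + P₁.comp (X + C 1) - P.comp (X + C 1) with hD₀
  set S : ℚ[X] := ∑ i ∈ Finset.range c, Q.comp (X + C (i : ℚ)) with hS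
  have hD₀deg : (D₀.comp (X + C (c : ℚ))).degree ≤ S.degree := by
    refine degree_le_of_eventually_le _ _ ⟨max (max N₀ N₁) N₂, fun b hb => ?_⟩
    have hb0 : N₀ ≤ b := le_trans (le_trans (le_max_left _ _) (le_max_left _ _)) hb
    have hb1 : N₁ ≤ b := le_trans (le_trans (le_max_right _ _) (le_max_left _ _)) hb
    have hb2 : N₂ ≤ b := le_trans (le_max_right _ _) hb
    have e1 := hN₀ (b + c) (by omega)
    have e2 := hN₀ (b + c + 1) (by omega)
    have e3 := hN₁ (b + c + 1) (by omega)
    have hev : (D₀.comp (X + C (c : ℚ))).eval (b : ℚ) =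
        (samuel I M (b + c) : ℚ) + (samuel I (QuotSMulTop x M) (b + c + 1) : ℚ) -
          (samuel I M (b + c + 1) : ℚ) := by
      rw [e1, e2, e3, hD₀]
      simp only [eval_comp, eval_add, eval_sub, eval_X, eval_C]
      push_cast
      ring_nf
    rw [hev]
    constructor
    · have := samuel_succ_le I M x (hg _) h (b + c)
      have : (samuel I M (b + c + 1) : ℚ) ≤ (samuel I M (b + c) : ℚ) +
          (samuel I (QuotSMulTop x M) (b + c + 1) : ℚ) := by exact_mod_cast this
      linarith
    · have h1 := hc b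
      have hSev : S.eval (b : ℚ) = ∑ i ∈ Finset.range c,
          (((Module.length A (Kmu I M g hg (Fin.last t) (b + i))).toNat : ℤ) : ℚ) := by
        rw [hS, eval_finsetSum]
        refine Finset.sum_congr rfl fun i _ => ?_
        rw [hN₂ (b + i) (by omega)]
        simp only [eval_comp, eval_add, eval_X, eval_C]
        push_cast
        rfl
      rw [hSev]
      have h2 : (samuel I M (b + c) : ℚ) + (samuel I (QuotSMulTop x M) (b + c + 1) : ℚ) ≤
          (samuel I M (b + c + 1) : ℚ) + ∑ i ∈ Finset.range c,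
            (((Module.length A (Kmu I M g hg (Fin.last t) (b + i))).toNat : ℤ) : ℚ) := by
        exact_mod_cast h1
      linarith
  have hD₀lt : D₀.degree < (t : WithBot ℕ) := by
    rw [← degree_comp_X_add_C D₀ (c : ℚ)]
    exact lt_of_le_of_lt hD₀deg (lt_of_le_of_lt (degree_sum_comp_le Q c) hQdeg)
  have hD₀coeff : D₀.coeff t = 0 := coeff_eq_zero_of_degree_lt hD₀lt
  have key : P₁.comp (X + C 1) = Δ P + D₀ := by
    rw [hD₀]; unfold Δ; rw [map_one]; ring
  have h1 := coeff_comp_X_add_C_top P₁ 1 t hP₁nat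
  rw [key, Polynomial.coeff_add, hD₀coeff, add_zero, coeff_Δ P t hPnat] at h1
  exact h1.symm

end E3

end Groth.Agent.Lib.Helper11.HS
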