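import Mathlib
import Groth.Agent.Lib.Helper11.HSRegMult
import Groth.Agent.Lib.Helper11.HSExact

set_option autoImplicit false
set_option linter.unusedSectionVars false
universe u
open Polynomial Pointwise

namespace Groth.Agent.Lib.Helper11.HS

section Additive

variable {A : Type u} [CommRing A] [IsNoetherianRing A] (I : Ideal A)
  {M' M M'' : Type u} [AddCommGroup M'] [Module A M'] [AddCommGroup M] [Module A M]
  [AddCommGroup M''] [Module A M''] [Module.Finite A M]
  (f : M' →ₗ[A] M) (g : M →ₗ[A] M'')

theorem degree_samuelPoly_lt_of_gens (M : Type u) [AddCommGroup M] [Module A M]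
    [Module.Finite A M] {s : ℕ} (gen : Fin s → A)
    (hI : I = Ideal.span (Set.range gen)) (h : FL I M) :
    (samuelPoly I M).degree < ((s + 1 : ℕ) : WithBot ℕ) := by
  obtain ⟨P', hP'deg, hP'⟩ := samuel_isEvPoly_of_gens I M gen hI h.isFiniteLength_quot
  rw [samuelPoly_eq I M hP']
  exact hP'deg

/-- additivity of the top coefficient of the Samuel polynomial -/
theorem coeff_samuelPoly_additive {s : ℕ} (gen : Fin s → A)
    (hI : I = Ideal.span (Set.range gen)) (hf : Function.Injective f)
    (hg : Function.Surjective g) (hfg : Function.Exact f g) (h : FL I M) :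
    (samuelPoly I M).coeff s = (samuelPoly I M').coeff s + (samuelPoly I M'').coeff s := by
  have : Module.Finite A M'' := Module.Finite.of_surjective g hg
  have : Module.Finite A M' := Module.Finite.of_injective f hf
  have h' : FL I M' := h.of_injective I f hf
  have h'' : FL I M'' := h.of_surjective I g hg
  obtain ⟨hle, c, hc⟩ := samuel_exact_ineq I f g hf hg (LinearMap.exact_iff.1 hfg).symm h
  obtain ⟨N, hN⟩ := samuelPoly_spec I M h
  obtain ⟨N', hN'⟩ := samuelPoly_spec I M' h'
  obtain ⟨N'', hN''⟩ := samuelPoly_spec I M'' h''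
  set D : ℚ[X] := samuelPoly I M' + samuelPoly I M'' - samuelPoly I M with hD
  set E : ℚ[X] := (samuelPoly I M').comp (X + C (c : ℚ)) - samuelPoly I M' with hE
  have hEdeg : E.degree < (s : WithBot ℕ) :=
    degree_comp_add_sub_lt _ _ s (degree_samuelPoly_lt_of_gens I M' gen hI h')
  have hDdeg : (D.comp (X + C (c : ℚ))).degree ≤ E.degree := by
    refine degree_le_of_eventually_le _ _ ⟨max (max N N') N'', fun t ht => ?_⟩
    have ht0 : N ≤ t := le_trans (le_trans (le_max_left _ _) (le_max_left _ _)) ht
    have ht1 : N' ≤ t := le_trans (le_trans (le_max_right _ _) (le_max_left _ _)) ht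
    have ht2 : N'' ≤ t := le_trans (le_max_right _ _) ht
    have e1 := hN (t + c) (by omega)
    have e2 := hN' (t + c) (by omega)
    have e3 := hN'' (t + c) (by omega)
    have e4 := hN' t ht1
    have hev : (D.comp (X + C (c : ℚ))).eval (t : ℚ) = (samuel I M' (t + c) : ℚ) +
        (samuel I M'' (t + c) : ℚ) - (samuel I M (t + c) : ℚ) := by
      rw [e1, e2, e3, hD]
      simp only [eval_comp, eval_add, eval_sub, eval_X, eval_C]
      push_cast
      rfl
    have hev2 : E.eval (t : ℚ) = (samuel I M' (t + c) : ℚ) - (samuel I M' t : ℚ) := by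
      rw [e2, e4, hE]
      simp only [eval_comp, eval_add, eval_sub, eval_X, eval_C]
      push_cast
      rfl
    rw [hev, hev2]
    have i1 : (samuel I M (t + c) : ℚ) ≤ (samuel I M' (t + c) : ℚ) + (samuel I M'' (t + c) : ℚ) := by
      exact_mod_cast hle (t + c)
    have i2 : (samuel I M' t : ℚ) + (samuel I M'' (t + c) : ℚ) ≤ (samuel I M (t + c) : ℚ) := by
      exact_mod_cast hc t
    constructor <;> linarith
  have hDlt : D.degree < (s : WithBot ℕ) := by
    rw [← degree_comp_X_add_C D (c : ℚ)]
    exact lt_of_le_of_lt hDdeg hEdeg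
  have h0 : D.coeff s = 0 := coeff_eq_zero_of_degree_lt hDlt
  rw [hD, coeff_sub, coeff_add] at h0
  linarith

end Additive

section ChangeIdeal

variable {A : Type u} [CommRing A] (I J : Ideal A) (M : Type u) [AddCommGroup M] [Module A M]

theorem samuel_congr_of_pow_smul_eq [IsNoetherianRing A] [Module.Finite A M]
    (h : ∀ n, (I ^ n • ⊤ : Submodule A M) = J ^ n • ⊤) (n : ℕ) : samuel I M n = samuel J M n := by
  unfold samuel
  rw [(Submodule.quotEquivOfEq _ _ (h n)).length_eq]

theorem samuelPoly_congr_of_pow_smul_eq [IsNoetherianRing A] [Module.Finite A M]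
    (h : ∀ n, (I ^ n • ⊤ : Submodule A M) = J ^ n • ⊤) : samuelPoly I M = samuelPoly J M := by
  have : samuel I M = samuel J M := funext (samuel_congr_of_pow_smul_eq I J M h)
  unfold samuelPoly
  rw [this]

/-- if `x` kills `M`, the ideals `(x) + J` and `J` have the same powers on `M` -/
theorem pow_smul_top_eq_of_smul_eq_zero (x : A) (hx : ∀ m : M, x • m = 0) (n : ℕ) :
    ((Ideal.span {x} ⊔ J) ^ n • ⊤ : Submodule A M) = J ^ n • ⊤ := by
  induction n with
  | zero => simp
  | succ n ih =>
    rw [pow_succ', mul_smul, ih, pow_succ', mul_smul, Submodule.sup_smul]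
    have : (Ideal.span {x} • (J ^ n • ⊤ : Submodule A M)) = ⊥ := by
      rw [eq_bot_iff, Submodule.smul_le]
      intro r hr m _
      obtain ⟨a, rfl⟩ := Ideal.mem_span_singleton'.1 hr
      rw [mul_smul, hx, smul_zero]
      exact zero_mem _
    rw [this, bot_sup_eq]

end ChangeIdeal

end Groth.Agent.Lib.Helper11.HS
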