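import Mathlib

/-!
# Integral dependence on ideals and powers; little-o lemma (helper11, HS project)
-/

set_option autoImplicit false
set_option linter.unusedSectionVars false
universe u

namespace Groth.Agent.Lib.Helper11.HS

section Reduction

variable {A : Type u} [CommRing A]

/-- `(c ⊔ (x))^(n+1) ≤ c (c ⊔ (x))^n ⊔ (x^(n+1))` -/
theorem sup_span_pow_succ_le (c : Ideal A) (x : A) (n : ℕ) :
    (c ⊔ Ideal.span {x}) ^ (n + 1) ≤
      c * (c ⊔ Ideal.span {x}) ^ n ⊔ Ideal.span {x ^ (n + 1)} := by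
  induction n with
  | zero =>
    rw [pow_zero, zero_add, pow_one, pow_one, Ideal.one_eq_top, Ideal.mul_top]
  | succ n ih =>
    set c' := c ⊔ Ideal.span {x} with hc'
    have hx : x ∈ c' := Ideal.mem_sup_right (Ideal.subset_span rfl)
    rw [pow_succ' c' (n + 1)]
    refine le_trans (Ideal.mul_mono_right ih) ?_
    rw [Ideal.mul_sup]
    refine sup_le ?_ ?_
    · rw [← mul_assoc, mul_comm c' c, mul_assoc, ← pow_succ']
      exact le_sup_left
    · rw [hc', Ideal.sup_mul]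
      refine sup_le ?_ ?_
      · refine le_trans (Ideal.mul_mono_right ?_) le_sup_left
        rw [Ideal.span_singleton_le_iff_mem]
        exact Ideal.pow_mem_pow hx _
      · rw [Ideal.span_singleton_mul_span_singleton, ← pow_succ']
        exact le_sup_right

/-- if `c'^(n+1) ≤ c c'^n` then `c'^(m+n) ≤ c^m c'^n`. -/
theorem pow_add_le_of_succ_le (c c' : Ideal A) (n : ℕ) (h1 : c' ^ (n + 1) ≤ c * c' ^ n) (m : ℕ) :
    c' ^ (m + n) ≤ c ^ m * c' ^ n := by
  induction m with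
  | zero => rw [zero_add, pow_zero, one_mul]
  | succ m ih =>
    calc c' ^ (m + 1 + n) = c' ^ m * c' ^ (n + 1) := by rw [← pow_add]; congr 1; omega
      _ ≤ c' ^ m * (c * c' ^ n) := Ideal.mul_mono_right h1
      _ = c * (c' ^ m * c' ^ n) := by ring
      _ = c * c' ^ (m + n) := by rw [← pow_add]
      _ ≤ c * (c ^ m * c' ^ n) := Ideal.mul_mono_right ih
      _ = c ^ (m + 1) * c' ^ n := by rw [pow_succ' c m, mul_assoc]

/-- if `x^(n+1) ∈ c (c ⊔ (x))^n` then `(c ⊔ (x))^(m+n) ≤ c^m`. -/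
theorem sup_span_pow_add_le (c : Ideal A) (x : A) (n : ℕ)
    (hx : x ^ (n + 1) ∈ c * (c ⊔ Ideal.span {x}) ^ n) (m : ℕ) :
    (c ⊔ Ideal.span {x}) ^ (m + n) ≤ c ^ m := by
  have h1 : (c ⊔ Ideal.span {x}) ^ (n + 1) ≤ c * (c ⊔ Ideal.span {x}) ^ n := by
    refine le_trans (sup_span_pow_succ_le c x n) (sup_le le_rfl ?_)
    rw [Ideal.span_singleton_le_iff_mem]
    exact hx
  exact le_trans (pow_add_le_of_succ_le c _ n h1 m) Ideal.mul_le_left

/-- integrality equation gives `x^n ∈ c (c ⊔ (x))^(n-1)` -/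
theorem pow_mem_of_integral (b c : Ideal A) (hbc : b ≤ c) (x : A) (n : ℕ) (cf : Fin (n + 1) → A)
    (hcf : ∀ i : Fin (n + 1), cf i ∈ b ^ ((i : ℕ) + 1))
    (heq : x ^ (n + 1) + ∑ i : Fin (n + 1), cf i * x ^ (n + 1 - 1 - (i : ℕ)) = 0) :
    x ^ (n + 1) ∈ c * (c ⊔ Ideal.span {x}) ^ n := by
  set c' := c ⊔ Ideal.span {x} with hc'
  have hx : x ∈ c' := Ideal.mem_sup_right (Ideal.subset_span rfl)
  have hcc' : c ≤ c' := le_sup_left
  have h1 : x ^ (n + 1) = -∑ i : Fin (n + 1), cf i * x ^ (n + 1 - 1 - (i : ℕ)) :=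
    eq_neg_of_add_eq_zero_left heq
  rw [h1]
  refine neg_mem (Ideal.sum_mem _ fun i _ => ?_)
  have hi : (i : ℕ) ≤ n := Nat.lt_succ_iff.1 i.2
  have e : n = (i : ℕ) + (n + 1 - 1 - (i : ℕ)) := by omega
  have h2 : cf i ∈ c * c' ^ (i : ℕ) := by
    have := hcf i
    rw [pow_succ'] at this
    exact Ideal.mul_mono hbc ((Ideal.pow_right_mono hbc _).trans (Ideal.pow_right_mono hcc' _)) this
  have h3 : x ^ (n + 1 - 1 - (i : ℕ)) ∈ c' ^ (n + 1 - 1 - (i : ℕ)) := Ideal.pow_mem_pow hx _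
  have h4 := Ideal.mul_mem_mul h2 h3
  rw [mul_assoc, ← pow_add, ← e] at h4
  exact h4

/-- if every element of `a ⊇ b` is integral over `b` then `a^(m+R) ≤ b^m` for some `R`. -/
theorem exists_pow_le_of_integral (b a : Ideal A) (hba : b ≤ a) (hfg : a.FG)
    (hint : ∀ x ∈ a, ∃ n : ℕ, 0 < n ∧ ∃ c : Fin n → A,
      (∀ i : Fin n, c i ∈ b ^ ((i : ℕ) + 1)) ∧ x ^ n + ∑ i : Fin n, c i * x ^ (n - 1 - (i : ℕ)) = 0) :
    ∃ R : ℕ, ∀ m : ℕ, a ^ (m + R) ≤ b ^ m := by
  classical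
  obtain ⟨T, hT⟩ := hfg
  have key : ∀ S : Finset A, (∀ x ∈ S, x ∈ a) →
      ∃ R : ℕ, ∀ m : ℕ, (b ⊔ Ideal.span (S : Set A)) ^ (m + R) ≤ b ^ m := by
    intro S
    induction S using Finset.induction_on with
    | empty =>
      intro _
      refine ⟨0, fun m => ?_⟩
      rw [Finset.coe_empty, Ideal.span_empty, sup_bot_eq, add_zero]
    | insert x S hxS ih =>
      intro hS
      obtain ⟨R, hR⟩ := ih (fun y hy => hS y (Finset.mem_insert_of_mem hy))
      obtain ⟨n, hn, cf, hcf, heq⟩ := hint x (hS x (Finset.mem_insert_self x S))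
      obtain ⟨n', rfl⟩ : ∃ n', n = n' + 1 := ⟨n - 1, by omega⟩
      have h1 := pow_mem_of_integral b (b ⊔ Ideal.span (S : Set A)) le_sup_left x n' cf hcf heq
      have h2 := sup_span_pow_add_le (b ⊔ Ideal.span (S : Set A)) x n' h1
      refine ⟨R + n', fun m => ?_⟩
      have e : b ⊔ Ideal.span ((insert x S : Finset A) : Set A) =
          (b ⊔ Ideal.span (S : Set A)) ⊔ Ideal.span {x} := by
        rw [Finset.coe_insert, Ideal.span_insert, sup_assoc, sup_comm (Ideal.span {x})]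
      rw [e, ← add_assoc]
      exact le_trans (h2 (m + R)) (hR m)
  obtain ⟨R, hR⟩ := key T (fun x hx => hT ▸ Ideal.subset_span hx)
  refine ⟨R, fun m => ?_⟩
  have : b ⊔ Ideal.span (T : Set A) = a := by
    have hT' : Ideal.span (T : Set A) = a := hT
    rw [hT']; exact sup_eq_right.2 hba
  rw [← this]
  exact hR m

end Reduction

end Groth.Agent.Lib.Helper11.HS

namespace Groth.Agent.Lib.Helper11.HS
open Filter Topology Polynomial

/-- a polynomial of degree `< d` is `o(m^d)` -/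
theorem tendsto_eval_div_pow_zero (Q : ℚ[X]) (d : ℕ) (h : Q.degree < (d : WithBot ℕ)) :
    Tendsto (fun m : ℕ => ((Q.eval (m : ℚ) : ℚ) : ℝ) / (m : ℝ) ^ d) atTop (𝓝 0) := by
  have h1 : (Q.map (algebraMap ℚ ℝ)).degree < ((X : ℝ[X]) ^ d).degree := by
    rw [degree_map, degree_X_pow]
    exact h
  have h2 := (div_tendsto_atTop_zero_of_degree_lt (Q.map (algebraMap ℚ ℝ)) ((X : ℝ[X]) ^ d) h1).comp
    (tendsto_natCast_atTop_atTop (R := ℝ))
  refine h2.congr (fun m => ?_)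
  simp only [Function.comp_apply, eval_pow, eval_X]
  rw [eval_natCast_map]
  rfl

end Groth.Agent.Lib.Helper11.HS
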