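import Mathlib

/-!
# Limit lemmas for multiplicities (helper11, HS project)
-/

set_option autoImplicit false
universe u
open Filter Topology

namespace Groth.Agent.Lib.Helper11.HS

/-- `((t - c)/t)^d → 1` -/
theorem tendsto_shift_ratio (c d : ℕ) :
    Tendsto (fun t : ℕ => (((t - c : ℕ) : ℝ) / (t : ℝ)) ^ d) atTop (𝓝 1) := by
  have h1 : Tendsto (fun t : ℕ => (1 : ℝ) - (c : ℝ) / (t : ℝ)) atTop (𝓝 (1 - 0)) :=
    tendsto_const_nhds.sub (tendsto_const_div_atTop_nhds_zero_nat (c : ℝ))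
  have h2 : Tendsto (fun t : ℕ => ((1 : ℝ) - (c : ℝ) / (t : ℝ)) ^ d) atTop (𝓝 ((1 - 0) ^ d)) :=
    h1.pow d
  rw [sub_zero, one_pow] at h2
  refine h2.congr' ?_
  filter_upwards [eventually_ge_atTop (c + 1)] with t ht
  have ht0 : (t : ℝ) ≠ 0 := by
    have : 0 < t := by omega
    exact_mod_cast this.ne'
  rw [Nat.cast_sub (by omega)]
  congr 1
  field_simp

/-- shifting the argument does not change the normalized limit -/
theorem tendsto_shift (a : ℕ → ℝ) (F : ℝ) (c d : ℕ) (e : ℝ)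
    (h : Tendsto (fun t : ℕ => F * a t / (t : ℝ) ^ d) atTop (𝓝 e)) :
    Tendsto (fun t : ℕ => F * a (t - c) / (t : ℝ) ^ d) atTop (𝓝 e) := by
  have h1 : Tendsto (fun t : ℕ => F * a (t - c) / ((t - c : ℕ) : ℝ) ^ d) atTop (𝓝 e) :=
    h.comp (tendsto_sub_atTop_nat c)
  have h2 := h1.mul (tendsto_shift_ratio c d)
  rw [mul_one] at h2
  refine h2.congr' ?_
  filter_upwards [eventually_ge_atTop (c + 1)] with t ht
  have ht0 : (t : ℝ) ≠ 0 := by
    have : 0 < t := by omega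
    exact_mod_cast this.ne'
  have ht1 : ((t - c : ℕ) : ℝ) ≠ 0 := by
    have : 0 < t - c := by omega
    exact_mod_cast this.ne'
  rw [div_pow]
  field_simp

/-- squeeze lemma for additivity of multiplicities -/
theorem tendsto_add_of_sandwich (a b m : ℕ → ℝ) (F : ℝ) (hF : 0 ≤ F) (c d : ℕ) (e' e'' : ℝ)
    (h1 : ∀ t, m t ≤ a t + b t) (h2 : ∀ t, a t + b (t + c) ≤ m (t + c))
    (ha : Tendsto (fun t : ℕ => F * a t / (t : ℝ) ^ d) atTop (𝓝 e'))
    (hb : Tendsto (fun t : ℕ => F * b t / (t : ℝ) ^ d) atTop (𝓝 e'')) :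
    Tendsto (fun t : ℕ => F * m t / (t : ℝ) ^ d) atTop (𝓝 (e' + e'')) := by
  have hup : Tendsto (fun t : ℕ => F * a t / (t : ℝ) ^ d + F * b t / (t : ℝ) ^ d) atTop
      (𝓝 (e' + e'')) := ha.add hb
  have hlow : Tendsto (fun t : ℕ => F * a (t - c) / (t : ℝ) ^ d + F * b t / (t : ℝ) ^ d) atTop
      (𝓝 (e' + e'')) := (tendsto_shift a F c d e' ha).add hb
  refine tendsto_of_tendsto_of_tendsto_of_le_of_le' hlow hup ?_ ?_
  · filter_upwards [eventually_ge_atTop c] with t ht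
    have hpos : (0 : ℝ) ≤ (t : ℝ) ^ d := by positivity
    have := h2 (t - c)
    rw [Nat.sub_add_cancel ht] at this
    rw [← add_div, ← mul_add]
    exact div_le_div_of_nonneg_right (mul_le_mul_of_nonneg_left this hF) hpos
  · filter_upwards with t
    have hpos : (0 : ℝ) ≤ (t : ℝ) ^ d := by positivity
    rw [← add_div, ← mul_add]
    exact div_le_div_of_nonneg_right (mul_le_mul_of_nonneg_left (h1 t) hF) hpos

end Groth.Agent.Lib.Helper11.HS
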