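import Mathlib
import Groth.Agent.Lib.Helper11.HSMain

/-!
# The graded ring of a local ring and polynomial rings: algebraic core (helper11, HS project)
-/

set_option autoImplicit false
set_option linter.unusedSectionVars false
universe u
open Polynomial Pointwise

namespace Groth.Agent.Lib.Helper11.HS

section Core

variable {A : Type u} [CommRing A] {r : ℕ} (x : Fin r → A) (I : Ideal A)
  (k : Type u) [CommRing k] [Algebra A k]

/-- reduction of coefficients modulo `I` -/
noncomputable def ρmap : MvPolynomial (Fin r) A →ₗ[A] MvPolynomial (Fin r) k :=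
  (MvPolynomial.mapAlgHom (Algebra.ofId A k)).toLinearMap

theorem ρmap_apply (P : MvPolynomial (Fin r) A) :
    ρmap (r := r) k P = MvPolynomial.map (algebraMap A k) P := rfl

theorem ρmap_mul (P Q : MvPolynomial (Fin r) A) :
    ρmap (r := r) k (P * Q) = ρmap k P * ρmap k Q := by
  simp only [ρmap_apply, map_mul]

/-- `P ↦ [ev (Pₙ)] ∈ A/Iⁿ⁺¹` -/
noncomputable def φmap (n : ℕ) : MvPolynomial (Fin r) A →ₗ[A] Sq I A (n + 1) :=
  (Submodule.mkQ _) ∘ₗ (MvPolynomial.aeval x).toLinearMap ∘ₗ (MvPolynomial.homogeneousComponent n)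

theorem φmap_apply (n : ℕ) (P : MvPolynomial (Fin r) A) :
    φmap x I n P = Submodule.Quotient.mk
      (MvPolynomial.aeval x (MvPolynomial.homogeneousComponent n P)) := rfl

theorem φmap_of_isHomogeneous (n : ℕ) (P : MvPolynomial (Fin r) A) (hP : P.IsHomogeneous n) :
    φmap x I n P = Submodule.Quotient.mk (MvPolynomial.aeval x P) := by
  rw [φmap_apply, MvPolynomial.homogeneousComponent_eq_self hP]

section

variable (hI : I = Ideal.span (Set.range x))
include hI

theorem aeval_mem_pow (n : ℕ) (P : MvPolynomial (Fin r) A) (hP : P.IsHomogeneous n) :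
    MvPolynomial.aeval x P ∈ I ^ n := by
  rw [hI, Ideal.mem_span_pow_iff_exists_isHomogeneous]
  exact ⟨P, hP, by rw [MvPolynomial.aeval_eq_eval]⟩

theorem aeval_homogeneousComponent_mem (n : ℕ) (P : MvPolynomial (Fin r) A)
    (hP : ∀ d, MvPolynomial.coeff d P ∈ I) :
    MvPolynomial.aeval x (MvPolynomial.homogeneousComponent n P) ∈ I ^ (n + 1) := by
  rw [MvPolynomial.homogeneousComponent_apply, map_sum]
  refine Ideal.sum_mem _ fun d hd => ?_
  rw [Finset.mem_filter] at hd
  have h1 : MvPolynomial.monomial d (MvPolynomial.coeff d P) =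
      (MvPolynomial.coeff d P) • MvPolynomial.monomial d (1 : A) := by
    rw [MvPolynomial.smul_monomial, smul_eq_mul, mul_one]
  rw [h1, map_smul, smul_eq_mul, pow_succ']
  exact Ideal.mul_mem_mul (hP d)
    (aeval_mem_pow x I hI n _ (MvPolynomial.isHomogeneous_monomial 1 hd.2))

end

variable (hk : Function.Surjective (algebraMap A k)) (hker : ∀ a : A, algebraMap A k a = 0 → a ∈ I)

include hk in
theorem ρmap_surjective : Function.Surjective (ρmap (r := r) (A := A) k) :=
  MvPolynomial.map_surjective _ hk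

variable (hI : I = Ideal.span (Set.range x))
include hI hker

theorem ker_ρmap_le_ker_φmap (n : ℕ) :
    LinearMap.ker (ρmap (r := r) (A := A) k) ≤ LinearMap.ker (φmap x I n) := by
  intro P hP
  rw [LinearMap.mem_ker] at hP ⊢
  rw [φmap_apply, Submodule.Quotient.mk_eq_zero, smul_eq_mul, Ideal.mul_top]
  apply aeval_homogeneousComponent_mem x I hI
  intro d
  have := congrArg (MvPolynomial.coeff d) hP
  rw [ρmap_apply, MvPolynomial.coeff_map, MvPolynomial.coeff_zero] at this
  exact hker _ this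

include hk

/-- `Ψₙ : k[X] → A/Iⁿ⁺¹` with `Ψₙ (ρ P) = [ev Pₙ]` -/
noncomputable def Ψmap (n : ℕ) : MvPolynomial (Fin r) k →ₗ[A] Sq I A (n + 1) :=
  (Submodule.liftQ _ (φmap x I n) (ker_ρmap_le_ker_φmap x I k hker hI n)) ∘ₗ
    (LinearMap.quotKerEquivOfSurjective (ρmap (r := r) (A := A) k)
      (ρmap_surjective k hk)).symm.toLinearMap

theorem Ψmap_ρmap (n : ℕ) (P : MvPolynomial (Fin r) A) :
    Ψmap x I k hk hker hI n (ρmap k P) = φmap x I n P := by
  unfold Ψmap
  rw [LinearMap.comp_apply]
  have : (LinearMap.quotKerEquivOfSurjective (ρmap (r := r) (A := A) k)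
      (ρmap_surjective k hk)).symm (ρmap k P) = Submodule.Quotient.mk P := by
    rw [LinearEquiv.symm_apply_eq]
    rfl
  rw [LinearEquiv.coe_coe, this]
  rfl

omit hI hker in
theorem exists_homogeneous_lift (n : ℕ) (G : MvPolynomial (Fin r) k)
    (hG : G.IsHomogeneous n) :
    ∃ P : MvPolynomial (Fin r) A, P.IsHomogeneous n ∧ ρmap k P = G := by
  obtain ⟨P', hP'⟩ := ρmap_surjective (r := r) k hk G
  refine ⟨MvPolynomial.homogeneousComponent n P',
    MvPolynomial.homogeneousComponent_isHomogeneous n P', ?_⟩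
  rw [← MvPolynomial.homogeneousComponent_eq_self hG, ← hP']
  ext d
  rw [ρmap_apply, ρmap_apply, MvPolynomial.coeff_map, MvPolynomial.coeff_homogeneousComponent,
    MvPolynomial.coeff_homogeneousComponent, MvPolynomial.coeff_map]
  split_ifs <;> simp

/-- the degree `n` part of `k[X]` as an `A`-module -/
noncomputable abbrev Vn (A : Type u) [CommRing A] (r : ℕ) (k : Type u) [CommRing k] [Algebra A k]
    (n : ℕ) : Submodule A (MvPolynomial (Fin r) k) :=
  (MvPolynomial.homogeneousSubmodule (Fin r) k n).restrictScalars A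

/-- `Ψₙ` restricted to the degree `n` part -/
noncomputable def Ψres (n : ℕ) : Vn A r k n →ₗ[A] Sq I A (n + 1) :=
  (Ψmap x I k hk hker hI n) ∘ₗ (Vn A r k n).subtype

theorem range_Ψres (n : ℕ) :
    LinearMap.range (Ψres x I k hk hker hI n) = LinearMap.range (θmap I A n) := by
  apply le_antisymm
  · rintro _ ⟨⟨G, hG⟩, rfl⟩
    obtain ⟨P, hP, rfl⟩ := exists_homogeneous_lift k hk n G hG
    show Ψmap x I k hk hker hI n (ρmap k P) ∈ _
    rw [Ψmap_ρmap, φmap_of_isHomogeneous x I n P hP]
    have hmem : MvPolynomial.aeval x P ∈ (I ^ n • ⊤ : Submodule A A) := by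
      rw [smul_eq_mul, Ideal.mul_top]; exact aeval_mem_pow x I hI n P hP
    exact ⟨⟨_, hmem⟩, rfl⟩
  · rintro _ ⟨⟨y, hy⟩, rfl⟩
    rw [smul_eq_mul, Ideal.mul_top, hI, Ideal.mem_span_pow_iff_exists_isHomogeneous] at hy
    obtain ⟨P, hP, hPy⟩ := hy
    refine ⟨⟨ρmap k P, hP.map _⟩, ?_⟩
    show Ψmap x I k hk hker hI n (ρmap k P) = _
    rw [Ψmap_ρmap, φmap_of_isHomogeneous x I n P hP, MvPolynomial.aeval_eq_eval, hPy]
    rfl

theorem Ψmap_mul_eq_zero (s n : ℕ) (F G : MvPolynomial (Fin r) k)
    (hF : F.IsHomogeneous s) (hG : G.IsHomogeneous n) (h0 : Ψmap x I k hk hker hI s F = 0) :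
    Ψmap x I k hk hker hI (s + n) (F * G) = 0 := by
  obtain ⟨P, hP, rfl⟩ := exists_homogeneous_lift k hk s F hF
  obtain ⟨Q, hQ, rfl⟩ := exists_homogeneous_lift k hk n G hG
  rw [Ψmap_ρmap, φmap_of_isHomogeneous x I s P hP, Submodule.Quotient.mk_eq_zero,
    smul_eq_mul, Ideal.mul_top] at h0
  rw [← ρmap_mul, Ψmap_ρmap, φmap_of_isHomogeneous x I (s + n) (P * Q) (hP.mul hQ),
    Submodule.Quotient.mk_eq_zero, smul_eq_mul, Ideal.mul_top, map_mul]
  have : s + n + 1 = (s + 1) + n := by omega
  rw [this, pow_add]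
  exact Ideal.mul_mem_mul h0 (aeval_mem_pow x I hI n Q hQ)

end Core

section Count

/-- the number of monomials of degree `n` in `r` variables -/
theorem card_monomials (r n : ℕ) :
    ENat.card {d : Fin r →₀ ℕ | d.degree = n} = ((r + n - 1).choose n : ℕ∞) := by
  have hset : {d : Fin r →₀ ℕ | d.degree = n} =
      ↑((Finset.univ : Finset (Fin r)).finsuppAntidiag n) := by
    ext d
    simp only [Set.mem_ofPred_eq, Finset.mem_coe, Finset.mem_finsuppAntidiag,
      Finset.subset_univ, and_true]
    rw [Finsupp.degree_eq_sum]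
  rw [hset, ENat.card_eq_coe_fintype_card]
  simp only [Finset.coe_sort_coe, Fintype.card_coe]
  rw [Finset.card_finsuppAntidiag_nat_eq_choose, Finset.card_univ, Fintype.card_fin]

variable (A : Type u) [CommRing A] (r : ℕ) (k : Type u) [Field k] [Algebra A k]

theorem Vn_eq_supported (n : ℕ) :
    (MvPolynomial.homogeneousSubmodule (Fin r) k n).restrictScalars A =
      AddMonoidAlgebra.supported A k {d : Fin r →₀ ℕ | d.degree = n} := by
  ext P
  rw [Submodule.restrictScalars_mem, MvPolynomial.homogeneousSubmodule_eq_finsupp_supported]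
  rfl

theorem length_Vn (hk : Function.Surjective (algebraMap A k)) (n : ℕ) :
    Module.length A ((MvPolynomial.homogeneousSubmodule (Fin r) k n).restrictScalars A) =
      ((r + n - 1).choose n : ℕ∞) := by
  rw [Vn_eq_supported, (AddMonoidAlgebra.supportedEquivFinsupp (R := A) (S := k)
    {d : Fin r →₀ ℕ | d.degree = n}).length_eq, Module.length_finsupp, card_monomials]
  have : Module.length A k = 1 := by
    rw [Module.length_eq_of_surjective hk]
    exact Module.length_eq_one k k
  rw [this, mul_one]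

end Count

end Groth.Agent.Lib.Helper11.HS
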