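import Mathlib
import Groth.Agent.Lib.Helper11.HSRegA

/-!
# Macaulay-type bound: a relation in the graded ring propagates (helper11, HS project)
-/


set_option autoImplicit false
set_option linter.unusedSectionVars false
universe u
open Polynomial Pointwise

namespace Groth.Agent.Lib.Helper11.HS

section Macaulay

variable {A : Type u} [CommRing A] {r : ℕ} (x : Fin r → A) (I : Ideal A)
  (k : Type u) [Field k] [Algebra A k]
  (hk : Function.Surjective (algebraMap A k)) (hker : ∀ a : A, algebraMap A k a = 0 → a ∈ I)
  (hI : I = Ideal.span (Set.range x))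
include hI hk hker

/-- upper bound: `length (Iⁿ/Iⁿ⁺¹) ≤ #monomials` -/
theorem length_range_θmap_le (n : ℕ) :
    Module.length A (LinearMap.range (θmap I A n)) ≤ ((r + n - 1).choose n : ℕ∞) := by
  rw [← range_Ψres x I k hk hker hI n, ← length_Vn A r k hk n]
  exact Module.length_le_of_surjective (Ψres x I k hk hker hI n).rangeRestrict
    (LinearMap.surjective_rangeRestrict _)

omit hI hk hker in
/-- multiplication by `F` as a map `Vₙ → V_{s+n}` -/
noncomputable def mulF (s n : ℕ) (F : MvPolynomial (Fin r) k) (hF : F.IsHomogeneous s) :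
    Vn A r k n →ₗ[A] Vn A r k (s + n) :=
  (LinearMap.mulLeft A F).restrict (fun _ hG => hF.mul hG)

omit hI hk hker in
theorem mulF_injective (s n : ℕ) (F : MvPolynomial (Fin r) k) (hF : F.IsHomogeneous s)
    (hF0 : F ≠ 0) : Function.Injective (mulF (A := A) k s n F hF) := by
  intro G₁ G₂ h
  have h' : F * G₁.1 = F * G₂.1 := congrArg Subtype.val h
  exact Subtype.ext (mul_left_cancel₀ hF0 h')

/-- a nontrivial relation in degree `s` propagates -/
theorem length_range_θmap_add_le (s n : ℕ) (F : MvPolynomial (Fin r) k)
    (hF : F.IsHomogeneous s) (hF0 : F ≠ 0) (h0 : Ψmap x I k hk hker hI s F = 0) :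
    Module.length A (LinearMap.range (θmap I A (s + n))) + ((r + n - 1).choose n : ℕ∞) ≤
      ((r + (s + n) - 1).choose (s + n) : ℕ∞) := by
  rw [← range_Ψres x I k hk hker hI (s + n), ← length_Vn A r k hk n, ← length_Vn A r k hk (s + n)]
  have h1 : Module.length A (Vn A r k (s + n)) =
      Module.length A (LinearMap.ker (Ψres x I k hk hker hI (s + n))) +
        Module.length A (LinearMap.range (Ψres x I k hk hker hI (s + n))) :=
    Module.length_eq_add_of_exact (LinearMap.ker (Ψres x I k hk hker hI (s + n))).subtype
      (Ψres x I k hk hker hI (s + n)).rangeRestrict (Submodule.subtype_injective _)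
      (LinearMap.surjective_rangeRestrict _) (by
        rw [LinearMap.exact_iff, Submodule.range_subtype, LinearMap.ker_rangeRestrict])
  rw [h1, add_comm]
  gcongr
  have hker' : ∀ G : Vn A r k n,
      mulF k s n F hF G ∈ LinearMap.ker (Ψres x I k hk hker hI (s + n)) := by
    intro G
    rw [LinearMap.mem_ker]
    exact Ψmap_mul_eq_zero x I k hk hker hI s n F G.1 hF G.2 h0
  refine Module.length_le_of_injective ((mulF k s n F hF).codRestrict _ hker') ?_
  intro G₁ G₂ h
  apply mulF_injective k s n F hF hF0
  exact congrArg Subtype.val h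

/-- if the length in degree `s` is too small there is a nontrivial relation -/
theorem exists_relation (s : ℕ)
    (hlt : Module.length A (LinearMap.range (θmap I A s)) < ((r + s - 1).choose s : ℕ∞)) :
    ∃ F : MvPolynomial (Fin r) k, F.IsHomogeneous s ∧ F ≠ 0 ∧ Ψmap x I k hk hker hI s F = 0 := by
  by_contra hcon
  push Not at hcon
  have hinj : Function.Injective (Ψres x I k hk hker hI s) := by
    rw [← LinearMap.ker_eq_bot, eq_bot_iff]
    intro G hG
    rw [LinearMap.mem_ker] at hG
    by_contra hne
    have hne' : G.1 ≠ 0 := fun h => hne (by rw [Submodule.mem_bot]; exact Subtype.ext h)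
    exact hcon G.1 G.2 hne' hG
  have h1 : Module.length A (Vn A r k s) ≤
      Module.length A (LinearMap.range (Ψres x I k hk hker hI s)) :=
    Module.length_le_of_injective (Ψres x I k hk hker hI s).rangeRestrict (by
      intro a b hab
      apply hinj
      exact congrArg Subtype.val hab)
  rw [range_Ψres, length_Vn A r k hk s] at h1
  exact absurd hlt (not_lt.2 h1)

end Macaulay

end Groth.Agent.Lib.Helper11.HS
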