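import Mathlib
import Groth.Agent.Lib.Helper11.HSRegB
import Groth.Agent.Lib.Helper11.HSExact

/-!
# Regular local rings: `length (A/𝔪ᴺ⁺¹) = C(N + r, r)` (helper11, HS project)
-/

set_option autoImplicit false
set_option linter.unusedSectionVars false
universe u
open Polynomial Pointwise

namespace Groth.Agent.Lib.Helper11.HS

section Numeric

/-- number of monomials of degree `j` in `r` variables -/
def cmon (r j : ℕ) : ℕ := (r + j - 1).choose j

/-- number of monomials of degree `< N` in `r` variables -/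
def Bmon (r N : ℕ) : ℕ := ∑ j ∈ Finset.range N, cmon r j

theorem Bmon_zero (r : ℕ) : Bmon r 0 = 0 := by simp [Bmon]

theorem Bmon_succ' (r N : ℕ) : Bmon r (N + 1) = Bmon r N + cmon r N := by
  simp [Bmon, Finset.sum_range_succ]

theorem Bmon_succ (r N : ℕ) : Bmon r (N + 1) = (N + r).choose r := by
  induction N with
  | zero =>
    simp [Bmon, cmon]
  | succ N ih =>
    rw [Bmon_succ', ih, cmon]
    rcases r with _ | r
    · simp
    · have h1 : (r + 1 + (N + 1) - 1) = N + 1 + r := by omega
      have h2 : N + 1 + (r + 1) = (N + 1 + r) + 1 := by omega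
      have h3 : N + (r + 1) = N + 1 + r := by omega
      rw [h1, h2, h3, Nat.choose_succ_succ (N + 1 + r) r, Nat.choose_symm_add, add_comm]

end Numeric

end Groth.Agent.Lib.Helper11.HS

namespace Groth.Agent.Lib.Helper11.HS

section Main

variable {A : Type u} [CommRing A] [IsNoetherianRing A] [IsLocalRing A] {r : ℕ} (x : Fin r → A)
  (hx : IsLocalRing.maximalIdeal A = Ideal.span (Set.range x))

local notation "𝔪" => IsLocalRing.maximalIdeal A
local notation "κ" => IsLocalRing.ResidueField A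

omit [IsNoetherianRing A] in
theorem residue_hk : Function.Surjective (algebraMap A κ) := IsLocalRing.residue_surjective

omit [IsNoetherianRing A] in
theorem residue_hker : ∀ a : A, algebraMap A κ a = 0 → a ∈ 𝔪 := fun a ha =>
  (IsLocalRing.residue_eq_zero_iff a).1 ha

include hx

omit [IsNoetherianRing A] in
theorem length_gr_le (n : ℕ) :
    Module.length A (LinearMap.range (θmap 𝔪 A n)) ≤ (cmon r n : ℕ∞) :=
  length_range_θmap_le x 𝔪 κ residue_hk residue_hker hx n

omit [IsNoetherianRing A] in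
theorem length_Sq_le_Bmon (N : ℕ) : Module.length A (Sq 𝔪 A N) ≤ (Bmon r N : ℕ∞) := by
  induction N with
  | zero =>
    have : Subsingleton (Sq 𝔪 A 0) := by
      rw [Submodule.Quotient.subsingleton_iff, pow_zero, Ideal.one_eq_top, Submodule.top_smul]
    rw [Module.length_eq_zero_iff.2 this]
    exact zero_le
  | succ N ih =>
    rw [length_succ, Bmon_succ', add_comm]
    push_cast
    exact add_le_add ih (length_gr_le x hx N)

omit [IsNoetherianRing A] in
theorem length_Sq_add_le (s : ℕ)
    (hlt : Module.length A (LinearMap.range (θmap 𝔪 A s)) < (cmon r s : ℕ∞)) (n : ℕ) :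
    Module.length A (Sq 𝔪 A (s + n + 1)) + (Bmon r (n + 1) : ℕ∞) ≤ (Bmon r (s + n + 1) : ℕ∞) := by
  obtain ⟨F, hF, hF0, h0⟩ := exists_relation x 𝔪 κ residue_hk residue_hker hx s hlt
  have key : ∀ j, Module.length A (LinearMap.range (θmap 𝔪 A (s + j))) + (cmon r j : ℕ∞) ≤
      (cmon r (s + j) : ℕ∞) := fun j =>
    length_range_θmap_add_le x 𝔪 κ residue_hk residue_hker hx s j F hF hF0 h0
  induction n with
  | zero =>
    rw [length_succ, Bmon_succ' r (s + 0), Bmon_succ' r 0, Bmon_zero]
    push_cast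
    have h1 := key 0
    have h2 := length_Sq_le_Bmon x hx (s + 0)
    calc Module.length A (LinearMap.range (θmap 𝔪 A (s + 0))) + Module.length A (Sq 𝔪 A (s + 0)) +
          (0 + (cmon r 0 : ℕ∞))
        = Module.length A (Sq 𝔪 A (s + 0)) +
          (Module.length A (LinearMap.range (θmap 𝔪 A (s + 0))) + (cmon r 0 : ℕ∞)) := by
          rw [zero_add]; ac_rfl
      _ ≤ (Bmon r (s + 0) : ℕ∞) + (cmon r (s + 0) : ℕ∞) := add_le_add h2 h1
  | succ n ih =>
    have e : s + (n + 1) + 1 = (s + n + 1) + 1 := by omega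
    rw [e, length_succ, Bmon_succ' r (s + n + 1), Bmon_succ' r (n + 1)]
    push_cast
    have h1 := key (n + 1)
    have e2 : s + (n + 1) = s + n + 1 := by omega
    rw [e2] at h1
    calc Module.length A (LinearMap.range (θmap 𝔪 A (s + n + 1))) +
          Module.length A (Sq 𝔪 A (s + n + 1)) + ((Bmon r (n + 1) : ℕ∞) + (cmon r (n + 1) : ℕ∞))
        = (Module.length A (Sq 𝔪 A (s + n + 1)) + (Bmon r (n + 1) : ℕ∞)) +
          (Module.length A (LinearMap.range (θmap 𝔪 A (s + n + 1))) + (cmon r (n + 1) : ℕ∞)) := by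
          ac_rfl
      _ ≤ (Bmon r (s + n + 1) : ℕ∞) + (cmon r (s + n + 1) : ℕ∞) := add_le_add ih h1


omit hx [IsNoetherianRing A] in
theorem maximalIdeal_le_ringJacobson : 𝔪 ≤ Ring.jacobson A := by
  rw [← Ideal.jacobson_bot]
  exact IsLocalRing.maximalIdeal_le_jacobson ⊥

omit hx in
theorem FL_maximalIdeal : FL 𝔪 A := FL_of_pow_le 𝔪 ⟨1, by rw [pow_one]⟩ A

omit hx in
theorem natDegree_samuelPoly_maximalIdeal (hdim : ringKrullDim A = r) :
    (samuelPoly 𝔪 A).natDegree = r := by
  have h1 := natDegree_samuelPoly_eq_supportDim 𝔪 maximalIdeal_le_ringJacobson A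
    FL_maximalIdeal
  rw [Module.supportDim_self_eq_ringKrullDim, hdim] at h1
  exact_mod_cast h1

theorem not_length_gr_lt (hdim : ringKrullDim A = r) (s : ℕ) :
    ¬ Module.length A (LinearMap.range (θmap 𝔪 A s)) < (cmon r s : ℕ∞) := by
  intro hlt
  have hFL : FL 𝔪 A := FL_maximalIdeal
  have hne : samuelPoly 𝔪 A ≠ 0 :=
    samuelPoly_ne_zero 𝔪 A hFL maximalIdeal_le_ringJacobson
  have hnat := natDegree_samuelPoly_maximalIdeal (A := A) hdim
  set p₁ := preHilbertPoly ℚ r 1 with hp₁
  set p₂ := preHilbertPoly ℚ r (s + 1) with hp₂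
  have hp₁0 : p₁ ≠ 0 := by
    intro h
    have := leadingCoeff_preHilbertPoly ℚ r 1
    rw [← hp₁, h, leadingCoeff_zero] at this
    have h2 : ((r.factorial : ℚ))⁻¹ ≠ 0 := by positivity
    exact h2 this.symm
  have hp₂0 : p₂ ≠ 0 := by
    intro h
    have := leadingCoeff_preHilbertPoly ℚ r (s + 1)
    rw [← hp₂, h, leadingCoeff_zero] at this
    have h2 : ((r.factorial : ℚ))⁻¹ ≠ 0 := by positivity
    exact h2 this.symm
  have hdeg : (p₁ - p₂).degree < p₁.degree := by
    apply degree_sub_lt_left _ hp₁0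
    · rw [leadingCoeff_preHilbertPoly, leadingCoeff_preHilbertPoly]
    · rw [degree_eq_natDegree hp₁0, degree_eq_natDegree hp₂0, natDegree_preHilbertPoly,
        natDegree_preHilbertPoly]
  have hle : (samuelPoly 𝔪 A).degree ≤ (p₁ - p₂).degree := by
    refine degree_samuelPoly_le_of_le 𝔪 A hFL _ ⟨s + 1, fun N hN => ?_⟩
    obtain ⟨n, rfl⟩ : ∃ n, N = s + n + 1 := ⟨N - s - 1, by omega⟩
    have h1 := length_Sq_add_le x hx s hlt n
    rw [Bmon_succ, Bmon_succ] at h1
    have e0 := Module.length_ne_top_iff.2 (hFL (s + n + 1))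
    have h2 : (Module.length A (Sq 𝔪 A (s + n + 1))).toNat + (n + r).choose r ≤
        (s + n + r).choose r := by
      have h3 := ENat.toNat_le_toNat h1 (ENat.natCast_ne_top _)
      rw [ENat.toNat_add e0 (ENat.natCast_ne_top _), ENat.toNat_natCast, ENat.toNat_natCast] at h3
      exact h3
    rw [eval_sub, hp₁, hp₂, preHilbertPoly_eq_choose_sub_add ℚ r (by omega : 1 ≤ s + n + 1),
      preHilbertPoly_eq_choose_sub_add ℚ r (by omega : s + 1 ≤ s + n + 1)]
    have e1 : s + n + 1 - 1 + r = s + n + r := by omega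
    have e2 : s + n + 1 - (s + 1) + r = n + r := by omega
    rw [e1, e2]
    unfold samuel
    have : ((Module.length A (Sq 𝔪 A (s + n + 1))).toNat : ℚ) + ((n + r).choose r : ℚ) ≤
        ((s + n + r).choose r : ℚ) := by exact_mod_cast h2
    push_cast
    linarith
  have h3 := lt_of_le_of_lt hle hdeg
  rw [degree_eq_natDegree hne, degree_eq_natDegree hp₁0, hnat, natDegree_preHilbertPoly] at h3
  exact lt_irrefl _ h3

/-- **Regular local rings**: if `𝔪` is generated by `r = dim A` elements then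
`length (𝔪ⁿ/𝔪ⁿ⁺¹)` is the number of monomials of degree `n` in `r` variables. -/
theorem length_gr_eq (hdim : ringKrullDim A = r) (n : ℕ) :
    Module.length A (LinearMap.range (θmap 𝔪 A n)) = (cmon r n : ℕ∞) :=
  le_antisymm (length_gr_le x hx n) (not_lt.1 (not_length_gr_lt x hx hdim n))

theorem length_Sq_eq_Bmon (hdim : ringKrullDim A = r) (N : ℕ) :
    Module.length A (Sq 𝔪 A N) = (Bmon r N : ℕ∞) := by
  induction N with
  | zero =>
    have : Subsingleton (Sq 𝔪 A 0) := by
      rw [Submodule.Quotient.subsingleton_iff, pow_zero, Ideal.one_eq_top, Submodule.top_smul]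
    rw [Module.length_eq_zero_iff.2 this, Bmon_zero]
    rfl
  | succ N ih =>
    rw [length_succ, Bmon_succ', ih, length_gr_eq x hx hdim N, add_comm]
    push_cast
    rfl

/-- `length (A/𝔪ᴺ⁺¹) = C(N + r, r)` for a regular local ring of dimension `r`. -/
theorem length_Sq_succ_eq_choose (hdim : ringKrullDim A = r) (N : ℕ) :
    Module.length A (Sq 𝔪 A (N + 1)) = ((N + r).choose r : ℕ∞) := by
  rw [length_Sq_eq_Bmon x hx hdim, Bmon_succ]


omit hx in
/-- generators of the maximal ideal, indexed by `Fin (spanFinrank 𝔪)` -/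
theorem exists_gens_of_spanFinrank (d : ℕ) (h : (𝔪).spanFinrank = d) :
    ∃ x : Fin d → A, 𝔪 = Ideal.span (Set.range x) := by
  obtain ⟨s, hs, hspan⟩ := Submodule.FG.exists_span_finset_card_eq_spanFinrank
    (IsNoetherian.noetherian 𝔪)
  rw [h] at hs
  refine ⟨fun j => ((s.equivFinOfCardEq hs).symm j : A), ?_⟩
  have : Set.range (fun j => ((s.equivFinOfCardEq hs).symm j : A)) = ↑s := by
    ext a
    constructor
    · rintro ⟨j, rfl⟩
      exact ((s.equivFinOfCardEq hs).symm j).2
    · intro ha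
      exact ⟨s.equivFinOfCardEq hs ⟨a, ha⟩, by simp⟩
  rw [this]
  exact hspan.symm

end Main

end Groth.Agent.Lib.Helper11.HS
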