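import Mathlib
import Groth.Agent.Lib.Helper11.HSExact
import Groth.Agent.Lib.Helper11.HSLim
import Groth.Agent.Lib.Helper11.HSIntegral
import Groth.Agent.Lib.Helper11.HSReg

/-!
# Localizations at top-dimensional primes, lengths, and limits (helper11, HS project)
-/

set_option autoImplicit false
set_option linter.unusedSectionVars false
universe u
open Polynomial Pointwise Filter Topology

namespace Groth.Agent.Lib.Helper11.HS

section Primes

variable {A : Type u} [CommRing A]

/-- `dim A/p + 1 ≤ dim A/q` for primes `q < p` -/
theorem ringKrullDim_quotient_succ_le_of_lt (q p : PrimeSpectrum A) (h : q < p) :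
    ringKrullDim (A ⧸ p.asIdeal) + 1 ≤ ringKrullDim (A ⧸ q.asIdeal) := by
  rw [ringKrullDim_quotient, ringKrullDim_quotient]
  have hne : Nonempty (PrimeSpectrum.zeroLocus (R := A) p.asIdeal) :=
    ⟨⟨p, by rw [PrimeSpectrum.mem_zeroLocus]⟩⟩
  have hne' : Nonempty (PrimeSpectrum.zeroLocus (R := A) q.asIdeal) :=
    ⟨⟨q, by rw [PrimeSpectrum.mem_zeroLocus]⟩⟩
  rw [Order.krullDim_eq_iSup_length, Order.krullDim_eq_iSup_length, ← WithBot.coe_one,
    ← WithBot.coe_add, ENat.iSup_add, WithBot.coe_le_coe, iSup_le_iff]
  intro l
  have hsub : PrimeSpectrum.zeroLocus (R := A) p.asIdeal ⊆ PrimeSpectrum.zeroLocus q.asIdeal :=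
    PrimeSpectrum.zeroLocus_anti_mono h.le
  let l' : LTSeries (PrimeSpectrum.zeroLocus (R := A) q.asIdeal) :=
    l.map (fun z => ⟨z.1, hsub z.2⟩) (fun _ _ hab => hab)
  have hq : (⟨q, by rw [PrimeSpectrum.mem_zeroLocus]⟩ :
      PrimeSpectrum.zeroLocus (R := A) q.asIdeal) < l'.head := by
    have h1 : p ≤ l.head.1 := by
      have := l.head.2
      rw [PrimeSpectrum.mem_zeroLocus] at this
      exact this
    have h2 : (l'.head : PrimeSpectrum A) = l.head.1 := rfl
    show q < (l'.head : PrimeSpectrum A)
    rw [h2]
    exact lt_of_lt_of_le h h1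
  refine le_trans ?_ (le_iSup _ (l'.cons _ hq))
  have hlen : (RelSeries.cons l' _ hq).length = l.length + 1 := by
    rw [RelSeries.cons_length]; rfl
  rw [hlen]
  push_cast
  exact le_rfl


/-- the localization of a finite module at a minimal prime of its support has finite length -/
theorem isFiniteLength_localizedModule [IsNoetherianRing A] (N : Type u) [AddCommGroup N]
    [Module A N] [Module.Finite A N] (p : PrimeSpectrum A)
    (hmin : ∀ q ∈ Module.support A N, q ≤ p → q = p) :
    IsFiniteLength (Localization.AtPrime p.asIdeal) (LocalizedModule p.asIdeal.primeCompl N) := by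
  apply isFiniteLength_of_support_isMaximal
  intro P hP
  rw [Module.mem_support_iff_of_finite] at hP
  -- the annihilator of `N` maps into the annihilator of `N_p`
  have hann : (Module.annihilator A N).map (algebraMap A (Localization.AtPrime p.asIdeal)) ≤
      Module.annihilator (Localization.AtPrime p.asIdeal)
        (LocalizedModule p.asIdeal.primeCompl N) := by
    rw [Ideal.map_le_iff_le_comap]
    intro a ha
    rw [Ideal.mem_comap, Module.mem_annihilator]
    intro m
    induction m using LocalizedModule.induction_on with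
    | h n s =>
      rw [algebraMap_smul, LocalizedModule.smul'_mk, Module.mem_annihilator.1 ha n,
        LocalizedModule.zero_mk]
  let q : PrimeSpectrum A := ⟨P.asIdeal.under A, inferInstance⟩
  have hq1 : q ∈ Module.support A N := by
    rw [Module.mem_support_iff_of_finite]
    exact Ideal.map_le_iff_le_comap.1 (hann.trans hP)
  have hq2 : q ≤ p := by
    have h1 : P.asIdeal ≤ IsLocalRing.maximalIdeal (Localization.AtPrime p.asIdeal) :=
      IsLocalRing.le_maximalIdeal P.isPrime.ne_top
    have h2 := IsLocalization.AtPrime.under_maximalIdeal (Localization.AtPrime p.asIdeal) p.asIdeal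
    show P.asIdeal.under A ≤ p.asIdeal
    exact le_trans (Ideal.comap_mono h1) (le_of_eq h2)
  have hq3 := hmin q hq1 hq2
  have hP2 : P.asIdeal = IsLocalRing.maximalIdeal (Localization.AtPrime p.asIdeal) := by
    rw [← IsLocalization.map_under p.asIdeal.primeCompl (Localization.AtPrime p.asIdeal) P.asIdeal,
      ← Localization.AtPrime.map_eq_maximalIdeal]
    congr 1
    exact congrArg PrimeSpectrum.asIdeal hq3
  rw [hP2]
  infer_instance


section Loc

variable [IsNoetherianRing A]

/-- a prime of the support with `dim A/p = d ≥ dim N` is minimal in the support -/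
theorem eq_of_mem_support_of_le (N : Type u) [AddCommGroup N] [Module A N] (d : ℕ)
    (hd : Module.supportDim A N ≤ d) (p : PrimeSpectrum A)
    (hp : ringKrullDim (A ⧸ p.asIdeal) = d) :
    ∀ q ∈ Module.support A N, q ≤ p → q = p := by
  intro q hq hle
  by_contra hne
  have hlt : q < p := lt_of_le_of_ne hle hne
  have h1 := ringKrullDim_quotient_succ_le_of_lt q p hlt
  have h2 := Groth.Agent.Lib.Helper24.ringKrullDim_quotient_le_supportDim q hq
  have h3 : ((d : WithBot ℕ∞) + 1) ≤ d := by
    rw [hp] at h1
    exact h1.trans (h2.trans hd)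
  have h4 : ((d + 1 : ℕ) : WithBot ℕ∞) ≤ (d : ℕ) := by exact_mod_cast h3
  have h5 : d + 1 ≤ d := by exact_mod_cast h4
  omega

/-- additivity of the length of localizations -/
theorem length_localizedModule_add (p : PrimeSpectrum A) {N₁ N₂ N₃ : Type u}
    [AddCommGroup N₁] [Module A N₁] [AddCommGroup N₂] [Module A N₂] [AddCommGroup N₃] [Module A N₃]
    (f : N₁ →ₗ[A] N₂) (g : N₂ →ₗ[A] N₃) (hf : Function.Injective f) (hg : Function.Surjective g)
    (hfg : Function.Exact f g) :
    Module.length (Localization.AtPrime p.asIdeal) (LocalizedModule p.asIdeal.primeCompl N₂) =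
      Module.length (Localization.AtPrime p.asIdeal) (LocalizedModule p.asIdeal.primeCompl N₁) +
      Module.length (Localization.AtPrime p.asIdeal) (LocalizedModule p.asIdeal.primeCompl N₃) :=
  Module.length_eq_add_of_exact (LocalizedModule.map p.asIdeal.primeCompl f)
    (LocalizedModule.map p.asIdeal.primeCompl g)
    (LocalizedModule.map_injective _ f hf) (LocalizedModule.map_surjective _ g hg)
    (LocalizedModule.map_exact _ f g hfg)

/-- invariance of the length of localizations under isomorphisms -/
theorem length_localizedModule_congr (p : PrimeSpectrum A) {N₁ N₂ : Type u}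
    [AddCommGroup N₁] [Module A N₁] [AddCommGroup N₂] [Module A N₂] (e : N₁ ≃ₗ[A] N₂) :
    Module.length (Localization.AtPrime p.asIdeal) (LocalizedModule p.asIdeal.primeCompl N₁) =
      Module.length (Localization.AtPrime p.asIdeal) (LocalizedModule p.asIdeal.primeCompl N₂) :=
  (LinearEquiv.ofBijective (LocalizedModule.map p.asIdeal.primeCompl e.toLinearMap)
    ⟨LocalizedModule.map_injective _ _ e.injective,
      LocalizedModule.map_surjective _ _ e.surjective⟩).length_eq

end Loc

end Primes

section LocQuot

variable {A : Type u} [CommRing A]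

theorem length_localizedModule_quot_of_not_le (q p : PrimeSpectrum A) (h : ¬ q ≤ p) :
    Module.length (Localization.AtPrime p.asIdeal)
      (LocalizedModule p.asIdeal.primeCompl (A ⧸ q.asIdeal)) = 0 := by
  rw [Module.length_eq_zero_iff, ← Module.notMem_support_iff, Module.mem_support_iff_of_finite,
    Ideal.annihilator_quotient]
  exact h

theorem isSimpleModule_localizedModule_quot (p : PrimeSpectrum A) :
    IsSimpleModule (Localization.AtPrime p.asIdeal)
      (LocalizedModule p.asIdeal.primeCompl (A ⧸ p.asIdeal)) := by
  rw [isSimpleModule_iff_toSpanSingleton_surjective]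
  constructor
  · rw [← not_subsingleton_iff_nontrivial, ← Module.notMem_support_iff, not_not,
      Module.mem_support_iff_of_finite, Ideal.annihilator_quotient]
  · intro m hm
    induction m using LocalizedModule.induction_on with
    | h a s =>
      obtain ⟨a, rfl⟩ := Ideal.Quotient.mk_surjective a
      have ha : a ∉ p.asIdeal := by
        intro ha
        apply hm
        rw [Ideal.Quotient.eq_zero_iff_mem.2 ha, LocalizedModule.zero_mk]
      intro w
      induction w using LocalizedModule.induction_on with
      | h b t =>
        obtain ⟨b, rfl⟩ := Ideal.Quotient.mk_surjective b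
        refine ⟨Localization.mk (b * s) (⟨a, ha⟩ * t), ?_⟩
        rw [LinearMap.toSpanSingleton_apply, LocalizedModule.mk_smul_mk, LocalizedModule.mk_eq]
        refine ⟨1, ?_⟩
        rw [one_smul, one_smul]
        show (t : A) • ((b * s) • Ideal.Quotient.mk p.asIdeal a) =
          ((⟨a, ha⟩ * t * s : p.asIdeal.primeCompl) : A) • Ideal.Quotient.mk p.asIdeal b
        simp only [Algebra.smul_def, Ideal.Quotient.algebraMap_eq, ← map_mul, Submonoid.coe_mul]
        congr 1
        ring

theorem length_localizedModule_quot_self (p : PrimeSpectrum A) :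
    Module.length (Localization.AtPrime p.asIdeal)
      (LocalizedModule p.asIdeal.primeCompl (A ⧸ p.asIdeal)) = 1 := by
  have := isSimpleModule_localizedModule_quot p
  exact Module.length_eq_one _ _

end LocQuot

section Lims

variable {A : Type u} [CommRing A] (I : Ideal A)

theorem length_Sq_congr {N N' : Type u} [AddCommGroup N] [Module A N] [AddCommGroup N']
    [Module A N'] (e : N ≃ₗ[A] N') (t : ℕ) :
    Module.length A (Sq I N t) = Module.length A (Sq I N' t) :=
  le_antisymm (length_Sq_le_of_surjective I N' e.symm.toLinearMap e.symm.surjective t)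
    (length_Sq_le_of_surjective I N e.toLinearMap e.surjective t)

variable [IsNoetherianRing A] [IsLocalRing A]

/-- if `dim N < d` then `d! · length (N/IᵗN) / t^d → 0` -/
theorem tendsto_zero_of_supportDim_lt
    (hI : I ≤ IsLocalRing.maximalIdeal A ∧ ∃ n : ℕ, IsLocalRing.maximalIdeal A ^ n ≤ I)
    (N : Type u) [AddCommGroup N] [Module A N] [Module.Finite A N] (d : ℕ)
    (h : Module.supportDim A N < d) :
    Tendsto (fun t : ℕ => (d.factorial : ℝ) *
      ((Module.length A (N ⧸ (I ^ t • (⊤ : Submodule A N)))).toNat : ℝ) / (t : ℝ) ^ d)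
      atTop (𝓝 0) := by
  cases subsingleton_or_nontrivial N with
  | inl hs =>
    have : ∀ t : ℕ, Module.length A (N ⧸ (I ^ t • (⊤ : Submodule A N))) = 0 := fun t =>
      Module.length_eq_zero_iff.2 inferInstance
    simp only [this]
    simp
  | inr hnt =>
    have hFL : FL I N := FL_of_pow_le I hI.2 N
    have hJ : I ≤ Ring.jacobson A := hI.1.trans maximalIdeal_le_ringJacobson
    have hnat := natDegree_samuelPoly_eq_supportDim I hJ N hFL
    rw [← hnat] at h
    have hlt : (samuelPoly I N).natDegree < d := by exact_mod_cast h
    have hdeg : (samuelPoly I N).degree < (d : WithBot ℕ) :=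
      lt_of_le_of_lt degree_le_natDegree (by exact_mod_cast hlt)
    have h0 := (tendsto_eval_div_pow_zero _ d hdeg).const_mul (d.factorial : ℝ)
    rw [mul_zero] at h0
    obtain ⟨N₀, hN₀⟩ := samuelPoly_spec I N hFL
    refine h0.congr' ?_
    filter_upwards [eventually_ge_atTop N₀] with t ht
    have := hN₀ t ht
    unfold samuel at this
    rw [mul_div_assoc]
    congr 2
    have h2 : (((Module.length A (Sq I N t)).toNat : ℤ) : ℚ) = (samuelPoly I N).eval (t : ℚ) := this
    rw [← h2]
    push_cast
    rfl

end Lims

end Groth.Agent.Lib.Helper11.HS
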