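import Mathlib
import Groth.Agent.Lib.Helper11.HSPrimes

/-!
# Multiplicity as a limit: leading coefficients (helper11, HS project)
-/

set_option autoImplicit false
set_option linter.unusedSectionVars false
universe u
open Polynomial Pointwise Filter Topology

namespace Groth.Agent.Lib.Helper11.HS

/-- `P(m)/m^r → leadingCoeff P` for `natDegree P = r` -/
theorem tendsto_eval_div_pow_leadingCoeff (P : ℚ[X]) (r : ℕ) (h : P.natDegree = r) :
    Tendsto (fun m : ℕ => ((P.eval (m : ℚ) : ℚ) : ℝ) / (m : ℝ) ^ r) atTop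
      (𝓝 ((P.leadingCoeff : ℚ) : ℝ)) := by
  by_cases hP : P = 0
  · subst hP
    simp
  have hinj : Function.Injective (algebraMap ℚ ℝ) := (algebraMap ℚ ℝ).injective
  have h1 : (P.map (algebraMap ℚ ℝ)).degree = ((X : ℝ[X]) ^ r).degree := by
    rw [degree_map, degree_X_pow, degree_eq_natDegree hP, h]
  have h2 := (div_tendsto_atTop_leadingCoeff_div_of_degree_eq (P.map (algebraMap ℚ ℝ))
    ((X : ℝ[X]) ^ r) h1).comp (tendsto_natCast_atTop_atTop (R := ℝ))
  have h3 : (P.map (algebraMap ℚ ℝ)).leadingCoeff / ((X : ℝ[X]) ^ r).leadingCoeff =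
      ((P.leadingCoeff : ℚ) : ℝ) := by
    rw [leadingCoeff_map, leadingCoeff_X_pow, div_one]
    rfl
  rw [h3] at h2
  refine h2.congr (fun m => ?_)
  simp only [Function.comp_apply, eval_pow, eval_X]
  rw [eval_natCast_map]
  rfl

theorem length_Sq_self {A : Type u} [CommRing A] (I : Ideal A) (n : ℕ) :
    Module.length A (Sq I A n) = Module.length A (A ⧸ I ^ n) := by
  have e : (I ^ n • ⊤ : Submodule A A) = I ^ n := by rw [smul_eq_mul, Ideal.mul_top]
  exact (Submodule.quotEquivOfEq _ _ e).length_eq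

theorem length_quot_le_of_le {A : Type u} [CommRing A] {J K : Ideal A} (h : J ≤ K) :
    Module.length A (A ⧸ K) ≤ Module.length A (A ⧸ J) := by
  refine Module.length_le_of_surjective (Submodule.mapQ J K LinearMap.id (by
    rw [Submodule.comap_id]; exact h)) ?_
  intro v
  obtain ⟨m, rfl⟩ := Submodule.Quotient.mk_surjective _ v
  exact ⟨Submodule.Quotient.mk m, rfl⟩

end Groth.Agent.Lib.Helper11.HS
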