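import Mathlib
import Groth.Agent.Lib.Helper11.KzChi

set_option autoImplicit false
set_option linter.unusedSectionVars false
universe u
open CategoryTheory CategoryTheory.Limits CochainComplex Pointwise
open CohIII Groth.Agent.Lib.Helper28.Koszul

namespace Groth.Agent.Lib.Helper11.Kz

variable {A : Type u} [CommRing A] [IsNoetherianRing A]

section Support

variable (M : Type u) [AddCommGroup M] [Module A M] [Module.Finite A M]

/-- finite length of `M/JM` in terms of the support -/
theorem isFiniteLength_quot_iff (J : Ideal A) :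
    IsFiniteLength A (M ⧸ (J • ⊤ : Submodule A M)) ↔
      ∀ p ∈ Module.support A M, J ≤ p.asIdeal → p.asIdeal.IsMaximal := by
  constructor
  · intro h p hp hJ
    apply HS.isMaximal_of_mem_support_of_isFiniteLength _ h
    rw [Module.support_quotient]
    exact ⟨hp, hJ⟩
  · exact HS.isFiniteLength_quot_of_support J M

theorem Fl_iff (l : List A) :
    Fl l M ↔ ∀ p ∈ Module.support A M, (∀ a ∈ l, a ∈ p.asIdeal) → p.asIdeal.IsMaximal := by
  unfold Fl
  rw [isFiniteLength_quot_iff]
  refine forall₂_congr fun p _ => ?_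
  rw [Ideal.ofList, Ideal.span_le]
  rfl

theorem Fl_cons_iff_quotSMulTop (x : A) (l : List A) : Fl (x :: l) M ↔ Fl l (QuotSMulTop x M) := by
  rw [Fl_iff, Fl_iff, Module.support_quotSMulTop]
  constructor
  · rintro h p ⟨hp, hx⟩ hl
    refine h p hp ?_
    intro a ha
    rcases List.mem_cons.1 ha with rfl | ha
    · exact hx (Set.mem_singleton _)
    · exact hl a ha
  · intro h p hp hl
    refine h p ⟨hp, ?_⟩ (fun a ha => hl a (List.mem_cons_of_mem _ ha))
    intro a ha
    rw [Set.mem_singleton_iff] at ha
    subst ha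
    exact hl a List.mem_cons_self

theorem Fl_mul_cons (x y : A) (l : List A) (hx : Fl (x :: l) M) (hy : Fl (y :: l) M) :
    Fl ((x * y) :: l) M := by
  rw [Fl_iff] at hx hy ⊢
  intro p hp hl
  have hxy : x * y ∈ p.asIdeal := hl _ List.mem_cons_self
  rcases p.2.mem_or_mem hxy with h | h
  · refine hx p hp ?_
    intro a ha
    rcases List.mem_cons.1 ha with rfl | ha
    · exact h
    · exact hl a (List.mem_cons_of_mem _ ha)
  · refine hy p hp ?_
    intro a ha
    rcases List.mem_cons.1 ha with rfl | ha
    · exact h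
    · exact hl a (List.mem_cons_of_mem _ ha)

end Support

section Decomp

variable (M : Type u) [AddCommGroup M] [Module A M] [Module.Finite A M]

/-- the `x`-power torsion decomposition -/
theorem exists_torsion_decomp (x : A) :
    ∃ (N : Submodule A M) (k : ℕ), (∀ n ∈ N, x ^ k • n = 0) ∧ IsSMulRegular (M ⧸ N) x := by
  have hnoeth : IsNoetherian A M := isNoetherian_of_isNoetherianRing_of_finite A M
  let f : ℕ →o Submodule A M :=
    ⟨fun k => Submodule.torsionBy A M (x ^ k), by
      intro a b hab m hm
      rw [Submodule.mem_torsionBy_iff] at hm ⊢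
      obtain ⟨c, rfl⟩ := Nat.exists_eq_add_of_le hab
      rw [pow_add, mul_comm, mul_smul, hm, smul_zero]⟩
  obtain ⟨k, hk⟩ := monotone_stabilizes_iff_noetherian.2 hnoeth f
  refine ⟨Submodule.torsionBy A M (x ^ k), k, fun n hn => (Submodule.mem_torsionBy_iff _ _).1 hn, ?_⟩
  intro a b hab
  obtain ⟨a, rfl⟩ := Submodule.Quotient.mk_surjective _ a
  obtain ⟨b, rfl⟩ := Submodule.Quotient.mk_surjective _ b
  simp only [← Submodule.Quotient.mk_smul] at hab
  rw [Submodule.Quotient.eq] at hab ⊢
  rw [← smul_sub, Submodule.mem_torsionBy_iff] at hab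
  have h1 : a - b ∈ f (k + 1) := by
    show a - b ∈ Submodule.torsionBy A M (x ^ (k + 1))
    rw [Submodule.mem_torsionBy_iff, pow_succ, mul_smul]
    exact hab
  rw [← hk (k + 1) (Nat.le_succ k)] at h1
  exact h1

end Decomp

end Groth.Agent.Lib.Helper11.Kz
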