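import Mathlib
import Groth.Agent.Lib.Helper11.KzTorsion

set_option autoImplicit false
set_option linter.unusedSectionVars false
universe u
open CategoryTheory CategoryTheory.Limits CochainComplex Pointwise
open CohIII Groth.Agent.Lib.Helper28.Koszul

namespace Groth.Agent.Lib.Helper11.Kz

variable {A : Type u} [CommRing A] [IsNoetherianRing A] (l : List A)

section Zero

theorem chi_zero_of_smul_left (x y : A) (P : Type u) [AddCommGroup P] [Module A P]
    [Module.Finite A P] (hx : ∀ m : P, x • m = 0) (h1 : Fl (x :: l) P) :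
    chi (x :: l) P = 0 ∧ chi (y :: l) P = 0 :=
  ⟨chi_cons_of_pow_smul_eq_zero l x 1 P (fun m => by rw [pow_one]; exact hx m) h1,
    chi_cons_eq_zero l P y (Fl_of_smul_eq_zero l x hx h1)⟩

theorem chi_additive_quot (l : List A) (M : Type u) [AddCommGroup M] [Module A M]
    [Module.Finite A M] (N : Submodule A M) (h : Fl l M) :
    chi l M = chi l N + chi l (M ⧸ N) :=
  chi_additive l N.subtype N.mkQ (Submodule.subtype_injective _)
    (Submodule.mkQ_surjective _) (by
      rw [LinearMap.exact_iff, Submodule.ker_mkQ, Submodule.range_subtype]) h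

theorem smul_quot_smul_top (y : A) (Q : Type u) [AddCommGroup Q] [Module A Q]
    (v : Q ⧸ (y • ⊤ : Submodule A Q)) : y • v = 0 := by
  obtain ⟨m, rfl⟩ := Submodule.Quotient.mk_surjective _ v
  rw [← Submodule.Quotient.mk_smul, Submodule.Quotient.mk_eq_zero]
  exact Submodule.smul_mem_pointwise_smul m y ⊤ trivial

theorem chi_zero_of_mul_smul (x y : A) (Q : Type u) [AddCommGroup Q] [Module A Q]
    [Module.Finite A Q] (hxy : ∀ m : Q, (x * y) • m = 0) (h1 : Fl (x :: l) Q)
    (h2 : Fl (y :: l) Q) : chi (x :: l) Q = 0 ∧ chi (y :: l) Q = 0 := by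
  let N : Submodule A Q := y • ⊤
  have hN : ∀ n : N, x • n = 0 := by
    rintro ⟨n, hn⟩
    obtain ⟨m, -, rfl⟩ := (Submodule.mem_smul_pointwise_iff_exists _ _ _).1 hn
    apply Subtype.ext
    rw [Submodule.coe_smul, Submodule.coe_zero]
    show x • y • m = 0
    rw [← mul_smul, hxy]
  have hQ : ∀ v : Q ⧸ N, y • v = 0 := smul_quot_smul_top y Q
  have a1 := chi_zero_of_smul_left l x y N hN (h1.of_injective N.subtype (Submodule.subtype_injective _))
  have a2 := chi_zero_of_smul_left l y x (Q ⧸ N) hQ (h2.of_surjective N.mkQ (Submodule.mkQ_surjective _))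
  rw [chi_additive_quot (x :: l) Q N h1, chi_additive_quot (y :: l) Q N h2, a1.1, a1.2, a2.1, a2.2]
  simp

theorem chi_zero_of_mul_pow (x y : A) (k : ℕ) :
    ∀ (M : Type u) [AddCommGroup M] [Module A M] [Module.Finite A M],
      (∀ m : M, (x * y) ^ k • m = 0) → Fl (x :: l) M → Fl (y :: l) M →
      chi (x :: l) M = 0 ∧ chi (y :: l) M = 0 := by
  induction k with
  | zero =>
    intro M _ _ _ hk _ _
    have : Subsingleton M := ⟨fun a b => by
      have ha := hk a
      have hb := hk b
      rw [pow_zero, one_smul] at ha hb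
      rw [ha, hb]⟩
    exact ⟨chi_of_subsingleton _ M, chi_of_subsingleton _ M⟩
  | succ k ih =>
    intro M _ _ _ hk h1 h2
    let N : Submodule A M := (x * y) • ⊤
    have hN : ∀ n : N, (x * y) ^ k • n = 0 := by
      rintro ⟨n, hn⟩
      obtain ⟨m, -, rfl⟩ := (Submodule.mem_smul_pointwise_iff_exists _ _ _).1 hn
      apply Subtype.ext
      rw [Submodule.coe_smul, Submodule.coe_zero]
      show (x * y) ^ k • (x * y) • m = 0
      rw [← mul_smul, ← pow_succ, hk]
    have a1 := ih N hN (h1.of_injective N.subtype (Submodule.subtype_injective _))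
      (h2.of_injective N.subtype (Submodule.subtype_injective _))
    have a2 := chi_zero_of_mul_smul l x y (M ⧸ N) (smul_quot_smul_top (x * y) M)
      (h1.of_surjective N.mkQ (Submodule.mkQ_surjective _))
      (h2.of_surjective N.mkQ (Submodule.mkQ_surjective _))
    rw [chi_additive_quot (x :: l) M N h1, chi_additive_quot (y :: l) M N h2, a1.1, a1.2, a2.1, a2.2]
    simp

end Zero

section Regular

variable (M : Type u) [AddCommGroup M] [Module A M] [Module.Finite A M]

/-- for `x y` regular on `M`: `0 → M/xM → M/xyM → M/yM → 0` -/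
theorem chi_quot_mul (x y : A) (_hx : IsSMulRegular M x) (hy : IsSMulRegular M y)
    (h : Fl l (QuotSMulTop (x * y) M)) :
    chi l (QuotSMulTop (x * y) M) = chi l (QuotSMulTop x M) + chi l (QuotSMulTop y M) := by
  let f : QuotSMulTop x M →ₗ[A] QuotSMulTop (x * y) M :=
    Submodule.mapQ (x • ⊤ : Submodule A M) ((x * y) • ⊤ : Submodule A M) (LinearMap.lsmul A M y) (by
      intro m hm
      obtain ⟨m', -, rfl⟩ := (Submodule.mem_smul_pointwise_iff_exists _ _ _).1 hm
      rw [Submodule.mem_comap]
      show y • x • m' ∈ ((x * y) • ⊤ : Submodule A M)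
      rw [← mul_smul, mul_comm y x]
      exact Submodule.smul_mem_pointwise_smul m' (x * y) (⊤ : Submodule A M) trivial)
  let g : QuotSMulTop (x * y) M →ₗ[A] QuotSMulTop y M :=
    Submodule.mapQ ((x * y) • ⊤ : Submodule A M) (y • ⊤ : Submodule A M) LinearMap.id (by
      intro m hm
      obtain ⟨m', -, rfl⟩ := (Submodule.mem_smul_pointwise_iff_exists _ _ _).1 hm
      rw [Submodule.mem_comap, LinearMap.id_apply, mul_comm, mul_smul]
      exact Submodule.smul_mem_pointwise_smul (x • m') y ⊤ trivial)
  refine chi_additive l f g ?_ ?_ ?_ h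
  · rw [← LinearMap.ker_eq_bot, eq_bot_iff]
    intro v hv
    obtain ⟨m, rfl⟩ := Submodule.Quotient.mk_surjective _ v
    rw [LinearMap.mem_ker] at hv
    change Submodule.Quotient.mk (y • m) = 0 at hv
    rw [Submodule.Quotient.mk_eq_zero] at hv
    obtain ⟨m', -, hm'⟩ := (Submodule.mem_smul_pointwise_iff_exists _ _ _).1 hv
    rw [mul_comm, mul_smul] at hm'
    have := hy hm'
    rw [Submodule.mem_bot]
    show Submodule.Quotient.mk m = 0
    rw [Submodule.Quotient.mk_eq_zero, ← this]
    exact Submodule.smul_mem_pointwise_smul m' x ⊤ trivial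
  · intro v
    obtain ⟨m, rfl⟩ := Submodule.Quotient.mk_surjective _ v
    exact ⟨Submodule.Quotient.mk m, rfl⟩
  · intro v
    obtain ⟨m, rfl⟩ := Submodule.Quotient.mk_surjective _ v
    change Submodule.Quotient.mk m = 0 ↔ _
    rw [Submodule.Quotient.mk_eq_zero]
    constructor
    · intro hm
      obtain ⟨m', -, rfl⟩ := (Submodule.mem_smul_pointwise_iff_exists _ _ _).1 hm
      exact ⟨Submodule.Quotient.mk m', rfl⟩
    · rintro ⟨w, hw⟩
      obtain ⟨m', rfl⟩ := Submodule.Quotient.mk_surjective _ w
      change Submodule.Quotient.mk (y • m') = Submodule.Quotient.mk m at hw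
      rw [Submodule.Quotient.eq] at hw
      obtain ⟨m'', -, hm''⟩ := (Submodule.mem_smul_pointwise_iff_exists _ _ _).1 hw
      have : m = y • m' - (x * y) • m'' := by rw [hm'']; abel
      rw [this, mul_comm, mul_smul, ← smul_sub]
      exact Submodule.smul_mem_pointwise_smul _ y ⊤ trivial

end Regular

section Main

variable (M : Type u) [AddCommGroup M] [Module A M] [Module.Finite A M]

/-- `χ(xy, l; M) = χ(x, l; M) + χ(y, l; M)` -/
theorem chi_mul_cons (x y : A) (hx : Fl (x :: l) M) (hy : Fl (y :: l) M) :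
    chi ((x * y) :: l) M = chi (x :: l) M + chi (y :: l) M := by
  have hxy := Fl_mul_cons M x y l hx hy
  obtain ⟨N, k, hN, hreg⟩ := exists_torsion_decomp M (x * y)
  have hNk : ∀ n : N, (x * y) ^ k • n = 0 := by
    rintro ⟨n, hn⟩
    apply Subtype.ext
    rw [Submodule.coe_smul, Submodule.coe_zero]
    exact hN n hn
  have hxN := hx.of_injective N.subtype (Submodule.subtype_injective _)
  have hyN := hy.of_injective N.subtype (Submodule.subtype_injective _)
  have hxyN := hxy.of_injective N.subtype (Submodule.subtype_injective _)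
  have hxQ := hx.of_surjective N.mkQ (Submodule.mkQ_surjective _)
  have hyQ := hy.of_surjective N.mkQ (Submodule.mkQ_surjective _)
  have hxyQ := hxy.of_surjective N.mkQ (Submodule.mkQ_surjective _)
  have z := chi_zero_of_mul_pow l x y k N hNk hxN hyN
  have z' := chi_cons_of_pow_smul_eq_zero l (x * y) k N hNk hxyN
  have hregx : IsSMulRegular (M ⧸ N) x := by
    intro a b hab
    apply hreg
    show (x * y) • a = (x * y) • b
    rw [mul_comm, mul_smul, mul_smul]
    exact congrArg (y • ·) hab
  have hregy : IsSMulRegular (M ⧸ N) y := by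
    intro a b hab
    apply hreg
    show (x * y) • a = (x * y) • b
    rw [mul_smul, mul_smul]
    exact congrArg (x • ·) hab
  rw [chi_additive_quot _ M N hxy, chi_additive_quot _ M N hx, chi_additive_quot _ M N hy,
    z.1, z.2, z', chi_cons_of_regular l (M ⧸ N) (x * y) hreg, chi_cons_of_regular l (M ⧸ N) x hregx,
    chi_cons_of_regular l (M ⧸ N) y hregy,
    chi_quot_mul l (M ⧸ N) x y hregx hregy ((Fl_cons_iff_quotSMulTop (M ⧸ N) (x * y) l).1 hxyQ)]
  ring

end Main

end Groth.Agent.Lib.Helper11.Kz
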