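import Mathlib
import Groth.Agent.Lib.Helper11.KzMul
import Groth.Agent.Lib.Helper11.HSAdd
import Groth.Agent.Lib.Helper11.HSMult
import Groth.Agent.Lib.Helper11.HSIntegral

set_option autoImplicit false
set_option linter.unusedSectionVars false
universe u
open Polynomial Pointwise Filter Topology

namespace Groth.Agent.Lib.Helper11.Kz

variable {A : Type u} [CommRing A] [IsNoetherianRing A]

/-- the normalized multiplicity `d! · (coefficient of Xᵈ in the Samuel polynomial)`, `d = length l` -/
noncomputable def emult (l : List A) (M : Type u) [AddCommGroup M] [Module A M] : ℚ :=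
  (l.length.factorial : ℚ) * (HS.samuelPoly (Ideal.ofList l) M).coeff l.length

section Gens

/-- generators of `ofList (x :: l)` with `x` in last position -/
noncomputable def gensLast (x : A) (l : List A) : Fin (l.length + 1) → A :=
  Fin.lastCases x (fun i => l.get i)

theorem gensLast_last (x : A) (l : List A) : gensLast x l (Fin.last _) = x := by
  simp [gensLast]

theorem span_range_gensLast (x : A) (l : List A) :
    Ideal.ofList (x :: l) = Ideal.span (Set.range (gensLast x l)) := by
  unfold Ideal.ofList
  congr 1
  ext a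
  simp only [Set.mem_ofPred_eq, List.mem_cons, Set.mem_range]
  constructor
  · rintro (rfl | ha)
    · exact ⟨Fin.last _, gensLast_last _ l⟩
    · obtain ⟨i, rfl⟩ := List.mem_iff_get.1 ha
      exact ⟨Fin.castSucc i, by simp [gensLast]⟩
  · rintro ⟨i, rfl⟩
    induction i using Fin.lastCases with
    | last => left; exact gensLast_last x l
    | cast i => right; simp [gensLast]

theorem span_range_get (l : List A) : Ideal.ofList l = Ideal.span (Set.range l.get) := by
  unfold Ideal.ofList
  rw [Set.range_list_get]

end Gens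

section Zero

variable (x : A) (l : List A)

theorem FL_of_Fl {l : List A} {M : Type u} [AddCommGroup M] [Module A M] [Module.Finite A M]
    (h : Fl l M) : HS.FL (Ideal.ofList l) M := HS.FL_of_isFiniteLength _ M h

/-- modules killed by `x` have vanishing multiplicity -/
theorem emult_cons_of_smul_eq_zero (Q : Type u) [AddCommGroup Q] [Module A Q] [Module.Finite A Q]
    (hx : ∀ m : Q, x • m = 0) (h : Fl (x :: l) Q) : emult (x :: l) Q = 0 := by
  unfold emult
  have h1 : HS.samuelPoly (Ideal.ofList (x :: l)) Q = HS.samuelPoly (Ideal.ofList l) Q := by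
    apply HS.samuelPoly_congr_of_pow_smul_eq
    intro n
    rw [Ideal.ofList_cons]
    exact HS.pow_smul_top_eq_of_smul_eq_zero _ Q x hx n
  have h2 := HS.degree_samuelPoly_lt_of_gens (Ideal.ofList l) Q l.get (span_range_get l)
    (FL_of_Fl (Fl_of_smul_eq_zero l x hx h))
  rw [h1, List.length_cons, coeff_eq_zero_of_degree_lt h2, mul_zero]

theorem emult_additive (l : List A) {M' M M'' : Type u} [AddCommGroup M'] [Module A M']
    [AddCommGroup M] [Module A M] [AddCommGroup M''] [Module A M''] [Module.Finite A M]
    (f : M' →ₗ[A] M) (g : M →ₗ[A] M'') (hf : Function.Injective f) (hg : Function.Surjective g)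
    (hfg : Function.Exact f g) (h : Fl l M) : emult l M = emult l M' + emult l M'' := by
  unfold emult
  rw [HS.coeff_samuelPoly_additive (Ideal.ofList l) f g l.get (span_range_get l) hf hg hfg
    (FL_of_Fl h)]
  ring

theorem emult_additive_quot (l : List A) (M : Type u) [AddCommGroup M] [Module A M]
    [Module.Finite A M] (N : Submodule A M) (h : Fl l M) :
    emult l M = emult l N + emult l (M ⧸ N) :=
  emult_additive l N.subtype N.mkQ (Submodule.subtype_injective _)
    (Submodule.mkQ_surjective _) (by
      rw [LinearMap.exact_iff, Submodule.ker_mkQ, Submodule.range_subtype]) h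

theorem emult_cons_of_pow_smul_eq_zero (k : ℕ) :
    ∀ (M : Type u) [AddCommGroup M] [Module A M] [Module.Finite A M],
      (∀ m : M, x ^ k • m = 0) → Fl (x :: l) M → emult (x :: l) M = 0 := by
  induction k with
  | zero =>
    intro M _ _ _ hk h
    apply emult_cons_of_smul_eq_zero x l M _ h
    intro m
    have := hk m
    rw [pow_zero, one_smul] at this
    rw [this, smul_zero]
  | succ k ih =>
    intro M _ _ _ hk h
    let N : Submodule A M := x • ⊤
    have hN : emult (x :: l) N = 0 := by
      apply ih N _ (h.of_injective N.subtype (Submodule.subtype_injective _))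
      rintro ⟨n, hn⟩
      obtain ⟨m, -, rfl⟩ := (Submodule.mem_smul_pointwise_iff_exists _ _ _).1 hn
      apply Subtype.ext
      rw [Submodule.coe_smul, Submodule.coe_zero]
      show x ^ k • x • m = 0
      rw [← mul_smul, ← pow_succ, hk]
    have hQ : emult (x :: l) (M ⧸ N) = 0 :=
      emult_cons_of_smul_eq_zero x l (M ⧸ N) (smul_quot_smul_top x M)
        (h.of_surjective N.mkQ (Submodule.mkQ_surjective _))
    rw [emult_additive_quot (x :: l) M N h, hN, hQ, add_zero]

end Zero

section Serre

theorem chi_nil_eq_emult (M : Type u) [AddCommGroup M] [Module A M] [Module.Finite A M] :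
    (chi ([] : List A) M : ℚ) = emult ([] : List A) M := by
  rw [chi_nil]
  unfold emult
  have hev : HS.IsEvPoly (HS.samuel (Ideal.ofList ([] : List A)) M)
      (C (((Module.length A M).toNat : ℤ) : ℚ)) := by
    refine ⟨1, fun n hn => ?_⟩
    rw [eval_C]
    unfold HS.samuel
    have : (Ideal.ofList ([] : List A) ^ n • ⊤ : Submodule A M) = ⊥ := by
      rw [Ideal.ofList_nil, Ideal.bot_pow (by omega), Submodule.bot_smul]
    rw [(Submodule.quotEquivOfEqBot _ this).length_eq]
  rw [HS.samuelPoly_eq _ M hev]
  simp

/-- **Serre's theorem**: the Koszul Euler characteristic is the normalized Samuel multiplicity -/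
theorem serre : ∀ (l : List A) (M : Type u) [AddCommGroup M] [Module A M] [Module.Finite A M],
    Fl l M → (chi l M : ℚ) = emult l M := by
  intro l
  induction l with
  | nil => intro M _ _ _ _; exact chi_nil_eq_emult M
  | cons x l ih =>
    intro M _ _ _ h
    obtain ⟨N, k, hN, hreg⟩ := exists_torsion_decomp M x
    have hNk : ∀ n : N, x ^ k • n = 0 := by
      rintro ⟨n, hn⟩
      apply Subtype.ext
      rw [Submodule.coe_smul, Submodule.coe_zero]
      exact hN n hn
    have hNfl := h.of_injective N.subtype (Submodule.subtype_injective _)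
    have hQfl := h.of_surjective N.mkQ (Submodule.mkQ_surjective _)
    rw [chi_additive_quot (x :: l) M N h, emult_additive_quot (x :: l) M N h,
      chi_cons_of_pow_smul_eq_zero l x k N hNk hNfl,
      emult_cons_of_pow_smul_eq_zero x l k N hNk hNfl, chi_cons_of_regular l (M ⧸ N) x hreg]
    have hq : Fl l (QuotSMulTop x (M ⧸ N)) := (Fl_cons_iff_quotSMulTop (M ⧸ N) x l).1 hQfl
    simp only [zero_add]
    rw [ih (QuotSMulTop x (M ⧸ N)) hq]
    unfold emult
    have h1 : HS.samuelPoly (Ideal.ofList l) (QuotSMulTop x (M ⧸ N)) =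
        HS.samuelPoly (Ideal.ofList (x :: l)) (QuotSMulTop x (M ⧸ N)) := by
      symm
      apply HS.samuelPoly_congr_of_pow_smul_eq
      intro n
      rw [Ideal.ofList_cons]
      exact HS.pow_smul_top_eq_of_smul_eq_zero _ _ x (smul_quot_smul_top x (M ⧸ N)) n
    have hreg' : IsSMulRegular (M ⧸ N) (gensLast x l (Fin.last _)) := by
      rw [gensLast_last]; exact hreg
    have h2 := HS.coeff_samuelPoly_quotSMulTop (Ideal.ofList (x :: l)) (M ⧸ N) (gensLast x l)
      (span_range_gensLast x l) hreg' (FL_of_Fl hQfl)
    rw [gensLast_last] at h2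
    rw [h1, h2, List.length_cons, Nat.factorial_succ]
    push_cast
    ring

end Serre

section Limit

theorem tendsto_eval_div_pow_coeff (P : ℚ[X]) (d : ℕ)
    (hP : P.degree < ((d + 1 : ℕ) : WithBot ℕ)) :
    Tendsto (fun m : ℕ => ((P.eval (m : ℚ) : ℚ) : ℝ) / (m : ℝ) ^ d) atTop
      (𝓝 ((P.coeff d : ℚ) : ℝ)) := by
  by_cases hd : P.natDegree = d
  · have := HS.tendsto_eval_div_pow_leadingCoeff P d hd
    rwa [leadingCoeff, hd] at this
  · have hlt : P.degree < (d : WithBot ℕ) := by
      by_cases h0 : P = 0
      · rw [h0, degree_zero]; exact WithBot.bot_lt_coe d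
      · rw [degree_eq_natDegree h0] at hP ⊢
        have : P.natDegree < d + 1 := by exact_mod_cast hP
        have : P.natDegree < d := by omega
        exact_mod_cast this
    rw [coeff_eq_zero_of_degree_lt hlt]
    simpa using HS.tendsto_eval_div_pow_zero P d hlt

/-- **Serre's theorem, limit form** -/
theorem tendsto_samuel_chi (l : List A) (M : Type u) [AddCommGroup M] [Module A M]
    [Module.Finite A M] (h : Fl l M) :
    Tendsto (fun n : ℕ => (l.length.factorial : ℝ) *
        ((Module.length A (M ⧸ (Ideal.ofList l ^ n • ⊤ : Submodule A M))).toNat : ℝ) /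
          (n : ℝ) ^ l.length) atTop (𝓝 ((chi l M : ℤ) : ℝ)) := by
  have hdeg := HS.degree_samuelPoly_lt_of_gens (Ideal.ofList l) M l.get (span_range_get l)
    (FL_of_Fl h)
  have h1 := (tendsto_eval_div_pow_coeff _ l.length hdeg).const_mul (l.length.factorial : ℝ)
  have h2 : (l.length.factorial : ℝ) *
      (((HS.samuelPoly (Ideal.ofList l) M).coeff l.length : ℚ) : ℝ) = ((chi l M : ℤ) : ℝ) := by
    have := serre l M h
    unfold emult at this
    have h3 : ((chi l M : ℚ) : ℝ) = (((l.length.factorial : ℚ) *
        (HS.samuelPoly (Ideal.ofList l) M).coeff l.length : ℚ) : ℝ) := by rw [this]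
    push_cast at h3
    rw [← h3]
  rw [h2] at h1
  obtain ⟨N, hN⟩ := HS.samuelPoly_spec (Ideal.ofList l) M (FL_of_Fl h)
  refine h1.congr' ?_
  filter_upwards [eventually_ge_atTop N] with n hn
  have := hN n hn
  unfold HS.samuel at this
  rw [← this]
  push_cast
  ring

end Limit

end Groth.Agent.Lib.Helper11.Kz
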