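import Mathlib
import Groth.Agent.Lib.Helper11.KzSerre

/-!
# Row-shaped forms of the Koszul Euler characteristic statements (helper11)
-/

set_option autoImplicit false
set_option linter.unusedSectionVars false
universe u

namespace Groth.Agent.Lib.Helper11.Kz

variable {A : Type u} [CommRing A]

theorem ofList_ofFn {d : ℕ} (x : Fin d → A) :
    Ideal.ofList (List.ofFn x) = Ideal.span (Set.range x) := by
  unfold Ideal.ofList
  congr 1
  ext a
  simp [List.mem_ofFn]

theorem Fl_ofFn_iff {d : ℕ} (x : Fin d → A) (M : Type u) [AddCommGroup M] [Module A M] :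
    Fl (List.ofFn x) M ↔
      IsFiniteLength A (M ⧸ (Ideal.span (Set.range x) • (⊤ : Submodule A M))) := by
  unfold Fl
  rw [ofList_ofFn]

theorem support_row_finite [IsNoetherianRing A] (l : List A) (M : Type u) [AddCommGroup M] [Module A M] :
    (Function.support fun i : ℤ => ((i.negOnePow : ℤˣ) : ℤ) * ((Module.length A
      ((DRing.tensorCx (Koszul.koszul A l) (ModuleCat.of A M)).homology i)).toNat : ℤ)).Finite := by
  refine (finite_nonsubsingleton l M).subset fun i hi hsub => hi ?_
  show ((i.negOnePow : ℤˣ) : ℤ) * ((Module.length A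
      ((DRing.tensorCx (Koszul.koszul A l) (ModuleCat.of A M)).homology i)).toNat : ℤ) = 0
  rw [(homologyEquiv M l i).length_eq]
  have : Module.length A (KH l M i) = 0 := Module.length_eq_zero
  rw [this]
  simp

theorem chi_eq_row_real [IsNoetherianRing A] (l : List A) (M : Type u) [AddCommGroup M] [Module A M] :
    (∑ᶠ i : ℤ, ((((i.negOnePow : ℤˣ) : ℤ) : ℝ)) * ((((Module.length A
      ((DRing.tensorCx (Koszul.koszul A l) (ModuleCat.of A M)).homology i)).toNat : ℤ) : ℝ))) =
      ((chi l M : ℤ) : ℝ) := by
  rw [← chi_eq_row]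
  have := map_finsum (Int.castRingHom ℝ) (support_row_finite l M)
  simp only [eq_intCast, Int.cast_mul] at this
  exact this.symm

/-- Serre's theorem in the shape used by the rows -/
theorem serre_row [IsNoetherianRing A] {d : ℕ} (x : Fin d → A)
    (M : Type u) [AddCommGroup M] [Module A M] [Module.Finite A M]
    (hfl : IsFiniteLength A (M ⧸ (Ideal.span (Set.range x) • (⊤ : Submodule A M)))) :
    Filter.Tendsto (fun n : ℕ => (d.factorial : ℝ) *
        ((Module.length A (M ⧸ (Ideal.span (Set.range x) ^ n • (⊤ : Submodule A M)))).toNat : ℝ) /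
          (n : ℝ) ^ d)
      Filter.atTop (nhds ((chi (List.ofFn x) M : ℤ) : ℝ)) := by
  have h : Fl (List.ofFn x) M := (Fl_ofFn_iff x M).2 hfl
  have := tendsto_samuel_chi (List.ofFn x) M h
  rw [ofList_ofFn, List.length_ofFn] at this
  exact this

end Groth.Agent.Lib.Helper11.Kz
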