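import Groth.Agent.Lib.Helper11.Henselian

set_option autoImplicit false
universe u

namespace Groth.Agent.Lib.Helper11

open Polynomial

/-- Gabber's criterion on a pair `(A, I)`. -/
def GabberCrit (A : Type u) [CommRing A] (I : Ideal A) : Prop :=
  I ≤ Ideal.jacobson ⊥ ∧
    ∀ (n : ℕ), 0 < n → ∀ p : Polynomial A, p.natDegree ≤ n → (∀ i, p.coeff i ∈ I) →
      ∃ α : A, α - 1 ∈ I ∧ Polynomial.IsRoot (Polynomial.X ^ n * (Polynomial.X - 1) + p) α

theorem eval_mem_of_coeff_mem {A : Type u} [CommRing A] (I : Ideal A) (p : A[X])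
    (hp : ∀ i, p.coeff i ∈ I) (x : A) : p.eval x ∈ I := by
  rw [Polynomial.eval_eq_sum_range]
  exact Ideal.sum_mem _ fun i _ => Ideal.mul_mem_right _ _ (hp i)

/-- Two roots of a polynomial that are congruent modulo an ideal in the Jacobson radical,
one of them simple, coincide. -/
theorem root_unique_of_le_jacobson {A : Type u} [CommRing A] (I : Ideal A)
    (hjac : I ≤ Ideal.jacobson ⊥) (f : A[X]) {a b : A} (ha : f.eval a = 0) (hb : f.eval b = 0)
    (hab : b - a ∈ I) (hu : IsUnit (f.derivative.eval a)) : b = a := by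
  obtain ⟨c, hc⟩ := exists_mul_sq_add_linear_part_eq_eval_add f a (b - a)
  have hroot : f.eval (a + (b - a)) = 0 := by simpa using hb
  rw [hroot, ha] at hc
  have hunit : IsUnit (c * (b - a) + f.derivative.eval a) := by
    apply isUnit_of_isUnit_mk I hjac
    have : Ideal.Quotient.mk I (c * (b - a) + f.derivative.eval a) =
        Ideal.Quotient.mk I (f.derivative.eval a) := by
      rw [Ideal.Quotient.eq]; simpa using I.mul_mem_left c hab
    rw [this]; exact hu.map _
  have h0 : (c * (b - a) + f.derivative.eval a) * (b - a) = 0 := by linear_combination hc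
  have := (hunit.mul_right_eq_zero).1 h0
  exact sub_eq_zero.1 this

theorem gabber_poly_monic {A : Type u} [CommRing A] (n : ℕ) (p : A[X]) (hp : p.natDegree ≤ n) :
    (X ^ n * (X - 1) + p : A[X]).Monic := by
  rcases subsingleton_or_nontrivial A with h | h
  · exact Subsingleton.elim _ _
  have h1 : (X ^ n * (X - 1) : A[X]).Monic := by
    have : (X - 1 : A[X]) = X - C 1 := by simp
    rw [this]
    exact (monic_X_pow n).mul (monic_X_sub_C 1)
  apply h1.add_of_left
  have hd : (X ^ n * (X - 1) : A[X]).natDegree = n + 1 := by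
    have : (X - 1 : A[X]) = X - C 1 := by simp
    rw [this, (monic_X_pow n).natDegree_mul (monic_X_sub_C 1), natDegree_X_pow,
      natDegree_X_sub_C]
  rw [Polynomial.degree_eq_natDegree h1.ne_zero, hd]
  exact lt_of_le_of_lt Polynomial.degree_le_natDegree (by exact_mod_cast Nat.lt_succ_of_le hp)

theorem henselianRing_gabber {A : Type u} [CommRing A] (I : Ideal A) (h : HenselianRing A I)
    (n : ℕ) (p : A[X]) (hp : p.natDegree ≤ n) (hpI : ∀ i, p.coeff i ∈ I) :
    ∃! α : A, α - 1 ∈ I ∧ Polynomial.IsRoot (X ^ n * (X - 1) + p) α := by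
  set F : A[X] := X ^ n * (X - 1) + p with hF
  have hFm : F.Monic := gabber_poly_monic n p hp
  have hder : ∀ x : A, x - 1 ∈ I → IsUnit (F.derivative.eval x) := by
    intro x hx
    apply isUnit_of_isUnit_mk I h.jac
    rw [mk_eval_eq_of_sub_mem I F.derivative hx]
    have h1 : F.derivative.eval 1 = 1 + p.derivative.eval 1 := by
      simp [hF, Polynomial.derivative_mul, Polynomial.derivative_X_pow]
    have h2 : p.derivative.eval 1 ∈ I := by
      apply eval_mem_of_coeff_mem
      intro i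
      rw [Polynomial.coeff_derivative]
      exact Ideal.mul_mem_right _ _ (hpI _)
    have h3 : Ideal.Quotient.mk I (F.derivative.eval 1) = 1 := by
      rw [h1, map_add, map_one, Ideal.Quotient.eq_zero_iff_mem.2 h2, add_zero]
    rw [h3]
    exact isUnit_one
  have hev : F.eval 1 ∈ I := by
    have : F.eval 1 = p.eval 1 := by simp [hF]
    rw [this]
    exact eval_mem_of_coeff_mem I p hpI 1
  obtain ⟨α, hα, hα'⟩ := h.is_henselian F hFm 1 hev ((hder 1 (by simp)).map _)
  refine ⟨α, ⟨hα', hα⟩, ?_⟩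
  rintro β ⟨hβ', hβ⟩
  apply root_unique_of_le_jacobson I h.jac F hα hβ _ (hder α hα')
  have : β - α = (β - 1) - (α - 1) := by ring
  rw [this]
  exact I.sub_mem hβ' hα'

theorem gabber_key {A : Type u} [CommRing A] (c : ℕ → A) (d : ℕ) (s u β β' : A)
    (hu : c 1 * u = 1) (hs : s = -(c 0 * u)) (hβ : β * β' = 1) :
    β ^ (d + 2) * ∑ i ∈ Finset.range (d + 2), c i * (s * β') ^ i =
      c 0 * (β ^ (d + 1) * (β - 1) +
        ∑ i ∈ Finset.range d, (-(u * c (i + 2) * s ^ (i + 1))) * β ^ (d - i)) := by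
  rw [Finset.sum_range_succ', Finset.sum_range_succ']
  have h1 : ∀ i ∈ Finset.range d, β ^ (d + 2) * (c (i + 1 + 1) * (s * β') ^ (i + 1 + 1)) =
      c 0 * ((-(u * c (i + 2) * s ^ (i + 1))) * β ^ (d - i)) := by
    intro i hi
    have hi' := Finset.mem_range.1 hi
    have e1 : β ^ (d + 2) = β ^ (d - i) * β ^ (i + 2) := by
      rw [← pow_add]; congr 1; omega
    have hb : β ^ (i + 2) * β' ^ (i + 2) = 1 := by rw [← mul_pow, hβ, one_pow]
    rw [e1, mul_pow]
    have e2 : s ^ (i + 1 + 1) = s ^ (i + 1) * s := pow_succ s (i + 1)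
    rw [e2]
    linear_combination (β ^ (d - i) * c (i + 2) * s ^ (i + 1) * s) * hb +
      (β ^ (d - i) * c (i + 2) * s ^ (i + 1)) * hs
  rw [mul_add, mul_add, Finset.mul_sum, Finset.sum_congr rfl h1, ← Finset.mul_sum]
  have e3 : β ^ (d + 2) = β ^ (d + 1) * β := pow_succ β (d + 1)
  rw [e3]
  linear_combination (β ^ (d + 1) * c 1 * s) * hβ + (β ^ (d + 1) * c 1) * hs -
    (β ^ (d + 1) * c 0) * hu

theorem henselianRing_of_gabberCrit {A : Type u} [CommRing A] (I : Ideal A)
    (h : GabberCrit A I) : HenselianRing A I := by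
  obtain ⟨hjac, hG⟩ := h
  refine ⟨hjac, ?_⟩
  intro f _ a₀ h₁ h₂
  have hu : IsUnit (f.derivative.eval a₀) := isUnit_of_isUnit_mk I hjac h₂
  set g := taylor a₀ f with hg
  set d := g.natDegree with hd
  set c : ℕ → A := fun i => g.coeff i with hc
  have hc0 : c 0 = f.eval a₀ := taylor_coeff_zero ..
  have hc1 : c 1 = f.derivative.eval a₀ := taylor_coeff_one ..
  obtain ⟨u, hu'⟩ := isUnit_iff_exists_inv.1 hu
  rw [← hc1] at hu'
  set s : A := -(c 0 * u) with hs
  have hsI : s ∈ I := by
    rw [hs, hc0]; exact I.neg_mem (I.mul_mem_right _ h₁)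
  set p : A[X] := ∑ i ∈ Finset.range d, C (-(u * c (i + 2) * s ^ (i + 1))) * X ^ (d - i) with hp
  have hpdeg : p.natDegree ≤ d + 1 := by
    apply Polynomial.natDegree_sum_le_of_forall_le
    intro i _
    refine (Polynomial.natDegree_C_mul_X_pow_le _ _).trans ?_
    omega
  have hpI : ∀ j, p.coeff j ∈ I := by
    intro j
    rw [hp, Polynomial.finsetSum_coeff]
    apply Ideal.sum_mem
    intro i _
    rw [Polynomial.coeff_C_mul, Polynomial.coeff_X_pow]
    apply Ideal.mul_mem_right
    apply I.neg_mem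
    apply Ideal.mul_mem_left
    exact Ideal.pow_mem_of_mem _ hsI _ (Nat.succ_pos _)
  obtain ⟨β, hβI, hβ⟩ := hG (d + 1) (Nat.succ_pos _) p hpdeg hpI
  have hβu : IsUnit β := by
    apply isUnit_of_isUnit_mk I hjac
    have : Ideal.Quotient.mk I β = 1 := by
      rw [← map_one (Ideal.Quotient.mk I), Ideal.Quotient.eq]; exact hβI
    rw [this]; exact isUnit_one
  obtain ⟨β', hβ'⟩ := isUnit_iff_exists_inv.1 hβu
  have key := gabber_key c d s u β β' hu' hs hβ'
  have hpe : p.eval β = ∑ i ∈ Finset.range d, (-(u * c (i + 2) * s ^ (i + 1))) * β ^ (d - i) := by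
    rw [hp, Polynomial.eval_finsetSum]
    simp
  have hH : β ^ (d + 1) * (β - 1) +
      ∑ i ∈ Finset.range d, (-(u * c (i + 2) * s ^ (i + 1))) * β ^ (d - i) = 0 := by
    rw [← hpe]
    have := hβ
    rw [Polynomial.IsRoot.def] at this
    simpa using this
  rw [hH, mul_zero] at key
  have hgev : g.eval (s * β') = ∑ i ∈ Finset.range (d + 2), c i * (s * β') ^ i :=
    Polynomial.eval_eq_sum_range' (by omega) _
  rw [← hgev] at key
  have hg0 : g.eval (s * β') = 0 := ((hβu.pow (d + 2)).mul_right_eq_zero).1 key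
  refine ⟨s * β' + a₀, ?_, ?_⟩
  · rw [Polynomial.IsRoot.def, ← taylor_eval]; exact hg0
  · simpa using I.mul_mem_right _ hsI

theorem henselianRing_iff_gabber {A : Type u} [CommRing A] (I : Ideal A) :
    HenselianRing A I ↔ (I ≤ Ideal.jacobson ⊥ ∧
      ∀ (n : ℕ), 0 < n → ∀ p : Polynomial A, p.natDegree ≤ n → (∀ i, p.coeff i ∈ I) →
        ∃! α : A, α - 1 ∈ I ∧
          Polynomial.IsRoot (Polynomial.X ^ n * (Polynomial.X - 1) + p) α) := by
  constructor
  · intro h
    exact ⟨h.jac, fun n _ p hp hpI => henselianRing_gabber I h n p hp hpI⟩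
  · rintro ⟨hjac, hG⟩
    apply henselianRing_of_gabberCrit
    exact ⟨hjac, fun n hn p hp hpI => (hG n hn p hp hpI).exists⟩

theorem henselianRing_iff_gabberCrit {A : Type u} [CommRing A] (I : Ideal A) :
    HenselianRing A I ↔ GabberCrit A I :=
  ⟨fun h => ⟨h.jac, fun n _ p hp hpI => (henselianRing_gabber I h n p hp hpI).exists⟩,
    henselianRing_of_gabberCrit I⟩

end Groth.Agent.Lib.Helper11
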