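import Mathlib

/-!
# Graded prime avoidance (abstract form)

`H d` is any family of additive subgroups closed under multiplication (e.g. the invariant forms of
degree `d`).  Given finitely many primes each of which misses some element of positive degree, there
is a single element of positive degree missing all of them.
-/

set_option autoImplicit false
set_option linter.unusedSectionVars false
set_option linter.unusedVariables false
set_option linter.style.haveILetI false

namespace Groth.Agent.Lib.Helper11.Wat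

section

variable {R : Type*} [CommRing R] (H : ℕ → AddSubgroup R)

theorem pow_mem_graded' (hone : (1 : R) ∈ H 0)
    (hmul : ∀ a b x y, x ∈ H a → y ∈ H b → x * y ∈ H (a + b)) {a : ℕ} {x : R} (hx : x ∈ H a)
    (b : ℕ) : x ^ b ∈ H (b * a) := by
  induction b with
  | zero => rw [pow_zero, Nat.zero_mul]; exact hone
  | succ b ih =>
    rw [pow_succ, Nat.succ_mul]
    exact hmul _ _ _ _ ih hx

theorem prod_mem_graded' {ι : Type*} (hone : (1 : R) ∈ H 0)
    (hmul : ∀ a b x y, x ∈ H a → y ∈ H b → x * y ∈ H (a + b)) (t : Finset ι) (f : ι → R)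
    (deg : ι → ℕ) (hf : ∀ i ∈ t, f i ∈ H (deg i)) : ∏ i ∈ t, f i ∈ H (∑ i ∈ t, deg i) := by
  classical
  induction t using Finset.induction_on with
  | empty => rw [Finset.prod_empty, Finset.sum_empty]; exact hone
  | insert i t hi ih =>
    rw [Finset.prod_insert hi, Finset.sum_insert hi]
    exact hmul _ _ _ _ (hf i (Finset.mem_insert_self i t))
      (ih fun j hj => hf j (Finset.mem_insert_of_mem hj))

theorem exists_graded_notMem (hone : (1 : R) ∈ H 0)
    (hmul : ∀ a b x y, x ∈ H a → y ∈ H b → x * y ∈ H (a + b))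
    (s : Finset (Ideal R)) (hs : ∀ P ∈ s, P.IsPrime)
    (h : ∀ P ∈ s, ∃ d, 0 < d ∧ ∃ w ∈ H d, w ∉ P) :
    ∃ d, 0 < d ∧ ∃ w ∈ H d, ∀ P ∈ s, w ∉ P := by
  classical
  induction s using Finset.induction_on with
  | empty => exact ⟨1, Nat.one_pos, 0, zero_mem _, fun P hP => absurd hP (Finset.notMem_empty P)⟩
  | insert P s hPs ih =>
    obtain ⟨a, ha, x, hxH, hx⟩ := ih (fun Q hQ => hs Q (Finset.mem_insert_of_mem hQ))
      (fun Q hQ => h Q (Finset.mem_insert_of_mem hQ))
    have hPprime : P.IsPrime := hs P (Finset.mem_insert_self P s)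
    by_cases hxP : x ∈ P
    · obtain ⟨c, hc, w, hwH, hwP⟩ := h P (Finset.mem_insert_self P s)
      -- auxiliary elements
      have hex : ∀ Q : Ideal R, ∃ p : ℕ × R, p.2 ∈ H p.1 ∧ p.2 ∉ P ∧
          ((∃ d, ∃ z ∈ H d, z ∈ Q ∧ z ∉ P) → p.2 ∈ Q) := by
        intro Q
        by_cases hq : ∃ d, ∃ z ∈ H d, z ∈ Q ∧ z ∉ P
        · obtain ⟨d, z, hzH, hzQ, hzP⟩ := hq
          exact ⟨(d, z), hzH, hzP, fun _ => hzQ⟩
        · exact ⟨(0, 1), hone, fun h1 => hPprime.ne_top ((Ideal.eq_top_iff_one P).mpr h1),
            fun h' => absurd h' hq⟩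
      choose p hpH hpP hpQ using hex
      set v : R := w * ∏ Q ∈ s, (p Q).2 with hv
      set b : ℕ := c + ∑ Q ∈ s, (p Q).1 with hb
      have hvH : v ∈ H b :=
        hmul _ _ _ _ hwH (prod_mem_graded' H hone hmul s (fun Q => (p Q).2) (fun Q => (p Q).1)
          (fun Q _ => hpH Q))
      have hbpos : 0 < b := by omega
      have hvP : v ∉ P := by
        intro hmem
        rcases hPprime.mem_or_mem hmem with h1 | h1
        · exact hwP h1
        · obtain ⟨Q, -, hQ⟩ := (hPprime.prod_mem_iff).mp h1
          exact hpP Q hQ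
      have hxb : x ^ b ∈ H (a * b) := by
        have := pow_mem_graded' H hone hmul hxH b
        rwa [Nat.mul_comm] at this
      have hva : v ^ a ∈ H (a * b) := pow_mem_graded' H hone hmul hvH a
      refine ⟨a * b, Nat.mul_pos ha hbpos, x ^ b + v ^ a, add_mem hxb hva, ?_⟩
      intro Q hQ
      rcases Finset.mem_insert.mp hQ with rfl | hQs
      · intro hmem
        have h1 : x ^ b ∈ Q := Ideal.pow_mem_of_mem Q hxP b hbpos
        have h2 : v ^ a ∈ Q := by
          have := sub_mem hmem h1
          rwa [add_sub_cancel_left] at this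
        exact hvP (hPprime.mem_of_pow_mem a h2)
      · have hQprime : Q.IsPrime := hs Q hQ
        by_cases hq : ∃ d, ∃ z ∈ H d, z ∈ Q ∧ z ∉ P
        · intro hmem
          have hvQ : v ∈ Q := by
            rw [hv]
            apply Ideal.mul_mem_left
            exact Ideal.mem_of_dvd Q (Finset.dvd_prod_of_mem (fun Q => (p Q).2) hQs) (hpQ Q hq)
          have h1 : v ^ a ∈ Q := Ideal.pow_mem_of_mem Q hvQ a ha
          have h2 : x ^ b ∈ Q := by
            have := sub_mem hmem h1
            rwa [add_sub_cancel_right] at this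
          exact hx Q hQs (hQprime.mem_of_pow_mem b h2)
        · intro hmem
          apply hq
          refine ⟨a * b, x ^ b + v ^ a, add_mem hxb hva, hmem, ?_⟩
          intro hmemP
          have h1 : x ^ b ∈ P := Ideal.pow_mem_of_mem P hxP b hbpos
          have h2 : v ^ a ∈ P := by
            have := sub_mem hmemP h1
            rwa [add_sub_cancel_left] at this
          exact hvP (hPprime.mem_of_pow_mem a h2)
    · refine ⟨a, ha, x, hxH, ?_⟩
      intro Q hQ
      rcases Finset.mem_insert.mp hQ with rfl | hQs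
      · exact hxP
      · exact hx Q hQs

end

end Groth.Agent.Lib.Helper11.Wat
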