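import Mathlib
import Groth.Prelude.Def_W4c2ratsingkovacsGH
import Groth.Agent.Lib.Helper11.WatAvoid
import Groth.Agent.Lib.Helper17.GradedNoeth

/-!
# Geometric height: graded prime avoidance and chart prime correspondence
-/

set_option autoImplicit false
set_option linter.unusedSectionVars false
set_option linter.unusedVariables false
set_option linter.style.haveILetI false

open W4c2ratsingkovacs DirectSum

namespace Groth.Agent.Lib.Helper11.GeoHt

variable {R : Type*} {A : Type*} [CommRing R] [CommRing A] [Algebra R A]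
  (𝒜 : ℕ → Submodule R A) [GradedRing 𝒜]

/-- some homogeneous component of an element outside an ideal is outside it -/
theorem exists_component_notMem (q : Ideal A) {x : A} (hx : x ∉ q) :
    ∃ i, (decompose 𝒜 x i : A) ∉ q := by
  classical
  by_contra hcon
  simp only [not_exists, not_not] at hcon
  apply hx
  rw [← DirectSum.sum_support_decompose 𝒜 x]
  exact Ideal.sum_mem _ fun i _ => hcon i

/-- graded prime avoidance inside a homogeneous ideal, positive degrees -/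
theorem exists_homog_avoid (J : Ideal A) (hJ : J.IsHomogeneous 𝒜) (s : Finset (Ideal A))
    (hs : ∀ q ∈ s, q.IsPrime ∧ ¬ J ≤ q ∧ ¬ (HomogeneousIdeal.irrelevant 𝒜).toIdeal ≤ q) :
    ∃ n, 0 < n ∧ ∃ z ∈ 𝒜 n, z ∈ J ∧ ∀ q ∈ s, z ∉ q := by
  classical
  let H : ℕ → AddSubgroup A := fun d =>
    { carrier := {x | x ∈ 𝒜 d ∧ (0 < d → x ∈ J)}
      zero_mem' := ⟨zero_mem _, fun _ => zero_mem _⟩
      add_mem' := fun {a b} ha hb => ⟨add_mem ha.1 hb.1, fun hd => add_mem (ha.2 hd) (hb.2 hd)⟩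
      neg_mem' := fun {a} ha => ⟨neg_mem ha.1, fun hd => neg_mem (ha.2 hd)⟩ }
  have hone : (1 : A) ∈ H 0 := ⟨SetLike.GradedOne.one_mem, fun h => absurd h (lt_irrefl 0)⟩
  have hmul : ∀ a b x y, x ∈ H a → y ∈ H b → x * y ∈ H (a + b) := by
    intro a b x y hx hy
    refine ⟨SetLike.mul_mem_graded hx.1 hy.1, fun hab => ?_⟩
    rcases Nat.eq_zero_or_pos a with ha | ha
    · have hb : 0 < b := by omega
      exact Ideal.mul_mem_left _ _ (hy.2 hb)
    · exact Ideal.mul_mem_right _ _ (hx.2 ha)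
  have h : ∀ P ∈ s, ∃ d, 0 < d ∧ ∃ w ∈ H d, w ∉ P := by
    intro P hP
    obtain ⟨hPp, hJP, hirr⟩ := hs P hP
    obtain ⟨x, hxJ, hxP⟩ := SetLike.not_le_iff_exists.mp hJP
    obtain ⟨y, hyI, hyP⟩ := SetLike.not_le_iff_exists.mp hirr
    obtain ⟨i, hi⟩ := exists_component_notMem 𝒜 P hxP
    obtain ⟨j, hj⟩ := exists_component_notMem 𝒜 P hyP
    have hj0 : 0 < j := by
      rcases Nat.eq_zero_or_pos j with h0 | h0
      · exfalso
        apply hj
        rw [h0]
        have : (decompose 𝒜 y 0 : A) = 0 := by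
          have := (HomogeneousIdeal.mem_irrelevant_iff 𝒜 y).mp hyI
          simpa [GradedRing.proj_apply] using this
        rw [this]; exact zero_mem _
      · exact h0
    refine ⟨i + j, by omega, (decompose 𝒜 x i : A) * (decompose 𝒜 y j : A),
      ⟨SetLike.mul_mem_graded (SetLike.coe_mem _) (SetLike.coe_mem _),
        fun _ => Ideal.mul_mem_right _ _ (hJ i hxJ)⟩, ?_⟩
    intro hmem
    rcases hPp.mem_or_mem hmem with h1 | h1
    · exact hi h1
    · exact hj h1
  obtain ⟨d, hd, w, hwH, hw⟩ := Groth.Agent.Lib.Helper11.Wat.exists_graded_notMem H hone hmul s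
    (fun P hP => (hs P hP).1) h
  exact ⟨d, hd, w, hwH.1, hwH.2 hd, hw⟩

/-- `A_(f)` is Noetherian (universe-polymorphic form of S4397) -/
theorem noeth_away [IsNoetherianRing A] {d : ℕ} (f : A) (hf : f ∈ 𝒜 d) :
    IsNoetherianRing (HomogeneousLocalization.Away 𝒜 f) := by
  have h1 : Algebra.FiniteType (𝒜 0) A :=
    Groth.Agent.Lib.Helper17.finiteType_of_isNoetherianRing_graded 𝒜
  have h2 : Algebra.FiniteType (𝒜 0) (HomogeneousLocalization.Away 𝒜 f) :=
    HomogeneousLocalization.Away.finiteType f d hf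
  exact Algebra.FiniteType.isNoetherianRing (𝒜 0) _

theorem locIdeal_mono {I I' : Ideal A} (h : I ≤ I') (f : A) :
    locIdeal 𝒜 I f ≤ locIdeal 𝒜 I' f :=
  Ideal.comap_mono (Ideal.map_mono h)

set_option backward.isDefEq.respectTransparency.types false in
theorem mk_mem_locIdeal_iff (P : Ideal A) [P.IsPrime] (f : A) (hfP : f ∉ P)
    (z : HomogeneousLocalization.NumDenSameDeg 𝒜 (.powers f)) :
    HomogeneousLocalization.mk z ∈ locIdeal 𝒜 P f ↔ z.num.1 ∈ P := by
  rw [locIdeal, Ideal.mem_comap, HomogeneousLocalization.algebraMap_apply,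
    HomogeneousLocalization.val_mk, Localization.mk_eq_mk', IsLocalization.mk'_eq_mul_mk'_one,
    mul_comm, Ideal.unit_mul_mem_iff_mem, ← Ideal.mem_under,
    IsLocalization.under_map_of_isPrime_disjoint (.powers f)]
  · infer_instance
  · exact (Ideal.disjoint_powers_iff_notMem_of_isPrime _).mpr hfP
  · exact isUnit_of_invertible _

theorem locIdeal_isPrime (P : Ideal A) [P.IsPrime] (f : A) (hfP : f ∉ P) :
    (locIdeal 𝒜 P f).IsPrime := by
  refine Ideal.IsPrime.comap _ (hK := ?_)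
  exact IsLocalization.isPrime_of_isPrime_disjoint
    (Submonoid.powers f) _ _ inferInstance
    ((Ideal.disjoint_powers_iff_notMem_of_isPrime _).mpr hfP)

open AlgebraicGeometry in
/-- for a prime `q` of `A_(f)`, the homogeneous prime `{a | aᵢᵐ/fⁱ ∈ q}` of `A` localises back to `q` -/
theorem locIdeal_carrier {f : A} {m : ℕ} (f_deg : f ∈ 𝒜 m) (hm : 0 < m)
    (q : PrimeSpectrum (HomogeneousLocalization.Away 𝒜 f)) :
    locIdeal 𝒜 (ProjIsoSpecTopComponent.FromSpec.carrier.asIdeal f_deg hm q) f = q.asIdeal := by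
  haveI := ProjIsoSpecTopComponent.FromSpec.carrier.asIdeal.prime f_deg hm q
  ext x
  obtain ⟨z, rfl⟩ := HomogeneousLocalization.mk_surjective x
  rw [mk_mem_locIdeal_iff 𝒜 _ f (ProjIsoSpecTopComponent.FromSpec.carrier.denom_notMem f_deg hm q)]
  exact ProjIsoSpecTopComponent.FromSpec.num_mem_carrier_iff f_deg hm q z

/-- the degree-zero fraction `z^m / f^e` attached to a homogeneous `z` of degree `e` -/
noncomputable def wz {f : A} {m : ℕ} (f_deg : f ∈ 𝒜 m) {e : ℕ} (z : A) (hz : z ∈ 𝒜 e) :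
    HomogeneousLocalization.Away 𝒜 f :=
  HomogeneousLocalization.mk ⟨m * e, ⟨z ^ m, SetLike.pow_mem_graded m hz⟩,
    ⟨f ^ e, by rw [mul_comm]; exact SetLike.pow_mem_graded e f_deg⟩, ⟨_, rfl⟩⟩

theorem wz_mem_locIdeal {f : A} {m : ℕ} (f_deg : f ∈ 𝒜 m) (hm : 0 < m) {e : ℕ} (z : A)
    (hz : z ∈ 𝒜 e) (I : Ideal A) (hzI : z ∈ I) : wz 𝒜 f_deg z hz ∈ locIdeal 𝒜 I f := by
  rw [locIdeal, Ideal.mem_comap, wz, HomogeneousLocalization.algebraMap_apply,
    HomogeneousLocalization.val_mk, Localization.mk_eq_mk', IsLocalization.mk'_eq_mul_mk'_one]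
  apply Ideal.mul_mem_right
  apply Ideal.mem_map_of_mem
  exact Ideal.pow_mem_of_mem I hzI m hm

theorem mem_of_wz_mem_locIdeal {f : A} {m : ℕ} (f_deg : f ∈ 𝒜 m) (hm : 0 < m) {e : ℕ} (z : A)
    (hz : z ∈ 𝒜 e) (P : Ideal A) [P.IsPrime] (hfP : f ∉ P)
    (h : wz 𝒜 f_deg z hz ∈ locIdeal 𝒜 P f) : z ∈ P := by
  rw [wz, mk_mem_locIdeal_iff 𝒜 P f hfP] at h
  exact Ideal.IsPrime.mem_of_pow_mem inferInstance m h

open AlgebraicGeometry in
/-- an ideal generated by homogeneous elements is contained in the prime of `A` attached to a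
prime `Q` of `A_(f)` containing the fractions attached to the generators -/
theorem le_carrier_of_wz_mem {f : A} {m : ℕ} (f_deg : f ∈ 𝒜 m) (hm : 0 < m)
    (q : PrimeSpectrum (HomogeneousLocalization.Away 𝒜 f)) {e : ℕ} (z : A) (hz : z ∈ 𝒜 e)
    (h : wz 𝒜 f_deg z hz ∈ q.asIdeal) :
    z ∈ ProjIsoSpecTopComponent.FromSpec.carrier.asIdeal f_deg hm q := by
  exact (ProjIsoSpecTopComponent.FromSpec.mem_carrier_iff_of_mem f_deg hm q z hz).mpr h

open AlgebraicGeometry in
/-- minimal primes of `I_(f)` come from minimal primes of `I` (for homogeneous `I`) -/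
theorem exists_minimalPrimes_of_locIdeal {f : A} {m : ℕ} (f_deg : f ∈ 𝒜 m) (hm : 0 < m)
    (I : Ideal A) (hI : I.IsHomogeneous 𝒜) (Q : Ideal (HomogeneousLocalization.Away 𝒜 f))
    (hQ : Q ∈ (locIdeal 𝒜 I f).minimalPrimes) :
    ∃ p ∈ I.minimalPrimes, f ∉ p ∧ Q = locIdeal 𝒜 p f := by
  haveI hQp : Q.IsPrime := hQ.1.1
  let q : PrimeSpectrum (HomogeneousLocalization.Away 𝒜 f) := ⟨Q, hQp⟩
  set P := ProjIsoSpecTopComponent.FromSpec.carrier.asIdeal f_deg hm q with hP
  haveI hPp : P.IsPrime := ProjIsoSpecTopComponent.FromSpec.carrier.asIdeal.prime f_deg hm q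
  have hfP : f ∉ P := ProjIsoSpecTopComponent.FromSpec.carrier.denom_notMem f_deg hm q
  have hPQ : locIdeal 𝒜 P f = Q := locIdeal_carrier 𝒜 f_deg hm q
  have hIP : I ≤ P := by
    classical
    intro a ha
    rw [← DirectSum.sum_support_decompose 𝒜 a]
    refine Ideal.sum_mem _ fun i _ => ?_
    apply le_carrier_of_wz_mem 𝒜 f_deg hm q _ (SetLike.coe_mem (decompose 𝒜 a i))
    exact hQ.1.2 (wz_mem_locIdeal 𝒜 f_deg hm _ _ I (hI i ha))
  obtain ⟨p, hp, hpP⟩ := Ideal.exists_minimalPrimes_le hIP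
  haveI : p.IsPrime := hp.1.1
  have hfp : f ∉ p := fun h => hfP (hpP h)
  refine ⟨p, hp, hfp, ?_⟩
  haveI := locIdeal_isPrime 𝒜 p f hfp
  apply le_antisymm
  · exact hQ.2 ⟨inferInstance, locIdeal_mono 𝒜 hp.1.2 f⟩ (hPQ ▸ locIdeal_mono 𝒜 hpP f)
  · exact hPQ ▸ locIdeal_mono 𝒜 hpP f

end Groth.Agent.Lib.Helper11.GeoHt
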