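import Mathlib
import Groth.Agent.Lib.Helper11.GeoHt1

/-!
# Geometric height: inductive construction of homogeneous parameters
-/

set_option autoImplicit false
set_option linter.unusedSectionVars false
set_option linter.unusedVariables false
set_option linter.style.haveILetI false

open W4c2ratsingkovacs DirectSum

namespace Groth.Agent.Lib.Helper11.GeoHt

variable {R : Type*} {A : Type*} [CommRing R] [CommRing A] [Algebra R A]
  (𝒜 : ℕ → Submodule R A) [GradedRing 𝒜]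

/-- the invariant of the construction -/
def Inv (J : Ideal A) (P : Finset (Ideal A)) (zs : List A) : Prop :=
  (∀ z ∈ zs, (∃ n : ℕ, 0 < n ∧ z ∈ 𝒜 n) ∧ z ∈ J ∧ ∀ q ∈ P, z ∉ q) ∧
  ∀ (f : A) (n : ℕ), 0 < n → f ∈ 𝒜 n → f ∉ J.radical → ∀ j ≤ zs.length,
    ∀ Q ∈ (locIdeal 𝒜 (Ideal.ofList (zs.take j)) f).minimalPrimes, (j : ℕ∞) ≤ Q.height

theorem inv_nil (J : Ideal A) (P : Finset (Ideal A)) : Inv 𝒜 J P [] := by
  refine ⟨fun z hz => absurd hz (List.not_mem_nil), ?_⟩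
  intro f n hn hf hfJ j hj Q hQ
  have : j = 0 := by simpa using hj
  subst this
  simp

theorem ofList_homogeneous (zs : List A) (h : ∀ z ∈ zs, ∃ n : ℕ, z ∈ 𝒜 n) :
    (Ideal.ofList zs).IsHomogeneous 𝒜 := by
  apply Ideal.homogeneous_span
  intro x hx
  obtain ⟨n, hn⟩ := h x hx
  exact ⟨n, hn⟩

theorem mem_irrelevant_of_pos {f : A} {n : ℕ} (hn : 0 < n) (hf : f ∈ 𝒜 n) :
    f ∈ (HomogeneousIdeal.irrelevant 𝒜).toIdeal :=
  DirectSum.decompose_of_mem_ne 𝒜 hf hn.ne'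

theorem inv_step [IsNoetherianRing A] (J : Ideal A) (hJ : J.IsHomogeneous 𝒜) (h : ℕ)
    (hJh : HasUniformGeomHeight 𝒜 J h) (P : Finset (Ideal A))
    (hP : ∀ q ∈ P, q.IsPrime ∧ ¬ J ≤ q ∧ ¬ (HomogeneousIdeal.irrelevant 𝒜).toIdeal ≤ q)
    (zs : List A) (hzs : Inv 𝒜 J P zs) (hlen : zs.length < h) :
    ∃ z, Inv 𝒜 J P (zs ++ [z]) := by
  classical
  set I := Ideal.ofList zs with hI
  have hIhom : I.IsHomogeneous 𝒜 :=
    ofList_homogeneous 𝒜 zs fun z hz => let ⟨n, _, hn⟩ := (hzs.1 z hz).1; ⟨n, hn⟩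
  set S : Finset (Ideal A) := P ∪
    (Ideal.finite_minimalPrimes_of_isNoetherianRing A I).toFinset.filter
      (fun p => ¬ J ≤ p ∧ ¬ (HomogeneousIdeal.irrelevant 𝒜).toIdeal ≤ p) with hS
  have hSprop : ∀ q ∈ S, q.IsPrime ∧ ¬ J ≤ q ∧ ¬ (HomogeneousIdeal.irrelevant 𝒜).toIdeal ≤ q := by
    intro q hq
    rcases Finset.mem_union.mp hq with h1 | h1
    · exact hP q h1
    · rw [Finset.mem_filter, Set.Finite.mem_toFinset] at h1
      exact ⟨h1.1.1.1, h1.2⟩
  obtain ⟨e, he, z, hze, hzJ, hzS⟩ := exists_homog_avoid 𝒜 J hJ S hSprop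
  refine ⟨z, ?_, ?_⟩
  · intro x hx
    rcases List.mem_append.mp hx with h1 | h1
    · exact hzs.1 x h1
    · have : x = z := by simpa using h1
      subst this
      exact ⟨⟨e, he, hze⟩, hzJ, fun q hq => hzS q (Finset.mem_union_left _ hq)⟩
  · intro f n hn hf hfJ j hj Q hQ
    rw [List.length_append, List.length_singleton] at hj
    rcases Nat.lt_or_ge j (zs.length + 1) with hj' | hj'
    · have hj'' : j ≤ zs.length := by omega
      rw [List.take_append_of_le_length hj''] at hQ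
      exact hzs.2 f n hn hf hfJ j hj'' Q hQ
    · have hjeq : j = zs.length + 1 := le_antisymm hj hj'
      subst hjeq
      have htake : (zs ++ [z]).take (zs.length + 1) = zs ++ [z] := by
        apply List.take_of_length_le
        simp
      rw [htake] at hQ
      set I' := Ideal.ofList (zs ++ [z]) with hI'
      have hII' : I ≤ I' := by
        rw [hI', Ideal.ofList_append]; exact le_sup_left
      have hzI' : z ∈ I' := by
        rw [hI', Ideal.ofList_append]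
        apply Ideal.mem_sup_right
        apply Ideal.subset_span
        simp
      haveI hQp : Q.IsPrime := hQ.1.1
      have hIQ : locIdeal 𝒜 I f ≤ Q := (locIdeal_mono 𝒜 hII' f).trans hQ.1.2
      obtain ⟨Q', hQ', hQ'Q⟩ := Ideal.exists_minimalPrimes_le hIQ
      haveI hQ'p : Q'.IsPrime := hQ'.1.1
      have hIH : ((zs.length : ℕ) : ℕ∞) ≤ Q'.height := by
        apply hzs.2 f n hn hf hfJ zs.length le_rfl Q'
        rw [List.take_length]; exact hQ'
      rcases lt_or_eq_of_le hQ'Q with hlt | heq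
      · have := Ideal.height_add_one_le_of_lt_of_isPrime hlt
        calc ((zs.length + 1 : ℕ) : ℕ∞) = (zs.length : ℕ∞) + 1 := by push_cast; rfl
          _ ≤ Q'.height + 1 := by gcongr
          _ ≤ Q.height := this
      · subst heq
        obtain ⟨p, hp, hfp, hQeq⟩ := exists_minimalPrimes_of_locIdeal 𝒜 hf hn I hIhom Q' hQ'
        haveI : p.IsPrime := hp.1.1
        have hzp : z ∈ p := by
          apply mem_of_wz_mem_locIdeal 𝒜 hf hn z hze p hfp
          rw [← hQeq]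
          exact hQ.1.2 (wz_mem_locIdeal 𝒜 hf hn z hze I' hzI')
        have hpS : ¬ (¬ J ≤ p ∧ ¬ (HomogeneousIdeal.irrelevant 𝒜).toIdeal ≤ p) := by
          intro hcon
          apply hzS p _ hzp
          apply Finset.mem_union_right
          rw [Finset.mem_filter, Set.Finite.mem_toFinset]
          exact ⟨hp, hcon⟩
        rw [not_and_or, not_not, not_not] at hpS
        rcases hpS with h1 | h1
        · have h2 : locIdeal 𝒜 J f ≤ Q' := hQeq ▸ locIdeal_mono 𝒜 h1 f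
          have h3 : (locIdeal 𝒜 J f).height = h := hJh f n hn hf hfJ
          calc ((zs.length + 1 : ℕ) : ℕ∞) ≤ (h : ℕ∞) := by exact_mod_cast hlen
            _ = (locIdeal 𝒜 J f).height := h3.symm
            _ ≤ Q'.height := Ideal.height_mono h2
        · exact absurd (h1 (mem_irrelevant_of_pos 𝒜 hn hf)) hfp

theorem exists_inv [IsNoetherianRing A] (J : Ideal A) (hJ : J.IsHomogeneous 𝒜) (h : ℕ)
    (hJh : HasUniformGeomHeight 𝒜 J h) (P : Finset (Ideal A))
    (hP : ∀ q ∈ P, q.IsPrime ∧ ¬ J ≤ q ∧ ¬ (HomogeneousIdeal.irrelevant 𝒜).toIdeal ≤ q)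
    (k : ℕ) (hk : k ≤ h) : ∃ zs : List A, zs.length = k ∧ Inv 𝒜 J P zs := by
  induction k with
  | zero => exact ⟨[], rfl, inv_nil 𝒜 J P⟩
  | succ k ih =>
    obtain ⟨zs, hlen, hzs⟩ := ih (by omega)
    obtain ⟨z, hz⟩ := inv_step 𝒜 J hJ h hJh P hP zs hzs (by omega)
    exact ⟨zs ++ [z], by simp [hlen], hz⟩

open AlgebraicGeometry in
/-- Krull bound: a minimal prime of `(z_1, …, z_j)_(f)` has height at most `j` -/
theorem height_le_of_minimal [IsNoetherianRing A] {f : A} {n : ℕ} (hn : 0 < n) (hf : f ∈ 𝒜 n)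
    (l : List A) (hl : ∀ z ∈ l, ∃ e : ℕ, z ∈ 𝒜 e)
    (Q : Ideal (HomogeneousLocalization.Away 𝒜 f))
    (hQ : Q ∈ (locIdeal 𝒜 (Ideal.ofList l) f).minimalPrimes) : Q.height ≤ l.length := by
  classical
  haveI : IsNoetherianRing (HomogeneousLocalization.Away 𝒜 f) := noeth_away 𝒜 f hf
  have hex : ∀ z : A, ∃ w : HomogeneousLocalization.Away 𝒜 f, (∃ e : ℕ, z ∈ 𝒜 e) →
      ((∀ I : Ideal A, z ∈ I → w ∈ locIdeal 𝒜 I f) ∧
        ∀ q : PrimeSpectrum (HomogeneousLocalization.Away 𝒜 f), w ∈ q.asIdeal →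
          z ∈ ProjIsoSpecTopComponent.FromSpec.carrier.asIdeal hf hn q) := by
    intro z
    by_cases hz : ∃ e : ℕ, z ∈ 𝒜 e
    · obtain ⟨e, he⟩ := hz
      exact ⟨wz 𝒜 hf z he, fun _ => ⟨fun I hzI => wz_mem_locIdeal 𝒜 hf hn z he I hzI,
        fun q hq => le_carrier_of_wz_mem 𝒜 hf hn q z he hq⟩⟩
    · exact ⟨0, fun h => absurd h hz⟩
  choose w hw using hex
  set s : Finset (HomogeneousLocalization.Away 𝒜 f) := (l.map w).toFinset with hs
  have hcard : s.card ≤ l.length := by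
    calc s.card ≤ (l.map w).length := List.toFinset_card_le _
      _ = l.length := List.length_map _
  haveI hQp : Q.IsPrime := hQ.1.1
  have hspan : Ideal.span (s : Set (HomogeneousLocalization.Away 𝒜 f)) ≤
      locIdeal 𝒜 (Ideal.ofList l) f := by
    rw [Ideal.span_le]
    intro x hx
    rw [Finset.mem_coe, hs, List.mem_toFinset, List.mem_map] at hx
    obtain ⟨z, hz, rfl⟩ := hx
    exact (hw z (hl z hz)).1 _ (Ideal.subset_span hz)
  have hmin : Q ∈ (Ideal.span (s : Set (HomogeneousLocalization.Away 𝒜 f))).minimalPrimes := by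
    refine ⟨⟨hQp, hspan.trans hQ.1.2⟩, ?_⟩
    rintro Q'' ⟨hQ''p, hQ''s⟩ hQ''Q
    apply hQ.2 ⟨hQ''p, ?_⟩ hQ''Q
    let q : PrimeSpectrum (HomogeneousLocalization.Away 𝒜 f) := ⟨Q'', hQ''p⟩
    have h1 : Ideal.ofList l ≤ ProjIsoSpecTopComponent.FromSpec.carrier.asIdeal hf hn q := by
      rw [Ideal.ofList, Ideal.span_le]
      intro z hz
      apply (hw z (hl z hz)).2 q
      apply hQ''s
      apply Ideal.subset_span
      rw [Finset.mem_coe, hs, List.mem_toFinset, List.mem_map]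
      exact ⟨z, hz, rfl⟩
    have h2 := locIdeal_mono 𝒜 h1 f
    rwa [locIdeal_carrier 𝒜 hf hn q] at h2
  calc Q.height ≤ (s.card : ℕ∞) := Ideal.height_le_card_of_mem_minimalPrimes_span_finset hmin
    _ ≤ (l.length : ℕ∞) := by exact_mod_cast hcard

/-- main theorem -/
theorem main [IsNoetherianRing A] (J : Ideal A) (hJ : J.IsHomogeneous 𝒜) (h : ℕ)
    (hJh : HasUniformGeomHeight 𝒜 J h) (P : Finset (Ideal A))
    (hP : ∀ q ∈ P, q.IsPrime ∧ ¬ J ≤ q ∧ ¬ (HomogeneousIdeal.irrelevant 𝒜).toIdeal ≤ q) :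
    ∃ zs : List A, zs.length = h ∧
      (∀ z ∈ zs, (∃ n : ℕ, 0 < n ∧ z ∈ 𝒜 n) ∧ z ∈ J ∧ ∀ q ∈ P, z ∉ q) ∧
      ∀ (f : A) (n : ℕ), 0 < n → f ∈ 𝒜 n → f ∉ J.radical →
        ∀ j : ℕ, 1 ≤ j → j ≤ h → geomHeight 𝒜 (Ideal.ofList (zs.take j)) f = j := by
  obtain ⟨zs, hlen, hzs⟩ := exists_inv 𝒜 J hJ h hJh P hP h le_rfl
  refine ⟨zs, hlen, hzs.1, ?_⟩
  intro f n hn hf hfJ j hj1 hjh
  set Ij := Ideal.ofList (zs.take j) with hIj
  have htl : (zs.take j).length = j := by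
    rw [List.length_take]; omega
  apply le_antisymm
  · -- upper bound
    have hIJ : Ij ≤ J := by
      rw [hIj, Ideal.ofList, Ideal.span_le]
      intro z hz
      exact (hzs.1 z (List.mem_of_mem_take hz)).2.1
    have hJtop : locIdeal 𝒜 J f ≠ ⊤ := by
      intro htop
      have h3 : (locIdeal 𝒜 J f).height = h := hJh f n hn hf hfJ
      rw [htop, Ideal.height_top] at h3
      exact ENat.top_ne_coe h h3
    have hItop : locIdeal 𝒜 Ij f ≠ ⊤ := fun htop =>
      hJtop (top_le_iff.mp (htop ▸ locIdeal_mono 𝒜 hIJ f))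
    obtain ⟨M, hM, hIM⟩ := Ideal.exists_le_maximal _ hItop
    haveI := hM.isPrime
    obtain ⟨Q, hQ, -⟩ := Ideal.exists_minimalPrimes_le hIM
    have h4 : Q.height ≤ (zs.take j).length :=
      height_le_of_minimal 𝒜 hn hf (zs.take j)
        (fun z hz => let ⟨e, _, he⟩ := (hzs.1 z (List.mem_of_mem_take hz)).1; ⟨e, he⟩) Q hQ
    rw [htl] at h4
    rw [geomHeight, Ideal.height_eq_inf_minimalPrimes]
    exact (iInf₂_le Q hQ).trans h4
  · rw [geomHeight, Ideal.height_eq_inf_minimalPrimes]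
    refine le_iInf₂ fun Q hQ => ?_
    exact hzs.2 f n hn hf hfJ j (by omega) Q hQ

end Groth.Agent.Lib.Helper11.GeoHt
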