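import Mathlib

set_option autoImplicit false
set_option linter.style.haveILetI false

namespace Groth.Agent.Lib.Helper11.Glue

/-- Saturation of the image of `A` in an `A`-algebra `R` with respect to an ideal `I`:
elements `x` with `I^N x ⊆ image of A` for some `N`. -/
def sat (A : Type*) (R : Type*) [CommRing A] [CommRing R] [Algebra A R] (I : Ideal A) :
    Subalgebra A R where
  carrier := {x | ∃ N : ℕ, ∀ y ∈ I ^ N, y • x ∈ (algebraMap A R).range}
  mul_mem' := by
    rintro x x' ⟨N, hN⟩ ⟨N', hN'⟩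
    refine ⟨N + N', fun y hy => ?_⟩
    rw [pow_add] at hy
    refine Submodule.mul_induction_on hy ?_ ?_
    · intro a ha b hb
      have : (a * b) • (x * x') = (a • x) * (b • x') := by
        rw [smul_mul_smul_comm]
      rw [this]
      exact Subring.mul_mem _ (hN a ha) (hN' b hb)
    · intro a b ha hb
      rw [add_smul]
      exact Subring.add_mem _ ha hb
  add_mem' := by
    rintro x x' ⟨N, hN⟩ ⟨N', hN'⟩
    refine ⟨N + N', fun y hy => ?_⟩
    rw [smul_add]
    exact Subring.add_mem _ (hN y (Ideal.pow_le_pow_right (Nat.le_add_right N N') hy))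
      (hN' y (Ideal.pow_le_pow_right (Nat.le_add_left N' N) hy))
  algebraMap_mem' := by
    intro r
    refine ⟨0, fun y _ => ⟨y * r, ?_⟩⟩
    rw [map_mul, Algebra.smul_def]

theorem mem_sat {A : Type*} {R : Type*} [CommRing A] [CommRing R] [Algebra A R] {I : Ideal A}
    {x : R} : x ∈ sat A R I ↔ ∃ N : ℕ, ∀ y ∈ I ^ N, y • x ∈ (algebraMap A R).range := Iff.rfl

section Max
variable {A : Type*} [CommRing A] {ι : Type*} [Fintype ι] (m : ι → Ideal A)
  [hm : ∀ l, (m l).IsMaximal]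

include hm in
theorem eq_top_of_pow_le (𝔟 : Ideal A) (N : ℕ) (h1 : (⨅ l, m l) ^ N ≤ 𝔟)
    (h2 : ∀ l, ∃ σ ∈ 𝔟, σ ∉ m l) : 𝔟 = ⊤ := by
  by_contra hne
  obtain ⟨M, hM, hle⟩ := Ideal.exists_le_maximal 𝔟 hne
  haveI := hM.isPrime
  have h3 : (⨅ l, m l) ≤ M := Ideal.IsPrime.le_of_pow_le (h1.trans hle)
  rw [← Finset.inf_univ_eq_iInf] at h3
  obtain ⟨l, -, hl⟩ := (Ideal.IsPrime.inf_le' hM.isPrime).mp h3
  have : m l = M := (hm l).eq_of_le hM.ne_top hl
  obtain ⟨σ, hσ, hσ'⟩ := h2 l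
  exact hσ' (this ▸ hle hσ)

variable [DecidableEq ι]

include hm in
theorem exists_eps (hinj : Function.Injective m) (l : ι) (N : ℕ) :
    ∃ ε : A, ε ∉ m l ∧ ∀ w ∈ (m l) ^ N, w * ε ∈ (⨅ l, m l) ^ N := by
  haveI := (hm l).isPrime
  set P : Ideal A := ∏ l' ∈ Finset.univ.erase l, (m l') ^ N with hP
  have hnot : ¬ P ≤ m l := by
    intro hle
    obtain ⟨l', hl', hle'⟩ := (Ideal.IsPrime.prod_le (hm l).isPrime).mp hle
    have h1 : m l' ≤ m l := Ideal.IsPrime.le_of_pow_le hle'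
    have h2 : m l' = m l := (hm l').eq_of_le (hm l).ne_top h1
    exact (Finset.ne_of_mem_erase hl') (hinj h2)
  obtain ⟨ε, hεP, hε⟩ := SetLike.not_le_iff_exists.mp hnot
  refine ⟨ε, hε, fun w hw => ?_⟩
  have h1 : w * ε ∈ (m l) ^ N * P := Ideal.mul_mem_mul hw hεP
  rw [hP, Finset.mul_prod_erase Finset.univ (fun l' => (m l') ^ N) (Finset.mem_univ l),
    Finset.prod_pow] at h1
  refine Ideal.pow_right_mono ?_ N h1
  rw [← Finset.inf_univ_eq_iInf]
  exact Ideal.prod_le_inf

include hm in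
theorem exists_w (hinj : Function.Injective m) {l l' : ι} (hne : l ≠ l') (N : ℕ) :
    ∃ w ∈ (m l) ^ N, w ∉ m l' := by
  haveI := (hm l').isPrime
  have hnot : ¬ (m l) ^ N ≤ m l' := by
    intro hle
    have h1 : m l ≤ m l' := Ideal.IsPrime.le_of_pow_le hle
    have h2 : m l = m l' := (hm l).eq_of_le (hm l').ne_top h1
    exact hne (hinj h2)
  obtain ⟨w, hw, hw'⟩ := SetLike.not_le_iff_exists.mp hnot
  exact ⟨w, hw, hw'⟩

end Max

section Main
universe u
variable {A : Type u} [CommRing A] {ι κ : Type} [Fintype ι] [DecidableEq ι] [Fintype κ]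
  (m : ι → Ideal A) [hm : ∀ l, (m l).IsMaximal] (hinj : Function.Injective m)
  (f : κ → A) (hf : Ideal.span (Set.range f) = ⨅ l, m l)
  (Al : ι → Type u) [∀ l, CommRing (Al l)] [∀ l, Algebra A (Al l)]
  [∀ l, IsLocalization.AtPrime (Al l) (m l)]
  (B : ι → Type u) [∀ l, CommRing (B l)] [∀ l, Algebra (Al l) (B l)] [∀ l, Algebra A (B l)]
  [∀ l, IsScalarTower A (Al l) (B l)]
  (Af : κ → Type u) [∀ i, CommRing (Af i)] [∀ i, Algebra A (Af i)]
  [∀ i, IsLocalization.Away (f i) (Af i)]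

include hf in
theorem f_mem (i : κ) : f i ∈ ⨅ l, m l := by
  rw [← hf]; exact Ideal.subset_span ⟨i, rfl⟩

include hm hf in
/-- An ideal containing a power of each `f i` and not contained in any `m l` is `⊤`. -/
theorem eq_top_of_forall (𝔟 : Ideal A) (h1 : ∀ i, ∃ M : ℕ, f i ^ M ∈ 𝔟)
    (h2 : ∀ l, ∃ σ ∈ 𝔟, σ ∉ m l) : 𝔟 = ⊤ := by
  have hrad : (⨅ l, m l) ≤ 𝔟.radical := by
    rw [← hf, Ideal.span_le]
    rintro _ ⟨i, rfl⟩
    exact h1 i
  have hfg : (⨅ l, m l).FG := by
    rw [← hf]; exact Submodule.fg_span (Set.finite_range f)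
  obtain ⟨N, hN⟩ := Ideal.exists_pow_le_of_le_radical_of_fg hrad hfg
  exact eq_top_of_pow_le m 𝔟 N hN h2

include hm hf in
theorem eq_zero_of_forall (a : A) (h1 : ∀ l, algebraMap A (Al l) a = 0)
    (h2 : ∀ i, algebraMap A (Af i) a = 0) : a = 0 := by
  let 𝔟 : Ideal A := LinearMap.ker (LinearMap.toSpanSingleton A A a)
  have hmem : ∀ c, c ∈ 𝔟 ↔ c * a = 0 := fun c => by
    simp [𝔟, LinearMap.mem_ker, LinearMap.toSpanSingleton_apply]
  have h𝔟 : 𝔟 = ⊤ := by
    apply eq_top_of_forall m f hf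
    · intro i
      obtain ⟨⟨_, M, rfl⟩, hM⟩ :=
        (IsLocalization.map_eq_zero_iff (Submonoid.powers (f i)) (Af i) a).mp (h2 i)
      exact ⟨M, (hmem _).mpr hM⟩
    · intro l
      obtain ⟨⟨σ, hσ⟩, hσa⟩ :=
        (IsLocalization.map_eq_zero_iff (m l).primeCompl (Al l) a).mp (h1 l)
      exact ⟨σ, (hmem _).mpr hσa, hσ⟩
  have : (1 : A) ∈ 𝔟 := h𝔟 ▸ Submodule.mem_top
  simpa using (hmem 1).mp this

theorem mem_range_iff (x : (∀ l, B l) × (∀ i, Af i)) :
    x ∈ (algebraMap A ((∀ l, B l) × (∀ i, Af i))).range ↔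
      ∃ a : A, (∀ l, algebraMap A (B l) a = x.1 l) ∧ ∀ i, algebraMap A (Af i) a = x.2 i := by
  rw [RingHom.mem_range]
  constructor
  · rintro ⟨a, rfl⟩
    exact ⟨a, fun l => rfl, fun i => rfl⟩
  · rintro ⟨a, h1, h2⟩
    refine ⟨a, Prod.ext (funext h1) (funext h2)⟩

variable (n : ℕ)
  (hker : ∀ l (a : Al l), algebraMap (Al l) (B l) a = 0 →
    ∀ y ∈ (⨅ l, m l) ^ n, algebraMap A (Al l) y * a = 0)

include hm Al in
theorem isUnit_algebraMap_B {l : ι} {w : A} (hw : w ∉ m l) : IsUnit (algebraMap A (B l) w) := by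
  rw [IsScalarTower.algebraMap_apply A (Al l) (B l)]
  exact (IsLocalization.map_units (Al l) (⟨w, hw⟩ : (m l).primeCompl)).map _

include hm hinj hf hker in
/-- KEY: an element of the saturation whose `B l`-component vanishes is killed by some
`ρ ∉ m l`. -/
theorem exists_smul_eq_zero (x : (∀ l, B l) × (∀ i, Af i))
    (hx : x ∈ sat A ((∀ l, B l) × (∀ i, Af i)) (⨅ l, m l)) (l : ι) (hl : x.1 l = 0) :
    ∃ ρ : A, ρ ∉ m l ∧ ρ • x = 0 := by
  classical
  haveI := (hm l).isPrime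
  obtain ⟨N, hN⟩ := hx
  -- Step 1
  have step1 : ∀ c ∈ (⨅ l, m l) ^ N * (⨅ l, m l) ^ n, ∃ ρ : A, ρ ∉ m l ∧ (ρ * c) • x = 0 := by
    intro c hc
    refine Submodule.mul_induction_on hc ?_ ?_
    · intro z hz y' hy'
      obtain ⟨a, ha⟩ := hN z hz
      have hal : algebraMap A (B l) a = 0 := by
        have := congrArg (fun t => t.1 l) ha
        simpa [hl] using this
      rw [IsScalarTower.algebraMap_apply A (Al l) (B l)] at hal
      have h1 := hker l _ hal y' hy'
      rw [← map_mul] at h1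
      obtain ⟨⟨ρ, hρ⟩, hρa⟩ :=
        (IsLocalization.map_eq_zero_iff (m l).primeCompl (Al l) _).mp h1
      refine ⟨ρ, hρ, ?_⟩
      have : (ρ * (z * y')) • x = (ρ * y') • (z • x) := by
        rw [smul_smul]; congr 1; ring
      rw [this, ← ha, Algebra.smul_def, ← map_mul]
      have : ρ * y' * a = 0 := by rw [mul_assoc]; exact hρa
      rw [this, map_zero]
    · rintro c c' ⟨ρ, hρ, h⟩ ⟨ρ', hρ', h'⟩
      refine ⟨ρ * ρ', fun hh => (Ideal.IsPrime.mem_or_mem inferInstance hh).elim hρ hρ', ?_⟩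
      have : (ρ * ρ' * (c + c')) • x = ρ' • ((ρ * c) • x) + ρ • ((ρ' * c') • x) := by
        rw [smul_smul, smul_smul, ← add_smul]; congr 1; ring
      rw [this, h, h', smul_zero, smul_zero, add_zero]
  obtain ⟨ε, hε, hεw⟩ := exists_eps m hinj l (N + n)
  -- B-components
  have hB : ∀ l' : ι, ∃ ρ : A, ρ ∉ m l ∧ ρ • x.1 l' = 0 := by
    intro l'
    by_cases hll : l = l'
    · subst hll
      exact ⟨1, (Ideal.ne_top_iff_one _).mp (hm l).ne_top, by rw [hl, smul_zero]⟩
    · obtain ⟨w, hw, hw'⟩ := exists_w m hinj hll (N + n)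
      have hc : w * ε ∈ (⨅ l, m l) ^ N * (⨅ l, m l) ^ n := by
        rw [← pow_add]; exact hεw w hw
      obtain ⟨ρ, hρ, h⟩ := step1 _ hc
      refine ⟨ρ * ε, fun hh => (Ideal.IsPrime.mem_or_mem inferInstance hh).elim hρ hε, ?_⟩
      have h1 := congrArg (fun t => t.1 l') h
      simp only [Prod.smul_fst, Pi.smul_apply, Prod.fst_zero, Pi.zero_apply] at h1
      have h2 : algebraMap A (B l') w * ((ρ * ε) • x.1 l') = 0 := by
        rw [← Algebra.smul_def, smul_smul, ← h1]; congr 1; ring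
      exact (isUnit_algebraMap_B m Al B hw').mul_right_eq_zero.mp h2
  -- Af-components
  have hA : ∀ i : κ, ∃ ρ : A, ρ ∉ m l ∧ ρ • x.2 i = 0 := by
    intro i
    have hfi := f_mem m f hf i
    have hc : f i ^ N * f i ^ n ∈ (⨅ l, m l) ^ N * (⨅ l, m l) ^ n :=
      Ideal.mul_mem_mul (Ideal.pow_mem_pow hfi N) (Ideal.pow_mem_pow hfi n)
    obtain ⟨ρ, hρ, h⟩ := step1 _ hc
    refine ⟨ρ, hρ, ?_⟩
    have h1 := congrArg (fun t => t.2 i) h
    simp only [Prod.smul_snd, Pi.smul_apply, Prod.snd_zero, Pi.zero_apply] at h1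
    have h2 : algebraMap A (Af i) (f i ^ N * f i ^ n) * (ρ • x.2 i) = 0 := by
      rw [← Algebra.smul_def, smul_smul, ← h1]; congr 1; ring
    have hu : IsUnit (algebraMap A (Af i) (f i ^ N * f i ^ n)) := by
      rw [← pow_add, map_pow]
      exact (IsLocalization.Away.algebraMap_isUnit (f i)).pow _
    exact hu.mul_right_eq_zero.mp h2
  choose ρB hρB hρB' using hB
  choose ρA hρA hρA' using hA
  refine ⟨(∏ l', ρB l') * ∏ i, ρA i, ?_, ?_⟩
  · intro hh
    rcases Ideal.IsPrime.mem_or_mem inferInstance hh with h1 | h1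
    · obtain ⟨l', -, h2⟩ := Ideal.IsPrime.prod_mem_iff.mp h1
      exact hρB l' h2
    · obtain ⟨i, -, h2⟩ := Ideal.IsPrime.prod_mem_iff.mp h1
      exact hρA i h2
  · refine Prod.ext (funext fun l' => ?_) (funext fun i => ?_)
    · simp only [Prod.smul_fst, Pi.smul_apply, Prod.fst_zero, Pi.zero_apply]
      rw [← Finset.mul_prod_erase Finset.univ ρB (Finset.mem_univ l'), mul_assoc, mul_comm,
        mul_smul, hρB' l', smul_zero]
    · simp only [Prod.smul_snd, Pi.smul_apply, Prod.snd_zero, Pi.zero_apply]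
      rw [← Finset.mul_prod_erase Finset.univ ρA (Finset.mem_univ i), ← mul_assoc, mul_comm,
        mul_smul, mul_smul, hρA' i, smul_zero, smul_zero]

/-- The conductor ideal `{c | c • x ∈ image of A}`. -/
def conductor (R : Type*) [CommRing R] [Algebra A R] (x : R) : Ideal A where
  carrier := {c | c • x ∈ (algebraMap A R).range}
  add_mem' := by
    intro c c' hc hc'
    change (c + c') • x ∈ (algebraMap A R).range
    rw [add_smul]
    exact Subring.add_mem _ hc hc'
  zero_mem' := by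
    change (0 : A) • x ∈ (algebraMap A R).range
    rw [zero_smul]
    exact Subring.zero_mem _
  smul_mem' := by
    rintro c' c ⟨a, ha⟩
    change (c' • c) • x ∈ (algebraMap A R).range
    refine ⟨c' * a, ?_⟩
    rw [smul_eq_mul, mul_smul, ← ha, map_mul, Algebra.smul_def]

theorem mem_conductor {R : Type*} [CommRing R] [Algebra A R] {x : R} {c : A} :
    c ∈ conductor (A := A) R x ↔ c • x ∈ (algebraMap A R).range := Iff.rfl

include hm hinj hf hker in
/-- RANGE: an element of the saturation all of whose `B l`-components come from `Al l`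
comes from `A`. -/
theorem mem_range_of_forall (x : (∀ l, B l) × (∀ i, Af i))
    (hx : x ∈ sat A ((∀ l, B l) × (∀ i, Af i)) (⨅ l, m l))
    (h : ∀ l, ∃ a : Al l, algebraMap (Al l) (B l) a = x.1 l) :
    x ∈ (algebraMap A ((∀ l, B l) × (∀ i, Af i))).range := by
  have hx' := hx
  obtain ⟨N, hN⟩ := hx'
  have htop : conductor (A := A) ((∀ l, B l) × (∀ i, Af i)) x = ⊤ := by
    apply eq_top_of_pow_le m _ N
    · intro y hy
      exact hN y hy
    · intro l
      haveI := (hm l).isPrime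
      obtain ⟨a, ha⟩ := h l
      obtain ⟨⟨α, τ⟩, hατ⟩ := IsLocalization.surj (m l).primeCompl a
      simp only at hατ
      set x' : (∀ l, B l) × (∀ i, Af i) :=
        (τ : A) • x - algebraMap A ((∀ l, B l) × (∀ i, Af i)) α with hx'
      have hx'mem : x' ∈ sat A ((∀ l, B l) × (∀ i, Af i)) (⨅ l, m l) :=
        Subalgebra.sub_mem _ (Subalgebra.smul_mem _ hx _) (Subalgebra.algebraMap_mem _ _)
      have hx'l : x'.1 l = 0 := by
        have e1 : x'.1 l = (τ : A) • x.1 l - algebraMap A (B l) α := rfl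
        rw [e1, ← ha, IsScalarTower.algebraMap_apply A (Al l) (B l) α, ← hατ, map_mul,
          ← IsScalarTower.algebraMap_apply A (Al l) (B l), Algebra.smul_def, mul_comm, sub_self]
      obtain ⟨ρ, hρ, hρx⟩ := exists_smul_eq_zero m hinj f hf Al B Af n hker x' hx'mem l hx'l
      refine ⟨ρ * τ, ?_, fun hh => (Ideal.IsPrime.mem_or_mem inferInstance hh).elim hρ τ.2⟩
      rw [mem_conductor]
      refine ⟨ρ * α, ?_⟩
      rw [hx', smul_sub, sub_eq_zero] at hρx
      rw [mul_smul, hρx, map_mul, Algebra.smul_def]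
  have : (1 : A) ∈ conductor (A := A) ((∀ l, B l) × (∀ i, Af i)) x := htop ▸ Submodule.mem_top
  rw [mem_conductor, one_smul] at this
  exact this

include hm hf hker in
theorem ker_killed (a : A) (ha : algebraMap A ((∀ l, B l) × (∀ i, Af i)) a = 0)
    (y : A) (hy : y ∈ (⨅ l, m l) ^ n) : y * a = 0 := by
  apply eq_zero_of_forall m f hf Al Af
  · intro l
    have h1 : algebraMap A (B l) a = 0 := congrArg (fun t => t.1 l) ha
    rw [IsScalarTower.algebraMap_apply A (Al l) (B l)] at h1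
    rw [map_mul]
    exact hker l _ h1 y hy
  · intro i
    have h1 : algebraMap A (Af i) a = 0 := congrArg (fun t => t.2 i) ha
    rw [map_mul, h1, mul_zero]

variable (hcoker : ∀ l, ∀ y ∈ (Ideal.map (algebraMap A (Al l)) (m l)) ^ n, ∀ b : B l,
    ∃ a : Al l, algebraMap (Al l) (B l) a = y • b)

include hm hcoker in
theorem hcoker' (l : ι) (y : A) (hy : y ∈ (⨅ l, m l) ^ n) (b : B l) :
    ∃ a : Al l, algebraMap (Al l) (B l) a = y • b := by
  have h1 : algebraMap A (Al l) y ∈ (Ideal.map (algebraMap A (Al l)) (m l)) ^ n := by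
    rw [← Ideal.map_pow]
    exact Ideal.mem_map_of_mem _ (Ideal.pow_right_mono (iInf_le _ l) n hy)
  obtain ⟨a, ha⟩ := hcoker l _ h1 b
  exact ⟨a, by rw [ha, algebraMap_smul]⟩

include hm hinj hf hker hcoker in
theorem coker_killed (x : (∀ l, B l) × (∀ i, Af i))
    (hx : x ∈ sat A ((∀ l, B l) × (∀ i, Af i)) (⨅ l, m l))
    (y : A) (hy : y ∈ (⨅ l, m l) ^ n) :
    y • x ∈ (algebraMap A ((∀ l, B l) × (∀ i, Af i))).range := by
  apply mem_range_of_forall m hinj f hf Al B Af n hker _ (Subalgebra.smul_mem _ hx _)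
  intro l
  exact hcoker' m Al B n hcoker l y hy (x.1 l)

include hm hf hker hcoker in
/-- Data for the surjectivity step: a common denominator `τ ∉ m j` and numerators `α i`. -/
theorem exists_data (j : ι) (β : B j) :
    ∃ (τ : A) (α : κ → A), τ ∉ m j ∧ (∀ i, algebraMap A (B j) (α i) = τ • f i ^ n • β) ∧
      ∀ i i' i'', f i'' ^ n * (f i' ^ n * α i - f i ^ n * α i') = 0 := by
  classical
  haveI := (hm j).isPrime
  have hfn : ∀ i, f i ^ n ∈ (⨅ l, m l) ^ n := fun i => Ideal.pow_mem_pow (f_mem m f hf i) n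
  -- step 1
  have h1 : ∀ i, ∃ (α : A) (τ : A), τ ∉ m j ∧ algebraMap A (B j) α = τ • f i ^ n • β := by
    intro i
    obtain ⟨a, ha⟩ := hcoker' m Al B n hcoker j (f i ^ n) (hfn i) β
    obtain ⟨⟨α, τ⟩, hατ⟩ := IsLocalization.surj (m j).primeCompl a
    simp only at hατ
    refine ⟨α, τ, τ.2, ?_⟩
    rw [IsScalarTower.algebraMap_apply A (Al j) (B j), ← hατ, map_mul, ha,
      ← IsScalarTower.algebraMap_apply A (Al j) (B j), Algebra.smul_def (τ : A), mul_comm]
  choose α₀ τ₀ hτ₀ hα₀ using h1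
  set T : A := ∏ i, τ₀ i with hT
  have hTm : T ∉ m j := by
    intro hh
    obtain ⟨i, -, hi⟩ := Ideal.IsPrime.prod_mem_iff.mp hh
    exact hτ₀ i hi
  obtain ⟨α₁, hα₁⟩ : ∃ α₁ : κ → A,
      α₁ = fun i => (∏ i' ∈ Finset.univ.erase i, τ₀ i') * α₀ i := ⟨_, rfl⟩
  have hα₁' : ∀ i, algebraMap A (B j) (α₁ i) = T • f i ^ n • β := by
    intro i
    rw [hα₁]
    simp only
    rw [map_mul, hα₀ i, ← Algebra.smul_def, smul_smul, hT,
      ← Finset.mul_prod_erase Finset.univ τ₀ (Finset.mem_univ i), mul_comm]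
  -- step 2
  have h2 : ∀ i i' i'', ∃ ρ : A, ρ ∉ m j ∧
      ρ * (f i'' ^ n * (f i' ^ n * α₁ i - f i ^ n * α₁ i')) = 0 := by
    intro i i' i''
    have e1 : algebraMap A (B j) (f i' ^ n * α₁ i - f i ^ n * α₁ i') = 0 := by
      rw [map_sub, map_mul, map_mul, hα₁', hα₁', ← Algebra.smul_def, ← Algebra.smul_def,
        smul_comm (f i' ^ n) T, smul_comm (f i' ^ n) (f i ^ n), smul_comm (f i ^ n) T, sub_self]
    rw [IsScalarTower.algebraMap_apply A (Al j) (B j)] at e1
    have e2 := hker j _ e1 (f i'' ^ n) (hfn i'')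
    rw [← map_mul] at e2
    obtain ⟨⟨ρ, hρ⟩, hρa⟩ :=
      (IsLocalization.map_eq_zero_iff (m j).primeCompl (Al j) _).mp e2
    exact ⟨ρ, hρ, hρa⟩
  choose ρ hρ hρ' using h2
  set P : A := ∏ i, ∏ i', ∏ i'', ρ i i' i'' with hP
  have hPm : P ∉ m j := by
    intro hh
    obtain ⟨i, -, hi⟩ := Ideal.IsPrime.prod_mem_iff.mp hh
    obtain ⟨i', -, hi'⟩ := Ideal.IsPrime.prod_mem_iff.mp hi
    obtain ⟨i'', -, hi''⟩ := Ideal.IsPrime.prod_mem_iff.mp hi'
    exact hρ i i' i'' hi''
  have hPdvd : ∀ i i' i'', ρ i i' i'' ∣ P := by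
    intro i i' i''
    exact (Finset.dvd_prod_of_mem (fun i'' => ρ i i' i'') (Finset.mem_univ i'')).trans
      ((Finset.dvd_prod_of_mem (fun i' => ∏ i'', ρ i i' i'') (Finset.mem_univ i')).trans
      (Finset.dvd_prod_of_mem (fun i => ∏ i', ∏ i'', ρ i i' i'') (Finset.mem_univ i)))
  refine ⟨P * T, fun i => P * α₁ i, fun hh => (Ideal.IsPrime.mem_or_mem inferInstance hh).elim
    hPm hTm, ?_, ?_⟩
  · intro i
    rw [map_mul, hα₁', ← Algebra.smul_def, smul_smul]
  · intro i i' i''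
    obtain ⟨c, hc⟩ := hPdvd i i' i''
    have := hρ' i i' i''
    calc f i'' ^ n * (f i' ^ n * (P * α₁ i) - f i ^ n * (P * α₁ i'))
        = c * (ρ i i' i'' * (f i'' ^ n * (f i' ^ n * α₁ i - f i ^ n * α₁ i'))) := by
          rw [hc]; ring
      _ = 0 := by rw [this, mul_zero]

include hm hinj hf hker hcoker in
/-- SURJ: every `β ∈ B j` is, up to a factor `σ ∉ m j`, the `j`-component of an element of the
saturation. -/
theorem exists_mem_sat_fst_eq (j : ι) (β : B j) :
    ∃ (x : (∀ l, B l) × (∀ i, Af i)) (σ : A),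
      x ∈ sat A ((∀ l, B l) × (∀ i, Af i)) (⨅ l, m l) ∧ σ ∉ m j ∧ x.1 j = σ • β := by
  classical
  haveI := (hm j).isPrime
  obtain ⟨τ, α, hτ, hα, hδ⟩ := exists_data m f hf Al B n hker hcoker j β
  have hrad : (⨅ l, m l) ≤ (Ideal.span (Set.range fun i => f i ^ n)).radical := by
    rw [← hf, Ideal.span_le]
    rintro _ ⟨i, rfl⟩
    exact ⟨n, Ideal.subset_span ⟨i, rfl⟩⟩
  have hfg : (⨅ l, m l).FG := by
    rw [← hf]; exact Submodule.fg_span (Set.finite_range f)
  obtain ⟨k, hk⟩ := Ideal.exists_pow_le_of_le_radical_of_fg hrad hfg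
  have hδ' : ∀ ζ ∈ (⨅ l, m l) ^ k, ∀ i i', ζ * (f i' ^ n * α i - f i ^ n * α i') = 0 := by
    intro ζ hζ i i'
    have hle : Ideal.span (Set.range fun i => f i ^ n) ≤
        LinearMap.ker (LinearMap.toSpanSingleton A A (f i' ^ n * α i - f i ^ n * α i')) := by
      rw [Ideal.span_le]
      rintro _ ⟨i'', rfl⟩
      simp only [SetLike.mem_coe, LinearMap.mem_ker, LinearMap.toSpanSingleton_apply, smul_eq_mul]
      exact hδ i i' i''
    have := hle (hk hζ)
    simpa only [LinearMap.mem_ker, LinearMap.toSpanSingleton_apply, smul_eq_mul] using this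
  have hδ'' : ∀ ζ ∈ (⨅ l, m l) ^ k, ∀ i i', ζ * (f i ^ n * α i') = ζ * (f i' ^ n * α i) := by
    intro ζ hζ i i'
    have := hδ' ζ hζ i i'
    linear_combination (-1 : A) * this
  obtain ⟨ε, hε, hεw⟩ := exists_eps m hinj j k
  have hγ : ∀ l, j ≠ l → ∃ γ : Al l, ∀ ζ ∈ (⨅ l, m l) ^ k, ∀ i,
      algebraMap A (Al l) (ζ * f i ^ n) * γ = algebraMap A (Al l) (ζ * ε * α i) := by
    intro l hjl
    obtain ⟨w, hw, hw'⟩ := exists_w m hinj hjl k
    have h1 : w * ε ∈ Ideal.span (Set.range fun i => f i ^ n) := hk (hεw w hw)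
    obtain ⟨h, hh⟩ := Ideal.mem_span_range_iff_exists_fun.mp h1
    refine ⟨∑ i', IsLocalization.mk' (Al l) (h i') (⟨w, hw'⟩ : (m l).primeCompl) *
      algebraMap A (Al l) (α i'), fun ζ hζ i => ?_⟩
    have hu : IsUnit (algebraMap A (Al l) w) :=
      IsLocalization.map_units (Al l) (⟨w, hw'⟩ : (m l).primeCompl)
    apply hu.mul_left_cancel
    have e1 : algebraMap A (Al l) w * (algebraMap A (Al l) (ζ * f i ^ n) *
        ∑ i', IsLocalization.mk' (Al l) (h i') (⟨w, hw'⟩ : (m l).primeCompl) *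
          algebraMap A (Al l) (α i')) =
        algebraMap A (Al l) (ζ * f i ^ n * ∑ i', h i' * α i') := by
      rw [map_mul (algebraMap A (Al l)) (ζ * f i ^ n), map_sum, mul_left_comm, Finset.mul_sum]
      congr 1
      apply Finset.sum_congr rfl
      intro i' _
      rw [← mul_assoc, IsLocalization.mk'_spec' (Al l) (h i') (⟨w, hw'⟩ : (m l).primeCompl),
        map_mul]
    rw [e1, ← map_mul]
    congr 1
    calc ζ * f i ^ n * ∑ i', h i' * α i'
        = ∑ i', h i' * (ζ * (f i ^ n * α i')) := by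
          rw [Finset.mul_sum]; apply Finset.sum_congr rfl; intro i' _; ring
      _ = ∑ i', h i' * (ζ * (f i' ^ n * α i)) := by
          apply Finset.sum_congr rfl; intro i' _; rw [hδ'' ζ hζ i i']
      _ = ζ * α i * ∑ i', h i' * f i' ^ n := by
          rw [Finset.mul_sum]; apply Finset.sum_congr rfl; intro i' _; ring
      _ = w * (ζ * ε * α i) := by rw [hh]; ring
  choose γ hγ' using hγ
  set b : ∀ l, B l := Function.update
    (fun l => if hl : j = l then 0 else algebraMap (Al l) (B l) (γ l hl)) j ((ε * τ) • β) with hb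
  have hb_j : b j = (ε * τ) • β := by rw [hb, Function.update_self]
  have hb_l : ∀ l (hl : j ≠ l), b l = algebraMap (Al l) (B l) (γ l hl) := by
    intro l hl
    rw [hb, Function.update_of_ne hl.symm, dif_neg hl]
  set u : ∀ i, Af i := fun i =>
    IsLocalization.mk' (Af i) (ε * α i) (⟨f i ^ n, n, rfl⟩ : Submonoid.powers (f i)) with hu
  refine ⟨(b, u), ε * τ, ⟨k + k, ?_⟩,
    fun hh => (Ideal.IsPrime.mem_or_mem inferInstance hh).elim hε hτ, hb_j⟩
  intro z hz
  rw [pow_add] at hz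
  have hz' : z ∈ ((⨅ l, m l) ^ k) • Ideal.span (Set.range fun i => f i ^ n) := by
    rw [smul_eq_mul]
    exact Ideal.mul_mono_right hk hz
  obtain ⟨c, hc, hsum⟩ := (Submodule.mem_ideal_smul_span_iff_exists_sum _ _ _).mp hz'
  rw [Finsupp.sum_fintype c (fun i c => c • f i ^ n) (fun _ => zero_smul _ _)] at hsum
  simp only [smul_eq_mul] at hsum
  rw [mem_range_iff]
  refine ⟨∑ i, c i * ε * α i, ?_, ?_⟩
  · intro l
    change _ = z • b l
    by_cases hl : j = l
    · subst hl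
      rw [hb_j, map_sum, ← hsum, Finset.sum_smul]
      apply Finset.sum_congr rfl
      intro i _
      rw [map_mul, hα, ← Algebra.smul_def, smul_smul, smul_smul, smul_smul]
      congr 1
      ring
    · rw [hb_l l hl]
      have e1 : algebraMap A (Al l) (∑ i, c i * ε * α i) = algebraMap A (Al l) z * γ l hl := by
        rw [← hsum, map_sum, map_sum, Finset.sum_mul]
        apply Finset.sum_congr rfl
        intro i _
        exact (hγ' l hl (c i) (hc i) i).symm
      rw [IsScalarTower.algebraMap_apply A (Al l) (B l), e1, map_mul,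
        ← IsScalarTower.algebraMap_apply, ← Algebra.smul_def]
  · intro i'
    change _ = z • u i'
    have hunit : IsUnit (algebraMap A (Af i') (f i' ^ n)) := by
      rw [map_pow]
      exact (IsLocalization.Away.algebraMap_isUnit (f i')).pow _
    apply hunit.mul_left_cancel
    rw [hu]
    simp only
    rw [Algebra.smul_def, mul_left_comm,
      IsLocalization.mk'_spec' (Af i') (ε * α i') (⟨f i' ^ n, n, rfl⟩ : Submonoid.powers (f i')),
      ← map_mul, ← map_mul]
    congr 1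
    rw [← hsum, Finset.mul_sum, Finset.sum_mul]
    apply Finset.sum_congr rfl
    intro i _
    have := hδ'' (c i) (hc i) i i'
    linear_combination (-ε) * this

end Main

end Groth.Agent.Lib.Helper11.Glue
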