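import Groth.Agent.Lib.Helper11.Glue1

set_option autoImplicit false
set_option linter.style.haveILetI false

namespace Groth.Agent.Lib.Helper11.Glue

open TensorProduct

section Main
universe u
variable {A : Type u} [CommRing A] {ι κ : Type} [Fintype ι] [DecidableEq ι] [Fintype κ]
  (m : ι → Ideal A) [hm : ∀ l, (m l).IsMaximal] (hinj : Function.Injective m)
  (f : κ → A) (hf : Ideal.span (Set.range f) = ⨅ l, m l)
  (Al : ι → Type u) [∀ l, CommRing (Al l)] [∀ l, Algebra A (Al l)]
  [∀ l, IsLocalization.AtPrime (Al l) (m l)]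
  (B : ι → Type u) [∀ l, CommRing (B l)] [∀ l, Algebra (Al l) (B l)] [∀ l, Algebra A (B l)]
  [∀ l, IsScalarTower A (Al l) (B l)]
  (Af : κ → Type u) [∀ i, CommRing (Af i)] [∀ i, Algebra A (Af i)]
  [∀ i, IsLocalization.Away (f i) (Af i)]

/-- The projection of the saturation to the `l`-th factor. -/
noncomputable def pr (l : ι) :
    ↥(sat A ((∀ l, B l) × (∀ i, Af i)) (⨅ l, m l)) →ₐ[A] B l :=
  ((Pi.evalAlgHom A B l).comp (AlgHom.fst A (∀ l, B l) (∀ i, Af i))).comp
    (sat A ((∀ l, B l) × (∀ i, Af i)) (⨅ l, m l)).val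

theorem pr_apply (l : ι) (c : ↥(sat A ((∀ l, B l) × (∀ i, Af i)) (⨅ l, m l))) :
    pr m B Af l c = (c : (∀ l, B l) × (∀ i, Af i)).1 l := rfl

/-- The comparison map `Al l ⊗[A] C → B l`. -/
noncomputable def psi (l : ι) :
    Al l ⊗[A] ↥(sat A ((∀ l, B l) × (∀ i, Af i)) (⨅ l, m l)) →ₐ[Al l] B l :=
  Algebra.TensorProduct.lift (Algebra.ofId (Al l) (B l)) (pr m B Af l)
    (fun _ _ => Commute.all _ _)

theorem psi_tmul (l : ι) (a : Al l) (c : ↥(sat A ((∀ l, B l) × (∀ i, Af i)) (⨅ l, m l))) :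
    psi m Al B Af l (a ⊗ₜ c) = algebraMap (Al l) (B l) a * (c : (∀ l, B l) × (∀ i, Af i)).1 l := by
  simp [psi, pr_apply, Algebra.ofId_apply]

include hm in
theorem smul_mk'_one (l : ι) (σ σ' : (m l).primeCompl) :
    (σ' : A) • IsLocalization.mk' (Al l) (1 : A) (σ * σ') = IsLocalization.mk' (Al l) (1 : A) σ := by
  rw [Algebra.smul_def, IsLocalization.eq_mk'_iff_mul_eq, mul_assoc, mul_comm, mul_assoc,
    ← map_mul, mul_comm (σ : A), ← Submonoid.coe_mul, mul_comm σ' σ,
    IsLocalization.mk'_spec]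

include hm in
theorem exists_tmul_eq (l : ι)
    (t : Al l ⊗[A] ↥(sat A ((∀ l, B l) × (∀ i, Af i)) (⨅ l, m l))) :
    ∃ (σ : (m l).primeCompl) (c : ↥(sat A ((∀ l, B l) × (∀ i, Af i)) (⨅ l, m l))),
      t = IsLocalization.mk' (Al l) (1 : A) σ ⊗ₜ[A] c := by
  induction t using TensorProduct.induction_on with
  | zero => exact ⟨1, 0, (tmul_zero _ _).symm⟩
  | tmul a c =>
    obtain ⟨α, σ, rfl⟩ := IsLocalization.exists_mk'_eq (m l).primeCompl a
    refine ⟨σ, α • c, ?_⟩
    rw [← TensorProduct.smul_tmul, Algebra.smul_def, ← IsLocalization.mk'_eq_mul_mk'_one]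
  | add t t' ht ht' =>
    obtain ⟨σ, c, rfl⟩ := ht
    obtain ⟨σ', c', rfl⟩ := ht'
    refine ⟨σ * σ', (σ' : A) • c + (σ : A) • c', ?_⟩
    rw [tmul_add, ← TensorProduct.smul_tmul, ← TensorProduct.smul_tmul,
      smul_mk'_one m Al l σ σ', mul_comm σ σ', smul_mk'_one m Al l σ' σ]

variable (n : ℕ)
  (hker : ∀ l (a : Al l), algebraMap (Al l) (B l) a = 0 →
    ∀ y ∈ (⨅ l, m l) ^ n, algebraMap A (Al l) y * a = 0)
  (hcoker : ∀ l, ∀ y ∈ (Ideal.map (algebraMap A (Al l)) (m l)) ^ n, ∀ b : B l,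
    ∃ a : Al l, algebraMap (Al l) (B l) a = y • b)

include hm in
theorem isUnit_mk'_one (l : ι) (σ : (m l).primeCompl) :
    IsUnit (IsLocalization.mk' (Al l) (1 : A) σ) := by
  refine IsUnit.of_mul_eq_one (algebraMap A (Al l) σ) ?_
  rw [IsLocalization.mk'_spec, map_one]

include hm hinj hf hker in
theorem psi_injective (l : ι) : Function.Injective (psi m Al B Af l) := by
  haveI := (hm l).isPrime
  rw [injective_iff_map_eq_zero]
  intro t ht
  obtain ⟨σ, c, rfl⟩ := exists_tmul_eq m Al B Af l t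
  rw [psi_tmul] at ht
  have hc : (c : (∀ l, B l) × (∀ i, Af i)).1 l = 0 :=
    (((isUnit_mk'_one m Al l σ).map (algebraMap (Al l) (B l))).mul_right_eq_zero).mp ht
  obtain ⟨ρ, hρ, hρc⟩ := exists_smul_eq_zero m hinj f hf Al B Af n hker c c.2 l hc
  have hρc' : ρ • c = 0 := Subtype.ext hρc
  have := smul_mk'_one m Al l σ ⟨ρ, hρ⟩
  rw [← this, TensorProduct.smul_tmul, hρc', tmul_zero]

include hm hinj hf hker hcoker in
theorem psi_surjective (l : ι) : Function.Surjective (psi m Al B Af l) := by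
  intro β
  obtain ⟨x, σ, hx, hσ, hxl⟩ := exists_mem_sat_fst_eq m hinj f hf Al B Af n hker hcoker l β
  refine ⟨IsLocalization.mk' (Al l) (1 : A) (⟨σ, hσ⟩ : (m l).primeCompl) ⊗ₜ ⟨x, hx⟩, ?_⟩
  rw [psi_tmul]
  change _ * x.1 l = β
  rw [hxl, Algebra.smul_def, IsScalarTower.algebraMap_apply A (Al l) (B l), ← mul_assoc,
    ← map_mul]
  have : IsLocalization.mk' (Al l) (1 : A) (⟨σ, hσ⟩ : (m l).primeCompl) * algebraMap A (Al l) σ
      = 1 := by
    have := IsLocalization.mk'_spec (Al l) (1 : A) (⟨σ, hσ⟩ : (m l).primeCompl)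
    rw [map_one] at this
    exact this
  rw [this, map_one, one_mul]

include hm in
/-- Approximation: every element of `Al l` is congruent to an element of `A` modulo
`(m l)^n Al l`. -/
theorem exists_sub_mem (l : ι) (r : Al l) :
    ∃ a : A, r - algebraMap A (Al l) a ∈ (Ideal.map (algebraMap A (Al l)) (m l)) ^ n := by
  obtain ⟨α, σ, rfl⟩ := IsLocalization.exists_mk'_eq (m l).primeCompl r
  have h1 : Ideal.span {(σ : A)} ⊔ m l = ⊤ := by
    by_contra hne
    have hle : m l = Ideal.span {(σ : A)} ⊔ m l := (hm l).eq_of_le hne le_sup_right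
    have hσ : (σ : A) ∈ Ideal.span {(σ : A)} ⊔ m l :=
      Ideal.mem_sup_left (Ideal.subset_span rfl)
    exact σ.2 ((le_of_eq hle.symm) hσ)
  have h2 : Ideal.span {(σ : A)} ⊔ (m l) ^ n = ⊤ := Ideal.sup_pow_eq_top h1
  obtain ⟨s, hs, μ, hμ, hsum⟩ := Submodule.mem_sup.mp ((Ideal.eq_top_iff_one _).mp h2)
  obtain ⟨s', rfl⟩ := Ideal.mem_span_singleton'.mp hs
  refine ⟨α * s', ?_⟩
  have e1 : IsLocalization.mk' (Al l) α σ - algebraMap A (Al l) (α * s')
      = algebraMap A (Al l) μ * IsLocalization.mk' (Al l) α σ := by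
    have : algebraMap A (Al l) (s' * σ + μ) = 1 := by rw [hsum, map_one]
    rw [map_add, map_mul] at this
    have e2 : IsLocalization.mk' (Al l) α σ * algebraMap A (Al l) σ = algebraMap A (Al l) α :=
      IsLocalization.mk'_spec _ _ _
    calc IsLocalization.mk' (Al l) α σ - algebraMap A (Al l) (α * s')
        = IsLocalization.mk' (Al l) α σ * (algebraMap A (Al l) s' * algebraMap A (Al l) σ
            + algebraMap A (Al l) μ) - algebraMap A (Al l) (α * s') := by rw [this, mul_one]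
      _ = algebraMap A (Al l) μ * IsLocalization.mk' (Al l) α σ := by
          rw [map_mul, ← e2]; ring
  rw [e1]
  apply Ideal.mul_mem_right
  rw [← Ideal.map_pow]
  exact Ideal.mem_map_of_mem _ hμ

include hm hinj hf hker hcoker in
theorem exists_gens (l : ι) [Module.Finite (Al l) (B l)] :
    ∃ (p : ℕ) (c : Fin p → (∀ l, B l) × (∀ i, Af i)),
      (∀ k, c k ∈ sat A ((∀ l, B l) × (∀ i, Af i)) (⨅ l, m l)) ∧
      ∀ b : B l, ∃ (â : Al l) (a : Fin p → A),
        b = algebraMap (Al l) (B l) â + ∑ k, a k • (c k).1 l := by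
  obtain ⟨p, β, hβ⟩ := Module.Finite.exists_fin (R := Al l) (M := B l)
  have h1 : ∀ k, ∃ (x : (∀ l, B l) × (∀ i, Af i)) (σ : A),
      x ∈ sat A ((∀ l, B l) × (∀ i, Af i)) (⨅ l, m l) ∧ σ ∉ m l ∧ x.1 l = σ • β k :=
    fun k => exists_mem_sat_fst_eq m hinj f hf Al B Af n hker hcoker l (β k)
  choose c σ hc hσ hcl using h1
  refine ⟨p, c, hc, fun b => ?_⟩
  have hb : b ∈ Submodule.span (Al l) (Set.range β) := hβ ▸ Submodule.mem_top
  obtain ⟨r, hr⟩ := (Submodule.mem_span_range_iff_exists_fun (Al l)).mp hb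
  -- β k = mk' 1 σ_k • (c k).1 l
  have hβk : ∀ k, β k =
      IsLocalization.mk' (Al l) (1 : A) (⟨σ k, hσ k⟩ : (m l).primeCompl) • (c k).1 l := by
    intro k
    rw [hcl k, ← algebraMap_smul (Al l) (σ k) (β k), smul_smul,
      IsLocalization.mk'_spec, map_one, one_smul]
  have h2 : ∀ k, ∃ (a : A) (â : Al l),
      r k • β k = a • (c k).1 l + algebraMap (Al l) (B l) â := by
    intro k
    obtain ⟨a, ha⟩ := exists_sub_mem m Al n l
      (r k * IsLocalization.mk' (Al l) (1 : A) (⟨σ k, hσ k⟩ : (m l).primeCompl))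
    obtain ⟨â, hâ⟩ := hcoker l _ ha ((c k).1 l)
    refine ⟨a, â, ?_⟩
    rw [hâ, sub_smul, algebraMap_smul, add_sub_cancel, hβk k, smul_smul]
  choose a â ha using h2
  refine ⟨∑ k, â k, a, ?_⟩
  rw [← hr, map_sum, ← Finset.sum_add_distrib]
  apply Finset.sum_congr rfl
  intro k _
  rw [ha k, add_comm]

include hm hinj hf hker hcoker in
theorem finite_sat (hfin : ∀ l, Module.Finite (Al l) (B l)) :
    Module.Finite A ↥(sat A ((∀ l, B l) × (∀ i, Af i)) (⨅ l, m l)) := by
  have h1 := fun l => exists_gens m hinj f hf Al B Af n hker hcoker l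
  choose p c hc hb using h1
  set S : Set ((∀ l, B l) × (∀ i, Af i)) := {1} ∪ ⋃ l, Set.range (c l) with hS
  have hSfin : S.Finite :=
    (Set.finite_singleton _).union (Set.finite_iUnion fun l => Set.finite_range _)
  set G : Submodule A ((∀ l, B l) × (∀ i, Af i)) := Submodule.span A S with hG
  have hG1 : G ≤ Subalgebra.toSubmodule (sat A ((∀ l, B l) × (∀ i, Af i)) (⨅ l, m l)) := by
    rw [hG, Submodule.span_le]
    rintro x (hx | hx)
    · rw [Set.mem_singleton_iff] at hx
      rw [hx]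
      exact Subalgebra.one_mem _
    · obtain ⟨l, k, rfl⟩ := Set.mem_iUnion.mp hx
      exact hc l k
  have hone : (1 : (∀ l, B l) × (∀ i, Af i)) ∈ G := Submodule.subset_span (Or.inl rfl)
  have hcG : ∀ l k, c l k ∈ G := fun l k =>
    Submodule.subset_span (Or.inr (Set.mem_iUnion.mpr ⟨l, k, rfl⟩))
  have hG2 : Subalgebra.toSubmodule (sat A ((∀ l, B l) × (∀ i, Af i)) (⨅ l, m l)) ≤ G := by
    intro x hx
    have hx' : x ∈ sat A ((∀ l, B l) × (∀ i, Af i)) (⨅ l, m l) := hx
    obtain ⟨N, hN⟩ := hx'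
    have htop : G.colon {x} = ⊤ := by
      apply eq_top_of_pow_le m _ N
      · intro y hy
        rw [Submodule.mem_colon_singleton]
        obtain ⟨a, ha⟩ := hN y hy
        rw [← ha, Algebra.algebraMap_eq_smul_one]
        exact G.smul_mem _ hone
      · intro l
        haveI := (hm l).isPrime
        obtain ⟨â, a, hba⟩ := hb l (x.1 l)
        obtain ⟨⟨α, τ⟩, hατ⟩ := IsLocalization.surj (m l).primeCompl â
        simp only at hατ
        set x₀ : (∀ l, B l) × (∀ i, Af i) := x - ∑ k, a k • c l k with hx₀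
        have hx₀mem : x₀ ∈ sat A ((∀ l, B l) × (∀ i, Af i)) (⨅ l, m l) :=
          Subalgebra.sub_mem _ hx (Subalgebra.sum_mem _ fun k _ =>
            Subalgebra.smul_mem _ (hc l k) _)
        have hx₀l : x₀.1 l = algebraMap (Al l) (B l) â := by
          have e1 : x₀.1 l = x.1 l - ∑ k, a k • (c l k).1 l := by
            rw [hx₀]
            simp [Prod.fst_sum, Finset.sum_apply]
          rw [e1, hba, add_sub_cancel_right]
        set x' : (∀ l, B l) × (∀ i, Af i) :=
          (τ : A) • x₀ - algebraMap A ((∀ l, B l) × (∀ i, Af i)) α with hx'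
        have hx'mem : x' ∈ sat A ((∀ l, B l) × (∀ i, Af i)) (⨅ l, m l) :=
          Subalgebra.sub_mem _ (Subalgebra.smul_mem _ hx₀mem _) (Subalgebra.algebraMap_mem _ _)
        have hx'l : x'.1 l = 0 := by
          have e1 : x'.1 l = (τ : A) • x₀.1 l - algebraMap A (B l) α := rfl
          rw [e1, hx₀l, IsScalarTower.algebraMap_apply A (Al l) (B l) α, ← hατ, map_mul,
            ← IsScalarTower.algebraMap_apply A (Al l) (B l), Algebra.smul_def, mul_comm,
            sub_self]
        obtain ⟨ρ, hρ, hρx⟩ := exists_smul_eq_zero m hinj f hf Al B Af n hker x' hx'mem l hx'l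
        refine ⟨ρ * τ, ?_, fun hh => (Ideal.IsPrime.mem_or_mem inferInstance hh).elim hρ τ.2⟩
        rw [Submodule.mem_colon_singleton]
        rw [hx', smul_sub, sub_eq_zero] at hρx
        have e2 : (ρ * (τ : A)) • x = ρ • algebraMap A ((∀ l, B l) × (∀ i, Af i)) α
            + (ρ * (τ : A)) • ∑ k, a k • c l k := by
          rw [← hρx, hx₀, smul_sub, smul_sub, smul_smul, smul_smul, sub_add_cancel]
        rw [e2]
        refine G.add_mem ?_ (G.smul_mem _ (G.sum_mem fun k _ => G.smul_mem _ (hcG l k)))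
        rw [Algebra.algebraMap_eq_smul_one]
        exact G.smul_mem _ (G.smul_mem _ hone)
    have : (1 : A) ∈ G.colon {x} := htop ▸ Submodule.mem_top
    rw [Submodule.mem_colon_singleton, one_smul] at this
    exact this
  have hGeq : G = Subalgebra.toSubmodule (sat A ((∀ l, B l) × (∀ i, Af i)) (⨅ l, m l)) :=
    le_antisymm hG1 hG2
  have hfg : (Subalgebra.toSubmodule (sat A ((∀ l, B l) × (∀ i, Af i)) (⨅ l, m l))).FG := by
    rw [← hGeq]
    exact Submodule.fg_span hSfin
  haveI : Module.Finite A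
      ↥(Subalgebra.toSubmodule (sat A ((∀ l, B l) × (∀ i, Af i)) (⨅ l, m l))) :=
    Module.Finite.iff_fg.mpr hfg
  exact Module.Finite.equiv (Subalgebra.toSubmoduleEquiv _)

include hm hinj hf hker hcoker in
theorem abstract_main :
    (∀ l, Nonempty (Al l ⊗[A] ↥(sat A ((∀ l, B l) × (∀ i, Af i)) (⨅ l, m l)) ≃ₐ[Al l] B l)) ∧
    ((∀ x ∈ RingHom.ker (algebraMap A ↥(sat A ((∀ l, B l) × (∀ i, Af i)) (⨅ l, m l))),
        ∀ y ∈ (⨅ l, m l) ^ n, y * x = 0) ∧
      (∀ y ∈ (⨅ l, m l) ^ n, ∀ c : ↥(sat A ((∀ l, B l) × (∀ i, Af i)) (⨅ l, m l)),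
        y • c ∈ (algebraMap A ↥(sat A ((∀ l, B l) × (∀ i, Af i)) (⨅ l, m l))).range)) ∧
    ((∀ l, Module.Finite (Al l) (B l)) →
      Module.Finite A ↥(sat A ((∀ l, B l) × (∀ i, Af i)) (⨅ l, m l))) ∧
    ((∀ l, Function.Injective (algebraMap (Al l) (B l))) →
      Function.Injective (algebraMap A ↥(sat A ((∀ l, B l) × (∀ i, Af i)) (⨅ l, m l)))) ∧
    ((∀ l, Function.Surjective (algebraMap (Al l) (B l))) →
      Function.Surjective (algebraMap A ↥(sat A ((∀ l, B l) × (∀ i, Af i)) (⨅ l, m l)))) := by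
  refine ⟨fun l => ⟨AlgEquiv.ofBijective (psi m Al B Af l)
      ⟨psi_injective m hinj f hf Al B Af n hker l,
        psi_surjective m hinj f hf Al B Af n hker hcoker l⟩⟩, ⟨?_, ?_⟩, ?_, ?_, ?_⟩
  · intro x hx y hy
    rw [RingHom.mem_ker] at hx
    have hx' : algebraMap A ((∀ l, B l) × (∀ i, Af i)) x = 0 := by
      have := congrArg Subtype.val hx
      simpa using this
    exact ker_killed m f hf Al B Af n hker x hx' y hy
  · intro y hy c
    obtain ⟨a, ha⟩ := coker_killed m hinj f hf Al B Af n hker hcoker c c.2 y hy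
    exact ⟨a, Subtype.ext ha⟩
  · exact finite_sat m hinj f hf Al B Af n hker hcoker
  · intro hφ
    rw [injective_iff_map_eq_zero]
    intro a ha
    have ha' : algebraMap A ((∀ l, B l) × (∀ i, Af i)) a = 0 := by
      have := congrArg Subtype.val ha
      simpa using this
    apply eq_zero_of_forall m f hf Al Af
    · intro l
      have h1 : algebraMap A (B l) a = 0 := congrArg (fun t => t.1 l) ha'
      rw [IsScalarTower.algebraMap_apply A (Al l) (B l)] at h1
      exact (injective_iff_map_eq_zero _).mp (hφ l) _ h1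
    · intro i
      exact congrArg (fun t => t.2 i) ha'
  · intro hφ c
    obtain ⟨a, ha⟩ := mem_range_of_forall m hinj f hf Al B Af n hker c c.2
      (fun l => hφ l _)
    exact ⟨a, Subtype.ext ha⟩

end Main

universe u

set_option maxHeartbeats 1000000 in
theorem main (A : Type u) [CommRing A] [IsNoetherianRing A] (r : ℕ) (m : Fin r → Ideal A)
    (hm : ∀ i, (m i).IsMaximal) (hinj : Function.Injective m) (B : Fin r → Type u)
    [∀ i, CommRing (B i)] [∀ i, Algebra (Localization.AtPrime (m i)) (B i)]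
    (hker : ∀ i, ∃ n : ℕ, ∀ x ∈ RingHom.ker (algebraMap (Localization.AtPrime (m i)) (B i)),
      ∀ y ∈ Ideal.map (algebraMap A (Localization.AtPrime (m i))) (m i) ^ n, y * x = 0)
    (hcoker : ∀ i, ∃ n : ℕ,
      ∀ y ∈ Ideal.map (algebraMap A (Localization.AtPrime (m i))) (m i) ^ n, ∀ b : B i,
        y • b ∈ (algebraMap (Localization.AtPrime (m i)) (B i)).range) :
    ∃ (C : Type u) (_ : CommRing C) (_ : Algebra A C),
      (∀ i, Nonempty ((Localization.AtPrime (m i)) ⊗[A] C ≃ₐ[Localization.AtPrime (m i)] B i)) ∧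
      (∃ n : ℕ, (∀ x ∈ RingHom.ker (algebraMap A C), ∀ y ∈ (⨅ i, m i) ^ n, y * x = 0) ∧
        (∀ y ∈ (⨅ i, m i) ^ n, ∀ c : C, y • c ∈ (algebraMap A C).range)) ∧
      ((∀ i, (algebraMap (Localization.AtPrime (m i)) (B i)).Finite) → (algebraMap A C).Finite) ∧
      ((∀ i, Function.Injective (algebraMap (Localization.AtPrime (m i)) (B i))) →
        Function.Injective (algebraMap A C)) ∧
      ((∀ i, Function.Surjective (algebraMap (Localization.AtPrime (m i)) (B i))) →
        Function.Surjective (algebraMap A C)) := by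
  classical
  choose nk hnk using hker
  choose nc hnc using hcoker
  obtain ⟨t, f, hf⟩ := Submodule.fg_iff_exists_fin_generating_family.mp
    (IsNoetherian.noetherian (⨅ i, m i))
  have hf' : Ideal.span (Set.range f) = ⨅ i, m i := hf
  set n : ℕ := ∑ i, (nk i + nc i) with hn
  have hnk' : ∀ i, nk i ≤ n := fun i =>
    (Nat.le_add_right _ _).trans (Finset.single_le_sum (f := fun i => nk i + nc i)
      (fun _ _ => Nat.zero_le _) (Finset.mem_univ i))
  have hnc' : ∀ i, nc i ≤ n := fun i =>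
    (Nat.le_add_left _ _).trans (Finset.single_le_sum (f := fun i => nk i + nc i)
      (fun _ _ => Nat.zero_le _) (Finset.mem_univ i))
  letI : ∀ l, Algebra A (B l) := fun l =>
    ((algebraMap (Localization.AtPrime (m l)) (B l)).comp
      (algebraMap A (Localization.AtPrime (m l)))).toAlgebra
  haveI : ∀ l, IsScalarTower A (Localization.AtPrime (m l)) (B l) := fun l =>
    IsScalarTower.of_algebraMap_eq (fun _ => rfl)
  have hker' : ∀ l (a : Localization.AtPrime (m l)),
      algebraMap (Localization.AtPrime (m l)) (B l) a = 0 →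
      ∀ y ∈ (⨅ l, m l) ^ n, algebraMap A (Localization.AtPrime (m l)) y * a = 0 := by
    intro l a ha y hy
    apply hnk l a ha
    apply Ideal.pow_le_pow_right (hnk' l)
    rw [← Ideal.map_pow]
    exact Ideal.mem_map_of_mem _ (Ideal.pow_right_mono (iInf_le _ l) n hy)
  have hcoker' : ∀ l, ∀ y ∈ (Ideal.map (algebraMap A (Localization.AtPrime (m l))) (m l)) ^ n,
      ∀ b : B l, ∃ a : Localization.AtPrime (m l),
        algebraMap (Localization.AtPrime (m l)) (B l) a = y • b := by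
    intro l y hy b
    obtain ⟨a, ha⟩ := hnc l y (Ideal.pow_le_pow_right (hnc' l) hy) b
    exact ⟨a, ha⟩
  obtain ⟨h1, h2, h3, h4, h5⟩ := abstract_main m hinj f hf'
    (fun l => Localization.AtPrime (m l)) B (fun i => Localization.Away (f i)) n hker' hcoker'
  refine ⟨↥(sat A ((∀ l, B l) × (∀ i, Localization.Away (f i))) (⨅ l, m l)),
    inferInstance, inferInstance, h1, ⟨n, h2⟩, ?_, h4, h5⟩
  intro hfin
  rw [RingHom.finite_algebraMap]
  apply h3
  intro l
  exact RingHom.finite_algebraMap.mp (hfin l)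

end Groth.Agent.Lib.Helper11.Glue
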