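import Groth.Agent.Lib.Helper11.GrFieldA

/-!
# The irrelevant ideal of a non-negatively graded ring over a field is the unique *maximal ideal
-/

set_option autoImplicit false
set_option linter.unusedSectionVars false
set_option linter.unusedVariables false
set_option linter.style.haveILetI false
universe u

namespace Groth.Agent.Lib.Helper11.GrField

open DirectSum GrLC Groth.Agent.Lib.Helper11.GrLCLib Groth.Agent.Lib.Helper11.GrDual

variable {R : Type u} [CommRing R] {𝒜 : ℤ → AddSubgroup R} [GradedRing 𝒜]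

/-- the irrelevant ideal. -/
def irrelevant (𝒜 : ℤ → AddSubgroup R) [GradedRing 𝒜] : HomogeneousIdeal 𝒜 :=
  ⟨Ideal.span (⋃ n ∈ Set.Ioi (0 : ℤ), (𝒜 n : Set R)), by
    apply Ideal.homogeneous_span
    intro x hx
    simp only [Set.mem_iUnion, Set.mem_Ioi, SetLike.mem_coe, exists_prop] at hx
    obtain ⟨n, _, hn⟩ := hx
    exact ⟨n, hn⟩⟩

lemma irrelevant_toIdeal (𝒜 : ℤ → AddSubgroup R) [GradedRing 𝒜] :
    (irrelevant 𝒜).toIdeal = Ideal.span (⋃ n ∈ Set.Ioi (0 : ℤ), (𝒜 n : Set R)) := rfl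

variable {k : Type u} [Field k] [Algebra k R] (hk : IsBase 𝒜 k)

attribute [local instance] subKGradedAlgebra

include hk in
lemma mem_irrelevant_iff' (hpos : ∀ n : ℤ, n < 0 → 𝒜 n = ⊥) (m : HomogeneousIdeal 𝒜)
    (hmsp : m.toIdeal = Ideal.span (⋃ n ∈ Set.Ioi (0 : ℤ), (𝒜 n : Set R))) (r : R) :
    r ∈ m.toIdeal ↔ (decompose 𝒜 r 0 : R) = 0 := by
  have := mem_irrelevant_iff (subK hk) (subK_neg hk hpos) (subK_zero hk) (hidealK hk m)
    (hidealK_span hk hmsp) r
  rw [decompose_subK] at this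
  exact this

include hk in
theorem isMaximal_irrelevant' [Nontrivial R] (hpos : ∀ n : ℤ, n < 0 → 𝒜 n = ⊥)
    (m : HomogeneousIdeal 𝒜)
    (hmsp : m.toIdeal = Ideal.span (⋃ n ∈ Set.Ioi (0 : ℤ), (𝒜 n : Set R))) :
    m.toIdeal.IsMaximal :=
  isMaximal_irrelevant (subK hk) (subK_neg hk hpos) (subK_zero hk) (hidealK hk m)
    (hidealK_span hk hmsp)

include hk in
/-- every proper homogeneous ideal lies in the irrelevant ideal. -/
lemma le_irrelevant (hpos : ∀ n : ℤ, n < 0 → 𝒜 n = ⊥) (m : HomogeneousIdeal 𝒜)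
    (hmsp : m.toIdeal = Ideal.span (⋃ n ∈ Set.Ioi (0 : ℤ), (𝒜 n : Set R)))
    (J : HomogeneousIdeal 𝒜) (hJ : J ≠ ⊤) : J ≤ m := by
  intro x hx
  change x ∈ m.toIdeal
  rw [mem_irrelevant_iff' hk hpos m hmsp]
  have hx0 : (decompose 𝒜 x 0 : R) ∈ J.toIdeal := J.isHomogeneous 0 hx
  obtain ⟨c, hc⟩ := (hk _).mp (SetLike.coe_mem (decompose 𝒜 x 0))
  by_contra hne
  have hc0 : c ≠ 0 := by
    intro h
    apply hne
    rw [← hc, h, map_zero]
  apply hJ
  apply HomogeneousIdeal.toIdeal_injective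
  rw [HomogeneousIdeal.toIdeal_top, Ideal.eq_top_iff_one]
  have h1 : algebraMap k R c⁻¹ * (decompose 𝒜 x 0 : R) = 1 := by
    rw [← hc, ← map_mul, inv_mul_cancel₀ hc0, map_one]
  rw [← h1]
  exact J.toIdeal.mul_mem_left _ hx0

include hk in
/-- The irrelevant ideal is the unique *maximal ideal. -/
theorem isStarLocal_irrelevant [Nontrivial R] (hpos : ∀ n : ℤ, n < 0 → 𝒜 n = ⊥)
    (m : HomogeneousIdeal 𝒜)
    (hmsp : m.toIdeal = Ideal.span (⋃ n ∈ Set.Ioi (0 : ℤ), (𝒜 n : Set R))) :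
    IsStarLocal 𝒜 m := by
  have hmax := isMaximal_irrelevant' hk hpos m hmsp
  have hne : m ≠ ⊤ := by
    intro h
    apply hmax.ne_top
    rw [h, HomogeneousIdeal.toIdeal_top]
  have hco : IsCoatom m := by
    refine ⟨hne, fun J hJ => ?_⟩
    by_contra hJt
    exact absurd (le_irrelevant hk hpos m hmsp J hJt) (not_le_of_gt hJ)
  refine ⟨hco, fun n' hn' => ?_⟩
  have h1 := le_irrelevant hk hpos m hmsp n' hn'.1
  rcases hn'.le_iff.mp h1 with h | h
  · exact absurd h hne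
  · exact h.symm

end Groth.Agent.Lib.Helper11.GrField
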