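import Groth.Agent.Lib.Helper11.GrLesH
import Groth.Agent.Lib.Helper11.GrFieldD

/-!
# *Local graded rings: the degree zero part is local; Artinian degree zero part
-/

set_option autoImplicit false
set_option linter.unusedSectionVars false
set_option linter.unusedVariables false
set_option linter.style.haveILetI false
set_option maxHeartbeats 1000000
universe u

namespace Groth.Agent.Lib.Helper11.GrArt

open DirectSum GrLC Groth.Agent.Lib.Helper11.GrLCLib Groth.Agent.Lib.Helper11.GrLes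
  Groth.Agent.Lib.Helper11.GrField

variable {R : Type u} [CommRing R] [IsNoetherianRing R] (𝒜 : ℤ → AddSubgroup R) [GradedRing 𝒜]

/-- the degree zero component of an element of the irrelevant ideal vanishes. -/
lemma decompose_zero_of_mem_irrelevant (hpos : ∀ n : ℤ, n < 0 → 𝒜 n = ⊥) {y : R}
    (hy : y ∈ (irrelevant 𝒜).toIdeal) : (decompose 𝒜 y 0 : R) = 0 := by
  classical
  rw [irrelevant_toIdeal] at hy
  refine Submodule.span_induction ?_ ?_ ?_ ?_ hy
  · intro x hx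
    simp only [Set.mem_iUnion, Set.mem_Ioi, SetLike.mem_coe, exists_prop] at hx
    obtain ⟨n, hn, hxn⟩ := hx
    exact decompose_of_mem_ne 𝒜 hxn hn.ne'
  · rw [decompose_zero]; rfl
  · intro x y _ _ hx hy
    rw [decompose_add, DirectSum.add_apply, AddSubgroup.coe_add, hx, hy, add_zero]
  · intro r x _ hx
    rw [smul_eq_mul, DirectSum.decompose_mul, DirectSum.coe_mul_apply]
    apply Finset.sum_eq_zero
    rintro ⟨i, j⟩ hij
    simp only [Finset.mem_filter] at hij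
    have hsum : i + j = 0 := hij.2
    rcases lt_trichotomy j 0 with hj | hj | hj
    · rw [eq_zero_of_neg_deg 𝒜 hpos hj (SetLike.coe_mem (decompose 𝒜 x j)), mul_zero]
    · subst hj
      simp only
      rw [hx, mul_zero]
    · have hi : i < 0 := by omega
      rw [eq_zero_of_neg_deg 𝒜 hpos hi (SetLike.coe_mem (decompose 𝒜 r i)), zero_mul]

/-- an element minus its degree zero component lies in the irrelevant ideal. -/
lemma sub_decompose_zero_mem_irrelevant (hpos : ∀ n : ℤ, n < 0 → 𝒜 n = ⊥) (x : R) :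
    x - (decompose 𝒜 x 0 : R) ∈ (irrelevant 𝒜).toIdeal := by
  classical
  rw [(irrelevant 𝒜).isHomogeneous.mem_iff]
  intro j
  rw [decompose_sub, DirectSum.sub_apply, AddSubgroupClass.coe_sub]
  by_cases hj : j = 0
  · subst hj
    rw [decompose_of_mem_same 𝒜 (SetLike.coe_mem _), sub_self]
    exact zero_mem _
  · rw [decompose_of_mem_ne 𝒜 (SetLike.coe_mem _) (Ne.symm hj), sub_zero]
    rcases lt_or_gt_of_ne hj with h | h
    · rw [eq_zero_of_neg_deg 𝒜 hpos h (SetLike.coe_mem _)]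
      exact zero_mem _
    · rw [irrelevant_toIdeal]
      exact Ideal.subset_span (Set.mem_biUnion (Set.mem_Ioi.mpr h) (SetLike.coe_mem _))

variable {m : HomogeneousIdeal 𝒜}

lemma irrelevant_le (hpos : ∀ n : ℤ, n < 0 → 𝒜 n = ⊥) (hm : IsStarLocal 𝒜 m) :
    (irrelevant 𝒜).toIdeal ≤ m.toIdeal := by
  rw [irrelevant_toIdeal, Ideal.span_le]
  intro x hx
  simp only [Set.mem_iUnion, Set.mem_Ioi, SetLike.mem_coe, exists_prop] at hx
  obtain ⟨n, hn, hxn⟩ := hx
  exact mem_of_pos_deg 𝒜 hpos hm.1 hn hxn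

/-- units of the degree zero part. -/
lemma isUnit_deg0_iff (hpos : ∀ n : ℤ, n < 0 → 𝒜 n = ⊥) (hm : IsStarLocal 𝒜 m)
    (r : GrLC.deg0 𝒜) : IsUnit r ↔ (r : R) ∉ m.toIdeal := by
  have hmax := isMaximal_of_isCoatom 𝒜 hpos hm.1
  constructor
  · intro hu hrm
    obtain ⟨s, hs⟩ := hu.exists_right_inv
    apply hmax.ne_top
    rw [Ideal.eq_top_iff_one]
    have : ((r * s : GrLC.deg0 𝒜) : R) ∈ m.toIdeal := by
      rw [Subring.coe_mul]
      exact Ideal.mul_mem_right _ _ hrm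
    rwa [hs] at this
  · intro hrm
    have hhom : (Ideal.span {(r : R)}).IsHomogeneous 𝒜 := by
      apply Ideal.homogeneous_span
      intro x hx
      rw [Set.mem_singleton_iff] at hx
      rw [hx]
      exact ⟨0, r.2⟩
    have htop : Ideal.span {(r : R)} = ⊤ := by
      by_contra hne
      exact hrm (le_of_isHomogeneous_ne_top 𝒜 hm _ hhom hne (Ideal.subset_span rfl))
    have h1 : (1 : R) ∈ Ideal.span {(r : R)} := by rw [htop]; exact Submodule.mem_top
    obtain ⟨s, hs⟩ := Ideal.mem_span_singleton'.1 h1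
    have h2 : (decompose 𝒜 (s * (r : R)) (0 + 0) : R) = decompose 𝒜 s 0 * r :=
      DirectSum.coe_decompose_mul_add_of_right_mem 𝒜 r.2
    rw [hs, add_zero, decompose_of_mem_same 𝒜 SetLike.GradedOne.one_mem] at h2
    rw [isUnit_iff_exists_inv']
    exact ⟨⟨decompose 𝒜 s 0, SetLike.coe_mem _⟩, Subtype.ext h2.symm⟩

/-- the degree zero part of a *local ring is local. -/
theorem isLocalRing_deg0 (hpos : ∀ n : ℤ, n < 0 → 𝒜 n = ⊥) (hm : IsStarLocal 𝒜 m) :
    IsLocalRing (GrLC.deg0 𝒜) := by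
  have hmax := isMaximal_of_isCoatom 𝒜 hpos hm.1
  haveI : Nontrivial (GrLC.deg0 𝒜) := by
    refine ⟨⟨0, 1, fun h => ?_⟩⟩
    apply hmax.ne_top
    rw [Ideal.eq_top_iff_one]
    have : (1 : R) = 0 := (congrArg Subtype.val h).symm
    rw [this]
    exact zero_mem _
  apply IsLocalRing.of_nonunits_add
  intro a b ha hb
  rw [mem_nonunits_iff, isUnit_deg0_iff 𝒜 hpos hm, not_not] at ha hb ⊢
  rw [Subring.coe_add]
  exact add_mem ha hb

lemma mem_maximalIdeal_deg0_iff (hpos : ∀ n : ℤ, n < 0 → 𝒜 n = ⊥) (hm : IsStarLocal 𝒜 m)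
    [IsLocalRing (GrLC.deg0 𝒜)] (r : GrLC.deg0 𝒜) :
    r ∈ IsLocalRing.maximalIdeal (GrLC.deg0 𝒜) ↔ (r : R) ∈ m.toIdeal := by
  rw [IsLocalRing.mem_maximalIdeal, mem_nonunits_iff, isUnit_deg0_iff 𝒜 hpos hm, not_not]

/-- the residue field of the degree zero part maps onto `R ⧸ m`. -/
theorem infinite_residueField_deg0 (hpos : ∀ n : ℤ, n < 0 → 𝒜 n = ⊥) (hm : IsStarLocal 𝒜 m)
    [IsLocalRing (GrLC.deg0 𝒜)] (hinf : Infinite (R ⧸ m.toIdeal)) :
    Infinite (IsLocalRing.ResidueField (GrLC.deg0 𝒜)) := by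
  let ψ : IsLocalRing.ResidueField (GrLC.deg0 𝒜) →+* R ⧸ m.toIdeal :=
    Ideal.Quotient.lift _ ((Ideal.Quotient.mk m.toIdeal).comp (GrLC.deg0 𝒜).subtype) (by
      intro r hr
      rw [mem_maximalIdeal_deg0_iff 𝒜 hpos hm] at hr
      rw [RingHom.comp_apply]
      exact Ideal.Quotient.eq_zero_iff_mem.mpr hr)
  have hψ : Function.Surjective ψ := by
    intro y
    obtain ⟨x, rfl⟩ := Ideal.Quotient.mk_surjective y
    refine ⟨Ideal.Quotient.mk _ ⟨decompose 𝒜 x 0, SetLike.coe_mem _⟩, ?_⟩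
    change (Ideal.Quotient.mk m.toIdeal) (decompose 𝒜 x 0 : R) = _
    rw [Ideal.Quotient.eq]
    have := irrelevant_le 𝒜 hpos hm (sub_decompose_zero_mem_irrelevant 𝒜 hpos x)
    have h2 := m.toIdeal.neg_mem this
    rwa [neg_sub] at h2
  exact Infinite.of_surjective ψ hψ

/-- for Artinian degree zero part, a power of the *maximal ideal lies in the irrelevant ideal. -/
theorem exists_pow_le_irrelevant (hpos : ∀ n : ℤ, n < 0 → 𝒜 n = ⊥) (hm : IsStarLocal 𝒜 m)
    [IsArtinianRing (GrLC.deg0 𝒜)] :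
    ∃ K : ℕ, m.toIdeal ^ K ≤ (irrelevant 𝒜).toIdeal := by
  haveI := isLocalRing_deg0 𝒜 hpos hm
  obtain ⟨K, hK⟩ : IsNilpotent (IsLocalRing.maximalIdeal (GrLC.deg0 𝒜)) := by
    rw [← IsLocalRing.jacobson_eq_maximalIdeal ⊥ bot_ne_top]
    exact IsArtinianRing.isNilpotent_jacobson_bot
  refine ⟨K, ?_⟩
  set π := Ideal.Quotient.mk (irrelevant 𝒜).toIdeal with hπ
  set π0 : GrLC.deg0 𝒜 →+* R ⧸ (irrelevant 𝒜).toIdeal := π.comp (GrLC.deg0 𝒜).subtype with hπ0
  have h1 : Ideal.map π m.toIdeal ≤ Ideal.map π0 (IsLocalRing.maximalIdeal (GrLC.deg0 𝒜)) := by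
    rw [Ideal.map_le_iff_le_comap]
    intro x hx
    rw [Ideal.mem_comap]
    have hx0 : (decompose 𝒜 x 0 : R) ∈ m.toIdeal := m.isHomogeneous 0 hx
    have hmem : (⟨decompose 𝒜 x 0, SetLike.coe_mem _⟩ : GrLC.deg0 𝒜) ∈
        IsLocalRing.maximalIdeal (GrLC.deg0 𝒜) := by
      rw [mem_maximalIdeal_deg0_iff 𝒜 hpos hm]
      exact hx0
    have hπx : π x = π0 ⟨decompose 𝒜 x 0, SetLike.coe_mem _⟩ := by
      rw [hπ0, RingHom.comp_apply]
      change π x = π (decompose 𝒜 x 0 : R)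
      rw [hπ, Ideal.Quotient.eq]
      exact sub_decompose_zero_mem_irrelevant 𝒜 hpos x
    rw [hπx]
    exact Ideal.mem_map_of_mem _ hmem
  have h2 : Ideal.map π (m.toIdeal ^ K) = ⊥ := by
    rw [Ideal.map_pow, eq_bot_iff]
    refine (Ideal.pow_right_mono h1 K).trans ?_
    rw [← Ideal.map_pow, hK, Ideal.zero_eq_bot, Ideal.map_bot]
  intro x hx
  have : π x ∈ Ideal.map π (m.toIdeal ^ K) := Ideal.mem_map_of_mem _ hx
  rw [h2, Ideal.mem_bot, hπ, Ideal.Quotient.eq_zero_iff_mem] at this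
  exact this

/-- a prime containing the irrelevant ideal is the *maximal ideal (Artinian degree zero). -/
theorem eq_of_irrelevant_le (hpos : ∀ n : ℤ, n < 0 → 𝒜 n = ⊥) (hm : IsStarLocal 𝒜 m)
    [IsArtinianRing (GrLC.deg0 𝒜)] (P : Ideal R) [P.IsPrime]
    (hP : (irrelevant 𝒜).toIdeal ≤ P) : P = m.toIdeal := by
  have hmax := isMaximal_of_isCoatom 𝒜 hpos hm.1
  obtain ⟨K, hK⟩ := exists_pow_le_irrelevant 𝒜 hpos hm
  have : m.toIdeal ≤ P := Ideal.IsPrime.le_of_pow_le (hK.trans hP)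
  exact (hmax.eq_of_le (Ideal.IsPrime.ne_top ‹_›) this).symm

end Groth.Agent.Lib.Helper11.GrArt
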