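import Mathlib
import Groth.Prelude.Def_GrLC
import Groth.Agent.Lib.Helper11.GrLC
import Groth.Agent.Lib.Helper11.GrLCDecomp
import Groth.Agent.Lib.Helper11.GrLCSubQuot
import Groth.Agent.Lib.Helper11.GrLCCo

/-!
# *Injective resolutions exist
-/

set_option autoImplicit false
set_option linter.unusedSectionVars false
universe u

namespace Groth.Agent.Lib.Helper11.GrLCLib

open DirectSum GrLC

variable {ι : Type} [DecidableEq ι] [AddCommGroup ι]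
variable {R : Type u} [CommRing R] (𝒜 : ι → AddSubgroup R) [GradedRing 𝒜]

/-- A chosen *injective module containing `C`. -/
noncomputable def envQ (C : GMod.{u} 𝒜) : GMod.{u} 𝒜 := (exists_starInj_embedding 𝒜 C.gr).choose

/-- The chosen embedding. -/
noncomputable def envJ (C : GMod.{u} 𝒜) : C.carrier →ₗ[R] (envQ 𝒜 C).carrier :=
  (exists_starInj_embedding 𝒜 C.gr).choose_spec.choose

lemma envJ_isGrHom (C : GMod.{u} 𝒜) : IsGrHom C.gr (envQ 𝒜 C).gr (envJ 𝒜 C) :=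
  (exists_starInj_embedding 𝒜 C.gr).choose_spec.choose_spec.1

lemma envJ_injective (C : GMod.{u} 𝒜) : Function.Injective (envJ 𝒜 C) :=
  (exists_starInj_embedding 𝒜 C.gr).choose_spec.choose_spec.2.1

lemma envQ_isStarInj (C : GMod.{u} 𝒜) : IsStarInj 𝒜 (envQ 𝒜 C).gr :=
  (exists_starInj_embedding 𝒜 C.gr).choose_spec.choose_spec.2.2

/-- The next cosyzygy. -/
noncomputable def nextCosyz (C : GMod.{u} 𝒜) : GMod.{u} 𝒜 :=
  quotGMod 𝒜 (envQ 𝒜 C).gr (LinearMap.range (envJ 𝒜 C))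
    (range_isHomogeneous C.gr (envQ 𝒜 C).gr (envJ_isGrHom 𝒜 C))

/-- The projection onto the next cosyzygy. -/
noncomputable def nextProj (C : GMod.{u} 𝒜) : (envQ 𝒜 C).carrier →ₗ[R] (nextCosyz 𝒜 C).carrier :=
  (LinearMap.range (envJ 𝒜 C)).mkQ

lemma nextProj_isGrHom (C : GMod.{u} 𝒜) :
    IsGrHom (envQ 𝒜 C).gr (nextCosyz 𝒜 C).gr (nextProj 𝒜 C) :=
  mkQ_isGrHom (envQ 𝒜 C).gr _

lemma nextProj_surjective (C : GMod.{u} 𝒜) : Function.Surjective (nextProj 𝒜 C) :=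
  Submodule.mkQ_surjective _

lemma ker_nextProj (C : GMod.{u} 𝒜) : LinearMap.ker (nextProj 𝒜 C) = LinearMap.range (envJ 𝒜 C) :=
  Submodule.ker_mkQ _

/-- One step of the resolution. -/
noncomputable def stepD (C : GMod.{u} 𝒜) :
    (envQ 𝒜 C).carrier →ₗ[R] (envQ 𝒜 (nextCosyz 𝒜 C)).carrier :=
  (envJ 𝒜 (nextCosyz 𝒜 C)) ∘ₗ (nextProj 𝒜 C)

lemma stepD_isGrHom (C : GMod.{u} 𝒜) :
    IsGrHom (envQ 𝒜 C).gr (envQ 𝒜 (nextCosyz 𝒜 C)).gr (stepD 𝒜 C) :=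
  isGrHom_comp _ _ _ (nextProj_isGrHom 𝒜 C) (envJ_isGrHom 𝒜 _)

lemma ker_stepD (C : GMod.{u} 𝒜) :
    LinearMap.ker (stepD 𝒜 C) = LinearMap.range (envJ 𝒜 C) := by
  unfold stepD
  rw [LinearMap.ker_comp, LinearMap.ker_eq_bot.mpr (envJ_injective 𝒜 _)]
  exact ker_nextProj 𝒜 _

lemma range_stepD (C : GMod.{u} 𝒜) :
    LinearMap.range (stepD 𝒜 C) = LinearMap.range (envJ 𝒜 (nextCosyz 𝒜 C)) := by
  unfold stepD
  rw [LinearMap.range_comp, LinearMap.range_eq_top.mpr (nextProj_surjective 𝒜 _), Submodule.map_top]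

/-- The cosyzygies. -/
noncomputable def cosyz (M0 : GMod.{u} 𝒜) : ℕ → GMod.{u} 𝒜
  | 0 => M0
  | n + 1 => nextCosyz 𝒜 (cosyz M0 n)

variable {M : Type u} [AddCommGroup M] [Module R M] (ℳ : ι → AddSubgroup M) [DirectSum.Decomposition ℳ]
  [SetLike.GradedSMul 𝒜 ℳ]

/-- The *injective resolution. -/
noncomputable def starInjRes : StarInjRes 𝒜 ℳ where
  X n := envQ 𝒜 (cosyz 𝒜 (GMod.of 𝒜 M ℳ) n)
  d n := stepD 𝒜 (cosyz 𝒜 (GMod.of 𝒜 M ℳ) n)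
  ε := envJ 𝒜 (GMod.of 𝒜 M ℳ)
  d_grHom n := stepD_isGrHom 𝒜 _
  ε_grHom := envJ_isGrHom 𝒜 (GMod.of 𝒜 M ℳ)
  ε_injective := envJ_injective 𝒜 (GMod.of 𝒜 M ℳ)
  exact_zero := ker_stepD 𝒜 (GMod.of 𝒜 M ℳ)
  exact_succ n := (ker_stepD 𝒜 (cosyz 𝒜 (GMod.of 𝒜 M ℳ) (n + 1))).trans
    (range_stepD 𝒜 (cosyz 𝒜 (GMod.of 𝒜 M ℳ) n)).symm
  starInj n := envQ_isStarInj 𝒜 _

theorem nonempty_starInjRes : Nonempty (StarInjRes 𝒜 ℳ) := ⟨starInjRes 𝒜 ℳ⟩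

end Groth.Agent.Lib.Helper11.GrLCLib
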