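import Groth.Agent.Lib.Helper11.GrLesD
import Groth.Agent.Lib.Helper11.GrLesG
import Groth.Agent.Lib.Helper11.GrLCH

/-!
# `H^0` of a *injective resolution and the one-step dimension shift along an acyclic embedding
-/

set_option autoImplicit false
set_option linter.unusedSectionVars false
set_option linter.unusedVariables false
set_option linter.style.haveILetI false
universe u

namespace Groth.Agent.Lib.Helper11.GrShift

open DirectSum GrLC Groth.Agent.Lib.Helper11.GrLCLib Groth.Agent.Lib.Helper11.GrLes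

variable {ι : Type} [DecidableEq ι] [AddCommGroup ι]
variable {R : Type u} [CommRing R] {𝒜 : ι → AddSubgroup R} [GradedRing 𝒜]

section H0

variable {N : Type u} [AddCommGroup N] [Module R N] {𝒩 : ι → AddSubgroup N}
  [DirectSum.Decomposition 𝒩] [SetLike.GradedSMul 𝒜 𝒩]
variable {N' : Type u} [AddCommGroup N'] [Module R N'] {𝒩' : ι → AddSubgroup N'}
  [DirectSum.Decomposition 𝒩'] [SetLike.GradedSMul 𝒜 𝒩']

lemma ε_mem_cocyc (G : StarInjRes 𝒜 𝒩) (a : HomogeneousIdeal 𝒜) {x : N}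
    (hx : x ∈ gam a.toIdeal N) : G.ε x ∈ G.cocyc a 0 :=
  ⟨map_mem_gam _ _ hx, LinearMap.mem_ker.mpr (ConeData.d_ε_apply G x)⟩

/-- the canonical map `Γ_a(N) → H^0_a(N)`. -/
noncomputable def h0 (G : StarInjRes 𝒜 𝒩) (a : HomogeneousIdeal 𝒜) :
    ↥(gam a.toIdeal N) →ₗ[R] G.H a 0 :=
  (G.toH a 0) ∘ₗ (LinearMap.codRestrict (G.cocyc a 0) (G.ε ∘ₗ (gam a.toIdeal N).subtype)
    (fun x => ε_mem_cocyc G a x.2))

lemma h0_apply (G : StarInjRes 𝒜 𝒩) (a : HomogeneousIdeal 𝒜) (x : ↥(gam a.toIdeal N)) :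
    h0 G a x = G.toH a 0 ⟨G.ε x, ε_mem_cocyc G a x.2⟩ := rfl

lemma h0_injective (G : StarInjRes 𝒜 𝒩) (a : HomogeneousIdeal 𝒜) : Function.Injective (h0 G a) := by
  rw [injective_iff_map_eq_zero]
  intro x hx
  rw [h0_apply, toH_eq_zero_iff, mem_cobdy_zero] at hx
  have h1 : G.ε (x : N) = 0 := hx
  apply Subtype.ext
  apply G.ε_injective
  rw [h1]
  exact (map_zero _).symm

lemma h0_surjective (G : StarInjRes 𝒜 𝒩) (a : HomogeneousIdeal 𝒜) :
    Function.Surjective (h0 G a) := by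
  intro y
  obtain ⟨z, rfl⟩ := Submodule.mkQ_surjective _ y
  have hzk : (z : (G.X 0).carrier) ∈ LinearMap.ker (G.d 0) := z.2.2
  rw [G.exact_zero] at hzk
  obtain ⟨x, hx⟩ := hzk
  have hxg : x ∈ gam a.toIdeal N := by
    obtain ⟨k, hk⟩ := z.2.1
    refine ⟨k, fun r hr => ?_⟩
    apply G.ε_injective
    rw [map_smul, hx, hk r hr, map_zero]
  refine ⟨⟨x, hxg⟩, ?_⟩
  rw [h0_apply]
  congr 1
  exact Subtype.ext hx

/-- an injective homogeneous map reflects degrees. -/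
lemma mem_of_map_mem {f : N →ₗ[R] N'} (hf : IsGrHom 𝒩 𝒩' f) (hfi : Function.Injective f) {j : ι}
    {x : N} (hx : f x ∈ 𝒩' j) : x ∈ 𝒩 j := by
  have h1 := decompose_map 𝒩 𝒩' hf x j
  rw [decompose_of_mem_same 𝒩' hx] at h1
  have h2 : x = (decompose 𝒩 x j : N) := hfi h1
  rw [h2]
  exact SetLike.coe_mem _

lemma h0_mem (G : StarInjRes 𝒜 𝒩) (a : HomogeneousIdeal 𝒜) {j : ι} (x : ↥(gam a.toIdeal N))
    (hx : (x : N) ∈ 𝒩 j) : h0 G a x ∈ G.Hcomp a 0 j :=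
  ⟨⟨G.ε x, ε_mem_cocyc G a x.2⟩, G.ε_grHom j _ hx, rfl⟩

lemma exists_h0_eq (G : StarInjRes 𝒜 𝒩) (a : HomogeneousIdeal 𝒜) {j : ι} {y : G.H a 0}
    (hy : y ∈ G.Hcomp a 0 j) : ∃ x : ↥(gam a.toIdeal N), (x : N) ∈ 𝒩 j ∧ h0 G a x = y := by
  obtain ⟨z, hz, rfl⟩ := hy
  obtain ⟨x, hx⟩ := h0_surjective G a (G.toH a 0 z)
  refine ⟨x, ?_, hx⟩
  rw [h0_apply] at hx
  have h1 := (ConeData.toH_eq_toH_iff (a := a) G 0 _ _).mp hx
  rw [mem_cobdy_zero, sub_eq_zero] at h1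
  apply mem_of_map_mem G.ε_grHom G.ε_injective
  have h2 : G.ε (x : N) = (z : (G.X 0).carrier) := h1
  rw [h2]
  exact hz

/-- naturality of `h0`. -/
lemma h0_natural (G : StarInjRes 𝒜 𝒩) (G' : StarInjRes 𝒜 𝒩') (a : HomogeneousIdeal 𝒜)
    (f : N →ₗ[R] N') (c : CMap G G') (hl : c.Lifts f) (x : ↥(gam a.toIdeal N)) :
    c.Hmap a 0 (h0 G a x) = h0 G' a ⟨f x, map_mem_gam f _ x.2⟩ := by
  rw [h0_apply, h0_apply, CMap.Hmap_toH]
  congr 1
  apply Subtype.ext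
  exact LinearMap.congr_fun hl (x : N)

end H0

section Shift

variable {N : Type u} [AddCommGroup N] [Module R N] {𝒩 : ι → AddSubgroup N}
  [DirectSum.Decomposition 𝒩] [SetLike.GradedSMul 𝒜 𝒩]
variable {A : Type u} [AddCommGroup A] [Module R A] {𝒳 : ι → AddSubgroup A}
  [DirectSum.Decomposition 𝒳] [SetLike.GradedSMul 𝒜 𝒳]
variable {Z : Type u} [AddCommGroup Z] [Module R Z] {𝒵 : ι → AddSubgroup Z}
  [DirectSum.Decomposition 𝒵] [SetLike.GradedSMul 𝒜 𝒵]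

/-- a bijective homogeneous map between the `*H` of two resolutions has a homogeneous inverse. -/
lemma symm_mem_Hcomp (G : StarInjRes 𝒜 𝒩) (G' : StarInjRes 𝒜 𝒵) (a : HomogeneousIdeal 𝒜)
    (p p' : ℕ) (e : G.H a p ≃ₗ[R] G'.H a p')
    (he : ∀ g x, x ∈ G.Hcomp a p g → e x ∈ G'.Hcomp a p' g) (g : ι) (y : G'.H a p')
    (hy : y ∈ G'.Hcomp a p' g) : e.symm y ∈ G.Hcomp a p g := by
  letI := (Hgr_isInternal 𝒜 𝒩 G a p).chooseDecomposition
  letI := (Hgr_isInternal 𝒜 𝒵 G' a p').chooseDecomposition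
  have h1 : IsGrHom (G.Hgr a p) (G'.Hgr a p') e.toLinearMap := fun g x hx => he g x hx
  exact isGrHom_symm e h1 g y hy

/-- Dimension shift along a short exact sequence `0 → N → A → Z → 0` with `A` acyclic. -/
theorem exists_shift (G : StarInjRes 𝒜 𝒩) (GA : StarInjRes 𝒜 𝒳) (GZ : StarInjRes 𝒜 𝒵)
    (u : N →ₗ[R] A) (v : A →ₗ[R] Z) (hu : IsGrHom 𝒩 𝒳 u) (hv : IsGrHom 𝒳 𝒵 v)
    (hui : Function.Injective u) (hvs : Function.Surjective v)
    (hex : LinearMap.ker v = LinearMap.range u) (a : HomogeneousIdeal 𝒜)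
    (hac : ∀ p, Subsingleton (GA.H a (p + 1))) :
    (∀ p : ℕ, ∃ e : GZ.H a (p + 1) ≃ₗ[R] G.H a (p + 2),
      (∀ g x, x ∈ GZ.Hcomp a (p + 1) g → e x ∈ G.Hcomp a (p + 2) g) ∧
      (∀ g y, y ∈ G.Hcomp a (p + 2) g → e.symm y ∈ GZ.Hcomp a (p + 1) g)) ∧
    (∃ σ : ↥(gam a.toIdeal Z) →ₗ[R] G.H a 1, Function.Surjective σ ∧
      (∀ z, σ z = 0 ↔ ∃ x : ↥(gam a.toIdeal A), v (x : A) = (z : Z)) ∧
      (∀ g (z : ↥(gam a.toIdeal Z)), (z : Z) ∈ 𝒵 g → σ z ∈ G.Hcomp a 1 g) ∧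
      (∀ g y, y ∈ G.Hcomp a 1 g → ∃ z : ↥(gam a.toIdeal Z), (z : Z) ∈ 𝒵 g ∧ σ z = y)) := by
  obtain ⟨cu, hcu, hlu⟩ := exists_cmap G GA u 0 ((isGrHomDeg_zero_iff 𝒩 𝒳).mpr hu)
  obtain ⟨cv, hcv, hlv⟩ := exists_cmap GA GZ v 0 ((isGrHomDeg_zero_iff 𝒳 𝒵).mpr hv)
  obtain ⟨γ, hγ, ex1, ex2, ex3, -⟩ := exists_les G GA GZ u v hu hv hui hvs hex a cu hcu hlu cv hcv hlv
  constructor
  · intro p
    have hinj : Function.Injective (γ (p + 1)) := by
      rw [injective_iff_map_eq_zero]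
      intro x hx
      obtain ⟨w, rfl⟩ := (ex2 (p + 1) x).mp hx
      rw [(hac p).elim w 0, map_zero]
    have hsurj : Function.Surjective (γ (p + 1)) := by
      intro y
      have : cu.Hmap a (p + 1 + 1) y = 0 := (hac (p + 1)).elim _ _
      exact (ex3 (p + 1) y).mp this
    let e : GZ.H a (p + 1) ≃ₗ[R] G.H a (p + 2) := LinearEquiv.ofBijective (γ (p + 1)) ⟨hinj, hsurj⟩
    have he : ∀ g x, x ∈ GZ.Hcomp a (p + 1) g → e x ∈ G.Hcomp a (p + 2) g :=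
      fun g x hx => hγ (p + 1) g x hx
    exact ⟨e, he, fun g y hy => symm_mem_Hcomp GZ G a (p + 1) (p + 2) e he g y hy⟩
  · have hsurj : Function.Surjective (γ 0) := by
      intro y
      have : cu.Hmap a (0 + 1) y = 0 := (hac 0).elim _ _
      exact (ex3 0 y).mp this
    refine ⟨γ 0 ∘ₗ h0 GZ a, hsurj.comp (h0_surjective GZ a), ?_, ?_, ?_⟩
    · intro z
      rw [LinearMap.comp_apply]
      constructor
      · intro hz
        obtain ⟨w, hw⟩ := (ex2 0 _).mp hz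
        obtain ⟨x, rfl⟩ := h0_surjective GA a w
        rw [h0_natural GA GZ a v cv hlv x] at hw
        have := h0_injective GZ a hw
        exact ⟨x, congrArg Subtype.val this⟩
      · rintro ⟨x, hx⟩
        apply (ex2 0 _).mpr
        refine ⟨h0 GA a x, ?_⟩
        rw [h0_natural GA GZ a v cv hlv x]
        congr 1
        exact Subtype.ext hx
    · intro g z hz
      exact hγ 0 g _ (h0_mem GZ a z hz)
    · intro g y hy
      obtain ⟨w, hw⟩ := hsurj y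
      have hint0 := Hgr_isInternal 𝒜 𝒵 GZ a 0
      have hint1 := Hgr_isInternal 𝒜 𝒩 G a 1
      have hdeg : IsGrHomDeg (GZ.Hgr a 0) (G.Hgr a 1) (γ 0) 0 := by
        intro g x hx
        rw [add_zero]
        exact hγ 0 g x hx
      obtain ⟨w', hw', hw'y⟩ := exists_homogeneous_preimage (GZ.Hgr a 0) (G.Hgr a 1) hint0 hint1
        (γ 0) 0 hdeg g y (by rw [add_zero]; exact hy) w hw
      obtain ⟨z, hz, hzw⟩ := exists_h0_eq GZ a hw'
      refine ⟨z, hz, ?_⟩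
      rw [LinearMap.comp_apply, hzw, hw'y]

end Shift

end Groth.Agent.Lib.Helper11.GrShift
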