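import Groth.Agent.Lib.Helper11.GrArtA
import Groth.Agent.Lib.Helper11.GrShiftA
import Groth.Agent.Lib.Helper11.GrLCRes
import Groth.Agent.Lib.Helper11.GrCanC

/-!
# A filter-regular sequence of linear forms in a Cohen–Macaulay *local ring is regular
up to the dimension
-/

set_option autoImplicit false
set_option linter.unusedSectionVars false
set_option linter.unusedVariables false
set_option linter.style.haveILetI false
set_option maxHeartbeats 1000000
universe u

namespace Groth.Agent.Lib.Helper11.GrArt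

open DirectSum GrLC Groth.Agent.Lib.Helper11.GrLCLib Groth.Agent.Lib.Helper11.GrLes
  Groth.Agent.Lib.Helper11.GrField Groth.Agent.Lib.Helper11.GrShift
  Groth.Agent.Lib.Helper11.GrCan RingTheory.Sequence
open scoped Pointwise

section Lists

variable {R : Type u} [CommRing R]

theorem ofList_take_ofFn {t : ℕ} (f : Fin t → R) (i : ℕ) :
    Ideal.ofList ((List.ofFn f).take i) = Ideal.span (f '' {j : Fin t | (j : ℕ) < i}) := by
  unfold Ideal.ofList
  congr 1
  ext r
  simp only [Set.mem_ofPred_eq, Set.mem_image]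
  rw [List.mem_take_iff_getElem]
  constructor
  · rintro ⟨a, ha, rfl⟩
    rw [List.length_ofFn] at ha
    refine ⟨⟨a, (lt_min_iff.1 ha).2⟩, (lt_min_iff.1 ha).1, ?_⟩
    rw [List.getElem_ofFn]
  · rintro ⟨j, hj, rfl⟩
    refine ⟨j, ?_, ?_⟩
    · rw [List.length_ofFn]; exact lt_min hj j.2
    · rw [List.getElem_ofFn]

end Lists

variable {R : Type u} [CommRing R] [LocCoh.IsCohenMacaulayRing R] (𝒜 : ℤ → AddSubgroup R)
  [GradedRing 𝒜]
variable {m : HomogeneousIdeal 𝒜}

/-- the ideal generated by the first `i` terms, as a submodule. -/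
def Jsub {t : ℕ} (f : Fin t → R) (i : ℕ) : Submodule R R :=
  Ideal.ofList ((List.ofFn f).take i)

lemma Jsub_isHomogeneous {t : ℕ} (f : Fin t → R) (hf1 : ∀ i, f i ∈ 𝒜 1) (i : ℕ) :
    (Jsub f i).IsHomogeneous 𝒜 := by
  have h : (Ideal.ofList ((List.ofFn f).take i)).IsHomogeneous 𝒜 := by
    rw [ofList_take_ofFn]
    apply Ideal.homogeneous_span
    rintro _ ⟨j, -, rfl⟩
    exact ⟨1, hf1 j⟩
  exact h

lemma forall₂_take {t : ℕ} (f : Fin t → R) (hf1 : ∀ i, f i ∈ 𝒜 1)
    (hfm : ∀ i, f i ∈ m.toIdeal) (i : ℕ) (hit : i ≤ t) :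
    List.Forall₂ (fun r k => r ∈ 𝒜 k ∧ 0 ≤ k ∧ r ∈ m.toIdeal) ((List.ofFn f).take i)
      (List.replicate i (1 : ℤ)) := by
  rw [List.forall₂_iff_get]
  refine ⟨by rw [List.length_take, List.length_ofFn, List.length_replicate, min_eq_left hit], ?_⟩
  intro j h1 h2
  rw [List.get_eq_getElem, List.get_eq_getElem, List.getElem_take, List.getElem_ofFn,
    List.getElem_replicate]
  exact ⟨hf1 _, zero_le_one, hfm _⟩

/-- the local cohomology of the quotient by the first `i` terms of a regular sequence of linear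
forms. -/
theorem regSeq_data (hpos : ∀ n : ℤ, n < 0 → 𝒜 n = ⊥) (hm : IsStarLocal 𝒜 m) (d : ℕ)
    (hd : ringKrullDim R = d) (I : StarInjRes 𝒜 𝒜) {t : ℕ} (f : Fin t → R)
    (hf1 : ∀ i, f i ∈ 𝒜 1) (i : ℕ) (hit : i ≤ t) (hid : i ≤ d)
    (hreg : IsWeaklyRegular R ((List.ofFn f).take i))
    [DirectSum.Decomposition (quotGrM 𝒜 (Jsub f i))]
    (F : StarInjRes 𝒜 (quotGrM 𝒜 (Jsub f i))) :
    (∀ j, j < d - i → Subsingleton (F.H m j)) ∧
      endDeg (F.Hgr m (d - i)) = endDeg (I.Hgr m d) + cc (i : ℤ) := by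
  have hmax := isMaximal_of_isCoatom 𝒜 hpos hm.1
  have hfm : ∀ i, f i ∈ m.toIdeal := fun i => mem_of_pos_deg 𝒜 hpos hm.1 one_pos (hf1 i)
  have hht := ringKrullDim_eq_height 𝒜 hpos hm
  rw [hd] at hht
  have hht' : m.toIdeal.height = (d : ℕ∞) := by
    have : ((m.toIdeal.height : ℕ∞) : WithBot ℕ∞) = ((d : ℕ∞) : WithBot ℕ∞) := hht.symm
    exact_mod_cast this
  have hvan : ∀ j, j < d → Subsingleton (I.H m j) := fun j hj =>
    subsingleton_H_of_lt_height 𝒜 m hmax I d hht'.ge j hj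
  have hπk : LinearMap.ker (Jsub f i).mkQ =
      Ideal.ofList ((List.ofFn f).take i) • (⊤ : Submodule R R) := by
    rw [Submodule.ker_mkQ, smul_eq_mul, Ideal.mul_top]
    rfl
  have hlen : ((List.ofFn f).take i).length = i := by
    rw [List.length_take, List.length_ofFn, min_eq_left hit]
  have key := endDeg_regSeq m ((List.ofFn f).take i) (List.replicate i (1 : ℤ))
    (forall₂_take 𝒜 f hf1 hfm i hit) R 𝒜 _ (quotGrM 𝒜 (Jsub f i)) (Submodule.mkQ _)
    (mkQ_isGrHom 𝒜 _) (Submodule.mkQ_surjective _) hπk hreg I F d (by rw [hlen]; exact hid) hvan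
  rw [hlen, List.sum_replicate, nsmul_eq_mul, mul_one] at key
  exact key

/-- the torsion of the quotient by a short regular sequence of linear forms vanishes. -/
theorem gam_quot_eq_bot (hpos : ∀ n : ℤ, n < 0 → 𝒜 n = ⊥) (hm : IsStarLocal 𝒜 m) (d : ℕ)
    (hd : ringKrullDim R = d) (I : StarInjRes 𝒜 𝒜) {t : ℕ} (f : Fin t → R)
    (hf1 : ∀ i, f i ∈ 𝒜 1) (i : ℕ) (hit : i ≤ t) (hid : i < d)
    (hreg : IsWeaklyRegular R ((List.ofFn f).take i)) :
    gam m.toIdeal (R ⧸ Jsub f i) = ⊥ := by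
  letI := quotDecomposition 𝒜 (Jsub f i) (Jsub_isHomogeneous 𝒜 f hf1 i)
  obtain ⟨F⟩ := nonempty_starInjRes 𝒜 (quotGrM 𝒜 (Jsub f i))
  obtain ⟨h1, -⟩ := regSeq_data 𝒜 hpos hm d hd I f hf1 i hit hid.le hreg F
  haveI := h1 0 (by omega)
  rw [eq_bot_iff]
  intro z hz
  have : h0 F m ⟨z, hz⟩ = h0 F m 0 := Subsingleton.elim _ _
  have h2 := h0_injective F m this
  exact (Submodule.mem_bot R).mpr (congrArg Subtype.val h2)

/-- the `*`maximal ideal is not associated to the quotient by a short regular sequence. -/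
theorem not_mem_associatedPrimes (hpos : ∀ n : ℤ, n < 0 → 𝒜 n = ⊥) (hm : IsStarLocal 𝒜 m) (d : ℕ)
    (hd : ringKrullDim R = d) (I : StarInjRes 𝒜 𝒜) {t : ℕ} (f : Fin t → R)
    (hf1 : ∀ i, f i ∈ 𝒜 1) (i : ℕ) (hit : i ≤ t) (hid : i < d)
    (hreg : IsWeaklyRegular R ((List.ofFn f).take i)) :
    m.toIdeal ∉ associatedPrimes R (R ⧸ Jsub f i) := by
  intro hass
  have hmax := isMaximal_of_isCoatom 𝒜 hpos hm.1
  rw [AssociatedPrimes.mem_iff, isAssociatedPrime_iff] at hass
  obtain ⟨-, z, hz⟩ := hass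
  have hzg : z ∈ gam m.toIdeal (R ⧸ Jsub f i) := by
    refine ⟨1, fun r hr => ?_⟩
    rw [pow_one, hz, Submodule.mem_colon_singleton] at hr
    exact (Submodule.mem_bot R).mp hr
  rw [gam_quot_eq_bot 𝒜 hpos hm d hd I f hf1 i hit hid hreg, Submodule.mem_bot] at hzg
  apply hmax.ne_top
  rw [Ideal.eq_top_iff_one, hz, Submodule.mem_colon_singleton, hzg, smul_zero]
  exact zero_mem _

/-- **a filter-regular sequence of linear forms is regular up to the dimension.** -/
theorem isWeaklyRegular_take (hpos : ∀ n : ℤ, n < 0 → 𝒜 n = ⊥) (hm : IsStarLocal 𝒜 m)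
    [IsArtinianRing (GrLC.deg0 𝒜)] (d : ℕ)
    (hd : ringKrullDim R = d) (I : StarInjRes 𝒜 𝒜) {t : ℕ} (f : Fin t → R)
    (hf1 : ∀ i, f i ∈ 𝒜 1)
    (hgood : ∀ (i : Fin t) (P : Ideal R),
      P ∈ associatedPrimes R (R ⧸ Ideal.span (f '' {j | j < i})) →
        ¬ (irrelevant 𝒜).toIdeal ≤ P → f i ∉ P) :
    ∀ (i : ℕ), i ≤ t → i ≤ d → IsWeaklyRegular R ((List.ofFn f).take i) := by
  intro i
  induction i with
  | zero =>
    intro _ _
    rw [List.take_zero]
    exact IsWeaklyRegular.nil R R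
  | succ i ih =>
    intro hit hid
    have hreg := ih (by omega) (by omega)
    have hlt : i < (List.ofFn f).length := by rw [List.length_ofFn]; omega
    rw [List.take_succ_eq_append_getElem hlt, isWeaklyRegular_append_iff]
    refine ⟨hreg, ?_⟩
    rw [isWeaklyRegular_singleton_iff, List.getElem_ofFn]
    -- regularity of `f i` on the quotient
    by_contra hnreg
    have hJ : Ideal.ofList ((List.ofFn f).take i) • (⊤ : Submodule R R) = Jsub f i := by
      rw [smul_eq_mul, Ideal.mul_top]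
      rfl
    rw [hJ] at hnreg
    have hmem : f ⟨i, by omega⟩ ∈ ⋃ p ∈ associatedPrimes R (R ⧸ Jsub f i), (p : Set R) := by
      rw [biUnion_associatedPrimes_eq_compl_regular]
      exact hnreg
    simp only [Set.mem_iUnion, SetLike.mem_coe, exists_prop] at hmem
    obtain ⟨P, hP, hfP⟩ := hmem
    haveI hPp : P.IsPrime := hP.isPrime
    have hJeq : (Jsub f i : Submodule R R) =
        Ideal.span (f '' {j : Fin t | j < (⟨i, by omega⟩ : Fin t)}) := by
      change Ideal.ofList ((List.ofFn f).take i) = _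
      rw [ofList_take_ofFn]
      rfl
    by_cases haP : (irrelevant 𝒜).toIdeal ≤ P
    · have hPm := eq_of_irrelevant_le 𝒜 hpos hm P haP
      rw [hPm] at hP
      exact not_mem_associatedPrimes 𝒜 hpos hm d hd I f hf1 i (by omega) (by omega) hreg hP
    · have hP' : P ∈ associatedPrimes R
          (R ⧸ Ideal.span (f '' {j : Fin t | j < (⟨i, by omega⟩ : Fin t)})) := by
        rw [← hJeq]
        exact hP
      exact hgood ⟨i, by omega⟩ P hP' haP hfP

end Groth.Agent.Lib.Helper11.GrArt
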