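import Groth.Agent.Lib.Helper11.GrArtB
import Groth.Agent.Lib.Helper16.CMLocalRing

/-!
# `a(R) = -dim R` forces the irrelevant ideal to be generated by a regular sequence of linear forms
-/

set_option autoImplicit false
set_option linter.unusedSectionVars false
set_option linter.unusedVariables false
set_option linter.style.haveILetI false
set_option maxHeartbeats 1000000
universe u

namespace Groth.Agent.Lib.Helper11.GrArt

open DirectSum GrLC Groth.Agent.Lib.Helper11.GrLCLib Groth.Agent.Lib.Helper11.GrLes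
  Groth.Agent.Lib.Helper11.GrField Groth.Agent.Lib.Helper11.GrShift
  Groth.Agent.Lib.Helper11.GrCan RingTheory.Sequence
open scoped Pointwise

variable {R : Type u} [CommRing R] [LocCoh.IsCohenMacaulayRing R] (𝒜 : ℤ → AddSubgroup R)
  [GradedRing 𝒜]
variable {m : HomogeneousIdeal 𝒜}

/-- a quotient by an ideal containing a power of `m` is `m`-torsion. -/
lemma gam_quot_eq_top (J : Submodule R R) (K : ℕ) (hK : m.toIdeal ^ K ≤ (J : Ideal R)) :
    gam m.toIdeal (R ⧸ J) = ⊤ := by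
  rw [eq_top_iff]
  intro z _
  obtain ⟨y, rfl⟩ := Submodule.mkQ_surjective J z
  refine ⟨K, fun r hr => ?_⟩
  rw [← map_smul, Submodule.mkQ_apply, Submodule.Quotient.mk_eq_zero, smul_eq_mul]
  exact Ideal.mul_mem_right _ _ (hK hr)

/-- the sequence has at least `dim R` terms. -/
theorem dim_le_length (hpos : ∀ n : ℤ, n < 0 → 𝒜 n = ⊥) (hm : IsStarLocal 𝒜 m)
    [IsArtinianRing (GrLC.deg0 𝒜)] (d : ℕ)
    (hd : ringKrullDim R = d) (I : StarInjRes 𝒜 𝒜) {t : ℕ} (f : Fin t → R)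
    (hf1 : ∀ i, f i ∈ 𝒜 1) (hspan : Ideal.span (Set.range f) = (irrelevant 𝒜).toIdeal)
    (hgood : ∀ (i : Fin t) (P : Ideal R),
      P ∈ associatedPrimes R (R ⧸ Ideal.span (f '' {j | j < i})) →
        ¬ (irrelevant 𝒜).toIdeal ≤ P → f i ∉ P) : d ≤ t := by
  by_contra hlt
  push Not at hlt
  have hmax := isMaximal_of_isCoatom 𝒜 hpos hm.1
  have hreg := isWeaklyRegular_take 𝒜 hpos hm d hd I f hf1 hgood t le_rfl hlt.le
  have h1 := gam_quot_eq_bot 𝒜 hpos hm d hd I f hf1 t le_rfl hlt hreg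
  have hJ : (Jsub f t : Ideal R) = (irrelevant 𝒜).toIdeal := by
    change Ideal.ofList ((List.ofFn f).take t) = _
    rw [ofList_take_ofFn, ← hspan]
    congr 1
    ext r
    simp only [Set.mem_image, Set.mem_ofPred_eq, Set.mem_range]
    constructor
    · rintro ⟨j, -, rfl⟩; exact ⟨j, rfl⟩
    · rintro ⟨j, rfl⟩; exact ⟨j, j.2, rfl⟩
  obtain ⟨K, hK⟩ := exists_pow_le_irrelevant 𝒜 hpos hm
  have h2 := gam_quot_eq_top 𝒜 (m := m) (Jsub f t) K (by rw [hJ]; exact hK)
  rw [h1] at h2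
  -- the quotient is trivial
  have h3 : (Jsub f t).mkQ (1 : R) = 0 := by
    have : (Jsub f t).mkQ (1 : R) ∈ (⊤ : Submodule R (R ⧸ Jsub f t)) := Submodule.mem_top
    rw [← h2] at this
    exact (Submodule.mem_bot R).mp this
  rw [Submodule.mkQ_apply, Submodule.Quotient.mk_eq_zero] at h3
  have h4 : (1 : R) ∈ (irrelevant 𝒜).toIdeal := by rw [← hJ]; exact h3
  exact hmax.ne_top ((Ideal.eq_top_iff_one _).mpr (irrelevant_le 𝒜 hpos hm h4))

/-- a power of the `*`maximal ideal lies in the ideal of a maximal regular sequence of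
homogeneous elements. -/
theorem exists_pow_le_of_regular (hpos : ∀ n : ℤ, n < 0 → 𝒜 n = ⊥) (hm : IsStarLocal 𝒜 m) (d : ℕ)
    (hd : ringKrullDim R = d) (rs : List R) (hlen : rs.length = d)
    (hreg : IsWeaklyRegular R rs) (hhom : (Ideal.ofList rs).IsHomogeneous 𝒜)
    (hne : Ideal.ofList rs ≠ ⊤) : ∃ K : ℕ, m.toIdeal ^ K ≤ Ideal.ofList rs := by
  have hmax := isMaximal_of_isCoatom 𝒜 hpos hm.1
  haveI := hmax.isPrime
  have hht := ringKrullDim_eq_height 𝒜 hpos hm
  rw [hd] at hht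
  have hht' : m.toIdeal.height = (d : ℕ∞) := by
    have : ((m.toIdeal.height : ℕ∞) : WithBot ℕ∞) = ((d : ℕ∞) : WithBot ℕ∞) := hht.symm
    exact_mod_cast this
  apply Ideal.exists_pow_le_of_le_radical_of_fg _ (IsNoetherian.noetherian _)
  rw [← Ideal.sInf_minimalPrimes, le_sInf_iff]
  intro P hP
  haveI hPp : P.IsPrime := hP.1.1
  -- `P` is homogeneous
  have hcore : (Ideal.homogeneousCore 𝒜 P).toIdeal = P := by
    apply le_antisymm (Ideal.toIdeal_homogeneousCore_le 𝒜 P)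
    apply hP.2 ⟨Ideal.IsPrime.homogeneousCore hPp, ?_⟩ (Ideal.toIdeal_homogeneousCore_le 𝒜 P)
    have h1 : (Ideal.homogeneousCore 𝒜 (Ideal.ofList rs)).toIdeal = Ideal.ofList rs :=
      Ideal.IsHomogeneous.toIdeal_homogeneousCore_eq_self hhom
    rw [← h1]
    exact Ideal.homogeneousCore_mono 𝒜 hP.1.2
  have hPhom : P.IsHomogeneous 𝒜 := by
    rw [← hcore]; exact (Ideal.homogeneousCore 𝒜 P).isHomogeneous
  have hPm : P ≤ m.toIdeal := le_of_isHomogeneous_ne_top 𝒜 hm P hPhom hPp.ne_top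
  have h1 : (rs.length : ℕ∞) ≤ P.height :=
    Groth.Agent.Lib.Helper16.CMLocalRing.length_le_height rs hreg P
      (fun r hr => hP.1.2 (Ideal.subset_span hr))
  rw [hlen] at h1
  by_contra hnle
  have hlt : P < m.toIdeal := lt_of_le_of_ne hPm (fun h => hnle (h ▸ le_rfl))
  have h2 := Ideal.height_strict_mono_of_isPrime_of_isPrime hlt
  rw [hht'] at h2
  exact absurd (lt_of_le_of_lt h1 h2) (lt_irrefl _)

/-- **the irrelevant ideal is generated by a regular sequence of `dim R` linear forms** when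
`a(R) = -dim R`. -/
theorem exists_regular_generators (hpos : ∀ n : ℤ, n < 0 → 𝒜 n = ⊥) (hm : IsStarLocal 𝒜 m)
    [IsArtinianRing (GrLC.deg0 𝒜)] (d : ℕ)
    (hd : ringKrullDim R = d) (I : StarInjRes 𝒜 𝒜)
    (ha : GrLC.endDeg (I.Hgr m d) = cc (-(d : ℤ))) {t : ℕ} (f : Fin t → R)
    (hf1 : ∀ i, f i ∈ 𝒜 1) (hspan : Ideal.span (Set.range f) = (irrelevant 𝒜).toIdeal)
    (hgood : ∀ (i : Fin t) (P : Ideal R),
      P ∈ associatedPrimes R (R ⧸ Ideal.span (f '' {j | j < i})) →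
        ¬ (irrelevant 𝒜).toIdeal ≤ P → f i ∉ P) :
    ∃ g : Fin d → R, (∀ i, g i ∈ 𝒜 1) ∧ IsWeaklyRegular R (List.ofFn g) ∧
      Ideal.span (Set.range g) = (irrelevant 𝒜).toIdeal := by
  classical
  have hmax := isMaximal_of_isCoatom 𝒜 hpos hm.1
  have hdt := dim_le_length 𝒜 hpos hm d hd I f hf1 hspan hgood
  have hreg := isWeaklyRegular_take 𝒜 hpos hm d hd I f hf1 hgood d hdt le_rfl
  have hlist : List.ofFn (fun i : Fin d => f (Fin.castLE hdt i)) = (List.ofFn f).take d := by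
    apply List.ext_getElem
    · rw [List.length_ofFn, List.length_take, List.length_ofFn, min_eq_left hdt]
    · intro j h1 h2
      rw [List.getElem_ofFn, List.getElem_take, List.getElem_ofFn]
      rfl
  have hJle : (Jsub f d : Ideal R) ≤ (irrelevant 𝒜).toIdeal := by
    change Ideal.ofList ((List.ofFn f).take d) ≤ _
    rw [ofList_take_ofFn, ← hspan]
    apply Ideal.span_mono
    rintro _ ⟨j, -, rfl⟩
    exact ⟨j, rfl⟩
  have hJne : Ideal.ofList ((List.ofFn f).take d) ≠ ⊤ := by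
    intro h
    apply hmax.ne_top
    rw [eq_top_iff]
    have h' : (Jsub f d : Ideal R) = ⊤ := h
    rw [← h']
    exact hJle.trans (irrelevant_le 𝒜 hpos hm)
  have hlen : ((List.ofFn f).take d).length = d := by
    rw [List.length_take, List.length_ofFn, min_eq_left hdt]
  obtain ⟨K, hK⟩ := exists_pow_le_of_regular 𝒜 hpos hm d hd _ hlen hreg
    (Jsub_isHomogeneous 𝒜 f hf1 d) hJne
  have htop := gam_quot_eq_top 𝒜 (m := m) (Jsub f d) K hK
  letI := quotDecomposition 𝒜 (Jsub f d) (Jsub_isHomogeneous 𝒜 f hf1 d)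
  obtain ⟨F⟩ := nonempty_starInjRes 𝒜 (quotGrM 𝒜 (Jsub f d))
  obtain ⟨-, hend⟩ := regSeq_data 𝒜 hpos hm d hd I f hf1 d hdt le_rfl hreg F
  rw [Nat.sub_self, ha, ← cc_add, neg_add_cancel] at hend
  have hT := isTopDeg_of_endDeg_eq hend
  -- positive degree elements lie in `J`
  have hpos_mem : ∀ (j : ℤ), 0 < j → ∀ x ∈ 𝒜 j, x ∈ (Jsub f d : Ideal R) := by
    intro j hj x hx
    have hz : (Jsub f d).mkQ x ∈ gam m.toIdeal (R ⧸ Jsub f d) := by rw [htop]; exact Submodule.mem_top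
    have hzj : (Jsub f d).mkQ x ∈ quotGrM 𝒜 (Jsub f d) j := ⟨x, hx, rfl⟩
    have h1 := h0_mem F m ⟨(Jsub f d).mkQ x, hz⟩ hzj
    have h2 : h0 F m ⟨(Jsub f d).mkQ x, hz⟩ ∈ F.Hgr m 0 j := h1
    rw [hT.2 j hj, AddSubgroup.mem_bot] at h2
    have h3 := h0_injective F m (h2.trans (map_zero _).symm)
    have h4 : (Jsub f d).mkQ x = 0 := congrArg Subtype.val h3
    rwa [Submodule.mkQ_apply, Submodule.Quotient.mk_eq_zero] at h4
  refine ⟨fun i : Fin d => f (Fin.castLE hdt i), fun i => hf1 _, ?_, ?_⟩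
  · rw [hlist]; exact hreg
  · have hJeq : Ideal.span (Set.range (fun i : Fin d => f (Fin.castLE hdt i))) =
        (Jsub f d : Ideal R) := by
      change _ = Ideal.ofList ((List.ofFn f).take d)
      rw [← hlist]
      unfold Ideal.ofList
      congr 1
      ext r
      simp [List.mem_ofFn]
    rw [hJeq]
    apply le_antisymm hJle
    rw [irrelevant_toIdeal, Ideal.span_le]
    intro x hx
    simp only [Set.mem_iUnion, Set.mem_Ioi, SetLike.mem_coe, exists_prop] at hx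
    obtain ⟨j, hj, hxj⟩ := hx
    exact hpos_mem j hj x hxj

end Groth.Agent.Lib.Helper11.GrArt
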