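import Groth.Agent.Lib.Helper11.GrArtA
import Groth.Agent.Lib.Helper12.QuasiReg2

/-!
# A graded ring whose irrelevant ideal is generated by a regular sequence of linear forms is a
polynomial ring over its degree zero part
-/

set_option autoImplicit false
set_option linter.unusedSectionVars false
set_option linter.unusedVariables false
set_option linter.style.haveILetI false
set_option maxHeartbeats 1000000
universe u

namespace Groth.Agent.Lib.Helper11.GrArt

open DirectSum GrLC Groth.Agent.Lib.Helper11.GrLCLib Groth.Agent.Lib.Helper11.GrLes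
  Groth.Agent.Lib.Helper11.GrField MvPolynomial

variable {R : Type u} [CommRing R] (𝒜 : ℤ → AddSubgroup R) [GradedRing 𝒜]
variable {d : ℕ} (g : Fin d → R)

/-- evaluation at the sequence. -/
noncomputable def ev : MvPolynomial (Fin d) (GrLC.deg0 𝒜) →ₐ[GrLC.deg0 𝒜] R := MvPolynomial.aeval g

lemma ev_X (i : Fin d) : ev 𝒜 g (X i) = g i := by
  unfold ev; rw [aeval_X]

lemma ev_C (c : GrLC.deg0 𝒜) : ev 𝒜 g (C c) = (c : R) := by
  unfold ev; rw [aeval_C]; rfl

lemma ev_monomial_mem (hg : ∀ i, g i ∈ 𝒜 1) (e : Fin d →₀ ℕ) (c : GrLC.deg0 𝒜) :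
    ev 𝒜 g (monomial e c) ∈ 𝒜 ((Finsupp.degree e : ℕ) : ℤ) := by
  unfold ev
  rw [aeval_monomial]
  have h1 : (algebraMap (GrLC.deg0 𝒜) R c) ∈ 𝒜 0 := c.2
  have h2 : (e.prod fun i k => g i ^ k) ∈ 𝒜 (∑ i ∈ e.support, e i • (1 : ℤ)) :=
    SetLike.prod_pow_mem_graded 𝒜 (fun _ => (1 : ℤ)) g e (fun i _ => hg i)
  have h3 : (∑ i ∈ e.support, e i • (1 : ℤ)) = ((Finsupp.degree e : ℕ) : ℤ) := by
    rw [Finsupp.degree_apply]
    push_cast
    apply Finset.sum_congr rfl
    intro i _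
    rw [nsmul_eq_mul, mul_one]
  rw [h3] at h2
  have := SetLike.GradedMul.mul_mem h1 h2
  rwa [zero_add] at this

lemma ev_mem (hg : ∀ i, g i ∈ 𝒜 1) {P : MvPolynomial (Fin d) (GrLC.deg0 𝒜)} {n : ℕ}
    (hP : P.IsHomogeneous n) : ev 𝒜 g P ∈ 𝒜 (n : ℤ) := by
  classical
  rw [P.as_sum, map_sum]
  apply AddSubgroup.sum_mem
  intro e he
  have hdeg : Finsupp.degree e = n := by
    by_contra h
    exact (mem_support_iff.1 he) (hP.coeff_eq_zero h)
  rw [← hdeg]
  exact ev_monomial_mem 𝒜 g hg e _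

/-- the components of a value are the values of the homogeneous components. -/
lemma decompose_ev (hg : ∀ i, g i ∈ 𝒜 1) (P : MvPolynomial (Fin d) (GrLC.deg0 𝒜)) (k : ℕ) :
    (decompose 𝒜 (ev 𝒜 g P) (k : ℤ) : R) = ev 𝒜 g (homogeneousComponent k P) := by
  classical
  have h1 : ev 𝒜 g P = ∑ n ∈ Finset.range (P.totalDegree + 1),
      ev 𝒜 g (homogeneousComponent n P) := by
    rw [← map_sum, sum_homogeneousComponent]
  have h2 : (decompose 𝒜 (ev 𝒜 g P) (k : ℤ) : R) = compA (𝒜 := 𝒜) (k : ℤ) (ev 𝒜 g P) := rfl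
  rw [h2, h1, map_sum]
  have h3 : ∀ n ∈ Finset.range (P.totalDegree + 1),
      compA (𝒜 := 𝒜) (k : ℤ) (ev 𝒜 g (homogeneousComponent n P)) =
        if n = k then ev 𝒜 g (homogeneousComponent n P) else 0 := by
    intro n _
    have hmem := ev_mem 𝒜 g hg (homogeneousComponent_isHomogeneous n P)
    change (decompose 𝒜 _ (k : ℤ) : R) = _
    split_ifs with h
    · subst h
      exact decompose_of_mem_same 𝒜 hmem
    · apply decompose_of_mem_ne 𝒜 hmem
      intro h'
      exact h (by exact_mod_cast h')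
  rw [Finset.sum_congr rfl h3, Finset.sum_ite_eq']
  split_ifs with hk
  · rfl
  · rw [Finset.mem_range, not_lt] at hk
    rw [homogeneousComponent_eq_zero _ _ (by omega), map_zero]

/-- surjectivity when the sequence generates the irrelevant ideal. -/
theorem ev_surjective (hpos : ∀ n : ℤ, n < 0 → 𝒜 n = ⊥) (hg : ∀ i, g i ∈ 𝒜 1)
    (hspan : Ideal.span (Set.range g) = (irrelevant 𝒜).toIdeal) :
    Function.Surjective (ev 𝒜 g) := by
  classical
  have hdeg : ∀ (n : ℕ) (x : R), x ∈ 𝒜 (n : ℤ) → x ∈ (ev 𝒜 g).range := by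
    intro n
    induction n with
    | zero =>
      intro x hx
      exact ⟨C ⟨x, hx⟩, ev_C 𝒜 g _⟩
    | succ n ih =>
      intro x hx
      have hxI : x ∈ Ideal.span (Set.range g) := by
        rw [hspan, irrelevant_toIdeal]
        refine Ideal.subset_span (Set.mem_biUnion (Set.mem_Ioi.mpr ?_) hx)
        positivity
      obtain ⟨c, hc⟩ := (Ideal.mem_span_range_iff_exists_fun).1 hxI
      have h1 : x = ∑ i, (decompose 𝒜 (c i) (n : ℤ) : R) * g i := by
        have h2 : x = compA (𝒜 := 𝒜) ((n : ℤ) + 1) x := by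
          change x = (decompose 𝒜 x ((n : ℤ) + 1) : R)
          rw [decompose_of_mem_same 𝒜 (by exact_mod_cast hx)]
        rw [h2, ← hc, map_sum]
        apply Finset.sum_congr rfl
        intro i _
        exact DirectSum.coe_decompose_mul_add_of_right_mem 𝒜 (hg i)
      rw [h1]
      apply Subalgebra.sum_mem
      intro i _
      apply Subalgebra.mul_mem
      · exact ih _ (SetLike.coe_mem _)
      · exact ⟨X i, ev_X 𝒜 g i⟩
  intro x
  have hx : x ∈ (ev 𝒜 g).range := by
    rw [← DirectSum.sum_support_decompose 𝒜 x]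
    apply Subalgebra.sum_mem
    intro j _
    by_cases hj : 0 ≤ j
    · obtain ⟨n, rfl⟩ := Int.eq_ofNat_of_zero_le hj
      exact hdeg n _ (SetLike.coe_mem _)
    · push Not at hj
      rw [eq_zero_of_neg_deg 𝒜 hpos hj (SetLike.coe_mem _)]
      exact Subalgebra.zero_mem _
  exact hx

/-- injectivity for a regular sequence generating the irrelevant ideal. -/
theorem ev_injective [IsNoetherianRing R] (hpos : ∀ n : ℤ, n < 0 → 𝒜 n = ⊥) (hg : ∀ i, g i ∈ 𝒜 1)
    (hspan : Ideal.span (Set.range g) = (irrelevant 𝒜).toIdeal)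
    (hreg : RingTheory.Sequence.IsWeaklyRegular R (List.ofFn g)) :
    Function.Injective (ev 𝒜 g) := by
  classical
  have hqr := Groth.Agent.Lib.Helper12.QR.isQuasiRegular_of_isWeaklyRegular d g hreg
  rw [injective_iff_map_eq_zero]
  intro P hP
  -- homogeneous case
  have hhom : ∀ (n : ℕ) (Q : MvPolynomial (Fin d) (GrLC.deg0 𝒜)), Q.IsHomogeneous n →
      ev 𝒜 g Q = 0 → Q = 0 := by
    intro n Q hQ hQ0
    have h1 : (MvPolynomial.map (algebraMap (GrLC.deg0 𝒜) R) Q).IsHomogeneous n := hQ.map _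
    have h2 : MvPolynomial.eval g (MvPolynomial.map (algebraMap (GrLC.deg0 𝒜) R) Q) = 0 := by
      rw [eval_map, ← hQ0]
      rfl
    have h3 := hqr n _ h1 (by rw [h2]; exact zero_mem _)
    apply MvPolynomial.ext
    intro e
    rw [coeff_zero]
    apply Subtype.ext
    have h4 := h3 e
    rw [coeff_map, hspan] at h4
    have h5 := decompose_zero_of_mem_irrelevant 𝒜 hpos h4
    have h6 : (algebraMap (GrLC.deg0 𝒜) R (coeff e Q)) ∈ 𝒜 0 := (coeff e Q).2
    rw [decompose_of_mem_same 𝒜 h6] at h5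
    exact h5
  rw [← sum_homogeneousComponent P]
  apply Finset.sum_eq_zero
  intro n _
  apply hhom n _ (homogeneousComponent_isHomogeneous n P)
  rw [← decompose_ev 𝒜 g hg P n, hP, decompose_zero]
  rfl

/-- the polynomial ring structure. -/
theorem exists_algEquiv [IsNoetherianRing R] (hpos : ∀ n : ℤ, n < 0 → 𝒜 n = ⊥) (hg : ∀ i, g i ∈ 𝒜 1)
    (hspan : Ideal.span (Set.range g) = (irrelevant 𝒜).toIdeal)
    (hreg : RingTheory.Sequence.IsWeaklyRegular R (List.ofFn g)) :
    ∃ e : MvPolynomial (Fin d) (GrLC.deg0 𝒜) ≃ₐ[GrLC.deg0 𝒜] R,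
      ∀ t : Fin d, e (MvPolynomial.X t) ∈ 𝒜 1 := by
  refine ⟨AlgEquiv.ofBijective (ev 𝒜 g)
    ⟨ev_injective 𝒜 g hpos hg hspan hreg, ev_surjective 𝒜 g hpos hg hspan⟩, fun t => ?_⟩
  rw [AlgEquiv.ofBijective_apply, ev_X]
  exact hg t

end Groth.Agent.Lib.Helper11.GrArt
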