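import Groth.Agent.Lib.Helper11.GrArtC
import Groth.Agent.Lib.Helper11.GrArtD
import Groth.Agent.Lib.Helper11.FiltRegB

/-!
# Standard graded Cohen–Macaulay rings over an Artinian local ring with `a(R) = -dim R` are
polynomial rings
-/

set_option autoImplicit false
set_option linter.unusedSectionVars false
set_option linter.unusedVariables false
set_option linter.style.haveILetI false
set_option maxHeartbeats 1000000
universe u

namespace Groth.Agent.Lib.Helper11.GrArt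

open DirectSum GrLC Groth.Agent.Lib.Helper11.GrLCLib Groth.Agent.Lib.Helper11.GrLes
  Groth.Agent.Lib.Helper11.GrField

theorem exists_mvPolynomial_algEquiv (R : Type u) [CommRing R]
    [LocCoh.IsCohenMacaulayRing R] (𝒜 : ℤ → AddSubgroup R) [GradedRing 𝒜]
    (hpos : ∀ n : ℤ, n < 0 → 𝒜 n = ⊥)
    (hstd : Ideal.span (⋃ n ∈ Set.Ioi (0 : ℤ), (𝒜 n : Set R)) =
      Ideal.span ((𝒜 1 : AddSubgroup R) : Set R))
    [IsArtinianRing (GrLC.deg0 𝒜)] (m : HomogeneousIdeal 𝒜) (hm : GrLC.IsStarLocal 𝒜 m)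
    (hinf : Infinite (R ⧸ m.toIdeal)) (d : ℕ) (hd : ringKrullDim R = d) (I : GrLC.StarInjRes 𝒜 𝒜)
    (ha : GrLC.endDeg (I.Hgr m d) = (((-(d : ℤ) : ℤ) : WithTop ℤ) : WithBot (WithTop ℤ))) :
    ∃ e : MvPolynomial (Fin d) (GrLC.deg0 𝒜) ≃ₐ[GrLC.deg0 𝒜] R,
      ∀ t : Fin d, e (MvPolynomial.X t) ∈ 𝒜 1 := by
  classical
  haveI := isLocalRing_deg0 𝒜 hpos hm
  have hinf' := infinite_residueField_deg0 𝒜 hpos hm hinf
  have hA1 : (irrelevant 𝒜).toIdeal =
      Ideal.span (((irrelevant 𝒜 : HomogeneousIdeal 𝒜) : Set R) ∩ (𝒜 1 : AddSubgroup R)) := by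
    apply le_antisymm
    · rw [irrelevant_toIdeal, hstd]
      apply Ideal.span_mono
      intro x hx
      refine ⟨?_, hx⟩
      change x ∈ (irrelevant 𝒜).toIdeal
      rw [irrelevant_toIdeal]
      exact Ideal.subset_span (Set.mem_biUnion (Set.mem_Ioi.mpr one_pos) hx)
    · rw [Ideal.span_le]
      intro x hx
      exact hx.1
  have hred : IdealRed.IsReduction (irrelevant 𝒜).toIdeal (irrelevant 𝒜).toIdeal :=
    ⟨le_rfl, 0, by rw [pow_zero, Ideal.one_eq_top, Ideal.mul_top, zero_add, pow_one]⟩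
  obtain ⟨t, f, -, hfA, hspan, hgood⟩ :=
    Groth.Agent.Lib.Helper11.FiltReg.exists_filterRegular_generators 𝒜 (irrelevant 𝒜) hinf'
      (irrelevant 𝒜) hA1 hred
  have hf1 : ∀ i, f i ∈ 𝒜 1 := fun i => (hfA i).2
  obtain ⟨g, hg1, hreg, hgspan⟩ := exists_regular_generators 𝒜 hpos hm d hd I ha f hf1 hspan hgood
  exact exists_algEquiv 𝒜 g hpos hg1 hgspan hreg

end Groth.Agent.Lib.Helper11.GrArt
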