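import Mathlib
import Groth.Prelude.Def_GrLC
import Groth.Prelude.Def_GrLC2
import Groth.Agent.Lib.Helper11.GrLCEss
import Groth.Agent.Lib.Helper11.GrLCSubQuot
import Groth.Agent.Lib.Helper11.GrCoreF

/-!
# Counting the summands `*E(R/p)` of a *injective hull: `μ^0(p, M)`
-/

set_option autoImplicit false
set_option linter.unusedSectionVars false
universe u

open CategoryTheory CategoryTheory.Abelian

namespace Groth.Agent.Lib.Helper11.GrBass

open DirectSum GrLC Groth.Agent.Lib.Helper11.GrLCLib Groth.Agent.Lib.Helper11.GrExt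
  Groth.Agent.Lib.Helper11.GrCore

section Rel

variable {ι : Type} [DecidableEq ι] [AddCommGroup ι]
variable {R : Type u} [CommRing R] (𝒜 : ι → AddSubgroup R) [GradedRing 𝒜]
variable {E : Type u} [AddCommGroup E] [Module R E] (𝓔 : ι → AddSubgroup E)
  [DirectSum.Decomposition 𝓔] [SetLike.GradedSMul 𝒜 𝓔]

include 𝒜 in
/-- Elementwise essentiality inside a homogeneous submodule `J`, from *essentiality inside `J`. -/
theorem exists_smul_mem_range_of_le {K : Type u} [AddCommGroup K] [Module R K]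
    (J : Submodule R E) (hJ : J.IsHomogeneous 𝓔) {f : K →ₗ[R] E}
    (hrange : (LinearMap.range f).IsHomogeneous 𝓔) (hfJ : LinearMap.range f ≤ J)
    (hess : ∀ Q : Submodule R E, Q.IsHomogeneous 𝓔 → Q ≤ J → Q ≠ ⊥ → Q ⊓ LinearMap.range f ≠ ⊥)
    {z : E} (hz : z ∈ J) (hz0 : z ≠ 0) : ∃ r : R, r • z ≠ 0 ∧ r • z ∈ LinearMap.range f := by
  classical
  let _ := subDecomposition 𝓔 J hJ
  let f' : K →ₗ[R] J := f.codRestrict J (fun k => hfJ ⟨k, rfl⟩)
  have hcoe : ∀ (x' : J) (g : ι), ((decompose (subGr 𝓔 J) x' g : J) : E) = decompose 𝓔 (x' : E) g := by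
    intro x' g
    exact (decompose_map (subGr 𝓔 J) 𝓔 (subtype_isGrHom 𝓔 J) x' g).symm
  have hrange' : (LinearMap.range f').IsHomogeneous (subGr 𝓔 J) := by
    rintro g _ ⟨k, rfl⟩
    obtain ⟨k', hk'⟩ := hrange g (⟨k, rfl⟩ : f k ∈ LinearMap.range f)
    refine ⟨k', Subtype.ext ?_⟩
    rw [hcoe]
    exact hk'
  have hess' : ∀ P' : Submodule R J, P'.IsHomogeneous (subGr 𝓔 J) → P' ≠ ⊥ →
      P' ⊓ LinearMap.range f' ≠ ⊥ := by
    intro P' hP' hP'0
    have hQh : (P'.map J.subtype).IsHomogeneous 𝓔 := by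
      rintro g _ ⟨x', hx', rfl⟩
      exact ⟨_, hP' g hx', hcoe x' g⟩
    have hQJ : P'.map J.subtype ≤ J := by
      rintro _ ⟨x', -, rfl⟩
      exact x'.2
    have hQ0 : P'.map J.subtype ≠ ⊥ := by
      obtain ⟨x', hx', hx'0⟩ := Submodule.exists_mem_ne_zero_of_ne_bot hP'0
      intro h
      have : (x' : E) ∈ P'.map J.subtype := ⟨x', hx', rfl⟩
      rw [h] at this
      exact hx'0 (Subtype.ext ((Submodule.mem_bot R).mp this))
    obtain ⟨y, ⟨⟨x', hx', rfl⟩, ⟨k, hk⟩⟩, hy0⟩ :=
      Submodule.exists_mem_ne_zero_of_ne_bot (hess _ hQh hQJ hQ0)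
    intro hbot
    have hmem : x' ∈ P' ⊓ LinearMap.range f' := ⟨hx', ⟨k, Subtype.ext hk⟩⟩
    rw [hbot] at hmem
    apply hy0
    rw [(Submodule.mem_bot R).mp hmem]
    rfl
  have hz0' : (⟨z, hz⟩ : J) ≠ 0 := fun h => hz0 (congrArg Subtype.val h)
  obtain ⟨h, r, -, hr0, ⟨k, hk⟩⟩ :=
    exists_smul_mem_range 𝒜 (subGr 𝓔 J) hrange' hess' _ ⟨z, hz⟩ rfl hz0'
  refine ⟨r, fun h0 => hr0 (Subtype.ext h0), ⟨k, ?_⟩⟩
  have := congrArg Subtype.val hk
  exact this

end Rel

section Crit

variable {R : Type u} [CommRing R] [IsNoetherianRing R]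
variable {Z : Type u} [AddCommGroup Z] [Module R Z]

/-- Module-level criterion for `μ^0(p, Z)`: a family of `p`-torsion elements, `R/p`-independent and
spanning the `p`-torsion up to denominators outside `p`. -/
theorem bassNum_zero_eq_card (p : Ideal R) [hp : p.IsPrime] {J' : Type u} (m : J' → Z)
    (hpm : ∀ a, ∀ c ∈ p, c • m a = 0)
    (hind : ∀ c : J' →₀ R, Finsupp.linearCombination R m c = 0 → ∀ a, c a ∈ p)
    (hspan : ∀ m₀ : Z, (∀ c ∈ p, c • m₀ = 0) → ∃ T, T ∉ p ∧ T • m₀ ∈ Submodule.span R (Set.range m)) :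
    GrLC.bassNum p Z 0 = ENat.card J' := by
  classical
  let φ : J' → ((R ⧸ p) →ₗ[R] Z) := fun a =>
    Submodule.liftQ p (LinearMap.toSpanSingleton R Z (m a)) (by
      intro c hc
      rw [LinearMap.mem_ker, LinearMap.toSpanSingleton_apply]
      exact hpm a c hc)
  have hφ : ∀ a (c : R), φ a (Ideal.Quotient.mk _ c) = c • m a := fun a c => rfl
  let ε : J' → Ext.{u} (ModuleCat.of R (R ⧸ p)) (ModuleCat.of R Z) 0 :=
    fun a => (hom0 (R ⧸ p) Z).symm (φ a)
  have hε : ∀ c : J' →₀ R, Finsupp.linearCombination R ε c =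
      (hom0 (R ⧸ p) Z).symm (Finsupp.linearCombination R φ c) := by
    intro c
    exact (Finsupp.apply_linearCombination R (hom0 (R ⧸ p) Z).symm.toLinearMap φ c).symm
  have hev : ∀ (c : J' →₀ R) (d : R), (Finsupp.linearCombination R φ c) (Ideal.Quotient.mk _ d) =
      d • Finsupp.linearCombination R m c := by
    intro c d
    rw [Finsupp.linearCombination_apply, Finsupp.linearCombination_apply, Finsupp.sum, Finsupp.sum,
      LinearMap.sum_apply, Finset.smul_sum]
    refine Finset.sum_congr rfl (fun a _ => ?_)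
    rw [LinearMap.smul_apply, hφ, smul_comm]
  refine bassNum_eq_card p 0 ε ?_ ?_
  · intro c hc a
    rw [hε] at hc
    have h1 : Finsupp.linearCombination R φ c = 0 := by
      have := congrArg (hom0 (R ⧸ p) Z) hc
      rwa [LinearEquiv.apply_symm_apply, map_zero] at this
    have h2 := hev c 1
    rw [h1, LinearMap.zero_apply, one_smul] at h2
    exact hind c h2.symm a
  · intro y
    obtain ⟨ψ, rfl⟩ := (hom0 (R ⧸ p) Z).symm.surjective y
    set m₀ := ψ (Ideal.Quotient.mk _ 1) with hm₀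
    have hψ : ∀ d : R, ψ (Ideal.Quotient.mk _ d) = d • m₀ := by
      intro d
      rw [hm₀, ← map_smul]
      congr 1
      rw [← Ideal.Quotient.mk_eq_mk, ← Ideal.Quotient.mk_eq_mk, ← Submodule.Quotient.mk_smul,
        smul_eq_mul, mul_one]
    have hpm₀ : ∀ c ∈ p, c • m₀ = 0 := by
      intro c hc
      rw [← hψ, Ideal.Quotient.eq_zero_iff_mem.2 hc, map_zero]
    obtain ⟨T, hT, hTm⟩ := hspan m₀ hpm₀
    refine ⟨T, hT, ?_⟩
    obtain ⟨d, hd⟩ := (Finsupp.mem_span_range_iff_exists_finsupp).1 hTm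
    have hψeq : T • ψ = Finsupp.linearCombination R φ d := by
      apply LinearMap.ext
      intro q
      obtain ⟨b, rfl⟩ := Ideal.Quotient.mk_surjective q
      rw [hev, LinearMap.smul_apply, hψ, Finsupp.linearCombination_apply, hd, smul_comm]
    rw [← map_smul, hψeq, ← hε]
    rw [Finsupp.linearCombination_apply]
    exact Submodule.finsuppSum_mem _ _ _ _ (fun a _ => Submodule.smul_mem _ _ (Submodule.subset_span ⟨a, rfl⟩))

end Crit

section Count

variable {ι : Type} [DecidableEq ι] [AddCommGroup ι]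
variable {R : Type u} [CommRing R] [IsNoetherianRing R] (𝒜 : ι → AddSubgroup R) [GradedRing 𝒜]
variable {Z : Type u} [AddCommGroup Z] [Module R Z]
variable {E : Type u} [AddCommGroup E] [Module R E] (𝓔 : ι → AddSubgroup E)
  [DirectSum.Decomposition 𝓔] [SetLike.GradedSMul 𝒜 𝓔]

theorem card_eq_bassNum_zero (e : Z →ₗ[R] E) (hinj : Function.Injective e)
    (hess : ∀ w : E, w ≠ 0 → ∃ r : R, r • w ≠ 0 ∧ r • w ∈ LinearMap.range e)
    (Λ : Type u) (P : Λ → HomogeneousIdeal 𝒜) (hP : ∀ α, (P α).toIdeal.IsPrime) (g : Λ → ι)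
    (J : Λ → Submodule R E) (hJ : ∀ α, (J α).IsHomogeneous 𝓔) (hind : iSupIndep J)
    (htop : iSup J = ⊤) (f : ∀ α, (R ⧸ (P α).toIdeal) →ₗ[R] E)
    (hf : ∀ α, Function.Injective (f α) ∧ GrLC.IsGrHomDeg (GrLC.quotGr 𝒜 (P α)) 𝓔 (f α) (g α) ∧
      LinearMap.range (f α) ≤ J α ∧ ∀ Q : Submodule R E, Q.IsHomogeneous 𝓔 → Q ≤ J α → Q ≠ ⊥ →
        Q ⊓ LinearMap.range (f α) ≠ ⊥)
    (p : HomogeneousIdeal 𝒜) [hp : p.toIdeal.IsPrime] :
    Cardinal.toENat (Cardinal.mk {α : Λ // P α = p}) = GrLC.bassNum p.toIdeal Z 0 := by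
  classical
  -- the generators
  set x : Λ → E := fun α => f α (Ideal.Quotient.mk _ 1) with hx
  have hfx : ∀ α (c : R), f α (Ideal.Quotient.mk _ c) = c • x α := by
    intro α c
    rw [hx]
    simp only
    rw [← map_smul]
    congr 1
    rw [← Ideal.Quotient.mk_eq_mk, ← Ideal.Quotient.mk_eq_mk, ← Submodule.Quotient.mk_smul,
      smul_eq_mul, mul_one]
  have hxdeg : ∀ α, x α ∈ 𝓔 (g α) := by
    intro α
    have h1 : (Ideal.Quotient.mk (P α).toIdeal 1) ∈ GrLC.quotGr 𝒜 (P α) 0 :=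
      ⟨1, (SetLike.GradedOne.one_mem : (1 : R) ∈ 𝒜 0), rfl⟩
    have := (hf α).2.1 0 _ h1
    rwa [zero_add] at this
  have hann : ∀ α (c : R), c • x α = 0 ↔ c ∈ (P α).toIdeal := by
    intro α c
    rw [← hfx, ← map_zero (f α), (hf α).1.eq_iff, Ideal.Quotient.eq_zero_iff_mem]
  have hrange : ∀ α, LinearMap.range (f α) =
      LinearMap.range (LinearMap.toSpanSingleton R E (x α)) := by
    intro α
    ext y
    constructor
    · rintro ⟨q, rfl⟩
      obtain ⟨c, rfl⟩ := Ideal.Quotient.mk_surjective q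
      exact ⟨c, by rw [hfx, LinearMap.toSpanSingleton_apply]⟩
    · rintro ⟨c, rfl⟩
      exact ⟨Ideal.Quotient.mk _ c, by rw [hfx, LinearMap.toSpanSingleton_apply]⟩
  have hrangeh : ∀ α, (LinearMap.range (f α)).IsHomogeneous 𝓔 := by
    intro α
    rw [hrange]
    exact range_isHomogeneous_deg 𝒜 𝓔 (isGrHomDeg_toSpanSingleton 𝓔 𝒜 (hxdeg α))
  -- elementwise essentiality inside `J α`
  have hessJ : ∀ α (z : E), z ∈ J α → z ≠ 0 → ∃ s c : R, s • z ≠ 0 ∧ s • z = c • x α := by
    intro α z hz hz0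
    obtain ⟨s, hs0, ⟨q, hq⟩⟩ := exists_smul_mem_range_of_le 𝒜 𝓔 (J α) (hJ α) (hrangeh α)
      (hf α).2.2.1 (hf α).2.2.2 hz hz0
    obtain ⟨c, rfl⟩ := Ideal.Quotient.mk_surjective q
    exact ⟨s, c, hs0, by rw [← hq, hfx]⟩
  have hx0 : ∀ α, x α ≠ 0 := by
    intro α h
    have := (hann α 1).1 (by rw [h, smul_zero])
    exact (hP α).ne_top ((Ideal.eq_top_iff_one _).2 this)
  have hxJ : ∀ α, x α ∈ J α := fun α => (hf α).2.2.1 ⟨_, rfl⟩
  -- preimages in `Z`
  have hrm : ∀ α, ∃ (r : R) (m : Z), r • x α ≠ 0 ∧ e m = r • x α := by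
    intro α
    obtain ⟨r, hr0, ⟨m, hm⟩⟩ := hess (x α) (hx0 α)
    exact ⟨r, m, hr0, hm⟩
  choose r m hr0 hm using hrm
  have hrP : ∀ α, r α ∉ (P α).toIdeal := fun α h => hr0 α ((hann α _).2 h)
  -- projections
  have hInt : DirectSum.IsInternal J :=
    (DirectSum.isInternal_submodule_iff_iSupIndep_and_iSup_eq_top J).2 ⟨hind, htop⟩
  let decJ : DirectSum.Decomposition J := hInt.chooseDecomposition
  let π : Λ → E →ₗ[R] E := fun α => (J α).subtype ∘ₗ
    (DirectSum.component R Λ (fun α => J α) α) ∘ₗ (DirectSum.decomposeLinearEquiv J).toLinearMap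
  have hπ : ∀ α z, π α z = (decompose J z α : E) := fun α z => rfl
  have hπmem : ∀ α z, π α z ∈ J α := fun α z => (decompose J z α).2
  have hπsame : ∀ α z, z ∈ J α → π α z = z := fun α z hz => by
    rw [hπ]; exact decompose_of_mem_same J hz
  have hπne : ∀ α β z, z ∈ J β → β ≠ α → π α z = 0 := fun α β z hz hne => by
    rw [hπ]; exact decompose_of_mem_ne J hz hne
  have hπsum : ∀ z, z = ∑ α ∈ (decompose J z).support, π α z :=
    fun z => (DirectSum.sum_support_decompose J z).symm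
  -- the family
  set J' := {α : Λ // P α = p} with hJ'
  have hPJ : ∀ a : J', (P a.1).toIdeal = p.toIdeal := fun a => by rw [a.2]
  rw [show Cardinal.toENat (Cardinal.mk J') = ENat.card J' from rfl]
  symm
  refine bassNum_zero_eq_card p.toIdeal (fun a : J' => m a.1) ?_ ?_ ?_
  · intro a c hc
    apply hinj
    rw [map_smul, hm, map_zero, smul_smul, hann, hPJ a]
    exact Ideal.mul_mem_right _ _ hc
  · intro c hc a
    have h1 := congrArg e hc
    rw [map_zero, Finsupp.linearCombination_apply, map_finsuppSum] at h1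
    have h2 := congrArg (π a.1) h1
    rw [map_zero, Finsupp.sum, map_sum] at h2
    rw [Finset.sum_eq_single a] at h2
    · rw [map_smul, hm, smul_smul, hπsame _ _ (Submodule.smul_mem _ _ (hxJ _)), hann, hPJ a] at h2
      exact (hp.mem_or_mem h2).resolve_right (hPJ a ▸ hrP a.1)
    · intro b _ hba
      rw [map_smul, hm]
      exact hπne _ b.1 _ (Submodule.smul_mem _ _ (Submodule.smul_mem _ _ (hxJ _)))
        (fun h => hba (Subtype.ext h))
    · intro ha
      rw [Finsupp.notMem_support_iff.1 ha, zero_smul, map_zero, map_zero]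
  · intro m₀ hpm₀
    set N : Submodule R Z := Submodule.span R (Set.range (fun a : J' => m a.1)) with hN
    set z := e m₀ with hz
    -- local claim
    have hloc : ∀ α, ∃ t, t ∉ p.toIdeal ∧ t • π α z ∈ N.map e := by
      intro α
      have hpz : ∀ c ∈ p.toIdeal, c • π α z = 0 := by
        intro c hc
        rw [← map_smul, hz, ← map_smul, hpm₀ c hc, map_zero, map_zero]
      by_cases hz0 : π α z = 0
      · exact ⟨1, hp.one_notMem, by rw [hz0, smul_zero]; exact zero_mem _⟩
      obtain ⟨s, c, hs0, hsc⟩ := hessJ α _ (hπmem α z) hz0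
      have hsp : s ∉ p.toIdeal := fun h => hs0 (hpz s h)
      have hcP : c ∉ (P α).toIdeal := fun h => hs0 (by rw [hsc]; exact (hann α c).2 h)
      by_cases hPα : P α = p
      · refine ⟨r α * s, fun h => (hp.mem_or_mem h).elim (fun h' => hrP α ?_) hsp, ?_⟩
        · rw [hPα]; exact h'
        · rw [mul_smul, hsc, smul_comm, ← hm, ← map_smul]
          exact ⟨_, Submodule.smul_mem _ _ (Submodule.subset_span ⟨⟨α, hPα⟩, rfl⟩), rfl⟩
      · by_contra hcon
        push Not at hcon
        apply hPα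
        apply HomogeneousIdeal.toIdeal_injective
        have hannz : ∀ t, t • π α z = 0 → t ∈ p.toIdeal := by
          intro t ht
          by_contra htp
          exact hcon t htp (by rw [ht]; exact zero_mem _)
        ext a
        constructor
        · intro ha
          have h1 : (a * s) • π α z = 0 := by
            rw [mul_smul, hsc, smul_smul, hann]
            exact Ideal.mul_mem_right _ _ ha
          exact (hp.mem_or_mem (hannz _ h1)).resolve_right hsp
        · intro ha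
          have h1 : (a * c) • x α = 0 := by
            rw [mul_smul, ← hsc, smul_comm, hpz a ha, smul_zero]
          exact ((hP α).mem_or_mem ((hann α _).1 h1)).resolve_right hcP
    choose t htp htN using hloc
    set F := (decompose J z).support with hF
    refine ⟨∏ α ∈ F, t α, ?_, ?_⟩
    · intro h
      obtain ⟨α, -, hα⟩ := (hp.prod_mem_iff).1 h
      exact htp α hα
    · have h1 : (∏ α ∈ F, t α) • z ∈ N.map e := by
        have hzsum : (∏ α ∈ F, t α) • z = ∑ α ∈ F, (∏ α ∈ F, t α) • π α z := by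
          rw [← Finset.smul_sum]
          congr 1
          exact hπsum z
        rw [hzsum]
        refine Submodule.sum_mem _ (fun α hα => ?_)
        rw [← Finset.mul_prod_erase F t hα, mul_comm, mul_smul]
        exact Submodule.smul_mem _ _ (htN α)
      obtain ⟨n, hn, hne⟩ := h1
      rw [hz, ← map_smul] at hne
      rw [← hinj hne]
      exact hn

end Count

end Groth.Agent.Lib.Helper11.GrBass
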