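import Groth.Agent.Lib.Helper11.GrVanB

set_option autoImplicit false
set_option linter.unusedSectionVars false
set_option linter.style.haveILetI false
universe u

namespace Groth.Agent.Lib.Helper11.GrCan

open DirectSum GrLC Groth.Agent.Lib.Helper11.GrLCLib Groth.Agent.Lib.Helper11.GrGor

section Hull

variable {R : Type u} [CommRing R] [IsNoetherianRing R] (𝒜 : ℤ → AddSubgroup R) [GradedRing 𝒜]
variable {E' : Type u} [AddCommGroup E'] [Module R E'] (𝓔 : ℤ → AddSubgroup E')
  [DirectSum.Decomposition 𝓔] [SetLike.GradedSMul 𝒜 𝓔]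
variable {m : HomogeneousIdeal 𝒜} {e : (R ⧸ m.toIdeal) →ₗ[R] E'}

/-- the hull of `R/m` is an (ungraded) essential extension. -/
theorem isEssentialInj_hull (he : IsStarInjHull 𝒜 (quotGr 𝒜 m) 𝓔 e) : InjHull.IsEssentialInj e := by
  have heq := quotGr_eq_quotGrM 𝒜 m
  letI := quotDecomposition 𝒜 (m.toIdeal : Submodule R R) m.isHomogeneous
  have he' := he
  rw [heq] at he'
  exact isEssentialInj_of_isStarEss 𝒜 (quotGrM 𝒜 (m.toIdeal : Submodule R R)) 𝓔 he'.toIsStarEss

/-- the hull of `R/m` is `m`-torsion. -/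
theorem gam_hull_eq_top (he : IsStarInjHull 𝒜 (quotGr 𝒜 m) 𝓔 e) : gam m.toIdeal E' = ⊤ := by
  apply gam_eq_top_of_essential m.toIdeal (isEssentialInj_hull 𝒜 𝓔 he)
  rw [eq_top_iff]
  intro x _
  refine ⟨1, fun r hr => ?_⟩
  rw [pow_one] at hr
  obtain ⟨y, rfl⟩ := Ideal.Quotient.mk_surjective x
  rw [← Ideal.Quotient.mk_eq_mk, ← Submodule.Quotient.mk_smul, smul_eq_mul]
  exact (Submodule.Quotient.mk_eq_zero _).2 (Ideal.mul_mem_right _ _ hr)

/-- the socle of the hull of `R/m` is the image of `R/m` (for `m` maximal). -/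
theorem mem_range_of_socle (he : IsStarInjHull 𝒜 (quotGr 𝒜 m) 𝓔 e) [hmax : m.toIdeal.IsMaximal]
    {z : E'} (hz : ∀ a ∈ m.toIdeal, a • z = 0) : z ∈ LinearMap.range e := by
  by_cases hz0 : z = 0
  · rw [hz0]; exact zero_mem _
  have hess := (isEssentialInj_hull 𝒜 𝓔 he).essential (Submodule.span R {z}) (by
    intro h
    apply hz0
    have : z ∈ Submodule.span R {z} := Submodule.subset_span rfl
    rw [h] at this
    exact (Submodule.mem_bot R).1 this)
  obtain ⟨w, ⟨hw1, hw2⟩, hw0⟩ := Submodule.exists_mem_ne_zero_of_ne_bot hess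
  obtain ⟨r, rfl⟩ := Submodule.mem_span_singleton.1 hw1
  have hrm : r ∉ m.toIdeal := fun h => hw0 (hz r h)
  obtain ⟨s, a, ha, hsa⟩ := hmax.exists_inv hrm
  have : z = s • (r • z) := by
    have h1 : (s * r + a) • z = z := by rw [hsa, one_smul]
    rw [add_smul, hz a ha, add_zero, mul_smul] at h1
    exact h1.symm
  rw [this]
  exact Submodule.smul_mem _ _ hw2

variable {N : Type u} [AddCommGroup N] [Module R N] (𝒩 : ℤ → AddSubgroup N)
  [DirectSum.Decomposition 𝒩] [SetLike.GradedSMul 𝒜 𝒩]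

/-- (F1) Every nonzero homogeneous element of a graded module over a *local ring is detected by a
homogeneous map into the *injective hull of `R/m`. -/
theorem exists_hom_apply_eq (hloc : IsStarLocal 𝒜 m) (he : IsStarInjHull 𝒜 (quotGr 𝒜 m) 𝓔 e)
    {j : ℤ} {y : N} (hy : y ∈ 𝒩 j) (hy0 : y ≠ 0) :
    ∃ v : N →ₗ[R] E', IsGrHomDeg 𝒩 𝓔 v (-j) ∧ v y = e 1 := by
  letI := shiftDecomposition 𝒜 (-j)
  let u₀ : R →ₗ[R] N := LinearMap.toSpanSingleton R N y
  let v₀ : R →ₗ[R] E' := e ∘ₗ (Submodule.mkQ (m.toIdeal : Submodule R R))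
  have hu₀ : IsGrHom (shiftGr 𝒜 (-j)) 𝒩 u₀ := by
    intro h r hr
    have hr' : r ∈ 𝒜 (h + -j) := hr
    have := isGrHomDeg_toSpanSingleton 𝒩 𝒜 hy (h + -j) r hr'
    have e1 : h + -j + j = h := by abel
    rwa [e1] at this
  have hv₀ : IsGrHomDeg (shiftGr 𝒜 (-j)) 𝓔 v₀ (-j) := by
    intro h r hr
    have hr' : r ∈ 𝒜 (h + -j) := hr
    exact he.grHom (h + -j) _ ⟨r, hr', rfl⟩
  have hker : LinearMap.ker u₀ ≤ LinearMap.ker v₀ := by
    have hJh : (LinearMap.ker u₀).IsHomogeneous 𝒜 :=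
      ker_isHomogeneous_deg 𝒜 𝒩 (isGrHomDeg_toSpanSingleton 𝒩 𝒜 hy)
    have hJne : LinearMap.ker u₀ ≠ ⊤ := by
      intro h
      apply hy0
      have : (1 : R) ∈ LinearMap.ker u₀ := by rw [h]; exact Submodule.mem_top
      rw [LinearMap.mem_ker, LinearMap.toSpanSingleton_apply, one_smul] at this
      exact this
    have hJm : LinearMap.ker u₀ ≤ m.toIdeal :=
      Groth.Agent.Lib.Helper11.GrLes.le_of_isHomogeneous_ne_top 𝒜 hloc (LinearMap.ker u₀) hJh hJne
    intro r hr
    rw [LinearMap.mem_ker, LinearMap.comp_apply]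
    have : Submodule.mkQ (m.toIdeal : Submodule R R) r = 0 :=
      (Submodule.Quotient.mk_eq_zero _).2 (hJm hr)
    rw [this, map_zero]
  obtain ⟨w, hw, hwu⟩ := exists_extension_deg 𝒜 (shiftGr 𝒜 (-j)) 𝒩 𝓔 he.starInj u₀ hu₀ (-j) v₀
    hv₀ hker
  refine ⟨w, hw, ?_⟩
  have h1 := LinearMap.congr_fun hwu 1
  rw [LinearMap.comp_apply, LinearMap.toSpanSingleton_apply, one_smul] at h1
  rw [h1]
  rfl

variable {C : Type u} [AddCommGroup C] [Module R C] (𝒞 : ℤ → AddSubgroup C)
  [DirectSum.Decomposition 𝒞] [SetLike.GradedSMul 𝒜 𝒞]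

/-- (F2)+(F3) A graded module whose Matlis dual is isomorphic to the hull of `R/m` is free of rank
one on a homogeneous generator. -/
theorem exists_generator (hloc : IsStarLocal 𝒜 m) [hmax : m.toIdeal.IsMaximal]
    (he : IsStarInjHull 𝒜 (quotGr 𝒜 m) 𝓔 e) (θ : (C →ₗ[R] E') ≃ₗ[R] E') :
    ∃ (s : ℤ) (c' : C), c' ∈ 𝒞 s ∧ Function.Bijective (LinearMap.toSpanSingleton R C c') := by
  classical
  have h1ne : (1 : R ⧸ m.toIdeal) ≠ 0 := by
    intro h
    have : (Ideal.Quotient.mk m.toIdeal 1) = 0 := h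
    rw [Ideal.Quotient.eq_zero_iff_mem] at this
    exact hmax.ne_top ((Ideal.eq_top_iff_one _).2 this)
  have he1 : e 1 ≠ 0 := fun h => h1ne (he.injective (by rw [h, map_zero]))
  have hme1 : ∀ a ∈ m.toIdeal, a • e 1 = 0 := by
    intro a ha
    rw [← map_smul]
    have : a • (1 : R ⧸ m.toIdeal) = 0 := by
      change a • (Ideal.Quotient.mk m.toIdeal 1) = 0
      rw [← Ideal.Quotient.mk_eq_mk, ← Submodule.Quotient.mk_smul, smul_eq_mul, mul_one]
      exact (Submodule.Quotient.mk_eq_zero _).2 ha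
    rw [this, map_zero]
  set u := θ.symm (e 1) with hu
  have hθu : θ u = e 1 := θ.apply_symm_apply _
  have hu0 : u ≠ 0 := by
    intro h
    apply he1
    rw [← hθu, h, map_zero]
  have hmu : ∀ a ∈ m.toIdeal, a • u = 0 := by
    intro a ha
    rw [hu, ← map_smul, hme1 a ha, map_zero]
  -- a socle element of `E'` is killed only by `m`
  have hsoc : ∀ t : E', t ≠ 0 → (∀ a ∈ m.toIdeal, a • t = 0) → ∀ x : R, x • t = 0 →
      x ∈ m.toIdeal := by
    intro t ht0 hmt x hxt
    by_contra hxm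
    obtain ⟨s, a, ha, hsa⟩ := hmax.exists_inv hxm
    apply ht0
    have h1 : (s * x + a) • t = t := by rw [hsa, one_smul]
    rw [add_smul, hmt a ha, add_zero, mul_smul, hxt, smul_zero] at h1
    exact h1.symm
  -- a homogeneous element on which `u` does not vanish
  obtain ⟨c₀, hc₀⟩ : ∃ c₀, u c₀ ≠ 0 := by
    by_contra h
    push Not at h
    exact hu0 (LinearMap.ext h)
  obtain ⟨s, hs⟩ : ∃ s, u (decompose 𝒞 c₀ s : C) ≠ 0 := by
    by_contra h
    push Not at h
    apply hc₀
    rw [← DirectSum.sum_support_decompose 𝒞 c₀, map_sum]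
    exact Finset.sum_eq_zero fun i _ => h i
  set c' := (decompose 𝒞 c₀ s : C) with hc'
  have hc's : c' ∈ 𝒞 s := SetLike.coe_mem _
  have hmuc' : ∀ a ∈ m.toIdeal, a • u c' = 0 := by
    intro a ha
    rw [← LinearMap.smul_apply, hmu a ha, LinearMap.zero_apply]
  -- surjectivity
  have hsurj : LinearMap.range (LinearMap.toSpanSingleton R C c') = ⊤ := by
    by_contra hne
    set P := LinearMap.range (LinearMap.toSpanSingleton R C c') with hP
    have hPh : P.IsHomogeneous 𝒞 :=
      range_isHomogeneous_deg 𝒜 𝒞 (isGrHomDeg_toSpanSingleton 𝒞 𝒜 hc's)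
    letI := quotDecomposition 𝒞 P hPh
    obtain ⟨c, hcP⟩ : ∃ c, c ∉ P := by
      by_contra h
      push Not at h
      exact hne (eq_top_iff.2 fun c _ => h c)
    obtain ⟨j, hj⟩ : ∃ j, (decompose 𝒞 c j : C) ∉ P := by
      by_contra h
      push Not at h
      apply hcP
      rw [← DirectSum.sum_support_decompose 𝒞 c]
      exact Submodule.sum_mem _ fun i _ => h i
    have hy0 : P.mkQ (decompose 𝒞 c j : C) ≠ 0 := by
      intro h
      exact hj ((Submodule.Quotient.mk_eq_zero P).1 h)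
    have hyj : P.mkQ (decompose 𝒞 c j : C) ∈ quotGrM 𝒞 P j :=
      ⟨_, SetLike.coe_mem _, rfl⟩
    obtain ⟨vbar, -, hvbar⟩ := exists_hom_apply_eq 𝒜 𝓔 (quotGrM 𝒞 P) hloc he hyj hy0
    set v : C →ₗ[R] E' := vbar ∘ₗ P.mkQ with hv
    have hvc' : v c' = 0 := by
      rw [hv, LinearMap.comp_apply]
      have : P.mkQ c' = 0 := (Submodule.Quotient.mk_eq_zero P).2 ⟨1, by
        rw [LinearMap.toSpanSingleton_apply, one_smul]⟩
      rw [this, map_zero]
    have hv0 : v ≠ 0 := by
      intro h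
      apply he1
      rw [← hvbar]
      have := LinearMap.congr_fun h (decompose 𝒞 c j : C)
      rw [hv, LinearMap.comp_apply, LinearMap.zero_apply] at this
      exact this
    have hθv0 : θ v ≠ 0 := fun h => hv0 (θ.map_eq_zero_iff.1 h)
    -- torsion
    have htors : ∃ k : ℕ, ∀ a ∈ m.toIdeal ^ k, a • θ v = 0 := by
      have : θ v ∈ gam m.toIdeal E' := by rw [gam_hull_eq_top 𝒜 𝓔 he]; exact Submodule.mem_top
      exact this
    have hk0 : Nat.find htors ≠ 0 := by
      intro h0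
      have := Nat.find_spec htors
      rw [h0, pow_zero] at this
      apply hθv0
      have h1 := this 1 (by rw [Ideal.one_eq_top]; exact Submodule.mem_top)
      rwa [one_smul] at h1
    obtain ⟨k', hk'⟩ := Nat.exists_eq_succ_of_ne_zero hk0
    have hmin : ¬ ∀ a ∈ m.toIdeal ^ k', a • θ v = 0 := by
      intro h
      have := Nat.find_min' htors h
      omega
    push Not at hmin
    obtain ⟨r, hr, hrz⟩ := hmin
    have hzsoc : ∀ a ∈ m.toIdeal, a • (r • θ v) = 0 := by
      intro a ha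
      rw [smul_smul]
      have hspec := Nat.find_spec htors
      rw [hk'] at hspec
      apply hspec
      rw [Nat.succ_eq_add_one, pow_succ']
      exact Ideal.mul_mem_mul ha hr
    obtain ⟨xbar, hxbar⟩ := mem_range_of_socle 𝒜 𝓔 he hzsoc
    obtain ⟨x, rfl⟩ := Ideal.Quotient.mk_surjective xbar
    have hxe : e (Ideal.Quotient.mk m.toIdeal x) = x • e 1 := by
      rw [← map_smul]
      congr 1
      change Ideal.Quotient.mk m.toIdeal x = x • (Ideal.Quotient.mk m.toIdeal 1)
      rw [← Ideal.Quotient.mk_eq_mk, ← Ideal.Quotient.mk_eq_mk, ← Submodule.Quotient.mk_smul,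
        smul_eq_mul, mul_one]
    have heq : r • v = x • u := by
      apply θ.injective
      rw [map_smul, map_smul, hθu, ← hxe, hxbar]
    have hxm : x ∈ m.toIdeal := by
      apply hsoc (u c') hs hmuc'
      rw [← LinearMap.smul_apply, ← heq, LinearMap.smul_apply, hvc', smul_zero]
    apply hrz
    rw [← map_smul, heq, hmu x hxm, map_zero]
  -- injectivity
  have hinj : LinearMap.ker (LinearMap.toSpanSingleton R C c') = ⊥ := by
    rw [eq_bot_iff]
    intro r hr
    rw [LinearMap.mem_ker, LinearMap.toSpanSingleton_apply] at hr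
    rw [Submodule.mem_bot]
    by_contra hr0
    have hrC : ∀ c : C, r • c = 0 := by
      intro c
      have : c ∈ LinearMap.range (LinearMap.toSpanSingleton R C c') := by
        rw [hsurj]; exact Submodule.mem_top
      obtain ⟨x, rfl⟩ := this
      rw [LinearMap.toSpanSingleton_apply, smul_comm, hr, smul_zero]
    have hrE : ∀ z : E', r • z = 0 := by
      intro z
      obtain ⟨v, rfl⟩ := θ.surjective z
      rw [← map_smul]
      have : r • v = 0 := by
        apply LinearMap.ext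
        intro c
        rw [LinearMap.smul_apply, ← map_smul, hrC, map_zero, LinearMap.zero_apply]
      rw [this, map_zero]
    obtain ⟨h, hh⟩ : ∃ h, (decompose 𝒜 r h : R) ≠ 0 := by
      by_contra hall
      push Not at hall
      apply hr0
      rw [← DirectSum.sum_support_decompose 𝒜 r]
      exact Finset.sum_eq_zero fun i _ => hall i
    obtain ⟨v, hvdeg, hv⟩ := exists_hom_apply_eq 𝒜 𝓔 𝒜 hloc he (SetLike.coe_mem (decompose 𝒜 r h)) hh
    have hz : v 1 ∈ 𝓔 (0 + -h) := hvdeg 0 1 SetLike.GradedOne.one_mem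
    have h2 := decompose_map_deg 𝒜 𝓔 (isGrHomDeg_toSpanSingleton 𝓔 𝒜 hz) r h
    rw [LinearMap.toSpanSingleton_apply, hrE, decompose_zero, DirectSum.zero_apply,
      ZeroMemClass.coe_zero, LinearMap.toSpanSingleton_apply, ← map_smul, smul_eq_mul, mul_one,
      hv] at h2
    exact he1 h2.symm
  exact ⟨s, c', hc's, LinearMap.ker_eq_bot.1 hinj, LinearMap.range_eq_top.1 hsurj⟩

end Hull

end Groth.Agent.Lib.Helper11.GrCan
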