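import Groth.Agent.Lib.Helper11.GrCanA

set_option autoImplicit false
set_option linter.unusedSectionVars false
set_option linter.style.haveILetI false
universe u

namespace Groth.Agent.Lib.Helper11.GrCan

open DirectSum GrLC Groth.Agent.Lib.Helper11.GrLCLib Groth.Agent.Lib.Helper11.GrGor

section Symm

variable {ι : Type} [DecidableEq ι] [AddCommGroup ι]
variable {R : Type u} [CommRing R]
variable {M : Type u} [AddCommGroup M] [Module R M] {ℳ : ι → AddSubgroup M}
  [DirectSum.Decomposition ℳ]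
variable {N : Type u} [AddCommGroup N] [Module R N] {𝒩 : ι → AddSubgroup N}
  [DirectSum.Decomposition 𝒩]

/-- the inverse of a bijective homogeneous map of degree `δ` is homogeneous of degree `-δ`. -/
lemma isGrHomDeg_symm (e : M ≃ₗ[R] N) {δ : ι} (he : IsGrHomDeg ℳ 𝒩 e.toLinearMap δ) :
    IsGrHomDeg 𝒩 ℳ e.symm.toLinearMap (-δ) := by
  intro g y hy
  have h1 := decompose_map_deg ℳ 𝒩 he (e.symm y) (g + -δ)
  have h2 : e.toLinearMap (e.symm y) = y := e.apply_symm_apply y
  have hy' : y ∈ 𝒩 (g + -δ + δ) := by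
    have e1 : g + -δ + δ = g := by abel
    rw [e1]; exact hy
  rw [h2, decompose_of_mem_same 𝒩 hy'] at h1
  have h3 : e.symm y = (decompose ℳ (e.symm y) (g + -δ) : M) := by
    apply e.injective
    rw [e.apply_symm_apply]
    exact h1
  change e.symm y ∈ ℳ (g + -δ)
  rw [h3]
  exact SetLike.coe_mem _

end Symm

section Eval

variable {R : Type u} [CommRing R]
variable {C E' : Type u} [AddCommGroup C] [Module R C] [AddCommGroup E'] [Module R E']

/-- evaluation at the generator of a free module of rank one. -/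
noncomputable def evalEquiv (fe : R ≃ₗ[R] C) : (C →ₗ[R] E') ≃ₗ[R] E' where
  toFun v := v (fe 1)
  map_add' v w := rfl
  map_smul' r v := rfl
  invFun z := (LinearMap.toSpanSingleton R E' z) ∘ₗ fe.symm.toLinearMap
  left_inv v := by
    apply LinearMap.ext
    intro c
    change (fe.symm c) • v (fe 1) = v c
    rw [← map_smul, ← map_smul, smul_eq_mul, mul_one, fe.apply_symm_apply]
  right_inv z := by
    change (fe.symm (fe 1)) • z = z
    rw [fe.symm_apply_apply, one_smul]

lemma evalEquiv_symm_apply (fe : R ≃ₗ[R] C) (z : E') (c : C) :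
    (evalEquiv (E' := E') fe).symm z c = (fe.symm c) • z := rfl

end Eval

section Main

variable {R : Type u} [CommRing R] [LocCoh.IsCohenMacaulayRing R] (𝒜 : ℤ → AddSubgroup R)
  [GradedRing 𝒜]
variable {E' : Type u} [AddCommGroup E'] [Module R E'] (𝓔 : ℤ → AddSubgroup E')
  [DirectSum.Decomposition 𝓔] [SetLike.GradedSMul 𝒜 𝓔]
variable {C : Type u} [AddCommGroup C] [Module R C] (𝒞 : ℤ → AddSubgroup C)
  [DirectSum.Decomposition 𝒞] [SetLike.GradedSMul 𝒜 𝒞]

/-- If the *canonical module of a Cohen–Macaulay *local ring is free of rank one (on a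
homogeneous generator), the ring is Gorenstein. -/
theorem isGorensteinRing_of_canonical_free (m : HomogeneousIdeal 𝒜) (hm : IsStarLocal 𝒜 m) (n : ℕ)
    (hn : m.toIdeal.height = n) (I : StarInjRes 𝒜 𝒜) (h𝓔 : IsStarInj 𝒜 𝓔)
    (hC : IsStarCanonical 𝒜 𝒞 𝓔 m n I) (a : ℤ) (f : R →ₗ[R] C) (hf : Function.Bijective f)
    (hfa : IsGrHomDeg 𝒜 𝒞 f a) : LocCoh.IsGorensteinRing R := by
  obtain ⟨-, φ, hφ⟩ := hC
  let fe : R ≃ₗ[R] C := LinearEquiv.ofBijective f hf
  have hfe : IsGrHomDeg 𝒜 𝒞 fe.toLinearMap a := hfa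
  have hfes := isGrHomDeg_symm fe hfe
  let χ : E' ≃ₗ[R] I.H m n := (evalEquiv (E' := E') fe).symm ≪≫ₗ φ
  have hχ : IsGrHomDeg 𝓔 (I.Hgr m n) χ.toLinearMap (-a) := by
    intro j z hz
    apply hφ (j + -a)
    change IsGrHomDeg 𝒞 𝓔 ((evalEquiv (E' := E') fe).symm z) (j + -a)
    intro h c hc
    rw [evalEquiv_symm_apply]
    have h1 : fe.symm c ∈ 𝒜 (h + -a) := hfes h c hc
    have h2 := isGrHomDeg_lsmul 𝓔 𝒜 h1 j z hz
    have e1 : j + (h + -a) = h + (j + -a) := by abel
    rw [e1] at h2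
    exact h2
  letI : DirectSum.Decomposition (I.Hgr m n) := (Hgr_isInternal 𝒜 𝒜 I m n).chooseDecomposition
  have hχs := isGrHomDeg_symm χ hχ
  rw [neg_neg] at hχs
  letI := shiftDecomposition 𝓔 a
  refine Groth.Agent.Lib.Helper11.GrVan.isGorensteinRing_of_top_starInj 𝒜 m hm n hn I
    (shiftGMod 𝒜 𝓔 a) χ.symm (isStarInj_shift 𝒜 𝓔 h𝓔 a) ?_
  intro j z hz
  exact hχs j z hz

end Main

end Groth.Agent.Lib.Helper11.GrCan
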