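import Groth.Agent.Lib.Helper11.GrDualE

/-!
# Graded Matlis duality: duals of Artinian modules are finitely generated; embeddings into `(R^*)^t`
-/

set_option autoImplicit false
set_option linter.unusedSectionVars false
set_option linter.unusedVariables false
set_option linter.style.haveILetI false
universe u

namespace Groth.Agent.Lib.Helper11.GrDual

open DirectSum GrLC GrSeg Groth.Agent.Lib.Helper11.GrLCLib

section ArtFin

variable {k : Type u} [Field k] {R : Type u} [CommRing R] [Algebra k R]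
  (𝒜 : ℤ → Submodule k R) [GradedAlgebra 𝒜]
variable {M : Type u} [AddCommGroup M] [Module R M] [Module k M] [IsScalarTower k R M]
  (ℳ : ℤ → AddSubgroup M) [DirectSum.Decomposition ℳ] [SetLike.GradedSMul 𝒜 ℳ]
variable {D : Type u} [AddCommGroup D] [Module R D] [Module k D] [IsScalarTower k R D]
  (𝒟 : ℤ → AddSubgroup D) [DirectSum.Decomposition 𝒟] [SetLike.GradedSMul 𝒜 𝒟]
  (β : D →ₗ[k] M →ₗ[k] k)

/-- the annihilator in `M` of a submodule of `D`. -/
def perp (hsm : ∀ (r : R) (d : D) (x : M), β (r • d) x = β d (r • x)) (N : Submodule R D) :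
    Submodule R M where
  carrier := {x | ∀ d ∈ N, β d x = 0}
  add_mem' := by
    intro x y hx hy d hd
    rw [map_add, hx d hd, hy d hd, add_zero]
  zero_mem' := fun d _ => map_zero _
  smul_mem' := by
    intro r x hx d hd
    rw [← hsm]
    exact hx _ (N.smul_mem r hd)

lemma mem_perp (hsm : ∀ (r : R) (d : D) (x : M), β (r • d) x = β d (r • x)) (N : Submodule R D)
    (x : M) : x ∈ perp β hsm N ↔ ∀ d ∈ N, β d x = 0 := Iff.rfl

/-- the graded dual of an Artinian module is finitely generated. -/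
theorem finite_gdual_of_isArtinian [IsArtinian R M]
    (hpos : ∀ n : ℤ, n < 0 → 𝒜 n = ⊥) (h0 : 𝒜 0 = Submodule.span k {(1 : R)})
    (hD : IsGDual R ℳ 𝒟 β) : Module.Finite R D := by
  classical
  have hfin := fun n => finite_compK_of_isArtinian 𝒜 ℳ hpos h0 n
  let 𝒮 : Set (Submodule R M) := {P | ∃ S : Finset D,
    (∀ d ∈ S, SetLike.IsHomogeneousElem 𝒟 d) ∧ P = perp β hD.map_smul (Submodule.span R (S : Set D))}
  have hne : 𝒮.Nonempty := ⟨_, ∅, fun d hd => absurd hd (Finset.notMem_empty d), rfl⟩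
  obtain ⟨P₀, ⟨S₀, hS₀, rfl⟩, hmin⟩ := IsArtinian.set_has_minimal 𝒮 hne
  have htop : Submodule.span R (S₀ : Set D) = ⊤ := by
    by_contra hnt
    obtain ⟨d, hd⟩ : ∃ d : D, d ∉ Submodule.span R (S₀ : Set D) := by
      by_contra hcon
      push Not at hcon
      exact hnt (eq_top_iff.mpr (fun d _ => hcon d))
    obtain ⟨n, hn⟩ : ∃ n, (decompose 𝒟 d n : D) ∉ Submodule.span R (S₀ : Set D) := by
      by_contra hcon
      push Not at hcon
      apply hd
      rw [← DirectSum.sum_support_decompose 𝒟 d]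
      exact Submodule.sum_mem _ (fun i _ => hcon i)
    obtain ⟨d', hd'⟩ : ∃ d' : D, d' = (decompose 𝒟 d n : D) := ⟨_, rfl⟩
    have hd'n : d' ∈ 𝒟 n := hd' ▸ SetLike.coe_mem _
    have hd'S : d' ∉ Submodule.span R (S₀ : Set D) := hd' ▸ hn
    have hS₁ : ∀ y ∈ insert d' S₀, SetLike.IsHomogeneousElem 𝒟 y := by
      intro y hy
      rw [Finset.mem_insert] at hy
      rcases hy with rfl | hy
      · exact ⟨n, hd'n⟩
      · exact hS₀ y hy
    have hmem : perp β hD.map_smul (Submodule.span R ((insert d' S₀ : Finset D) : Set D)) ∈ 𝒮 :=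
      ⟨insert d' S₀, hS₁, rfl⟩
    have hle : perp β hD.map_smul (Submodule.span R ((insert d' S₀ : Finset D) : Set D)) ≤
        perp β hD.map_smul (Submodule.span R (S₀ : Set D)) := by
      intro x hx u hu
      apply hx u
      refine Submodule.span_mono ?_ hu
      rw [Finset.coe_insert]
      exact Set.subset_insert _ _
    have hnlt := hmin _ hmem
    obtain ⟨x, hx, hxU, hxd⟩ := exists_separating 𝒜 hD hfin n
      ((Submodule.span R (S₀ : Set D)).restrictScalars k) d' hd'n hd'S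
    have hx0 : x ∈ perp β hD.map_smul (Submodule.span R (S₀ : Set D)) := by
      intro u hu
      rw [apply_eq_component hD u hx]
      exact hxU _ (span_isHomogeneous 𝒜 𝒟 _ (fun y hy => hS₀ y hy) n hu) (SetLike.coe_mem _)
    have hx1 : x ∉ perp β hD.map_smul (Submodule.span R ((insert d' S₀ : Finset D) : Set D)) := by
      intro h
      apply hxd
      apply h
      apply Submodule.subset_span
      rw [Finset.coe_insert]
      exact Set.mem_insert _ _
    apply hnlt
    exact lt_of_le_of_ne hle (fun e => hx1 (e ▸ hx0))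
  exact Module.finite_def.mpr ⟨S₀, htop⟩

/-- an Artinian graded module embeds homogeneously into a finite direct sum of shifted copies of
`R^*`. -/
theorem exists_embedding_of_isArtinian [IsArtinian R M]
    (hpos : ∀ n : ℤ, n < 0 → 𝒜 n = ⊥) (h0 : 𝒜 0 = Submodule.span k {(1 : R)})
    {E : Type u} [AddCommGroup E] [Module R E] [Module k E] [IsScalarTower k R E]
    (ℰ : ℤ → AddSubgroup E) [DirectSum.Decomposition ℰ] [SetLike.GradedSMul 𝒜 ℰ]
    (βE : E →ₗ[k] R →ₗ[k] k) (hE : IsGDual R 𝒜 ℰ βE) :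
    ∃ (t : ℕ) (sh : Fin t → ℤ) (f : M →ₗ[R] (Fin t → E)), Function.Injective f ∧
      ∀ (i : Fin t) (g : ℤ) (x : M), x ∈ ℳ g → f x i ∈ ℰ (g + sh i) := by
  classical
  letI := gdDecomposition 𝒜 ℳ
  haveI := gdGradedSMul 𝒜 ℳ
  have hDM := isGDual_gd 𝒜 ℳ
  have hfin := fun n => finite_compK_of_isArtinian 𝒜 ℳ hpos h0 n
  haveI : Module.Finite R (GD 𝒜 ℳ) :=
    finite_gdual_of_isArtinian 𝒜 ℳ (gdGr 𝒜 ℳ) (gdPair 𝒜 ℳ) hpos h0 hDM
  obtain ⟨T, hT, hTspan⟩ := exists_homogeneous_generators 𝒜 (gdGr 𝒜 ℳ)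
  have hv : ∀ y : ↥T, ∃ (s : ℤ) (v : M →ₗ[R] E),
      (∀ x r, βE (v x) r = gdPair 𝒜 ℳ (y : GD 𝒜 ℳ) (r • x)) ∧ ∀ n x, x ∈ ℳ n → v x ∈ ℰ (n + s) := by
    intro y
    obtain ⟨a, ha⟩ := hT y.1 y.2
    obtain ⟨v, hv, hvg⟩ := exists_hom_of_functional 𝒜 ℰ βE hE ℳ (gdPair 𝒜 ℳ (y : GD 𝒜 ℳ)) (-a)
      (fun n hn x hx => ha n hn x hx)
    exact ⟨-(-a), v, hv, hvg⟩
  choose s v hv hvg using hv
  let e := T.equivFin
  refine ⟨T.card, fun i => s (e.symm i), LinearMap.pi (fun i => v (e.symm i)), ?_, ?_⟩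
  · rw [injective_iff_map_eq_zero]
    intro x hx
    have hflip := isGDual_flip 𝒜 hDM hfin
    apply eq_zero_of_forall hflip
    intro d
    rw [LinearMap.flip_apply]
    have hd : d ∈ Submodule.span R (T : Set (GD 𝒜 ℳ)) := by rw [hTspan]; exact Submodule.mem_top
    have key : ∀ d ∈ Submodule.span R (T : Set (GD 𝒜 ℳ)), ∀ x' : M,
        LinearMap.pi (fun i => v (e.symm i)) x' = 0 → gdPair 𝒜 ℳ d x' = 0 := by
      intro d hd
      induction hd using Submodule.span_induction with
      | mem y hy =>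
        intro x' hx'
        have h1 : v (e.symm (e ⟨y, hy⟩)) x' = 0 := congrFun hx' (e ⟨y, hy⟩)
        rw [Equiv.symm_apply_apply] at h1
        have h2 := hv ⟨y, hy⟩ x' 1
        rw [h1, map_zero, LinearMap.zero_apply, one_smul] at h2
        exact h2.symm
      | zero => intro x' _; rw [map_zero, LinearMap.zero_apply]
      | add d₁ d₂ _ _ h₁ h₂ =>
        intro x' hx'
        rw [map_add, LinearMap.add_apply, h₁ x' hx', h₂ x' hx', add_zero]
      | smul r d _ hd =>
        intro x' hx'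
        rw [gdPair_smul]
        apply hd
        rw [map_smul, hx', smul_zero]
    exact key d hd x hx
  · intro i g x hx
    exact hvg (e.symm i) g x hx

end ArtFin

end Groth.Agent.Lib.Helper11.GrDual
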