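import Groth.Agent.Lib.Helper11.GrFieldC
import Groth.Agent.Lib.Helper11.GrDualF
import Groth.Agent.Lib.Helper11.GrLCOrdB
import Groth.Agent.Lib.Helper16.LocCohArtinian

/-!
# Existence of *canonical modules

A finitely generated graded module `C` of which the graded local cohomology `H^n_m(R)` is a graded
dual is a *canonical module; such a module exists (the graded dual of `H^n_m(R)`, which is
finitely generated because `H^n_m(R)` is Artinian).
-/

set_option autoImplicit false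
set_option linter.unusedSectionVars false
set_option linter.unusedVariables false
set_option linter.style.haveILetI false
universe u

namespace Groth.Agent.Lib.Helper11.GrCan

open DirectSum GrLC GrSeg Groth.Agent.Lib.Helper11.GrLCLib Groth.Agent.Lib.Helper11.GrDual
  Groth.Agent.Lib.Helper11.GrExt Groth.Agent.Lib.Helper11.GrField

variable {R : Type u} [CommRing R] {𝒜 : ℤ → AddSubgroup R} [GradedRing 𝒜]
variable {k : Type u} [Field k] [Algebra k R] (hk : IsBase 𝒜 k)
variable {E' : Type u} [AddCommGroup E'] [Module R E'] [Module k E'] [IsScalarTower k R E']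
  (𝓔 : ℤ → AddSubgroup E') [DirectSum.Decomposition 𝓔] [SetLike.GradedSMul 𝒜 𝓔]
variable {C : Type u} [AddCommGroup C] [Module R C] [Module k C] [IsScalarTower k R C]
  (𝒞 : ℤ → AddSubgroup C) [DirectSum.Decomposition 𝒞] [SetLike.GradedSMul 𝒜 𝒞]
variable {H : Type u} [AddCommGroup H] [Module R H] [Module k H] [IsScalarTower k R H]
  (ℋ : ℤ → AddSubgroup H) [DirectSum.Decomposition ℋ] [SetLike.GradedSMul 𝒜 ℋ]

attribute [local instance] subKGradedAlgebra

include hk in
/-- If `E` is a graded dual of `R` and `H` is a graded dual of the finitely generated graded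
module `C`, then `Hom_R(C, E) ≅ H` as graded modules. -/
theorem exists_hom_equiv_of_isGDual [Module.Finite R C]
    {βE : E' →ₗ[k] R →ₗ[k] k} (hE : IsGDual R (subK hk) 𝓔 βE)
    {γ : H →ₗ[k] C →ₗ[k] k} (hγ : IsGDual R 𝒞 ℋ γ) :
    ∃ α : (C →ₗ[R] E') ≃ₗ[R] H,
      IsGrHom (fun d => (homDeg 𝒜 𝒞 𝓔 d).toAddSubgroup) ℋ α.toLinearMap := by
  classical
  haveI : SetLike.GradedSMul (subK hk) 𝓔 := gradedSMul_K hk 𝓔
  haveI : SetLike.GradedSMul (subK hk) 𝒞 := gradedSMul_K hk 𝒞
  letI dH : DirectSum.Decomposition (fun d => (homDeg 𝒜 𝒞 𝓔 d).toAddSubgroup) :=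
    homDecomposition 𝒜 𝒞 𝓔
  have h1mem : (1 : R) ∈ subK hk 0 := (SetLike.GradedOne.one_mem : (1 : R) ∈ 𝒜 0)
  -- uniqueness
  have huniq : ∀ (v v' : C →ₗ[R] E'), (∀ c r, βE (v c) r = βE (v' c) r) → v = v' := by
    intro v v' h
    apply LinearMap.ext
    intro c
    rw [← sub_eq_zero]
    apply eq_zero_of_forall hE
    intro r
    rw [map_sub, LinearMap.sub_apply, h c r, sub_self]
  -- homogeneous existence
  have hexh : ∀ (i : ℤ) (h : H), h ∈ ℋ i → ∃ v : C →ₗ[R] E',
      (∀ c r, βE (v c) r = γ h (r • c)) ∧ IsGrHomDeg 𝒞 𝓔 v i := by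
    intro i h hh
    obtain ⟨v, hv, hvdeg⟩ := exists_hom_of_functional (subK hk) 𝓔 βE hE 𝒞 (γ h) (-i)
      (fun j hj y hy => hγ.vanish i h hh j hj y hy)
    refine ⟨v, hv, ?_⟩
    intro j y hy
    have := hvdeg j y hy
    rwa [neg_neg] at this
  have hex : ∀ h : H, ∃ v : C →ₗ[R] E', ∀ c r, βE (v c) r = γ h (r • c) := by
    intro h
    induction h using DirectSum.Decomposition.inductionOn ℋ with
    | zero =>
      exact ⟨0, fun c r => by
        rw [LinearMap.zero_apply, map_zero, LinearMap.zero_apply, map_zero, LinearMap.zero_apply]⟩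
    | @homogeneous i h =>
      obtain ⟨v, hv, -⟩ := hexh i h h.2
      exact ⟨v, hv⟩
    | add h₁ h₂ ih₁ ih₂ =>
      obtain ⟨v₁, hv₁⟩ := ih₁
      obtain ⟨v₂, hv₂⟩ := ih₂
      exact ⟨v₁ + v₂, fun c r => by
        rw [LinearMap.add_apply, map_add, LinearMap.add_apply, hv₁, hv₂, map_add,
          LinearMap.add_apply]⟩
  choose Ψf hΨf using hex
  let Ψ : H →ₗ[R] (C →ₗ[R] E') :=
    { toFun := Ψf
      map_add' := fun h₁ h₂ => huniq _ _ (fun c r => by
        rw [hΨf (h₁ + h₂), LinearMap.add_apply (Ψf h₁) (Ψf h₂), map_add βE, LinearMap.add_apply,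
          hΨf h₁, hΨf h₂, map_add γ, LinearMap.add_apply])
      map_smul' := fun s h => huniq _ _ (fun c r => by
        rw [RingHom.id_apply, hΨf (s • h), LinearMap.smul_apply, hE.map_smul, hΨf h, hγ.map_smul,
          smul_eq_mul, mul_comm, mul_smul, smul_comm]) }
  have hΨ : ∀ h c r, βE (Ψ h c) r = γ h (r • c) := hΨf
  have hΨinj : Function.Injective Ψ := by
    rw [injective_iff_map_eq_zero]
    intro h hh
    apply eq_zero_of_forall hγ
    intro c
    have := hΨ h c 1
    rw [one_smul, hh, LinearMap.zero_apply, map_zero, LinearMap.zero_apply] at this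
    exact this.symm
  have hΨdeg : ∀ i h, h ∈ ℋ i → IsGrHomDeg 𝒞 𝓔 (Ψ h) i := by
    intro i h hh
    obtain ⟨v, hv, hvdeg⟩ := hexh i h hh
    have : Ψ h = v := huniq _ _ (fun c r => by rw [hΨ, hv])
    rw [this]
    exact hvdeg
  -- surjectivity on homogeneous maps
  have hsurjh : ∀ (d : ℤ) (u : C →ₗ[R] E'), IsGrHomDeg 𝒞 𝓔 u d → ∃ h, h ∈ ℋ d ∧ Ψ h = u := by
    intro d u hu
    let l : C →ₗ[k] k :=
      { toFun := fun c => βE (u c) 1
        map_add' := fun c c' => by rw [map_add, map_add, LinearMap.add_apply]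
        map_smul' := fun a c => by
          rw [← algebraMap_smul R a c, map_smul, algebraMap_smul, map_smul, LinearMap.smul_apply,
            RingHom.id_apply] }
    have hl : ∀ c, l c = βE (u c) 1 := fun c => rfl
    have hlvan : ∀ j, j ≠ -d → ∀ c ∈ 𝒞 j, l c = 0 := by
      intro j hj c hc
      rw [hl]
      have h2 : u c ∈ 𝓔 (j + d) := hu j c hc
      refine hE.vanish (j + d) _ h2 0 ?_ 1 h1mem
      intro e
      apply hj
      omega
    obtain ⟨h, hh, hhl⟩ := hγ.exists_eq d l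
    have hγl : ∀ c, γ h c = l c := by
      intro c
      refine eq_of_forall_homogeneous 𝒞 (γ h).toAddMonoidHom l.toAddMonoidHom ?_ c
      intro j y hy
      by_cases hj : j = -d
      · subst hj
        exact hhl y hy
      · show γ h y = l y
        rw [hγ.vanish d h hh j hj y hy, hlvan j hj y hy]
    refine ⟨h, hh, huniq _ _ (fun c r => ?_)⟩
    rw [hΨ, hγl, hl, map_smul, hE.map_smul, smul_eq_mul, mul_one]
  have hΨsurj : Function.Surjective Ψ := by
    intro u
    have hu : u = ∑ d ∈ (decompose (fun d => (homDeg 𝒜 𝒞 𝓔 d).toAddSubgroup) u).support,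
        ((decompose (fun d => (homDeg 𝒜 𝒞 𝓔 d).toAddSubgroup) u d : _) : C →ₗ[R] E') :=
      (DirectSum.sum_support_decompose (fun d => (homDeg 𝒜 𝒞 𝓔 d).toAddSubgroup) u).symm
    have key : ∀ d, ∃ h, Ψ h =
        ((decompose (fun d => (homDeg 𝒜 𝒞 𝓔 d).toAddSubgroup) u d : _) : C →ₗ[R] E') := by
      intro d
      obtain ⟨h, -, hh⟩ := hsurjh d _
        (SetLike.coe_mem (decompose (fun d => (homDeg 𝒜 𝒞 𝓔 d).toAddSubgroup) u d))
      exact ⟨h, hh⟩
    choose hf hhf using key
    refine ⟨∑ d ∈ (decompose (fun d => (homDeg 𝒜 𝒞 𝓔 d).toAddSubgroup) u).support, hf d, ?_⟩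
    rw [map_sum]
    conv_rhs => rw [hu]
    exact Finset.sum_congr rfl (fun d _ => hhf d)
  let α₀ : H ≃ₗ[R] (C →ₗ[R] E') := LinearEquiv.ofBijective Ψ ⟨hΨinj, hΨsurj⟩
  refine ⟨α₀.symm, ?_⟩
  intro d u hu
  obtain ⟨h, hh, hhu⟩ := hsurjh d u hu
  have : α₀.symm u = h := by
    rw [LinearEquiv.symm_apply_eq]
    exact hhu.symm
  change α₀.symm u ∈ ℋ d
  rw [this]
  exact hh

end Groth.Agent.Lib.Helper11.GrCan
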