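import Groth.Agent.Lib.Helper11.GrCanD

/-!
# Existence of *canonical modules (continued)
-/

set_option autoImplicit false
set_option linter.unusedSectionVars false
set_option linter.unusedVariables false
set_option linter.style.haveILetI false
universe u

namespace Groth.Agent.Lib.Helper11.GrCan

open DirectSum GrLC GrSeg Groth.Agent.Lib.Helper11.GrLCLib Groth.Agent.Lib.Helper11.GrDual
  Groth.Agent.Lib.Helper11.GrExt Groth.Agent.Lib.Helper11.GrField

variable {R : Type u} [CommRing R] {𝒜 : ℤ → AddSubgroup R} [GradedRing 𝒜]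
variable {k : Type u} [Field k] [Algebra k R] (hk : IsBase 𝒜 k)
variable {E' : Type u} [AddCommGroup E'] [Module R E'] [Module k E'] [IsScalarTower k R E']
  (𝓔 : ℤ → AddSubgroup E') [DirectSum.Decomposition 𝓔] [SetLike.GradedSMul 𝒜 𝓔]
variable {C : Type u} [AddCommGroup C] [Module R C] [Module k C] [IsScalarTower k R C]
  (𝒞 : ℤ → AddSubgroup C) [DirectSum.Decomposition 𝒞] [SetLike.GradedSMul 𝒜 𝒞]

attribute [local instance] subKGradedAlgebra

include hk in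
/-- A finitely generated graded module of which `H^n_m(R)` is a graded dual is a *canonical
module. -/
theorem isStarCanonical_of_isGDual [Module.Finite R C] [Nontrivial R]
    (hpos : ∀ n : ℤ, n < 0 → 𝒜 n = ⊥) (m : HomogeneousIdeal 𝒜)
    (hmsp : m.toIdeal = Ideal.span (⋃ n ∈ Set.Ioi (0 : ℤ), (𝒜 n : Set R)))
    (e : (R ⧸ m.toIdeal) →ₗ[R] E') (he : IsStarInjHull 𝒜 (quotGr 𝒜 m) 𝓔 e)
    (n : ℕ) (I : StarInjRes 𝒜 𝒜) [Module k (I.H m n)] [IsScalarTower k R (I.H m n)]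
    [DirectSum.Decomposition (I.Hgr m n)]
    {γ : I.H m n →ₗ[k] C →ₗ[k] k} (hγ : IsGDual R 𝒞 (I.Hgr m n) γ) :
    IsStarCanonical 𝒜 𝒞 𝓔 m n I := by
  obtain ⟨βE, hE⟩ := exists_pairing_hull hk 𝓔 hpos m hmsp e he
  haveI : SetLike.GradedSMul 𝒜 (I.Hgr m n) := Hgr_gradedSMul I m n
  obtain ⟨α, hα⟩ := exists_hom_equiv_of_isGDual hk 𝓔 𝒞 (I.Hgr m n) hE hγ
  exact ⟨inferInstance, α, hα⟩

include hk in
/-- `H^n_m(R)` is an Artinian module (for `m` maximal). -/
theorem isArtinian_H [IsNoetherianRing R] (m : HomogeneousIdeal 𝒜) [hmax : m.toIdeal.IsMaximal]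
    {M : Type u} [AddCommGroup M] [Module R M] [Module.Finite R M] {ℳ : ℤ → AddSubgroup M}
    [DirectSum.Decomposition ℳ] [SetLike.GradedSMul 𝒜 ℳ]
    (n : ℕ) (I : StarInjRes 𝒜 ℳ) : IsArtinian R (I.H m n) := by
  obtain ⟨eq⟩ := Groth.Agent.Lib.Helper11.GrLCOrd.nonempty_H_equiv I m n
  haveI := Groth.Agent.Lib.Helper16.LC.isArtinian_H_maximal m.toIdeal n M
  exact isArtinian_of_linearEquiv eq.symm

include hk in
/-- **Existence of the *canonical module** of a Noetherian graded ring over a field. -/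
theorem exists_isStarCanonical [IsNoetherianRing R] [Nontrivial R]
    (hpos : ∀ n : ℤ, n < 0 → 𝒜 n = ⊥) (m : HomogeneousIdeal 𝒜) [hmax : m.toIdeal.IsMaximal]
    (hmsp : m.toIdeal = Ideal.span (⋃ n ∈ Set.Ioi (0 : ℤ), (𝒜 n : Set R)))
    (e : (R ⧸ m.toIdeal) →ₗ[R] E') (he : IsStarInjHull 𝒜 (quotGr 𝒜 m) 𝓔 e)
    (n : ℕ) (I : StarInjRes 𝒜 𝒜) :
    ∃ X : GMod.{u} 𝒜, IsStarCanonical 𝒜 X.gr 𝓔 m n I := by
  letI : Module k (I.H m n) := Module.compHom (I.H m n) (algebraMap k R)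
  haveI : IsScalarTower k R (I.H m n) := IsScalarTower.of_algebraMap_smul (fun r x => rfl)
  letI dH : DirectSum.Decomposition (I.Hgr m n) := (Hgr_isInternal 𝒜 𝒜 I m n).chooseDecomposition
  haveI : SetLike.GradedSMul 𝒜 (I.Hgr m n) := Hgr_gradedSMul I m n
  haveI : SetLike.GradedSMul (subK hk) (I.Hgr m n) := gradedSMul_K hk (I.Hgr m n)
  haveI : IsArtinian R (I.H m n) := isArtinian_H hk m n I
  letI dD : DirectSum.Decomposition (gdGr (subK hk) (I.Hgr m n)) :=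
    gdDecomposition (subK hk) (I.Hgr m n)
  haveI : SetLike.GradedSMul (subK hk) (gdGr (subK hk) (I.Hgr m n)) :=
    gdGradedSMul (subK hk) (I.Hgr m n)
  haveI : SetLike.GradedSMul 𝒜 (gdGr (subK hk) (I.Hgr m n)) :=
    gradedSMul_unK hk (gdGr (subK hk) (I.Hgr m n))
  have hD := isGDual_gd (subK hk) (I.Hgr m n)
  haveI hfinD : Module.Finite R (GD (subK hk) (I.Hgr m n)) :=
    finite_gdual_of_isArtinian (subK hk) (I.Hgr m n) (gdGr (subK hk) (I.Hgr m n))
      (gdPair (subK hk) (I.Hgr m n)) (subK_neg hk hpos) (subK_zero hk) hD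
  have hfin : ∀ j, Module.Finite k ↥(compK (subK hk) (I.Hgr m n) j) := fun j =>
    finite_compK_of_isArtinian (subK hk) (I.Hgr m n) (subK_neg hk hpos) (subK_zero hk) j
  have hflip := isGDual_flip (subK hk) hD hfin
  refine ⟨GMod.of 𝒜 (GD (subK hk) (I.Hgr m n)) (gdGr (subK hk) (I.Hgr m n)), ?_⟩
  exact isStarCanonical_of_isGDual hk 𝓔 (gdGr (subK hk) (I.Hgr m n)) hpos m hmsp e he n I hflip

end Groth.Agent.Lib.Helper11.GrCan
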