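import Groth.Agent.Lib.Helper11.GrTopD
import Groth.Agent.Lib.Helper11.GrLCOrdB
import Groth.Agent.Lib.Helper11.GrConv
import Groth.Agent.Lib.Helper16.LocCohGrothVanish

/-!
# Graded local duality: the vanishing hypothesis from the dimension, and the `Submodule`-graded form
-/

set_option autoImplicit false
set_option linter.unusedSectionVars false
set_option linter.unusedVariables false
set_option linter.style.haveILetI false
universe u

namespace Groth.Agent.Lib.Helper11.GrTop

open DirectSum GrLC GrSeg Groth.Agent.Lib.Helper11.GrLCLib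

section Van

variable {ι : Type} [DecidableEq ι] [AddCommGroup ι]
variable {R : Type u} [CommRing R] [IsNoetherianRing R] {𝒜 : ι → AddSubgroup R} [GradedRing 𝒜]

/-- Grothendieck vanishing gives the vanishing hypothesis in degree `dim R`. -/
theorem vanHyp_of_ringKrullDim (a : HomogeneousIdeal 𝒜) (n : ℕ) (hn : ringKrullDim R = n) :
    VanHyp (𝒜 := 𝒜) a n := by
  intro N hN EN
  haveI := hN
  obtain ⟨e⟩ := Groth.Agent.Lib.Helper11.GrLCOrd.nonempty_H_equiv EN a (n + 1)
  have hdim : Module.supportDim R N.carrier < ((n + 1 : ℕ) : WithBot ℕ∞) := by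
    refine lt_of_le_of_lt (Module.supportDim_le_ringKrullDim R N.carrier) ?_
    rw [hn]
    exact_mod_cast Nat.lt_succ_self n
  haveI := Groth.Agent.Lib.Helper16.LC.subsingleton_H_of_supportDim_lt_of_finite a.toIdeal (n + 1)
    N.carrier hdim (n + 1) le_rfl
  exact e.toEquiv.subsingleton

end Van

end Groth.Agent.Lib.Helper11.GrTop
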