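import Groth.Agent.Lib.Helper11.GrCanE
import Groth.Agent.Lib.Helper11.GrCanC
import Groth.Agent.Lib.Helper11.GrTopE
import Groth.Agent.Lib.Helper11.GrLCMin

/-!
# The *canonical module has no `m`-torsion (in positive dimension); existence of the `a`-invariant
of a Gorenstein graded ring
-/

set_option autoImplicit false
set_option linter.unusedSectionVars false
set_option linter.unusedVariables false
set_option linter.style.haveILetI false
universe u

namespace Groth.Agent.Lib.Helper11.GrCan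

open DirectSum GrLC GrSeg Groth.Agent.Lib.Helper11.GrLCLib Groth.Agent.Lib.Helper11.GrDual
  Groth.Agent.Lib.Helper11.GrExt Groth.Agent.Lib.Helper11.GrField

section TopDeg

variable {R : Type u} [CommRing R] [hGor : LocCoh.IsGorensteinRing R] (𝒜 : ℤ → AddSubgroup R)
  [GradedRing 𝒜]

/-- A positively graded Gorenstein *local ring has an `a`-invariant. -/
theorem exists_isTopDeg_of_gorenstein (hpos : ∀ n : ℤ, n < 0 → 𝒜 n = ⊥)
    (m : HomogeneousIdeal 𝒜) (hm : IsStarLocal 𝒜 m) (n : ℕ) (hn : m.toIdeal.height = n)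
    (I : StarInjRes 𝒜 𝒜) : ∃ a : ℤ, IsTopDeg (I.Hgr m n) a := by
  haveI : IsNoetherianRing R := hGor.toIsNoetherian
  letI := quotDecomposition 𝒜 (m.toIdeal : Submodule R R) m.isHomogeneous
  obtain ⟨Xh, e, he⟩ := exists_isStarInjHull 𝒜 (quotGrM 𝒜 (m.toIdeal : Submodule R R))
  rw [← Groth.Agent.Lib.Helper11.GrGor.quotGr_eq_quotGrM 𝒜 m] at he
  obtain ⟨g, θ, hθ⟩ := Groth.Agent.Lib.Helper11.GrGor.exists_top_H_equiv_hull 𝒜 Xh.gr m hm n hn I
    e he
  letI dH : DirectSum.Decomposition (I.Hgr m n) := (Hgr_isInternal 𝒜 𝒜 I m n).chooseDecomposition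
  have hθs := isGrHomDeg_symm θ hθ
  have hE := isTopDeg_hull 𝒜 Xh.gr hpos hm.1 he
  refine ⟨-g, ?_, ?_⟩
  · obtain ⟨⟨z, hz⟩, hz0⟩ := (AddSubgroup.ne_bot_iff_exists_ne_zero).1 hE.1
    have hz0' : z ≠ 0 := fun h => hz0 (Subtype.ext h)
    have hmem := hθs 0 z hz
    rw [zero_add] at hmem
    have hne : θ.symm z ≠ 0 := fun h => hz0' (θ.symm.map_eq_zero_iff.1 h)
    exact ne_bot_of_mem_ne_zero hmem hne
  · intro j hj
    rw [eq_bot_iff]
    intro h hh
    have hmem := hθ j h hh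
    rw [hE.2 (j + g) (by omega), AddSubgroup.mem_bot] at hmem
    rw [AddSubgroup.mem_bot]
    exact θ.map_eq_zero_iff.1 hmem

end TopDeg

section Torsion

variable {R : Type u} [CommRing R] {𝒜 : ℤ → AddSubgroup R} [GradedRing 𝒜]
variable {k : Type u} [Field k] [Algebra k R] (hk : IsBase 𝒜 k)
variable {E' : Type u} [AddCommGroup E'] [Module R E'] [Module k E'] [IsScalarTower k R E']
  (𝓔 : ℤ → AddSubgroup E') [DirectSum.Decomposition 𝓔] [SetLike.GradedSMul 𝒜 𝓔]
variable {C : Type u} [AddCommGroup C] [Module R C] [Module k C] [IsScalarTower k R C]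
  (𝒞 : ℤ → AddSubgroup C) [DirectSum.Decomposition 𝒞] [SetLike.GradedSMul 𝒜 𝒞]

attribute [local instance] subKGradedAlgebra

/-- a nonzero `m`-torsion element has a nonzero multiple killed by `m`. -/
lemma exists_socle_of_mem_gam (a : Ideal R) {T : Type u} [AddCommGroup T] [Module R T] {x : T}
    (hx : x ∈ gam a T) (hx0 : x ≠ 0) : ∃ y : T, y ≠ 0 ∧ ∀ c ∈ a, c • y = 0 := by
  classical
  have hex : ∃ K : ℕ, ∀ r ∈ a ^ K, r • x = 0 := hx
  set K := Nat.find hex with hK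
  have hKspec : ∀ r ∈ a ^ K, r • x = 0 := Nat.find_spec hex
  have hK0 : K ≠ 0 := by
    intro h0
    apply hx0
    have := hKspec 1 (by rw [h0, pow_zero, Ideal.one_eq_top]; exact Submodule.mem_top)
    rwa [one_smul] at this
  obtain ⟨K', hK'⟩ : ∃ K', K = K' + 1 := ⟨K - 1, by omega⟩
  have hmin : ¬ ∀ r ∈ a ^ K', r • x = 0 := Nat.find_min hex (by omega)
  push Not at hmin
  obtain ⟨r, hr, hrx⟩ := hmin
  refine ⟨r • x, hrx, fun c hc => ?_⟩
  rw [smul_smul]
  apply hKspec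
  rw [hK', pow_succ']
  exact Ideal.mul_mem_mul hc hr

include hk in
/-- **The *canonical module has no `m`-torsion** when `dim R ≥ 1`. -/
theorem gam_canonical_eq_bot [IsNoetherianRing R] [Nontrivial R]
    (hpos : ∀ n : ℤ, n < 0 → 𝒜 n = ⊥) (m : HomogeneousIdeal 𝒜) [hmax : m.toIdeal.IsMaximal]
    (hmsp : m.toIdeal = Ideal.span (⋃ n ∈ Set.Ioi (0 : ℤ), (𝒜 n : Set R)))
    (e : (R ⧸ m.toIdeal) →ₗ[R] E') (he : IsStarInjHull 𝒜 (quotGr 𝒜 m) 𝓔 e)
    (n : ℕ) (hn : ringKrullDim R = n) (hn1 : 1 ≤ n) (I : StarInjRes 𝒜 𝒜)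
    (hC : IsStarCanonical 𝒜 𝒞 𝓔 m n I) : gam m.toIdeal C = ⊥ := by
  letI : Module k (I.H m n) := Module.compHom (I.H m n) (algebraMap k R)
  haveI : IsScalarTower k R (I.H m n) := IsScalarTower.of_algebraMap_smul (fun r x => rfl)
  letI dH : DirectSum.Decomposition (I.Hgr m n) := (Hgr_isInternal 𝒜 𝒜 I m n).chooseDecomposition
  obtain ⟨β, hβ⟩ := exists_pairing_canonical hk 𝓔 𝒞 hpos m hmsp e he n I hC
  -- the residue field as a graded module
  letI dκ := quotDecomposition 𝒜 (m.toIdeal : Submodule R R) m.isHomogeneous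
  obtain ⟨EM⟩ := nonempty_starInjRes 𝒜 (quotGrM 𝒜 (m.toIdeal : Submodule R R))
  have hκtors : gam m.toIdeal (R ⧸ (m.toIdeal : Submodule R R)) = ⊤ := by
    rw [eq_top_iff]
    intro y _
    refine ⟨1, fun r hr => ?_⟩
    rw [pow_one] at hr
    obtain ⟨x, rfl⟩ := Submodule.Quotient.mk_surjective _ y
    rw [← Submodule.Quotient.mk_smul, Submodule.Quotient.mk_eq_zero, smul_eq_mul]
    exact Ideal.mul_mem_right _ _ hr
  haveI hsub : Subsingleton (EM.H m n) :=
    H_subsingleton_of_gam_eq_top 𝒜 (quotGrM 𝒜 (m.toIdeal : Submodule R R)) m hκtors EM n hn1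
  letI : Module k (EM.H m n) := Module.compHom (EM.H m n) (algebraMap k R)
  haveI : IsScalarTower k R (EM.H m n) := IsScalarTower.of_algebraMap_smul (fun r x => rfl)
  letI dHM : DirectSum.Decomposition (EM.Hgr m n) :=
    (Hgr_isInternal 𝒜 (quotGrM 𝒜 (m.toIdeal : Submodule R R)) EM m n).chooseDecomposition
  haveI : SetLike.GradedSMul 𝒜 (EM.Hgr m n) := Hgr_gradedSMul EM m n
  haveI : SetLike.GradedSMul (subK hk) (EM.Hgr m n) := gradedSMul_K hk (EM.Hgr m n)
  letI dD : DirectSum.Decomposition (gdGr (subK hk) (EM.Hgr m n)) :=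
    gdDecomposition (subK hk) (EM.Hgr m n)
  have hD := isGDual_gd (subK hk) (EM.Hgr m n)
  have hvan := Groth.Agent.Lib.Helper11.GrTop.vanHyp_of_ringKrullDim m n hn
  obtain ⟨ε, -⟩ := Groth.Agent.Lib.Helper11.GrTop.exists_dual_equiv_hom (k := k) m n hvan I 𝒞 β hβ
    (quotGrM 𝒜 (m.toIdeal : Submodule R R)) EM (gdGr (subK hk) (EM.Hgr m n))
    (gdPair (subK hk) (EM.Hgr m n)) hD
  have hDsub : Subsingleton (GD (subK hk) (EM.Hgr m n)) := by
    refine ⟨fun f g => ?_⟩
    apply gd_ext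
    intro j x hx
    rw [hsub.elim x 0, map_zero, map_zero]
  have hHomsub : Subsingleton ((R ⧸ (m.toIdeal : Submodule R R)) →ₗ[R] C) :=
    ε.symm.injective.subsingleton
  by_contra hne
  obtain ⟨x, hx, hx0⟩ := (Submodule.ne_bot_iff _).mp hne
  obtain ⟨y, hy0, hy⟩ := exists_socle_of_mem_gam m.toIdeal hx hx0
  let u : (R ⧸ (m.toIdeal : Submodule R R)) →ₗ[R] C :=
    Submodule.liftQ (m.toIdeal : Submodule R R) (LinearMap.toSpanSingleton R C y) (by
      intro c hc
      rw [LinearMap.mem_ker, LinearMap.toSpanSingleton_apply]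
      exact hy c hc)
  have hu : u (Submodule.Quotient.mk 1) = y := by
    change (LinearMap.toSpanSingleton R C y) 1 = y
    rw [LinearMap.toSpanSingleton_apply, one_smul]
  apply hy0
  rw [← hu, hHomsub.elim u 0, LinearMap.zero_apply]

end Torsion

end Groth.Agent.Lib.Helper11.GrCan
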