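import Groth.Agent.Lib.Helper11.GrSegG
import Groth.Agent.Lib.Helper11.GrLCOrdB
import Groth.Agent.Lib.Helper16.LocCohIndepBase

/-!
# `E ⊗[k] N` is `Γ_{mA}`-acyclic for *injective `E`
-/

set_option autoImplicit false
set_option linter.unusedSectionVars false
set_option linter.unusedVariables false
set_option linter.style.haveILetI false
universe u

open scoped TensorProduct

namespace Groth.Agent.Lib.Helper11.Seg

open DirectSum GrLC Groth.Agent.Lib.Helper11.GrLCLib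

section ExtL

variable {k : Type u} [Field k] {R S : Type u} [CommRing R] [CommRing S] [Algebra k R]
  [Algebra k S]
variable (𝒜 : ℤ → AddSubgroup R) [GradedRing 𝒜] (ℬ : ℤ → AddSubgroup S) [GradedRing ℬ]
  [IsKAlgGr k 𝒜] [IsKAlgGr k ℬ]

lemma extIdeal_isHomogeneous (m : HomogeneousIdeal 𝒜) :
    (extIdeal (k := k) (S := S) m.toIdeal).IsHomogeneous (biGr (k := k) 𝒜 ℬ) := by
  obtain ⟨T, hT⟩ := (Ideal.IsHomogeneous.iff_exists (𝒜 := 𝒜) (I := m.toIdeal)).mp m.isHomogeneous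
  unfold extIdeal
  rw [hT, Ideal.map_span]
  apply Ideal.homogeneous_span
  rintro _ ⟨_, ⟨s, hs, rfl⟩, rfl⟩
  obtain ⟨j, hj⟩ := s.2
  exact ⟨(j, 0), tmul_mem_biGr 𝒜 ℬ hj (SetLike.GradedOne.one_mem (A := ℬ))⟩

/-- The extension `mA` of a homogeneous ideal `m` of `R`. -/
noncomputable def extL (m : HomogeneousIdeal 𝒜) : HomogeneousIdeal (biGr (k := k) 𝒜 ℬ) :=
  ⟨extIdeal (k := k) (S := S) m.toIdeal, extIdeal_isHomogeneous 𝒜 ℬ m⟩

lemma extL_toIdeal (m : HomogeneousIdeal 𝒜) :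
    (extL (k := k) 𝒜 ℬ m).toIdeal = extIdeal (k := k) (S := S) m.toIdeal := rfl

end ExtL

section Acyclic

variable {k : Type u} [Field k] {R S : Type u} [CommRing R] [CommRing S] [Algebra k R]
  [Algebra k S]
variable (𝒜 : ℤ → AddSubgroup R) [GradedRing 𝒜] (ℬ : ℤ → AddSubgroup S) [GradedRing ℬ]
  [IsKAlgGr k 𝒜] [IsKAlgGr k ℬ]
variable {E N : Type u} [AddCommGroup E] [Module R E] [Module k E] [IsScalarTower k R E]
  [AddCommGroup N] [Module S N] [Module k N] [IsScalarTower k S N]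
variable (ℰ : ℤ → AddSubgroup E) [DirectSum.Decomposition ℰ] [SetLike.GradedSMul 𝒜 ℰ]
  (𝒩 : ℤ → AddSubgroup N) [DirectSum.Decomposition 𝒩] [SetLike.GradedSMul ℬ 𝒩]

instance towerLeft : IsScalarTower R (R ⊗[k] S) (E ⊗[k] N) where
  smul_assoc r a x := by
    rw [Algebra.smul_def, mul_smul]
    change ((r ⊗ₜ[k] (1 : S) : R ⊗[k] S)) • (a • x) = _
    rw [includeLeft_smul]

/-- ungraded acyclicity over `R ⊗ S`. -/
theorem subsingleton_locCoh_extIdeal [IsNoetherianRing R] [IsNoetherianRing (R ⊗[k] S)]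
    (hE : IsStarInj 𝒜 ℰ) (m : HomogeneousIdeal 𝒜) (p : ℕ) :
    Subsingleton (LocCoh.H (extIdeal (k := k) (S := S) m.toIdeal) (p + 1) (E ⊗[k] N)) := by
  haveI : IsKGr k ℰ := isKGr_of_gradedSMul 𝒜 ℰ
  letI := leftDecomposition (k := k) (V := N) ℰ
  have h1 : Subsingleton (LocCoh.H m.toIdeal (p + 1) (E ⊗[k] N)) :=
    Groth.Agent.Lib.Helper11.GrLCOrd.subsingleton_H_of_isStarInj (leftGr (k := k) ℰ N)
      (isStarInj_leftGr 𝒜 ℰ hE) m p
  obtain ⟨φ, -⟩ := Groth.Agent.Lib.Helper16.DTL.semiIso_H (R := R) (R' := R ⊗[k] S) m.toIdeal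
    (p + 1) (E ⊗[k] N)
  exact φ.toEquiv.subsingleton

/-- graded acyclicity over `R ⊗ S`. -/
theorem subsingleton_H_extL [IsNoetherianRing R] [IsNoetherianRing (R ⊗[k] S)]
    (hE : IsStarInj 𝒜 ℰ) (m : HomogeneousIdeal 𝒜)
    [DirectSum.Decomposition (biGr (k := k) ℰ 𝒩)]
    (G : StarInjRes (biGr (k := k) 𝒜 ℬ) (biGr (k := k) ℰ 𝒩)) (p : ℕ) :
    Subsingleton (G.H (extL (k := k) 𝒜 ℬ m) (p + 1)) := by
  obtain ⟨e⟩ := Groth.Agent.Lib.Helper11.GrLCOrd.nonempty_H_equiv G (extL (k := k) 𝒜 ℬ m) (p + 1)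
  have : Subsingleton (LocCoh.H (extL (k := k) 𝒜 ℬ m).toIdeal (p + 1) (E ⊗[k] N)) :=
    subsingleton_locCoh_extIdeal (k := k) (S := S) (N := N) 𝒜 ℰ hE m p
  exact e.toEquiv.subsingleton

end Acyclic

end Groth.Agent.Lib.Helper11.Seg
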