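import Groth.Agent.Lib.Helper11.GrCompD
import Groth.Agent.Lib.Helper11.GrLCOrdB
import Groth.Agent.Lib.Helper11.GrSegH
import Groth.Agent.Lib.Helper16.LocCohCd
import Groth.Agent.Lib.Helper16.LocCohCompareIso

/-!
# Cohomological dimension bounds from generators up to radical
-/

set_option autoImplicit false
set_option linter.unusedSectionVars false
set_option linter.unusedVariables false
set_option linter.style.haveILetI false
set_option maxHeartbeats 1000000
universe u

open scoped TensorProduct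

namespace Groth.Agent.Lib.Helper11.GrComp

open DirectSum GrLC Groth.Agent.Lib.Helper11.GrLCLib Groth.Agent.Lib.Helper11.Seg

section Generic

variable {ι : Type} [DecidableEq ι] [AddCommGroup ι]
variable {A : Type u} [CommRing A] {𝒜 : ι → AddSubgroup A} [GradedRing 𝒜] [IsNoetherianRing A]

/-- If `a` is generated up to radical by the elements of a finite set `s`, then `cd_a ≤ |s|`. -/
theorem cdLE_of_span (a : HomogeneousIdeal 𝒜) (s : Finset A)
    (hle : Ideal.span (s : Set A) ≤ a.toIdeal)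
    (hrad : a.toIdeal ≤ (Ideal.span (s : Set A)).radical) : CdLE a s.card := by
  intro W _ _ 𝒲 _ _ GW i hi
  obtain ⟨e⟩ := Groth.Agent.Lib.Helper11.GrLCOrd.nonempty_H_equiv GW a i
  have h1 : Subsingleton (LocCoh.H (Ideal.span (s : Set A)) i W) :=
    Groth.Agent.Lib.Helper16.LC.cdLE_card_generators s W i hi
  have hb := Groth.Agent.Lib.Helper16.LC.cmp_bijective_of_le_radical i W
    (Ideal.span (s : Set A)) a.toIdeal hle hrad
  have h2 : Subsingleton (LocCoh.H a.toIdeal i W) := hb.1.subsingleton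
  exact e.injective.subsingleton

lemma CdLE.mono {a : HomogeneousIdeal 𝒜} {r r' : ℕ} (h : CdLE a r) (hr : r ≤ r') : CdLE a r' :=
  fun W _ _ 𝒲 _ _ GW i hi => h W 𝒲 GW i (lt_of_le_of_lt hr hi)

/-- `cd_a ≤ r` when `a` is generated up to radical by `r` elements. -/
theorem cdLE_of_fin (a : HomogeneousIdeal 𝒜) {r : ℕ} (θ : Fin r → A)
    (hθ : ∀ j, θ j ∈ a.toIdeal) (hrad : a.toIdeal ≤ (Ideal.span (Set.range θ)).radical) :
    CdLE a r := by
  classical
  have hs : ((Finset.univ.image θ : Finset A) : Set A) = Set.range θ := by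
    rw [Finset.coe_image, Finset.coe_univ, Set.image_univ]
  have h1 := cdLE_of_span a (Finset.univ.image θ)
    (by
      rw [hs, Ideal.span_le]
      rintro _ ⟨j, rfl⟩
      exact hθ j)
    (by rw [hs]; exact hrad)
  refine h1.mono ?_
  calc (Finset.univ.image θ).card ≤ (Finset.univ : Finset (Fin r)).card := Finset.card_image_le
    _ = r := by rw [Finset.card_univ, Fintype.card_fin]

end Generic

section ExtL

variable {k : Type u} [Field k] {R S : Type u} [CommRing R] [CommRing S] [Algebra k R]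
  [Algebra k S]
variable (𝒜 : ℤ → AddSubgroup R) [GradedRing 𝒜] (ℬ : ℤ → AddSubgroup S) [GradedRing ℬ]
  [IsKAlgGr k 𝒜] [IsKAlgGr k ℬ] [IsNoetherianRing (R ⊗[k] S)]

/-- `cd_{mA} ≤ r` on `A = R ⊗ S` when `m` is generated up to radical by `r` elements. -/
theorem cdLE_extL (m : HomogeneousIdeal 𝒜) {r : ℕ} (θ : Fin r → R)
    (hθ : ∀ j, θ j ∈ m.toIdeal) (hrad : m.toIdeal ≤ (Ideal.span (Set.range θ)).radical) :
    CdLE (extL (k := k) 𝒜 ℬ m) r := by
  refine cdLE_of_fin (extL (k := k) 𝒜 ℬ m) (fun j => (θ j ⊗ₜ[k] (1 : S) : R ⊗[k] S)) ?_ ?_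
  · intro j
    rw [extL_toIdeal]
    exact tmul_one_mem_extIdeal (hθ j)
  · rw [extL_toIdeal]
    unfold extIdeal
    have h1 : Ideal.span (Set.range fun j => (θ j ⊗ₜ[k] (1 : S) : R ⊗[k] S)) =
        (Ideal.span (Set.range θ)).map
          (Algebra.TensorProduct.includeLeft : R →ₐ[k] R ⊗[k] S).toRingHom := by
      rw [Ideal.map_span, ← Set.range_comp]
      rfl
    rw [h1]
    exact (Ideal.map_mono hrad).trans (Ideal.map_radical_le _)

end ExtL

end Groth.Agent.Lib.Helper11.GrComp
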