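import Mathlib
import Groth.Prelude.Def_GrLC
import Groth.Agent.Lib.Helper11.GrLC
import Groth.Agent.Lib.Helper11.GrLCDecomp
import Groth.Agent.Lib.Helper11.GrExtA

/-!
# Coarsening a grading along a map of index sets
-/

set_option autoImplicit false
set_option linter.unusedSectionVars false
universe u

namespace Groth.Agent.Lib.Helper11.GrCoarse

open DirectSum GrLC Groth.Agent.Lib.Helper11.GrLCLib Groth.Agent.Lib.Helper11.GrExt

section Module

variable {ι κ : Type} [DecidableEq ι] [DecidableEq κ]
variable {E : Type u} [AddCommGroup E] (ℰ : ι → AddSubgroup E) [DirectSum.Decomposition ℰ]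
variable (φ : ι → κ)

/-- The coarsened grading: elements whose components live in degrees over `k`. -/
def coarse (k : κ) : AddSubgroup E where
  carrier := {x | ∀ g, φ g ≠ k → (decompose ℰ x g : E) = 0}
  zero_mem' := fun g _ => by rw [decompose_zero, DirectSum.zero_apply, ZeroMemClass.coe_zero]
  add_mem' := fun {x y} hx hy g hg => by
    rw [decompose_add, DirectSum.add_apply, AddSubgroup.coe_add, hx g hg, hy g hg, add_zero]
  neg_mem' := fun {x} hx g hg => by
    have h := hx g hg
    simp only [decompose_neg]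
    change ((-(decompose ℰ x g) : ℰ g) : E) = 0
    rw [NegMemClass.coe_neg, h, neg_zero]

lemma mem_coarse {k : κ} {x : E} :
    x ∈ coarse ℰ φ k ↔ ∀ g, φ g ≠ k → (decompose ℰ x g : E) = 0 := Iff.rfl

lemma le_coarse (g : ι) : ℰ g ≤ coarse ℰ φ (φ g) := by
  intro x hx g' hg'
  have : g' ≠ g := fun h => hg' (by rw [h])
  rw [decompose_of_mem_ne ℰ hx (Ne.symm this)]

lemma mem_coarse_of_mem {g : ι} {k : κ} {x : E} (hx : x ∈ ℰ g) (hg : φ g = k) :
    x ∈ coarse ℰ φ k := hg ▸ le_coarse ℰ φ g hx

lemma addHom_ext_homogeneous' {N : Type*} [AddCommGroup N] {f f' : E →+ N}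
    (h : ∀ g, ∀ x ∈ ℰ g, f x = f' x) : f = f' := by
  ext x
  induction x using DirectSum.Decomposition.inductionOn ℰ with
  | zero => rw [map_zero, map_zero]
  | homogeneous x => exact h _ _ x.2
  | add x y hx hy => rw [map_add, map_add, hx, hy]

/-- The projection onto the `k`-th coarse piece. -/
noncomputable def coarseProj (k : κ) : E →+ E :=
  (DirectSum.toAddMonoid (fun g : ι => if φ g = k then (ℰ g).subtype else 0)).comp
    (DirectSum.decomposeAddEquiv ℰ).toAddMonoidHom

lemma coarseProj_of_mem (k : κ) {g : ι} {x : E} (hx : x ∈ ℰ g) :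
    coarseProj ℰ φ k x = if φ g = k then x else 0 := by
  unfold coarseProj
  rw [AddMonoidHom.comp_apply]
  change DirectSum.toAddMonoid _ (decompose ℰ x) = _
  rw [decompose_of_mem ℰ hx, DirectSum.toAddMonoid_of]
  split_ifs <;> rfl

open scoped Classical in
lemma coarseProj_apply (k : κ) (x : E) :
    coarseProj ℰ φ k x = ∑ g ∈ DFinsupp.support (decompose ℰ x),
      if φ g = k then (decompose ℰ x g : E) else 0 := by
  conv_lhs => rw [← DirectSum.sum_support_decompose ℰ x]
  rw [map_sum]
  refine Finset.sum_congr rfl fun g _ => ?_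
  rw [coarseProj_of_mem ℰ φ k (SetLike.coe_mem _)]

lemma coarseProj_mem (k : κ) (x : E) : coarseProj ℰ φ k x ∈ coarse ℰ φ k := by
  classical
  rw [coarseProj_apply]
  refine sum_mem fun g _ => ?_
  split_ifs with h
  · exact mem_coarse_of_mem ℰ φ (SetLike.coe_mem _) h
  · exact zero_mem _

theorem coarse_isInternal : DirectSum.IsInternal (coarse ℰ φ) := by
  classical
  refine isInternal_of_proj (coarse ℰ φ) (coarseProj ℰ φ) (coarseProj_mem ℰ φ) ?_ ?_ ?_
  · intro k x hx
    rw [coarseProj_apply]
    conv_rhs => rw [← DirectSum.sum_support_decompose ℰ x]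
    refine Finset.sum_congr rfl fun g _ => ?_
    split_ifs with h
    · rfl
    · exact (hx g h).symm
  · intro k k' x hx hne
    rw [coarseProj_apply]
    refine Finset.sum_eq_zero fun g _ => ?_
    split_ifs with h
    · exact hx g (by rw [h]; exact hne)
    · rfl
  · intro x
    refine ⟨(DFinsupp.support (decompose ℰ x)).image φ, ?_⟩
    simp only [coarseProj_apply]
    rw [Finset.sum_comm]
    conv_rhs => rw [← DirectSum.sum_support_decompose ℰ x]
    refine Finset.sum_congr rfl fun g hg => ?_
    rw [Finset.sum_ite_eq]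
    rw [if_pos (Finset.mem_image_of_mem φ hg)]

noncomputable instance coarseDecomposition : DirectSum.Decomposition (coarse ℰ φ) :=
  (coarse_isInternal ℰ φ).chooseDecomposition

lemma decompose_coarse (x : E) (k : κ) :
    (decompose (coarse ℰ φ) x k : E) = coarseProj ℰ φ k x := by
  classical
  refine decompose_eq_proj (coarse ℰ φ) (coarseProj ℰ φ) ?_ ?_ x k
  · intro k x hx
    rw [coarseProj_apply]
    conv_rhs => rw [← DirectSum.sum_support_decompose ℰ x]
    refine Finset.sum_congr rfl fun g _ => ?_
    split_ifs with h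
    · rfl
    · exact (hx g h).symm
  · intro k k' x hx hne
    rw [coarseProj_apply]
    refine Finset.sum_eq_zero fun g _ => ?_
    split_ifs with h
    · exact hx g (by rw [h]; exact hne)
    · rfl

/-- Two coarse projections commute. -/
lemma coarseProj_comm {κ' : Type} [DecidableEq κ'] (φ' : ι → κ') (k : κ) (k' : κ') (x : E) :
    coarseProj ℰ φ k (coarseProj ℰ φ' k' x) = coarseProj ℰ φ' k' (coarseProj ℰ φ k x) := by
  have : (coarseProj ℰ φ k).comp (coarseProj ℰ φ' k') =
      (coarseProj ℰ φ' k').comp (coarseProj ℰ φ k) := by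
    apply addHom_ext_homogeneous' ℰ
    intro g x hx
    rw [AddMonoidHom.comp_apply, AddMonoidHom.comp_apply, coarseProj_of_mem ℰ φ' k' hx,
      coarseProj_of_mem ℰ φ k hx]
    by_cases h1 : φ g = k <;> by_cases h2 : φ' g = k'
    · rw [if_pos h1, if_pos h2, coarseProj_of_mem ℰ φ k hx, coarseProj_of_mem ℰ φ' k' hx,
        if_pos h1, if_pos h2]
    · rw [if_pos h1, if_neg h2, coarseProj_of_mem ℰ φ' k' hx, if_neg h2, map_zero]
    · rw [if_neg h1, if_pos h2, coarseProj_of_mem ℰ φ k hx, if_neg h1, map_zero]
    · rw [if_neg h1, if_neg h2, map_zero, map_zero]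
  exact DFunLike.congr_fun this x

end Module

end Groth.Agent.Lib.Helper11.GrCoarse
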