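import Mathlib
import Groth.Prelude.Def_GrLC
import Groth.Agent.Lib.Helper11.GrCoarseA

/-!
# Coarsened gradings of graded rings and modules; homogeneity and cores
-/

set_option autoImplicit false
set_option linter.unusedSectionVars false
universe u

namespace Groth.Agent.Lib.Helper11.GrCoarse

open DirectSum GrLC Groth.Agent.Lib.Helper11.GrLCLib

section Ring

variable {ι κ : Type} [DecidableEq ι] [DecidableEq κ] [AddCommGroup ι] [AddCommGroup κ]
variable {R : Type u} [CommRing R] (𝒜 : ι → AddSubgroup R) [GradedRing 𝒜] (φ : ι →+ κ)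
variable {M : Type u} [AddCommGroup M] [Module R M] (ℳ : ι → AddSubgroup M)
  [DirectSum.Decomposition ℳ] [SetLike.GradedSMul 𝒜 ℳ]

instance coarseGradedMonoid : SetLike.GradedMonoid (coarse 𝒜 φ) where
  one_mem := mem_coarse_of_mem 𝒜 φ (SetLike.GradedOne.one_mem) (map_zero φ)
  mul_mem := by
    intro k k' x y hx hy
    classical
    rw [← DirectSum.sum_support_decompose 𝒜 x, ← DirectSum.sum_support_decompose 𝒜 y,
      Finset.sum_mul_sum]
    refine sum_mem fun a _ => sum_mem fun b _ => ?_
    by_cases ha : φ a = k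
    · by_cases hb : φ b = k'
      · exact mem_coarse_of_mem 𝒜 φ
          (SetLike.GradedMul.mul_mem (SetLike.coe_mem _) (SetLike.coe_mem _))
          (by rw [map_add, ha, hb])
      · rw [hy b hb, mul_zero]
        exact zero_mem _
    · rw [hx a ha, zero_mul]
      exact zero_mem _

noncomputable instance coarseGradedRing : GradedRing (coarse 𝒜 φ) :=
  { coarseGradedMonoid 𝒜 φ, coarseDecomposition 𝒜 φ with }

instance coarseGradedSMul : SetLike.GradedSMul (coarse 𝒜 φ) (coarse ℳ φ) where
  smul_mem := by
    intro k k' r x hr hx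
    classical
    rw [← DirectSum.sum_support_decompose 𝒜 r, ← DirectSum.sum_support_decompose ℳ x,
      Finset.sum_smul]
    refine sum_mem fun a _ => ?_
    rw [Finset.smul_sum]
    refine sum_mem fun b _ => ?_
    by_cases ha : φ a = k
    · by_cases hb : φ b = k'
      · have := SetLike.GradedSMul.smul_mem (A := 𝒜) (B := ℳ)
          (SetLike.coe_mem (decompose 𝒜 r a)) (SetLike.coe_mem (decompose ℳ x b))
        exact mem_coarse_of_mem ℳ φ this (by rw [vadd_eq_add, map_add, ha, hb, vadd_eq_add])
      · rw [hx b hb, smul_zero]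
        exact zero_mem _
    · rw [hr a ha, zero_smul]
      exact zero_mem _

include 𝒜 in
/-- A homogeneous submodule is homogeneous for any coarsening. -/
lemma isHomogeneous_coarse {κ' : Type} [DecidableEq κ'] (ψ : ι → κ') {N : Submodule R M}
    (hN : N.IsHomogeneous ℳ) : N.IsHomogeneous (coarse ℳ ψ) := by
  classical
  intro k x hx
  rw [decompose_coarse, coarseProj_apply]
  refine N.sum_mem fun g _ => ?_
  split_ifs
  · exact hN g hx
  · exact N.zero_mem

/-- Membership in the homogeneous core. -/
lemma mem_core_iff {I : Ideal R} {x : R} :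
    x ∈ (Ideal.homogeneousCore 𝒜 I).toIdeal ↔ ∀ g, (decompose 𝒜 x g : R) ∈ I := by
  classical
  constructor
  · intro hx g
    exact Ideal.toIdeal_homogeneousCore_le 𝒜 I ((Ideal.homogeneousCore 𝒜 I).isHomogeneous g hx)
  · intro h
    rw [← DirectSum.sum_support_decompose 𝒜 x]
    exact Ideal.sum_mem _ fun g _ =>
      Ideal.mem_homogeneousCore_of_homogeneous_of_mem ⟨g, SetLike.coe_mem _⟩ (h g)

/-- The core for one coarsening of an ideal homogeneous for another coarsening stays homogeneous
for the latter. -/
lemma core_isHomogeneous_coarse {κ₁ κ₂ : Type} [DecidableEq κ₁] [DecidableEq κ₂] [AddCommGroup κ₁]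
    [AddCommGroup κ₂] (φ₁ : ι →+ κ₁) (φ₂ : ι →+ κ₂) {I : Ideal R}
    (hI : I.IsHomogeneous (coarse 𝒜 φ₁)) :
    (Ideal.homogeneousCore (coarse 𝒜 φ₂) I).toIdeal.IsHomogeneous (coarse 𝒜 φ₁) := by
  intro k₁ x hx
  rw [mem_core_iff] at hx ⊢
  intro k₂
  rw [decompose_coarse, decompose_coarse, coarseProj_comm, ← decompose_coarse 𝒜 φ₂,
    ← decompose_coarse 𝒜 φ₁]
  exact hI k₁ (hx k₂)

end Ring

section Multi

variable {ι : Type} [DecidableEq ι] [AddCommGroup ι]
variable {R : Type u} [CommRing R]
variable {E : Type u} [AddCommGroup E] [Module R E] (ℰ : ι → AddSubgroup E)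
  [DirectSum.Decomposition ℰ]
variable {J : Type} (c : J → ι → ℤ)

/-- Iterated coarse projections. -/
noncomputable def multiProj (g : ι) : List J → (E →+ E)
  | [] => AddMonoidHom.id E
  | j :: L => (coarseProj ℰ (c j) (c j g)).comp (multiProj g L)

lemma multiProj_of_mem (g : ι) (L : List J) {h : ι} {x : E} (hx : x ∈ ℰ h) :
    multiProj ℰ c g L x = if ∀ j ∈ L, c j h = c j g then x else 0 := by
  classical
  induction L with
  | nil => simp [multiProj]
  | cons j L ih =>
    rw [multiProj, AddMonoidHom.comp_apply, ih]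
    by_cases h1 : ∀ j ∈ L, c j h = c j g
    · rw [if_pos h1, coarseProj_of_mem ℰ (c j) _ hx]
      by_cases h2 : c j h = c j g
      · rw [if_pos h2, if_pos]
        intro j' hj'
        rcases List.mem_cons.1 hj' with rfl | hj'
        · exact h2
        · exact h1 j' hj'
      · rw [if_neg h2, if_neg]
        intro hall
        exact h2 (hall j (List.mem_cons_self))
    · rw [if_neg h1, map_zero, if_neg]
      intro hall
      exact h1 fun j' hj' => hall j' (List.mem_cons_of_mem _ hj')

theorem isHomogeneous_of_forall_coarse (L : List J)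
    (hL : ∀ g h : ι, (∀ j ∈ L, c j h = c j g) → h = g) {N : Submodule R E}
    (hN : ∀ j ∈ L, N.IsHomogeneous (coarse ℰ (c j))) : N.IsHomogeneous ℰ := by
  classical
  intro g x hx
  have h1 : ∀ (L' : List J), (∀ j ∈ L', j ∈ L) → ∀ y ∈ N, multiProj ℰ c g L' y ∈ N := by
    intro L'
    induction L' with
    | nil => intro _ y hy; exact hy
    | cons j L' ih =>
      intro hsub y hy
      rw [multiProj, AddMonoidHom.comp_apply, ← decompose_coarse]
      exact hN j (hsub j List.mem_cons_self) _
        (ih (fun j' hj' => hsub j' (List.mem_cons_of_mem _ hj')) y hy)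
  have h2 : multiProj ℰ c g L = compHom ℰ g := by
    apply addHom_ext_homogeneous' ℰ
    intro h y hy
    rw [multiProj_of_mem ℰ c g L hy, compHom_apply]
    by_cases hh : h = g
    · subst hh
      rw [if_pos (fun _ _ => rfl), decompose_of_mem_same ℰ hy]
    · rw [decompose_of_mem_ne ℰ hy hh, if_neg]
      intro hall
      exact hh (hL g h hall)
  have := h1 L (fun _ h => h) x hx
  rw [h2, compHom_apply] at this
  exact this

end Multi

end Groth.Agent.Lib.Helper11.GrCoarse
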