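import Groth.Agent.Lib.Helper11.GrLesE

set_option autoImplicit false
set_option linter.unusedSectionVars false
set_option linter.style.haveILetI false
universe u

namespace Groth.Agent.Lib.Helper11.GrLes

open DirectSum GrLC Groth.Agent.Lib.Helper11.GrLCLib

section General

variable {ι : Type} [DecidableEq ι] [AddCommGroup ι]
variable {R : Type u} [CommRing R] {𝒜 : ι → AddSubgroup R} [GradedRing 𝒜]
variable {M : Type u} [AddCommGroup M] [Module R M] {ℳ : ι → AddSubgroup M}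
  [DirectSum.Decomposition ℳ] [SetLike.GradedSMul 𝒜 ℳ]

/-- every element of `*H^q_a(M)` is killed by a power of any element of `a`. -/
lemma exists_pow_smul_eq_zero (E : StarInjRes 𝒜 ℳ) (a : HomogeneousIdeal 𝒜) (q : ℕ) {x : R}
    (hx : x ∈ a.toIdeal) (z : E.H a q) : ∃ n : ℕ, x ^ n • z = 0 := by
  obtain ⟨w, rfl⟩ := Submodule.mkQ_surjective _ z
  obtain ⟨n, hn⟩ := w.2.1
  refine ⟨n, ?_⟩
  have h0 : x ^ n • w = 0 := by
    apply Subtype.ext
    rw [Submodule.coe_smul, Submodule.coe_zero]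
    exact hn _ (Ideal.pow_mem_pow hx n)
  rw [← map_smul, h0, map_zero]

/-- homogeneous elements of the ring act on the pieces of `*H`. -/
lemma smul_mem_Hcomp (E : StarInjRes 𝒜 ℳ) (a : HomogeneousIdeal 𝒜) (q : ℕ) {x : R} {k : ι}
    (hx : x ∈ 𝒜 k) {j : ι} {z : E.H a q} (hz : z ∈ E.Hcomp a q j) :
    x • z ∈ E.Hcomp a q (j + k) := by
  obtain ⟨w, hw, rfl⟩ := hz
  refine ⟨x • w, ?_, map_smul _ _ _⟩
  rw [Submodule.coe_smul]
  exact isGrHomDeg_lsmul (E.X q).gr 𝒜 hx j _ hw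

/-- homogeneous preimages under a homogeneous map between internally graded modules. -/
lemma exists_homogeneous_preimage {A B : Type u} [AddCommGroup A] [Module R A] [AddCommGroup B]
    [Module R B] (𝒜' : ι → AddSubgroup A) (ℬ : ι → AddSubgroup B)
    (hA : DirectSum.IsInternal 𝒜') (hB : DirectSum.IsInternal ℬ) (f : A →ₗ[R] B) (δ : ι)
    (hf : IsGrHomDeg 𝒜' ℬ f δ) (g : ι) (y : B) (hy : y ∈ ℬ (g + δ)) (z : A) (hz : f z = y) :
    ∃ z' ∈ 𝒜' g, f z' = y := by
  letI := hA.chooseDecomposition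
  letI := hB.chooseDecomposition
  refine ⟨(decompose 𝒜' z g : A), SetLike.coe_mem _, ?_⟩
  rw [← decompose_map_deg 𝒜' ℬ hf, hz, decompose_of_mem_same ℬ hy]

end General

section Int

variable {R : Type u} [CommRing R] {𝒜 : ℤ → AddSubgroup R} [GradedRing 𝒜]
variable {M : Type u} [AddCommGroup M] [Module R M] {ℳ : ℤ → AddSubgroup M}
  [DirectSum.Decomposition ℳ] [SetLike.GradedSMul 𝒜 ℳ]
variable {N : Type u} [AddCommGroup N] [Module R N] {𝒩 : ℤ → AddSubgroup N}
  [DirectSum.Decomposition 𝒩] [SetLike.GradedSMul 𝒜 𝒩]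

/-- coercion `ℤ → WithBot (WithTop ℤ)`. -/
abbrev cc (n : ℤ) : WithBot (WithTop ℤ) := ((n : WithTop ℤ) : WithBot (WithTop ℤ))

lemma cc_add (a b : ℤ) : cc (a + b) = cc a + cc b := by
  unfold cc
  rw [WithTop.coe_add, WithBot.coe_add]

lemma cc_le {a b : ℤ} (h : a ≤ b) : cc a ≤ cc b := by
  unfold cc
  exact WithBot.coe_le_coe.2 (WithTop.coe_le_coe.2 h)

lemma le_endDeg {A : Type u} [AddCommGroup A] (𝒳 : ℤ → AddSubgroup A) {n : ℤ} (h : 𝒳 n ≠ ⊥) :
    cc n ≤ endDeg 𝒳 := by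
  unfold endDeg
  exact le_iSup₂ (f := fun (n : ℤ) (_ : 𝒳 n ≠ ⊥) => cc n) n h

lemma endDeg_le {A : Type u} [AddCommGroup A] (𝒳 : ℤ → AddSubgroup A) {b : WithBot (WithTop ℤ)}
    (h : ∀ n, 𝒳 n ≠ ⊥ → cc n ≤ b) : endDeg 𝒳 ≤ b := by
  unfold endDeg
  exact iSup₂_le h

/-- The basic step: passing to `M/xM` for a homogeneous `M`-regular element `x ∈ a` of degree
`k ≥ 0`, when `*H^i_a(M) = 0` for `i ≤ n`. -/
theorem step (E : StarInjRes 𝒜 ℳ) (F : StarInjRes 𝒜 𝒩) {x : R} {k : ℤ} (hx : x ∈ 𝒜 k)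
    (hk : 0 ≤ k) (hreg : IsSMulRegular M x) (π : M →ₗ[R] N) (hπ : IsGrHom ℳ 𝒩 π)
    (hπs : Function.Surjective π)
    (hπk : LinearMap.ker π = LinearMap.range (LinearMap.lsmul R M x)) (a : HomogeneousIdeal 𝒜)
    (hxa : x ∈ a.toIdeal) (n : ℕ) (hvan : ∀ i, i < n + 1 → Subsingleton (E.H a i)) :
    (∀ i, i < n → Subsingleton (F.H a i)) ∧
      endDeg (F.Hgr a n) = endDeg (E.Hgr a (n + 1)) + cc k := by
  obtain ⟨p, γ, hp, hγ, h1, h2, h3, h4⟩ := exists_les_smul E F hx hreg π hπ hπs hπk a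
  have hvanF : ∀ i, i < n + 1 → ∀ z : F.H a i, γ i z = 0 → z = 0 := by
    intro i hi z hz
    obtain ⟨w, rfl⟩ := (h2 i z).1 hz
    have := hvan i hi
    rw [Subsingleton.elim w 0, map_zero]
  refine ⟨fun i hi => ⟨fun z z' => ?_⟩, ?_⟩
  · have := hvan (i + 1) (by omega)
    have e1 := hvanF i (by omega) z (Subsingleton.elim _ _)
    have e2 := hvanF i (by omega) z' (Subsingleton.elim _ _)
    rw [e1, e2]
  have hinj : ∀ z : F.H a n, γ n z = 0 → z = 0 := hvanF n (by omega)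
  -- (i)
  have hi : ∀ g : ℤ, F.Hgr a n g ≠ ⊥ → E.Hgr a (n + 1) (g + -k) ≠ ⊥ := by
    intro g hg
    obtain ⟨⟨z, hz⟩, hz0⟩ := (AddSubgroup.ne_bot_iff_exists_ne_zero (H := F.Hgr a n g)).1 hg
    rw [AddSubgroup.ne_bot_iff_exists_ne_zero]
    refine ⟨⟨γ n z, hγ n g z hz⟩, ?_⟩
    intro h0
    apply hz0
    apply Subtype.ext
    exact hinj z (congrArg Subtype.val h0)
  -- (ii)
  have hii : ∀ j : ℤ, E.Hgr a (n + 1) j ≠ ⊥ → ∃ j' : ℤ, j ≤ j' ∧ F.Hgr a n (j' + k) ≠ ⊥ := by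
    intro j hj
    obtain ⟨⟨y, hy⟩, hy0⟩ := (AddSubgroup.ne_bot_iff_exists_ne_zero (H := E.Hgr a (n + 1) j)).1 hj
    have hy0' : y ≠ 0 := fun h => hy0 (Subtype.ext h)
    classical
    have hex := exists_pow_smul_eq_zero E a (n + 1) hxa y
    set t := Nat.find hex with ht
    have htspec : x ^ t • y = 0 := Nat.find_spec hex
    have htpos : t ≠ 0 := by
      intro h0
      rw [h0, pow_zero, one_smul] at htspec
      exact hy0' htspec
    obtain ⟨s, hs⟩ := Nat.exists_eq_succ_of_ne_zero htpos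
    have hsne : x ^ s • y ≠ 0 := by
      intro h0
      have := Nat.find_min' hex h0
      omega
    have hxs : x ^ s ∈ 𝒜 (s • k) := SetLike.pow_mem_graded s hx
    have hy' : x ^ s • y ∈ E.Hcomp a (n + 1) (j + s • k) := smul_mem_Hcomp E a (n + 1) hxs hy
    have hker : x • (x ^ s • y) = 0 := by
      rw [smul_smul, ← pow_succ']
      rw [hs] at htspec
      exact htspec
    obtain ⟨w, hw⟩ := (h3 n _).1 hker
    have hγdeg : IsGrHomDeg (F.Hgr a n) (E.Hgr a (n + 1)) (γ n) (-k) := fun g z hz => hγ n g z hz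
    have hy'' : x ^ s • y ∈ E.Hgr a (n + 1) ((j + s • k + k) + -k) := by
      have e : (j + s • k + k) + -k = j + s • k := by abel
      rw [e]
      exact hy'
    obtain ⟨w', hw', hw'y⟩ := exists_homogeneous_preimage (F.Hgr a n) (E.Hgr a (n + 1))
      (Hgr_isInternal 𝒜 𝒩 F a n) (Hgr_isInternal 𝒜 ℳ E a (n + 1)) (γ n) (-k) hγdeg
      (j + s • k + k) _ hy'' w hw
    refine ⟨j + s • k, ?_, ?_⟩
    · have : 0 ≤ s • k := by
        rw [nsmul_eq_mul]
        positivity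
      omega
    · rw [AddSubgroup.ne_bot_iff_exists_ne_zero]
      refine ⟨⟨w', hw'⟩, ?_⟩
      intro h0
      apply hsne
      have hw0 : w' = 0 := congrArg Subtype.val h0
      rw [← hw'y, hw0]
      exact map_zero _
  -- end degrees
  apply le_antisymm
  · apply endDeg_le
    intro g hg
    have h5 := le_endDeg _ (hi g hg)
    have e : cc g = cc (g + -k) + cc k := by
      rw [← cc_add]
      congr 1
      abel
    rw [e]
    exact add_le_add h5 le_rfl
  · have h6 : endDeg (E.Hgr a (n + 1)) ≤ endDeg (F.Hgr a n) + cc (-k) := by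
      apply endDeg_le
      intro j hj
      obtain ⟨j', hjj', hj'⟩ := hii j hj
      have h5 := le_endDeg _ hj'
      have e : cc j' = cc (j' + k) + cc (-k) := by
        rw [← cc_add]
        congr 1
        abel
      calc cc j ≤ cc j' := cc_le hjj'
        _ = cc (j' + k) + cc (-k) := e
        _ ≤ _ := add_le_add h5 le_rfl
    calc endDeg (E.Hgr a (n + 1)) + cc k ≤ endDeg (F.Hgr a n) + cc (-k) + cc k :=
          add_le_add h6 le_rfl
      _ = endDeg (F.Hgr a n) := by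
          rw [add_assoc, ← cc_add, neg_add_cancel]
          exact add_zero _

end Int

end Groth.Agent.Lib.Helper11.GrLes
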