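import Groth.Agent.Lib.Helper11.GrMVC
import Groth.Agent.Lib.Helper11.GrLesF

/-!
# Composite of torsion functors: for a `Γ_b`-acyclic module `X`,
`H^q_{a+b}(X) ≅ H^q_a(Γ_b(X))`
-/

set_option autoImplicit false
set_option linter.unusedSectionVars false
set_option linter.unusedVariables false
set_option linter.style.haveILetI false
universe u

namespace Groth.Agent.Lib.Helper11.GrComp

open DirectSum GrLC Groth.Agent.Lib.Helper11.GrLCLib Groth.Agent.Lib.Helper11.GrLes
  Groth.Agent.Lib.Helper11.GrMV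

variable {ι : Type} [DecidableEq ι] [AddCommGroup ι]
variable {R : Type u} [CommRing R] {𝒜 : ι → AddSubgroup R} [GradedRing 𝒜]
variable {M : Type u} [AddCommGroup M] [Module R M] {ℳ : ι → AddSubgroup M}
  [DirectSum.Decomposition ℳ] [SetLike.GradedSMul 𝒜 ℳ]

/-- `H^q_a(M)` as a bundled graded module. -/
noncomputable def HGMod (E : StarInjRes 𝒜 ℳ) (a : HomogeneousIdeal 𝒜) (q : ℕ) : GMod.{u} 𝒜 :=
  letI : DirectSum.Decomposition (E.Hgr a q) := (Hgr_isInternal 𝒜 ℳ E a q).chooseDecomposition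
  letI : SetLike.GradedSMul 𝒜 (E.Hgr a q) :=
    ⟨fun {i j} {r x} hr hx => by
      have := smul_mem_Hcomp E a q hr hx
      rw [vadd_eq_add, add_comm]
      exact this⟩
  GMod.of 𝒜 (E.H a q) (E.Hgr a q)

/-- the decomposition of `Γ_b(M)`. -/
noncomputable instance instGamDec (ℳ : ι → AddSubgroup M) [DirectSum.Decomposition ℳ]
    [SetLike.GradedSMul 𝒜 ℳ] (b : HomogeneousIdeal 𝒜) :
    DirectSum.Decomposition (subGr ℳ (gam b.toIdeal M)) :=
  subDecomposition ℳ (gam b.toIdeal M) (gam_isHomogeneous 𝒜 ℳ b)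

/-- `Γ_b(M)` as a bundled graded module. -/
noncomputable abbrev gamGMod (ℳ : ι → AddSubgroup M) [DirectSum.Decomposition ℳ]
    [SetLike.GradedSMul 𝒜 ℳ] (b : HomogeneousIdeal 𝒜) : GMod.{u} 𝒜 :=
  subGMod 𝒜 ℳ (gam b.toIdeal M) (gam_isHomogeneous 𝒜 ℳ b)

lemma mem_gam_of_ε_mem (E : StarInjRes 𝒜 ℳ) (b : HomogeneousIdeal 𝒜) {x : M}
    (hx : E.ε x ∈ gam b.toIdeal (E.X 0).carrier) : x ∈ gam b.toIdeal M := by
  obtain ⟨n, hn⟩ := hx
  refine ⟨n, fun r hr => ?_⟩
  apply E.ε_injective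
  rw [map_smul, hn r hr, map_zero]

variable [IsNoetherianRing R]

/-- For a `Γ_b`-acyclic module, applying `Γ_b` to a *injective resolution gives a *injective
resolution of `Γ_b(M)`. -/
@[reducible] noncomputable def gamRes (E : StarInjRes 𝒜 ℳ) (b : HomogeneousIdeal 𝒜)
    (hac : ∀ p, Subsingleton (E.H b (p + 1))) : StarInjRes 𝒜 (gamGMod ℳ b).gr where
  X n := gamGMod (E.X n).gr b
  d n := LinearMap.restrict (E.d n) (fun x hx => map_mem_gam (E.d n) b.toIdeal hx)
  ε := LinearMap.restrict E.ε (fun x hx => map_mem_gam E.ε b.toIdeal hx)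
  d_grHom n := fun g x hx => E.d_grHom n g x hx
  ε_grHom := fun g x hx => E.ε_grHom g x hx
  ε_injective := by
    intro x y hxy
    apply Subtype.ext
    apply E.ε_injective
    exact congrArg Subtype.val hxy
  exact_zero := by
    ext x
    constructor
    · intro hx
      have h1 : E.d 0 (x : (E.X 0).carrier) = 0 := congrArg Subtype.val hx
      have h2 : (x : (E.X 0).carrier) ∈ LinearMap.range E.ε := by
        rw [← E.exact_zero]; exact h1
      obtain ⟨m, hm⟩ := h2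
      have hmΓ : m ∈ gam b.toIdeal M := mem_gam_of_ε_mem E b (hm ▸ x.2)
      exact ⟨⟨m, hmΓ⟩, Subtype.ext hm⟩
    · rintro ⟨m, rfl⟩
      apply Subtype.ext
      exact ConeData.d_ε_apply E m
  exact_succ n := by
    ext x
    constructor
    · intro hx
      have h1 : E.d (n + 1) (x : (E.X (n + 1)).carrier) = 0 := congrArg Subtype.val hx
      have hc : (x : (E.X (n + 1)).carrier) ∈ E.cocyc b (n + 1) := ⟨x.2, h1⟩
      have h0 : E.toH b (n + 1) ⟨x, hc⟩ = 0 := (hac n).elim _ _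
      rw [toH_eq_zero_iff, mem_cobdy_succ] at h0
      obtain ⟨y, hy, hyx⟩ := h0
      exact ⟨⟨y, hy⟩, Subtype.ext hyx⟩
    · rintro ⟨y, rfl⟩
      apply Subtype.ext
      exact ConeData.d_d_apply E n y
  starInj n := Groth.Agent.Lib.Helper11.GrGor.isStarInj_gam 𝒜 (E.X n).gr (E.starInj n) b

end Groth.Agent.Lib.Helper11.GrComp
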