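import Groth.Agent.Lib.Helper11.GrCompA

/-!
# Composite of torsion functors: `H^q_a(Γ_b(X)) ≅ H^q_{a+b}(X)` for `Γ_b`-acyclic `X`
-/

set_option autoImplicit false
set_option linter.unusedSectionVars false
set_option linter.unusedVariables false
set_option linter.style.haveILetI false
universe u

namespace Groth.Agent.Lib.Helper11.GrComp

open DirectSum GrLC Groth.Agent.Lib.Helper11.GrLCLib Groth.Agent.Lib.Helper11.GrLes
  Groth.Agent.Lib.Helper11.GrMV

variable {ι : Type} [DecidableEq ι] [AddCommGroup ι]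
variable {R : Type u} [CommRing R] {𝒜 : ι → AddSubgroup R} [GradedRing 𝒜]
variable {M : Type u} [AddCommGroup M] [Module R M] {ℳ : ι → AddSubgroup M}
  [DirectSum.Decomposition ℳ] [SetLike.GradedSMul 𝒜 ℳ]

lemma mem_gam_subtype_iff {X : Type u} [AddCommGroup X] [Module R X] (G : Submodule R X)
    (a : Ideal R) (y : G) : y ∈ gam a G ↔ (y : X) ∈ gam a X := by
  constructor
  · rintro ⟨n, hn⟩
    exact ⟨n, fun r hr => by rw [← Submodule.coe_smul, hn r hr, Submodule.coe_zero]⟩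
  · rintro ⟨n, hn⟩
    exact ⟨n, fun r hr => Subtype.ext (by rw [Submodule.coe_smul, hn r hr, Submodule.coe_zero])⟩

variable [IsNoetherianRing R]
variable (E : StarInjRes 𝒜 ℳ) (a b : HomogeneousIdeal 𝒜)
  (hac : ∀ p, Subsingleton (E.H b (p + 1)))

lemma gamRes_d_coe (n : ℕ) (y : ↥(gam b.toIdeal (E.X n).carrier)) :
    (((gamRes E b hac).d n y : ↥(gam b.toIdeal (E.X (n + 1)).carrier)) : (E.X (n + 1)).carrier) =
      E.d n (y : (E.X n).carrier) := rfl

lemma mem_gamRes_cocyc_iff (q : ℕ) (y : ↥(gam b.toIdeal (E.X q).carrier)) :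
    y ∈ (gamRes E b hac).cocyc a q ↔ (y : (E.X q).carrier) ∈ E.cocyc (a ⊔ b) q := by
  rw [mem_cocyc, mem_cocyc, mem_gam_sup_iff]
  constructor
  · rintro ⟨h1, h2⟩
    refine ⟨⟨(mem_gam_subtype_iff _ _ y).mp h1, y.2⟩, ?_⟩
    have := congrArg Subtype.val h2
    exact this
  · rintro ⟨⟨h1, -⟩, h2⟩
    exact ⟨(mem_gam_subtype_iff _ _ y).mpr h1, Subtype.ext h2⟩

/-- cocycles of `Γ_a Γ_b` and of `Γ_{a+b}`. -/
noncomputable def cocycEquiv (q : ℕ) :
    ↥((gamRes E b hac).cocyc a q) ≃ₗ[R] ↥(E.cocyc (a ⊔ b) q) where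
  toFun y := ⟨((y : ↥(gam b.toIdeal (E.X q).carrier)) : (E.X q).carrier),
    (mem_gamRes_cocyc_iff E a b hac q y).mp y.2⟩
  map_add' x y := rfl
  map_smul' r x := rfl
  invFun z := ⟨⟨(z : (E.X q).carrier),
      ((mem_gam_sup_iff E a b q _).mp ((mem_cocyc E (a ⊔ b) q _).mp z.2).1).2⟩,
    (mem_gamRes_cocyc_iff E a b hac q _).mpr z.2⟩
  left_inv y := rfl
  right_inv z := rfl

lemma cocycEquiv_coe (q : ℕ) (y : ↥((gamRes E b hac).cocyc a q)) :
    (cocycEquiv E a b hac q y : (E.X q).carrier) =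
      ((y : ↥(gam b.toIdeal (E.X q).carrier)) : (E.X q).carrier) := rfl

lemma cobdy_iff (q : ℕ) (y : ↥(gam b.toIdeal (E.X q).carrier)) :
    y ∈ (gamRes E b hac).cobdy a q ↔ (y : (E.X q).carrier) ∈ E.cobdy (a ⊔ b) q := by
  cases q with
  | zero =>
    rw [mem_cobdy_zero, mem_cobdy_zero]
    constructor
    · intro h; rw [h]; rfl
    · intro h; exact Subtype.ext h
  | succ n =>
    rw [mem_cobdy_succ, mem_cobdy_succ]
    constructor
    · rintro ⟨w, hw, rfl⟩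
      refine ⟨(w : (E.X n).carrier), ?_, rfl⟩
      rw [mem_gam_sup_iff]
      exact ⟨(mem_gam_subtype_iff _ _ w).mp hw, w.2⟩
    · rintro ⟨w, hw, hwy⟩
      rw [mem_gam_sup_iff] at hw
      refine ⟨⟨w, hw.2⟩, (mem_gam_subtype_iff _ _ _).mpr hw.1, Subtype.ext hwy⟩

/-- **Composite lemma**: `H^q_a(Γ_b(M)) ≅ H^q_{a+b}(M)` when `M` is `Γ_b`-acyclic. -/
noncomputable def compEquiv (q : ℕ) : (gamRes E b hac).H a q ≃ₗ[R] E.H (a ⊔ b) q :=
  LinearEquiv.ofLinear
    (Submodule.mapQ _ _ (cocycEquiv E a b hac q).toLinearMap (by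
      intro y hy
      rw [Submodule.mem_comap] at hy ⊢
      exact (cobdy_iff E a b hac q _).mp hy))
    (Submodule.mapQ _ _ (cocycEquiv E a b hac q).symm.toLinearMap (by
      intro z hz
      rw [Submodule.mem_comap] at hz ⊢
      exact (cobdy_iff E a b hac q _).mpr hz))
    (by
      ext z
      rfl)
    (by
      ext y
      rfl)

lemma compEquiv_toH (q : ℕ) (y : ↥((gamRes E b hac).cocyc a q)) :
    compEquiv E a b hac q ((gamRes E b hac).toH a q y) =
      E.toH (a ⊔ b) q (cocycEquiv E a b hac q y) := rfl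

lemma compEquiv_symm_toH (q : ℕ) (z : ↥(E.cocyc (a ⊔ b) q)) :
    (compEquiv E a b hac q).symm (E.toH (a ⊔ b) q z) =
      (gamRes E b hac).toH a q ((cocycEquiv E a b hac q).symm z) := rfl

lemma compEquiv_mem (q : ℕ) {g : ι} {x : (gamRes E b hac).H a q}
    (hx : x ∈ (gamRes E b hac).Hcomp a q g) : compEquiv E a b hac q x ∈ E.Hcomp (a ⊔ b) q g := by
  obtain ⟨y, hy, rfl⟩ := hx
  exact ⟨cocycEquiv E a b hac q y, hy, rfl⟩

lemma compEquiv_symm_mem (q : ℕ) {g : ι} {x : E.H (a ⊔ b) q}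
    (hx : x ∈ E.Hcomp (a ⊔ b) q g) :
    (compEquiv E a b hac q).symm x ∈ (gamRes E b hac).Hcomp a q g := by
  obtain ⟨z, hz, rfl⟩ := hx
  exact ⟨(cocycEquiv E a b hac q).symm z, hz, rfl⟩

end Groth.Agent.Lib.Helper11.GrComp
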