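import Groth.Agent.Lib.Helper11.GrSegJ
import Groth.Agent.Lib.Helper11.GrLesF
import Groth.Agent.Lib.Helper11.GrLCRes

/-!
# Base change for graded local cohomology: `H^q_{mA}(M ⊗ N) ≅ H^q_m(M) ⊗ N`, the case `q = 0`
-/

set_option autoImplicit false
set_option linter.unusedSectionVars false
set_option linter.unusedVariables false
set_option linter.style.haveILetI false
universe u

open scoped TensorProduct

namespace Groth.Agent.Lib.Helper11.Seg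

open DirectSum GrLC Groth.Agent.Lib.Helper11.GrLCLib Groth.Agent.Lib.Helper11.GrLes
  Groth.Agent.Lib.Helper11.GrShift

section Helper

variable {k : Type u} [Field k] {R S : Type u} [CommRing R] [CommRing S] [Algebra k R]
  [Algebra k S]
variable {M N Y : Type u} [AddCommGroup M] [Module R M] [Module k M] [IsScalarTower k R M]
  [AddCommGroup N] [Module S N] [Module k N] [IsScalarTower k S N]
  [AddCommGroup Y] [Module (R ⊗[k] S) Y]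

/-- an `A`-linear map sending homogeneous pure tensors into the right pieces is graded. -/
lemma map_biGr_mem_of_tmul (ℳ : ℤ → AddSubgroup M) (𝒩 : ℤ → AddSubgroup N)
    (𝒴 : ℤ × ℤ → AddSubgroup Y) (Φ : M ⊗[k] N →ₗ[R ⊗[k] S] Y)
    (hsm : ∀ p (c : k) y, y ∈ 𝒴 p → (algebraMap k (R ⊗[k] S) c) • y ∈ 𝒴 p)
    (h : ∀ d e a b, a ∈ ℳ d → b ∈ 𝒩 e → Φ (a ⊗ₜ[k] b) ∈ 𝒴 (d, e)) :
    ∀ p x, x ∈ biGr (k := k) ℳ 𝒩 p → Φ x ∈ 𝒴 p := by
  intro p x hx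
  induction hx using Submodule.span_induction with
  | mem x hx' =>
    obtain ⟨a, ha, b, hb, rfl⟩ := hx'
    exact h _ _ a b ha hb
  | zero => rw [map_zero]; exact zero_mem _
  | add x y _ _ hx hy => rw [map_add]; exact add_mem hx hy
  | smul c x _ hx =>
    rw [← algebraMap_smul (R ⊗[k] S) c x, map_smul]
    exact hsm p c _ hx

end Helper

section HgrSmul

variable {k : Type u} [Field k] {R S : Type u} [CommRing R] [CommRing S] [Algebra k R]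
  [Algebra k S]
variable (𝒜 : ℤ → AddSubgroup R) [GradedRing 𝒜] (ℬ : ℤ → AddSubgroup S) [GradedRing ℬ]
  [IsKAlgGr k 𝒜] [IsKAlgGr k ℬ]

lemma algebraMap_mem_biGr (c : k) :
    algebraMap k (R ⊗[k] S) c ∈ biGr (k := k) 𝒜 ℬ 0 := by
  rw [Algebra.TensorProduct.algebraMap_apply]
  exact tmul_mem_biGr 𝒜 ℬ (IsKAlgGr.algebraMap_mem (𝒜 := 𝒜) c)
    (SetLike.GradedOne.one_mem (A := ℬ))

variable {X : Type u} [AddCommGroup X] [Module (R ⊗[k] S) X] {𝒳 : ℤ × ℤ → AddSubgroup X}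
  [DirectSum.Decomposition 𝒳] [SetLike.GradedSMul (biGr (k := k) 𝒜 ℬ) 𝒳]

lemma Hgr_algebraMap_smul_mem (EX : StarInjRes (biGr (k := k) 𝒜 ℬ) 𝒳)
    (a : HomogeneousIdeal (biGr (k := k) 𝒜 ℬ)) (q : ℕ) (p : ℤ × ℤ) (c : k) (y : EX.H a q)
    (hy : y ∈ EX.Hgr a q p) : (algebraMap k (R ⊗[k] S) c) • y ∈ EX.Hgr a q p := by
  have := smul_mem_Hcomp EX a q (algebraMap_mem_biGr 𝒜 ℬ c) hy
  rwa [add_zero] at this

end HgrSmul

section BC

variable {k : Type u} [Field k] {R S : Type u} [CommRing R] [CommRing S] [Algebra k R]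
  [Algebra k S]
variable (𝒜 : ℤ → AddSubgroup R) [GradedRing 𝒜] (ℬ : ℤ → AddSubgroup S) [GradedRing ℬ]
  [IsKAlgGr k 𝒜] [IsKAlgGr k ℬ]
variable {N : Type u} [AddCommGroup N] [Module S N] [Module k N] [IsScalarTower k S N]
  (𝒩 : ℤ → AddSubgroup N) [DirectSum.Decomposition 𝒩] [SetLike.GradedSMul ℬ 𝒩] [IsKGr k 𝒩]

/-- The base change statement for one module and given resolutions. -/
def BCfor (m : HomogeneousIdeal 𝒜) (q : ℕ)
    {M : Type u} [AddCommGroup M] [Module R M] [Module k M] [IsScalarTower k R M]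
    (ℳ : ℤ → AddSubgroup M) [DirectSum.Decomposition ℳ] [SetLike.GradedSMul 𝒜 ℳ] [IsKGr k ℳ]
    (EM : StarInjRes 𝒜 ℳ) (EX : StarInjRes (biGr (k := k) 𝒜 ℬ) (biGr (k := k) ℳ 𝒩))
    [Module k (EM.H m q)] [IsScalarTower k R (EM.H m q)] : Prop :=
  ∃ Φ : (EM.H m q) ⊗[k] N ≃ₗ[R ⊗[k] S] EX.H (extL (k := k) 𝒜 ℬ m) q,
    (∀ p x, x ∈ biGr (k := k) (EM.Hgr m q) 𝒩 p → Φ x ∈ EX.Hgr (extL (k := k) 𝒜 ℬ m) q p) ∧
    (∀ p y, y ∈ EX.Hgr (extL (k := k) 𝒜 ℬ m) q p →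
      ∃ x ∈ biGr (k := k) (EM.Hgr m q) 𝒩 p, Φ x = y)

/-- The base change statement in cohomological degree `q`. -/
def BC (m : HomogeneousIdeal 𝒜) (q : ℕ) : Prop :=
  ∀ (M : Type u) [AddCommGroup M] [Module R M] [Module k M] [IsScalarTower k R M]
    (ℳ : ℤ → AddSubgroup M) [DirectSum.Decomposition ℳ] [SetLike.GradedSMul 𝒜 ℳ] [IsKGr k ℳ]
    (EM : StarInjRes 𝒜 ℳ) (EX : StarInjRes (biGr (k := k) 𝒜 ℬ) (biGr (k := k) ℳ 𝒩))
    [Module k (EM.H m q)] [IsScalarTower k R (EM.H m q)],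
    BCfor (k := k) 𝒜 ℬ 𝒩 m q ℳ EM EX

variable {M : Type u} [AddCommGroup M] [Module R M] [Module k M] [IsScalarTower k R M]
  (ℳ : ℤ → AddSubgroup M) [DirectSum.Decomposition ℳ] [SetLike.GradedSMul 𝒜 ℳ] [IsKGr k ℳ]

/-- `h0` as an equivalence. -/
noncomputable def h0Equiv {ι : Type} [DecidableEq ι] [AddCommGroup ι] {A : Type u} [CommRing A]
    {𝒜' : ι → AddSubgroup A} [GradedRing 𝒜'] {X : Type u} [AddCommGroup X] [Module A X]
    {𝒳 : ι → AddSubgroup X} [DirectSum.Decomposition 𝒳] [SetLike.GradedSMul 𝒜' 𝒳]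
    (G : StarInjRes 𝒜' 𝒳) (a : HomogeneousIdeal 𝒜') : ↥(gam a.toIdeal X) ≃ₗ[A] G.H a 0 :=
  LinearEquiv.ofBijective (h0 G a) ⟨h0_injective G a, h0_surjective G a⟩

theorem bc_zero (m : HomogeneousIdeal 𝒜) : BC (k := k) 𝒜 ℬ 𝒩 m 0 := by
  intro M _ _ _ _ ℳ _ _ _ EM EX _ _
  let e1 : (EM.H m 0) ⊗[k] N ≃ₗ[R ⊗[k] S] ↥(gam m.toIdeal M) ⊗[k] N :=
    congrA (k := k) (S := S) N (h0Equiv EM m).symm
  let e2 := gamTensorEquiv (k := k) (S := S) (M := M) N m.toIdeal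
  let e3 : ↥(gam (extIdeal (k := k) (S := S) m.toIdeal) (M ⊗[k] N)) ≃ₗ[R ⊗[k] S]
      EX.H (extL (k := k) 𝒜 ℬ m) 0 := h0Equiv EX (extL (k := k) 𝒜 ℬ m)
  refine ⟨e1 ≪≫ₗ e2 ≪≫ₗ e3, ?_, ?_⟩
  · apply map_biGr_mem_of_tmul (EM.Hgr m 0) 𝒩 (EX.Hgr (extL (k := k) 𝒜 ℬ m) 0)
      ((e1 ≪≫ₗ e2 ≪≫ₗ e3 : _ ≃ₗ[R ⊗[k] S] _) : _ →ₗ[R ⊗[k] S] _)
      (fun p c y hy => Hgr_algebraMap_smul_mem 𝒜 ℬ EX _ 0 p c y hy)
    intro d e a b ha hb
    obtain ⟨x, hx, rfl⟩ := exists_h0_eq EM m ha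
    have h1 : e1 (h0 EM m x ⊗ₜ[k] b) = x ⊗ₜ[k] b := by
      change mapL (k := k) (S := S) N (h0Equiv EM m).symm.toLinearMap (h0 EM m x ⊗ₜ[k] b) = _
      rw [mapA_tmul]
      congr 1
      exact (h0Equiv EM m).symm_apply_apply x
    change e3 (e2 (e1 (h0 EM m x ⊗ₜ[k] b))) ∈ _
    rw [h1]
    apply h0_mem EX (extL (k := k) 𝒜 ℬ m)
    change (gamTensorEquiv (k := k) (S := S) N m.toIdeal (x ⊗ₜ[k] b) : M ⊗[k] N) ∈ _
    rw [gamTensorEquiv_coe, mapA_tmul]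
    exact tmul_mem_biGr ℳ 𝒩 hx hb
  · intro p y hy
    obtain ⟨z, hz, rfl⟩ := exists_h0_eq EX (extL (k := k) 𝒜 ℬ m) hy
    obtain ⟨w, hw, hwz⟩ := exists_gamTensorEquiv_eq 𝒜 ℳ 𝒩 m z hz
    refine ⟨e1.symm w, ?_, ?_⟩
    · change mapL (k := k) (S := S) N (h0Equiv EM m).symm.symm.toLinearMap w ∈ _
      refine mapL_isGrHom ?_ p w hw
      intro j x hx
      exact h0_mem EM m x hx
    · change e3 (e2 (e1 (e1.symm w))) = _
      rw [LinearEquiv.apply_symm_apply]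
      change h0 EX (extL (k := k) 𝒜 ℬ m) (gamTensorEquiv (k := k) (S := S) N m.toIdeal w) = _
      rw [hwz]

end BC

end Groth.Agent.Lib.Helper11.Seg
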