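import Groth.Agent.Lib.Helper11.GrCompB
import Groth.Agent.Lib.Helper11.GrSegK
import Groth.Agent.Lib.Helper11.GrLCHull2

/-!
# The composite `Γ_a ∘ Γ_b` when `H^•_b(X)` is concentrated in one degree
-/

set_option autoImplicit false
set_option linter.unusedSectionVars false
set_option linter.unusedVariables false
set_option linter.style.haveILetI false
set_option maxHeartbeats 1000000
universe u

namespace Groth.Agent.Lib.Helper11.GrComp

open DirectSum GrLC Groth.Agent.Lib.Helper11.GrLCLib Groth.Agent.Lib.Helper11.GrLes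
  Groth.Agent.Lib.Helper11.GrMV Groth.Agent.Lib.Helper11.GrShift Groth.Agent.Lib.Helper11.Seg

variable {ι : Type} [DecidableEq ι] [AddCommGroup ι]
variable {R : Type u} [CommRing R] {𝒜 : ι → AddSubgroup R} [GradedRing 𝒜]

section ShiftAll

variable {N : Type u} [AddCommGroup N] [Module R N] {𝒩 : ι → AddSubgroup N}
  [DirectSum.Decomposition 𝒩] [SetLike.GradedSMul 𝒜 𝒩]
variable {A : Type u} [AddCommGroup A] [Module R A] {𝒳 : ι → AddSubgroup A}
  [DirectSum.Decomposition 𝒳] [SetLike.GradedSMul 𝒜 𝒳]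
variable {Z : Type u} [AddCommGroup Z] [Module R Z] {𝒵 : ι → AddSubgroup Z}
  [DirectSum.Decomposition 𝒵] [SetLike.GradedSMul 𝒜 𝒵]

/-- Dimension shift in all degrees along `0 → N → A → Z → 0` with `A` acyclic and
`Γ_c(A) = 0`. -/
theorem exists_shift_all (G : StarInjRes 𝒜 𝒩) (GA : StarInjRes 𝒜 𝒳) (GZ : StarInjRes 𝒜 𝒵)
    (u : N →ₗ[R] A) (v : A →ₗ[R] Z) (hu : IsGrHom 𝒩 𝒳 u) (hv : IsGrHom 𝒳 𝒵 v)
    (hui : Function.Injective u) (hvs : Function.Surjective v)
    (hex : LinearMap.ker v = LinearMap.range u) (c : HomogeneousIdeal 𝒜)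
    (hac : ∀ p, Subsingleton (GA.H c (p + 1))) (hΓ : gam c.toIdeal A = ⊥) :
    Subsingleton (G.H c 0) ∧
    ∀ j : ℕ, ∃ e : GZ.H c j ≃ₗ[R] G.H c (j + 1),
      (∀ g x, x ∈ GZ.Hcomp c j g → e x ∈ G.Hcomp c (j + 1) g) ∧
      (∀ g y, y ∈ G.Hcomp c (j + 1) g → e.symm y ∈ GZ.Hcomp c j g) := by
  obtain ⟨hshift, σ, hσs, hσk, hσg, hσg'⟩ := exists_shift G GA GZ u v hu hv hui hvs hex c hac
  constructor
  · have h1 : Subsingleton ↥(gam c.toIdeal N) := by
      refine ⟨fun x y => ?_⟩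
      have hx : u (x : N) = 0 := (Submodule.mem_bot R).mp (hΓ.le (map_mem_gam u c.toIdeal x.2))
      have hy : u (y : N) = 0 := (Submodule.mem_bot R).mp (hΓ.le (map_mem_gam u c.toIdeal y.2))
      apply Subtype.ext
      apply hui
      rw [hx, hy]
    exact (h0Equiv G c).symm.injective.subsingleton
  · intro j
    rcases j with _ | p
    · have hσi : Function.Injective σ := by
        rw [injective_iff_map_eq_zero]
        intro z hz
        obtain ⟨x, hx⟩ := (hσk z).mp hz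
        have hx0 : (x : A) = 0 := (Submodule.mem_bot R).mp (hΓ.le x.2)
        apply Subtype.ext
        rw [← hx, hx0, map_zero]
        rfl
      let σe := LinearEquiv.ofBijective σ ⟨hσi, hσs⟩
      refine ⟨(h0Equiv GZ c).symm.trans σe, ?_, ?_⟩
      · intro g x hx
        obtain ⟨z, hz, rfl⟩ := exists_h0_eq GZ c hx
        have : ((h0Equiv GZ c).symm.trans σe) (h0 GZ c z) = σ z := by
          change σ ((h0Equiv GZ c).symm (h0Equiv GZ c z)) = σ z
          rw [LinearEquiv.symm_apply_apply]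
        rw [this]
        exact hσg g z hz
      · intro g y hy
        obtain ⟨z, hz, rfl⟩ := hσg' g y hy
        have : ((h0Equiv GZ c).symm.trans σe).symm (σ z) = h0 GZ c z := by
          change (h0Equiv GZ c) (σe.symm (σe z)) = h0 GZ c z
          rw [LinearEquiv.symm_apply_apply]
          rfl
        rw [this]
        exact h0_mem GZ c z hz
    · exact hshift p

end ShiftAll

section Composite

variable [IsNoetherianRing R]

/-- the statement of `composite_one` for a fixed `s`. -/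
def CompStmt (a b : HomogeneousIdeal 𝒜) (s : ℕ) : Prop :=
  ∀ (X : Type u) [AddCommGroup X] [Module R X] (𝒳 : ι → AddSubgroup X)
    [DirectSum.Decomposition 𝒳] [SetLike.GradedSMul 𝒜 𝒳] (E : StarInjRes 𝒜 𝒳)
    (_ : ∀ j, j ≠ s → Subsingleton (E.H b j))
    (Y : Type u) [AddCommGroup Y] [Module R Y] (𝒴 : ι → AddSubgroup Y)
    [DirectSum.Decomposition 𝒴] [SetLike.GradedSMul 𝒜 𝒴]
    (θ : E.H b s ≃ₗ[R] Y) (_ : ∀ g x, x ∈ E.Hcomp b s g → θ x ∈ 𝒴 g)
    (_ : ∀ g y, y ∈ 𝒴 g → θ.symm y ∈ E.Hcomp b s g) (G : StarInjRes 𝒜 𝒴),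
    (∀ q, q < s → Subsingleton (E.H (a ⊔ b) q)) ∧
    ∀ n q, n = s + q → ∃ e : E.H (a ⊔ b) n ≃ₗ[R] G.H a q,
      (∀ g x, x ∈ E.Hcomp (a ⊔ b) n g → e x ∈ G.Hcomp a q g) ∧
      (∀ g y, y ∈ G.Hcomp a q g → e.symm y ∈ E.Hcomp (a ⊔ b) n g)

theorem compStmt_zero (a b : HomogeneousIdeal 𝒜) : CompStmt a b 0 := by
  intro X _ _ 𝒳 _ _ E hE Y _ _ 𝒴 _ _ θ hθ hθ' G
  refine ⟨fun q hq => absurd hq (Nat.not_lt_zero q), ?_⟩
  intro n q hn
  rw [Nat.zero_add] at hn
  subst hn
  have hac : ∀ p, Subsingleton (E.H b (p + 1)) := fun p => hE (p + 1) (Nat.succ_ne_zero p)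
  -- `Γ_b(X) ≅ Y`
  let e0 : ↥(gam b.toIdeal X) ≃ₗ[R] Y := (h0Equiv E b).trans θ
  have he0 : IsGrHom (gamGMod 𝒳 b).gr 𝒴 e0.toLinearMap := by
    intro g x hx
    exact hθ g _ (h0_mem E b x hx)
  obtain ⟨φ, hφ, hφ'⟩ := exists_H_equiv_of_iso (gamRes E b hac) G e0 he0 a n
  refine ⟨(compEquiv E a b hac n).symm.trans φ, ?_, ?_⟩
  · intro g x hx
    exact hφ g _ (compEquiv_symm_mem E a b hac n hx)
  · intro g y hy
    exact compEquiv_mem E a b hac n (hφ' g y hy)

theorem compStmt_succ (a b : HomogeneousIdeal 𝒜) (s : ℕ) (ih : CompStmt a b s) :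
    CompStmt a b (s + 1) := by
  intro X _ _ 𝒳 _ _ E hE Y _ _ 𝒴 _ _ θ hθ hθ' G
  -- the *injective hull of `X`
  obtain ⟨Q, f, hf⟩ := exists_isStarInjHull 𝒜 𝒳
  have hfr : (LinearMap.range f).IsHomogeneous Q.gr := range_isHomogeneous 𝒳 Q.gr hf.grHom
  -- `Γ_b(X) = 0`
  have hΓX : gam b.toIdeal X = ⊥ := by
    have h1 : Subsingleton (E.H b 0) := hE 0 (Nat.succ_ne_zero s).symm
    have h2 : Subsingleton ↥(gam b.toIdeal X) := (h0Equiv E b).injective.subsingleton
    rw [eq_bot_iff]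
    intro x hx
    have := h2.elim ⟨x, hx⟩ 0
    exact (Submodule.mem_bot R).mpr (congrArg Subtype.val this)
  -- `Γ_b(Q) = 0`
  have hΓQ : gam b.toIdeal Q.carrier = ⊥ := by
    by_contra hne
    apply hf.essential _ (gam_isHomogeneous 𝒜 Q.gr b) hne
    rw [eq_bot_iff]
    rintro y ⟨hy1, x, rfl⟩
    have hx : x ∈ gam b.toIdeal X := by
      obtain ⟨n, hn⟩ := hy1
      refine ⟨n, fun r hr => ?_⟩
      apply hf.injective
      rw [map_smul, hn r hr, map_zero]
    rw [hΓX, Submodule.mem_bot] at hx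
    rw [hx, map_zero]
    exact zero_mem _
  have hΓQ' : gam (a ⊔ b).toIdeal Q.carrier = ⊥ := by
    rw [eq_bot_iff, ← hΓQ]
    apply gam_anti
    rw [HomogeneousIdeal.toIdeal_sup]
    exact le_sup_right
  -- the quotient
  letI := quotDecomposition Q.gr (LinearMap.range f) hfr
  let v : Q.carrier →ₗ[R] (Q.carrier ⧸ LinearMap.range f) := (LinearMap.range f).mkQ
  have hv : IsGrHom Q.gr (quotGrM Q.gr (LinearMap.range f)) v :=
    mkQ_isGrHom Q.gr (LinearMap.range f)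
  have hvs : Function.Surjective v := Submodule.mkQ_surjective _
  have hex : LinearMap.ker v = LinearMap.range f := Submodule.ker_mkQ _
  obtain ⟨GQ⟩ := nonempty_starInjRes 𝒜 Q.gr
  obtain ⟨GZ⟩ := nonempty_starInjRes 𝒜 (quotGrM Q.gr (LinearMap.range f))
  have hacb : ∀ p, Subsingleton (GQ.H b (p + 1)) :=
    fun p => subsingleton_H_of_isStarInj' hf.starInj GQ b p
  have hacs : ∀ p, Subsingleton (GQ.H (a ⊔ b) (p + 1)) :=
    fun p => subsingleton_H_of_isStarInj' hf.starInj GQ (a ⊔ b) p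
  obtain ⟨-, hsb⟩ := exists_shift_all E GQ GZ f v hf.grHom hv hf.injective hvs hex b hacb hΓQ
  obtain ⟨hs0, hss⟩ := exists_shift_all E GQ GZ f v hf.grHom hv hf.injective hvs hex (a ⊔ b)
    hacs hΓQ'
  -- hypotheses for `Z`
  have hEZ : ∀ j, j ≠ s → Subsingleton (GZ.H b j) := by
    intro j hj
    obtain ⟨e, -, -⟩ := hsb j
    have := hE (j + 1) (fun h => hj (Nat.succ_injective h))
    exact e.injective.subsingleton
  obtain ⟨eb, heb, heb'⟩ := hsb s
  obtain ⟨hlow, hall⟩ := ih (Q.carrier ⧸ LinearMap.range f) (quotGrM Q.gr (LinearMap.range f)) GZ hEZ Y 𝒴 (eb.trans θ)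
    (fun g x hx => hθ g _ (heb g x hx)) (fun g y hy => heb' g _ (hθ' g y hy)) G
  constructor
  · intro q hq
    rcases q with _ | q
    · exact hs0
    · obtain ⟨e, -, -⟩ := hss q
      have := hlow q (Nat.lt_of_succ_lt_succ hq)
      exact e.symm.injective.subsingleton
  · intro n q hn
    obtain ⟨e1, he1, he1'⟩ := hss (s + q)
    obtain ⟨e2, he2, he2'⟩ := hall (s + q) q rfl
    have hn' : n = s + q + 1 := by omega
    subst hn'
    refine ⟨e1.symm.trans e2, ?_, ?_⟩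
    · intro g x hx
      exact he2 g _ (he1' g x hx)
    · intro g y hy
      exact he1 g _ (he2' g y hy)

/-- **Composite of torsion functors.**  If `H^j_b(X) = 0` for `j ≠ s`, then
`H^q_{a+b}(X) = 0` for `q < s` and `H^{s+q}_{a+b}(X) ≅ H^q_a(H^s_b(X))`. -/
theorem composite_one (a b : HomogeneousIdeal 𝒜) : ∀ s, CompStmt a b s
  | 0 => compStmt_zero a b
  | s + 1 => compStmt_succ a b s (composite_one a b s)

end Composite

end Groth.Agent.Lib.Helper11.GrComp
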