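import Groth.Agent.Lib.Helper11.GrCompC
import Groth.Agent.Lib27.LD1

/-!
# The top corner of the composite `Γ_a ∘ Γ_b`:
`H^{s+r}_{a+b}(X) ≅ H^r_a(H^s_b(X))` when `H^j_b(X) = 0` for `j > s` and `cd_a ≤ r`, `r ≥ 1`.
-/

set_option autoImplicit false
set_option linter.unusedSectionVars false
set_option linter.unusedVariables false
set_option linter.style.haveILetI false
set_option maxHeartbeats 1000000
universe u

namespace Groth.Agent.Lib.Helper11.GrComp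

open DirectSum GrLC Groth.Agent.Lib.Helper11.GrLCLib Groth.Agent.Lib.Helper11.GrLes
  Groth.Agent.Lib.Helper11.GrMV Groth.Agent.Lib.Helper11.GrShift Groth.Agent.Lib.Helper11.Seg
  Groth.Agent.Lib27.LD

variable {ι : Type} [DecidableEq ι] [AddCommGroup ι]
variable {R : Type u} [CommRing R] {𝒜 : ι → AddSubgroup R} [GradedRing 𝒜] [IsNoetherianRing R]

/-- graded cohomological dimension bound: `*H^i_a` vanishes above `r` on all graded modules. -/
def CdLE (a : HomogeneousIdeal 𝒜) (r : ℕ) : Prop :=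
  ∀ (W : Type u) [AddCommGroup W] [Module R W] (𝒲 : ι → AddSubgroup W)
    [DirectSum.Decomposition 𝒲] [SetLike.GradedSMul 𝒜 𝒲] (GW : StarInjRes 𝒜 𝒲) (i : ℕ),
    r < i → Subsingleton (GW.H a i)

section RE

variable {M : Type u} [AddCommGroup M] [Module R M] {ℳ : ι → AddSubgroup M}
  [DirectSum.Decomposition ℳ] [SetLike.GradedSMul 𝒜 ℳ]
variable {M' : Type u} [AddCommGroup M'] [Module R M'] {ℳ' : ι → AddSubgroup M'}
  [DirectSum.Decomposition ℳ'] [SetLike.GradedSMul 𝒜 ℳ']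
variable {M'' : Type u} [AddCommGroup M''] [Module R M''] {ℳ'' : ι → AddSubgroup M''}
  [DirectSum.Decomposition ℳ''] [SetLike.GradedSMul 𝒜 ℳ'']

/-- If `M' → M → M'' → 0` is exact, `cd_a ≤ r` and `H^r_a(M') = 0`, then
`H^r_a(M) ≅ H^r_a(M'')`. -/
theorem exists_equiv_of_surjective (EA : StarInjRes 𝒜 ℳ') (EB : StarInjRes 𝒜 ℳ)
    (EC : StarInjRes 𝒜 ℳ'') (f : M' →ₗ[R] M) (g : M →ₗ[R] M'') (hf : IsGrHom ℳ' ℳ f)
    (hg : IsGrHom ℳ ℳ'' g) (hgs : Function.Surjective g)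
    (hex : LinearMap.ker g = LinearMap.range f) (a : HomogeneousIdeal 𝒜) (r : ℕ)
    (hcd : CdLE a r) (h0 : Subsingleton (EA.H a r)) :
    ∃ e : EB.H a r ≃ₗ[R] EC.H a r,
      (∀ j x, x ∈ EB.Hcomp a r j → e x ∈ EC.Hcomp a r j) ∧
      (∀ j y, y ∈ EC.Hcomp a r j → e.symm y ∈ EB.Hcomp a r j) := by
  have hf0 : IsGrHomDeg ℳ' ℳ f 0 := (isGrHomDeg_zero_iff ℳ' ℳ).mpr hf
  have hg0 : IsGrHomDeg ℳ ℳ'' g 0 := (isGrHomDeg_zero_iff ℳ ℳ'').mpr hg
  obtain ⟨hs, hk⟩ := re EA EB EC f g hf0 hg0 hgs hex a r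
    (fun X _ _ 𝒳 _ _ EX => hcd X 𝒳 EX (r + 1) (Nat.lt_succ_self r))
  have hinj : Function.Injective (Hm EB EC a r g 0 hg0) := by
    rw [injective_iff_map_eq_zero]
    intro y hy
    obtain ⟨x, rfl⟩ := hk y hy
    rw [h0.elim x 0, map_zero]
  let e : EB.H a r ≃ₗ[R] EC.H a r := LinearEquiv.ofBijective (Hm EB EC a r g 0 hg0) ⟨hinj, hs⟩
  have he : ∀ j x, x ∈ EB.Hcomp a r j → e x ∈ EC.Hcomp a r j := by
    intro j x hx
    have h1 : Hm EB EC a r g 0 hg0 x ∈ EC.Hgr a r (j + 0) := Hm_mem hg0 hx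
    rw [add_zero] at h1
    exact h1
  exact ⟨e, he, symm_mem_Hcomp EB EC a r r e he⟩

end RE

section Top

/-- the statement of `composite_top` for fixed `r`, `s`. -/
def TopStmt (a b : HomogeneousIdeal 𝒜) (r s : ℕ) : Prop :=
  ∀ (X : Type u) [AddCommGroup X] [Module R X] (𝒳 : ι → AddSubgroup X)
    [DirectSum.Decomposition 𝒳] [SetLike.GradedSMul 𝒜 𝒳] (E : StarInjRes 𝒜 𝒳)
    (_ : ∀ j, s < j → Subsingleton (E.H b j))
    (Y : Type u) [AddCommGroup Y] [Module R Y] (𝒴 : ι → AddSubgroup Y)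
    [DirectSum.Decomposition 𝒴] [SetLike.GradedSMul 𝒜 𝒴]
    (θ : E.H b s ≃ₗ[R] Y) (_ : ∀ g x, x ∈ E.Hcomp b s g → θ x ∈ 𝒴 g)
    (_ : ∀ g y, y ∈ 𝒴 g → θ.symm y ∈ E.Hcomp b s g) (G : StarInjRes 𝒜 𝒴),
    ∀ n, n = s + r → ∃ e : E.H (a ⊔ b) n ≃ₗ[R] G.H a r,
      (∀ g x, x ∈ E.Hcomp (a ⊔ b) n g → e x ∈ G.Hcomp a r g) ∧
      (∀ g y, y ∈ G.Hcomp a r g → e.symm y ∈ E.Hcomp (a ⊔ b) n g)

theorem topStmt_zero (a b : HomogeneousIdeal 𝒜) (r : ℕ) : TopStmt a b r 0 := by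
  intro X _ _ 𝒳 _ _ E hE Y _ _ 𝒴 _ _ θ hθ hθ' G n hn
  exact (compStmt_zero a b X 𝒳 E (fun j hj => hE j (Nat.pos_of_ne_zero hj)) Y 𝒴 θ hθ hθ' G).2
    n r hn

theorem topStmt_one (a b : HomogeneousIdeal 𝒜) (r : ℕ) (hcd : CdLE a (r + 1)) :
    TopStmt a b (r + 1) 1 := by
  intro X _ _ 𝒳 _ _ E hE Y _ _ 𝒴 _ _ θ hθ hθ' G n hn
  -- the *injective hull of `X`
  obtain ⟨Q, f, hf⟩ := exists_isStarInjHull 𝒜 𝒳
  have hfr : (LinearMap.range f).IsHomogeneous Q.gr := range_isHomogeneous 𝒳 Q.gr hf.grHom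
  letI := quotDecomposition Q.gr (LinearMap.range f) hfr
  let v : Q.carrier →ₗ[R] (Q.carrier ⧸ LinearMap.range f) := (LinearMap.range f).mkQ
  have hv : IsGrHom Q.gr (quotGrM Q.gr (LinearMap.range f)) v :=
    mkQ_isGrHom Q.gr (LinearMap.range f)
  have hvs : Function.Surjective v := Submodule.mkQ_surjective _
  have hex : LinearMap.ker v = LinearMap.range f := Submodule.ker_mkQ _
  obtain ⟨GQ⟩ := nonempty_starInjRes 𝒜 Q.gr
  obtain ⟨GZ⟩ := nonempty_starInjRes 𝒜 (quotGrM Q.gr (LinearMap.range f))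
  have hacb : ∀ p, Subsingleton (GQ.H b (p + 1)) :=
    fun p => subsingleton_H_of_isStarInj' hf.starInj GQ b p
  have hacs : ∀ p, Subsingleton (GQ.H (a ⊔ b) (p + 1)) :=
    fun p => subsingleton_H_of_isStarInj' hf.starInj GQ (a ⊔ b) p
  obtain ⟨hshb, σ, hσs, hσk, hσg, hσg'⟩ :=
    exists_shift E GQ GZ f v hf.grHom hv hf.injective hvs hex b hacb
  obtain ⟨hshs, -⟩ := exists_shift E GQ GZ f v hf.grHom hv hf.injective hvs hex (a ⊔ b) hacs
  -- `Z` is `Γ_b`-acyclic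
  have hZ0 : ∀ j, j ≠ 0 → Subsingleton (GZ.H b j) := by
    intro j hj
    obtain ⟨p, rfl⟩ : ∃ p, j = p + 1 := ⟨j - 1, by omega⟩
    obtain ⟨e, -, -⟩ := hshb p
    have := hE (p + 2) (by omega)
    exact e.injective.subsingleton
  -- `W = Γ_b(Z)`
  obtain ⟨GW⟩ := nonempty_starInjRes 𝒜 (gamGMod (quotGrM Q.gr (LinearMap.range f)) b).gr
  obtain ⟨e2, he2, he2'⟩ := (compStmt_zero a b (Q.carrier ⧸ LinearMap.range f)
    (quotGrM Q.gr (LinearMap.range f)) GZ hZ0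
    (gamGMod (quotGrM Q.gr (LinearMap.range f)) b).carrier
    (gamGMod (quotGrM Q.gr (LinearMap.range f)) b).gr (h0Equiv GZ b).symm
    (fun g x hx => by
      obtain ⟨z, hz, rfl⟩ := exists_h0_eq GZ b hx
      have : (h0Equiv GZ b).symm (h0 GZ b z) = z := by
        change (h0Equiv GZ b).symm (h0Equiv GZ b z) = z
        rw [LinearEquiv.symm_apply_apply]
      rw [this]
      exact hz)
    (fun g y hy => by
      rw [LinearEquiv.symm_symm]
      exact h0_mem GZ b y hy) GW).2 (r + 1) (r + 1) (Nat.zero_add _).symm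
  -- the surjection `W → Y`
  let g : ↥(gam b.toIdeal (Q.carrier ⧸ LinearMap.range f)) →ₗ[R] Y := θ.toLinearMap ∘ₗ σ
  have hg : IsGrHom (gamGMod (quotGrM Q.gr (LinearMap.range f)) b).gr 𝒴 g := by
    intro j z hz
    exact hθ j _ (hσg j z hz)
  have hgs : Function.Surjective g := θ.surjective.comp hσs
  let f' : ↥(gam b.toIdeal Q.carrier) →ₗ[R] ↥(gam b.toIdeal (Q.carrier ⧸ LinearMap.range f)) :=
    LinearMap.restrict v (fun x hx => map_mem_gam v b.toIdeal hx)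
  have hf' : IsGrHom (gamGMod Q.gr b).gr (gamGMod (quotGrM Q.gr (LinearMap.range f)) b).gr f' := by
    intro j x hx
    exact hv j _ hx
  have hex' : LinearMap.ker g = LinearMap.range f' := by
    ext z
    rw [LinearMap.mem_ker, LinearMap.mem_range]
    constructor
    · intro hz
      have h1 : σ z = 0 := by
        apply θ.injective
        rw [map_zero]
        exact hz
      obtain ⟨x, hx⟩ := (hσk z).mp h1
      exact ⟨x, Subtype.ext hx⟩
    · rintro ⟨x, rfl⟩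
      have h1 : σ (f' x) = 0 := (hσk (f' x)).mpr ⟨x, rfl⟩
      change θ (σ (f' x)) = 0
      rw [h1, map_zero]
  obtain ⟨EA⟩ := nonempty_starInjRes 𝒜 (gamGMod Q.gr b).gr
  have h0 : Subsingleton (EA.H a (r + 1)) :=
    subsingleton_H_of_isStarInj'
      (Groth.Agent.Lib.Helper11.GrGor.isStarInj_gam 𝒜 Q.gr hf.starInj b) EA a r
  obtain ⟨e3, he3, he3'⟩ := exists_equiv_of_surjective EA GW G f' g hf' hg hgs hex' a (r + 1)
    hcd h0
  obtain ⟨e1, he1, he1'⟩ := hshs r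
  have hn' : n = r + 2 := by omega
  subst hn'
  refine ⟨e1.symm.trans (e2.trans e3), ?_, ?_⟩
  · intro j x hx
    exact he3 j _ (he2 j _ (he1' j x hx))
  · intro j y hy
    exact he1 j _ (he2' j _ (he3' j y hy))

theorem topStmt_succ (a b : HomogeneousIdeal 𝒜) (r s : ℕ) (ih : TopStmt a b r (s + 1)) :
    TopStmt a b r (s + 2) := by
  intro X _ _ 𝒳 _ _ E hE Y _ _ 𝒴 _ _ θ hθ hθ' G n hn
  obtain ⟨Q, f, hf⟩ := exists_isStarInjHull 𝒜 𝒳
  have hfr : (LinearMap.range f).IsHomogeneous Q.gr := range_isHomogeneous 𝒳 Q.gr hf.grHom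
  letI := quotDecomposition Q.gr (LinearMap.range f) hfr
  let v : Q.carrier →ₗ[R] (Q.carrier ⧸ LinearMap.range f) := (LinearMap.range f).mkQ
  have hv : IsGrHom Q.gr (quotGrM Q.gr (LinearMap.range f)) v :=
    mkQ_isGrHom Q.gr (LinearMap.range f)
  have hvs : Function.Surjective v := Submodule.mkQ_surjective _
  have hex : LinearMap.ker v = LinearMap.range f := Submodule.ker_mkQ _
  obtain ⟨GQ⟩ := nonempty_starInjRes 𝒜 Q.gr
  obtain ⟨GZ⟩ := nonempty_starInjRes 𝒜 (quotGrM Q.gr (LinearMap.range f))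
  have hacb : ∀ p, Subsingleton (GQ.H b (p + 1)) :=
    fun p => subsingleton_H_of_isStarInj' hf.starInj GQ b p
  have hacs : ∀ p, Subsingleton (GQ.H (a ⊔ b) (p + 1)) :=
    fun p => subsingleton_H_of_isStarInj' hf.starInj GQ (a ⊔ b) p
  obtain ⟨hshb, -⟩ := exists_shift E GQ GZ f v hf.grHom hv hf.injective hvs hex b hacb
  obtain ⟨hshs, -⟩ := exists_shift E GQ GZ f v hf.grHom hv hf.injective hvs hex (a ⊔ b) hacs
  have hEZ : ∀ j, s + 1 < j → Subsingleton (GZ.H b j) := by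
    intro j hj
    obtain ⟨p, rfl⟩ : ∃ p, j = p + 1 := ⟨j - 1, by omega⟩
    obtain ⟨e, -, -⟩ := hshb p
    have := hE (p + 2) (by omega)
    exact e.injective.subsingleton
  obtain ⟨eb, heb, heb'⟩ := hshb s
  obtain ⟨e2, he2, he2'⟩ := ih (Q.carrier ⧸ LinearMap.range f) (quotGrM Q.gr (LinearMap.range f))
    GZ hEZ Y 𝒴 (eb.trans θ) (fun g x hx => hθ g _ (heb g x hx))
    (fun g y hy => heb' g _ (hθ' g y hy)) G (s + r + 1) (by omega)
  obtain ⟨e1, he1, he1'⟩ := hshs (s + r)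
  have hn' : n = s + r + 2 := by omega
  subst hn'
  refine ⟨e1.symm.trans e2, ?_, ?_⟩
  · intro j x hx
    exact he2 j _ (he1' j x hx)
  · intro j y hy
    exact he1 j _ (he2' j y hy)

/-- **Top corner of the composite-functor spectral sequence.**  If `H^j_b(X) = 0` for `j > s`
and `*H^i_a = 0` for `i > r + 1` on all graded modules, then
`H^{s+r+1}_{a+b}(X) ≅ H^{r+1}_a(H^s_b(X))`. -/
theorem composite_top (a b : HomogeneousIdeal 𝒜) (r : ℕ) (hcd : CdLE a (r + 1)) :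
    ∀ s, TopStmt a b (r + 1) s
  | 0 => topStmt_zero a b (r + 1)
  | 1 => topStmt_one a b r hcd
  | s + 2 => topStmt_succ a b (r + 1) s (composite_top a b r hcd (s + 1))

end Top

end Groth.Agent.Lib.Helper11.GrComp
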