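import Groth.Agent.Lib.Helper11.GrConvB
import Groth.Agent.Lib.Helper11.GrLCRes

/-!
# Existence of *injective resolutions over `SetLike`-graded rings
-/

set_option autoImplicit false
set_option linter.unusedSectionVars false
set_option linter.style.haveILetI false
universe u

namespace Groth.Agent.Lib.Helper11.GrConv

open DirectSum GrLC Groth.Agent.Lib.Helper11.GrLCLib

variable {ι : Type} [DecidableEq ι] [AddCommGroup ι]
variable {R : Type u} [CommRing R] {σ : Type u} [SetLike σ R] [AddSubgroupClass σ R]
  (𝒜 : ι → σ) [GradedRing 𝒜]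

attribute [local instance] convGradedRing

variable {M : Type u} [AddCommGroup M] [Module R M]
variable {τ : Type u} [SetLike τ M] [AddSubgroupClass τ M] (ℳ : ι → τ)
  [DirectSum.Decomposition ℳ] [SetLike.GradedSMul 𝒜 ℳ]
  [DirectSum.Decomposition (conv ℳ)] [SetLike.GradedSMul (conv 𝒜) (conv ℳ)]

/-- convert a *injective resolution back. -/
noncomputable def resUnconv (E : StarInjRes (conv 𝒜) (conv ℳ)) : StarInjRes 𝒜 ℳ where
  X n := gmodUnconv 𝒜 (E.X n)
  d n := E.d n
  ε := E.ε
  d_grHom n := E.d_grHom n
  ε_grHom := E.ε_grHom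
  ε_injective := E.ε_injective
  exact_zero := E.exact_zero
  exact_succ n := E.exact_succ n
  starInj n := by
    letI : SetLike.GradedSMul 𝒜 (E.X n).gr := unconvGradedSMul_left 𝒜 (E.X n).gr
    exact isStarInj_unconv 𝒜 (E.X n).gr (E.starInj n)

end Groth.Agent.Lib.Helper11.GrConv
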