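import Groth.Agent.Lib.Helper11.GrMVB

/-!
# Exactness of the Mayer–Vietoris sequence for graded local cohomology
-/

set_option autoImplicit false
set_option linter.unusedSectionVars false
set_option linter.unusedVariables false
set_option linter.style.haveILetI false
universe u

namespace Groth.Agent.Lib.Helper11.GrMV

open DirectSum GrLC Groth.Agent.Lib.Helper11.GrLCLib Groth.Agent.Lib.Helper11.GrLes

variable {ι : Type} [DecidableEq ι] [AddCommGroup ι]
variable {R : Type u} [CommRing R] [IsNoetherianRing R] {𝒜 : ι → AddSubgroup R} [GradedRing 𝒜]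
variable {M : Type u} [AddCommGroup M] [Module R M] {ℳ : ι → AddSubgroup M}
  [DirectSum.Decomposition ℳ] [SetLike.GradedSMul 𝒜 ℳ]
variable (E : StarInjRes 𝒜 ℳ) (a b : HomogeneousIdeal 𝒜)

theorem mvβ_mvα (q : ℕ) (x : E.H (a ⊔ b) q) : mvβ E a b q (mvα E a b q x) = 0 := by
  obtain ⟨z, rfl⟩ := toH_surjective E (a ⊔ b) q x
  rw [mvα_toH, mvβ_toH, sub_self, map_zero]

theorem ker_mvβ (q : ℕ) : LinearMap.ker (mvβ E a b q) = LinearMap.range (mvα E a b q) := by
  apply le_antisymm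
  · rintro ⟨x, y⟩ hxy
    obtain ⟨x, rfl⟩ := toH_surjective E a q x
    obtain ⟨y, rfl⟩ := toH_surjective E b q y
    rw [LinearMap.mem_ker, mvβ_toH, toH_eq_zero_iff] at hxy
    have hx := (mem_cocyc E a q x).mp x.2
    have hy := (mem_cocyc E b q y).mp y.2
    change (x : (E.X q).carrier) - (y : (E.X q).carrier) ∈ E.cobdy (a ⊓ b) q at hxy
    cases q with
    | zero =>
      rw [mem_cobdy_zero, sub_eq_zero] at hxy
      have hz : (x : (E.X 0).carrier) ∈ E.cocyc (a ⊔ b) 0 := by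
        rw [mem_cocyc, mem_gam_sup_iff]
        exact ⟨⟨hx.1, hxy ▸ hy.1⟩, hx.2⟩
      refine ⟨E.toH (a ⊔ b) 0 ⟨x, hz⟩, ?_⟩
      rw [mvα_toH]
      refine Prod.ext rfl ?_
      change E.toH b 0 _ = E.toH b 0 y
      congr 1
      exact Subtype.ext hxy
    | succ n =>
      rw [mem_cobdy_succ] at hxy
      obtain ⟨w, hw, hwxy⟩ := hxy
      set wa := ρ E a b n w with hwa
      have hwa_mem : wa ∈ gam a.toIdeal (E.X n).carrier := ρ_mem E a b n w
      have hwb_mem : w - wa ∈ gam b.toIdeal (E.X n).carrier := sub_ρ_mem E a b n hw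
      set z : (E.X (n + 1)).carrier := (x : (E.X (n + 1)).carrier) - E.d n wa with hz
      have hz' : z = (y : (E.X (n + 1)).carrier) + E.d n (w - wa) := by
        rw [hz, map_sub, hwxy]; abel
      have hzc : z ∈ E.cocyc (a ⊔ b) (n + 1) := by
        rw [mem_cocyc, mem_gam_sup_iff]
        refine ⟨⟨sub_mem hx.1 (d_mem_gam E a n hwa_mem), ?_⟩, ?_⟩
        · rw [hz']
          exact add_mem hy.1 (d_mem_gam E b n hwb_mem)
        · rw [hz, map_sub, hx.2, ConeData.d_d_apply, sub_zero]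
      refine ⟨E.toH (a ⊔ b) (n + 1) ⟨z, hzc⟩, ?_⟩
      rw [mvα_toH]
      refine Prod.ext ?_ ?_
      · change E.toH a (n + 1) _ = E.toH a (n + 1) x
        rw [ConeData.toH_eq_toH_iff, mem_cobdy_succ]
        refine ⟨-wa, neg_mem hwa_mem, ?_⟩
        change E.d n (-wa) = z - (x : (E.X (n + 1)).carrier)
        rw [hz, map_neg]; abel
      · change E.toH b (n + 1) _ = E.toH b (n + 1) y
        rw [ConeData.toH_eq_toH_iff, mem_cobdy_succ]
        refine ⟨w - wa, hwb_mem, ?_⟩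
        change E.d n (w - wa) = z - (y : (E.X (n + 1)).carrier)
        rw [hz']; abel
  · rintro _ ⟨x, rfl⟩
    exact mvβ_mvα E a b q x

theorem mvδ_mvβ (q : ℕ) (x : E.H a q × E.H b q) : mvδ E a b q (mvβ E a b q x) = 0 := by
  obtain ⟨x, y⟩ := x
  obtain ⟨x, rfl⟩ := toH_surjective E a q x
  obtain ⟨y, rfl⟩ := toH_surjective E b q y
  have hx := (mem_cocyc E a q x).mp x.2
  have hy := (mem_cocyc E b q y).mp y.2
  rw [mvβ_toH, mvδ_toH, toH_eq_zero_iff, δcocyc_coe, mem_cobdy_succ]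
  refine ⟨-ρ E a b q y, neg_mem (ρ_mem_sup E a b q hy.1), ?_⟩
  change E.d q (-ρ E a b q y) =
    E.d q (ρ E a b q ((x : (E.X q).carrier) - (y : (E.X q).carrier)))
  rw [map_sub, ρ_of_mem E a b q hx.1, map_sub, hx.2, zero_sub, map_neg]

theorem ker_mvδ (q : ℕ) : LinearMap.ker (mvδ E a b q) = LinearMap.range (mvβ E a b q) := by
  apply le_antisymm
  · intro z hz
    obtain ⟨z, rfl⟩ := toH_surjective E (a ⊓ b) q z
    have hzc := (mem_cocyc E (a ⊓ b) q z).mp z.2
    rw [LinearMap.mem_ker, mvδ_toH, toH_eq_zero_iff, δcocyc_coe, mem_cobdy_succ] at hz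
    obtain ⟨u, hu, hud⟩ := hz
    have hu' := (mem_gam_sup_iff E a b q u).mp hu
    set x : (E.X q).carrier := ρ E a b q z - u with hx
    set y : (E.X q).carrier := x - (z : (E.X q).carrier) with hy
    have hxc : x ∈ E.cocyc a q := by
      rw [mem_cocyc]
      refine ⟨sub_mem (ρ_mem E a b q z) hu'.1, ?_⟩
      rw [hx, map_sub, hud, sub_self]
    have hyc : y ∈ E.cocyc b q := by
      rw [mem_cocyc]
      constructor
      · have h1 := sub_ρ_mem E a b q hzc.1
        have : y = -((z : (E.X q).carrier) - ρ E a b q z) - u := by rw [hy, hx]; abel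
        rw [this]
        exact sub_mem (neg_mem h1) hu'.2
      · rw [hy, map_sub, ((mem_cocyc E a q x).mp hxc).2, hzc.2, sub_zero]
    refine ⟨(E.toH a q ⟨x, hxc⟩, E.toH b q ⟨y, hyc⟩), ?_⟩
    rw [mvβ_toH]
    congr 1
    apply Subtype.ext
    change x - y = (z : (E.X q).carrier)
    rw [hy]; abel
  · rintro _ ⟨x, rfl⟩
    exact mvδ_mvβ E a b q x

theorem mvα_mvδ (q : ℕ) (z : E.H (a ⊓ b) q) : mvα E a b (q + 1) (mvδ E a b q z) = 0 := by
  obtain ⟨z, rfl⟩ := toH_surjective E (a ⊓ b) q z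
  have hzc := (mem_cocyc E (a ⊓ b) q z).mp z.2
  rw [mvδ_toH, mvα_toH]
  refine Prod.ext ?_ ?_
  · change E.toH a (q + 1) _ = 0
    rw [toH_eq_zero_iff, mem_cobdy_succ]
    exact ⟨ρ E a b q z, ρ_mem E a b q z, rfl⟩
  · change E.toH b (q + 1) _ = 0
    rw [toH_eq_zero_iff, mem_cobdy_succ]
    refine ⟨-((z : (E.X q).carrier) - ρ E a b q z), neg_mem (sub_ρ_mem E a b q hzc.1), ?_⟩
    change _ = E.d q (ρ E a b q z)
    rw [map_neg, map_sub, hzc.2, zero_sub, neg_neg]

theorem ker_mvα_succ (q : ℕ) :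
    LinearMap.ker (mvα E a b (q + 1)) = LinearMap.range (mvδ E a b q) := by
  apply le_antisymm
  · intro w hw
    obtain ⟨w, rfl⟩ := toH_surjective E (a ⊔ b) (q + 1) w
    rw [LinearMap.mem_ker, mvα_toH, Prod.mk_eq_zero] at hw
    obtain ⟨h1, h2⟩ := hw
    rw [toH_eq_zero_iff, mem_cobdy_succ] at h1 h2
    obtain ⟨x, hx, hxw⟩ := h1
    obtain ⟨y, hy, hyw⟩ := h2
    have hzc : x - y ∈ E.cocyc (a ⊓ b) q := by
      rw [mem_cocyc]
      refine ⟨sub_mem (gam_a_le_inf E a b q hx) (gam_b_le_inf E a b q hy), ?_⟩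
      rw [map_sub, hxw, hyw]
      exact sub_self _
    refine ⟨E.toH (a ⊓ b) q ⟨x - y, hzc⟩, ?_⟩
    rw [mvδ_toH, ConeData.toH_eq_toH_iff, δcocyc_coe, mem_cobdy_succ]
    refine ⟨-ρ E a b q y, neg_mem (ρ_mem_sup E a b q hy), ?_⟩
    change E.d q (-ρ E a b q y) = E.d q (ρ E a b q (x - y)) - (w : (E.X (q + 1)).carrier)
    rw [map_sub, ρ_of_mem E a b q hx, map_sub, hxw, map_neg]
    change _ = (w : (E.X (q + 1)).carrier) - _ - (w : (E.X (q + 1)).carrier)
    abel
  · rintro _ ⟨x, rfl⟩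
    exact mvα_mvδ E a b q x

theorem mvα_zero_injective : Function.Injective (mvα E a b 0) := by
  rw [injective_iff_map_eq_zero]
  intro w hw
  obtain ⟨w, rfl⟩ := toH_surjective E (a ⊔ b) 0 w
  rw [mvα_toH, Prod.mk_eq_zero] at hw
  rw [toH_eq_zero_iff, mem_cobdy_zero]
  have := hw.1
  rw [toH_eq_zero_iff, mem_cobdy_zero] at this
  exact this

end Groth.Agent.Lib.Helper11.GrMV
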