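import Groth.Agent.Lib.Helper11.GrVerG

/-!
# Graded local cohomology of Veronese-type submodules: main theorem
-/

set_option autoImplicit false
set_option linter.unusedSectionVars false
set_option linter.unusedVariables false
set_option linter.style.haveILetI false
universe u

namespace Groth.Agent.Lib.Helper11.GrVer

open DirectSum GrLC Groth.Agent.Lib.Helper11.GrLCLib Groth.Agent.Lib.Helper11.GrLes
  Groth.Agent.Lib.Helper11.GrShift

variable {ι ι' : Type} [DecidableEq ι] [AddCommGroup ι] [DecidableEq ι'] [AddCommGroup ι']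
variable {R : Type u} [CommRing R] {𝒜 : ι → AddSubgroup R} [GradedRing 𝒜]
variable {R' : Type u} [CommRing R'] {𝒜' : ι' → AddSubgroup R'} [GradedRing 𝒜']
variable {φ : R' →+* R} {ψ : ι' →+ ι}
variable {N : Type u} [AddCommGroup N] [Module R N] {𝒩 : ι → AddSubgroup N}
  [DirectSum.Decomposition 𝒩] [SetLike.GradedSMul 𝒜 𝒩]
variable {N' : Type u} [AddCommGroup N'] [Module R' N'] {𝒩' : ι' → AddSubgroup N'}
  [DirectSum.Decomposition 𝒩'] [SetLike.GradedSMul 𝒜' 𝒩']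

theorem cmp_step [IsNoetherianRing R] (hR : IsVerRing 𝒜 𝒜' φ ψ) (b : HomogeneousIdeal 𝒜)
    (b' : HomogeneousIdeal 𝒜')
    (h1 : b'.toIdeal.map φ ≤ b.toIdeal) (h2 : ∃ K, b.toIdeal ^ K ≤ b'.toIdeal.map φ)
    {g : N' →ₛₗ[φ] N} (hV : IsVer φ ψ 𝒩 𝒩' g) (E : StarInjRes 𝒜 𝒩) (F : StarInjRes 𝒜' 𝒩') :
    Cmp φ ψ b b' E F 1 ∧ ∀ p, Claim φ ψ b b' (p + 1) → Cmp φ ψ b b' E F (p + 2) := by
  have hmem : ∀ x, E.d 0 x ∈ LinearMap.ker (E.d 1) :=
    fun x => LinearMap.mem_ker.mpr (ConeData.d_d_apply E 0 x)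
  let v : (E.X 0).carrier →ₗ[R] (Z1 E).carrier :=
    LinearMap.codRestrict (LinearMap.ker (E.d 1)) (E.d 0) hmem
  refine cmp_step_aux hR b b' h1 h2 hV E F (Z1 E).gr v ?_ ?_ ?_
  · intro j x hx
    exact E.d_grHom 0 j x hx
  · rintro ⟨y, hy⟩
    rw [E.exact_succ 0] at hy
    obtain ⟨x, rfl⟩ := hy
    exact ⟨x, rfl⟩
  · rw [← E.exact_zero]
    exact LinearMap.ker_codRestrict (LinearMap.ker (E.d 1)) (E.d 0) hmem

theorem claim_all [IsNoetherianRing R] (hR : IsVerRing 𝒜 𝒜' φ ψ) (b : HomogeneousIdeal 𝒜)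
    (b' : HomogeneousIdeal 𝒜')
    (h1 : b'.toIdeal.map φ ≤ b.toIdeal) (h2 : ∃ K, b.toIdeal ^ K ≤ b'.toIdeal.map φ) :
    ∀ p, Claim φ ψ b b' p
  | 0 => fun N _ _ 𝒩 _ _ N' _ _ 𝒩' _ _ g hV E F => cmp_zero hR b b' h1 h2 hV E F
  | 1 => fun N _ _ 𝒩 _ _ N' _ _ 𝒩' _ _ g hV E F => (cmp_step hR b b' h1 h2 hV E F).1
  | p + 2 => fun N _ _ 𝒩 _ _ N' _ _ 𝒩' _ _ g hV E F =>
    (cmp_step hR b b' h1 h2 hV E F).2 p (claim_all hR b b' h1 h2 (p + 1))

/-- **Local cohomology of Veronese-type submodules**: the graded pieces have the same dimension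
over the degree-zero subrings. -/
theorem finrank_Hcomp_eq [IsNoetherianRing R] (hR : IsVerRing 𝒜 𝒜' φ ψ) (b : HomogeneousIdeal 𝒜)
    (b' : HomogeneousIdeal 𝒜')
    (h1 : b'.toIdeal.map φ ≤ b.toIdeal) (h2 : ∃ K, b.toIdeal ^ K ≤ b'.toIdeal.map φ)
    {g : N' →ₛₗ[φ] N} (hV : IsVer φ ψ 𝒩 𝒩' g) (E : StarInjRes 𝒜 𝒩) (F : StarInjRes 𝒜' 𝒩')
    (p : ℕ) (j : ι') :
    Module.finrank (deg0 𝒜') (F.Hcomp b' p j) = Module.finrank (deg0 𝒜) (E.Hcomp b p (ψ j)) := by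
  obtain ⟨Φ, hinj, hd, hd'⟩ := claim_all hR b b' h1 h2 p N 𝒩 N' 𝒩' g hV E F
  have h0mem : ∀ r : deg0 𝒜', φ (r : R') ∈ 𝒜 0 := by
    intro r
    have := hR.map_mem (show (r : R') ∈ 𝒜' 0 from r.2)
    rwa [map_zero] at this
  let i : deg0 𝒜' → deg0 𝒜 := fun r => ⟨φ (r : R'), h0mem r⟩
  have hi : Function.Bijective i := by
    constructor
    · intro r s hrs
      have : φ (r : R') = φ (s : R') := congrArg Subtype.val hrs
      exact Subtype.ext (hR.inj this)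
    · rintro ⟨s, hs⟩
      have hs' : s ∈ 𝒜 (ψ 0) := by rw [map_zero]; exact hs
      rw [← hR.deg 0] at hs'
      obtain ⟨r, hr, rfl⟩ := hs'
      exact ⟨⟨r, hr⟩, rfl⟩
  let jm : ↥(F.Hcomp b' p j) →+ ↥(E.Hcomp b p (ψ j)) :=
    { toFun := fun x => ⟨Φ (x : F.H b' p), hd j _ x.2⟩
      map_zero' := Subtype.ext (map_zero Φ)
      map_add' := fun x y => Subtype.ext (map_add Φ _ _) }
  have hjm : Function.Bijective jm := by
    constructor
    · intro x y hxy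
      have : Φ (x : F.H b' p) = Φ (y : F.H b' p) := congrArg Subtype.val hxy
      exact Subtype.ext (hinj this)
    · rintro ⟨y, hy⟩
      obtain ⟨x, hx, hxy⟩ := hd' j y hy
      exact ⟨⟨x, hx⟩, Subtype.ext hxy⟩
  have hrank := rank_eq_of_equiv_equiv i (AddEquiv.ofBijective jm hjm) hi (by
    intro r x
    apply Subtype.ext
    change Φ ((r : R') • (x : F.H b' p)) = φ (r : R') • Φ (x : F.H b' p)
    exact Φ.map_smulₛₗ _ _)
  unfold Module.finrank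
  rw [hrank]

end Groth.Agent.Lib.Helper11.GrVer
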