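import Groth.Agent.Lib.Helper11.GrSegL
import Groth.Agent.Lib.Helper11.GrVerH
import Groth.Agent.Lib.Helper11.GrMVC

/-!
# The Segre product as the diagonal Veronese-type subring of `R ⊗[k] S`
-/

set_option autoImplicit false
set_option linter.unusedSectionVars false
set_option linter.unusedVariables false
set_option linter.style.haveILetI false
universe u

open scoped TensorProduct

namespace Groth.Agent.Lib.Helper11.Seg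

open DirectSum GrLC Groth.Agent.Lib.Helper11.GrLCLib Groth.Agent.Lib.Helper11.GrVer

/-- the diagonal embedding of degrees. -/
def diagHom : ℤ →+ ℤ × ℤ := (AddMonoidHom.id ℤ).prod (AddMonoidHom.id ℤ)

lemma diagHom_apply (n : ℤ) : diagHom n = (n, n) := rfl

lemma diagHom_injective : Function.Injective diagHom := fun a b h => congrArg Prod.fst h

/-- the irrelevant ideal of a `ℤ`-graded ring. -/
def irrI {R : Type u} [CommRing R] (𝒜 : ℤ → AddSubgroup R) : Ideal R :=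
  Ideal.span (⋃ n ∈ Set.Ioi (0 : ℤ), (𝒜 n : Set R))

lemma mem_irrI {R : Type u} [CommRing R] (𝒜 : ℤ → AddSubgroup R) {n : ℤ} (hn : 0 < n) {x : R}
    (hx : x ∈ 𝒜 n) : x ∈ irrI 𝒜 :=
  Ideal.subset_span (Set.mem_biUnion (Set.mem_Ioi.mpr hn) hx)

section Diag

variable {k : Type u} [Field k] {R S T : Type u} [CommRing R] [CommRing S] [CommRing T]
  [Algebra k R] [Algebra k S] [Algebra k T]
variable (𝒜 : ℤ → AddSubgroup R) [GradedRing 𝒜] (ℬ : ℤ → AddSubgroup S) [GradedRing ℬ]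
  [IsKAlgGr k 𝒜] [IsKAlgGr k ℬ]
variable (𝒯 : ℤ → AddSubgroup T) [GradedRing 𝒯] (ψ : T →ₐ[k] R ⊗[k] S)

/-- `T` is the Segre product of `R` and `S` via `ψ` (additive subgroup form). -/
structure IsSeg : Prop where
  inj : Function.Injective ψ
  deg : ∀ n : ℤ, (𝒯 n).map ((ψ : T →+* R ⊗[k] S) : T →+ R ⊗[k] S) = biGr (k := k) 𝒜 ℬ (n, n)

variable {𝒜 ℬ 𝒯 ψ}

lemma IsSeg.isVerRing (h : IsSeg 𝒜 ℬ 𝒯 ψ) :
    IsVerRing (biGr (k := k) 𝒜 ℬ) 𝒯 (ψ : T →+* R ⊗[k] S) diagHom :=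
  ⟨h.inj, diagHom_injective, h.deg⟩

lemma IsSeg.map_mem (h : IsSeg 𝒜 ℬ 𝒯 ψ) {n : ℤ} {t : T} (ht : t ∈ 𝒯 n) :
    ψ t ∈ biGr (k := k) 𝒜 ℬ (n, n) := by
  rw [← h.deg n]
  exact ⟨t, ht, rfl⟩

lemma IsSeg.exists_of_mem (h : IsSeg 𝒜 ℬ 𝒯 ψ) {n : ℤ} {x : R ⊗[k] S}
    (hx : x ∈ biGr (k := k) 𝒜 ℬ (n, n)) : ∃ t ∈ 𝒯 n, ψ t = x := by
  rw [← h.deg n] at hx
  obtain ⟨t, ht, rfl⟩ := hx
  exact ⟨t, ht, rfl⟩

variable (𝒜 ℬ)

/-- the extension of an ideal of `S` to `R ⊗[k] S`. -/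
noncomputable def extIdealR (n : Ideal S) : Ideal (R ⊗[k] S) :=
  n.map (Algebra.TensorProduct.includeRight : S →ₐ[k] R ⊗[k] S).toRingHom

lemma one_tmul_mem_extIdealR {n : Ideal S} {s : S} (hs : s ∈ n) :
    ((1 : R) ⊗ₜ[k] s : R ⊗[k] S) ∈ extIdealR (k := k) (R := R) n :=
  Ideal.mem_map_of_mem _ hs

lemma extIdealR_isHomogeneous (n : HomogeneousIdeal ℬ) :
    (extIdealR (k := k) (R := R) n.toIdeal).IsHomogeneous (biGr (k := k) 𝒜 ℬ) := by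
  obtain ⟨T', hT⟩ := (Ideal.IsHomogeneous.iff_exists (𝒜 := ℬ) (I := n.toIdeal)).mp n.isHomogeneous
  unfold extIdealR
  rw [hT, Ideal.map_span]
  apply Ideal.homogeneous_span
  rintro _ ⟨_, ⟨s, hs, rfl⟩, rfl⟩
  obtain ⟨j, hj⟩ := s.2
  exact ⟨(0, j), tmul_mem_biGr 𝒜 ℬ (SetLike.GradedOne.one_mem (A := 𝒜)) hj⟩

/-- The extension `nA` of a homogeneous ideal `n` of `S`. -/
noncomputable def extR (n : HomogeneousIdeal ℬ) : HomogeneousIdeal (biGr (k := k) 𝒜 ℬ) :=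
  ⟨extIdealR (k := k) (R := R) n.toIdeal, extIdealR_isHomogeneous 𝒜 ℬ n⟩

lemma extR_toIdeal (n : HomogeneousIdeal ℬ) :
    (extR (k := k) 𝒜 ℬ n).toIdeal = extIdealR (k := k) (R := R) n.toIdeal := rfl

variable {𝒜 ℬ}

/-- elements of bidegree `(d, d)`, `d > 0`, lie in `mA ∩ nA`. -/
lemma biGr_diag_le (m : HomogeneousIdeal 𝒜) (n : HomogeneousIdeal ℬ)
    (hm : m.toIdeal = irrI 𝒜) (hn : n.toIdeal = irrI ℬ) {d : ℤ} (hd : 0 < d) {x : R ⊗[k] S}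
    (hx : x ∈ biGr (k := k) 𝒜 ℬ (d, d)) :
    x ∈ (extL (k := k) 𝒜 ℬ m ⊓ extR (k := k) 𝒜 ℬ n).toIdeal := by
  rw [HomogeneousIdeal.toIdeal_inf]
  induction hx using Submodule.span_induction with
  | mem x h =>
    obtain ⟨a, ha, b, hb, rfl⟩ := h
    have hab : (a ⊗ₜ[k] b : R ⊗[k] S) = (a ⊗ₜ[k] (1 : S)) * ((1 : R) ⊗ₜ[k] b) := by
      rw [Algebra.TensorProduct.tmul_mul_tmul, mul_one, one_mul]
    rw [hab]
    refine ⟨Ideal.mul_mem_right _ _ ?_, Ideal.mul_mem_left _ _ ?_⟩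
    · exact tmul_one_mem_extIdeal (hm ▸ mem_irrI 𝒜 hd ha)
    · exact one_tmul_mem_extIdealR (hn ▸ mem_irrI ℬ hd hb)
  | zero => exact zero_mem _
  | add x y _ _ hx hy => exact add_mem hx hy
  | smul c x _ hx => exact Submodule.smul_of_tower_mem _ c hx

lemma map_irr_le (h : IsSeg 𝒜 ℬ 𝒯 ψ) (m : HomogeneousIdeal 𝒜) (n : HomogeneousIdeal ℬ)
    (mT : HomogeneousIdeal 𝒯) (hm : m.toIdeal = irrI 𝒜) (hn : n.toIdeal = irrI ℬ)
    (hmT : mT.toIdeal = irrI 𝒯) :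
    mT.toIdeal.map (ψ : T →+* R ⊗[k] S) ≤
      (extL (k := k) 𝒜 ℬ m ⊓ extR (k := k) 𝒜 ℬ n).toIdeal := by
  rw [hmT, irrI, Ideal.map_span, Ideal.span_le]
  rintro _ ⟨t, ht, rfl⟩
  simp only [Set.mem_iUnion] at ht
  obtain ⟨d, hd, ht⟩ := ht
  exact biGr_diag_le m n hm hn hd (h.map_mem ht)

lemma mul_le_radical (h : IsSeg 𝒜 ℬ 𝒯 ψ) (m : HomogeneousIdeal 𝒜) (n : HomogeneousIdeal ℬ)
    (mT : HomogeneousIdeal 𝒯) (hm : m.toIdeal = irrI 𝒜) (hn : n.toIdeal = irrI ℬ)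
    (hmT : mT.toIdeal = irrI 𝒯) :
    (extL (k := k) 𝒜 ℬ m).toIdeal * (extR (k := k) 𝒜 ℬ n).toIdeal ≤
      (mT.toIdeal.map (ψ : T →+* R ⊗[k] S)).radical := by
  rw [extL_toIdeal, extR_toIdeal, extIdeal, extIdealR, hm, hn, irrI, irrI, Ideal.map_span,
    Ideal.map_span, Ideal.span_mul_span', Ideal.span_le]
  rintro _ ⟨_, ⟨a, ha, rfl⟩, _, ⟨b, hb, rfl⟩, rfl⟩
  simp only [Set.mem_iUnion] at ha hb
  obtain ⟨i, hi, ha⟩ := ha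
  obtain ⟨j, hj, hb⟩ := hb
  have hi' : (0 : ℤ) < i := hi
  have hj' : (0 : ℤ) < j := hj
  change (a ⊗ₜ[k] (1 : S) : R ⊗[k] S) * ((1 : R) ⊗ₜ[k] b) ∈ _
  rw [Algebra.TensorProduct.tmul_mul_tmul, mul_one, one_mul]
  refine ⟨i.toNat + j.toNat, ?_⟩
  have h1 : a ^ j.toNat ∈ 𝒜 (j.toNat • i) := SetLike.pow_mem_graded _ ha
  have h2 : b ^ i.toNat ∈ ℬ (i.toNat • j) := SetLike.pow_mem_graded _ hb
  have e1 : (j.toNat • i : ℤ) = i * j := by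
    rw [nsmul_eq_mul, Int.toNat_of_nonneg hj'.le, mul_comm]
  have e2 : (i.toNat • j : ℤ) = i * j := by
    rw [nsmul_eq_mul, Int.toNat_of_nonneg hi'.le]
  rw [e1] at h1
  rw [e2] at h2
  obtain ⟨t, ht, hψt⟩ := h.exists_of_mem (tmul_mem_biGr 𝒜 ℬ h1 h2)
  have ht' : t ∈ mT.toIdeal := hmT ▸ mem_irrI 𝒯 (mul_pos hi' hj') ht
  have h3 : ((a ^ j.toNat) ⊗ₜ[k] (b ^ i.toNat) : R ⊗[k] S) ∈
      mT.toIdeal.map (ψ : T →+* R ⊗[k] S) := by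
    rw [← hψt]
    exact Ideal.mem_map_of_mem _ ht'
  have h4 : (a ⊗ₜ[k] b : R ⊗[k] S) ^ (i.toNat + j.toNat) =
      ((a ^ j.toNat) ⊗ₜ[k] (b ^ i.toNat)) * ((a ^ i.toNat) ⊗ₜ[k] (b ^ j.toNat)) := by
    rw [Algebra.TensorProduct.tmul_pow, Algebra.TensorProduct.tmul_mul_tmul, ← pow_add, ← pow_add,
      add_comm j.toNat i.toNat]
  rw [h4]
  exact Ideal.mul_mem_right _ _ h3

lemma exists_pow_le [IsNoetherianRing (R ⊗[k] S)] (h : IsSeg 𝒜 ℬ 𝒯 ψ) (m : HomogeneousIdeal 𝒜)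
    (n : HomogeneousIdeal ℬ) (mT : HomogeneousIdeal 𝒯) (hm : m.toIdeal = irrI 𝒜)
    (hn : n.toIdeal = irrI ℬ) (hmT : mT.toIdeal = irrI 𝒯) :
    ∃ K, (extL (k := k) 𝒜 ℬ m ⊓ extR (k := k) 𝒜 ℬ n).toIdeal ^ K ≤
      mT.toIdeal.map (ψ : T →+* R ⊗[k] S) := by
  apply Ideal.exists_pow_le_of_le_radical_of_fg _ (IsNoetherian.noetherian _)
  intro x hx
  rw [HomogeneousIdeal.toIdeal_inf] at hx
  have h1 : x * x ∈ (mT.toIdeal.map (ψ : T →+* R ⊗[k] S)).radical :=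
    mul_le_radical h m n mT hm hn hmT (Ideal.mul_mem_mul hx.1 hx.2)
  rw [← pow_two] at h1
  exact (Ideal.radical_isRadical _) ⟨2, h1⟩ |> fun h => by simpa using h

end Diag

end Groth.Agent.Lib.Helper11.Seg
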