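import Groth.Agent.Lib.Helper11.GrDiagA

/-!
# Segre modules as diagonal Veronese-type submodules; the comparison of local cohomology
-/

set_option autoImplicit false
set_option linter.unusedSectionVars false
set_option linter.unusedVariables false
set_option linter.style.haveILetI false
universe u

open scoped TensorProduct

namespace Groth.Agent.Lib.Helper11.Seg

open DirectSum GrLC Groth.Agent.Lib.Helper11.GrLCLib Groth.Agent.Lib.Helper11.GrVer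

section Mod

variable {k : Type u} [Field k] {R S T : Type u} [CommRing R] [CommRing S] [CommRing T]
  [Algebra k R] [Algebra k S] [Algebra k T]
variable {𝒜 : ℤ → AddSubgroup R} [GradedRing 𝒜] {ℬ : ℤ → AddSubgroup S} [GradedRing ℬ]
  [IsKAlgGr k 𝒜] [IsKAlgGr k ℬ]
variable {𝒯 : ℤ → AddSubgroup T} [GradedRing 𝒯] {ψ : T →ₐ[k] R ⊗[k] S}
variable {M N P : Type u} [AddCommGroup M] [Module R M] [Module k M] [IsScalarTower k R M]
  [AddCommGroup N] [Module S N] [Module k N] [IsScalarTower k S N]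
  [AddCommGroup P] [Module T P] [Module k P] [IsScalarTower k T P]
variable {ℳ : ℤ → AddSubgroup M} [DirectSum.Decomposition ℳ] [SetLike.GradedSMul 𝒜 ℳ] [IsKGr k ℳ]
  {𝒩 : ℤ → AddSubgroup N} [DirectSum.Decomposition 𝒩] [SetLike.GradedSMul ℬ 𝒩] [IsKGr k 𝒩]
  {𝒬 : ℤ → AddSubgroup P} [DirectSum.Decomposition 𝒬] [SetLike.GradedSMul 𝒯 𝒬]

/-- the semilinear map underlying a Segre module presentation. -/
noncomputable def segSL (ψ : T →ₐ[k] R ⊗[k] S) (φ : P →ₗ[k] M ⊗[k] N)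
    (hφ : ∀ (t : T) (p : P), φ (t • p) = GrSeg.act k R S M N (ψ t) (φ p)) :
    P →ₛₗ[(ψ : T →+* R ⊗[k] S)] M ⊗[k] N where
  toFun := φ
  map_add' := φ.map_add
  map_smul' t p := by rw [hφ]; rfl

lemma segSL_apply (φ : P →ₗ[k] M ⊗[k] N)
    (hφ : ∀ (t : T) (p : P), φ (t • p) = GrSeg.act k R S M N (ψ t) (φ p)) (p : P) :
    segSL ψ φ hφ p = φ p := rfl

lemma isVer_of_isSegreMod {φ : P →ₗ[k] M ⊗[k] N} (hP : GrSeg.IsSegreMod ψ ℳ 𝒩 𝒬 φ) :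
    IsVer (ψ : T →+* R ⊗[k] S) diagHom (biGr (k := k) ℳ 𝒩) 𝒬 (segSL ψ φ hP.map_smul) := by
  refine ⟨hP.injective, fun n => ?_⟩
  ext x
  have h1 := Set.ext_iff.mp (hP.image_piece n) x
  constructor
  · rintro ⟨p, hp, rfl⟩
    exact h1.mp ⟨p, hp, rfl⟩
  · intro hx
    obtain ⟨p, hp, rfl⟩ := h1.mpr hx
    exact ⟨p, hp, rfl⟩

/-- **Diagonal comparison**: `H^q_{T_+}(M # N)` is the diagonal part of `H^q_{mA ∩ nA}(M ⊗ N)`. -/
theorem diag_cmp [IsNoetherianRing (R ⊗[k] S)] (h : IsSeg 𝒜 ℬ 𝒯 ψ) (m : HomogeneousIdeal 𝒜)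
    (n : HomogeneousIdeal ℬ) (mT : HomogeneousIdeal 𝒯) (hm : m.toIdeal = irrI 𝒜)
    (hn : n.toIdeal = irrI ℬ) (hmT : mT.toIdeal = irrI 𝒯)
    {φ : P →ₗ[k] M ⊗[k] N} (hP : GrSeg.IsSegreMod ψ ℳ 𝒩 𝒬 φ)
    (EX : StarInjRes (biGr (k := k) 𝒜 ℬ) (biGr (k := k) ℳ 𝒩)) (EP : StarInjRes 𝒯 𝒬) (q : ℕ) :
    Cmp (ψ : T →+* R ⊗[k] S) diagHom (extL (k := k) 𝒜 ℬ m ⊓ extR (k := k) 𝒜 ℬ n) mT EX EP q :=
  claim_all h.isVerRing _ mT (map_irr_le h m n mT hm hn hmT) (exists_pow_le h m n mT hm hn hmT) q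
    _ _ _ _ _ (isVer_of_isSegreMod hP) EX EP

end Mod

end Groth.Agent.Lib.Helper11.Seg
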