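import Groth.Prelude.Def_GrSeg
import Groth.Agent.Lib.Helper11.GrLC

/-!
# Graded `k`-duals (`GrSeg.IsGDual`): basic lemmas, transposes, finiteness of pieces
-/

set_option autoImplicit false
set_option linter.unusedSectionVars false
set_option linter.unusedVariables false
universe u

namespace Groth.Agent.Lib.Helper11.GrDual

open DirectSum GrLC GrSeg Groth.Agent.Lib.Helper11.GrLCLib

section Basic

variable {k : Type u} [Field k] {R : Type u} [CommRing R] [Algebra k R]
  (𝒜 : ℤ → Submodule k R) [GradedAlgebra 𝒜]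
variable {M : Type u} [AddCommGroup M] [Module R M] [Module k M] [IsScalarTower k R M]
  {τ : Type u} [SetLike τ M] [AddSubgroupClass τ M]
  (ℳ : ℤ → τ) [DirectSum.Decomposition ℳ] [SetLike.GradedSMul 𝒜 ℳ]

include 𝒜 in
lemma ksmul_mem {n : ℤ} {x : M} (hx : x ∈ ℳ n) (c : k) : c • x ∈ ℳ n := by
  rw [← algebraMap_smul R c x]
  have h := SetLike.GradedSMul.smul_mem (A := 𝒜) (B := ℳ) (SetLike.algebraMap_mem_graded 𝒜 c) hx
  rwa [vadd_eq_add, zero_add] at h

/-- the piece as a `k`-subspace. -/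
def compK (n : ℤ) : Submodule k M where
  carrier := (ℳ n : Set M)
  add_mem' := add_mem
  zero_mem' := zero_mem _
  smul_mem' c x hx := ksmul_mem 𝒜 ℳ hx c

lemma mem_compK {n : ℤ} {x : M} : x ∈ compK 𝒜 ℳ n ↔ x ∈ ℳ n := Iff.rfl

/-- projection to a component, `k`-linear. -/
noncomputable def projK (n : ℤ) : M →ₗ[k] M where
  toFun x := (decompose ℳ x n : M)
  map_add' x y := by rw [decompose_add, DirectSum.add_apply, AddMemClass.coe_add]
  map_smul' c x := by
    simp only [RingHom.id_apply]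
    rw [← algebraMap_smul R c x, ← algebraMap_smul R c ((decompose ℳ x n : M))]
    have := decompose_map_deg ℳ ℳ
      (isGrHomDeg_lsmul ℳ 𝒜 (SetLike.algebraMap_mem_graded 𝒜 c)) x n
    rw [add_zero] at this
    exact this

lemma projK_apply (n : ℤ) (x : M) : projK 𝒜 ℳ n x = (decompose ℳ x n : M) := rfl

lemma projK_mem (n : ℤ) (x : M) : projK 𝒜 ℳ n x ∈ ℳ n := SetLike.coe_mem _

lemma projK_of_mem {n : ℤ} {x : M} (hx : x ∈ ℳ n) : projK 𝒜 ℳ n x = x :=
  decompose_of_mem_same ℳ hx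

lemma projK_of_mem_ne {n m : ℤ} {x : M} (hx : x ∈ ℳ m) (h : m ≠ n) : projK 𝒜 ℳ n x = 0 :=
  decompose_of_mem_ne ℳ hx h

omit [SetLike.GradedSMul 𝒜 ℳ] in
/-- functionals agreeing on homogeneous elements agree. -/
lemma eq_of_forall_homogeneous {N : Type u} [AddCommGroup N] (φ ψ : M →+ N)
    (h : ∀ n, ∀ x ∈ ℳ n, φ x = ψ x) (x : M) : φ x = ψ x := by
  classical
  rw [← DirectSum.sum_support_decompose ℳ x, map_sum, map_sum]
  exact Finset.sum_congr rfl (fun i _ => h i _ (SetLike.coe_mem _))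

end Basic

section Dual

variable {k : Type u} [Field k] {R : Type u} [CommRing R] [Algebra k R]
variable {M : Type u} [AddCommGroup M] [Module R M] [Module k M] [IsScalarTower k R M]
  {τ : Type u} [SetLike τ M] [AddSubgroupClass τ M]
  {ℳ : ℤ → τ} [DirectSum.Decomposition ℳ]
variable {D : Type u} [AddCommGroup D] [Module R D] [Module k D] [IsScalarTower k R D]
  {𝒟 : ℤ → AddSubgroup D} [DirectSum.Decomposition 𝒟]
  {β : D →ₗ[k] M →ₗ[k] k}

lemma apply_eq_component (hD : IsGDual R ℳ 𝒟 β) (d : D) {n : ℤ} {x : M} (hx : x ∈ ℳ (-n)) :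
    β d x = β (decompose 𝒟 d n : D) x := by
  classical
  conv_lhs => rw [← DirectSum.sum_support_decompose 𝒟 d]
  rw [map_sum, LinearMap.sum_apply]
  rw [Finset.sum_eq_single n]
  · intro i _ hin
    exact hD.vanish i _ (SetLike.coe_mem _) (-n) (fun e => hin (neg_injective e).symm) x hx
  · intro hn
    rw [DFinsupp.notMem_support_iff] at hn
    rw [hn, ZeroMemClass.coe_zero, map_zero, LinearMap.zero_apply]

lemma eq_zero_of_forall (hD : IsGDual R ℳ 𝒟 β) (d : D) (h : ∀ x, β d x = 0) : d = 0 := by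
  classical
  rw [← DirectSum.sum_support_decompose 𝒟 d]
  apply Finset.sum_eq_zero
  intro i _
  apply hD.eq_zero i _ (SetLike.coe_mem _)
  intro x hx
  rw [← apply_eq_component hD d hx]
  exact h x

lemma injective_of_isGDual (hD : IsGDual R ℳ 𝒟 β) : Function.Injective β := by
  rw [injective_iff_map_eq_zero]
  intro d hd
  exact eq_zero_of_forall hD d (fun x => by rw [hd, LinearMap.zero_apply])

lemma mem_of_vanish (hD : IsGDual R ℳ 𝒟 β) (d : D) (n : ℤ)
    (h : ∀ m, m ≠ -n → ∀ x ∈ ℳ m, β d x = 0) : d ∈ 𝒟 n := by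
  classical
  have hz : ∀ i, i ≠ n → (decompose 𝒟 d i : D) = 0 := by
    intro i hin
    apply hD.eq_zero i _ (SetLike.coe_mem _)
    intro x hx
    rw [← apply_eq_component hD d hx]
    exact h (-i) (fun e => hin (neg_injective e)) x hx
  have : d = (decompose 𝒟 d n : D) := by
    conv_lhs => rw [← DirectSum.sum_support_decompose 𝒟 d]
    rw [Finset.sum_eq_single n]
    · intro i _ hin
      exact hz i hin
    · intro hn
      rw [DFinsupp.notMem_support_iff] at hn
      rw [hn, ZeroMemClass.coe_zero]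
  rw [this]
  exact SetLike.coe_mem _

/-- an element of `D` pairing to zero with `M_{-n}` has zero `n`-th component. -/
lemma component_eq_zero (hD : IsGDual R ℳ 𝒟 β) (d : D) (n : ℤ)
    (h : ∀ x ∈ ℳ (-n), β d x = 0) : (decompose 𝒟 d n : D) = 0 := by
  apply hD.eq_zero n _ (SetLike.coe_mem _)
  intro x hx
  rw [← apply_eq_component hD d hx]
  exact h x hx

end Dual

section Transpose

variable {k : Type u} [Field k] {R : Type u} [CommRing R] [Algebra k R]
variable {M : Type u} [AddCommGroup M] [Module R M] [Module k M] [IsScalarTower k R M]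
  {τ : Type u} [SetLike τ M] [AddSubgroupClass τ M]
  {ℳ : ℤ → τ} [DirectSum.Decomposition ℳ]
variable {D : Type u} [AddCommGroup D] [Module R D] [Module k D] [IsScalarTower k R D]
  {𝒟 : ℤ → AddSubgroup D} [DirectSum.Decomposition 𝒟]
  {β : D →ₗ[k] M →ₗ[k] k}
variable {M' : Type u} [AddCommGroup M'] [Module R M'] [Module k M'] [IsScalarTower k R M']
  {τ' : Type u} [SetLike τ' M'] [AddSubgroupClass τ' M'] {ℳ' : ℤ → τ'}
variable {D' : Type u} [AddCommGroup D'] [Module R D'] [Module k D'] [IsScalarTower k R D']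
  {𝒟' : ℤ → AddSubgroup D'} [DirectSum.Decomposition 𝒟']
  {β' : D' →ₗ[k] M' →ₗ[k] k}

/-- Transposition: if `D` is the full graded dual of `M`, `β'` is a graded pairing (shifted by `s`)
between `D'` and `M'`, and `u : M → M'` is homogeneous, there is a unique `v : D' → D` with
`β (v d) x = β' d (u x)`; it is homogeneous of degree `s`. -/
theorem exists_transpose (hD : IsGDual R ℳ 𝒟 β)
    (hsm : ∀ (r : R) (d : D') (x : M'), β' (r • d) x = β' d (r • x)) (s : ℤ)
    (hv : ∀ (n : ℤ) (d : D'), d ∈ 𝒟' n → ∀ m : ℤ, m ≠ -(n + s) → ∀ x : M', x ∈ ℳ' m → β' d x = 0)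
    (u : M →ₗ[R] M') (hu : IsGrHom ℳ ℳ' u) :
    ∃ v : D' →ₗ[R] D, (∀ d x, β (v d) x = β' d (u x)) ∧
      ∀ (n : ℤ) (d : D'), d ∈ 𝒟' n → v d ∈ 𝒟 (n + s) := by
  classical
  have hex : ∀ b : D', ∃ d : D, ∀ x, β d x = β' b (u x) := by
    intro b
    induction b using DirectSum.Decomposition.inductionOn 𝒟' with
    | zero => exact ⟨0, fun x => by rw [map_zero, map_zero, LinearMap.zero_apply,
        LinearMap.zero_apply]⟩
    | @homogeneous n b =>
      obtain ⟨d, hd, hdx⟩ := hD.exists_eq (n + s) ((β' (b : D')).comp (u.restrictScalars k))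
      refine ⟨d, fun x => ?_⟩
      refine eq_of_forall_homogeneous ℳ (β d).toAddMonoidHom
        ((β' (b : D')).comp (u.restrictScalars k)).toAddMonoidHom ?_ x
      intro m y hy
      by_cases hm : m = -(n + s)
      · subst hm
        exact hdx y hy
      · show β d y = β' (b : D') (u y)
        rw [hD.vanish (n + s) d hd m hm y hy, hv n b b.2 m hm (u y) (hu m y hy)]
    | add b₁ b₂ h₁ h₂ =>
      obtain ⟨d₁, hd₁⟩ := h₁
      obtain ⟨d₂, hd₂⟩ := h₂
      exact ⟨d₁ + d₂, fun x => by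
        rw [map_add, map_add, LinearMap.add_apply, LinearMap.add_apply, hd₁, hd₂]⟩
  choose v hvx using hex
  have hinj : ∀ d₁ d₂ : D, (∀ x, β d₁ x = β d₂ x) → d₁ = d₂ := by
    intro d₁ d₂ h
    rw [← sub_eq_zero]
    apply eq_zero_of_forall hD
    intro x
    rw [map_sub, LinearMap.sub_apply, h x, sub_self]
  refine ⟨{ toFun := v
            map_add' := fun b₁ b₂ => hinj _ _ (fun x => by
              rw [hvx, map_add, LinearMap.add_apply, map_add, LinearMap.add_apply, hvx, hvx])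
            map_smul' := fun r b => hinj _ _ (fun x => by
              rw [RingHom.id_apply, hvx, hsm, hD.map_smul, hvx, u.map_smul]) }, hvx, ?_⟩
  intro n d hd
  apply mem_of_vanish hD
  intro m hm x hx
  show β (v d) x = 0
  rw [hvx, hv n d hd m hm (u x) (hu m x hx)]

end Transpose

end Groth.Agent.Lib.Helper11.GrDual

namespace Groth.Agent.Lib.Helper11.GrDual

open DirectSum GrLC GrSeg Groth.Agent.Lib.Helper11.GrLCLib

section Trunc

variable {k : Type u} [Field k] {R : Type u} [CommRing R] [Algebra k R]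
  (𝒜 : ℤ → Submodule k R) [GradedAlgebra 𝒜]
variable {M : Type u} [AddCommGroup M] [Module R M] [Module k M] [IsScalarTower k R M]
  {τ : Type u} [SetLike τ M] [AddSubgroupClass τ M]
  (ℳ : ℤ → τ) [DirectSum.Decomposition ℳ] [SetLike.GradedSMul 𝒜 ℳ]

lemma decompose_smul_of_mem {r : R} {i : ℤ} (hr : r ∈ 𝒜 i) (x : M) (j : ℤ) :
    (decompose ℳ (r • x) j : M) = r • (decompose ℳ x (j - i) : M) := by
  have := decompose_map_deg ℳ ℳ (isGrHomDeg_lsmul ℳ 𝒜 hr) x (j - i)
  rw [sub_add_cancel] at this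
  exact this

/-- `{x | x_j = 0 for j < n, x_n ∈ W}` is an `R`-submodule when `R` is nonnegatively graded with
`R_0 = k`. -/
def truncW (hpos : ∀ n : ℤ, n < 0 → 𝒜 n = ⊥) (h0 : 𝒜 0 = Submodule.span k {(1 : R)}) (n : ℤ)
    (W : Submodule k M) : Submodule R M where
  carrier := {x | (∀ j < n, (decompose ℳ x j : M) = 0) ∧ (decompose ℳ x n : M) ∈ W}
  add_mem' := by
    rintro x y ⟨hx, hxW⟩ ⟨hy, hyW⟩
    refine ⟨fun j hj => ?_, ?_⟩
    · rw [decompose_add, DirectSum.add_apply, AddMemClass.coe_add, hx j hj, hy j hj, add_zero]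
    · rw [decompose_add, DirectSum.add_apply, AddMemClass.coe_add]
      exact add_mem hxW hyW
  zero_mem' := by
    refine ⟨fun j _ => ?_, ?_⟩
    · rw [decompose_zero, DirectSum.zero_apply, ZeroMemClass.coe_zero]
    · rw [decompose_zero, DirectSum.zero_apply, ZeroMemClass.coe_zero]
      exact zero_mem _
  smul_mem' := by
    classical
    intro r x hx
    induction r using DirectSum.Decomposition.inductionOn 𝒜 with
    | zero =>
      rw [zero_smul]
      refine ⟨fun j _ => ?_, ?_⟩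
      · rw [decompose_zero, DirectSum.zero_apply, ZeroMemClass.coe_zero]
      · rw [decompose_zero, DirectSum.zero_apply, ZeroMemClass.coe_zero]
        exact zero_mem _
    | @homogeneous i r =>
      obtain ⟨hx1, hxW⟩ := hx
      rcases lt_trichotomy i 0 with hi | hi | hi
      · have : (r : R) = 0 := by
          have h := r.2
          have h' : (r : R) ∈ (⊥ : Submodule k R) := hpos i hi ▸ h
          exact (Submodule.mem_bot k).mp h'
        rw [this, zero_smul]
        refine ⟨fun j _ => ?_, ?_⟩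
        · rw [decompose_zero, DirectSum.zero_apply, ZeroMemClass.coe_zero]
        · rw [decompose_zero, DirectSum.zero_apply, ZeroMemClass.coe_zero]
          exact zero_mem _
      · subst hi
        have hr : (r : R) ∈ Submodule.span k {(1 : R)} := h0 ▸ r.2
        rw [Submodule.mem_span_singleton] at hr
        obtain ⟨c, hc⟩ := hr
        have e : (r : R) • x = c • x := by
          rw [← hc, smul_assoc, one_smul]
        rw [e]
        refine ⟨fun j hj => ?_, ?_⟩
        · have := (projK 𝒜 ℳ j).map_smul c x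
          rw [projK_apply, projK_apply, hx1 j hj, smul_zero] at this
          exact this
        · have := (projK 𝒜 ℳ n).map_smul c x
          rw [projK_apply, projK_apply] at this
          rw [this]
          exact W.smul_mem c hxW
      · refine ⟨fun j hj => ?_, ?_⟩
        · rw [decompose_smul_of_mem 𝒜 ℳ r.2 x j, hx1 (j - i) (by omega), smul_zero]
        · rw [decompose_smul_of_mem 𝒜 ℳ r.2 x n, hx1 (n - i) (by omega), smul_zero]
          exact zero_mem _
    | add r₁ r₂ h₁ h₂ =>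
      rw [add_smul]
      obtain ⟨a1, a2⟩ := h₁
      obtain ⟨b1, b2⟩ := h₂
      refine ⟨fun j hj => ?_, ?_⟩
      · rw [decompose_add, DirectSum.add_apply, AddMemClass.coe_add, a1 j hj, b1 j hj, add_zero]
      · rw [decompose_add, DirectSum.add_apply, AddMemClass.coe_add]
        exact add_mem a2 b2

lemma mem_truncW (hpos : ∀ n : ℤ, n < 0 → 𝒜 n = ⊥) (h0 : 𝒜 0 = Submodule.span k {(1 : R)}) (n : ℤ)
    (W : Submodule k M) (x : M) : x ∈ truncW 𝒜 ℳ hpos h0 n W ↔
      (∀ j < n, (decompose ℳ x j : M) = 0) ∧ (decompose ℳ x n : M) ∈ W := Iff.rfl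

lemma mem_truncW_of_mem (hpos : ∀ n : ℤ, n < 0 → 𝒜 n = ⊥) (h0 : 𝒜 0 = Submodule.span k {(1 : R)})
    (n : ℤ) (W : Submodule k M) {x : M} (hx : x ∈ ℳ n) :
    x ∈ truncW 𝒜 ℳ hpos h0 n W ↔ x ∈ W := by
  rw [mem_truncW]
  constructor
  · rintro ⟨_, h⟩
    rwa [decompose_of_mem_same ℳ hx] at h
  · intro h
    refine ⟨fun j hj => decompose_of_mem_ne ℳ hx (by omega), ?_⟩
    rwa [decompose_of_mem_same ℳ hx]

lemma truncW_mono (hpos : ∀ n : ℤ, n < 0 → 𝒜 n = ⊥) (h0 : 𝒜 0 = Submodule.span k {(1 : R)})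
    (n : ℤ) {W W' : Submodule k M} (h : W ≤ W') :
    truncW 𝒜 ℳ hpos h0 n W ≤ truncW 𝒜 ℳ hpos h0 n W' :=
  fun x hx => ⟨hx.1, h hx.2⟩

/-- subspaces of a piece embed strictly monotonically into `R`-submodules. -/
lemma strictMono_truncW (hpos : ∀ n : ℤ, n < 0 → 𝒜 n = ⊥)
    (h0 : 𝒜 0 = Submodule.span k {(1 : R)}) (n : ℤ) :
    StrictMono (fun W : Submodule k ↥(compK 𝒜 ℳ n) =>
      truncW 𝒜 ℳ hpos h0 n (W.map (compK 𝒜 ℳ n).subtype)) := by
  intro W W' hlt
  refine lt_of_le_of_ne (truncW_mono 𝒜 ℳ hpos h0 n (Submodule.map_mono hlt.le)) ?_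
  intro heq
  apply hlt.not_ge
  intro x hx
  have hxm : (x : M) ∈ ℳ n := x.2
  have h1 : (x : M) ∈ truncW 𝒜 ℳ hpos h0 n (W'.map (compK 𝒜 ℳ n).subtype) := by
    rw [mem_truncW_of_mem 𝒜 ℳ hpos h0 n _ hxm]
    exact ⟨x, hx, rfl⟩
  have heq' : truncW 𝒜 ℳ hpos h0 n (W.map (compK 𝒜 ℳ n).subtype) =
      truncW 𝒜 ℳ hpos h0 n (W'.map (compK 𝒜 ℳ n).subtype) := heq
  rw [← heq', mem_truncW_of_mem 𝒜 ℳ hpos h0 n _ hxm] at h1
  obtain ⟨y, hy, hyx⟩ := h1
  have : y = x := Subtype.ext hyx
  rwa [← this]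

/-- pieces of a Noetherian graded module are finite-dimensional. -/
theorem finite_compK_of_isNoetherian (hpos : ∀ n : ℤ, n < 0 → 𝒜 n = ⊥)
    (h0 : 𝒜 0 = Submodule.span k {(1 : R)}) [IsNoetherian R M] (n : ℤ) :
    Module.Finite k ↥(compK 𝒜 ℳ n) := by
  have : WellFoundedGT (Submodule k ↥(compK 𝒜 ℳ n)) :=
    (strictMono_truncW 𝒜 ℳ hpos h0 n).wellFoundedGT
  have : IsNoetherian k ↥(compK 𝒜 ℳ n) := isNoetherian_iff'.mpr this
  infer_instance

/-- pieces of an Artinian graded module are finite-dimensional. -/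
theorem finite_compK_of_isArtinian (hpos : ∀ n : ℤ, n < 0 → 𝒜 n = ⊥)
    (h0 : 𝒜 0 = Submodule.span k {(1 : R)}) [IsArtinian R M] (n : ℤ) :
    Module.Finite k ↥(compK 𝒜 ℳ n) := by
  have : WellFoundedLT (Submodule k ↥(compK 𝒜 ℳ n)) :=
    (strictMono_truncW 𝒜 ℳ hpos h0 n).wellFoundedLT
  have : IsArtinian k ↥(compK 𝒜 ℳ n) := ⟨this.wf⟩
  exact (IsArtinianRing.tfae (R := k) (M := ↥(compK 𝒜 ℳ n))).out 2 0 |>.mp this

end Trunc

end Groth.Agent.Lib.Helper11.GrDual
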