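import Groth.Agent.Lib.Helper11.GrDualA

/-!
# The graded dual `R^*` is the *injective hull of `R/m`
-/

set_option autoImplicit false
set_option linter.unusedSectionVars false
set_option linter.unusedVariables false
set_option linter.style.haveILetI false
universe u

namespace Groth.Agent.Lib.Helper11.GrDual

open DirectSum GrLC GrSeg Groth.Agent.Lib.Helper11.GrLCLib

section Hull

variable {k : Type u} [Field k] {R : Type u} [CommRing R] [Algebra k R]
  (𝒜 : ℤ → Submodule k R) [GradedAlgebra 𝒜]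
variable {D : Type u} [AddCommGroup D] [Module R D] [Module k D] [IsScalarTower k R D]
  (𝒟 : ℤ → AddSubgroup D) [DirectSum.Decomposition 𝒟] [SetLike.GradedSMul 𝒜 𝒟]
  (β : D →ₗ[k] R →ₗ[k] k)

/-- the pairing `(y, r) ↦ λ (r • y)` attached to a functional `λ` on an `R`-module. -/
noncomputable def pairOf {Q : Type u} [AddCommGroup Q] [Module R Q] [Module k Q]
    [IsScalarTower k R Q] (l : Q →ₗ[k] k) : Q →ₗ[k] R →ₗ[k] k :=
  LinearMap.mk₂ k (fun y r => l (r • y))
    (fun y y' r => by rw [smul_add, map_add])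
    (fun c y r => by rw [smul_comm, map_smul])
    (fun y r r' => by rw [add_smul, map_add])
    (fun c y r => by rw [smul_assoc, map_smul])

lemma pairOf_apply {Q : Type u} [AddCommGroup Q] [Module R Q] [Module k Q]
    [IsScalarTower k R Q] (l : Q →ₗ[k] k) (y : Q) (r : R) : pairOf l y r = l (r • y) := rfl

/-- **Adjunction**: a functional `l` on a graded module `Q` vanishing off degree `g` gives a
homomorphism `Q → R^*` of degree `-g`. -/
theorem exists_hom_of_functional (hD : IsGDual R 𝒜 𝒟 β) {Q : Type u} [AddCommGroup Q] [Module R Q]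
    [Module k Q] [IsScalarTower k R Q] (𝒬 : ℤ → AddSubgroup Q) [DirectSum.Decomposition 𝒬]
    [SetLike.GradedSMul 𝒜 𝒬] (l : Q →ₗ[k] k) (g : ℤ)
    (hl : ∀ n : ℤ, n ≠ g → ∀ y ∈ 𝒬 n, l y = 0) :
    ∃ v : Q →ₗ[R] D, (∀ y r, β (v y) r = l (r • y)) ∧ ∀ (n : ℤ) (y : Q), y ∈ 𝒬 n → v y ∈ 𝒟 (n + -g) := by
  refine exists_transpose (ℳ := 𝒜) (𝒟 := 𝒟) (β := β) (ℳ' := 𝒜) (𝒟' := 𝒬) (β' := pairOf l) hD ?_ (-g) ?_
    LinearMap.id (fun _ _ h => h)
  · intro r y x
    rw [pairOf_apply, pairOf_apply, smul_smul, smul_eq_mul, mul_comm]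
  · intro n y hy m hm x hx
    rw [pairOf_apply]
    apply hl (m + n)
    · intro e
      apply hm
      omega
    · have := SetLike.GradedSMul.smul_mem (A := 𝒜) (B := 𝒬) hx hy
      rwa [vadd_eq_add] at this

include 𝒜 in
/-- `R^*` is *injective. -/
theorem isStarInj_gdual (hD : IsGDual R 𝒜 𝒟 β) : IsStarInj 𝒜 𝒟 := by
  intro P Q f hf hfi g hg
  letI : Module k P.carrier := Module.compHom P.carrier (algebraMap k R)
  haveI : IsScalarTower k R P.carrier := IsScalarTower.of_algebraMap_smul (fun _ _ => rfl)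
  letI : Module k Q.carrier := Module.compHom Q.carrier (algebraMap k R)
  haveI : IsScalarTower k R Q.carrier := IsScalarTower.of_algebraMap_smul (fun _ _ => rfl)
  -- the functional attached to `g`
  let lg : P.carrier →ₗ[k] k := (β.flip 1).comp (g.restrictScalars k)
  obtain ⟨ρ, hρ⟩ := LinearMap.exists_leftInverse_of_injective (f.restrictScalars k)
    (LinearMap.ker_eq_bot.mpr hfi)
  let l' : Q.carrier →ₗ[k] k := (lg.comp ρ).comp (projK 𝒜 Q.gr 0)
  have hl' : ∀ n : ℤ, n ≠ 0 → ∀ y ∈ Q.gr n, l' y = 0 := by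
    intro n hn y hy
    show lg (ρ (projK 𝒜 Q.gr 0 y)) = 0
    rw [projK_of_mem_ne 𝒜 Q.gr hy hn, map_zero, map_zero]
  obtain ⟨v, hv, hvg⟩ := exists_hom_of_functional 𝒜 𝒟 β hD Q.gr l' 0 hl'
  refine ⟨v, ?_, ?_⟩
  · intro n y hy
    have := hvg n y hy
    rwa [neg_zero, add_zero] at this
  · ext p
    rw [LinearMap.comp_apply, ← sub_eq_zero]
    apply eq_zero_of_forall hD
    intro x
    rw [map_sub, LinearMap.sub_apply, sub_eq_zero, hv]
    show lg (ρ (projK 𝒜 Q.gr 0 (x • f p))) = β (g p) x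
    have h1 : projK 𝒜 Q.gr 0 (x • f p) = f (projK 𝒜 P.gr 0 (x • p)) := by
      rw [projK_apply, projK_apply, ← map_smul, decompose_map P.gr Q.gr hf]
    have h2 : ρ (f (projK 𝒜 P.gr 0 (x • p))) = projK 𝒜 P.gr 0 (x • p) :=
      LinearMap.congr_fun hρ _
    rw [h1, h2]
    show β (g (projK 𝒜 P.gr 0 (x • p))) 1 = β (g p) x
    have h3 : g (projK 𝒜 P.gr 0 (x • p)) = (decompose 𝒟 (g (x • p)) 0 : D) := by
      rw [projK_apply, decompose_map P.gr 𝒟 hg]
    have h1mem : (1 : R) ∈ 𝒜 (-0) := by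
      rw [neg_zero]; exact (SetLike.GradedOne.one_mem : (1 : R) ∈ 𝒜 0)
    rw [h3, ← apply_eq_component hD (g (x • p)) h1mem, map_smul, hD.map_smul, smul_eq_mul, mul_one]

lemma exists_component_ne_zero {x : D} (hx : x ≠ 0) : ∃ n, (decompose 𝒟 x n : D) ≠ 0 := by
  classical
  by_contra h
  push Not at h
  apply hx
  rw [← DirectSum.sum_support_decompose 𝒟 x]
  exact Finset.sum_eq_zero (fun i _ => h i)

/-- `R^*` is the *injective hull of `R/m`. -/
theorem isStarInjHull_gdual (hpos : ∀ n : ℤ, n < 0 → 𝒜 n = ⊥)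
    (h0 : 𝒜 0 = Submodule.span k {(1 : R)}) (mR : HomogeneousIdeal 𝒜)
    (hmR : mR.toIdeal = Ideal.span (⋃ n ∈ Set.Ioi (0 : ℤ), (𝒜 n : Set R)))
    (hD : IsGDual R 𝒜 𝒟 β) (e : (R ⧸ mR.toIdeal) →ₗ[R] D) (he : Function.Injective e)
    (hegr : IsGrHom (quotGr 𝒜 mR) 𝒟 e) : IsStarInjHull 𝒜 (quotGr 𝒜 mR) 𝒟 e := by
  refine { injective := he, grHom := hegr, essential := ?_, starInj := isStarInj_gdual 𝒜 𝒟 β hD }
  intro P hP hP0
  obtain ⟨d₀, hd₀, hd₀0⟩ := Submodule.exists_mem_ne_zero_of_ne_bot hP0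
  obtain ⟨n, hn⟩ := exists_component_ne_zero 𝒟 hd₀0
  set d : D := (decompose 𝒟 d₀ n : D) with hd
  have hdP : d ∈ P := hP n hd₀
  have hdn : d ∈ 𝒟 n := SetLike.coe_mem _
  -- an element of degree `-n` pairing nontrivially with `d`
  have hx : ∃ x ∈ 𝒜 (-n), β d x ≠ 0 := by
    by_contra h
    push Not at h
    exact hn (hD.eq_zero n d hdn h)
  obtain ⟨x, hxm, hxd⟩ := hx
  obtain ⟨d', hd'⟩ : ∃ d' : D, d' = x • d := ⟨_, rfl⟩
  have hd'P : d' ∈ P := hd' ▸ P.smul_mem x hdP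
  have hd'0 : d' ∈ 𝒟 0 := by
    have := SetLike.GradedSMul.smul_mem (A := 𝒜) (B := 𝒟) hxm hdn
    rw [vadd_eq_add, neg_add_cancel] at this
    rw [hd']; exact this
  have hd'1 : β d' 1 = β d x := by
    rw [hd', hD.map_smul, smul_eq_mul, mul_one]
  -- the generator of the image of `e`
  obtain ⟨e₀, he₀⟩ : ∃ e₀ : D, e₀ = e (Ideal.Quotient.mk mR.toIdeal 1) := ⟨_, rfl⟩
  have he₀0 : e₀ ∈ 𝒟 0 := by
    rw [he₀]
    apply hegr 0
    exact ⟨1, (SetLike.GradedOne.one_mem : (1 : R) ∈ 𝒜 0), rfl⟩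
  -- pairing with `1` detects elements of degree zero
  have hdet : ∀ y ∈ 𝒟 0, β y 1 = 0 → y = 0 := by
    intro y hy hy1
    apply hD.eq_zero 0 y hy
    intro r hr
    rw [neg_zero] at hr
    have hr' : r ∈ Submodule.span k {(1 : R)} := h0 ▸ hr
    rw [Submodule.mem_span_singleton] at hr'
    obtain ⟨c, rfl⟩ := hr'
    rw [map_smul, hy1, smul_zero]
  have hd'ne : d' ≠ 0 := by
    intro h
    apply hxd
    rw [← hd'1, h, map_zero, LinearMap.zero_apply]
  by_cases he₀z : β e₀ 1 = 0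
  · -- then `e₀ = 0`, so `1 ∈ m`, and `d' = 1 • d' = 0`
    exfalso
    have h1 : e₀ = 0 := hdet e₀ he₀0 he₀z
    have h2 : Ideal.Quotient.mk mR.toIdeal (1 : R) = 0 := by
      apply he
      rw [map_zero, ← he₀]
      exact h1
    have h3 : (1 : R) ∈ mR.toIdeal := Ideal.Quotient.eq_zero_iff_mem.mp h2
    have hle : mR.toIdeal ≤ truncW 𝒜 𝒜 hpos h0 1 ⊤ := by
      rw [hmR]
      apply Ideal.span_le.mpr
      intro r hr
      simp only [Set.mem_iUnion, Set.mem_Ioi, SetLike.mem_coe, exists_prop] at hr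
      obtain ⟨n, hn, hrn⟩ := hr
      exact ⟨fun j hj => decompose_of_mem_ne 𝒜 hrn (by omega), Submodule.mem_top⟩
    have h4 := (hle h3).1 0 (by norm_num)
    rw [decompose_of_mem_same 𝒜 (SetLike.GradedOne.one_mem : (1 : R) ∈ 𝒜 0)] at h4
    apply hd'ne
    rw [← one_smul R d', h4, zero_smul]
  · set c : k := β d' 1 / β e₀ 1 with hc
    have hy : d' - c • e₀ = 0 := by
      apply hdet
      · exact sub_mem hd'0 (ksmul_mem 𝒜 𝒟 he₀0 c)
      · rw [map_sub, LinearMap.sub_apply, map_smul, LinearMap.smul_apply, smul_eq_mul, hc,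
          div_mul_cancel₀ _ he₀z, sub_self]
    have hd'e : d' = e (Ideal.Quotient.mk mR.toIdeal (algebraMap k R c)) := by
      rw [sub_eq_zero] at hy
      rw [hy, he₀, ← algebraMap_smul R c, ← map_smul]
      congr 1
      rw [Algebra.smul_def, map_one, mul_one]
      rfl
    intro hbot
    apply hd'ne
    have : d' ∈ P ⊓ LinearMap.range e := ⟨hd'P, by rw [hd'e]; exact LinearMap.mem_range_self _ _⟩
    rw [hbot, Submodule.mem_bot] at this
    exact this

end Hull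

end Groth.Agent.Lib.Helper11.GrDual
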