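import Groth.Agent.Lib.Helper11.GrDualA
import Groth.Agent.Lib.Helper11.GrLCDecomp

/-!
# Graded duals: pieces as dual spaces, reflexivity, existence
-/

set_option autoImplicit false
set_option linter.unusedSectionVars false
set_option linter.unusedVariables false
set_option linter.style.haveILetI false
universe u

namespace Groth.Agent.Lib.Helper11.GrDual

open DirectSum GrLC GrSeg Groth.Agent.Lib.Helper11.GrLCLib

section Theta

variable {k : Type u} [Field k] {R : Type u} [CommRing R] [Algebra k R]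
  (𝒜 : ℤ → Submodule k R) [GradedAlgebra 𝒜]
variable {M : Type u} [AddCommGroup M] [Module R M] [Module k M] [IsScalarTower k R M]
  {τ : Type u} [SetLike τ M] [AddSubgroupClass τ M]
  {ℳ : ℤ → τ} [DirectSum.Decomposition ℳ] [SetLike.GradedSMul 𝒜 ℳ]
variable {D : Type u} [AddCommGroup D] [Module R D] [Module k D] [IsScalarTower k R D]
  {𝒟 : ℤ → AddSubgroup D} [DirectSum.Decomposition 𝒟] [SetLike.GradedSMul 𝒜 𝒟]
  {β : D →ₗ[k] M →ₗ[k] k}

/-- restriction of the pairing to a pair of pieces. -/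
noncomputable def theta (β : D →ₗ[k] M →ₗ[k] k) (n m : ℤ) :
    ↥(compK 𝒜 𝒟 n) →ₗ[k] Module.Dual k ↥(compK 𝒜 ℳ m) where
  toFun d := (β (d : D)).comp (compK 𝒜 ℳ m).subtype
  map_add' d d' := by
    ext x
    simp only [Submodule.coe_add, map_add, LinearMap.add_apply, LinearMap.comp_apply]
  map_smul' c d := by
    ext x
    simp only [Submodule.coe_smul, map_smul, LinearMap.smul_apply, LinearMap.comp_apply,
      RingHom.id_apply]

lemma theta_apply (n m : ℤ) (d : ↥(compK 𝒜 𝒟 n)) (x : ↥(compK 𝒜 ℳ m)) :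
    theta 𝒜 β n m d x = β (d : D) (x : M) := rfl

lemma theta_bijective (hD : IsGDual R ℳ 𝒟 β) (n m : ℤ) (h : m = -n) :
    Function.Bijective (theta 𝒜 β n m : ↥(compK 𝒜 𝒟 n) →ₗ[k] Module.Dual k ↥(compK 𝒜 ℳ m)) := by
  subst h
  constructor
  · rw [injective_iff_map_eq_zero]
    intro d hd
    apply Subtype.ext
    apply hD.eq_zero n d.1 d.2
    intro x hx
    have := LinearMap.congr_fun hd ⟨x, hx⟩
    exact this
  · intro φ
    obtain ⟨g, hg⟩ := LinearMap.exists_extend φ
    obtain ⟨d, hd, hdx⟩ := hD.exists_eq n g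
    refine ⟨⟨d, hd⟩, ?_⟩
    ext x
    rw [theta_apply]
    show β d (x : M) = φ x
    rw [hdx x.1 x.2, ← hg]
    rfl

/-- **Reflexivity**: if the pieces of `M` are finite-dimensional, `M` is the graded dual of `M^*`
under the transposed pairing. -/
theorem isGDual_flip (hD : IsGDual R ℳ 𝒟 β) (hfin : ∀ n, Module.Finite k ↥(compK 𝒜 ℳ n)) :
    IsGDual R 𝒟 ℳ β.flip where
  map_smul r x d := by
    rw [LinearMap.flip_apply, LinearMap.flip_apply]
    exact (hD.map_smul r d x).symm
  vanish n x hx m hm d hd := by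
    rw [LinearMap.flip_apply]
    exact hD.vanish m d hd n (fun e => hm (by rw [e, neg_neg])) x hx
  eq_zero n x hx h := by
    by_contra hx0
    obtain ⟨g, hg⟩ : ∃ g : Module.Dual k M, g x ≠ 0 := by
      by_contra hcon
      push Not at hcon
      exact hx0 ((Module.forall_dual_apply_eq_zero_iff k x).mp hcon)
    obtain ⟨d, hd, hdx⟩ := hD.exists_eq (-n) g
    apply hg
    rw [← hdx x (by rw [neg_neg]; exact hx)]
    have := h d hd
    rwa [LinearMap.flip_apply] at this
  exists_eq n G := by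
    haveI := hfin n
    let ΘE := LinearEquiv.ofBijective (theta 𝒜 β (-n) n)
      (theta_bijective 𝒜 hD (-n) n (neg_neg n).symm)
    let G' : Module.Dual k (Module.Dual k ↥(compK 𝒜 ℳ n)) :=
      (G.comp (compK 𝒜 𝒟 (-n)).subtype).comp ΘE.symm.toLinearMap
    let x := (Module.evalEquiv k ↥(compK 𝒜 ℳ n)).symm G'
    refine ⟨x.1, x.2, fun d hd => ?_⟩
    rw [LinearMap.flip_apply]
    have h1 : β d (x : M) = (ΘE ⟨d, hd⟩) x := rfl
    rw [h1, Module.apply_evalEquiv_symm_apply]
    show G ((compK 𝒜 𝒟 (-n)).subtype (ΘE.symm (ΘE ⟨d, hd⟩))) = G d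
    rw [LinearEquiv.symm_apply_apply]
    rfl

/-- separation of a point from a subspace of a piece of the dual by an element of `M`. -/
theorem exists_separating (hD : IsGDual R ℳ 𝒟 β) (hfin : ∀ n, Module.Finite k ↥(compK 𝒜 ℳ n))
    (n : ℤ) (U : Submodule k D) (d : D) (hd : d ∈ 𝒟 n) (hdU : d ∉ U) :
    ∃ x ∈ ℳ (-n), (∀ u ∈ U, u ∈ 𝒟 n → β u x = 0) ∧ β d x ≠ 0 := by
  obtain ⟨G, hGd, hGU⟩ := Submodule.exists_dual_map_eq_bot_of_notMem hdU inferInstance
  obtain ⟨x, hx, hxG⟩ := (isGDual_flip 𝒜 hD hfin).exists_eq (-n) G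
  refine ⟨x, hx, fun u hu hun => ?_, ?_⟩
  · have := hxG u (by rw [neg_neg]; exact hun)
    rw [LinearMap.flip_apply] at this
    rw [this]
    have hmem : G u ∈ U.map G := ⟨u, hu, rfl⟩
    rw [hGU, Submodule.mem_bot] at hmem
    exact hmem
  · have := hxG d (by rw [neg_neg]; exact hd)
    rw [LinearMap.flip_apply] at this
    rw [this]
    exact hGd

end Theta

section Construction

variable (k : Type u) [Field k] (R : Type u) [CommRing R] [Algebra k R]
variable (M : Type u) [AddCommGroup M] [Module R M] [Module k M] [IsScalarTower k R M]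

/-- the `k`-dual of `M` with `R` acting through the argument. -/
def KDual : Type u := M →ₗ[k] k

noncomputable instance : AddCommGroup (KDual k M) := inferInstanceAs (AddCommGroup (M →ₗ[k] k))

variable {k M}

/-- view an element of `KDual` as a functional. -/
def KDual.toFn (f : KDual k M) : M →ₗ[k] k := f

/-- scalar multiplication by `r` as a `k`-linear endomorphism. -/
noncomputable def lsmulK (k : Type u) [Field k] {R : Type u} [CommRing R] [Algebra k R]
    {M : Type u} [AddCommGroup M] [Module R M] [Module k M] [IsScalarTower k R M] (r : R) :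
    M →ₗ[k] M := (LinearMap.lsmul R M r).restrictScalars k

lemma lsmulK_apply (r : R) (x : M) : lsmulK k r x = r • x := rfl

noncomputable instance : Module R (KDual k M) where
  smul r f := (KDual.toFn f).comp (lsmulK k r)
  one_smul f := by
    apply LinearMap.ext
    intro x
    show KDual.toFn f ((1 : R) • x) = KDual.toFn f x
    rw [one_smul]
  mul_smul r s f := by
    apply LinearMap.ext
    intro x
    show KDual.toFn f ((r * s) • x) = KDual.toFn f (s • r • x)
    rw [mul_comm, mul_smul]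
  smul_zero r := by
    apply LinearMap.ext
    intro x
    rfl
  smul_add r f g := by
    apply LinearMap.ext
    intro x
    rfl
  add_smul r s f := by
    apply LinearMap.ext
    intro x
    show KDual.toFn f ((r + s) • x) = KDual.toFn f (r • x) + KDual.toFn f (s • x)
    rw [add_smul, map_add]
  zero_smul f := by
    apply LinearMap.ext
    intro x
    show KDual.toFn f ((0 : R) • x) = 0
    rw [zero_smul, map_zero]

lemma KDual.smul_apply (r : R) (f : KDual k M) (x : M) :
    KDual.toFn (r • f) x = KDual.toFn f (r • x) := rfl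

lemma KDual.ksmul_apply (c : k) (f : KDual k M) (x : M) :
    KDual.toFn (c • f) x = c • KDual.toFn f x := by
  rw [KDual.smul_apply, map_smul]

lemma KDual.add_apply (f g : KDual k M) (x : M) :
    KDual.toFn (f + g) x = KDual.toFn f x + KDual.toFn g x := rfl

instance : IsScalarTower k R (KDual k M) where
  smul_assoc c r f := by
    apply LinearMap.ext
    intro x
    show KDual.toFn f ((c • r) • x) = KDual.toFn f (r • c • x)
    rw [smul_assoc, smul_comm]

end Construction

section GD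

variable {k : Type u} [Field k] {R : Type u} [CommRing R] [Algebra k R]
  (𝒜 : ℤ → Submodule k R) [GradedAlgebra 𝒜]
variable {M : Type u} [AddCommGroup M] [Module R M] [Module k M] [IsScalarTower k R M]
  {τ : Type u} [SetLike τ M] [AddSubgroupClass τ M]
  (ℳ : ℤ → τ) [DirectSum.Decomposition ℳ] [SetLike.GradedSMul 𝒜 ℳ]

/-- the graded dual inside the full dual: functionals vanishing on almost all pieces. -/
def gd : Submodule R (KDual k M) where
  carrier := {f | ∃ s : Finset ℤ, ∀ n, n ∉ s → ∀ x ∈ ℳ n, KDual.toFn f x = 0}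
  add_mem' := by
    classical
    rintro f g ⟨s, hs⟩ ⟨t, ht⟩
    refine ⟨s ∪ t, fun n hn x hx => ?_⟩
    rw [Finset.mem_union, not_or] at hn
    rw [KDual.add_apply, hs n hn.1 x hx, ht n hn.2 x hx, add_zero]
  zero_mem' := ⟨∅, fun n _ x _ => rfl⟩
  smul_mem' := by
    classical
    rintro r f ⟨s, hs⟩
    refine ⟨((decompose 𝒜 r).support ×ˢ s).image (fun p => p.2 - p.1), fun n hn x hx => ?_⟩
    rw [KDual.smul_apply, ← DirectSum.sum_support_decompose 𝒜 r, Finset.sum_smul, map_sum]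
    apply Finset.sum_eq_zero
    intro i hi
    apply hs (i + n)
    · intro his
      apply hn
      rw [Finset.mem_image]
      exact ⟨(i, i + n), Finset.mem_product.mpr ⟨hi, his⟩, by simp⟩
    · have := SetLike.GradedSMul.smul_mem (A := 𝒜) (B := ℳ) (SetLike.coe_mem (decompose 𝒜 r i)) hx
      rwa [vadd_eq_add] at this

/-- the carrier of the graded dual. -/
abbrev GD : Type u := ↥(gd 𝒜 ℳ)

/-- its pieces. -/
def gdGr (n : ℤ) : AddSubgroup (GD 𝒜 ℳ) where
  carrier := {f | ∀ m, m ≠ -n → ∀ x ∈ ℳ m, KDual.toFn f.1 x = 0}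
  add_mem' := by
    intro f g hf hg m hm x hx
    show KDual.toFn (f.1 + g.1) x = 0
    rw [KDual.add_apply, hf m hm x hx, hg m hm x hx, add_zero]
  zero_mem' := fun m _ x _ => rfl
  neg_mem' := by
    intro f hf m hm x hx
    show -(KDual.toFn f.1 x) = 0
    rw [hf m hm x hx, neg_zero]

lemma mem_gdGr {n : ℤ} {f : GD 𝒜 ℳ} :
    f ∈ gdGr 𝒜 ℳ n ↔ ∀ m, m ≠ -n → ∀ x ∈ ℳ m, KDual.toFn f.1 x = 0 := Iff.rfl

/-- the pairing. -/
noncomputable def gdPair : GD 𝒜 ℳ →ₗ[k] M →ₗ[k] k where
  toFun f := KDual.toFn f.1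
  map_add' f g := rfl
  map_smul' c f := by
    apply LinearMap.ext
    intro x
    show KDual.toFn (c • f.1) x = c • KDual.toFn f.1 x
    rw [KDual.ksmul_apply]

lemma gdPair_apply (f : GD 𝒜 ℳ) (x : M) : gdPair 𝒜 ℳ f x = KDual.toFn f.1 x := by rfl

lemma gdPair_smul (r : R) (f : GD 𝒜 ℳ) (x : M) : gdPair 𝒜 ℳ (r • f) x = gdPair 𝒜 ℳ f (r • x) := by rfl

lemma gd_ext {f g : GD 𝒜 ℳ} (h : ∀ n, ∀ x ∈ ℳ n, gdPair 𝒜 ℳ f x = gdPair 𝒜 ℳ g x) : f = g := by
  apply Subtype.ext
  apply LinearMap.ext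
  intro x
  exact eq_of_forall_homogeneous ℳ (gdPair 𝒜 ℳ f).toAddMonoidHom (gdPair 𝒜 ℳ g).toAddMonoidHom h x

/-- the component of a functional: `f ∘ proj_{-n}`. -/
noncomputable def gdProj (n : ℤ) : GD 𝒜 ℳ →+ GD 𝒜 ℳ where
  toFun f := ⟨(KDual.toFn f.1).comp (projK 𝒜 ℳ (-n)), by
    classical
    refine ⟨{-n}, fun m hm x hx => ?_⟩
    rw [Finset.mem_singleton] at hm
    show KDual.toFn f.1 (projK 𝒜 ℳ (-n) x) = 0
    rw [projK_of_mem_ne 𝒜 ℳ hx hm, map_zero]⟩
  map_zero' := by
    apply Subtype.ext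
    apply LinearMap.ext
    intro x
    rfl
  map_add' f g := by
    apply Subtype.ext
    apply LinearMap.ext
    intro x
    rfl

lemma gdProj_apply (n : ℤ) (f : GD 𝒜 ℳ) (x : M) :
    gdPair 𝒜 ℳ (gdProj 𝒜 ℳ n f) x = gdPair 𝒜 ℳ f (projK 𝒜 ℳ (-n) x) := by rfl

lemma gd_isInternal : DirectSum.IsInternal (gdGr 𝒜 ℳ) := by
  classical
  refine isInternal_of_proj (gdGr 𝒜 ℳ) (gdProj 𝒜 ℳ) ?_ ?_ ?_ ?_
  · intro n f m hm x hx
    show gdPair 𝒜 ℳ (gdProj 𝒜 ℳ n f) x = 0
    rw [gdProj_apply, projK_of_mem_ne 𝒜 ℳ hx hm, map_zero]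
  · intro n f hf
    apply gd_ext
    intro m x hx
    rw [gdProj_apply]
    by_cases hm : m = -n
    · subst hm
      rw [projK_of_mem 𝒜 ℳ hx]
    · rw [projK_of_mem_ne 𝒜 ℳ hx hm, map_zero]
      exact (hf m hm x hx).symm
  · intro n n' f hf hne
    apply gd_ext
    intro m x hx
    rw [gdProj_apply]
    by_cases hm : m = -n'
    · subst hm
      rw [projK_of_mem 𝒜 ℳ hx]
      have : gdPair 𝒜 ℳ f x = 0 := hf (-n') (fun e => hne (neg_injective e)) x hx
      rw [this]
      rfl
    · rw [projK_of_mem_ne 𝒜 ℳ hx hm, map_zero]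
      rfl
  · intro f
    obtain ⟨s, hs⟩ := f.2
    refine ⟨s.image (fun i => -i), ?_⟩
    apply gd_ext
    intro m x hx
    rw [map_sum, LinearMap.sum_apply]
    simp only [gdProj_apply]
    by_cases hm : m ∈ s
    · rw [Finset.sum_eq_single (-m)]
      · rw [neg_neg, projK_of_mem 𝒜 ℳ hx]
      · intro i _ hi
        rw [projK_of_mem_ne 𝒜 ℳ hx (fun e => hi (by rw [e, neg_neg])), map_zero]
      · intro h
        exfalso
        apply h
        rw [Finset.mem_image]
        exact ⟨m, hm, rfl⟩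
    · rw [Finset.sum_eq_zero]
      · exact (hs m hm x hx).symm
      · intro i hi
        rw [Finset.mem_image] at hi
        obtain ⟨j, hj, rfl⟩ := hi
        rw [neg_neg, projK_of_mem_ne 𝒜 ℳ hx (fun e => hm (e ▸ hj)), map_zero]

@[instance_reducible]
noncomputable def gdDecomposition : DirectSum.Decomposition (gdGr 𝒜 ℳ) :=
  (gd_isInternal 𝒜 ℳ).chooseDecomposition

lemma gdGradedSMul : SetLike.GradedSMul 𝒜 (gdGr 𝒜 ℳ) where
  smul_mem := by
    intro i n r f hr hf m hm x hx
    show gdPair 𝒜 ℳ (r • f) x = 0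
    rw [gdPair_smul]
    apply hf (i + m)
    · intro e
      apply hm
      rw [vadd_eq_add]
      omega
    · have := SetLike.GradedSMul.smul_mem (A := 𝒜) (B := ℳ) hr hx
      rwa [vadd_eq_add] at this

/-- the constructed module is the graded dual. -/
theorem isGDual_gd [DirectSum.Decomposition (gdGr 𝒜 ℳ)] :
    IsGDual R ℳ (gdGr 𝒜 ℳ) (gdPair 𝒜 ℳ) where
  map_smul r f x := rfl
  vanish n f hf m hm x hx := hf m hm x hx
  eq_zero n f hf h := by
    apply gd_ext
    intro m x hx
    by_cases hm : m = -n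
    · subst hm
      rw [h x hx]
      rfl
    · rw [gdPair_apply, hf m hm x hx]
      rfl
  exists_eq n g := by
    classical
    refine ⟨⟨g.comp (projK 𝒜 ℳ (-n)), ⟨{-n}, fun m hm x hx => ?_⟩⟩, ?_, ?_⟩
    · rw [Finset.mem_singleton] at hm
      show g (projK 𝒜 ℳ (-n) x) = 0
      rw [projK_of_mem_ne 𝒜 ℳ hx hm, map_zero]
    · intro m hm x hx
      show g (projK 𝒜 ℳ (-n) x) = 0
      rw [projK_of_mem_ne 𝒜 ℳ hx hm, map_zero]
    · intro x hx
      show g (projK 𝒜 ℳ (-n) x) = g x
      rw [projK_of_mem 𝒜 ℳ hx]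

end GD

end Groth.Agent.Lib.Helper11.GrDual
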