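import Groth.Agent.Lib.Helper11.GrCanC
import Groth.Agent.Lib.Helper11.GrCoreI
import Groth.Agent.Lib.Helper25.InjLocMax
import Groth.Agent.Lib.Helper16.LocCohLocalize
import Groth.Agent.Lib.Helper11.GrLCOrdB

/-!
# From a *canonical module of a graded *local ring (with `m` maximal) to a canonical module of `R_m`
-/

set_option autoImplicit false
set_option linter.unusedSectionVars false
set_option linter.style.haveILetI false
set_option linter.unusedVariables false
universe u

namespace Groth.Agent.Lib.Helper11.GrLoc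

open DirectSum GrLC Groth.Agent.Lib.Helper11.GrLCLib Groth.Agent.Lib.Helper11.GrCan
  Groth.Agent.Lib.Helper11.GrCore

section Hull

variable {R : Type u} [CommRing R] [IsNoetherianRing R] (𝒜 : ℤ → AddSubgroup R) [GradedRing 𝒜]
variable {E' : Type u} [AddCommGroup E'] [Module R E'] (𝓔 : ℤ → AddSubgroup E')
  [DirectSum.Decomposition 𝓔] [SetLike.GradedSMul 𝒜 𝓔]
variable {m : HomogeneousIdeal 𝒜} {e : (R ⧸ m.toIdeal) →ₗ[R] E'}

/-- the *injective hull of `R/m` is injective when `m` is a maximal ideal. -/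
theorem injective_hull (he : IsStarInjHull 𝒜 (quotGr 𝒜 m) 𝓔 e) [hmax : m.toIdeal.IsMaximal] :
    Module.Injective R E' := by
  by_contra hni
  obtain ⟨p, hp, hph, hass⟩ := (not_injective_iff_of_isStarInj_int 𝒜 𝓔 he.starInj).1 hni
  -- the associated prime `p*` contains `m`
  rw [AssociatedPrimes.mem_iff, isAssociatedPrime_iff] at hass
  obtain ⟨hPp, x, hx⟩ := hass
  have hgam := gam_hull_eq_top 𝒜 𝓔 he
  have hxg : x ∈ gam m.toIdeal E' := by rw [hgam]; exact Submodule.mem_top
  obtain ⟨k, hk⟩ := hxg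
  have hle : m.toIdeal ^ k ≤ (Ideal.homogeneousCore 𝒜 p).toIdeal := by
    intro r hr
    rw [hx, Submodule.mem_colon_singleton, hk r hr]
    exact Submodule.zero_mem _
  have hle' : m.toIdeal ≤ (Ideal.homogeneousCore 𝒜 p).toIdeal := hPp.le_of_pow_le hle
  have hcore_le : (Ideal.homogeneousCore 𝒜 p).toIdeal ≤ p := Ideal.toIdeal_homogeneousCore_le 𝒜 p
  have hmp : m.toIdeal = p := hmax.eq_of_le hp.ne_top (hle'.trans hcore_le)
  exact hph (hmp ▸ m.isHomogeneous)

theorem isInjectiveHull_hull (he : IsStarInjHull 𝒜 (quotGr 𝒜 m) 𝓔 e)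
    [hmax : m.toIdeal.IsMaximal] : InjHull.IsInjectiveHull e :=
  { toIsEssentialInj := isEssentialInj_hull 𝒜 𝓔 he
    isInjective := injective_hull 𝒜 𝓔 he }

end Hull


section Local

open IsLocalRing

variable {R : Type u} [CommRing R] [IsNoetherianRing R] (p : Ideal R) [hmax : p.IsMaximal]

/-- the localization at a maximal ideal of an injective hull of `R/p` is an injective hull of the
residue field of `R_p`. -/
theorem exists_hull_localized {E' : Type u} [AddCommGroup E'] [Module R E']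
    (e : (R ⧸ p) →ₗ[R] E') (he : InjHull.IsInjectiveHull e) :
    ∃ f : ResidueField (Localization.AtPrime p) →ₗ[Localization.AtPrime p]
      LocalizedModule p.primeCompl E', InjHull.IsInjectiveHull f := by
  have hloc := Groth.Agent.Lib.Helper25.isInjectiveHull_localizedModule_map p.primeCompl he
  have := Groth.Agent.Lib.Helper25.isSimpleModule_localizedModule_quotient p
  obtain ⟨e₀⟩ := Groth.Agent.Lib.Helper25.nonempty_equiv_residueField_of_isSimpleModule
    (R := Localization p.primeCompl) (LocalizedModule p.primeCompl (R ⧸ p))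
  exact ⟨LocalizedModule.map p.primeCompl e ∘ₗ e₀.symm.toLinearMap,
    ⟨Groth.Agent.Lib.Helper25.essInj_comp
      (Groth.Agent.Lib.Helper25.isEssentialInj_of_bijective e₀.symm.bijective)
      hloc.toIsEssentialInj, hloc.isInjective⟩⟩

variable {C E' : Type u} [AddCommGroup C] [Module R C] [AddCommGroup E'] [Module R E']

/-- maps out of a localization into a localized module. -/
noncomputable def precompEquiv :
    (LocalizedModule p.primeCompl C →ₗ[R] LocalizedModule p.primeCompl E') ≃ₗ[R]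
      (C →ₗ[R] LocalizedModule p.primeCompl E') where
  toFun g := g ∘ₗ LocalizedModule.mkLinearMap p.primeCompl C
  map_add' g g' := rfl
  map_smul' r g := rfl
  invFun h := IsLocalizedModule.lift p.primeCompl (LocalizedModule.mkLinearMap p.primeCompl C) h
    (IsLocalizedModule.map_units (LocalizedModule.mkLinearMap p.primeCompl E'))
  left_inv g := by
    apply IsLocalizedModule.linearMap_ext p.primeCompl (LocalizedModule.mkLinearMap p.primeCompl C)
      (LocalizedModule.mkLinearMap p.primeCompl E')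
    rw [IsLocalizedModule.lift_comp]
  right_inv h := IsLocalizedModule.lift_comp _ _ _ _


/-- transport of a duality isomorphism to the localization at a maximal ideal (torsion case). -/
theorem nonempty_dual_equiv {X₀ : Type u} [AddCommGroup X₀] [Module R X₀]
    (hE : LocCoh.IsPowerTorsion p E') (hX : LocCoh.IsPowerTorsion p X₀)
    (Φ : (C →ₗ[R] E') ≃ₗ[R] X₀) :
    Nonempty ((LocalizedModule p.primeCompl C →ₗ[Localization.AtPrime p]
      LocalizedModule p.primeCompl E') ≃ₗ[Localization.AtPrime p]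
        LocalizedModule p.primeCompl X₀) := by
  let eE : E' ≃ₗ[R] LocalizedModule p.primeCompl E' :=
    LinearEquiv.ofBijective (LocalizedModule.mkLinearMap p.primeCompl E')
      (Groth.Agent.Lib.Helper25.mkLinearMap_bijective_of_isPowerTorsion hE)
  let eX : X₀ ≃ₗ[R] LocalizedModule p.primeCompl X₀ :=
    LinearEquiv.ofBijective (LocalizedModule.mkLinearMap p.primeCompl X₀)
      (Groth.Agent.Lib.Helper25.mkLinearMap_bijective_of_isPowerTorsion hX)
  let e1 : (LocalizedModule p.primeCompl C →ₗ[Localization.AtPrime p]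
      LocalizedModule p.primeCompl E') ≃ₗ[R]
      (LocalizedModule p.primeCompl C →ₗ[R] LocalizedModule p.primeCompl E') :=
    ((LinearMap.extendScalarsOfIsLocalizationEquiv p.primeCompl
      (Localization.AtPrime p)).symm).restrictScalars R
  let e2 := precompEquiv p (C := C) (E' := E')
  let e3 : (C →ₗ[R] LocalizedModule p.primeCompl E') ≃ₗ[R] (C →ₗ[R] E') :=
    LinearEquiv.arrowCongr (LinearEquiv.refl R C) eE.symm
  let tot : (LocalizedModule p.primeCompl C →ₗ[Localization.AtPrime p]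
      LocalizedModule p.primeCompl E') ≃ₗ[R] LocalizedModule p.primeCompl X₀ :=
    e1 ≪≫ₗ e2 ≪≫ₗ e3 ≪≫ₗ Φ ≪≫ₗ eX
  exact ⟨LinearEquiv.extendScalarsOfIsLocalization p.primeCompl (Localization.AtPrime p) tot⟩

end Local


section Main

open IsLocalRing

variable {R : Type u} [CommRing R] [IsNoetherianRing R] (𝒜 : ℤ → AddSubgroup R) [GradedRing 𝒜]
variable {E' : Type u} [AddCommGroup E'] [Module R E'] (𝓔 : ℤ → AddSubgroup E')
  [DirectSum.Decomposition 𝓔] [SetLike.GradedSMul 𝒜 𝓔]
variable {C : Type u} [AddCommGroup C] [Module R C] (𝒞 : ℤ → AddSubgroup C)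
  [DirectSum.Decomposition 𝒞] [SetLike.GradedSMul 𝒜 𝒞]
variable {m : HomogeneousIdeal 𝒜} {e : (R ⧸ m.toIdeal) →ₗ[R] E'}

lemma isPowerTorsion_H {M : Type u} [AddCommGroup M] [Module R M] (ℳ : ℤ → AddSubgroup M)
    [DirectSum.Decomposition ℳ] [SetLike.GradedSMul 𝒜 ℳ] (I : StarInjRes 𝒜 ℳ)
    (a : HomogeneousIdeal 𝒜) (n : ℕ) : LocCoh.IsPowerTorsion a.toIdeal (I.H a n) := by
  intro z
  obtain ⟨w, rfl⟩ := Submodule.mkQ_surjective _ z
  obtain ⟨k, hk⟩ := w.2.1
  refine ⟨k, fun r hr => ?_⟩
  rw [← map_smul]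
  have : r • w = 0 := Subtype.ext (hk r hr)
  rw [this, map_zero]

/-- The localization at `m` of a *canonical module is a canonical module of `R_m`
(ℤ-graded, `m` a maximal ideal). -/
theorem exists_local_canonical [hmax : m.toIdeal.IsMaximal] (n : ℕ) (I : StarInjRes 𝒜 𝒜)
    (he : IsStarInjHull 𝒜 (quotGr 𝒜 m) 𝓔 e) (hC : IsStarCanonical 𝒜 𝒞 𝓔 m n I) :
    ∃ f : ResidueField (Localization.AtPrime m.toIdeal) →ₗ[Localization.AtPrime m.toIdeal]
      LocalizedModule m.toIdeal.primeCompl E', InjHull.IsInjectiveHull f ∧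
      Nonempty ((LocalizedModule m.toIdeal.primeCompl C →ₗ[Localization.AtPrime m.toIdeal]
        LocalizedModule m.toIdeal.primeCompl E') ≃ₗ[Localization.AtPrime m.toIdeal]
        LocCoh.H (maximalIdeal (Localization.AtPrime m.toIdeal)) n
          (Localization.AtPrime m.toIdeal)) := by
  obtain ⟨f, hf⟩ := exists_hull_localized m.toIdeal e (isInjectiveHull_hull 𝒜 𝓔 he)
  refine ⟨f, hf, ?_⟩
  obtain ⟨-, Φ, -⟩ := hC
  obtain ⟨ψ⟩ := Groth.Agent.Lib.Helper11.GrLCOrd.nonempty_H_equiv I m n
  have hE : LocCoh.IsPowerTorsion m.toIdeal E' := by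
    intro x
    have hx : x ∈ gam m.toIdeal E' := by rw [gam_hull_eq_top 𝒜 𝓔 he]; exact Submodule.mem_top
    exact hx
  have hX : LocCoh.IsPowerTorsion m.toIdeal (LocCoh.H m.toIdeal n R) := by
    intro z
    obtain ⟨k, hk⟩ := isPowerTorsion_H 𝒜 𝒜 I m n (ψ.symm z)
    refine ⟨k, fun a ha => ?_⟩
    have := hk a ha
    rw [← map_smul] at this
    exact ψ.symm.map_eq_zero_iff.1 this
  obtain ⟨e1⟩ := nonempty_dual_equiv m.toIdeal hE hX (Φ ≪≫ₗ ψ)
  obtain ⟨e2⟩ := Groth.Agent.Lib.Helper16.DTL.nonempty_localized_H_equiv m.toIdeal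
    m.toIdeal.primeCompl R n
  let eA : LocalizedModule m.toIdeal.primeCompl R ≃ₗ[Localization.AtPrime m.toIdeal]
      Localization.AtPrime m.toIdeal :=
    LinearEquiv.extendScalarsOfIsLocalization m.toIdeal.primeCompl (Localization.AtPrime m.toIdeal)
      (IsLocalizedModule.linearEquiv m.toIdeal.primeCompl
        (LocalizedModule.mkLinearMap m.toIdeal.primeCompl R)
        (Algebra.linearMap R (Localization.AtPrime m.toIdeal)))
  have e3 := Groth.Agent.Lib.Helper16.DTL.HcongrEquiv
    (Ideal.map (algebraMap R (Localization.AtPrime m.toIdeal)) m.toIdeal) n eA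
  rw [Localization.AtPrime.map_eq_maximalIdeal] at e2 e3
  exact ⟨e1 ≪≫ₗ e2 ≪≫ₗ e3⟩

end Main

end Groth.Agent.Lib.Helper11.GrLoc
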