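import Groth.Agent.Lib.Helper11.GrDualB
import Groth.Agent.Lib.Helper11.GrDualC
import Groth.Agent.Lib.Helper11.GrConv
import Groth.Agent.Lib.Helper11.GrLocA

/-!
# Graded duals: `R^*` is Artinian; duals of finitely generated modules are Artinian
-/

set_option autoImplicit false
set_option linter.unusedSectionVars false
set_option linter.unusedVariables false
set_option linter.style.haveILetI false
universe u

namespace Groth.Agent.Lib.Helper11.GrDual

open DirectSum GrLC GrSeg Groth.Agent.Lib.Helper11.GrLCLib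

section Irrelevant

variable {k : Type u} [Field k] {R : Type u} [CommRing R] [Algebra k R]
  (𝒜 : ℤ → Submodule k R) [GradedAlgebra 𝒜]

lemma mem_irrelevant_iff (hpos : ∀ n : ℤ, n < 0 → 𝒜 n = ⊥)
    (h0 : 𝒜 0 = Submodule.span k {(1 : R)}) (mR : HomogeneousIdeal 𝒜)
    (hmR : mR.toIdeal = Ideal.span (⋃ n ∈ Set.Ioi (0 : ℤ), (𝒜 n : Set R))) (r : R) :
    r ∈ mR.toIdeal ↔ (decompose 𝒜 r 0 : R) = 0 := by
  classical
  constructor
  · intro hr
    have hle : mR.toIdeal ≤ truncW 𝒜 𝒜 hpos h0 1 ⊤ := by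
      rw [hmR]
      apply Ideal.span_le.mpr
      intro r hr
      simp only [Set.mem_iUnion, Set.mem_Ioi, SetLike.mem_coe, exists_prop] at hr
      obtain ⟨n, hn, hrn⟩ := hr
      exact ⟨fun j hj => decompose_of_mem_ne 𝒜 hrn (by omega), Submodule.mem_top⟩
    exact (hle hr).1 0 (by norm_num)
  · intro h
    rw [← DirectSum.sum_support_decompose 𝒜 r]
    apply Ideal.sum_mem
    intro i _
    rcases lt_trichotomy i 0 with hi | hi | hi
    · have h' : (decompose 𝒜 r i : R) ∈ (⊥ : Submodule k R) := hpos i hi ▸ SetLike.coe_mem _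
      rw [(Submodule.mem_bot k).mp h']
      exact zero_mem _
    · subst hi
      rw [h]
      exact zero_mem _
    · rw [hmR]
      apply Ideal.subset_span
      simp only [Set.mem_iUnion, Set.mem_Ioi, SetLike.mem_coe, exists_prop]
      exact ⟨i, hi, SetLike.coe_mem _⟩

theorem isMaximal_irrelevant [Nontrivial R] (hpos : ∀ n : ℤ, n < 0 → 𝒜 n = ⊥)
    (h0 : 𝒜 0 = Submodule.span k {(1 : R)}) (mR : HomogeneousIdeal 𝒜)
    (hmR : mR.toIdeal = Ideal.span (⋃ n ∈ Set.Ioi (0 : ℤ), (𝒜 n : Set R))) :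
    mR.toIdeal.IsMaximal := by
  rw [Ideal.isMaximal_iff]
  have h1 : (1 : R) ∈ 𝒜 0 := SetLike.GradedOne.one_mem
  constructor
  · rw [mem_irrelevant_iff 𝒜 hpos h0 mR hmR, decompose_of_mem_same 𝒜 h1]
    exact one_ne_zero
  · intro J x hJ hx hxJ
    rw [mem_irrelevant_iff 𝒜 hpos h0 mR hmR] at hx
    have hx0 : (decompose 𝒜 x 0 : R) ∈ Submodule.span k {(1 : R)} := h0 ▸ SetLike.coe_mem _
    rw [Submodule.mem_span_singleton] at hx0
    obtain ⟨c, hc⟩ := hx0
    have hc0 : c ≠ 0 := by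
      intro h
      apply hx
      rw [← hc, h, zero_smul]
    have hm : x - (decompose 𝒜 x 0 : R) ∈ mR.toIdeal := by
      rw [mem_irrelevant_iff 𝒜 hpos h0 mR hmR, decompose_sub, DirectSum.sub_apply,
        AddSubgroupClass.coe_sub, decompose_of_mem_same 𝒜 (SetLike.coe_mem _), sub_self]
    have hx0J : (decompose 𝒜 x 0 : R) ∈ J := by
      have := J.sub_mem hxJ (hJ hm)
      rwa [sub_sub_cancel] at this
    rw [← hc] at hx0J
    have := J.mul_mem_left (algebraMap k R c⁻¹) hx0J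
    rwa [← Algebra.smul_def, smul_smul, inv_mul_cancel₀ hc0, one_smul] at this

end Irrelevant

section Self

variable {k : Type u} [Field k] {R : Type u} [CommRing R] [Algebra k R]
  (𝒜 : ℤ → Submodule k R) [GradedAlgebra 𝒜]
variable {D : Type u} [AddCommGroup D] [Module R D] [Module k D] [IsScalarTower k R D]
  (𝒟 : ℤ → AddSubgroup D) [DirectSum.Decomposition 𝒟] [SetLike.GradedSMul 𝒜 𝒟]
  (β : D →ₗ[k] R →ₗ[k] k)

/-- pairing with an element of `D_n` only sees the component of degree `-n`. -/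
lemma apply_eq_proj {M : Type u} [AddCommGroup M] [Module R M] [Module k M] [IsScalarTower k R M]
    {τ : Type u} [SetLike τ M] [AddSubgroupClass τ M] {ℳ : ℤ → τ} [DirectSum.Decomposition ℳ]
    [SetLike.GradedSMul 𝒜 ℳ] {β : D →ₗ[k] M →ₗ[k] k}
    (hD : IsGDual R ℳ 𝒟 β) {n : ℤ} {d : D} (hd : d ∈ 𝒟 n) (x : M) :
    β d x = β d (projK 𝒜 ℳ (-n) x) := by
  refine eq_of_forall_homogeneous ℳ (β d).toAddMonoidHom
    ((β d).comp (projK 𝒜 ℳ (-n))).toAddMonoidHom ?_ x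
  intro m y hy
  show β d y = β d (projK 𝒜 ℳ (-n) y)
  by_cases hm : m = -n
  · subst hm
    rw [projK_of_mem 𝒜 ℳ hy]
  · rw [projK_of_mem_ne 𝒜 ℳ hy hm, map_zero]
    exact hD.vanish n d hd m hm y hy

/-- a *injective-hull map `R/m → R^*`. -/
theorem exists_hull_map [Nontrivial R] (hpos : ∀ n : ℤ, n < 0 → 𝒜 n = ⊥)
    (h0 : 𝒜 0 = Submodule.span k {(1 : R)}) (mR : HomogeneousIdeal 𝒜)
    (hmR : mR.toIdeal = Ideal.span (⋃ n ∈ Set.Ioi (0 : ℤ), (𝒜 n : Set R)))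
    (hD : IsGDual R 𝒜 𝒟 β) :
    ∃ e : (R ⧸ mR.toIdeal) →ₗ[R] D, Function.Injective e ∧ IsGrHom (quotGr 𝒜 mR) 𝒟 e := by
  have h1 : (1 : R) ∈ 𝒜 0 := SetLike.GradedOne.one_mem
  obtain ⟨G, hG⟩ : ∃ G : Module.Dual k R, G 1 ≠ 0 := by
    by_contra hcon
    push Not at hcon
    exact one_ne_zero ((Module.forall_dual_apply_eq_zero_iff k (1 : R)).mp hcon)
  obtain ⟨d₁, hd₁, hd₁x⟩ := hD.exists_eq 0 ((G 1)⁻¹ • G)
  have hd₁1 : β d₁ 1 = 1 := by
    rw [hd₁x 1 (by rw [neg_zero]; exact h1), LinearMap.smul_apply, smul_eq_mul,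
      inv_mul_cancel₀ hG]
  have hkill : ∀ r ∈ mR.toIdeal, r • d₁ = 0 := by
    intro r hr
    apply eq_zero_of_forall hD
    intro x
    rw [hD.map_smul, apply_eq_proj 𝒜 𝒟 hD hd₁, neg_zero, projK_apply]
    have : r • x ∈ mR.toIdeal := by
      rw [smul_eq_mul, mul_comm]
      exact mR.toIdeal.mul_mem_left x hr
    rw [(mem_irrelevant_iff 𝒜 hpos h0 mR hmR _).mp this, map_zero]
  let e : (R ⧸ mR.toIdeal) →ₗ[R] D :=
    Submodule.liftQ mR.toIdeal (LinearMap.toSpanSingleton R D d₁) (by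
      intro r hr
      rw [LinearMap.mem_ker, LinearMap.toSpanSingleton_apply]
      exact hkill r hr)
  have he : ∀ r : R, e (Ideal.Quotient.mk mR.toIdeal r) = r • d₁ := fun r => rfl
  refine ⟨e, ?_, ?_⟩
  · rw [injective_iff_map_eq_zero]
    intro x hx
    obtain ⟨r, rfl⟩ := Ideal.Quotient.mk_surjective x
    rw [he] at hx
    rw [Ideal.Quotient.eq_zero_iff_mem, mem_irrelevant_iff 𝒜 hpos h0 mR hmR]
    have hr0 : (decompose 𝒜 r 0 : R) ∈ Submodule.span k {(1 : R)} := h0 ▸ SetLike.coe_mem _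
    rw [Submodule.mem_span_singleton] at hr0
    obtain ⟨c, hc⟩ := hr0
    have h2 : β (r • d₁) 1 = c := by
      rw [hD.map_smul, apply_eq_proj 𝒜 𝒟 hD hd₁, neg_zero, projK_apply, smul_eq_mul, mul_one,
        ← hc, map_smul, hd₁1, smul_eq_mul, mul_one]
    rw [hx, map_zero, LinearMap.zero_apply] at h2
    rw [← hc, ← h2, zero_smul]
  · intro n x hx
    obtain ⟨r, hr, rfl⟩ := hx
    show e (Ideal.Quotient.mk mR.toIdeal r) ∈ 𝒟 n
    rw [he]
    have := SetLike.GradedSMul.smul_mem (A := 𝒜) (B := 𝒟) hr hd₁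
    rwa [vadd_eq_add, add_zero] at this

/-- `R^*` is an Artinian module. -/
theorem isArtinian_gdual_self [IsNoetherianRing R] (hpos : ∀ n : ℤ, n < 0 → 𝒜 n = ⊥)
    (h0 : 𝒜 0 = Submodule.span k {(1 : R)}) (hD : IsGDual R 𝒜 𝒟 β) : IsArtinian R D := by
  rcases subsingleton_or_nontrivial R with hR | hR
  · haveI : Subsingleton D := Module.subsingleton R D
    infer_instance
  let mR : HomogeneousIdeal 𝒜 := ⟨Ideal.span (⋃ n ∈ Set.Ioi (0 : ℤ), (𝒜 n : Set R)), by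
    apply Ideal.homogeneous_span
    intro x hx
    simp only [Set.mem_iUnion, Set.mem_Ioi, SetLike.mem_coe, exists_prop] at hx
    obtain ⟨n, _, hn⟩ := hx
    exact ⟨n, hn⟩⟩
  have hmR : mR.toIdeal = Ideal.span (⋃ n ∈ Set.Ioi (0 : ℤ), (𝒜 n : Set R)) := rfl
  obtain ⟨e, he, hegr⟩ := exists_hull_map 𝒜 𝒟 β hpos h0 mR hmR hD
  have hull := isStarInjHull_gdual 𝒜 𝒟 β hpos h0 mR hmR hD e he hegr
  letI : GradedRing (GrConv.conv 𝒜) := GrConv.convGradedRing 𝒜
  letI : SetLike.GradedSMul (GrConv.conv 𝒜) 𝒟 := GrConv.convGradedSMul_left 𝒜 𝒟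
  have hull' := GrConv.isStarInjHull_conv 𝒜 𝒟 hull
  haveI hmax : (GrConv.hidealConv 𝒜 mR).toIdeal.IsMaximal :=
    isMaximal_irrelevant 𝒜 hpos h0 mR hmR
  have := Groth.Agent.Lib.Helper11.GrLoc.isInjectiveHull_hull (GrConv.conv 𝒜) 𝒟 hull'
  exact Groth.Agent.Lib.Helper25.isArtinian_of_hull_quotient_maximal
    (GrConv.hidealConv 𝒜 mR).toIdeal _ this

end Self

end Groth.Agent.Lib.Helper11.GrDual
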