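import Groth.Agent.Lib.Helper11.GrDualD

/-!
# Graded Matlis duality: Noetherian ↔ Artinian
-/

set_option autoImplicit false
set_option linter.unusedSectionVars false
set_option linter.unusedVariables false
set_option linter.style.haveILetI false
universe u

namespace Groth.Agent.Lib.Helper11.GrDual

open DirectSum GrLC GrSeg Groth.Agent.Lib.Helper11.GrLCLib

section Gens

variable {k : Type u} [Field k] {R : Type u} [CommRing R] [Algebra k R]
  (𝒜 : ℤ → Submodule k R) [GradedAlgebra 𝒜]
variable {M : Type u} [AddCommGroup M] [Module R M]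
  (ℳ : ℤ → AddSubgroup M) [DirectSum.Decomposition ℳ] [SetLike.GradedSMul 𝒜 ℳ]

include 𝒜 in
/-- The span of a set of homogeneous elements is a homogeneous submodule. -/
theorem span_isHomogeneous (S : Set M) (hS : ∀ x ∈ S, SetLike.IsHomogeneousElem ℳ x) :
    (Submodule.span R S).IsHomogeneous ℳ := by
  classical
  intro g x hx
  revert g
  induction hx using Submodule.span_induction with
  | mem x hx =>
    intro g
    obtain ⟨g0, hg0⟩ := hS x hx
    by_cases hg : g = g0
    · subst hg
      rw [decompose_of_mem_same ℳ hg0]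
      exact Submodule.subset_span hx
    · rw [decompose_of_mem_ne ℳ hg0 (Ne.symm hg)]
      exact Submodule.zero_mem _
  | zero =>
    intro g
    rw [decompose_zero, DirectSum.zero_apply, ZeroMemClass.coe_zero]
    exact Submodule.zero_mem _
  | add x y _ _ hx hy =>
    intro g
    rw [decompose_add, DirectSum.add_apply, AddSubgroup.coe_add]
    exact Submodule.add_mem _ (hx g) (hy g)
  | smul r x _ hx =>
    intro g
    have hr : r = ∑ h ∈ (decompose 𝒜 r).support, (decompose 𝒜 r h : R) :=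
      (DirectSum.sum_support_decompose 𝒜 r).symm
    rw [hr, Finset.sum_smul, decompose_sum, DFinsupp.finsetSum_apply, AddSubgroup.val_finsetSum]
    refine Submodule.sum_mem _ fun h _ => ?_
    have := decompose_map_deg ℳ ℳ
      (isGrHomDeg_lsmul ℳ 𝒜 (SetLike.coe_mem (decompose 𝒜 r h))) x (g - h)
    rw [sub_add_cancel] at this
    rw [show ((decompose 𝒜 r h : R) • x) = LinearMap.lsmul R M (decompose 𝒜 r h : R) x from rfl,
      this]
    exact Submodule.smul_mem _ _ (hx _)

include 𝒜 in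
/-- a finitely generated graded module has a finite set of homogeneous generators. -/
theorem exists_homogeneous_generators [Module.Finite R M] :
    ∃ T : Finset M, (∀ y ∈ T, SetLike.IsHomogeneousElem ℳ y) ∧ Submodule.span R (T : Set M) = ⊤ := by
  classical
  obtain ⟨S, hS⟩ := (Module.finite_def (R := R) (M := M)).mp inferInstance
  refine ⟨S.biUnion (fun s => (decompose ℳ s).support.image (fun i => (decompose ℳ s i : M))),
    ?_, ?_⟩
  · intro y hy
    rw [Finset.mem_biUnion] at hy
    obtain ⟨s, _, hy⟩ := hy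
    rw [Finset.mem_image] at hy
    obtain ⟨i, _, rfl⟩ := hy
    exact ⟨i, SetLike.coe_mem _⟩
  · rw [eq_top_iff, ← hS]
    apply Submodule.span_le.mpr
    intro s hs
    rw [SetLike.mem_coe, ← DirectSum.sum_support_decompose ℳ s]
    apply Submodule.sum_mem
    intro i hi
    apply Submodule.subset_span
    rw [Finset.mem_coe, Finset.mem_biUnion]
    exact ⟨s, hs, Finset.mem_image.mpr ⟨i, hi, rfl⟩⟩

end Gens

section NoethArt

variable {k : Type u} [Field k] {R : Type u} [CommRing R] [Algebra k R]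
  (𝒜 : ℤ → Submodule k R) [GradedAlgebra 𝒜]
variable {M : Type u} [AddCommGroup M] [Module R M] [Module k M] [IsScalarTower k R M]
  (ℳ : ℤ → AddSubgroup M) [DirectSum.Decomposition ℳ] [SetLike.GradedSMul 𝒜 ℳ]
variable {D : Type u} [AddCommGroup D] [Module R D] [Module k D] [IsScalarTower k R D]
  (𝒟 : ℤ → AddSubgroup D) [DirectSum.Decomposition 𝒟] [SetLike.GradedSMul 𝒜 𝒟]
  (β : D →ₗ[k] M →ₗ[k] k)

/-- a family of homogeneous elements `y` of `M` gives homogeneous maps `M^* → R^*`, evaluation at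
`y`. -/
theorem exists_eval_hom (hD : IsGDual R ℳ 𝒟 β)
    {E : Type u} [AddCommGroup E] [Module R E] [Module k E] [IsScalarTower k R E]
    (ℰ : ℤ → AddSubgroup E) [DirectSum.Decomposition ℰ] [SetLike.GradedSMul 𝒜 ℰ]
    (βE : E →ₗ[k] R →ₗ[k] k) (hE : IsGDual R 𝒜 ℰ βE) {a : ℤ} {y : M} (hy : y ∈ ℳ a) :
    ∃ v : D →ₗ[R] E, (∀ d r, βE (v d) r = β d (r • y)) ∧ ∀ n d, d ∈ 𝒟 n → v d ∈ ℰ (n + a) := by
  obtain ⟨v, hv, hvg⟩ := exists_hom_of_functional 𝒜 ℰ βE hE 𝒟 (β.flip y) (-a) (by
    intro n hn d hd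
    rw [LinearMap.flip_apply]
    exact hD.vanish n d hd a (fun e => hn (by rw [e, neg_neg])) y hy)
  refine ⟨v, fun d r => ?_, fun n d hd => ?_⟩
  · rw [hv, LinearMap.flip_apply, hD.map_smul]
  · have := hvg n d hd
    rwa [neg_neg] at this

/-- the graded dual of a finitely generated module is Artinian. -/
theorem isArtinian_gdual [IsNoetherianRing R] [Module.Finite R M]
    (hpos : ∀ n : ℤ, n < 0 → 𝒜 n = ⊥) (h0 : 𝒜 0 = Submodule.span k {(1 : R)})
    (hD : IsGDual R ℳ 𝒟 β) : IsArtinian R D := by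
  classical
  letI := gdDecomposition 𝒜 𝒜
  haveI := gdGradedSMul 𝒜 𝒜
  have hE := isGDual_gd 𝒜 𝒜
  haveI hEart : IsArtinian R (GD 𝒜 𝒜) := isArtinian_gdual_self 𝒜 (gdGr 𝒜 𝒜) (gdPair 𝒜 𝒜) hpos h0 hE
  obtain ⟨T, hT, hTspan⟩ := exists_homogeneous_generators 𝒜 ℳ
  have hv : ∀ y : ↥T, ∃ v : D →ₗ[R] GD 𝒜 𝒜, ∀ d r, gdPair 𝒜 𝒜 (v d) r = β d (r • (y : M)) := by
    intro y
    obtain ⟨a, ha⟩ := hT y.1 y.2
    obtain ⟨v, hv, _⟩ := exists_eval_hom 𝒜 ℳ 𝒟 β hD (gdGr 𝒜 𝒜) (gdPair 𝒜 𝒜) hE ha
    exact ⟨v, hv⟩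
  choose v hv using hv
  let f : D →ₗ[R] (↥T → GD 𝒜 𝒜) := LinearMap.pi v
  have hf : Function.Injective f := by
    rw [injective_iff_map_eq_zero]
    intro d hd
    apply eq_zero_of_forall hD
    intro x
    have hx : x ∈ Submodule.span R (T : Set M) := by rw [hTspan]; exact Submodule.mem_top
    have key : ∀ x ∈ Submodule.span R (T : Set M), ∀ d' : D, f d' = 0 → β d' x = 0 := by
      intro x hx
      induction hx using Submodule.span_induction with
      | mem y hy =>
        intro d' hd'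
        have h1 : v ⟨y, hy⟩ d' = 0 := congrFun hd' ⟨y, hy⟩
        have h2 := hv ⟨y, hy⟩ d' 1
        rw [h1, map_zero, LinearMap.zero_apply, one_smul] at h2
        exact h2.symm
      | zero => intro d' _; rw [map_zero]
      | add x y _ _ hx hy => intro d' hd'; rw [map_add, hx d' hd', hy d' hd', add_zero]
      | smul r x _ hx =>
        intro d' hd'
        rw [← hD.map_smul]
        apply hx
        rw [map_smul, hd', smul_zero]
    exact key x hx d hd
  exact isArtinian_of_injective f hf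

end NoethArt

end Groth.Agent.Lib.Helper11.GrDual
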