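import Groth.Agent.Lib.Helper11.GrDualF

/-!
# Graded duals: minimal surjections dualize to *essential injections
-/

set_option autoImplicit false
set_option linter.unusedSectionVars false
set_option linter.unusedVariables false
set_option linter.style.haveILetI false
universe u

namespace Groth.Agent.Lib.Helper11.GrDual

open DirectSum GrLC GrSeg Groth.Agent.Lib.Helper11.GrLCLib

section Hom

variable {k : Type u} [Field k] {R : Type u} [CommRing R] [Algebra k R]
  (𝒜 : ℤ → Submodule k R) [GradedAlgebra 𝒜]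
variable {F : Type u} [AddCommGroup F] [Module R F] [Module k F] [IsScalarTower k R F]
  (ℱ : ℤ → AddSubgroup F) [DirectSum.Decomposition ℱ] [SetLike.GradedSMul 𝒜 ℱ]

include 𝒜 in
/-- `I • ⊤` is a homogeneous submodule for a homogeneous ideal `I`. -/
theorem smul_top_isHomogeneous (I : HomogeneousIdeal 𝒜) :
    (I.toIdeal • (⊤ : Submodule R F)).IsHomogeneous ℱ := by
  classical
  have h : I.toIdeal • (⊤ : Submodule R F) = Submodule.span R
      {z | ∃ r ∈ I.toIdeal, SetLike.IsHomogeneousElem 𝒜 r ∧ ∃ y : F,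
        SetLike.IsHomogeneousElem ℱ y ∧ z = r • y} := by
    apply le_antisymm
    · rw [Submodule.smul_le]
      intro r hr y _
      rw [← DirectSum.sum_support_decompose 𝒜 r, Finset.sum_smul]
      apply Submodule.sum_mem
      intro i _
      rw [← DirectSum.sum_support_decompose ℱ y, Finset.smul_sum]
      apply Submodule.sum_mem
      intro l _
      apply Submodule.subset_span
      exact ⟨_, I.isHomogeneous i hr, ⟨i, SetLike.coe_mem _⟩, _, ⟨l, SetLike.coe_mem _⟩, rfl⟩
    · apply Submodule.span_le.mpr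
      rintro z ⟨r, hr, _, y, _, rfl⟩
      exact Submodule.smul_mem_smul hr Submodule.mem_top
  rw [h]
  apply span_isHomogeneous 𝒜 ℱ
  rintro z ⟨r, _, ⟨i, hi⟩, y, ⟨l, hl⟩, rfl⟩
  exact ⟨i + l, by
    have := SetLike.GradedSMul.smul_mem (A := 𝒜) (B := ℱ) hi hl
    rwa [vadd_eq_add] at this⟩

include 𝒜 in
/-- a finitely generated graded module over a nonnegatively graded ring is bounded below. -/
theorem exists_bound_below [Module.Finite R F] (hpos : ∀ n : ℤ, n < 0 → 𝒜 n = ⊥)
    (h0 : 𝒜 0 = Submodule.span k {(1 : R)}) :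
    ∃ i₀ : ℤ, ∀ i < i₀, ℱ i = ⊥ := by
  classical
  obtain ⟨T, hT, hTspan⟩ := exists_homogeneous_generators 𝒜 ℱ
  choose! a ha using hT
  -- a lower bound for the degrees of the generators
  obtain ⟨i₀, hi₀⟩ : ∃ i₀ : ℤ, ∀ y ∈ T, i₀ ≤ a y := by
    refine ⟨-(∑ y ∈ T, |a y|), fun y hy => ?_⟩
    have h1 : |a y| ≤ ∑ y ∈ T, |a y| :=
      Finset.single_le_sum (f := fun y => |a y|) (fun y _ => abs_nonneg _) hy
    have h2 := neg_abs_le (a y)
    omega
  refine ⟨i₀, fun i hi => ?_⟩
  rw [eq_bot_iff]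
  intro x hx
  rw [AddSubgroup.mem_bot]
  have hle : Submodule.span R (T : Set F) ≤ truncW 𝒜 ℱ hpos h0 i₀ ⊤ := by
    apply Submodule.span_le.mpr
    intro y hy
    refine ⟨fun j hj => decompose_of_mem_ne ℱ (ha y hy) ?_, Submodule.mem_top⟩
    have := hi₀ y hy
    omega
  have hxs : x ∈ Submodule.span R (T : Set F) := by rw [hTspan]; exact Submodule.mem_top
  rw [← decompose_of_mem_same ℱ hx]
  exact (hle hxs).1 i hi

end Hom


section Ess

variable {k : Type u} [Field k] {R : Type u} [CommRing R] [Algebra k R]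
  (𝒜 : ℤ → Submodule k R) [GradedAlgebra 𝒜]
variable {F : Type u} [AddCommGroup F] [Module R F] [Module k F] [IsScalarTower k R F]
  (ℱ : ℤ → AddSubgroup F) [DirectSum.Decomposition ℱ] [SetLike.GradedSMul 𝒜 ℱ]
variable {M : Type u} [AddCommGroup M] [Module R M] [Module k M] [IsScalarTower k R M]
  (ℳ : ℤ → AddSubgroup M) [DirectSum.Decomposition ℳ] [SetLike.GradedSMul 𝒜 ℳ]
variable {DM : Type u} [AddCommGroup DM] [Module R DM] [Module k DM] [IsScalarTower k R DM]
  (𝒟M : ℤ → AddSubgroup DM) [DirectSum.Decomposition 𝒟M] [SetLike.GradedSMul 𝒜 𝒟M]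
  (βM : DM →ₗ[k] M →ₗ[k] k)
variable {DF : Type u} [AddCommGroup DF] [Module R DF] [Module k DF] [IsScalarTower k R DF]
  (𝒟F : ℤ → AddSubgroup DF) [DirectSum.Decomposition 𝒟F] [SetLike.GradedSMul 𝒜 𝒟F]
  (βF : DF →ₗ[k] F →ₗ[k] k)
variable (f : F →ₗ[R] M) (g : DM →ₗ[R] DF)

/-- the dual of a surjection is injective. -/
lemma dualMap_injective (hDM : IsGDual R ℳ 𝒟M βM) (hf : Function.Surjective f)
    (hg : IsGDualMap βM βF f g) : Function.Injective g := by
  rw [injective_iff_map_eq_zero]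
  intro d hd
  apply eq_zero_of_forall hDM
  intro y
  obtain ⟨x, rfl⟩ := hf y
  rw [← hg, hd, map_zero, LinearMap.zero_apply]

/-- the dual of a homogeneous map is homogeneous. -/
lemma dualMap_isGrHom (hDM : IsGDual R ℳ 𝒟M βM) (hDF : IsGDual R ℱ 𝒟F βF)
    (hfgr : IsGrHom ℱ ℳ f) (hg : IsGDualMap βM βF f g) : IsGrHom 𝒟M 𝒟F g := by
  intro n d hd
  apply mem_of_vanish hDF
  intro m hm x hx
  rw [hg]
  exact hDM.vanish n d hd m hm (f x) (hfgr m x hx)

/-- a homogeneous element of `F^*` vanishing on `ker f` is in the image of `f^*`. -/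
lemma mem_range_dualMap (hDM : IsGDual R ℳ 𝒟M βM) (hDF : IsGDual R ℱ 𝒟F βF)
    (hf : Function.Surjective f) (hfgr : IsGrHom ℱ ℳ f) (hg : IsGDualMap βM βF f g)
    {n : ℤ} {e : DF} (he : e ∈ 𝒟F n) (hker : ∀ x ∈ LinearMap.ker f, βF e x = 0) :
    e ∈ LinearMap.range g := by
  obtain ⟨σ, hσ⟩ := (f.restrictScalars k).exists_rightInverse_of_surjective
    (LinearMap.range_eq_top.mpr hf)
  obtain ⟨d, hd, hdx⟩ := hDM.exists_eq n ((βF e).comp σ)
  refine ⟨d, ?_⟩
  have hgd : g d ∈ 𝒟F n := dualMap_isGrHom ℱ ℳ 𝒟M βM 𝒟F βF f g hDM hDF hfgr hg n d hd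
  rw [← sub_eq_zero]
  apply hDF.eq_zero n _ (sub_mem hgd he)
  intro x hx
  rw [map_sub, LinearMap.sub_apply, sub_eq_zero, hg, hdx (f x) (hfgr _ x hx)]
  show βF e (σ (f x)) = βF e x
  have : σ (f x) - x ∈ LinearMap.ker f := by
    rw [LinearMap.mem_ker, map_sub, sub_eq_zero]
    exact LinearMap.congr_fun hσ (f x)
  have h2 := hker _ this
  rwa [map_sub, sub_eq_zero] at h2

/-- if all homogeneous elements of positive degree kill `e`, so does the irrelevant ideal. -/
lemma kill_of_kill_homogeneous (mR : HomogeneousIdeal 𝒜)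
    (hmR : mR.toIdeal = Ideal.span (⋃ n ∈ Set.Ioi (0 : ℤ), (𝒜 n : Set R))) (e : DF)
    (h : ∀ j : ℤ, 0 < j → ∀ s ∈ 𝒜 j, s • e = 0) : ∀ s ∈ mR.toIdeal, s • e = 0 := by
  have hle : mR.toIdeal ≤ LinearMap.ker (LinearMap.toSpanSingleton R DF e) := by
    rw [hmR]
    apply Ideal.span_le.mpr
    intro s hs
    simp only [Set.mem_iUnion, Set.mem_Ioi, SetLike.mem_coe, exists_prop] at hs
    obtain ⟨j, hj, hsj⟩ := hs
    rw [SetLike.mem_coe, LinearMap.mem_ker, LinearMap.toSpanSingleton_apply]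
    exact h j hj s hsj
  intro s hs
  have := hle hs
  rwa [LinearMap.mem_ker, LinearMap.toSpanSingleton_apply] at this

/-- every nonzero homogeneous element of a bounded-above graded module has a nonzero multiple in the
socle. -/
lemma exists_socle_multiple (hpos : ∀ n : ℤ, n < 0 → 𝒜 n = ⊥)
    (h0 : 𝒜 0 = Submodule.span k {(1 : R)}) (mR : HomogeneousIdeal 𝒜)
    (hmR : mR.toIdeal = Ideal.span (⋃ n ∈ Set.Ioi (0 : ℤ), (𝒜 n : Set R)))
    (N : ℤ) (hN : ∀ j, N < j → 𝒟F j = ⊥) :
    ∀ (c : ℕ) (n : ℤ) (e : DF), e ∈ 𝒟F n → e ≠ 0 → N - n ≤ c →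
      ∃ (r : R) (n' : ℤ), r • e ≠ 0 ∧ r • e ∈ 𝒟F n' ∧ ∀ s ∈ mR.toIdeal, s • (r • e) = 0 := by
  intro c
  induction c with
  | zero =>
    intro n e he he0 hc
    refine ⟨1, n, by rwa [one_smul], by rwa [one_smul], ?_⟩
    rw [one_smul]
    apply kill_of_kill_homogeneous 𝒜 mR hmR
    intro j hj s hsj
    have hmem := SetLike.GradedSMul.smul_mem (A := 𝒜) (B := 𝒟F) hsj he
    rw [vadd_eq_add, hN (j + n) (by omega), AddSubgroup.mem_bot] at hmem
    exact hmem
  | succ c ih =>
    intro n e he he0 hc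
    by_cases hsoc : ∀ s ∈ mR.toIdeal, s • e = 0
    · exact ⟨1, n, by rwa [one_smul], by rwa [one_smul], fun s hs => by rw [one_smul]; exact hsoc s hs⟩
    · -- some homogeneous element of positive degree does not kill `e`
      have : ∃ j : ℤ, 0 < j ∧ ∃ s ∈ 𝒜 j, s • e ≠ 0 := by
        by_contra hcon
        push Not at hcon
        apply hsoc
        exact kill_of_kill_homogeneous 𝒜 mR hmR e hcon
      obtain ⟨j, hj, s, hsj, hse⟩ := this
      have hmem : s • e ∈ 𝒟F (j + n) := by
        have := SetLike.GradedSMul.smul_mem (A := 𝒜) (B := 𝒟F) hsj he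
        rwa [vadd_eq_add] at this
      obtain ⟨r, n', h1, h2, h3⟩ := ih (j + n) (s • e) hmem hse (by omega)
      refine ⟨r * s, n', ?_, ?_, ?_⟩
      · rwa [mul_smul]
      · rwa [mul_smul]
      · intro t ht
        rw [mul_smul]
        exact h3 t ht

/-- **Minimal surjections dualize to *essential extensions.** -/
theorem ker_le_smul_iff_isStarEss [Module.Finite R F]
    (hpos : ∀ n : ℤ, n < 0 → 𝒜 n = ⊥) (h0 : 𝒜 0 = Submodule.span k {(1 : R)})
    (mR : HomogeneousIdeal 𝒜)
    (hmR : mR.toIdeal = Ideal.span (⋃ n ∈ Set.Ioi (0 : ℤ), (𝒜 n : Set R)))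
    (hf : Function.Surjective f) (hfgr : IsGrHom ℱ ℳ f)
    (hDM : IsGDual R ℳ 𝒟M βM) (hDF : IsGDual R ℱ 𝒟F βF) (hg : IsGDualMap βM βF f g) :
    LinearMap.ker f ≤ mR.toIdeal • (⊤ : Submodule R F) ↔ IsStarEss 𝒟M 𝒟F g := by
  classical
  have hginj := dualMap_injective ℳ 𝒟M βM βF f g hDM hf hg
  have hggr := dualMap_isGrHom ℱ ℳ 𝒟M βM 𝒟F βF f g hDM hDF hfgr hg
  constructor
  · intro hmin
    refine ⟨hginj, hggr, ?_⟩
    intro P hP hP0
    obtain ⟨i₀, hi₀⟩ := exists_bound_below 𝒜 ℱ hpos h0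
    have hN : ∀ j, -i₀ < j → 𝒟F j = ⊥ := by
      intro j hj
      rw [eq_bot_iff]
      intro e he
      rw [AddSubgroup.mem_bot]
      apply hDF.eq_zero j e he
      intro x hx
      rw [hi₀ (-j) (by omega), AddSubgroup.mem_bot] at hx
      rw [hx, map_zero]
    obtain ⟨e₀, he₀, he₀0⟩ := Submodule.exists_mem_ne_zero_of_ne_bot hP0
    obtain ⟨n, hn⟩ := exists_component_ne_zero 𝒟F he₀0
    have heP : (decompose 𝒟F e₀ n : DF) ∈ P := hP n he₀
    obtain ⟨r, n', h1, h2, h3⟩ := exists_socle_multiple 𝒜 𝒟F hpos h0 mR hmR (-i₀) hN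
      (-i₀ - n).toNat n _ (SetLike.coe_mem _) hn (by omega)
    have hrange : r • (decompose 𝒟F e₀ n : DF) ∈ LinearMap.range g := by
      apply mem_range_dualMap ℱ ℳ 𝒟M βM 𝒟F βF f g hDM hDF hf hfgr hg h2
      intro x hx
      have hx' := hmin hx
      refine Submodule.smul_induction_on
        (p := fun z => βF (r • (decompose 𝒟F e₀ n : DF)) z = 0) hx' ?_ ?_
      · intro s hs y _
        rw [← hDF.map_smul, h3 s hs, map_zero, LinearMap.zero_apply]
      · intro y z hy hz
        rw [map_add, hy, hz, add_zero]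
    intro hbot
    apply h1
    have : r • (decompose 𝒟F e₀ n : DF) ∈ P ⊓ LinearMap.range g := ⟨P.smul_mem r heP, hrange⟩
    rw [hbot, Submodule.mem_bot] at this
    exact this
  · intro hess
    have hmF := smul_top_isHomogeneous 𝒜 ℱ mR
    -- reduce to homogeneous elements
    have key : ∀ (j : ℤ) (x : F), x ∈ ℱ j → x ∈ LinearMap.ker f →
        x ∈ mR.toIdeal • (⊤ : Submodule R F) := by
      intro j x hxj hxk
      by_contra hxm
      obtain ⟨G, hGx, hGU⟩ := Submodule.exists_dual_map_eq_bot_of_notMem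
        (p := (mR.toIdeal • (⊤ : Submodule R F)).restrictScalars k) (x := x) hxm inferInstance
      obtain ⟨e, he, hex⟩ := hDF.exists_eq (-j) G
      have hGz : ∀ z ∈ mR.toIdeal • (⊤ : Submodule R F), G z = 0 := by
        intro z hz
        have hmem : G z ∈ ((mR.toIdeal • (⊤ : Submodule R F)).restrictScalars k).map G :=
          ⟨z, hz, rfl⟩
        rw [hGU, Submodule.mem_bot] at hmem
        exact hmem
      have hkill : ∀ r ∈ mR.toIdeal, r • e = 0 := by
        intro r hr
        apply eq_zero_of_forall hDF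
        intro y
        rw [hDF.map_smul, apply_eq_proj 𝒜 𝒟F hDF he, hex _ (projK_mem 𝒜 ℱ _ _)]
        apply hGz
        rw [projK_apply]
        exact hmF _ (Submodule.smul_mem_smul hr Submodule.mem_top)
      have hex' : βF e x = G x := hex x (by rw [neg_neg]; exact hxj)
      have he0 : e ≠ 0 := by
        intro h
        apply hGx
        rw [← hex', h, map_zero, LinearMap.zero_apply]
      have hPh : (Submodule.span R {e}).IsHomogeneous 𝒟F := by
        apply span_isHomogeneous 𝒜 𝒟F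
        intro y hy
        rw [Set.mem_singleton_iff] at hy
        exact ⟨-j, hy ▸ he⟩
      have hP0 : Submodule.span R {e} ≠ ⊥ := by
        intro h
        apply he0
        have : e ∈ Submodule.span R {e} := Submodule.mem_span_singleton_self e
        rw [h, Submodule.mem_bot] at this
        exact this
      have hmeet := hess.essential _ hPh hP0
      obtain ⟨e', he', he'0⟩ := Submodule.exists_mem_ne_zero_of_ne_bot hmeet
      obtain ⟨he'P, he'g⟩ := Submodule.mem_inf.mp he'
      rw [Submodule.mem_span_singleton] at he'P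
      obtain ⟨r, rfl⟩ := he'P
      -- `r • e = c • e`
      have hr0 : (decompose 𝒜 r 0 : R) ∈ Submodule.span k {(1 : R)} := h0 ▸ SetLike.coe_mem _
      rw [Submodule.mem_span_singleton] at hr0
      obtain ⟨c, hc⟩ := hr0
      have hrm : r - (decompose 𝒜 r 0 : R) ∈ mR.toIdeal := by
        rw [mem_irrelevant_iff 𝒜 hpos h0 mR hmR, decompose_sub, DirectSum.sub_apply,
          AddSubgroupClass.coe_sub, decompose_of_mem_same 𝒜 (SetLike.coe_mem _), sub_self]
      have hre : r • e = c • e := by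
        have := hkill _ hrm
        rw [sub_smul, sub_eq_zero] at this
        rw [this, ← hc, smul_assoc, one_smul]
      have hc0 : c ≠ 0 := by
        intro h
        apply he'0
        rw [hre, h, zero_smul]
      obtain ⟨d, hd⟩ := he'g
      apply hGx
      rw [← hex']
      have h1 : βF (r • e) x = 0 := by
        rw [← hd, hg, LinearMap.mem_ker.mp hxk, map_zero]
      rw [hre, map_smul, LinearMap.smul_apply, smul_eq_mul] at h1
      rcases mul_eq_zero.mp h1 with h | h
      · exact absurd h hc0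
      · exact h
    intro x hx
    rw [← DirectSum.sum_support_decompose ℱ x]
    apply Submodule.sum_mem
    intro j _
    apply key j _ (SetLike.coe_mem _)
    exact ker_isHomogeneous ℱ ℳ hfgr j hx

end Ess

end Groth.Agent.Lib.Helper11.GrDual
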