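import Groth.Agent.Lib.Helper11.GrDualD
import Groth.Agent.Lib.Helper11.GrLCSubQuot

/-!
# Bridge: an `AddSubgroup`-graded ring whose degree-zero part is (the image of) a field `k`
as a graded `k`-algebra with `Submodule`-valued pieces
-/

set_option autoImplicit false
set_option linter.unusedSectionVars false
set_option linter.unusedVariables false
set_option linter.style.haveILetI false
universe u

namespace Groth.Agent.Lib.Helper11.GrField

open DirectSum GrLC Groth.Agent.Lib.Helper11.GrLCLib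

section Proj

variable {ι : Type} [DecidableEq ι] {P : Type u} [AddCommGroup P] {σ : Type u} [SetLike σ P]
  [AddSubgroupClass σ P] (𝒬 : ι → σ)

lemma proj_coe' (π : ι → P →+ P)
    (hsame : ∀ g x, x ∈ 𝒬 g → π g x = x) (hne : ∀ g g' x, x ∈ 𝒬 g → g' ≠ g → π g' x = 0)
    (d : ⨁ g, 𝒬 g) (g : ι) : π g (DirectSum.coeAddMonoidHom 𝒬 d) = (d g : P) := by
  induction d using DirectSum.induction_on with
  | zero => simp
  | of h x =>
    rw [DirectSum.coeAddMonoidHom_of]
    by_cases e : g = h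
    · subst e
      rw [hsame g _ x.2, DirectSum.of_eq_same]
    · rw [hne h g _ x.2 e, DirectSum.of_eq_of_ne _ _ _ e, ZeroMemClass.coe_zero]
  | add a b ha hb =>
    rw [map_add, map_add, ha, hb, DirectSum.add_apply, AddMemClass.coe_add]

theorem isInternal_of_proj' (π : ι → P →+ P) (hmem : ∀ g x, π g x ∈ 𝒬 g)
    (hsame : ∀ g x, x ∈ 𝒬 g → π g x = x) (hne : ∀ g g' x, x ∈ 𝒬 g → g' ≠ g → π g' x = 0)
    (hsum : ∀ x, ∃ s : Finset ι, ∑ g ∈ s, π g x = x) : DirectSum.IsInternal 𝒬 := by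
  constructor
  · rw [injective_iff_map_eq_zero]
    intro d hd
    ext g
    rw [← proj_coe' 𝒬 π hsame hne d g, hd, map_zero, DirectSum.zero_apply, ZeroMemClass.coe_zero]
  · intro x
    obtain ⟨s, hs⟩ := hsum x
    refine ⟨∑ g ∈ s, DirectSum.of (fun g => 𝒬 g) g ⟨π g x, hmem g x⟩, ?_⟩
    rw [map_sum]
    simp only [DirectSum.coeAddMonoidHom_of]
    exact hs

lemma decompose_eq_proj' [DirectSum.Decomposition 𝒬] (π : ι → P →+ P)
    (hsame : ∀ g x, x ∈ 𝒬 g → π g x = x) (hne : ∀ g g' x, x ∈ 𝒬 g → g' ≠ g → π g' x = 0)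
    (x : P) (g : ι) : (decompose 𝒬 x g : P) = π g x := by
  have := proj_coe' 𝒬 π hsame hne (decompose 𝒬 x) g
  rw [← this]
  congr 1
  exact ((decompose 𝒬).symm_apply_apply x)

end Proj

section Ring

variable {R : Type u} [CommRing R] (𝒜 : ℤ → AddSubgroup R) [GradedRing 𝒜]
variable (k : Type u) [Field k] [Algebra k R]

/-- `k` maps onto the degree-zero part. -/
def IsBase : Prop := ∀ x : R, x ∈ 𝒜 0 ↔ x ∈ Set.range (algebraMap k R)

variable {𝒜 k}

lemma IsBase.algebraMap_mem (hk : IsBase 𝒜 k) (c : k) : algebraMap k R c ∈ 𝒜 0 :=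
  (hk _).mpr ⟨c, rfl⟩

/-- the pieces as `k`-subspaces. -/
def subK (hk : IsBase 𝒜 k) (n : ℤ) : Submodule k R where
  carrier := (𝒜 n : Set R)
  add_mem' := fun ha hb => add_mem ha hb
  zero_mem' := zero_mem _
  smul_mem' := fun c x hx => by
    rw [Algebra.smul_def]
    have := SetLike.GradedMul.mul_mem (A := 𝒜) (hk.algebraMap_mem c) hx
    rwa [zero_add] at this

lemma mem_subK (hk : IsBase 𝒜 k) {n : ℤ} {x : R} : x ∈ subK hk n ↔ x ∈ 𝒜 n := Iff.rfl

/-- component maps. -/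
noncomputable def compA (n : ℤ) : R →+ R where
  toFun x := (decompose 𝒜 x n : R)
  map_zero' := by simp
  map_add' x y := by rw [decompose_add, DirectSum.add_apply, AddSubgroup.coe_add]

theorem subK_isInternal (hk : IsBase 𝒜 k) : DirectSum.IsInternal (subK hk) := by
  classical
  refine isInternal_of_proj' (subK hk) (compA (𝒜 := 𝒜)) ?_ ?_ ?_ ?_
  · intro g x; exact SetLike.coe_mem (decompose 𝒜 x g)
  · intro g x hx; exact decompose_of_mem_same 𝒜 ((mem_subK hk).mp hx)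
  · intro g g' x hx hne; exact decompose_of_mem_ne 𝒜 ((mem_subK hk).mp hx) (Ne.symm hne)
  · intro x
    exact ⟨(decompose 𝒜 x).support, DirectSum.sum_support_decompose 𝒜 x⟩

/-- the graded algebra structure. -/
@[instance_reducible]
noncomputable def subKGradedAlgebra (hk : IsBase 𝒜 k) : GradedAlgebra (subK hk) :=
  { one_mem := SetLike.GradedOne.one_mem (A := 𝒜)
    mul_mem := fun _ _ _ _ hi hj => SetLike.GradedMul.mul_mem (A := 𝒜) hi hj
    toDecomposition := (subK_isInternal hk).chooseDecomposition }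

lemma decompose_subK (hk : IsBase 𝒜 k) [DirectSum.Decomposition (subK hk)] (x : R) (n : ℤ) :
    (decompose (subK hk) x n : R) = (decompose 𝒜 x n : R) :=
  decompose_eq_proj' (subK hk) (compA (𝒜 := 𝒜))
    (fun g x hx => decompose_of_mem_same 𝒜 ((mem_subK hk).mp hx))
    (fun g g' x hx hne => decompose_of_mem_ne 𝒜 ((mem_subK hk).mp hx) (Ne.symm hne)) x n

lemma subK_neg (hk : IsBase 𝒜 k) (hpos : ∀ n : ℤ, n < 0 → 𝒜 n = ⊥) (n : ℤ) (hn : n < 0) :
    subK hk n = ⊥ := by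
  rw [eq_bot_iff]
  intro x hx
  have : x ∈ (⊥ : AddSubgroup R) := hpos n hn ▸ (mem_subK hk).mp hx
  rw [AddSubgroup.mem_bot] at this
  rw [this]
  exact zero_mem _

lemma subK_zero (hk : IsBase 𝒜 k) : subK hk 0 = Submodule.span k {(1 : R)} := by
  ext x
  rw [mem_subK, hk x, Submodule.mem_span_singleton]
  constructor
  · rintro ⟨c, rfl⟩
    exact ⟨c, by rw [Algebra.smul_def, mul_one]⟩
  · rintro ⟨c, rfl⟩
    exact ⟨c, by rw [Algebra.smul_def, mul_one]⟩

end Ring

section Mod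

variable {R : Type u} [CommRing R] {𝒜 : ℤ → AddSubgroup R} [GradedRing 𝒜]
variable {k : Type u} [Field k] [Algebra k R] (hk : IsBase 𝒜 k)
variable {M : Type u} [AddCommGroup M] [Module R M]

lemma gradedSMul_K (𝒳 : ℤ → AddSubgroup M) [SetLike.GradedSMul 𝒜 𝒳] :
    SetLike.GradedSMul (subK hk) 𝒳 :=
  ⟨by intro i j r x hr hx; exact SetLike.GradedSMul.smul_mem (A := 𝒜) (B := 𝒳) hr hx⟩

lemma gradedSMul_unK (𝒳 : ℤ → AddSubgroup M) [SetLike.GradedSMul (subK hk) 𝒳] :
    SetLike.GradedSMul 𝒜 𝒳 :=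
  ⟨by intro i j r x hr hx; exact SetLike.GradedSMul.smul_mem (A := subK hk) (B := 𝒳) hr hx⟩

attribute [local instance] subKGradedAlgebra

/-- a graded module over `𝒜` as a graded module over `subK hk`. -/
noncomputable def gmodK (X : GMod.{u} 𝒜) : GMod.{u} (subK hk) :=
  { carrier := X.carrier
    acg := X.acg
    mod := X.mod
    gr := X.gr
    dec := X.dec
    gsmul := gradedSMul_K hk X.gr }

/-- a graded module over `subK hk` as a graded module over `𝒜`. -/
noncomputable def gmodUnK (X : GMod.{u} (subK hk)) : GMod.{u} 𝒜 :=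
  { carrier := X.carrier
    acg := X.acg
    mod := X.mod
    gr := X.gr
    dec := X.dec
    gsmul := gradedSMul_unK hk X.gr }

theorem isStarInj_K (𝒳 : ℤ → AddSubgroup M) [DirectSum.Decomposition 𝒳]
    [SetLike.GradedSMul 𝒜 𝒳] [SetLike.GradedSMul (subK hk) 𝒳] (h : IsStarInj 𝒜 𝒳) :
    IsStarInj (subK hk) 𝒳 := by
  intro A B f hf hfi g hg
  exact h (gmodUnK hk A) (gmodUnK hk B) f hf hfi g hg

theorem isStarInj_unK (𝒳 : ℤ → AddSubgroup M) [DirectSum.Decomposition 𝒳]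
    [SetLike.GradedSMul 𝒜 𝒳] [SetLike.GradedSMul (subK hk) 𝒳] (h : IsStarInj (subK hk) 𝒳) :
    IsStarInj 𝒜 𝒳 := by
  intro A B f hf hfi g hg
  exact h (gmodK hk A) (gmodK hk B) f hf hfi g hg

/-- convert a homogeneous ideal. -/
noncomputable def hidealK (a : HomogeneousIdeal 𝒜) : HomogeneousIdeal (subK hk) :=
  ⟨a.toIdeal, by
    intro i x hx
    rw [decompose_subK]
    exact a.isHomogeneous i hx⟩

@[simp] lemma hidealK_toIdeal (a : HomogeneousIdeal 𝒜) : (hidealK hk a).toIdeal = a.toIdeal := rfl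

lemma quotGr_K (m : HomogeneousIdeal 𝒜) : quotGr (subK hk) (hidealK hk m) = quotGr 𝒜 m := rfl

variable {E' : Type u} [AddCommGroup E'] [Module R E'] (𝓔 : ℤ → AddSubgroup E')
  [DirectSum.Decomposition 𝓔] [SetLike.GradedSMul 𝒜 𝓔] [SetLike.GradedSMul (subK hk) 𝓔]

theorem isStarInjHull_K {m : HomogeneousIdeal 𝒜} {e : (R ⧸ m.toIdeal) →ₗ[R] E'}
    (he : IsStarInjHull 𝒜 (quotGr 𝒜 m) 𝓔 e) :
    IsStarInjHull (subK hk) (quotGr (subK hk) (hidealK hk m)) 𝓔
      (e : (R ⧸ (hidealK hk m).toIdeal) →ₗ[R] E') :=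
  { injective := he.injective
    grHom := he.grHom
    essential := he.essential
    starInj := isStarInj_K hk 𝓔 he.starInj }

lemma hidealK_span {m : HomogeneousIdeal 𝒜}
    (hmsp : m.toIdeal = Ideal.span (⋃ n ∈ Set.Ioi (0 : ℤ), (𝒜 n : Set R))) :
    (hidealK hk m).toIdeal = Ideal.span (⋃ n ∈ Set.Ioi (0 : ℤ), (subK hk n : Set R)) := hmsp

end Mod

end Groth.Agent.Lib.Helper11.GrField
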