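import Groth.Agent.Lib.Helper11.GrGorE
import Groth.Agent.Lib.Helper11.GrLCCmp

set_option autoImplicit false
set_option linter.unusedSectionVars false
universe u

namespace Groth.Agent.Lib.Helper11.GrGor

open DirectSum GrLC Groth.Agent.Lib.Helper11.GrLCLib Groth.Agent.Lib.Helper11.GrCore
  Groth.Agent.Lib.Helper11.GrBass

variable {ι : Type} [DecidableEq ι] [AddCommGroup ι]
variable {R : Type u} [CommRing R] (𝒜 : ι → AddSubgroup R) [GradedRing 𝒜]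
variable {X : Type u} [AddCommGroup X] [Module R X] (𝒳 : ι → AddSubgroup X)
  [DirectSum.Decomposition 𝒳] [SetLike.GradedSMul 𝒜 𝒳]

/-- A shift of a *injective module is *injective. -/
theorem isStarInj_shift (hX : IsStarInj 𝒜 𝒳) (d : ι) [DirectSum.Decomposition (shiftGr 𝒳 d)] :
    IsStarInj 𝒜 (shiftGr 𝒳 d) := by
  intro A B f hf hinj g hg
  have hgd : IsGrHomDeg A.gr 𝒳 g d := fun j x hx => hg j x hx
  obtain ⟨w, hw, hwf⟩ := exists_extension_deg 𝒜 A.gr B.gr 𝒳 hX f hf d g hgd (by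
    rw [LinearMap.ker_eq_bot.2 hinj]; exact bot_le)
  exact ⟨w, fun j y hy => hw j y hy, hwf⟩

/-- The pieces of `R/m`: two descriptions. -/
lemma quotGr_eq_quotGrM (m : HomogeneousIdeal 𝒜) :
    quotGr 𝒜 m = quotGrM 𝒜 (m.toIdeal : Submodule R R) := by
  funext j
  ext x
  constructor
  · rintro ⟨s, hs, rfl⟩
    exact ⟨s, hs, rfl⟩
  · rintro ⟨s, hs, rfl⟩
    exact ⟨s, hs, rfl⟩

variable {E' : Type u} [AddCommGroup E'] [Module R E'] (𝓔 : ι → AddSubgroup E')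
  [DirectSum.Decomposition 𝓔] [SetLike.GradedSMul 𝒜 𝓔]

/-- If `X` is *injective with `μ^0(m, X) = 1` then `Γ_m(X)` is a shifted *injective hull of `R/m`. -/
theorem exists_gam_equiv_hull [IsNoetherianRing R] {m : HomogeneousIdeal 𝒜} (hm : IsCoatom m)
    [hmp : m.toIdeal.IsPrime] (hX : IsStarInj 𝒜 𝒳) (h1 : GrLC.bassNum m.toIdeal X 0 = 1)
    (e : (R ⧸ m.toIdeal) →ₗ[R] E') (he : IsStarInjHull 𝒜 (quotGr 𝒜 m) 𝓔 e) :
    ∃ (g : ι) (β : ↥(gam m.toIdeal X) ≃ₗ[R] E'),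
      ∀ (h : ι) (w : ↥(gam m.toIdeal X)), (w : X) ∈ 𝒳 h → β w ∈ 𝓔 (h + g) := by
  classical
  obtain ⟨g₀, y₀, hy₀g, hy₀0, hmy₀, hsoc⟩ := exists_soc_generator 𝒜 𝒳 hm h1
  set G := gam m.toIdeal X with hGdef
  have hG : G.IsHomogeneous 𝒳 := gam_isHomogeneous 𝒜 𝒳 m
  let _ := subDecomposition 𝒳 G hG
  have hGinj : IsStarInj 𝒜 (subGr 𝒳 G) := isStarInj_gam 𝒜 𝒳 hX m
  let _ := shiftDecomposition (subGr 𝒳 G) g₀
  have hGsinj : IsStarInj 𝒜 (shiftGr (subGr 𝒳 G) g₀) := isStarInj_shift 𝒜 (subGr 𝒳 G) hGinj g₀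
  let y₀' : G := ⟨y₀, soc_le_gam m.toIdeal (mem_soc.2 hmy₀)⟩
  let f₀ : (R ⧸ m.toIdeal) →ₗ[R] G := Submodule.liftQ m.toIdeal (LinearMap.toSpanSingleton R G y₀') (by
    intro c hc
    rw [LinearMap.mem_ker, LinearMap.toSpanSingleton_apply]
    exact Subtype.ext (hmy₀ c hc))
  have hf₀ : ∀ r : R, f₀ (Ideal.Quotient.mk _ r) = r • y₀' := fun r => rfl
  have hf₀inj : Function.Injective f₀ := by
    rw [injective_iff_map_eq_zero]
    intro q hq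
    obtain ⟨r, rfl⟩ := Ideal.Quotient.mk_surjective q
    rw [hf₀] at hq
    have : r • y₀ = 0 := congrArg Subtype.val hq
    exact Ideal.Quotient.eq_zero_iff_mem.2
      ((smul_eq_zero_iff_of_isCoatom 𝒜 𝒳 hm hy₀g hy₀0 hmy₀ r).1 this)
  have hf₀gr : IsGrHom (quotGr 𝒜 m) (shiftGr (subGr 𝒳 G) g₀) f₀ := by
    rintro j _ ⟨s, hs, rfl⟩
    change ((f₀ (Ideal.Quotient.mk _ s) : G) : X) ∈ 𝒳 (j + g₀)
    rw [hf₀]
    exact SetLike.GradedSMul.smul_mem (A := 𝒜) (B := 𝒳) hs hy₀g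
  have hcoe : ∀ (x' : G) (g : ι), ((decompose (subGr 𝒳 G) x' g : G) : X) = decompose 𝒳 (x' : X) g := by
    intro x' g
    exact (decompose_map (subGr 𝒳 G) 𝒳 (subtype_isGrHom 𝒳 G) x' g).symm
  have hess : ∀ P : Submodule R G, P.IsHomogeneous (shiftGr (subGr 𝒳 G) g₀) → P ≠ ⊥ →
      P ⊓ LinearMap.range f₀ ≠ ⊥ := by
    intro P hP hP0
    rw [isHomogeneous_shift_iff] at hP
    have hQh : (P.map G.subtype).IsHomogeneous 𝒳 := by
      rintro g _ ⟨x', hx', rfl⟩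
      exact ⟨_, hP g hx', hcoe x' g⟩
    have hQG : P.map G.subtype ≤ G := by
      rintro _ ⟨x', -, rfl⟩
      exact x'.2
    have hQ0 : P.map G.subtype ≠ ⊥ := by
      obtain ⟨x', hx', hx'0⟩ := Submodule.exists_mem_ne_zero_of_ne_bot hP0
      intro h
      have : (x' : X) ∈ P.map G.subtype := ⟨x', hx', rfl⟩
      rw [h] at this
      exact hx'0 (Subtype.ext ((Submodule.mem_bot R).mp this))
    obtain ⟨g, y, -, ⟨w, hwP, rfl⟩, hy0, hmy⟩ := exists_socle_of_le_gam 𝒜 𝒳 m hQh hQ0 hQG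
    obtain ⟨s, hs⟩ := Submodule.mem_span_singleton.1 (hsoc _ (mem_soc.2 hmy))
    intro hbot
    have hmem : w ∈ P ⊓ LinearMap.range f₀ :=
      ⟨hwP, ⟨Ideal.Quotient.mk _ s, by rw [hf₀]; exact Subtype.ext hs⟩⟩
    rw [hbot] at hmem
    apply hy0
    rw [(Submodule.mem_bot R).mp hmem]
    rfl
  have hhull : IsStarInjHull 𝒜 (quotGr 𝒜 m) (shiftGr (subGr 𝒳 G) g₀) f₀ :=
    { injective := hf₀inj, grHom := hf₀gr, essential := hess, starInj := hGsinj }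
  -- uniqueness of hulls
  have heq := quotGr_eq_quotGrM 𝒜 m
  let _ := quotDecomposition 𝒜 (m.toIdeal : Submodule R R) m.isHomogeneous
  rw [heq] at hhull he
  obtain ⟨β, hβ, -⟩ := starInjHull_unique (quotGrM 𝒜 (m.toIdeal : Submodule R R)) 𝒜
    (shiftGr (subGr 𝒳 G) g₀) 𝓔 f₀ e hhull he
  refine ⟨-g₀, β, ?_⟩
  intro h w hw
  apply hβ (h + -g₀) w
  change (w : X) ∈ 𝒳 (h + -g₀ + g₀)
  rwa [neg_add_cancel_right]

end Groth.Agent.Lib.Helper11.GrGor
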