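import Groth.Agent.Lib.Helper11.GrFieldA
import Groth.Agent.Lib.Helper11.GrDualC
import Groth.Agent.Lib.Helper11.GrGorF
import Groth.Agent.Lib.Helper11.GrLesG

/-!
# The *injective hull of the residue field is a graded dual of the ring
-/

set_option autoImplicit false
set_option linter.unusedSectionVars false
set_option linter.unusedVariables false
set_option linter.style.haveILetI false
universe u

namespace Groth.Agent.Lib.Helper11.GrField

open DirectSum GrLC GrSeg Groth.Agent.Lib.Helper11.GrLCLib Groth.Agent.Lib.Helper11.GrDual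

section Transport

variable {k : Type u} [Field k] {R : Type u} [CommRing R] [Algebra k R]
variable {M : Type u} [AddCommGroup M] [Module R M] [Module k M] [IsScalarTower k R M]
  {τ : Type u} [SetLike τ M] [AddSubgroupClass τ M] (ℳ : ℤ → τ) [DirectSum.Decomposition ℳ]
variable {D₁ : Type u} [AddCommGroup D₁] [Module R D₁] [Module k D₁] [IsScalarTower k R D₁]
  (𝒟₁ : ℤ → AddSubgroup D₁) [DirectSum.Decomposition 𝒟₁]
variable {D₂ : Type u} [AddCommGroup D₂] [Module R D₂] [Module k D₂] [IsScalarTower k R D₂]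
  (𝒟₂ : ℤ → AddSubgroup D₂) [DirectSum.Decomposition 𝒟₂]

/-- transport of a graded dual along a homogeneous isomorphism. -/
theorem isGDual_of_equiv (θ : D₂ ≃ₗ[R] D₁) (hθ : IsGrHom 𝒟₂ 𝒟₁ θ.toLinearMap)
    {β : D₁ →ₗ[k] M →ₗ[k] k} (hD : IsGDual R ℳ 𝒟₁ β) :
    IsGDual R ℳ 𝒟₂ (β ∘ₗ (θ.toLinearMap.restrictScalars k)) := by
  have hθ' := Groth.Agent.Lib.Helper11.GrLes.isGrHom_symm θ hθ
  refine ⟨?_, ?_, ?_, ?_⟩
  · intro r d x
    change β (θ (r • d)) x = β (θ d) (r • x)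
    rw [map_smul, hD.map_smul]
  · intro n d hd m hm x hx
    exact hD.vanish n (θ d) (hθ n d hd) m hm x hx
  · intro n d hd h
    have := hD.eq_zero n (θ d) (hθ n d hd) h
    exact θ.injective (by rw [this, map_zero])
  · intro n g
    obtain ⟨d₁, hd₁, hd₁g⟩ := hD.exists_eq n g
    refine ⟨θ.symm d₁, hθ' n d₁ hd₁, fun x hx => ?_⟩
    change β (θ (θ.symm d₁)) x = g x
    rw [θ.apply_symm_apply]
    exact hd₁g x hx

end Transport

section Hull

variable {R : Type u} [CommRing R] {𝒜 : ℤ → AddSubgroup R} [GradedRing 𝒜]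
variable {k : Type u} [Field k] [Algebra k R] (hk : IsBase 𝒜 k)
variable {E' : Type u} [AddCommGroup E'] [Module R E'] [Module k E'] [IsScalarTower k R E']
  (𝓔 : ℤ → AddSubgroup E') [DirectSum.Decomposition 𝓔] [SetLike.GradedSMul 𝒜 𝓔]

attribute [local instance] subKGradedAlgebra

/-- The *injective hull of `R/R_+` is a graded dual of `R`. -/
theorem exists_pairing_hull [Nontrivial R] (hpos : ∀ n : ℤ, n < 0 → 𝒜 n = ⊥)
    (m : HomogeneousIdeal 𝒜)
    (hmsp : m.toIdeal = Ideal.span (⋃ n ∈ Set.Ioi (0 : ℤ), (𝒜 n : Set R)))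
    (e : (R ⧸ m.toIdeal) →ₗ[R] E') (he : IsStarInjHull 𝒜 (quotGr 𝒜 m) 𝓔 e) :
    ∃ βE : E' →ₗ[k] R →ₗ[k] k, IsGDual R (subK hk) 𝓔 βE := by
  haveI := gradedSMul_K hk 𝓔
  letI := gdDecomposition (subK hk) (subK hk)
  haveI := gdGradedSMul (subK hk) (subK hk)
  have hD := isGDual_gd (subK hk) (subK hk)
  obtain ⟨eD, heD, heDgr⟩ := exists_hull_map (subK hk) (gdGr (subK hk) (subK hk))
    (gdPair (subK hk) (subK hk)) (subK_neg hk hpos) (subK_zero hk) (hidealK hk m)
    (hidealK_span hk hmsp) hD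
  have hullD := isStarInjHull_gdual (subK hk) (gdGr (subK hk) (subK hk))
    (gdPair (subK hk) (subK hk)) (subK_neg hk hpos) (subK_zero hk) (hidealK hk m)
    (hidealK_span hk hmsp) hD eD heD heDgr
  have hullE := isStarInjHull_K hk 𝓔 he
  rw [quotGr_K, Groth.Agent.Lib.Helper11.GrGor.quotGr_eq_quotGrM 𝒜 m] at hullD hullE
  letI := quotDecomposition 𝒜 (m.toIdeal : Submodule R R) m.isHomogeneous
  haveI := gradedSMul_K hk (quotGrM 𝒜 (m.toIdeal : Submodule R R))
  obtain ⟨θ, hθ, -⟩ := starInjHull_unique (ℳ := quotGrM 𝒜 (m.toIdeal : Submodule R R))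
    (𝒜 := subK hk) 𝓔 (gdGr (subK hk) (subK hk)) _ _ hullE hullD
  exact ⟨_, isGDual_of_equiv (subK hk) (gdGr (subK hk) (subK hk)) 𝓔 θ hθ hD⟩

end Hull

end Groth.Agent.Lib.Helper11.GrField
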