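import Groth.Agent.Lib.Helper11.GrFieldB
import Groth.Agent.Lib.Helper11.GrExtA
import Groth.Agent.Lib.Helper11.GrLesF

/-!
# A *canonical module is a graded dual of the top graded local cohomology
-/

set_option autoImplicit false
set_option linter.unusedSectionVars false
set_option linter.unusedVariables false
set_option linter.style.haveILetI false
universe u

namespace Groth.Agent.Lib.Helper11.GrField

open DirectSum GrLC GrSeg Groth.Agent.Lib.Helper11.GrLCLib Groth.Agent.Lib.Helper11.GrDual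
  Groth.Agent.Lib.Helper11.GrExt

variable {R : Type u} [CommRing R] {𝒜 : ℤ → AddSubgroup R} [GradedRing 𝒜]
variable {k : Type u} [Field k] [Algebra k R] (hk : IsBase 𝒜 k)
variable {E' : Type u} [AddCommGroup E'] [Module R E'] [Module k E'] [IsScalarTower k R E']
  (𝓔 : ℤ → AddSubgroup E') [DirectSum.Decomposition 𝓔] [SetLike.GradedSMul 𝒜 𝓔]
variable {C : Type u} [AddCommGroup C] [Module R C] [Module k C] [IsScalarTower k R C]
  (𝒞 : ℤ → AddSubgroup C) [DirectSum.Decomposition 𝒞] [SetLike.GradedSMul 𝒜 𝒞]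

attribute [local instance] subKGradedAlgebra

/-- graded scalar multiplication on the pieces of `*H`. -/
lemma Hgr_gradedSMul {M : Type u} [AddCommGroup M] [Module R M] {ℳ : ℤ → AddSubgroup M}
    [DirectSum.Decomposition ℳ] [SetLike.GradedSMul 𝒜 ℳ] (E : StarInjRes 𝒜 ℳ)
    (a : HomogeneousIdeal 𝒜) (i : ℕ) : SetLike.GradedSMul 𝒜 (E.Hgr a i) :=
  ⟨by
    intro h j r z hr hz
    have := Groth.Agent.Lib.Helper11.GrLes.smul_mem_Hcomp E a i hr hz
    rwa [add_comm] at this⟩

include hk in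
/-- A *canonical module is a graded dual of the top graded local cohomology. -/
theorem exists_pairing_canonical [IsNoetherianRing R] [Nontrivial R]
    (hpos : ∀ n : ℤ, n < 0 → 𝒜 n = ⊥) (m : HomogeneousIdeal 𝒜)
    (hmsp : m.toIdeal = Ideal.span (⋃ n ∈ Set.Ioi (0 : ℤ), (𝒜 n : Set R)))
    (e : (R ⧸ m.toIdeal) →ₗ[R] E') (he : IsStarInjHull 𝒜 (quotGr 𝒜 m) 𝓔 e)
    (n : ℕ) (I : StarInjRes 𝒜 𝒜) [Module k (I.H m n)] [IsScalarTower k R (I.H m n)]
    [DirectSum.Decomposition (I.Hgr m n)] (hC : IsStarCanonical 𝒜 𝒞 𝓔 m n I) :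
    ∃ β : C →ₗ[k] I.H m n →ₗ[k] k, IsGDual R (I.Hgr m n) 𝒞 β := by
  obtain ⟨βE, hE⟩ := exists_pairing_hull hk 𝓔 hpos m hmsp e he
  obtain ⟨hfin, α, hα⟩ := hC
  haveI := hfin
  haveI : SetLike.GradedSMul (subK hk) 𝓔 := gradedSMul_K hk 𝓔
  haveI : SetLike.GradedSMul (subK hk) 𝒞 := gradedSMul_K hk 𝒞
  haveI : SetLike.GradedSMul 𝒜 (I.Hgr m n) := Hgr_gradedSMul I m n
  haveI : SetLike.GradedSMul (subK hk) (I.Hgr m n) := gradedSMul_K hk (I.Hgr m n)
  letI dH : DirectSum.Decomposition (fun d => (homDeg 𝒜 𝒞 𝓔 d).toAddSubgroup) :=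
    homDecomposition 𝒜 𝒞 𝓔
  have hαs := Groth.Agent.Lib.Helper11.GrLes.isGrHom_symm α hα
  have h1mem : (1 : R) ∈ subK hk 0 := (SetLike.GradedOne.one_mem : (1 : R) ∈ 𝒜 0)
  -- the pairing
  let γ : I.H m n →ₗ[k] C →ₗ[k] k := LinearMap.mk₂ k (fun h c => βE ((α.symm h) c) 1)
    (fun h h' c => by rw [map_add, LinearMap.add_apply, map_add, LinearMap.add_apply])
    (fun a h c => by
      rw [← algebraMap_smul R a h, map_smul, LinearMap.smul_apply, algebraMap_smul, map_smul,
        LinearMap.smul_apply])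
    (fun h c c' => by rw [map_add, map_add, LinearMap.add_apply])
    (fun a h c => by
      rw [← algebraMap_smul R a c, map_smul, algebraMap_smul, map_smul, LinearMap.smul_apply])
  have hγ : ∀ h c, γ h c = βE ((α.symm h) c) 1 := fun h c => rfl
  have hdeg : ∀ i h, h ∈ I.Hgr m n i → IsGrHomDeg 𝒞 𝓔 (α.symm h) i := fun i h hh => hαs i h hh
  have hGD : IsGDual R 𝒞 (I.Hgr m n) γ := by
    refine ⟨?_, ?_, ?_, ?_⟩
    · intro r h c
      rw [hγ, hγ, map_smul, LinearMap.smul_apply, ← map_smul]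
    · intro i h hh j hj c hc
      rw [hγ]
      have h2 : (α.symm h) c ∈ 𝓔 (j + i) := hdeg i h hh j c hc
      refine hE.vanish (j + i) _ h2 0 ?_ 1 h1mem
      intro h0
      apply hj
      omega
    · intro i h hh hvan
      have ht : α.symm h = 0 := by
        apply linearMap_ext_homogeneous 𝒞
        intro j c hc
        rw [LinearMap.zero_apply]
        have h2 : (α.symm h) c ∈ 𝓔 (j + i) := hdeg i h hh j c hc
        apply hE.eq_zero (j + i) _ h2
        intro r hr
        have h3 : βE ((α.symm h) c) r = βE (r • (α.symm h) c) 1 := by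
          rw [hE.map_smul, smul_eq_mul, mul_one]
        rw [h3, ← map_smul, ← hγ]
        apply hvan
        have := SetLike.GradedSMul.smul_mem (A := 𝒜) (B := 𝒞) ((mem_subK hk).mp hr) hc
        rw [vadd_eq_add] at this
        have e1 : -(j + i) + j = -i := by ring
        rwa [e1] at this
      have := congrArg α ht
      rwa [α.apply_symm_apply, map_zero] at this
    · intro i g
      obtain ⟨v, hv, hvdeg⟩ := exists_hom_of_functional (subK hk) 𝓔 βE hE 𝒞
        (g.comp (projK (subK hk) 𝒞 (-i))) (-i) (by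
          intro j hj y hy
          rw [LinearMap.comp_apply, projK_of_mem_ne (subK hk) 𝒞 hy hj, map_zero])
      refine ⟨α v, ?_, ?_⟩
      · apply hα i
        intro j y hy
        have := hvdeg j y hy
        rwa [neg_neg] at this
      · intro c hc
        rw [hγ, α.symm_apply_apply, hv, one_smul, LinearMap.comp_apply,
          projK_of_mem (subK hk) 𝒞 hc]
  haveI : IsNoetherian R C := isNoetherian_of_isNoetherianRing_of_finite R C
  have hfinK : ∀ j, Module.Finite k ↥(compK (subK hk) 𝒞 j) := fun j =>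
    finite_compK_of_isNoetherian (subK hk) 𝒞 (subK_neg hk hpos) (subK_zero hk) j
  exact ⟨γ.flip, isGDual_flip (subK hk) hGD hfinK⟩

end Groth.Agent.Lib.Helper11.GrField
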