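import Groth.Agent.Lib.Helper11.GrLCCmp

/-!
# Finite free graded modules with shifts
-/

set_option autoImplicit false
set_option linter.unusedSectionVars false
universe u

namespace Groth.Agent.Lib.Helper11.GrFree

open DirectSum GrLC Groth.Agent.Lib.Helper11.GrLCLib

variable {ι : Type} [DecidableEq ι] [AddCommGroup ι]
variable {R : Type u} [CommRing R] (𝒜 : ι → AddSubgroup R) [GradedRing 𝒜]
variable {t : ℕ} (a : Fin t → ι)

/-- the degree-`j` piece of `⊕ R(-a_i)`. -/
def freeGr (j : ι) : AddSubgroup (Fin t → R) where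
  carrier := {g | ∀ i, g i ∈ 𝒜 (j - a i)}
  add_mem' := fun hg hg' i => add_mem (hg i) (hg' i)
  zero_mem' := fun i => zero_mem _
  neg_mem' := fun hg i => neg_mem (hg i)

lemma mem_freeGr {j : ι} {g : Fin t → R} : g ∈ freeGr 𝒜 a j ↔ ∀ i, g i ∈ 𝒜 (j - a i) := Iff.rfl

/-- component projections. -/
noncomputable def freeProj (j : ι) : (Fin t → R) →+ (Fin t → R) where
  toFun g := fun i => (decompose 𝒜 (g i) (j - a i) : R)
  map_zero' := by
    funext i
    simp
  map_add' g g' := by
    funext i
    simp [decompose_add]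

lemma freeProj_apply (j : ι) (g : Fin t → R) (i : Fin t) :
    freeProj 𝒜 a j g i = (decompose 𝒜 (g i) (j - a i) : R) := rfl

lemma free_isInternal : DirectSum.IsInternal (freeGr 𝒜 a) := by
  classical
  refine isInternal_of_proj (freeGr 𝒜 a) (freeProj 𝒜 a) ?_ ?_ ?_ ?_
  · intro j g i
    exact SetLike.coe_mem _
  · intro j g hg
    funext i
    rw [freeProj_apply, decompose_of_mem_same 𝒜 (hg i)]
  · intro j j' g hg hne
    funext i
    rw [freeProj_apply, decompose_of_mem_ne 𝒜 (hg i) (fun e => hne (sub_left_injective e).symm)]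
    rfl
  · intro g
    refine ⟨Finset.univ.biUnion (fun i => (decompose 𝒜 (g i)).support.image (fun l => l + a i)), ?_⟩
    funext i
    rw [Finset.sum_apply]
    simp only [freeProj_apply]
    -- reindex by `l = j - a i`
    have hinj : Set.InjOn (fun j : ι => j - a i)
        (Finset.univ.biUnion (fun i => (decompose 𝒜 (g i)).support.image (fun l => l + a i)) :
          Finset ι) := fun x _ y _ h => sub_left_injective h
    rw [← Finset.sum_image (f := fun l => (decompose 𝒜 (g i) l : R)) hinj]
    conv_rhs => rw [← DirectSum.sum_support_decompose 𝒜 (g i)]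
    symm
    apply Finset.sum_subset
    · intro l hl
      rw [Finset.mem_image]
      refine ⟨l + a i, ?_, add_sub_cancel_right l (a i)⟩
      rw [Finset.mem_biUnion]
      exact ⟨i, Finset.mem_univ i, Finset.mem_image.mpr ⟨l, hl, rfl⟩⟩
    · intro l _ hl
      rw [DFinsupp.notMem_support_iff] at hl
      rw [hl, ZeroMemClass.coe_zero]

@[instance_reducible]
noncomputable def freeDecomposition : DirectSum.Decomposition (freeGr 𝒜 a) :=
  (free_isInternal 𝒜 a).chooseDecomposition

instance freeGradedSMul : SetLike.GradedSMul 𝒜 (freeGr 𝒜 a) where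
  smul_mem := by
    intro h j r g hr hg i
    have := SetLike.GradedMul.mul_mem (A := 𝒜) hr (hg i)
    rw [vadd_eq_add]
    rwa [← add_sub_assoc] at this

/-- the free graded module, bundled. -/
noncomputable def freeGMod : GMod.{u} 𝒜 :=
  { carrier := Fin t → R, gr := freeGr 𝒜 a, dec := freeDecomposition 𝒜 a }

/-- the inclusion of the `i`-th factor, of degree `a i`. -/
lemma single_isGrHomDeg (i : Fin t) :
    IsGrHomDeg 𝒜 (freeGr 𝒜 a) (LinearMap.single R (fun _ : Fin t => R) i) (a i) := by
  classical
  intro j r hr l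
  by_cases hl : l = i
  · subst hl
    rw [LinearMap.single_apply, Pi.single_eq_same, add_sub_cancel_right]
    exact hr
  · rw [LinearMap.single_apply, Pi.single_eq_of_ne hl]
    exact zero_mem _

/-- the projection to the `i`-th factor, of degree `-a i`. -/
lemma proj_isGrHomDeg (i : Fin t) :
    IsGrHomDeg (freeGr 𝒜 a) 𝒜 (LinearMap.proj i : (Fin t → R) →ₗ[R] R) (-a i) := by
  intro j g hg
  rw [LinearMap.proj_apply, ← sub_eq_add_neg]
  exact hg i

variable {M : Type u} [AddCommGroup M] [Module R M] (ℳ : ι → AddSubgroup M)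
  [SetLike.GradedSMul 𝒜 ℳ]

/-- the map `⊕ R(-a_i) → M` given by homogeneous elements `x_i ∈ M_{a_i}` is homogeneous. -/
lemma linearCombination_isGrHom (x : Fin t → M) (hx : ∀ i, x i ∈ ℳ (a i)) :
    IsGrHom (freeGr 𝒜 a) ℳ (Fintype.linearCombination R x) := by
  intro j g hg
  rw [Fintype.linearCombination_apply]
  apply sum_mem
  intro i _
  have := SetLike.GradedSMul.smul_mem (A := 𝒜) (B := ℳ) (hg i) (hx i)
  rwa [vadd_eq_add, sub_add_cancel] at this

end Groth.Agent.Lib.Helper11.GrFree
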