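import Groth.Agent.Lib.Helper11.GrLCCmp

/-!
# Functoriality of graded local cohomology in homogeneous maps of arbitrary degree
-/

set_option autoImplicit false
set_option linter.unusedSectionVars false
universe u

namespace Groth.Agent.Lib.Helper11.GrFun

open DirectSum GrLC Groth.Agent.Lib.Helper11.GrLCLib

variable {ι : Type} [DecidableEq ι] [AddCommGroup ι]
variable {R : Type u} [CommRing R] {𝒜 : ι → AddSubgroup R} [GradedRing 𝒜]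
variable {M : Type u} [AddCommGroup M] [Module R M] {ℳ : ι → AddSubgroup M}
  [DirectSum.Decomposition ℳ] [SetLike.GradedSMul 𝒜 ℳ]
variable {M' : Type u} [AddCommGroup M'] [Module R M'] {ℳ' : ι → AddSubgroup M'}
  [DirectSum.Decomposition ℳ'] [SetLike.GradedSMul 𝒜 ℳ']
variable {M'' : Type u} [AddCommGroup M''] [Module R M''] {ℳ'' : ι → AddSubgroup M''}
  [DirectSum.Decomposition ℳ''] [SetLike.GradedSMul 𝒜 ℳ'']

section CMapAdd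

variable {E : StarInjRes 𝒜 ℳ} {E' : StarInjRes 𝒜 ℳ'}

/-- sum of chain maps. -/
def cadd (c c' : CMap E E') : CMap E E' where
  f n := c.f n + c'.f n
  comm n := by
    rw [LinearMap.add_comp, LinearMap.comp_add, c.comm, c'.comm]

/-- zero chain map. -/
def czero (E : StarInjRes 𝒜 ℳ) (E' : StarInjRes 𝒜 ℳ') : CMap E E' where
  f n := 0
  comm n := by rw [LinearMap.zero_comp, LinearMap.comp_zero]

lemma cadd_isDeg {c c' : CMap E E'} {δ : ι} (h : c.IsDeg δ) (h' : c'.IsDeg δ) :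
    (cadd c c').IsDeg δ := by
  intro n g x hx
  exact add_mem (h n g x hx) (h' n g x hx)

lemma cadd_lifts {c c' : CMap E E'} {φ φ' : M →ₗ[R] M'} (h : c.Lifts φ) (h' : c'.Lifts φ') :
    (cadd c c').Lifts (φ + φ') := by
  unfold CMap.Lifts at *
  change (c.f 0 + c'.f 0) ∘ₗ E.ε = _
  rw [LinearMap.add_comp, h, h', LinearMap.comp_add]

lemma czero_isDeg (δ : ι) : (czero E E').IsDeg δ := fun n g x _ => zero_mem _

lemma czero_lifts : (czero E E').Lifts (0 : M →ₗ[R] M') := by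
  unfold CMap.Lifts
  change (0 : (E.X 0).carrier →ₗ[R] (E'.X 0).carrier) ∘ₗ E.ε = _
  rw [LinearMap.zero_comp, LinearMap.comp_zero]

variable (a : HomogeneousIdeal 𝒜)

lemma Hmap_cadd (c c' : CMap E E') (q : ℕ) :
    (cadd c c').Hmap a q = c.Hmap a q + c'.Hmap a q := by
  apply LinearMap.ext
  intro x
  obtain ⟨z, rfl⟩ := Submodule.mkQ_surjective _ x
  rfl

lemma Hmap_czero (q : ℕ) : (czero E E').Hmap a q = 0 := by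
  apply LinearMap.ext
  intro x
  obtain ⟨z, rfl⟩ := Submodule.mkQ_surjective _ x
  show E'.toH a q ((czero E E').cocycMap a q z) = 0
  have : (czero E E').cocycMap a q z = 0 := Subtype.ext rfl
  rw [this, map_zero]

end CMapAdd

section Hn

variable (E : StarInjRes 𝒜 ℳ) (E' : StarInjRes 𝒜 ℳ') (E'' : StarInjRes 𝒜 ℳ'')
  (a : HomogeneousIdeal 𝒜) (q : ℕ)

/-- the map induced on graded local cohomology by a homogeneous map of degree `δ`. -/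
noncomputable def Hn (φ : M →ₗ[R] M') (δ : ι) (hφ : IsGrHomDeg ℳ ℳ' φ δ) : E.H a q →ₗ[R] E'.H a q :=
  (exists_cmap E E' φ δ hφ).choose.Hmap a q

variable {E E' E''}

/-- any lift computes `Hn`. -/
lemma Hn_eq {φ : M →ₗ[R] M'} {δ : ι} (hφ : IsGrHomDeg ℳ ℳ' φ δ) (c : CMap E E') (hc : c.IsDeg δ)
    (hl : c.Lifts φ) : Hn E E' a q φ δ hφ = c.Hmap a q := by
  have h := (exists_cmap E E' φ δ hφ).choose_spec
  exact CMap.Hmap_eq_of_homotopic a (homotopic_of_lifts _ _ φ δ h.1 hc h.2 hl) q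

lemma Hn_mem {φ : M →ₗ[R] M'} {δ : ι} (hφ : IsGrHomDeg ℳ ℳ' φ δ) {g : ι} {x : E.H a q}
    (hx : x ∈ E.Hcomp a q g) : Hn E E' a q φ δ hφ x ∈ E'.Hcomp a q (g + δ) :=
  CMap.Hmap_mem_Hcomp _ a (exists_cmap E E' φ δ hφ).choose_spec.1 q hx

lemma Hn_congr {φ φ' : M →ₗ[R] M'} {δ : ι} (hφ : IsGrHomDeg ℳ ℳ' φ δ) (h : φ = φ')
    (hφ' : IsGrHomDeg ℳ ℳ' φ' δ) : Hn E E' a q φ δ hφ = Hn E E' a q φ' δ hφ' := by
  subst h
  rfl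

lemma Hn_id (h : IsGrHomDeg ℳ ℳ (LinearMap.id : M →ₗ[R] M) 0) :
    Hn E E a q LinearMap.id 0 h = LinearMap.id := by
  rw [Hn_eq a q h (CMap.id E) (CMap.id_isDeg E) (CMap.id_lifts E), CMap.Hmap_id]

lemma Hn_comp {φ : M →ₗ[R] M'} {δ : ι} (hφ : IsGrHomDeg ℳ ℳ' φ δ) {ψ : M' →ₗ[R] M''} {δ' : ι}
    (hψ : IsGrHomDeg ℳ' ℳ'' ψ δ') (h : IsGrHomDeg ℳ ℳ'' (ψ ∘ₗ φ) (δ + δ')) :
    Hn E E'' a q (ψ ∘ₗ φ) (δ + δ') h = Hn E' E'' a q ψ δ' hψ ∘ₗ Hn E E' a q φ δ hφ := by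
  have h1 := (exists_cmap E E' φ δ hφ).choose_spec
  have h2 := (exists_cmap E' E'' ψ δ' hψ).choose_spec
  rw [Hn_eq a q h _ (CMap.comp_isDeg h2.1 h1.1) (CMap.comp_lifts h2.2 h1.2), CMap.Hmap_comp]
  rfl

lemma Hn_add {φ φ' : M →ₗ[R] M'} {δ : ι} (hφ : IsGrHomDeg ℳ ℳ' φ δ) (hφ' : IsGrHomDeg ℳ ℳ' φ' δ)
    (h : IsGrHomDeg ℳ ℳ' (φ + φ') δ) :
    Hn E E' a q (φ + φ') δ h = Hn E E' a q φ δ hφ + Hn E E' a q φ' δ hφ' := by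
  have h1 := (exists_cmap E E' φ δ hφ).choose_spec
  have h2 := (exists_cmap E E' φ' δ hφ').choose_spec
  rw [Hn_eq a q h _ (cadd_isDeg h1.1 h2.1) (cadd_lifts h1.2 h2.2), Hmap_cadd]
  rfl

lemma Hn_zero (δ : ι) (h : IsGrHomDeg ℳ ℳ' (0 : M →ₗ[R] M') δ) :
    Hn E E' a q 0 δ h = 0 := by
  rw [Hn_eq a q h _ (czero_isDeg δ) czero_lifts, Hmap_czero]

lemma Hn_lsmul {r : R} {δ : ι} (hr : r ∈ 𝒜 δ) (h : IsGrHomDeg ℳ ℳ (LinearMap.lsmul R M r) δ)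
    (x : E.H a q) : Hn E E a q (LinearMap.lsmul R M r) δ h x = r • x := by
  rw [Hn_eq a q h _ (CMap.smul_isDeg E hr) (CMap.smul_lifts E r), CMap.Hmap_smul]

end Hn

section Deg

omit [DirectSum.Decomposition ℳ] [DirectSum.Decomposition ℳ'] [DirectSum.Decomposition ℳ'']
  [SetLike.GradedSMul 𝒜 ℳ] [SetLike.GradedSMul 𝒜 ℳ'] [SetLike.GradedSMul 𝒜 ℳ''] in
lemma isGrHomDeg_comp {φ : M →ₗ[R] M'} {δ : ι} (hφ : IsGrHomDeg ℳ ℳ' φ δ) {ψ : M' →ₗ[R] M''}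
    {δ' : ι} (hψ : IsGrHomDeg ℳ' ℳ'' ψ δ') : IsGrHomDeg ℳ ℳ'' (ψ ∘ₗ φ) (δ + δ') := by
  intro g x hx
  have := hψ _ _ (hφ g x hx)
  rwa [add_assoc] at this

omit [DirectSum.Decomposition ℳ] [DirectSum.Decomposition ℳ']
  [SetLike.GradedSMul 𝒜 ℳ] [SetLike.GradedSMul 𝒜 ℳ'] in
lemma isGrHomDeg_add {φ φ' : M →ₗ[R] M'} {δ : ι} (hφ : IsGrHomDeg ℳ ℳ' φ δ)
    (hφ' : IsGrHomDeg ℳ ℳ' φ' δ) : IsGrHomDeg ℳ ℳ' (φ + φ') δ :=
  fun g x hx => add_mem (hφ g x hx) (hφ' g x hx)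

omit [DirectSum.Decomposition ℳ] [DirectSum.Decomposition ℳ']
  [SetLike.GradedSMul 𝒜 ℳ] [SetLike.GradedSMul 𝒜 ℳ'] in
lemma isGrHomDeg_zero (δ : ι) : IsGrHomDeg ℳ ℳ' (0 : M →ₗ[R] M') δ :=
  fun g x _ => zero_mem _

omit [DirectSum.Decomposition ℳ] [DirectSum.Decomposition ℳ']
  [SetLike.GradedSMul 𝒜 ℳ] [SetLike.GradedSMul 𝒜 ℳ'] in
lemma isGrHomDeg_sum {κ : Type*} (s : Finset κ) {φ : κ → (M →ₗ[R] M')} {δ : ι}
    (hφ : ∀ i ∈ s, IsGrHomDeg ℳ ℳ' (φ i) δ) : IsGrHomDeg ℳ ℳ' (∑ i ∈ s, φ i) δ := by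
  intro g x hx
  rw [LinearMap.sum_apply]
  exact sum_mem (fun i hi => hφ i hi g x hx)

end Deg

section Sum

variable {E : StarInjRes 𝒜 ℳ} {E' : StarInjRes 𝒜 ℳ'} (a : HomogeneousIdeal 𝒜) (q : ℕ)

lemma Hn_sum {κ : Type*} [DecidableEq κ] (s : Finset κ) {φ : κ → (M →ₗ[R] M')} {δ : ι}
    (hφ : ∀ i, IsGrHomDeg ℳ ℳ' (φ i) δ) (h : IsGrHomDeg ℳ ℳ' (∑ i ∈ s, φ i) δ) :
    Hn E E' a q (∑ i ∈ s, φ i) δ h = ∑ i ∈ s, Hn E E' a q (φ i) δ (hφ i) := by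
  induction s using Finset.induction_on with
  | empty =>
    simp only [Finset.sum_empty]
    exact Hn_zero a q δ _
  | insert i s hi ih =>
    have h1 : IsGrHomDeg ℳ ℳ' (∑ j ∈ s, φ j) δ := isGrHomDeg_sum s (fun j _ => hφ j)
    have h2 : IsGrHomDeg ℳ ℳ' (φ i + ∑ j ∈ s, φ j) δ := isGrHomDeg_add (hφ i) h1
    rw [Hn_congr a q h (Finset.sum_insert hi) h2, Hn_add a q (hφ i) h1 h2, ih h1,
      Finset.sum_insert hi]

end Sum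

end Groth.Agent.Lib.Helper11.GrFun

namespace Groth.Agent.Lib.Helper11.GrFun

open DirectSum GrLC Groth.Agent.Lib.Helper11.GrLCLib

variable {ι : Type} [DecidableEq ι] [AddCommGroup ι]
variable {R : Type u} [CommRing R] {𝒜 : ι → AddSubgroup R} [GradedRing 𝒜]
variable {M : Type u} [AddCommGroup M] [Module R M] {ℳ : ι → AddSubgroup M}
  [DirectSum.Decomposition ℳ] [SetLike.GradedSMul 𝒜 ℳ]
variable {M' : Type u} [AddCommGroup M'] [Module R M'] {ℳ' : ι → AddSubgroup M'}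
  [DirectSum.Decomposition ℳ'] [SetLike.GradedSMul 𝒜 ℳ']
variable {M'' : Type u} [AddCommGroup M''] [Module R M''] {ℳ'' : ι → AddSubgroup M''}
  [DirectSum.Decomposition ℳ''] [SetLike.GradedSMul 𝒜 ℳ'']
variable {E : StarInjRes 𝒜 ℳ} {E' : StarInjRes 𝒜 ℳ'} {E'' : StarInjRes 𝒜 ℳ''}
  (a : HomogeneousIdeal 𝒜) (q : ℕ)

lemma Hn_deg_congr {φ : M →ₗ[R] M'} {δ δ' : ι} (e : δ = δ') (hφ : IsGrHomDeg ℳ ℳ' φ δ)
    (hφ' : IsGrHomDeg ℳ ℳ' φ δ') : Hn E E' a q φ δ hφ = Hn E E' a q φ δ' hφ' := by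
  subst e
  rfl

/-- composition with flexible degrees. -/
lemma Hn_comp' {φ : M →ₗ[R] M'} {δ : ι} (hφ : IsGrHomDeg ℳ ℳ' φ δ) {ψ : M' →ₗ[R] M''} {δ' : ι}
    (hψ : IsGrHomDeg ℳ' ℳ'' ψ δ') {χ : M →ₗ[R] M''} {δ'' : ι} (hχ : IsGrHomDeg ℳ ℳ'' χ δ'')
    (e : δ + δ' = δ'') (hc : χ = ψ ∘ₗ φ) :
    Hn E E'' a q χ δ'' hχ = Hn E' E'' a q ψ δ' hψ ∘ₗ Hn E E' a q φ δ hφ := by
  subst e hc
  exact Hn_comp a q hφ hψ hχ

lemma Hn_comp_apply {φ : M →ₗ[R] M'} {δ : ι} (hφ : IsGrHomDeg ℳ ℳ' φ δ) {ψ : M' →ₗ[R] M''} {δ' : ι}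
    (hψ : IsGrHomDeg ℳ' ℳ'' ψ δ') {χ : M →ₗ[R] M''} {δ'' : ι} (hχ : IsGrHomDeg ℳ ℳ'' χ δ'')
    (e : δ + δ' = δ'') (hc : χ = ψ ∘ₗ φ) (x : E.H a q) :
    Hn E' E'' a q ψ δ' hψ (Hn E E' a q φ δ hφ x) = Hn E E'' a q χ δ'' hχ x := by
  rw [Hn_comp' a q hφ hψ hχ e hc]
  rfl

end Groth.Agent.Lib.Helper11.GrFun
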