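import Mathlib
import Groth.Prelude.Def_GrLC
import Groth.Prelude.Def_GrLC2
import Groth.Agent.Lib.Helper11.GrCoreB
import Groth.Agent.Lib.Helper11.GrGorA
import Groth.Agent.Lib.Helper11.GrBassA

/-!
# Socles of graded modules over *local rings
-/

set_option autoImplicit false
set_option linter.unusedSectionVars false
universe u

namespace Groth.Agent.Lib.Helper11.GrGor

open DirectSum GrLC Groth.Agent.Lib.Helper11.GrLCLib Groth.Agent.Lib.Helper11.GrCore
  Groth.Agent.Lib.Helper11.GrBass

section TFree

variable {ι : Type} [DecidableEq ι] [AddCommGroup ι]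
variable {R : Type u} [CommRing R] (𝒜 : ι → AddSubgroup R) [GradedRing 𝒜]
variable {E : Type u} [AddCommGroup E] [Module R E] (𝓔 : ι → AddSubgroup E)
  [DirectSum.Decomposition 𝓔] [SetLike.GradedSMul 𝒜 𝓔]

include 𝓔 in
theorem exists_tfree_hom (P : Ideal R) [hPprime : P.IsPrime] (hP : P.IsHomogeneous 𝒜)
    (hPE : ∀ r ∈ P, ∀ x : E, r • x = 0) :
    ∃ (J : Type u) (e : J → E), (∀ j, SetLike.IsHomogeneousElem 𝓔 (e j)) ∧
      (∀ c : J →₀ R, Finsupp.linearCombination R e c = 0 → ∀ j, c j ∈ P) ∧
      ∀ x : E, ∃ t, SetLike.IsHomogeneousElem 𝒜 t ∧ t ∉ P ∧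
        t • x ∈ Submodule.span R (Set.range e) := by
  classical
  have hM : Module.IsTorsionBySet R E (P : Set R) := fun x r => hPE r.1 r.2 x
  let _ := hM.module
  let H := {x : E // SetLike.IsHomogeneousElem 𝓔 x}
  let v : H → E := Subtype.val
  obtain ⟨s, hs, hmax⟩ := exists_maximal_linearIndepOn (R ⧸ P) v
  refine ⟨s, fun j => v j, fun j => j.1.2, ?_, ?_⟩
  · intro c hc j
    have hs' : LinearIndependent (R ⧸ P) (fun j : s => v j) := hs
    have h0 := linearIndependent_iff.1 hs' (c.mapRange (Ideal.Quotient.mk P) (map_zero _)) (by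
      rw [Finsupp.linearCombination_apply, Finsupp.sum_mapRange_index (by intro j; exact zero_smul _ _)]
      rw [Finsupp.linearCombination_apply] at hc
      exact hc)
    have := DFunLike.congr_fun h0 j
    rw [Finsupp.mapRange_apply, Finsupp.zero_apply, Ideal.Quotient.eq_zero_iff_mem] at this
    exact this
  · set N := Submodule.span R (Set.range (fun j : s => v j)) with hN
    have hNhom : N.IsHomogeneous 𝓔 := by
      apply span_isHomogeneous 𝒜 𝓔
      rintro _ ⟨j, rfl⟩
      exact j.1.2
    -- homogeneous elements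
    have hhom : ∀ x : E, SetLike.IsHomogeneousElem 𝓔 x →
        ∃ t, SetLike.IsHomogeneousElem 𝒜 t ∧ t ∉ P ∧ t • x ∈ N := by
      intro x hx
      by_cases hxs : (⟨x, hx⟩ : H) ∈ s
      · exact ⟨1, ⟨0, SetLike.GradedOne.one_mem⟩, (Ideal.ne_top_iff_one P).1 hPprime.ne_top, by
          rw [one_smul]
          exact Submodule.subset_span ⟨⟨⟨x, hx⟩, hxs⟩, rfl⟩⟩
      · obtain ⟨d, hd0, hd⟩ := hmax ⟨x, hx⟩ hxs
        obtain ⟨r, rfl⟩ := Ideal.Quotient.mk_surjective d
        have hrP : r ∉ P := fun h => hd0 (Ideal.Quotient.eq_zero_iff_mem.2 h)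
        have hrx : r • x ∈ N := by
          have h1 : (Submodule.span (R ⧸ P) (v '' s)).restrictScalars R = Submodule.span R (v '' s) :=
            Submodule.restrictScalars_span R (R ⧸ P) Ideal.Quotient.mk_surjective (v '' s)
          have h2 : r • x ∈ (Submodule.span (R ⧸ P) (v '' s)).restrictScalars R := hd
          rw [h1] at h2
          have h3 : v '' s = Set.range (fun j : s => v j) := by
            ext y
            constructor
            · rintro ⟨j, hj, rfl⟩
              exact ⟨⟨j, hj⟩, rfl⟩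
            · rintro ⟨j, rfl⟩
              exact ⟨j.1, j.2, rfl⟩
          rw [h3] at h2
          exact h2
        -- some component of r outside P
        obtain ⟨h, hh⟩ : ∃ h, (decompose 𝒜 r h : R) ∉ P := by
          by_contra hcon
          push Not at hcon
          apply hrP
          rw [← DirectSum.sum_support_decompose 𝒜 r]
          exact P.sum_mem fun h _ => hcon h
        obtain ⟨g0, hg0⟩ := hx
        refine ⟨(decompose 𝒜 r h : R), ⟨h, SetLike.coe_mem _⟩, hh, ?_⟩
        rw [← decompose_smul_right 𝒜 𝓔 hg0 r h]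
        exact hNhom _ hrx
    intro x
    induction x using DirectSum.Decomposition.inductionOn 𝓔 with
    | zero =>
      exact ⟨1, ⟨0, SetLike.GradedOne.one_mem⟩, (Ideal.ne_top_iff_one P).1 hPprime.ne_top, by
        rw [smul_zero]; exact Submodule.zero_mem _⟩
    | homogeneous x =>
      exact hhom _ ⟨_, x.2⟩
    | add x y hx hy =>
      obtain ⟨t, ⟨i, hti⟩, htP, htx⟩ := hx
      obtain ⟨t', ⟨i', hti'⟩, htP', htx'⟩ := hy
      refine ⟨t * t', ⟨i + i', SetLike.GradedMul.mul_mem hti hti'⟩, ?_, ?_⟩
      · intro h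
        rcases hPprime.mem_or_mem h with h | h
        · exact htP h
        · exact htP' h
      · rw [smul_add]
        refine Submodule.add_mem _ ?_ ?_
        · rw [mul_comm, mul_smul]
          exact Submodule.smul_mem _ _ htx
        · rw [mul_smul]
          exact Submodule.smul_mem _ _ htx'


end TFree

end Groth.Agent.Lib.Helper11.GrGor
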