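import Groth.Agent.Lib.Helper11.GrGorD
import Groth.Agent.Lib.Helper11.GrLCHull2
import Groth.Agent.Lib.Helper11.GrLCMin

set_option autoImplicit false
set_option linter.unusedSectionVars false
universe u

namespace Groth.Agent.Lib.Helper11.GrGor

open DirectSum GrLC Groth.Agent.Lib.Helper11.GrLCLib Groth.Agent.Lib.Helper11.GrCore
  Groth.Agent.Lib.Helper11.GrBass

variable {ι : Type} [DecidableEq ι] [AddCommGroup ι]
variable {R : Type u} [CommRing R] (𝒜 : ι → AddSubgroup R) [GradedRing 𝒜]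
variable {X : Type u} [AddCommGroup X] [Module R X] (𝒳 : ι → AddSubgroup X)
  [DirectSum.Decomposition 𝒳] [SetLike.GradedSMul 𝒜 𝒳]

/-- The socle of `X` with respect to an ideal. -/
def soc (a : Ideal R) (X : Type u) [AddCommGroup X] [Module R X] : Submodule R X where
  carrier := {y | ∀ c ∈ a, c • y = 0}
  zero_mem' := fun c _ => smul_zero c
  add_mem' := by
    intro y y' hy hy' c hc
    rw [smul_add, hy c hc, hy' c hc, add_zero]
  smul_mem' := by
    intro r y hy c hc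
    rw [smul_comm, hy c hc, smul_zero]

lemma mem_soc {a : Ideal R} {y : X} : y ∈ soc a X ↔ ∀ c ∈ a, c • y = 0 := Iff.rfl

include 𝒜 in
lemma soc_isHomogeneous (a : HomogeneousIdeal 𝒜) : (soc a.toIdeal X).IsHomogeneous 𝒳 := by
  classical
  intro g y hy c hc
  rw [← DirectSum.sum_support_decompose 𝒜 c, Finset.sum_smul]
  refine Finset.sum_eq_zero (fun h _ => ?_)
  have hch : (decompose 𝒜 c h : R) ∈ a.toIdeal := a.isHomogeneous h hc
  have h0 := hy _ hch
  have := decompose_smul_of_mem 𝒳 𝒜 (SetLike.coe_mem (decompose 𝒜 c h)) y g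
  rw [← this, h0, decompose_zero, DirectSum.zero_apply, ZeroMemClass.coe_zero]

lemma soc_le_gam (a : Ideal R) : soc a X ≤ gam a X := by
  intro y hy
  refine ⟨1, fun r hr => ?_⟩
  rw [pow_one] at hr
  exact hy r hr

include 𝒳 in
/-- If `μ^0(m, X) = 0` for the *maximal ideal `m` then `Γ_m(X) = 0`. -/
theorem gam_eq_bot_of_bassNum_zero [IsNoetherianRing R] {m : HomogeneousIdeal 𝒜} (hm : IsCoatom m)
    [hmp : m.toIdeal.IsPrime] (h : GrLC.bassNum m.toIdeal X 0 = 0) : gam m.toIdeal X = ⊥ := by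
  by_contra hne
  obtain ⟨g, y, hyg, -, hy0, hmy⟩ := exists_socle_of_le_gam 𝒜 𝒳 m (gam_isHomogeneous 𝒜 𝒳 m) hne le_rfl
  have hass : m.toIdeal ∈ associatedPrimes R X := by
    rw [AssociatedPrimes.mem_iff, isAssociatedPrime_iff]
    refine ⟨hmp, y, ?_⟩
    ext r
    rw [Submodule.mem_colon_singleton, Submodule.mem_bot]
    exact (smul_eq_zero_iff_of_isCoatom 𝒜 𝒳 hm hyg hy0 hmy r).symm
  exact (bassNum_zero_ne_zero_iff_mem_associatedPrimes m.toIdeal X).2 hass h

include 𝒳 in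
/-- If `μ^0(m, X) = 1` the socle is generated by one homogeneous element. -/
theorem exists_soc_generator [IsNoetherianRing R] {m : HomogeneousIdeal 𝒜} (hm : IsCoatom m)
    [hmp : m.toIdeal.IsPrime] (h : GrLC.bassNum m.toIdeal X 0 = 1) :
    ∃ (g₀ : ι) (y₀ : X), y₀ ∈ 𝒳 g₀ ∧ y₀ ≠ 0 ∧ (∀ c ∈ m.toIdeal, c • y₀ = 0) ∧
      ∀ y ∈ soc m.toIdeal X, y ∈ Submodule.span R {y₀} := by
  classical
  set S := soc m.toIdeal X with hS
  have hSh : S.IsHomogeneous 𝒳 := soc_isHomogeneous 𝒜 𝒳 m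
  let _ := subDecomposition 𝒳 S hSh
  obtain ⟨J, e, hehom, hind, hspan⟩ := exists_tfree_hom 𝒜 (subGr 𝒳 S) m.toIdeal m.isHomogeneous
    (fun r hr x => Subtype.ext (x.2 r hr))
  have hcard : GrLC.bassNum m.toIdeal X 0 = ENat.card J := by
    refine bassNum_zero_eq_card m.toIdeal (fun j => ((e j : S) : X)) ?_ ?_ ?_
    · intro j c hc
      exact (e j).2 c hc
    · intro c hc j
      apply hind c ?_ j
      apply Subtype.ext
      rw [Submodule.coe_zero, ← hc, Finsupp.linearCombination_apply, Finsupp.linearCombination_apply,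
        Finsupp.sum, Finsupp.sum, Submodule.coe_sum]
      rfl
    · intro m₀ hm₀
      obtain ⟨t, -, htm, ht⟩ := hspan ⟨m₀, hm₀⟩
      refine ⟨t, htm, ?_⟩
      have h1 : S.subtype (t • ⟨m₀, hm₀⟩) ∈ (Submodule.span R (Set.range e)).map S.subtype :=
        Submodule.mem_map_of_mem ht
      rw [Submodule.map_span, ← Set.range_comp] at h1
      exact h1
  rw [h] at hcard
  obtain ⟨hU⟩ := ENat.card_eq_one_iff_unique.1 hcard.symm
  set j₀ : J := default with hj₀
  obtain ⟨g₀, hg₀⟩ := hehom j₀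
  have hy₀0 : ((e j₀ : S) : X) ≠ 0 := by
    intro h0
    have h1 := hind (Finsupp.single j₀ 1) (by
      rw [Finsupp.linearCombination_single, one_smul]
      exact Subtype.ext h0) j₀
    rw [Finsupp.single_eq_same] at h1
    exact hmp.one_notMem h1
  refine ⟨g₀, ((e j₀ : S) : X), hg₀, hy₀0, (e j₀).2, ?_⟩
  intro y hy
  obtain ⟨t, hthom, htm, ht⟩ := hspan ⟨y, hy⟩
  have hrange : Set.range e = {e j₀} := by
    ext z
    constructor
    · rintro ⟨j, rfl⟩
      rw [Set.mem_singleton_iff, hU.uniq j]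
    · intro hz
      rw [Set.mem_singleton_iff] at hz
      exact ⟨j₀, hz.symm⟩
  rw [hrange] at ht
  obtain ⟨s', hs'⟩ := Submodule.mem_span_singleton.1 ht
  obtain ⟨a, s, ha, has⟩ := exists_mul_sub_one_mem_of_isCoatom 𝒜 hm hthom htm
  have hy1 : y = s • (t • y) := by
    calc y = (1 : R) • y := (one_smul R y).symm
      _ = (a + s * t) • y := by rw [has]
      _ = a • y + s • (t • y) := by rw [add_smul, mul_smul]
      _ = s • (t • y) := by rw [hy a ha, zero_add]
  have hty : t • y = s' • ((e j₀ : S) : X) := by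
    have := congrArg Subtype.val hs'
    exact this.symm
  rw [hy1, hty, smul_smul]
  exact Submodule.mem_span_singleton.2 ⟨s * s', rfl⟩

/-- `Γ_a` of a *injective module is *injective (Noetherian ring). -/
theorem isStarInj_gam [IsNoetherianRing R] (hX : IsStarInj 𝒜 𝒳) (a : HomogeneousIdeal 𝒜)
    [inst : DirectSum.Decomposition (subGr 𝒳 (gam a.toIdeal X))] :
    IsStarInj 𝒜 (subGr 𝒳 (gam a.toIdeal X)) := by
  classical
  set G := gam a.toIdeal X with hGdef
  have hG : G.IsHomogeneous 𝒳 := gam_isHomogeneous 𝒜 𝒳 a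
  obtain ⟨Y, f, hf, i, hi_inj, hi_gr, hif⟩ := exists_isStarInjHull_sub 𝒜 𝒳 (subGr 𝒳 G) hX G.subtype
    (subtype_isGrHom 𝒳 G) (Submodule.injective_subtype G)
  have hessf : InjHull.IsEssentialInj f :=
    isEssentialInj_of_isStarEss 𝒜 (subGr 𝒳 G) Y.gr hf.toIsStarEss
  have hGtop : gam a.toIdeal G = ⊤ := by
    rw [eq_top_iff]
    rintro ⟨w, n, hn⟩ -
    exact ⟨n, fun r hr => Subtype.ext (hn r hr)⟩
  have hYtop : gam a.toIdeal Y.carrier = ⊤ := gam_eq_top_of_essential a.toIdeal hessf hGtop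
  have hiG : ∀ y : Y.carrier, i y ∈ G := by
    intro y
    have hy : y ∈ gam a.toIdeal Y.carrier := hYtop ▸ Submodule.mem_top
    obtain ⟨n, hn⟩ := hy
    exact ⟨n, fun r hr => by rw [← map_smul, hn r hr, map_zero]⟩
  obtain ⟨ρ, hρ, hρi⟩ := exists_retraction Y.gr 𝒳 𝒜 hf.starInj hi_gr hi_inj
  let r : X →ₗ[R] G := (i ∘ₗ ρ).codRestrict G (fun x => hiG (ρ x))
  have hr : IsGrHom 𝒳 (subGr 𝒳 G) r := by
    intro g x hx
    exact hi_gr g _ (hρ g x hx)
  have hrj : r ∘ₗ G.subtype = LinearMap.id := by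
    apply LinearMap.ext
    intro w
    apply Subtype.ext
    have h1 : i (f w) = (w : X) := LinearMap.congr_fun hif w
    have h2 : ρ (i (f w)) = f w := LinearMap.congr_fun hρi (f w)
    change i (ρ (w : X)) = (w : X)
    rw [← h1, h2]
  exact isStarInj_of_retract 𝒜 𝒳 (subGr 𝒳 G) hX G.subtype (subtype_isGrHom 𝒳 G) r hr hrj

end Groth.Agent.Lib.Helper11.GrGor
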