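import Groth.Agent.Lib.Helper11.GrGorB
import Groth.Agent.Lib.Helper11.GrGorC
import Groth.Agent.Lib.Helper11.GrGorF

set_option autoImplicit false
set_option linter.unusedSectionVars false
universe u

namespace Groth.Agent.Lib.Helper11.GrGor

open DirectSum GrLC Groth.Agent.Lib.Helper11.GrLCLib Groth.Agent.Lib.Helper11.GrCore
  Groth.Agent.Lib.Helper11.GrBass

variable {ι : Type} [DecidableEq ι] [AddCommGroup ι] [Module.Free ℤ ι] [Module.Finite ℤ ι]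
variable {R : Type u} [CommRing R] [hGor : LocCoh.IsGorensteinRing R] (𝒜 : ι → AddSubgroup R)
  [GradedRing 𝒜]
variable {E' : Type u} [AddCommGroup E'] [Module R E'] (𝓔 : ι → AddSubgroup E')
  [DirectSum.Decomposition 𝓔] [SetLike.GradedSMul 𝒜 𝓔]

/-- For a Gorenstein *local ring with `ht m = n`, `H^n_m(R)` is a shifted *injective hull of `R/m`. -/
theorem exists_top_H_equiv_hull (m : HomogeneousIdeal 𝒜) (hm : IsStarLocal 𝒜 m) (n : ℕ)
    (hn : m.toIdeal.height = n) (I : StarInjRes 𝒜 𝒜) (e : (R ⧸ m.toIdeal) →ₗ[R] E')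
    (he : IsStarInjHull 𝒜 (quotGr 𝒜 m) 𝓔 e) :
    ∃ (g : ι) (φ : I.H m n ≃ₗ[R] E'), IsGrHomDeg (I.Hgr m n) 𝓔 φ.toLinearMap g := by
  classical
  have hmp : m.toIdeal.IsPrime := isPrime_of_isCoatom 𝒜 hm.1
  set E := minRes 𝒜 𝒜 with hE
  have hb : ∀ i, GrLC.bassNum m.toIdeal (E.X i).carrier 0 = GrLC.bassNum m.toIdeal R i :=
    fun i => bassNum_term_zero E minRes_hmin0 minRes_hmin m i
  obtain ⟨hlow, hhigh, hn1⟩ := bassNum_gorenstein m.toIdeal n hn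
  have hGtop : gam m.toIdeal (E.X (n + 1)).carrier = ⊥ :=
    gam_eq_bot_of_bassNum_zero 𝒜 (E.X (n + 1)).gr hm.1 (by rw [hb, hhigh])
  have hGlow : ∀ k, k + 1 = n → gam m.toIdeal (E.X k).carrier = ⊥ := fun k hk =>
    gam_eq_bot_of_bassNum_zero 𝒜 (E.X k).gr hm.1 (by rw [hb]; exact hlow k (by omega))
  have hcocyc : E.cocyc m n = gam m.toIdeal (E.X n).carrier := by
    apply le_antisymm inf_le_left
    intro z hz
    refine ⟨hz, ?_⟩
    have h1 : E.d n z ∈ gam m.toIdeal (E.X (n + 1)).carrier := map_mem_gam (E.d n) m.toIdeal hz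
    rw [hGtop] at h1
    exact (Submodule.mem_bot R).mp h1
  have hcobdy : E.cobdy m n = ⊥ := by
    rcases n with _ | k
    · rfl
    · change (gam m.toIdeal (E.X k).carrier).map (E.d k) = ⊥
      rw [hGlow k rfl, Submodule.map_bot]
  have hbot : (E.cobdy m n).comap (E.cocyc m n).subtype = ⊥ := by
    rw [hcobdy, Submodule.comap_bot, Submodule.ker_subtype]
  obtain ⟨g, β, hβ⟩ := exists_gam_equiv_hull 𝒜 (E.X n).gr 𝓔 hm.1 (E.starInj n)
    (by rw [hb, hn1]) e he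
  let θ : ↥(E.cocyc m n) ≃ₗ[R] E.H m n := (Submodule.quotEquivOfEqBot _ hbot).symm
  have hθ : ∀ z, θ z = E.toH m n z := fun z => Submodule.quotEquivOfEqBot_symm_apply _ hbot z
  let ψ : E.H m n ≃ₗ[R] E' := θ.symm ≪≫ₗ (LinearEquiv.ofEq _ _ hcocyc) ≪≫ₗ β
  have hψ : ∀ (h : ι) (x : E.H m n), x ∈ E.Hcomp m n h → ψ x ∈ 𝓔 (h + g) := by
    rintro h x ⟨z, hz, rfl⟩
    rw [← hθ]
    change β (LinearEquiv.ofEq _ _ hcocyc (θ.symm (θ z))) ∈ 𝓔 (h + g)
    rw [LinearEquiv.symm_apply_apply]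
    exact hβ h _ hz
  obtain ⟨e₀, he₀, -⟩ := exists_H_equiv I E m n
  refine ⟨g, e₀ ≪≫ₗ ψ, ?_⟩
  intro h x hx
  exact hψ h (e₀ x) (he₀ h x hx)

end Groth.Agent.Lib.Helper11.GrGor
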