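import Mathlib

/-!
# Monotonicity of dimensions of graded pieces via McCoy's theorem

If `V, U, W` are finite-dimensional `K`-subspaces of a commutative ring `R` with `V * U ⊆ W` and no
nonzero element of `R` is killed by all of `V`, then `dim U ≤ dim W`.  (The generic linear form
`∑ bᵢ Xⁱ` is a nonzerodivisor of `R[X]` by McCoy's theorem.)
-/

set_option autoImplicit false
set_option linter.unusedSectionVars false
set_option linter.unusedVariables false

namespace Groth.Agent.Lib.Helper11.GrHilb

open Polynomial

variable {K : Type*} {R : Type*} [Field K] [CommRing R] [Module K R] [IsScalarTower K R R]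
  [SMulCommClass K R R]

/-- the generic form. -/
noncomputable def genForm {r : ℕ} (b : Fin r → R) : R[X] := ∑ i : Fin r, C (b i) * X ^ (i : ℕ)

/-- the polynomial attached to a tuple. -/
noncomputable def tuplePoly {N : ℕ} (Q : Fin N → R) : R[X] := ∑ l : Fin N, C (Q l) * X ^ (l : ℕ)

lemma coeff_tuplePoly {N : ℕ} (Q : Fin N → R) (l : Fin N) : (tuplePoly Q).coeff (l : ℕ) = Q l := by
  unfold tuplePoly
  rw [finset_sum_coeff]
  simp only [coeff_C_mul_X_pow]
  rw [Finset.sum_eq_single l]
  · simp
  · intro l' _ hne
    rw [if_neg]
    intro h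
    exact hne (Fin.ext h.symm)
  · intro h
    exact absurd (Finset.mem_univ l) h

lemma coeff_genForm_mul_tuplePoly {r N : ℕ} (b : Fin r → R) (Q : Fin N → R) (j : ℕ) :
    (genForm b * tuplePoly Q).coeff j =
      ∑ i : Fin r, ∑ l : Fin N, if (i : ℕ) + (l : ℕ) = j then b i * Q l else 0 := by
  unfold genForm tuplePoly
  rw [Finset.sum_mul_sum, finset_sum_coeff]
  apply Finset.sum_congr rfl
  intro i _
  rw [finset_sum_coeff]
  apply Finset.sum_congr rfl
  intro l _
  have : C (b i) * X ^ (i : ℕ) * (C (Q l) * X ^ (l : ℕ)) = C (b i * Q l) * X ^ ((i : ℕ) + (l : ℕ)) := by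
    rw [C_mul, pow_add]
    ring
  rw [this, coeff_C_mul_X_pow]
  by_cases h : (i : ℕ) + (l : ℕ) = j
  · rw [if_pos h, if_pos h.symm]
  · rw [if_neg h, if_neg (fun h' => h h'.symm)]

lemma genForm_mem_nonZeroDivisors {r : ℕ} (b : Fin r → R)
    (hsoc : ∀ a : R, (∀ i, a * b i = 0) → a = 0) : genForm b ∈ nonZeroDivisors R[X] := by
  rw [Polynomial.mem_nonZeroDivisors_iff]
  intro a ha
  apply hsoc
  intro i
  have h1 := congrArg (fun p => Polynomial.coeff p (i : ℕ)) ha
  simp only [coeff_smul, coeff_zero] at h1
  have h2 : (genForm b).coeff (i : ℕ) = b i := by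
    have := coeff_tuplePoly b i
    exact this
  rw [h2, smul_eq_mul] at h1
  exact h1

theorem finrank_le_of_socle_free (V U W : Submodule K R) [Module.Finite K V] [Module.Finite K U]
    [Module.Finite K W] (hmul : ∀ x ∈ V, ∀ y ∈ U, x * y ∈ W)
    (hsoc : ∀ a : R, (∀ x ∈ V, x * a = 0) → a = 0) :
    Module.finrank K U ≤ Module.finrank K W := by
  classical
  set r := Module.finrank K V with hr
  let bV : Module.Basis (Fin r) K V := Module.finBasis K V
  let b : Fin r → R := fun i => (bV i : R)
  have hbV : ∀ i, b i ∈ V := fun i => (bV i).2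
  have hsoc' : ∀ a : R, (∀ i, a * b i = 0) → a = 0 := by
    intro a ha
    apply hsoc
    intro x hx
    have hx' : (⟨x, hx⟩ : V) = ∑ i, bV.repr ⟨x, hx⟩ i • bV i := (bV.sum_repr ⟨x, hx⟩).symm
    have hx'' : x = ∑ i, bV.repr ⟨x, hx⟩ i • b i := by
      have h5 : ((⟨x, hx⟩ : V) : R) = ((∑ i, bV.repr ⟨x, hx⟩ i • bV i : V) : R) :=
        congrArg (Subtype.val) hx'
      rw [Submodule.coe_sum] at h5
      exact h5
    rw [hx'', Finset.sum_mul]
    apply Finset.sum_eq_zero
    intro i _
    rw [smul_mul_assoc, mul_comm, ha i, smul_zero]
  have hP := genForm_mem_nonZeroDivisors b hsoc'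
  -- the maps
  have key : ∀ N : ℕ, N * Module.finrank K U ≤ (N + r) * Module.finrank K W := by
    intro N
    have hmem : ∀ (Q : Fin N → U) (j : Fin (N + r)),
        (∑ i : Fin r, ∑ l : Fin N, if (i : ℕ) + (l : ℕ) = (j : ℕ) then b i * (Q l : R) else 0) ∈ W := by
      intro Q j
      apply Submodule.sum_mem
      intro i _
      apply Submodule.sum_mem
      intro l _
      split_ifs
      · exact hmul _ (hbV i) _ (Q l).2
      · exact W.zero_mem
    let T : (Fin N → U) →ₗ[K] (Fin (N + r) → W) :=
      { toFun := fun Q j => ⟨_, hmem Q j⟩
        map_add' := by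
          intro Q Q'
          funext j
          apply Subtype.ext
          simp only [Pi.add_apply, Submodule.coe_add]
          rw [← Finset.sum_add_distrib]
          apply Finset.sum_congr rfl
          intro i _
          rw [← Finset.sum_add_distrib]
          apply Finset.sum_congr rfl
          intro l _
          split_ifs
          · rw [mul_add]
          · rw [add_zero]
        map_smul' := by
          intro c Q
          funext j
          apply Subtype.ext
          simp only [Pi.smul_apply, Submodule.coe_smul, RingHom.id_apply]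
          rw [Finset.smul_sum]
          apply Finset.sum_congr rfl
          intro i _
          rw [Finset.smul_sum]
          apply Finset.sum_congr rfl
          intro l _
          split_ifs
          · rw [mul_smul_comm]
          · rw [smul_zero] }
    have hT : Function.Injective T := by
      rw [injective_iff_map_eq_zero]
      intro Q hQ
      have h0 : genForm b * tuplePoly (fun l => (Q l : R)) = 0 := by
        ext j
        rw [coeff_genForm_mul_tuplePoly, coeff_zero]
        by_cases hj : j < N + r
        · have := congrFun hQ ⟨j, hj⟩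
          have h2 := congrArg Subtype.val this
          exact h2
        · apply Finset.sum_eq_zero
          intro i _
          apply Finset.sum_eq_zero
          intro l _
          rw [if_neg]
          have := i.2
          have := l.2
          omega
      have h1 : tuplePoly (fun l => (Q l : R)) = 0 := by
        rw [mul_comm] at h0
        exact (mem_nonZeroDivisors_iff_right.mp hP) _ h0
      funext l
      apply Subtype.ext
      have := coeff_tuplePoly (fun l => (Q l : R)) l
      rw [h1, coeff_zero] at this
      exact this.symm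
    have h2 := LinearMap.finrank_le_finrank_of_injective hT
    rw [Module.finrank_pi_fintype, Module.finrank_pi_fintype] at h2
    simpa using h2
  by_contra hlt
  push Not at hlt
  have h3 := key ((r + 1) * Module.finrank K W + 1)
  have h4 : ((r + 1) * Module.finrank K W + 1) * (Module.finrank K W + 1) ≤
      ((r + 1) * Module.finrank K W + 1) * Module.finrank K U :=
    Nat.mul_le_mul_left _ hlt
  nlinarith

end Groth.Agent.Lib.Helper11.GrHilb
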