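import Groth.Agent.Lib.Helper11.GrHilbA
import Groth.Agent.Lib.Helper11.GrFieldD
import Groth.Agent.Lib.Helper11.GrShiftA
import Groth.Agent.Lib.Helper11.GrLesH
import Groth.Agent.Lib.Helper11.GrLCRes

/-!
# The Hilbert function of a Cohen–Macaulay standard graded ring of positive dimension is
non-decreasing
-/

set_option autoImplicit false
set_option linter.unusedSectionVars false
set_option linter.unusedVariables false
set_option linter.style.haveILetI false
universe u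

namespace Groth.Agent.Lib.Helper11.GrHilb

open DirectSum GrLC Groth.Agent.Lib.Helper11.GrLCLib Groth.Agent.Lib.Helper11.GrField

variable {R : Type u} [CommRing R] {𝒜 : ℤ → AddSubgroup R} [GradedRing 𝒜]

attribute [local instance] subKGradedAlgebra

/-- `R` is nontrivial if its degree-zero part is a field. -/
lemma nontrivial_of_isField_deg0 (h0 : IsField (GrLC.deg0 𝒜)) : Nontrivial R := by
  refine ⟨⟨0, 1, fun h01 => ?_⟩⟩
  have : (0 : GrLC.deg0 𝒜) = 1 := Subtype.ext h01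
  exact h0.nontrivial.exists_pair_ne.elim (fun a ⟨b, hab⟩ => hab (by
    rw [← mul_one a, ← mul_one b, ← this, mul_zero, mul_zero]))

/-- the canonical `IsBase` over the degree-zero field. -/
lemma isBase_deg0 (h0 : IsField (GrLC.deg0 𝒜)) :
    letI : Field (GrLC.deg0 𝒜) := h0.toField
    letI : Algebra (GrLC.deg0 𝒜) R := (GrLC.deg0 𝒜).subtype.toAlgebra
    IsBase 𝒜 (GrLC.deg0 𝒜) := by
  intro x
  constructor
  · intro hx
    exact ⟨⟨x, hx⟩, rfl⟩
  · rintro ⟨c, rfl⟩
    exact c.2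

/-- For a graded ring over a field (in degree zero), Cohen–Macaulay of positive dimension, the
only element killed by the irrelevant ideal is zero. -/
theorem eq_zero_of_irrelevant_mul_eq_zero [LocCoh.IsCohenMacaulayRing R]
    (hpos : ∀ n : ℤ, n < 0 → 𝒜 n = ⊥) (h0 : IsField (GrLC.deg0 𝒜))
    (h1 : 1 ≤ ringKrullDim R) (a : R)
    (ha : ∀ y ∈ (irrelevant 𝒜).toIdeal, y * a = 0) : a = 0 := by
  letI : Field (GrLC.deg0 𝒜) := h0.toField
  letI : Algebra (GrLC.deg0 𝒜) R := (GrLC.deg0 𝒜).subtype.toAlgebra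
  have hk : IsBase 𝒜 (GrLC.deg0 𝒜) := isBase_deg0 h0
  haveI : Nontrivial R := nontrivial_of_isField_deg0 h0
  have hm : IsStarLocal 𝒜 (irrelevant 𝒜) := isStarLocal_irrelevant hk hpos (irrelevant 𝒜) rfl
  have hmax := Groth.Agent.Lib.Helper11.GrLes.isMaximal_of_isCoatom 𝒜 hpos hm.1
  have hht := Groth.Agent.Lib.Helper11.GrLes.ringKrullDim_eq_height 𝒜 hpos hm
  have hht' : ((1 : ℕ) : ℕ∞) ≤ (irrelevant 𝒜).toIdeal.height := by
    rw [hht] at h1
    have : ((1 : ℕ∞) : WithBot ℕ∞) ≤ (((irrelevant 𝒜).toIdeal.height : ℕ∞) : WithBot ℕ∞) := by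
      exact_mod_cast h1
    exact_mod_cast this
  obtain ⟨I⟩ := nonempty_starInjRes 𝒜 𝒜
  have hsub := Groth.Agent.Lib.Helper11.GrLes.subsingleton_H_of_lt_height 𝒜 (irrelevant 𝒜) hmax I 1
    hht' 0 (by omega)
  have hmem : a ∈ gam (irrelevant 𝒜).toIdeal R := by
    refine ⟨1, fun r hr => ?_⟩
    rw [pow_one] at hr
    exact ha r hr
  have := Groth.Agent.Lib.Helper11.GrShift.h0_injective I (irrelevant 𝒜)
    (hsub.elim (Groth.Agent.Lib.Helper11.GrShift.h0 I (irrelevant 𝒜) ⟨a, hmem⟩)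
      (Groth.Agent.Lib.Helper11.GrShift.h0 I (irrelevant 𝒜) 0))
  exact congrArg Subtype.val this

/-- **Hilbert function is non-decreasing** for a standard graded Cohen–Macaulay ring over a field
of positive dimension. -/
theorem finrank_comp_le_succ [LocCoh.IsCohenMacaulayRing R]
    (hpos : ∀ n : ℤ, n < 0 → 𝒜 n = ⊥) (h0 : IsField (GrLC.deg0 𝒜))
    (hstd : Ideal.span (⋃ n ∈ Set.Ioi (0 : ℤ), (𝒜 n : Set R)) =
      Ideal.span ((𝒜 1 : AddSubgroup R) : Set R))
    (h1 : 1 ≤ ringKrullDim R) (n : ℤ) :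
    Module.finrank (GrLC.deg0 𝒜) (GrLC.comp 𝒜 𝒜 n) ≤
      Module.finrank (GrLC.deg0 𝒜) (GrLC.comp 𝒜 𝒜 (n + 1)) := by
  letI : Field (GrLC.deg0 𝒜) := h0.toField
  letI : Algebra (GrLC.deg0 𝒜) R := (GrLC.deg0 𝒜).subtype.toAlgebra
  have hk : IsBase 𝒜 (GrLC.deg0 𝒜) := isBase_deg0 h0
  haveI : Nontrivial R := nontrivial_of_isField_deg0 h0
  haveI : IsNoetherianRing R := inferInstance
  haveI : SetLike.GradedSMul (subK hk) 𝒜 := gradedSMul_K hk 𝒜
  have hfin : ∀ j, Module.Finite (GrLC.deg0 𝒜) ↥(GrLC.comp 𝒜 𝒜 j) := by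
    intro j
    have := Groth.Agent.Lib.Helper11.GrDual.finite_compK_of_isNoetherian (subK hk) 𝒜
      (subK_neg hk hpos) (subK_zero hk) j
    exact this
  haveI := hfin 1
  haveI := hfin n
  haveI := hfin (n + 1)
  apply finrank_le_of_socle_free (GrLC.comp 𝒜 𝒜 1) (GrLC.comp 𝒜 𝒜 n) (GrLC.comp 𝒜 𝒜 (n + 1))
  · intro x hx y hy
    have := SetLike.GradedMul.mul_mem (A := 𝒜) hx hy
    rw [add_comm] at this
    exact this
  · intro a ha
    apply eq_zero_of_irrelevant_mul_eq_zero hpos h0 h1 a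
    intro y hy
    rw [irrelevant_toIdeal, hstd] at hy
    refine Submodule.span_induction ?_ ?_ ?_ ?_ hy
    · intro x hx
      exact ha x hx
    · rw [zero_mul]
    · intro x y _ _ hx hy
      rw [add_mul, hx, hy, add_zero]
    · intro c x _ hx
      rw [smul_eq_mul, mul_assoc, hx, mul_zero]

end Groth.Agent.Lib.Helper11.GrHilb
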