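import Groth.Agent.Lib.Helper11.GrSegB

/-!
# The pieces `M_i ⊗ N_j` of the bigrading: dimension and vanishing
-/

set_option autoImplicit false
set_option linter.unusedSectionVars false
set_option linter.unusedVariables false
set_option linter.style.haveILetI false
universe u

open scoped TensorProduct

namespace Groth.Agent.Lib.Helper11.Seg

open DirectSum

section

variable {k : Type u} [Field k]
variable {M N : Type u} [AddCommGroup M] [Module k M] [AddCommGroup N] [Module k N]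

lemma tmul_ne_zero_of_ne_zero {a : M} {b : N} (ha : a ≠ 0) (hb : b ≠ 0) :
    (a ⊗ₜ[k] b : M ⊗[k] N) ≠ 0 := by
  have h1 : Function.Injective (LinearMap.toSpanSingleton k M a) := by
    intro c d hcd
    simp only [LinearMap.toSpanSingleton_apply] at hcd
    exact smul_left_injective k ha hcd
  have h2 : Function.Injective (LinearMap.toSpanSingleton k N b) := by
    intro c d hcd
    simp only [LinearMap.toSpanSingleton_apply] at hcd
    exact smul_left_injective k hb hcd
  obtain ⟨g, hg⟩ := LinearMap.exists_leftInverse_of_injective _ (LinearMap.ker_eq_bot.mpr h1)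
  obtain ⟨h, hh⟩ := LinearMap.exists_leftInverse_of_injective _ (LinearMap.ker_eq_bot.mpr h2)
  have hga : g a = 1 := by
    have := LinearMap.congr_fun hg 1
    simpa using this
  have hhb : h b = 1 := by
    have := LinearMap.congr_fun hh 1
    simpa using this
  intro hab
  have h3 : TensorProduct.lid k k (TensorProduct.map g h (a ⊗ₜ[k] b)) = 0 := by
    rw [hab, map_zero, map_zero]
  rw [TensorProduct.map_tmul, TensorProduct.lid_tmul, hga, hhb, one_smul] at h3
  exact one_ne_zero h3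

variable (ℳ : ℤ → AddSubgroup M) (𝒩 : ℤ → AddSubgroup N) [IsKGr k ℳ] [IsKGr k 𝒩]

lemma biGr_eq_bot_iff (p : ℤ × ℤ) :
    biGr (k := k) ℳ 𝒩 p = ⊥ ↔ ℳ p.1 = ⊥ ∨ 𝒩 p.2 = ⊥ := by
  constructor
  · intro h
    by_contra hcon
    push Not at hcon
    obtain ⟨h1, h2⟩ := hcon
    obtain ⟨a, ha, ha0⟩ := (AddSubgroup.ne_bot_iff_exists_ne_zero).mp h1 |> fun ⟨x, hx⟩ =>
      (⟨(x : M), x.2, fun h0 => hx (Subtype.ext h0)⟩ : ∃ a : M, a ∈ ℳ p.1 ∧ a ≠ 0)
    obtain ⟨b, hb, hb0⟩ := (AddSubgroup.ne_bot_iff_exists_ne_zero).mp h2 |> fun ⟨x, hx⟩ =>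
      (⟨(x : N), x.2, fun h0 => hx (Subtype.ext h0)⟩ : ∃ b : N, b ∈ 𝒩 p.2 ∧ b ≠ 0)
    have hab : (a ⊗ₜ[k] b : M ⊗[k] N) ∈ biGr (k := k) ℳ 𝒩 p := tmul_mem_biGr ℳ 𝒩 ha hb
    rw [h, AddSubgroup.mem_bot] at hab
    exact tmul_ne_zero_of_ne_zero ha0 hb0 hab
  · intro h
    rw [eq_bot_iff]
    intro x hx
    rw [AddSubgroup.mem_bot]
    induction hx using Submodule.span_induction with
    | mem x hx' =>
      obtain ⟨a, ha, b, hb, rfl⟩ := hx'
      rcases h with h | h
      · rw [h, AddSubgroup.mem_bot] at ha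
        rw [ha, TensorProduct.zero_tmul]
      · rw [h, AddSubgroup.mem_bot] at hb
        rw [hb, TensorProduct.tmul_zero]
    | zero => rfl
    | add x y _ _ hx hy => rw [hx, hy, add_zero]
    | smul c x _ hx => rw [hx, smul_zero]

/-- the piece `M_i ⊗ N_j` as a tensor product of subspaces. -/
noncomputable def biSubEquiv (p : ℤ × ℤ) :
    (subK k ℳ p.1) ⊗[k] (subK k 𝒩 p.2) ≃ₗ[k] biSub (k := k) ℳ 𝒩 p := by
  have hinj : Function.Injective (TensorProduct.mapIncl (subK k ℳ p.1) (subK k 𝒩 p.2)) :=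
    TensorProduct.map_injective_of_flat_flat _ _ (Submodule.injective_subtype _)
      (Submodule.injective_subtype _)
  have hrange : LinearMap.range (TensorProduct.mapIncl (subK k ℳ p.1) (subK k 𝒩 p.2)) =
      biSub (k := k) ℳ 𝒩 p := by
    rw [TensorProduct.mapIncl, TensorProduct.range_map_eq_span_tmul]
    unfold biSub
    congr 1
    ext t
    constructor
    · rintro ⟨a, b, rfl⟩
      exact ⟨a, a.2, b, b.2, rfl⟩
    · rintro ⟨a, ha, b, hb, rfl⟩
      exact ⟨⟨a, ha⟩, ⟨b, hb⟩, rfl⟩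
  exact (LinearEquiv.ofInjective _ hinj).trans (LinearEquiv.ofEq _ _ hrange)

theorem finrank_biSub (p : ℤ × ℤ) :
    Module.finrank k (biSub (k := k) ℳ 𝒩 p) =
      Module.finrank k (subK k ℳ p.1) * Module.finrank k (subK k 𝒩 p.2) := by
  rw [← (biSubEquiv ℳ 𝒩 p).finrank_eq, Module.finrank_tensorProduct]

end

end Groth.Agent.Lib.Helper11.Seg
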