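import Groth.Agent.Lib.Helper11.GrMVC
import Groth.Agent.Lib.Helper11.GrLesG
import Groth.Agent.Lib.Helper11.GrShiftA

/-!
# Consequences of the graded Mayer–Vietoris sequence
-/

set_option autoImplicit false
set_option linter.unusedSectionVars false
set_option linter.unusedVariables false
set_option linter.style.haveILetI false
universe u

namespace Groth.Agent.Lib.Helper11.GrMV

open DirectSum GrLC Groth.Agent.Lib.Helper11.GrLCLib Groth.Agent.Lib.Helper11.GrLes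

variable {ι : Type} [DecidableEq ι] [AddCommGroup ι]
variable {R : Type u} [CommRing R] [IsNoetherianRing R] {𝒜 : ι → AddSubgroup R} [GradedRing 𝒜]
variable {M : Type u} [AddCommGroup M] [Module R M] {ℳ : ι → AddSubgroup M}
  [DirectSum.Decomposition ℳ] [SetLike.GradedSMul 𝒜 ℳ]
variable (E : StarInjRes 𝒜 ℳ) (a b : HomogeneousIdeal 𝒜)

lemma mvβ_apply (q : ℕ) (x : E.H a q) (y : E.H b q) :
    mvβ E a b q (x, y) = cmpH E (inf_le_left : a ⊓ b ≤ a) q x -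
      cmpH E (inf_le_right : a ⊓ b ≤ b) q y := rfl

/-- `β` is injective when `H^q_{a+b}` vanishes. -/
theorem mvβ_injective (q : ℕ) (hs : Subsingleton (E.H (a ⊔ b) q)) :
    Function.Injective (mvβ E a b q) := by
  rw [injective_iff_map_eq_zero]
  intro x hx
  have h1 : x ∈ LinearMap.range (mvα E a b q) := by
    rw [← ker_mvβ]; exact hx
  obtain ⟨w, rfl⟩ := h1
  rw [hs.elim w 0, map_zero]

/-- `β` is surjective when `H^{q+1}_{a+b}` vanishes. -/
theorem mvβ_surjective (q : ℕ) (hs' : Subsingleton (E.H (a ⊔ b) (q + 1))) :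
    Function.Surjective (mvβ E a b q) := by
  intro z
  have h1 : z ∈ LinearMap.ker (mvδ E a b q) := hs'.elim _ _
  rw [ker_mvδ] at h1
  exact h1

/-- `β` as an equivalence. -/
noncomputable def mvβEquiv (q : ℕ) (hs : Subsingleton (E.H (a ⊔ b) q))
    (hs' : Subsingleton (E.H (a ⊔ b) (q + 1))) : (E.H a q × E.H b q) ≃ₗ[R] E.H (a ⊓ b) q :=
  LinearEquiv.ofBijective (mvβ E a b q) ⟨mvβ_injective E a b q hs, mvβ_surjective E a b q hs'⟩

lemma mvβEquiv_apply (q : ℕ) (hs : Subsingleton (E.H (a ⊔ b) q))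
    (hs' : Subsingleton (E.H (a ⊔ b) (q + 1))) (x : E.H a q × E.H b q) :
    mvβEquiv E a b q hs hs' x = mvβ E a b q x := rfl

/-- homogeneous classes of `H^q_{a ∩ b}` come from homogeneous pairs. -/
theorem exists_mvβ_eq (q : ℕ) (hs : Subsingleton (E.H (a ⊔ b) q))
    (hs' : Subsingleton (E.H (a ⊔ b) (q + 1))) {g : ι} {z : E.H (a ⊓ b) q}
    (hz : z ∈ E.Hcomp (a ⊓ b) q g) :
    ∃ x ∈ E.Hcomp a q g, ∃ y ∈ E.Hcomp b q g, mvβ E a b q (x, y) = z := by
  letI := (Hgr_isInternal 𝒜 ℳ E a q).chooseDecomposition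
  letI := (Hgr_isInternal 𝒜 ℳ E b q).chooseDecomposition
  letI := (Hgr_isInternal 𝒜 ℳ E (a ⊓ b) q).chooseDecomposition
  letI := prodDecomposition (E.Hgr a q) (E.Hgr b q)
  have h1 : IsGrHom (prodGr (E.Hgr a q) (E.Hgr b q)) (E.Hgr (a ⊓ b) q)
      (mvβEquiv E a b q hs hs').toLinearMap := by
    rintro j ⟨x, y⟩ ⟨hx, hy⟩
    exact mvβ_mem E a b q hx hy
  have h2 := Groth.Agent.Lib.Helper11.GrLes.isGrHom_symm (mvβEquiv E a b q hs hs') h1 g z hz
  refine ⟨((mvβEquiv E a b q hs hs').symm z).1, h2.1, ((mvβEquiv E a b q hs hs').symm z).2, h2.2, ?_⟩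
  exact (mvβEquiv E a b q hs hs').apply_symm_apply z

/-- the homogeneous pieces of `H^q_{a ∩ b}` vanish iff those of `H^q_a` and `H^q_b` do. -/
theorem Hcomp_inf_eq_bot_iff (q : ℕ) (hs : Subsingleton (E.H (a ⊔ b) q))
    (hs' : Subsingleton (E.H (a ⊔ b) (q + 1))) (g : ι) :
    E.Hcomp (a ⊓ b) q g = ⊥ ↔ E.Hcomp a q g = ⊥ ∧ E.Hcomp b q g = ⊥ := by
  constructor
  · intro h
    constructor
    · rw [eq_bot_iff]
      intro x hx
      have h1 : mvβ E a b q (x, 0) ∈ E.Hcomp (a ⊓ b) q g := mvβ_mem E a b q hx (zero_mem _)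
      rw [h, Submodule.mem_bot] at h1
      have h2 := mvβ_injective E a b q hs (h1.trans (map_zero _).symm)
      exact (Submodule.mem_bot _).mpr (congrArg Prod.fst h2)
    · rw [eq_bot_iff]
      intro y hy
      have h1 : mvβ E a b q (0, y) ∈ E.Hcomp (a ⊓ b) q g := mvβ_mem E a b q (zero_mem _) hy
      rw [h, Submodule.mem_bot] at h1
      have h2 := mvβ_injective E a b q hs (h1.trans (map_zero _).symm)
      exact (Submodule.mem_bot _).mpr (congrArg Prod.snd h2)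
  · rintro ⟨ha, hb⟩
    rw [eq_bot_iff]
    intro z hz
    obtain ⟨x, hx, y, hy, rfl⟩ := exists_mvβ_eq E a b q hs hs' hz
    rw [ha, Submodule.mem_bot] at hx
    rw [hb, Submodule.mem_bot] at hy
    rw [hx, hy]
    exact (Submodule.mem_bot _).mpr (map_zero _)

/-- When `H^q_b`, `H^q_{a+b}` and `H^{q+1}_{a+b}` vanish, `H^q_a ≅ H^q_{a ∩ b}`. -/
theorem exists_equiv_inf_left (q : ℕ) (hb : Subsingleton (E.H b q))
    (hs : Subsingleton (E.H (a ⊔ b) q)) (hs' : Subsingleton (E.H (a ⊔ b) (q + 1))) :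
    ∃ e : E.H a q ≃ₗ[R] E.H (a ⊓ b) q,
      (∀ g x, x ∈ E.Hcomp a q g → e x ∈ E.Hcomp (a ⊓ b) q g) ∧
      (∀ g y, y ∈ E.Hcomp (a ⊓ b) q g → e.symm y ∈ E.Hcomp a q g) := by
  have hinj : Function.Injective (cmpH E (inf_le_left : a ⊓ b ≤ a) q) := by
    rw [injective_iff_map_eq_zero]
    intro x hx
    have h1 : mvβ E a b q (x, 0) = 0 := by rw [mvβ_apply, hx, map_zero, sub_zero]
    have h2 := mvβ_injective E a b q hs (h1.trans (map_zero _).symm)
    exact congrArg Prod.fst h2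
  have hsurj : Function.Surjective (cmpH E (inf_le_left : a ⊓ b ≤ a) q) := by
    intro z
    obtain ⟨⟨x, y⟩, hxy⟩ := mvβ_surjective E a b q hs' z
    refine ⟨x, ?_⟩
    rw [mvβ_apply, hb.elim y 0, map_zero, sub_zero] at hxy
    exact hxy
  let e := LinearEquiv.ofBijective (cmpH E (inf_le_left : a ⊓ b ≤ a) q) ⟨hinj, hsurj⟩
  have he : ∀ g x, x ∈ E.Hcomp a q g → e x ∈ E.Hcomp (a ⊓ b) q g :=
    fun g x hx => cmpH_mem E (inf_le_left : a ⊓ b ≤ a) q hx
  refine ⟨e, he, ?_⟩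
  letI := (Hgr_isInternal 𝒜 ℳ E a q).chooseDecomposition
  letI := (Hgr_isInternal 𝒜 ℳ E (a ⊓ b) q).chooseDecomposition
  have h1 : IsGrHom (E.Hgr a q) (E.Hgr (a ⊓ b) q) e.toLinearMap := fun g x hx => he g x hx
  exact Groth.Agent.Lib.Helper11.GrLes.isGrHom_symm e h1

/-- When `H^q` and `H^{q+1}` of `a` and `b` vanish, `H^q_{a ∩ b} ≅ H^{q+1}_{a+b}`. -/
theorem exists_equiv_delta (q : ℕ) (ha : Subsingleton (E.H a q)) (hb : Subsingleton (E.H b q))
    (ha' : Subsingleton (E.H a (q + 1))) (hb' : Subsingleton (E.H b (q + 1))) :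
    ∃ e : E.H (a ⊓ b) q ≃ₗ[R] E.H (a ⊔ b) (q + 1),
      (∀ g x, x ∈ E.Hcomp (a ⊓ b) q g → e x ∈ E.Hcomp (a ⊔ b) (q + 1) g) ∧
      (∀ g y, y ∈ E.Hcomp (a ⊔ b) (q + 1) g → e.symm y ∈ E.Hcomp (a ⊓ b) q g) := by
  have hinj : Function.Injective (mvδ E a b q) := by
    rw [injective_iff_map_eq_zero]
    intro z hz
    have h1 : z ∈ LinearMap.range (mvβ E a b q) := by
      rw [← ker_mvδ]; exact hz
    obtain ⟨⟨x, y⟩, rfl⟩ := h1
    rw [ha.elim x 0, hb.elim y 0]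
    exact map_zero _
  have hsurj : Function.Surjective (mvδ E a b q) := by
    intro w
    have h1 : w ∈ LinearMap.ker (mvα E a b (q + 1)) :=
      Prod.ext (ha'.elim _ _) (hb'.elim _ _)
    rw [ker_mvα_succ] at h1
    exact h1
  let e := LinearEquiv.ofBijective (mvδ E a b q) ⟨hinj, hsurj⟩
  have he : ∀ g x, x ∈ E.Hcomp (a ⊓ b) q g → e x ∈ E.Hcomp (a ⊔ b) (q + 1) g :=
    fun g x hx => mvδ_mem E a b q hx
  refine ⟨e, he, ?_⟩
  letI := (Hgr_isInternal 𝒜 ℳ E (a ⊓ b) q).chooseDecomposition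
  letI := (Hgr_isInternal 𝒜 ℳ E (a ⊔ b) (q + 1)).chooseDecomposition
  have h1 : IsGrHom (E.Hgr (a ⊓ b) q) (E.Hgr (a ⊔ b) (q + 1)) e.toLinearMap :=
    fun g x hx => he g x hx
  exact Groth.Agent.Lib.Helper11.GrLes.isGrHom_symm e h1

/-- vanishing of `H^q_{a ∩ b}` from the sequence. -/
theorem subsingleton_H_inf (q : ℕ) (ha : Subsingleton (E.H a q)) (hb : Subsingleton (E.H b q))
    (hs' : Subsingleton (E.H (a ⊔ b) (q + 1))) : Subsingleton (E.H (a ⊓ b) q) := by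
  refine ⟨fun z w => ?_⟩
  obtain ⟨⟨x, y⟩, rfl⟩ := mvβ_surjective E a b q hs' z
  obtain ⟨⟨x', y'⟩, rfl⟩ := mvβ_surjective E a b q hs' w
  rw [ha.elim x x', hb.elim y y']

end Groth.Agent.Lib.Helper11.GrMV
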