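import Groth.Agent.Lib.Helper11.GrSegK

/-!
# Base change for graded local cohomology: the inductive step and the theorem
-/

set_option autoImplicit false
set_option linter.unusedSectionVars false
set_option linter.unusedVariables false
set_option linter.style.haveILetI false
set_option maxHeartbeats 1000000
universe u

open scoped TensorProduct

namespace Groth.Agent.Lib.Helper11.Seg

open DirectSum GrLC Groth.Agent.Lib.Helper11.GrLCLib Groth.Agent.Lib.Helper11.GrLes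
  Groth.Agent.Lib.Helper11.GrShift

section BC

variable {k : Type u} [Field k] {R S : Type u} [CommRing R] [CommRing S] [Algebra k R]
  [Algebra k S]
variable (𝒜 : ℤ → AddSubgroup R) [GradedRing 𝒜] (ℬ : ℤ → AddSubgroup S) [GradedRing ℬ]
  [IsKAlgGr k 𝒜] [IsKAlgGr k ℬ]
variable {N : Type u} [AddCommGroup N] [Module S N] [Module k N] [IsScalarTower k S N]
  (𝒩 : ℤ → AddSubgroup N) [DirectSum.Decomposition 𝒩] [SetLike.GradedSMul ℬ 𝒩] [IsKGr k 𝒩]
variable {M : Type u} [AddCommGroup M] [Module R M] [Module k M] [IsScalarTower k R M]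
  (ℳ : ℤ → AddSubgroup M) [DirectSum.Decomposition ℳ] [SetLike.GradedSMul 𝒜 ℳ] [IsKGr k ℳ]

theorem bc_step [IsNoetherianRing R] [IsNoetherianRing (R ⊗[k] S)] (m : HomogeneousIdeal 𝒜)
    (EM : StarInjRes 𝒜 ℳ) (EX : StarInjRes (biGr (k := k) 𝒜 ℬ) (biGr (k := k) ℳ 𝒩)) :
    (∀ [Module k (EM.H m 1)] [IsScalarTower k R (EM.H m 1)],
      BCfor (k := k) 𝒜 ℬ 𝒩 m 1 ℳ EM EX) ∧
    ∀ p, BC (k := k) 𝒜 ℬ 𝒩 m (p + 1) →
      ∀ [Module k (EM.H m (p + 2))] [IsScalarTower k R (EM.H m (p + 2))],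
        BCfor (k := k) 𝒜 ℬ 𝒩 m (p + 2) ℳ EM EX := by
  -- the short exact sequence `0 → M → X⁰ → Z¹ → 0`
  have hmem : ∀ x, EM.d 0 x ∈ LinearMap.ker (EM.d 1) :=
    fun x => LinearMap.mem_ker.mpr (ConeData.d_d_apply EM 0 x)
  let v : (EM.X 0).carrier →ₗ[R] (Z1 EM).carrier :=
    LinearMap.codRestrict (LinearMap.ker (EM.d 1)) (EM.d 0) hmem
  have hv : IsGrHom (EM.X 0).gr (Z1 EM).gr v := fun j x hx => EM.d_grHom 0 j x hx
  have hvs : Function.Surjective v := by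
    rintro ⟨y, hy⟩
    rw [EM.exact_succ 0] at hy
    obtain ⟨x, rfl⟩ := hy
    exact ⟨x, rfl⟩
  have hex : LinearMap.ker v = LinearMap.range EM.ε := by
    rw [← EM.exact_zero]
    exact LinearMap.ker_codRestrict (LinearMap.ker (EM.d 1)) (EM.d 0) hmem
  -- `k`-structures
  letI : Module k (EM.X 0).carrier := Module.compHom _ (algebraMap k R)
  haveI : IsScalarTower k R (EM.X 0).carrier := IsScalarTower.of_algebraMap_smul (fun r x => rfl)
  letI : Module k (Z1 EM).carrier := Module.compHom _ (algebraMap k R)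
  haveI : IsScalarTower k R (Z1 EM).carrier := IsScalarTower.of_algebraMap_smul (fun r x => rfl)
  haveI : IsKGr k (EM.X 0).gr := isKGr_of_gradedSMul 𝒜 _
  haveI : IsKGr k (Z1 EM).gr := isKGr_of_gradedSMul 𝒜 _
  -- resolutions
  obtain ⟨GA⟩ := nonempty_starInjRes 𝒜 (EM.X 0).gr
  obtain ⟨GAN⟩ := nonempty_starInjRes (biGr (k := k) 𝒜 ℬ) (biGr (k := k) (EM.X 0).gr 𝒩)
  obtain ⟨GZN⟩ := nonempty_starInjRes (biGr (k := k) 𝒜 ℬ) (biGr (k := k) (Z1 EM).gr 𝒩)
  have hacR : ∀ p, Subsingleton (GA.H m (p + 1)) :=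
    fun p => subsingleton_H_of_isStarInj' (EM.starInj 0) GA m p
  have hacA : ∀ p, Subsingleton (GAN.H (extL (k := k) 𝒜 ℬ m) (p + 1)) :=
    fun p => subsingleton_H_extL 𝒜 ℬ (EM.X 0).gr 𝒩 (EM.starInj 0) m GAN p
  obtain ⟨hshift, σ, hσs, hσk, hσg, hσg'⟩ := exists_shift EM GA (tailRes EM) EM.ε v EM.ε_grHom hv
    EM.ε_injective hvs hex m hacR
  obtain ⟨hshift', σ', hσ's, hσ'k, hσ'g, hσ'g'⟩ := exists_shift EX GAN GZN
    (mapL (k := k) (S := S) N EM.ε) (mapL (k := k) (S := S) N v)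
    (mapL_isGrHom EM.ε_grHom) (mapL_isGrHom hv) (mapL_injective EM.ε_injective)
    (mapL_surjective hvs) (mapL_exact hex hvs) (extL (k := k) 𝒜 ℬ m) hacA
  constructor
  · intro _ _
    -- restriction of `v` to torsion
    let vΓ : ↥(gam m.toIdeal (EM.X 0).carrier) →ₗ[R] ↥(gam m.toIdeal (Z1 EM).carrier) :=
      LinearMap.codRestrict _ (v ∘ₗ (gam m.toIdeal (EM.X 0).carrier).subtype)
        (fun x => map_mem_gam v m.toIdeal x.2)
    have hkerσ : LinearMap.ker σ = LinearMap.range vΓ := by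
      ext z
      rw [LinearMap.mem_ker, hσk]
      constructor
      · rintro ⟨x, hx⟩
        exact ⟨x, Subtype.ext hx⟩
      · rintro ⟨x, rfl⟩
        exact ⟨x, rfl⟩
    let e2Z := gamTensorEquiv (k := k) (S := S) (M := (Z1 EM).carrier) N m.toIdeal
    let e2X := gamTensorEquiv (k := k) (S := S) (M := (EM.X 0).carrier) N m.toIdeal
    let Sg : ↥(gam m.toIdeal (Z1 EM).carrier) ⊗[k] N →ₗ[R ⊗[k] S] (EM.H m 1) ⊗[k] N :=
      mapL (k := k) (S := S) N σ
    let Ψ : ↥(gam m.toIdeal (Z1 EM).carrier) ⊗[k] N →ₗ[R ⊗[k] S]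
        EX.H (extL (k := k) 𝒜 ℬ m) 1 := σ' ∘ₗ e2Z.toLinearMap
    have hSgs : Function.Surjective Sg := mapL_surjective hσs
    have hΨs : Function.Surjective Ψ := hσ's.comp e2Z.surjective
    have hkerSg : LinearMap.ker Sg = LinearMap.range (mapL (k := k) (S := S) N vΓ) :=
      mapL_exact hkerσ hσs
    have hcomp : (gam m.toIdeal (Z1 EM).carrier).subtype ∘ₗ vΓ =
        v ∘ₗ (gam m.toIdeal (EM.X 0).carrier).subtype := rfl
    have hkerΨ : LinearMap.ker Ψ = LinearMap.range (mapL (k := k) (S := S) N vΓ) := by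
      ext w
      constructor
      · intro hw
        have h1 : σ' (e2Z w) = 0 := hw
        obtain ⟨x', hx'⟩ := (hσ'k _).mp h1
        obtain ⟨w', hw'⟩ := e2X.surjective x'
        refine ⟨w', ?_⟩
        apply mapL_injective (k := k) (S := S) (N := N)
          (Submodule.injective_subtype (gam m.toIdeal (Z1 EM).carrier))
        rw [mapL_comp_apply, hcomp, ← mapL_comp_apply]
        have h2 : mapL (k := k) (S := S) N (gam m.toIdeal (EM.X 0).carrier).subtype w' =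
            (x' : (EM.X 0).carrier ⊗[k] N) := by
          rw [← hw']; rfl
        rw [h2, hx']
        rfl
      · rintro ⟨w', rfl⟩
        change σ' (e2Z (mapL (k := k) (S := S) N vΓ w')) = 0
        rw [hσ'k]
        refine ⟨e2X w', ?_⟩
        change mapL (k := k) (S := S) N v
          (mapL (k := k) (S := S) N (gam m.toIdeal (EM.X 0).carrier).subtype w') =
          mapL (k := k) (S := S) N (gam m.toIdeal (Z1 EM).carrier).subtype
            (mapL (k := k) (S := S) N vΓ w')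
        rw [mapL_comp_apply, mapL_comp_apply, hcomp]
    obtain ⟨Φ, hΦ⟩ := exists_equiv_of_surjective_of_ker_eq Sg Ψ hSgs hΨs (hkerSg.trans hkerΨ.symm)
    refine ⟨Φ, ?_, ?_⟩
    · apply map_biGr_mem_of_tmul (EM.Hgr m 1) 𝒩 (EX.Hgr (extL (k := k) 𝒜 ℬ m) 1)
        (Φ : _ →ₗ[R ⊗[k] S] _)
        (fun p c y hy => Hgr_algebraMap_smul_mem 𝒜 ℬ EX _ 1 p c y hy)
      intro d e a b ha hb
      obtain ⟨z, hz, rfl⟩ := hσg' d a ha
      have h1 : (σ z) ⊗ₜ[k] b = Sg (z ⊗ₜ[k] b) := rfl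
      change Φ ((σ z) ⊗ₜ[k] b) ∈ _
      rw [h1, hΦ]
      apply hσ'g (d, e)
      change (gamTensorEquiv (k := k) (S := S) N m.toIdeal (z ⊗ₜ[k] b) :
        (Z1 EM).carrier ⊗[k] N) ∈ _
      rw [gamTensorEquiv_coe, mapA_tmul]
      exact tmul_mem_biGr (Z1 EM).gr 𝒩 hz hb
    · intro p y hy
      obtain ⟨z', hz', rfl⟩ := hσ'g' p y hy
      obtain ⟨w, hw, hwz⟩ := exists_gamTensorEquiv_eq 𝒜 (Z1 EM).gr 𝒩 m z' hz'
      refine ⟨Sg w, ?_, ?_⟩
      · exact mapL_isGrHom (fun j z hz => hσg j z hz) p w hw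
      · rw [hΦ]
        change σ' (e2Z w) = σ' z'
        rw [show e2Z w = z' from hwz]
  · intro p IH _ _
    obtain ⟨e, he1, he2⟩ := hshift p
    obtain ⟨e', he'1, he'2⟩ := hshift' p
    letI : Module k ((tailRes EM).H m (p + 1)) := Module.compHom _ (algebraMap k R)
    haveI : IsScalarTower k R ((tailRes EM).H m (p + 1)) :=
      IsScalarTower.of_algebraMap_smul (fun r x => rfl)
    obtain ⟨ΦZ, hΦZ1, hΦZ2⟩ := IH (Z1 EM).carrier (Z1 EM).gr (tailRes EM) GZN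
    refine ⟨(congrA (k := k) (S := S) N e.symm) ≪≫ₗ ΦZ ≪≫ₗ e', ?_, ?_⟩
    · apply map_biGr_mem_of_tmul (EM.Hgr m (p + 2)) 𝒩 (EX.Hgr (extL (k := k) 𝒜 ℬ m) (p + 2))
        (((congrA (k := k) (S := S) N e.symm) ≪≫ₗ ΦZ ≪≫ₗ e' : _ ≃ₗ[R ⊗[k] S] _) :
          _ →ₗ[R ⊗[k] S] _)
        (fun p₁ c y hy => Hgr_algebraMap_smul_mem 𝒜 ℬ EX _ (p + 2) p₁ c y hy)
      intro d e₀ a b ha hb
      change e' (ΦZ (congrA (k := k) (S := S) N e.symm (a ⊗ₜ[k] b))) ∈ _
      rw [congrA_apply, mapA_tmul]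
      apply he'1
      apply hΦZ1
      exact tmul_mem_biGr _ 𝒩 (he2 d a ha) hb
    · intro p₀ y hy
      obtain ⟨x, hx, hxy⟩ := hΦZ2 p₀ (e'.symm y) (he'2 p₀ y hy)
      refine ⟨congrA (k := k) (S := S) N e x, ?_, ?_⟩
      · rw [congrA_apply]
        exact mapL_isGrHom (fun j z hz => he1 j z hz) p₀ x hx
      · change e' (ΦZ (congrA (k := k) (S := S) N e.symm (congrA (k := k) (S := S) N e x))) = y
        rw [congrA_apply, congrA_apply, mapL_comp_apply]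
        have : e.symm.toLinearMap ∘ₗ e.toLinearMap = LinearMap.id := by ext; simp
        rw [this, mapL_id_apply, hxy, LinearEquiv.apply_symm_apply]

/-- **Base change**: `H^q_{mA}(M ⊗ N) ≅ H^q_m(M) ⊗ N` as graded `R ⊗ S`-modules. -/
theorem bc_all [IsNoetherianRing R] [IsNoetherianRing (R ⊗[k] S)] (m : HomogeneousIdeal 𝒜) :
    ∀ q, BC (k := k) 𝒜 ℬ 𝒩 m q
  | 0 => bc_zero 𝒜 ℬ 𝒩 m
  | 1 => fun M _ _ _ _ ℳ _ _ _ EM EX _ _ => (bc_step 𝒜 ℬ 𝒩 ℳ m EM EX).1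
  | p + 2 => fun M _ _ _ _ ℳ _ _ _ EM EX _ _ =>
    (bc_step 𝒜 ℬ 𝒩 ℳ m EM EX).2 p (bc_all m (p + 1))

end BC

end Groth.Agent.Lib.Helper11.Seg
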