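import Groth.Agent.Lib.Helper11.GrSwapA
import Groth.Agent.Lib.Helper11.GrSegL

/-!
# Base change for the right factor: `H^q_{nA}(M ⊗ N) ≅ M ⊗ H^q_n(N)`
-/

set_option autoImplicit false
set_option linter.unusedSectionVars false
set_option linter.unusedVariables false
set_option linter.style.haveILetI false
set_option maxHeartbeats 1000000
universe u

open scoped TensorProduct

namespace Groth.Agent.Lib.Helper11.Seg

open DirectSum GrLC Groth.Agent.Lib.Helper11.GrLCLib Groth.Agent.Lib.Helper11.GrVer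

section

variable {k : Type u} [Field k] {R S : Type u} [CommRing R] [CommRing S] [Algebra k R]
  [Algebra k S]
variable (𝒜 : ℤ → AddSubgroup R) [GradedRing 𝒜] (ℬ : ℤ → AddSubgroup S) [GradedRing ℬ]
  [IsKAlgGr k 𝒜] [IsKAlgGr k ℬ]
variable {M N : Type u} [AddCommGroup M] [Module R M] [Module k M] [IsScalarTower k R M]
  [AddCommGroup N] [Module S N] [Module k N] [IsScalarTower k S N]
variable (ℳ : ℤ → AddSubgroup M) [DirectSum.Decomposition ℳ] [SetLike.GradedSMul 𝒜 ℳ] [IsKGr k ℳ]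
  (𝒩 : ℤ → AddSubgroup N) [DirectSum.Decomposition 𝒩] [SetLike.GradedSMul ℬ 𝒩] [IsKGr k 𝒩]

lemma swapRing_swapRing (a : R ⊗[k] S) :
    swapRing (k := k) (R := R) (S := S) (swapRing (k := k) (R := S) (S := R) a) = a := by
  rw [swapRing_apply, swapRing_apply, ← TensorProduct.comm_symm, LinearEquiv.symm_apply_apply]

/-- the swap comparison is surjective. -/
lemma surjective_of_cmp {ι ι' : Type} [DecidableEq ι] [AddCommGroup ι] [DecidableEq ι']
    [AddCommGroup ι'] {A A' : Type u} [CommRing A] [CommRing A'] {𝒜₁ : ι → AddSubgroup A}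
    [GradedRing 𝒜₁] {𝒜₂ : ι' → AddSubgroup A'} [GradedRing 𝒜₂] {σ : A' →+* A} {ψ : ι' →+ ι}
    (hψ : Function.Surjective ψ)
    {X X' : Type u} [AddCommGroup X] [Module A X] [AddCommGroup X'] [Module A' X']
    {𝒳 : ι → AddSubgroup X} [DirectSum.Decomposition 𝒳] [SetLike.GradedSMul 𝒜₁ 𝒳]
    {𝒳' : ι' → AddSubgroup X'} [DirectSum.Decomposition 𝒳'] [SetLike.GradedSMul 𝒜₂ 𝒳']
    (E : StarInjRes 𝒜₁ 𝒳) (F : StarInjRes 𝒜₂ 𝒳') (b : HomogeneousIdeal 𝒜₁)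
    (b' : HomogeneousIdeal 𝒜₂) (q : ℕ) (Ψ : F.H b' q →ₛₗ[σ] E.H b q)
    (hΨ' : ∀ j y, y ∈ E.Hcomp b q (ψ j) → ∃ x ∈ F.Hcomp b' q j, Ψ x = y) :
    Function.Surjective Ψ := by
  letI := (Hgr_isInternal 𝒜₁ 𝒳 E b q).chooseDecomposition
  intro y
  induction y using DirectSum.Decomposition.inductionOn (E.Hgr b q) with
  | zero => exact ⟨0, map_zero _⟩
  | @homogeneous i y =>
    obtain ⟨j, rfl⟩ := hψ i
    obtain ⟨x, -, hx⟩ := hΨ' j y y.2
    exact ⟨x, hx⟩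
  | add y z hy hz =>
    obtain ⟨x₁, h₁⟩ := hy
    obtain ⟨x₂, h₂⟩ := hz
    exact ⟨x₁ + x₂, by rw [map_add, h₁, h₂]⟩

lemma swapHom_surjective : Function.Surjective swapHom := fun p => ⟨(p.2, p.1), rfl⟩

/-- **Base change for the right factor.** -/
theorem bc_right [IsNoetherianRing S] [IsNoetherianRing (R ⊗[k] S)] (n : HomogeneousIdeal ℬ)
    (q : ℕ) (EN : StarInjRes ℬ 𝒩) (EX : StarInjRes (biGr (k := k) 𝒜 ℬ) (biGr (k := k) ℳ 𝒩))
    [Module k (EN.H n q)] [IsScalarTower k S (EN.H n q)] :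
    ∃ Φ : M ⊗[k] (EN.H n q) ≃ₗ[R ⊗[k] S] EX.H (extR (k := k) 𝒜 ℬ n) q,
      (∀ p x, x ∈ biGr (k := k) ℳ (EN.Hgr n q) p → Φ x ∈ EX.Hgr (extR (k := k) 𝒜 ℬ n) q p) ∧
      (∀ p y, y ∈ EX.Hgr (extR (k := k) 𝒜 ℬ n) q p →
        ∃ x ∈ biGr (k := k) ℳ (EN.Hgr n q) p, Φ x = y) := by
  haveI : IsNoetherianRing (S ⊗[k] R) :=
    isNoetherianRing_of_ringEquiv (R ⊗[k] S) (Algebra.TensorProduct.comm k R S).toRingEquiv
  obtain ⟨F⟩ := nonempty_starInjRes (biGr (k := k) ℬ 𝒜) (biGr (k := k) 𝒩 ℳ)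
  obtain ⟨Φ', hΦ', hΦ''⟩ := bc_all (k := k) ℬ 𝒜 ℳ n q N 𝒩 EN F
  have h1 : (extL (k := k) ℬ 𝒜 n).toIdeal.map (swapRing (k := k) (R := R) (S := S)) ≤
      (extR (k := k) 𝒜 ℬ n).toIdeal := by
    rw [extL_toIdeal, extR_toIdeal, map_swapRing_extIdeal]
  have h2 : ∃ K, (extR (k := k) 𝒜 ℬ n).toIdeal ^ K ≤
      (extL (k := k) ℬ 𝒜 n).toIdeal.map (swapRing (k := k) (R := R) (S := S)) := by
    refine ⟨1, ?_⟩
    rw [pow_one, extL_toIdeal, extR_toIdeal, map_swapRing_extIdeal]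
  obtain ⟨Ψ, hΨi, hΨ, hΨ'⟩ := claim_all (isVerRing_swap 𝒜 ℬ) (extR (k := k) 𝒜 ℬ n)
    (extL (k := k) ℬ 𝒜 n) h1 h2 q _ _ _ _ _ (isVer_swap (R := R) (S := S) ℳ 𝒩) EX F
  have hΨs : Function.Surjective Ψ :=
    surjective_of_cmp swapHom_surjective EX F _ _ q Ψ hΨ'
  -- the composite
  let f : M ⊗[k] (EN.H n q) → EX.H (extR (k := k) 𝒜 ℬ n) q :=
    fun x => Ψ (Φ' (TensorProduct.comm k M (EN.H n q) x))
  have hfadd : ∀ x y, f (x + y) = f x + f y := fun x y => by simp only [f, map_add]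
  have hfsmul : ∀ (a : R ⊗[k] S) (x : M ⊗[k] (EN.H n q)), f (a • x) = a • f x := by
    intro a x
    simp only [f]
    rw [comm_smul (R := S) (S := R) (M := EN.H n q) (N := M) a x, map_smul, map_smulₛₗ,
      swapRing_swapRing]
  let fl : M ⊗[k] (EN.H n q) →ₗ[R ⊗[k] S] EX.H (extR (k := k) 𝒜 ℬ n) q :=
    { toFun := f, map_add' := hfadd, map_smul' := hfsmul }
  have hbij : Function.Bijective fl := by
    constructor
    · intro x y hxy
      exact (TensorProduct.comm k M (EN.H n q)).injective (Φ'.injective (hΨi hxy))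
    · intro y
      obtain ⟨x', rfl⟩ := hΨs y
      obtain ⟨w, rfl⟩ := Φ'.surjective x'
      exact ⟨(TensorProduct.comm k M (EN.H n q)).symm w, by
        change Ψ (Φ' (TensorProduct.comm k M (EN.H n q) _)) = _
        rw [LinearEquiv.apply_symm_apply]⟩
  refine ⟨LinearEquiv.ofBijective fl hbij, ?_, ?_⟩
  · intro p x hx
    have h3 := comm_mem_biGr (k := k) (EN.Hgr n q) ℳ hx
    have h4 := hΦ' _ _ h3
    have h5 := hΨ _ _ h4
    rw [swapHom_apply, swapHom_apply] at h5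
    exact h5
  · intro p y hy
    have hy' : y ∈ EX.Hcomp (extR (k := k) 𝒜 ℬ n) q (swapHom (p.2, p.1)) := hy
    obtain ⟨x', hx', rfl⟩ := hΨ' (p.2, p.1) y hy'
    obtain ⟨w, hw, rfl⟩ := hΦ'' (p.2, p.1) x' hx'
    refine ⟨TensorProduct.comm k (EN.H n q) M w, ?_, ?_⟩
    · have := comm_mem_biGr (k := k) ℳ (EN.Hgr n q) hw
      rwa [swapHom_apply] at this
    · change Ψ (Φ' (TensorProduct.comm k M (EN.H n q) (TensorProduct.comm k (EN.H n q) M w))) = _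
      rw [← TensorProduct.comm_symm, LinearEquiv.symm_apply_apply]

end

end Groth.Agent.Lib.Helper11.Seg
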