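import Groth.Agent.Lib.Helper11.GrKunA
import Groth.Agent.Lib.Helper11.GrSwapB
import Groth.Agent.Lib.Helper11.GrCompC
import Groth.Agent.Lib.Helper11.GrMVD

/-!
# Künneth-type computations of `H^q_{mA}`, `H^q_{nA}`, `H^q_{mA + nA}` on `M ⊗[k] N`
-/

set_option autoImplicit false
set_option linter.unusedSectionVars false
set_option linter.unusedVariables false
set_option linter.style.haveILetI false
set_option maxHeartbeats 1000000
universe u

open scoped TensorProduct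

namespace Groth.Agent.Lib.Helper11.Seg

open DirectSum GrLC Groth.Agent.Lib.Helper11.GrLCLib Groth.Agent.Lib.Helper11.GrLes
  Groth.Agent.Lib.Helper11.GrComp

section Basic

variable {ι : Type} [DecidableEq ι] [AddCommGroup ι]
variable {A : Type u} [CommRing A] {𝒜 : ι → AddSubgroup A} [GradedRing 𝒜]
variable {X : Type u} [AddCommGroup X] [Module A X] {𝒳 : ι → AddSubgroup X}
  [DirectSum.Decomposition 𝒳] [SetLike.GradedSMul 𝒜 𝒳]

lemma Hcomp_eq_bot_iff_Hgr (E : StarInjRes 𝒜 𝒳) (a : HomogeneousIdeal 𝒜) (q : ℕ) (g : ι) :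
    E.Hcomp a q g = ⊥ ↔ E.Hgr a q g = ⊥ := by
  constructor
  · intro h
    rw [eq_bot_iff]
    intro x hx
    have : x ∈ E.Hcomp a q g := hx
    rw [h, Submodule.mem_bot] at this
    exact (AddSubgroup.mem_bot).mpr this
  · intro h
    rw [eq_bot_iff]
    intro x hx
    have : x ∈ E.Hgr a q g := hx
    rw [h, AddSubgroup.mem_bot] at this
    exact (Submodule.mem_bot _).mpr this

/-- `*H^q_a` vanishes iff all its homogeneous pieces do. -/
lemma subsingleton_H_iff (E : StarInjRes 𝒜 𝒳) (a : HomogeneousIdeal 𝒜) (q : ℕ) :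
    Subsingleton (E.H a q) ↔ ∀ g, E.Hcomp a q g = ⊥ := by
  constructor
  · intro h g
    rw [eq_bot_iff]
    intro x _
    exact (Submodule.mem_bot _).mpr (h.elim x 0)
  · intro h
    letI := (Hgr_isInternal 𝒜 𝒳 E a q).chooseDecomposition
    refine ⟨fun x y => ?_⟩
    suffices hz : ∀ z : E.H a q, z = 0 by rw [hz x, hz y]
    intro z
    induction z using DirectSum.Decomposition.inductionOn (E.Hgr a q) with
    | zero => rfl
    | @homogeneous i z =>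
      have : (z : E.H a q) ∈ E.Hcomp a q i := z.2
      rw [h i, Submodule.mem_bot] at this
      exact this
    | add z w hz hw => rw [hz, hw, add_zero]

/-- the graded `𝒜`-action on the pieces of `*H`. -/
lemma Hgr_gradedSMul (E : StarInjRes 𝒜 𝒳) (a : HomogeneousIdeal 𝒜) (q : ℕ) :
    SetLike.GradedSMul 𝒜 (E.Hgr a q) :=
  ⟨fun {i j} {r x} hr hx => by
    have := smul_mem_Hcomp E a q hr hx
    rw [vadd_eq_add, add_comm]
    exact this⟩

end Basic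

section Kun

variable {k : Type u} [Field k] {R S : Type u} [CommRing R] [CommRing S] [Algebra k R]
  [Algebra k S]
variable {𝒜 : ℤ → AddSubgroup R} [GradedRing 𝒜] {ℬ : ℤ → AddSubgroup S} [GradedRing ℬ]
  [IsKAlgGr k 𝒜] [IsKAlgGr k ℬ]
variable [IsNoetherianRing R] [IsNoetherianRing S] [IsNoetherianRing (R ⊗[k] S)]
variable {M N : Type u} [AddCommGroup M] [Module R M] [Module k M] [IsScalarTower k R M]
  [AddCommGroup N] [Module S N] [Module k N] [IsScalarTower k S N]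
variable {ℳ : ℤ → AddSubgroup M} [DirectSum.Decomposition ℳ] [SetLike.GradedSMul 𝒜 ℳ] [IsKGr k ℳ]
  {𝒩 : ℤ → AddSubgroup N} [DirectSum.Decomposition 𝒩] [SetLike.GradedSMul ℬ 𝒩] [IsKGr k 𝒩]
variable (m : HomogeneousIdeal 𝒜) (n : HomogeneousIdeal ℬ) (EM : StarInjRes 𝒜 ℳ)
  (EN : StarInjRes ℬ 𝒩) (EX : StarInjRes (biGr (k := k) 𝒜 ℬ) (biGr (k := k) ℳ 𝒩))

include EM in
/-- pieces of `H^q_{mA}(M ⊗ N)`. -/
theorem Hcomp_extL_eq_bot_iff (q : ℕ) (p : ℤ × ℤ) :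
    EX.Hcomp (extL (k := k) 𝒜 ℬ m) q p = ⊥ ↔ EM.Hcomp m q p.1 = ⊥ ∨ 𝒩 p.2 = ⊥ := by
  letI : Module k (EM.H m q) := Module.compHom _ (algebraMap k R)
  haveI : IsScalarTower k R (EM.H m q) := IsScalarTower.of_algebraMap_smul (fun r x => rfl)
  haveI : SetLike.GradedSMul 𝒜 (EM.Hgr m q) := Hgr_gradedSMul EM m q
  haveI : IsKGr k (EM.Hgr m q) := isKGr_of_gradedSMul 𝒜 _
  obtain ⟨Φ, hΦ, hΦ'⟩ := bc_all (k := k) 𝒜 ℬ 𝒩 m q M ℳ EM EX
  rw [Hcomp_eq_bot_iff_Hgr, Hcomp_eq_bot_iff_Hgr, ← biGr_eq_bot_iff (k := k) (EM.Hgr m q) 𝒩 p]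
  constructor
  · intro h
    rw [eq_bot_iff]
    intro x hx
    have h1 := hΦ p x hx
    rw [h, AddSubgroup.mem_bot] at h1
    rw [AddSubgroup.mem_bot]
    exact Φ.injective (h1.trans (map_zero Φ).symm)
  · intro h
    rw [eq_bot_iff]
    intro y hy
    obtain ⟨x, hx, rfl⟩ := hΦ' p y hy
    rw [h, AddSubgroup.mem_bot] at hx
    rw [hx, map_zero]
    exact zero_mem _

include EN in
/-- pieces of `H^q_{nA}(M ⊗ N)`. -/
theorem Hcomp_extR_eq_bot_iff (q : ℕ) (p : ℤ × ℤ) :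
    EX.Hcomp (extR (k := k) 𝒜 ℬ n) q p = ⊥ ↔ ℳ p.1 = ⊥ ∨ EN.Hcomp n q p.2 = ⊥ := by
  letI : Module k (EN.H n q) := Module.compHom _ (algebraMap k S)
  haveI : IsScalarTower k S (EN.H n q) := IsScalarTower.of_algebraMap_smul (fun r x => rfl)
  haveI : SetLike.GradedSMul ℬ (EN.Hgr n q) := Hgr_gradedSMul EN n q
  haveI : IsKGr k (EN.Hgr n q) := isKGr_of_gradedSMul ℬ _
  obtain ⟨Φ, hΦ, hΦ'⟩ := bc_right (k := k) 𝒜 ℬ ℳ 𝒩 n q EN EX
  rw [Hcomp_eq_bot_iff_Hgr, Hcomp_eq_bot_iff_Hgr, ← biGr_eq_bot_iff (k := k) ℳ (EN.Hgr n q) p]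
  constructor
  · intro h
    rw [eq_bot_iff]
    intro x hx
    have h1 := hΦ p x hx
    rw [h, AddSubgroup.mem_bot] at h1
    rw [AddSubgroup.mem_bot]
    exact Φ.injective (h1.trans (map_zero Φ).symm)
  · intro h
    rw [eq_bot_iff]
    intro y hy
    obtain ⟨x, hx, rfl⟩ := hΦ' p y hy
    rw [h, AddSubgroup.mem_bot] at hx
    rw [hx, map_zero]
    exact zero_mem _

include EM in
theorem subsingleton_H_extL_of (q : ℕ) (h : Subsingleton (EM.H m q)) :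
    Subsingleton (EX.H (extL (k := k) 𝒜 ℬ m) q) := by
  letI : Module k (EM.H m q) := Module.compHom _ (algebraMap k R)
  haveI : IsScalarTower k R (EM.H m q) := IsScalarTower.of_algebraMap_smul (fun r x => rfl)
  obtain ⟨Φ, -, -⟩ := bc_all (k := k) 𝒜 ℬ 𝒩 m q M ℳ EM EX
  exact Φ.symm.injective.subsingleton

include EN in
theorem subsingleton_H_extR_of (q : ℕ) (h : Subsingleton (EN.H n q)) :
    Subsingleton (EX.H (extR (k := k) 𝒜 ℬ n) q) := by
  letI : Module k (EN.H n q) := Module.compHom _ (algebraMap k S)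
  haveI : IsScalarTower k S (EN.H n q) := IsScalarTower.of_algebraMap_smul (fun r x => rfl)
  obtain ⟨Φ, -, -⟩ := bc_right (k := k) 𝒜 ℬ ℳ 𝒩 n q EN EX
  exact Φ.symm.injective.subsingleton

/-- **Künneth for the sum**: when `H^•_m(M)` and `H^•_n(N)` are concentrated in degrees `r`
and `s`, `H^•_{mA+nA}(M ⊗ N)` is concentrated in degree `r + s`, where it is
`H^r_m(M) ⊗ H^s_n(N)`. -/
theorem kunneth_sup (r s : ℕ) (hM : ∀ i, i ≠ r → Subsingleton (EM.H m i))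
    (hN : ∀ j, j ≠ s → Subsingleton (EN.H n j))
    [Module k (EM.H m r)] [IsScalarTower k R (EM.H m r)]
    [Module k (EN.H n s)] [IsScalarTower k S (EN.H n s)] :
    (∀ q, q ≠ r + s →
      Subsingleton (EX.H (extL (k := k) 𝒜 ℬ m ⊔ extR (k := k) 𝒜 ℬ n) q)) ∧
    ∃ Θ : EX.H (extL (k := k) 𝒜 ℬ m ⊔ extR (k := k) 𝒜 ℬ n) (r + s) ≃ₗ[R ⊗[k] S]
        (EM.H m r) ⊗[k] (EN.H n s),
      (∀ p x, x ∈ EX.Hcomp (extL (k := k) 𝒜 ℬ m ⊔ extR (k := k) 𝒜 ℬ n) (r + s) p →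
        Θ x ∈ biGr (k := k) (EM.Hgr m r) (EN.Hgr n s) p) ∧
      (∀ p y, y ∈ biGr (k := k) (EM.Hgr m r) (EN.Hgr n s) p →
        Θ.symm y ∈ EX.Hcomp (extL (k := k) 𝒜 ℬ m ⊔ extR (k := k) 𝒜 ℬ n) (r + s) p) := by
  letI : DirectSum.Decomposition (EN.Hgr n s) := (Hgr_isInternal ℬ 𝒩 EN n s).chooseDecomposition
  haveI : SetLike.GradedSMul ℬ (EN.Hgr n s) := Hgr_gradedSMul EN n s
  haveI : IsKGr k (EN.Hgr n s) := isKGr_of_gradedSMul ℬ _
  have hE : ∀ j, j ≠ s → Subsingleton (EX.H (extR (k := k) 𝒜 ℬ n) j) :=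
    fun j hj => subsingleton_H_extR_of n EN EX j (hN j hj)
  obtain ⟨Φr, hΦr, hΦr'⟩ := bc_right (k := k) 𝒜 ℬ ℳ 𝒩 n s EN EX
  obtain ⟨G⟩ := nonempty_starInjRes (biGr (k := k) 𝒜 ℬ) (biGr (k := k) ℳ (EN.Hgr n s))
  obtain ⟨hlow, hall⟩ := composite_one (extL (k := k) 𝒜 ℬ m) (extR (k := k) 𝒜 ℬ n) s
    (M ⊗[k] N) (biGr (k := k) ℳ 𝒩) EX hE (M ⊗[k] (EN.H n s)) (biGr (k := k) ℳ (EN.Hgr n s))
    Φr.symm
    (fun g x hx => by
      obtain ⟨w, hw, rfl⟩ := hΦr' g x hx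
      rw [LinearEquiv.symm_apply_apply]
      exact hw)
    (fun g y hy => by
      rw [LinearEquiv.symm_symm]
      exact hΦr g y hy) G
  constructor
  · intro q hq
    by_cases hqs : q < s
    · exact hlow q hqs
    · obtain ⟨q', rfl⟩ : ∃ q', q = s + q' := ⟨q - s, by omega⟩
      obtain ⟨e, -, -⟩ := hall (s + q') q' rfl
      have hq' : q' ≠ r := fun h => hq (by omega)
      have := subsingleton_H_extL_of (𝒩 := EN.Hgr n s) m EM G q' (hM q' hq')
      exact e.injective.subsingleton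
  · obtain ⟨e, he, he'⟩ := hall (r + s) r (Nat.add_comm r s)
    obtain ⟨Φ, hΦ, hΦ'⟩ := bc_all (k := k) 𝒜 ℬ (EN.Hgr n s) m r M ℳ EM G
    refine ⟨e.trans Φ.symm, ?_, ?_⟩
    · intro p x hx
      obtain ⟨w, hw, hwe⟩ := hΦ' p _ (he p x hx)
      have : (e.trans Φ.symm) x = w := by
        change Φ.symm (e x) = w
        rw [← hwe, LinearEquiv.symm_apply_apply]
      rw [this]
      exact hw
    · intro p y hy
      have : (e.trans Φ.symm).symm y = e.symm (Φ y) := rfl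
      rw [this]
      exact he' p _ (hΦ p y hy)

end Kun

end Groth.Agent.Lib.Helper11.Seg
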