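import Groth.Agent.Lib.Helper11.GrKunA
import Mathlib.LinearAlgebra.Contraction

/-!
# The Segre product of graded duals is the graded dual of the Segre product
-/

set_option autoImplicit false
set_option linter.unusedSectionVars false
set_option linter.unusedVariables false
set_option linter.style.haveILetI false
set_option maxHeartbeats 1000000
universe u

open scoped TensorProduct

namespace Groth.Agent.Lib.Helper11.Seg

open DirectSum GrSeg

section Pair

variable {k : Type u} [Field k]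
variable {M N DM DN : Type u} [AddCommGroup M] [Module k M] [AddCommGroup N] [Module k N]
  [AddCommGroup DM] [Module k DM] [AddCommGroup DN] [Module k DN]

/-- the tensor product of two pairings. -/
noncomputable def tpair (βM : DM →ₗ[k] M →ₗ[k] k) (βN : DN →ₗ[k] N →ₗ[k] k) :
    DM ⊗[k] DN →ₗ[k] M ⊗[k] N →ₗ[k] k :=
  (TensorProduct.dualDistrib k M N).comp (TensorProduct.map βM βN)

lemma tpair_tmul (βM : DM →ₗ[k] M →ₗ[k] k) (βN : DN →ₗ[k] N →ₗ[k] k) (d1 : DM) (d2 : DN)
    (x : M) (y : N) : tpair βM βN (d1 ⊗ₜ[k] d2) (x ⊗ₜ[k] y) = βM d1 x * βN d2 y := by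
  rw [tpair, LinearMap.comp_apply, TensorProduct.map_tmul, TensorProduct.dualDistrib_apply]

/-- compatibility of the tensor pairing with restriction to subspaces. -/
lemma tpair_mapIncl (βM : DM →ₗ[k] M →ₗ[k] k) (βN : DN →ₗ[k] N →ₗ[k] k)
    (V' : Submodule k DM) (W' : Submodule k DN) (V : Submodule k M) (W : Submodule k N)
    (w : V' ⊗[k] W') (z : V ⊗[k] W) :
    tpair βM βN (TensorProduct.mapIncl V' W' w) (TensorProduct.mapIncl V W z) =
      TensorProduct.dualDistrib k V W
        (TensorProduct.map (βM.domRestrict₁₂ V' V) (βN.domRestrict₁₂ W' W) w) z := by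
  induction w using TensorProduct.induction_on with
  | zero => simp
  | add w w' hw hw' => simp only [map_add, LinearMap.add_apply, hw, hw']
  | tmul d1 d2 =>
    induction z using TensorProduct.induction_on with
    | zero => simp
    | add z z' hz hz' => simp only [map_add, hz, hz']
    | tmul x y =>
      rw [TensorProduct.mapIncl, TensorProduct.map_tmul, TensorProduct.map_tmul, tpair_tmul,
        TensorProduct.map_tmul, TensorProduct.dualDistrib_apply]
      rfl

end Pair

section Theta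

variable {k : Type u} [Field k] (R : Type u) [CommRing R] [Algebra k R]
variable {M D : Type u} [AddCommGroup M] [Module R M] [Module k M] [IsScalarTower k R M]
  [AddCommGroup D] [Module R D] [Module k D] [IsScalarTower k R D]
variable {ℳ : ℤ → AddSubgroup M} [DirectSum.Decomposition ℳ] [IsKGr k ℳ]
  {𝒟 : ℤ → AddSubgroup D} [DirectSum.Decomposition 𝒟] [IsKGr k 𝒟]
  {β : D →ₗ[k] M →ₗ[k] k}

/-- the pairing of a graded dual is perfect on each pair of opposite pieces. -/
lemma theta_bijective' (hD : IsGDual R ℳ 𝒟 β) (n : ℤ) :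
    Function.Bijective (β.domRestrict₁₂ (subK k 𝒟 n) (subK k ℳ (-n))) := by
  constructor
  · rw [injective_iff_map_eq_zero]
    intro d hd
    apply Subtype.ext
    apply hD.eq_zero n d.1 d.2
    intro x hx
    have := LinearMap.congr_fun hd ⟨x, hx⟩
    exact this
  · intro f
    obtain ⟨g, hg⟩ := LinearMap.exists_extend f
    obtain ⟨d, hd, hdx⟩ := hD.exists_eq n g
    refine ⟨⟨d, hd⟩, ?_⟩
    ext x
    rw [LinearMap.domRestrict₁₂_apply]
    change β d (x : M) = f x
    rw [hdx x.1 x.2, ← hg]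
    rfl

end Theta

section Main

variable {k : Type u} [Field k] {R S T : Type u} [CommRing R] [CommRing S] [CommRing T]
  [Algebra k R] [Algebra k S] [Algebra k T] {ψ : T →ₐ[k] R ⊗[k] S}
variable {M N P : Type u} [AddCommGroup M] [Module R M] [Module k M] [IsScalarTower k R M]
  [AddCommGroup N] [Module S N] [Module k N] [IsScalarTower k S N]
  [AddCommGroup P] [Module T P] [Module k P] [IsScalarTower k T P]
variable {DM DN DP : Type u} [AddCommGroup DM] [Module R DM] [Module k DM] [IsScalarTower k R DM]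
  [AddCommGroup DN] [Module S DN] [Module k DN] [IsScalarTower k S DN]
  [AddCommGroup DP] [Module T DP] [Module k DP] [IsScalarTower k T DP]
variable {ℳ : ℤ → AddSubgroup M} [DirectSum.Decomposition ℳ] [IsKGr k ℳ]
  {𝒩 : ℤ → AddSubgroup N} [DirectSum.Decomposition 𝒩] [IsKGr k 𝒩]
  {𝒬 : ℤ → AddSubgroup P} [DirectSum.Decomposition 𝒬]
variable {𝒟M : ℤ → AddSubgroup DM} [DirectSum.Decomposition 𝒟M] [IsKGr k 𝒟M]
  {𝒟N : ℤ → AddSubgroup DN} [DirectSum.Decomposition 𝒟N] [IsKGr k 𝒟N]
  {𝒟P : ℤ → AddSubgroup DP} [DirectSum.Decomposition 𝒟P]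
variable {βM : DM →ₗ[k] M →ₗ[k] k} {βN : DN →ₗ[k] N →ₗ[k] k}

lemma tpair_act (hDM : IsGDual R ℳ 𝒟M βM) (hDN : IsGDual S 𝒩 𝒟N βN) (a : R ⊗[k] S)
    (w : DM ⊗[k] DN) (z : M ⊗[k] N) :
    tpair βM βN (act k R S DM DN a w) z = tpair βM βN w (act k R S M N a z) := by
  induction a using TensorProduct.induction_on with
  | zero => simp
  | add a a' ha ha' => simp only [map_add, LinearMap.add_apply, ha, ha']
  | tmul r s =>
    induction w using TensorProduct.induction_on with
    | zero => simp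
    | add w w' hw hw' => simp only [map_add, LinearMap.add_apply, hw, hw']
    | tmul d1 d2 =>
      induction z using TensorProduct.induction_on with
      | zero => simp
      | add z z' hz hz' => simp only [map_add, hz, hz']
      | tmul x y =>
        rw [act_tmul, act_tmul, tpair_tmul, tpair_tmul, hDM.map_smul, hDN.map_smul]

lemma mem_range_mapIncl_of_mem_segrePiece {A B : Type u} [AddCommGroup A] [Module k A]
    [AddCommGroup B] [Module k B] (𝒳 : ℤ → AddSubgroup A) (𝒴 : ℤ → AddSubgroup B) [IsKGr k 𝒳]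
    [IsKGr k 𝒴] (n : ℤ) {z : A ⊗[k] B} (hz : z ∈ segrePiece k 𝒳 𝒴 n) :
    ∃ z' : (subK k 𝒳 n) ⊗[k] (subK k 𝒴 n), TensorProduct.mapIncl _ _ z' = z := by
  induction hz using Submodule.span_induction with
  | mem x hx =>
    obtain ⟨a, ha, b, hb, rfl⟩ := hx
    exact ⟨(⟨a, ha⟩ : subK k 𝒳 n) ⊗ₜ[k] (⟨b, hb⟩ : subK k 𝒴 n), by
      rw [TensorProduct.mapIncl, TensorProduct.map_tmul]; rfl⟩
  | zero => exact ⟨0, map_zero _⟩
  | add x y _ _ hx hy =>
    obtain ⟨x', rfl⟩ := hx
    obtain ⟨y', rfl⟩ := hy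
    exact ⟨x' + y', map_add _ _ _⟩
  | smul c x _ hx =>
    obtain ⟨x', rfl⟩ := hx
    exact ⟨c • x', map_smul _ _ _⟩

lemma mapIncl_mem_segrePiece {A B : Type u} [AddCommGroup A] [Module k A]
    [AddCommGroup B] [Module k B] (𝒳 : ℤ → AddSubgroup A) (𝒴 : ℤ → AddSubgroup B) [IsKGr k 𝒳]
    [IsKGr k 𝒴] (n : ℤ) (z' : (subK k 𝒳 n) ⊗[k] (subK k 𝒴 n)) :
    TensorProduct.mapIncl _ _ z' ∈ segrePiece k 𝒳 𝒴 n := by
  induction z' using TensorProduct.induction_on with
  | zero => rw [map_zero]; exact zero_mem _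
  | add x y hx hy => rw [map_add]; exact add_mem hx hy
  | tmul a b =>
    rw [TensorProduct.mapIncl, TensorProduct.map_tmul]
    exact Submodule.subset_span ⟨a, a.2, b, b.2, rfl⟩

/-- **The Segre product of graded duals is the graded dual of the Segre product.** -/
theorem isGDual_segre (hDM : IsGDual R ℳ 𝒟M βM) (hDN : IsGDual S 𝒩 𝒟N βN)
    (hfM : ∀ n, Module.Finite k (subK k ℳ n)) (hfN : ∀ n, Module.Finite k (subK k 𝒩 n))
    {φ : P →ₗ[k] M ⊗[k] N} (hP : IsSegreMod ψ ℳ 𝒩 𝒬 φ)
    {φ' : DP →ₗ[k] DM ⊗[k] DN} (hDP : IsSegreMod ψ 𝒟M 𝒟N 𝒟P φ') :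
    IsGDual T 𝒬 𝒟P ((tpair βM βN).compl₁₂ φ' φ) := by
  have hmemP : ∀ n p, p ∈ 𝒬 n → φ p ∈ segrePiece k ℳ 𝒩 n := by
    intro n p hp
    have := Set.ext_iff.mp (hP.image_piece n) (φ p)
    exact this.mp ⟨p, hp, rfl⟩
  have hmemD : ∀ n d, d ∈ 𝒟P n → φ' d ∈ segrePiece k 𝒟M 𝒟N n := by
    intro n d hd
    have := Set.ext_iff.mp (hDP.image_piece n) (φ' d)
    exact this.mp ⟨d, hd, rfl⟩
  -- perfectness on the pieces
  have hperf : ∀ n : ℤ, Function.Bijective
      ((TensorProduct.dualDistrib k (subK k ℳ (-n)) (subK k 𝒩 (-n))).comp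
        (TensorProduct.map (βM.domRestrict₁₂ (subK k 𝒟M n) (subK k ℳ (-n)))
          (βN.domRestrict₁₂ (subK k 𝒟N n) (subK k 𝒩 (-n))))) := by
    intro n
    haveI := hfM (-n)
    haveI := hfN (-n)
    let e1 := LinearEquiv.ofBijective _ (theta_bijective' R hDM n)
    let e2 := LinearEquiv.ofBijective _ (theta_bijective' S hDN n)
    have h1 : TensorProduct.map (βM.domRestrict₁₂ (subK k 𝒟M n) (subK k ℳ (-n)))
        (βN.domRestrict₁₂ (subK k 𝒟N n) (subK k 𝒩 (-n))) =
        (TensorProduct.congr e1 e2).toLinearMap := by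
      ext a b
      rfl
    have h2 : TensorProduct.dualDistrib k (subK k ℳ (-n)) (subK k 𝒩 (-n)) =
        (TensorProduct.dualDistribEquiv k (subK k ℳ (-n)) (subK k 𝒩 (-n))).toLinearMap := by
      rfl
    rw [h1, h2]
    exact ((TensorProduct.congr e1 e2).trans
      (TensorProduct.dualDistribEquiv k (subK k ℳ (-n)) (subK k 𝒩 (-n)))).bijective
  refine ⟨?_, ?_, ?_, ?_⟩
  · intro t d p
    rw [LinearMap.compl₁₂_apply, LinearMap.compl₁₂_apply, hDP.map_smul, hP.map_smul,
      tpair_act hDM hDN]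
  · intro n d hd m hm p hp
    rw [LinearMap.compl₁₂_apply]
    obtain ⟨w, hw⟩ := mem_range_mapIncl_of_mem_segrePiece 𝒟M 𝒟N n (hmemD n d hd)
    obtain ⟨z, hz⟩ := mem_range_mapIncl_of_mem_segrePiece ℳ 𝒩 m (hmemP m p hp)
    rw [← hw, ← hz]
    clear hw hz
    induction w using TensorProduct.induction_on with
    | zero => simp
    | add w w' hw hw' => simp only [map_add, LinearMap.add_apply, hw, hw', add_zero]
    | tmul d1 d2 =>
      induction z using TensorProduct.induction_on with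
      | zero => simp
      | add z z' hz hz' => simp only [map_add, hz, hz', add_zero]
      | tmul x y =>
        rw [TensorProduct.mapIncl, TensorProduct.map_tmul, TensorProduct.map_tmul, tpair_tmul]
        have : βM (d1 : DM) (x : M) = 0 := hDM.vanish n d1 d1.2 m hm x x.2
        change βM (d1 : DM) (x : M) * _ = 0
        rw [this, zero_mul]
  · intro n d hd hvan
    obtain ⟨w, hw⟩ := mem_range_mapIncl_of_mem_segrePiece 𝒟M 𝒟N n (hmemD n d hd)
    have hw0 : w = 0 := by
      apply (hperf n).1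
      rw [map_zero]
      refine LinearMap.ext fun z => ?_
      rw [LinearMap.comp_apply, ← tpair_mapIncl, LinearMap.zero_apply]
      have hz := mapIncl_mem_segrePiece ℳ 𝒩 (-n) z
      have h1 := Set.ext_iff.mp (hP.image_piece (-n)) (TensorProduct.mapIncl _ _ z)
      obtain ⟨p, hp, hpz⟩ := h1.mpr hz
      have h2 := hvan p hp
      rw [LinearMap.compl₁₂_apply, hpz, ← hw] at h2
      exact h2
    apply hDP.injective
    rw [← hw, hw0, map_zero, map_zero]
  · intro n g
    obtain ⟨l, hl⟩ := LinearMap.exists_leftInverse_of_injective φ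
      (LinearMap.ker_eq_bot.mpr hP.injective)
    let G : M ⊗[k] N →ₗ[k] k := g.comp l
    have hG : ∀ p, G (φ p) = g p := fun p => by
      change g (l (φ p)) = g p
      have := LinearMap.congr_fun hl p
      rw [LinearMap.comp_apply, LinearMap.id_apply] at this
      rw [this]
    let g' : Module.Dual k ((subK k ℳ (-n)) ⊗[k] (subK k 𝒩 (-n))) :=
      G.comp (TensorProduct.mapIncl _ _)
    obtain ⟨w, hw⟩ := (hperf n).2 g'
    have hwd := mapIncl_mem_segrePiece 𝒟M 𝒟N n w
    have h1 := Set.ext_iff.mp (hDP.image_piece n) (TensorProduct.mapIncl _ _ w)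
    obtain ⟨d, hd, hdw⟩ := h1.mpr hwd
    refine ⟨d, hd, ?_⟩
    intro p hp
    obtain ⟨z, hz⟩ := mem_range_mapIncl_of_mem_segrePiece ℳ 𝒩 (-n) (hmemP (-n) p hp)
    rw [LinearMap.compl₁₂_apply, hdw, ← hz, tpair_mapIncl]
    have := LinearMap.congr_fun hw z
    rw [LinearMap.comp_apply] at this
    rw [this]
    change G (TensorProduct.mapIncl _ _ z) = g p
    rw [hz, hG]

end Main

end Groth.Agent.Lib.Helper11.Seg
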