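import Groth.Agent.Lib.Helper11.GrSegTop
import Groth.Agent.Lib.Helper11.GrSegDual
import Groth.Agent.Lib.Helper11.GrLCSubQuot

/-!
# The top local cohomology of a Segre product as a Segre module
-/

set_option autoImplicit false
set_option linter.unusedSectionVars false
set_option linter.unusedVariables false
set_option linter.style.haveILetI false
set_option maxHeartbeats 1000000
universe u

open scoped TensorProduct

namespace Groth.Agent.Lib.Helper11.Seg

open DirectSum GrLC Groth.Agent.Lib.Helper11.GrLCLib Groth.Agent.Lib.Helper11.GrVer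
  Groth.Agent.Lib.Helper11.GrMV

section Top

variable {k : Type u} [Field k] {R S T : Type u} [CommRing R] [CommRing S] [CommRing T]
  [Algebra k R] [Algebra k S] [Algebra k T]
variable {𝒜 : ℤ → AddSubgroup R} [GradedRing 𝒜] {ℬ : ℤ → AddSubgroup S} [GradedRing ℬ]
  [IsKAlgGr k 𝒜] [IsKAlgGr k ℬ]
variable {𝒯 : ℤ → AddSubgroup T} [GradedRing 𝒯] {ψ : T →ₐ[k] R ⊗[k] S}
variable [IsNoetherianRing R] [IsNoetherianRing S] [IsNoetherianRing (R ⊗[k] S)]
variable {M N P : Type u} [AddCommGroup M] [Module R M] [Module k M] [IsScalarTower k R M]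
  [AddCommGroup N] [Module S N] [Module k N] [IsScalarTower k S N]
  [AddCommGroup P] [Module T P] [Module k P] [IsScalarTower k T P]
variable {ℳ : ℤ → AddSubgroup M} [DirectSum.Decomposition ℳ] [SetLike.GradedSMul 𝒜 ℳ] [IsKGr k ℳ]
  {𝒩 : ℤ → AddSubgroup N} [DirectSum.Decomposition 𝒩] [SetLike.GradedSMul ℬ 𝒩] [IsKGr k 𝒩]
  {𝒬 : ℤ → AddSubgroup P} [DirectSum.Decomposition 𝒬] [SetLike.GradedSMul 𝒯 𝒬]

/-- **The top local cohomology of a Segre product is the Segre product of the top local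
cohomologies** (concentrated case), in the form of a Segre module presentation, for any shift. -/
theorem exists_isSegreMod_top (h : IsSeg 𝒜 ℬ 𝒯 ψ) (m : HomogeneousIdeal 𝒜)
    (n : HomogeneousIdeal ℬ) (mT : HomogeneousIdeal 𝒯) (hm : m.toIdeal = irrI 𝒜)
    (hn : n.toIdeal = irrI ℬ) (hmT : mT.toIdeal = irrI 𝒯)
    {φ : P →ₗ[k] M ⊗[k] N} (hP : GrSeg.IsSegreMod ψ ℳ 𝒩 𝒬 φ)
    (EM : StarInjRes 𝒜 ℳ) (EN : StarInjRes ℬ 𝒩) (EP : StarInjRes 𝒯 𝒬) (r s : ℕ)
    (h2r : 2 ≤ r) (h2s : 2 ≤ s)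
    (hM : ∀ i, i ≠ r → Subsingleton (EM.H m i)) (hN : ∀ j, j ≠ s → Subsingleton (EN.H n j))
    [Module k (EM.H m r)] [IsScalarTower k R (EM.H m r)]
    [Module k (EN.H n s)] [IsScalarTower k S (EN.H n s)]
    (q : ℕ) (hq : q + 1 = r + s)
    [Module k (EP.H mT q)] [IsScalarTower k T (EP.H mT q)] (c : ℤ)
    [DirectSum.Decomposition (shiftGr (EP.Hgr mT q) c)] :
    ∃ φ' : EP.H mT q →ₗ[k] (EM.H m r) ⊗[k] (EN.H n s),
      GrSeg.IsSegreMod ψ (shiftGr (EM.Hgr m r) c) (shiftGr (EN.Hgr n s) c)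
        (shiftGr (EP.Hgr mT q) c) φ' := by
  obtain ⟨Λ, hΛi, hΛ, hΛ'⟩ := top_cmp h m n mT hm hn hmT hP EM EN EP r s h2r h2s hM hN q hq
  let φ' : EP.H mT q →ₗ[k] (EM.H m r) ⊗[k] (EN.H n s) :=
    { toFun := fun x => Λ x
      map_add' := fun x y => map_add Λ x y
      map_smul' := fun a x => by
        rw [← algebraMap_smul T a x, map_smulₛₗ]
        change (ψ (algebraMap k T a)) • Λ x = _
        rw [AlgHom.commutes, algebraMap_smul]
        rfl }
  refine ⟨φ', hΛi, ?_, ?_⟩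
  · intro d
    ext y
    constructor
    · rintro ⟨x, hx, rfl⟩
      exact hΛ (d + c) x hx
    · intro hy
      obtain ⟨x, hx, hxy⟩ := hΛ' (d + c) y hy
      exact ⟨x, hx, hxy⟩
  · intro t p
    change Λ (t • p) = _
    rw [map_smulₛₗ]
    rfl

end Top

end Groth.Agent.Lib.Helper11.Seg
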