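import Groth.Agent.Lib.Helper11.GrKunB
import Groth.Agent.Lib.Helper11.GrCdA
import Groth.Agent.Lib.Helper11.GrSegTopB

/-!
# Künneth for the top local cohomology, without concentration hypotheses, and the top local
cohomology of a Segre product in general
-/

set_option autoImplicit false
set_option linter.unusedSectionVars false
set_option linter.unusedVariables false
set_option linter.style.haveILetI false
set_option maxHeartbeats 1000000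
universe u

open scoped TensorProduct

namespace Groth.Agent.Lib.Helper11.Seg

open DirectSum GrLC Groth.Agent.Lib.Helper11.GrLCLib Groth.Agent.Lib.Helper11.GrLes
  Groth.Agent.Lib.Helper11.GrComp Groth.Agent.Lib.Helper11.GrVer Groth.Agent.Lib.Helper11.GrMV

section Kun

variable {k : Type u} [Field k] {R S : Type u} [CommRing R] [CommRing S] [Algebra k R]
  [Algebra k S]
variable {𝒜 : ℤ → AddSubgroup R} [GradedRing 𝒜] {ℬ : ℤ → AddSubgroup S} [GradedRing ℬ]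
  [IsKAlgGr k 𝒜] [IsKAlgGr k ℬ]
variable [IsNoetherianRing R] [IsNoetherianRing S] [IsNoetherianRing (R ⊗[k] S)]
variable {M N : Type u} [AddCommGroup M] [Module R M] [Module k M] [IsScalarTower k R M]
  [AddCommGroup N] [Module S N] [Module k N] [IsScalarTower k S N]
variable {ℳ : ℤ → AddSubgroup M} [DirectSum.Decomposition ℳ] [SetLike.GradedSMul 𝒜 ℳ] [IsKGr k ℳ]
  {𝒩 : ℤ → AddSubgroup N} [DirectSum.Decomposition 𝒩] [SetLike.GradedSMul ℬ 𝒩] [IsKGr k 𝒩]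
variable (m : HomogeneousIdeal 𝒜) (n : HomogeneousIdeal ℬ) (EM : StarInjRes 𝒜 ℳ)
  (EN : StarInjRes ℬ 𝒩) (EX : StarInjRes (biGr (k := k) 𝒜 ℬ) (biGr (k := k) ℳ 𝒩))

/-- **Künneth for the top**: if `cd_{mA} ≤ r`, `r ≥ 1` and `H^j_n(N) = 0` for `j > s`, then
`H^{r+s}_{mA+nA}(M ⊗ N) ≅ H^r_m(M) ⊗ H^s_n(N)`. -/
theorem kunneth_top (r s : ℕ) (hr : 1 ≤ r) (hcd : CdLE (extL (k := k) 𝒜 ℬ m) r)
    (hN : ∀ j, s < j → Subsingleton (EN.H n j))
    [Module k (EM.H m r)] [IsScalarTower k R (EM.H m r)]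
    [Module k (EN.H n s)] [IsScalarTower k S (EN.H n s)] (t : ℕ) (ht : t = r + s) :
    ∃ Θ : EX.H (extL (k := k) 𝒜 ℬ m ⊔ extR (k := k) 𝒜 ℬ n) t ≃ₗ[R ⊗[k] S]
        (EM.H m r) ⊗[k] (EN.H n s),
      (∀ p x, x ∈ EX.Hcomp (extL (k := k) 𝒜 ℬ m ⊔ extR (k := k) 𝒜 ℬ n) t p →
        Θ x ∈ biGr (k := k) (EM.Hgr m r) (EN.Hgr n s) p) ∧
      (∀ p y, y ∈ biGr (k := k) (EM.Hgr m r) (EN.Hgr n s) p →
        Θ.symm y ∈ EX.Hcomp (extL (k := k) 𝒜 ℬ m ⊔ extR (k := k) 𝒜 ℬ n) t p) := by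
  obtain ⟨r', rfl⟩ : ∃ r', r = r' + 1 := ⟨r - 1, by omega⟩
  letI : DirectSum.Decomposition (EN.Hgr n s) := (Hgr_isInternal ℬ 𝒩 EN n s).chooseDecomposition
  haveI : SetLike.GradedSMul ℬ (EN.Hgr n s) := Hgr_gradedSMul EN n s
  haveI : IsKGr k (EN.Hgr n s) := isKGr_of_gradedSMul ℬ _
  have hE : ∀ j, s < j → Subsingleton (EX.H (extR (k := k) 𝒜 ℬ n) j) :=
    fun j hj => subsingleton_H_extR_of n EN EX j (hN j hj)
  obtain ⟨Φr, hΦr, hΦr'⟩ := bc_right (k := k) 𝒜 ℬ ℳ 𝒩 n s EN EX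
  obtain ⟨G⟩ := nonempty_starInjRes (biGr (k := k) 𝒜 ℬ) (biGr (k := k) ℳ (EN.Hgr n s))
  obtain ⟨e, he, he'⟩ := composite_top (extL (k := k) 𝒜 ℬ m) (extR (k := k) 𝒜 ℬ n) r' hcd s
    (M ⊗[k] N) (biGr (k := k) ℳ 𝒩) EX hE (M ⊗[k] (EN.H n s)) (biGr (k := k) ℳ (EN.Hgr n s))
    Φr.symm
    (fun g x hx => by
      obtain ⟨w, hw, rfl⟩ := hΦr' g x hx
      rw [LinearEquiv.symm_apply_apply]
      exact hw)
    (fun g y hy => by
      rw [LinearEquiv.symm_symm]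
      exact hΦr g y hy) G t (by omega)
  obtain ⟨Φ, hΦ, hΦ'⟩ := bc_all (k := k) 𝒜 ℬ (EN.Hgr n s) m (r' + 1) M ℳ EM G
  refine ⟨e.trans Φ.symm, ?_, ?_⟩
  · intro p x hx
    obtain ⟨w, hw, hwe⟩ := hΦ' p _ (he p x hx)
    have : (e.trans Φ.symm) x = w := by
      change Φ.symm (e x) = w
      rw [← hwe, LinearEquiv.symm_apply_apply]
    rw [this]
    exact hw
  · intro p y hy
    have : (e.trans Φ.symm).symm y = e.symm (Φ y) := rfl
    rw [this]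
    exact he' p _ (hΦ p y hy)

end Kun

section Top

variable {k : Type u} [Field k] {R S T : Type u} [CommRing R] [CommRing S] [CommRing T]
  [Algebra k R] [Algebra k S] [Algebra k T]
variable {𝒜 : ℤ → AddSubgroup R} [GradedRing 𝒜] {ℬ : ℤ → AddSubgroup S} [GradedRing ℬ]
  [IsKAlgGr k 𝒜] [IsKAlgGr k ℬ]
variable {𝒯 : ℤ → AddSubgroup T} [GradedRing 𝒯] {ψ : T →ₐ[k] R ⊗[k] S}
variable [IsNoetherianRing R] [IsNoetherianRing S] [IsNoetherianRing (R ⊗[k] S)]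
variable {M N P : Type u} [AddCommGroup M] [Module R M] [Module k M] [IsScalarTower k R M]
  [AddCommGroup N] [Module S N] [Module k N] [IsScalarTower k S N]
  [AddCommGroup P] [Module T P] [Module k P] [IsScalarTower k T P]
variable {ℳ : ℤ → AddSubgroup M} [DirectSum.Decomposition ℳ] [SetLike.GradedSMul 𝒜 ℳ] [IsKGr k ℳ]
  {𝒩 : ℤ → AddSubgroup N} [DirectSum.Decomposition 𝒩] [SetLike.GradedSMul ℬ 𝒩] [IsKGr k 𝒩]
  {𝒬 : ℤ → AddSubgroup P} [DirectSum.Decomposition 𝒬] [SetLike.GradedSMul 𝒯 𝒬]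

/-- **Top local cohomology of a Segre product** (general case: only vanishing above `r`, `s`
is needed). -/
theorem top_cmp' (h : IsSeg 𝒜 ℬ 𝒯 ψ) (m : HomogeneousIdeal 𝒜)
    (n : HomogeneousIdeal ℬ) (mT : HomogeneousIdeal 𝒯) (hm : m.toIdeal = irrI 𝒜)
    (hn : n.toIdeal = irrI ℬ) (hmT : mT.toIdeal = irrI 𝒯)
    {φ : P →ₗ[k] M ⊗[k] N} (hP : GrSeg.IsSegreMod ψ ℳ 𝒩 𝒬 φ)
    (EM : StarInjRes 𝒜 ℳ) (EN : StarInjRes ℬ 𝒩) (EP : StarInjRes 𝒯 𝒬) (r s : ℕ)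
    (h2r : 2 ≤ r) (h2s : 2 ≤ s) (hcd : CdLE (extL (k := k) 𝒜 ℬ m) r)
    (hM : ∀ i, r < i → Subsingleton (EM.H m i)) (hN : ∀ j, s < j → Subsingleton (EN.H n j))
    [Module k (EM.H m r)] [IsScalarTower k R (EM.H m r)]
    [Module k (EN.H n s)] [IsScalarTower k S (EN.H n s)]
    (q : ℕ) (hq : q + 1 = r + s) :
    ∃ Λ : EP.H mT q →ₛₗ[(ψ : T →+* R ⊗[k] S)] (EM.H m r) ⊗[k] (EN.H n s),
      Function.Injective Λ ∧
      (∀ d x, x ∈ EP.Hcomp mT q d →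
        Λ x ∈ biGr (k := k) (EM.Hgr m r) (EN.Hgr n s) (d, d)) ∧
      (∀ d y, y ∈ biGr (k := k) (EM.Hgr m r) (EN.Hgr n s) (d, d) →
        ∃ x ∈ EP.Hcomp mT q d, Λ x = y) := by
  obtain ⟨EX⟩ := nonempty_starInjRes (biGr (k := k) 𝒜 ℬ) (biGr (k := k) ℳ 𝒩)
  obtain ⟨Θ, hΘ1, hΘ2⟩ := kunneth_top m n EM EN EX r s (by omega) hcd hN (q + 1) hq
  obtain ⟨Ψ, hΨi, hΨ, hΨ'⟩ := diag_cmp h m n mT hm hn hmT hP EX EP q
  have ha : Subsingleton (EX.H (extL (k := k) 𝒜 ℬ m) q) :=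
    subsingleton_H_extL_of m EM EX q (hM q (by omega))
  have hb : Subsingleton (EX.H (extR (k := k) 𝒜 ℬ n) q) :=
    subsingleton_H_extR_of n EN EX q (hN q (by omega))
  have ha' : Subsingleton (EX.H (extL (k := k) 𝒜 ℬ m) (q + 1)) :=
    subsingleton_H_extL_of m EM EX (q + 1) (hM (q + 1) (by omega))
  have hb' : Subsingleton (EX.H (extR (k := k) 𝒜 ℬ n) (q + 1)) :=
    subsingleton_H_extR_of n EN EX (q + 1) (hN (q + 1) (by omega))
  obtain ⟨e, he, he'⟩ := exists_equiv_delta EX (extL (k := k) 𝒜 ℬ m) (extR (k := k) 𝒜 ℬ n) q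
    ha hb ha' hb'
  let Λ : EP.H mT q →ₛₗ[(ψ : T →+* R ⊗[k] S)] (EM.H m r) ⊗[k] (EN.H n s) :=
    { toFun := fun x => Θ (e (Ψ x))
      map_add' := fun x y => by rw [map_add, map_add, map_add]
      map_smul' := fun t x => by
        rw [map_smulₛₗ, map_smul, map_smul] }
  refine ⟨Λ, ?_, ?_, ?_⟩
  · intro x y hxy
    exact hΨi (e.injective (Θ.injective hxy))
  · intro d x hx
    have h1 := hΨ d x hx
    rw [diagHom_apply] at h1
    exact hΘ1 _ _ (he _ _ h1)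
  · intro d y hy
    have h1 := he' _ _ (hΘ2 _ y hy)
    obtain ⟨x, hx, hxe⟩ := hΨ' d _ (by rw [diagHom_apply]; exact h1)
    refine ⟨x, hx, ?_⟩
    change Θ (e (Ψ x)) = y
    rw [hxe, LinearEquiv.apply_symm_apply, LinearEquiv.apply_symm_apply]

/-- **The top local cohomology of a Segre product is the Segre product of the top local
cohomologies** (general case), in the form of a Segre module presentation, for any shift. -/
theorem exists_isSegreMod_top' (h : IsSeg 𝒜 ℬ 𝒯 ψ) (m : HomogeneousIdeal 𝒜)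
    (n : HomogeneousIdeal ℬ) (mT : HomogeneousIdeal 𝒯) (hm : m.toIdeal = irrI 𝒜)
    (hn : n.toIdeal = irrI ℬ) (hmT : mT.toIdeal = irrI 𝒯)
    {φ : P →ₗ[k] M ⊗[k] N} (hP : GrSeg.IsSegreMod ψ ℳ 𝒩 𝒬 φ)
    (EM : StarInjRes 𝒜 ℳ) (EN : StarInjRes ℬ 𝒩) (EP : StarInjRes 𝒯 𝒬) (r s : ℕ)
    (h2r : 2 ≤ r) (h2s : 2 ≤ s) (hcd : CdLE (extL (k := k) 𝒜 ℬ m) r)
    (hM : ∀ i, r < i → Subsingleton (EM.H m i)) (hN : ∀ j, s < j → Subsingleton (EN.H n j))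
    [Module k (EM.H m r)] [IsScalarTower k R (EM.H m r)]
    [Module k (EN.H n s)] [IsScalarTower k S (EN.H n s)]
    (q : ℕ) (hq : q + 1 = r + s)
    [Module k (EP.H mT q)] [IsScalarTower k T (EP.H mT q)] (c : ℤ)
    [DirectSum.Decomposition (shiftGr (EP.Hgr mT q) c)] :
    ∃ φ' : EP.H mT q →ₗ[k] (EM.H m r) ⊗[k] (EN.H n s),
      GrSeg.IsSegreMod ψ (shiftGr (EM.Hgr m r) c) (shiftGr (EN.Hgr n s) c)
        (shiftGr (EP.Hgr mT q) c) φ' := by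
  obtain ⟨Λ, hΛi, hΛ, hΛ'⟩ :=
    top_cmp' h m n mT hm hn hmT hP EM EN EP r s h2r h2s hcd hM hN q hq
  let φ' : EP.H mT q →ₗ[k] (EM.H m r) ⊗[k] (EN.H n s) :=
    { toFun := fun x => Λ x
      map_add' := fun x y => map_add Λ x y
      map_smul' := fun a x => by
        rw [← algebraMap_smul T a x, map_smulₛₗ]
        change (ψ (algebraMap k T a)) • Λ x = _
        rw [AlgHom.commutes, algebraMap_smul]
        rfl }
  refine ⟨φ', hΛi, ?_, ?_⟩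
  · intro d
    ext y
    constructor
    · rintro ⟨x, hx, rfl⟩
      exact hΛ (d + c) x hx
    · intro hy
      obtain ⟨x, hx, hxy⟩ := hΛ' (d + c) y hy
      exact ⟨x, hx, hxy⟩
  · intro t p
    change Λ (t • p) = _
    rw [map_smulₛₗ]
    rfl

end Top

end Groth.Agent.Lib.Helper11.Seg
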