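import Mathlib

/-!
# The Künneth formula for cochain complexes of vector spaces (full-product formulation)

For cochain complexes `C`, `D` of `k`-vector spaces indexed by `ℕ` we consider the full product
`TT C D = Π (p, q), C^p ⊗ D^q` with the total differential; the total complex in degree `j` is the
submodule `supp j` of families supported on `p + q = j`.
-/

set_option autoImplicit false
set_option linter.unusedSectionVars false
set_option linter.unusedVariables false
set_option linter.style.haveILetI false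
universe u

open scoped TensorProduct

namespace Groth.Agent.Lib.Helper11.Kun

/-- a cochain complex of `k`-vector spaces in degrees `≥ 0`. -/
structure Cx (k : Type u) [Field k] where
  X : ℕ → Type u
  [acg : ∀ p, AddCommGroup (X p)]
  [mod : ∀ p, Module k (X p)]
  d : ∀ p, X p →ₗ[k] X (p + 1)
  dd : ∀ p x, d (p + 1) (d p x) = 0

attribute [instance] Cx.acg Cx.mod

variable {k : Type u} [Field k]

namespace Cx

variable (C : Cx k)

/-- cocycles -/
def Z (p : ℕ) : Submodule k (C.X p) := LinearMap.ker (C.d p)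

/-- coboundaries -/
def B : (p : ℕ) → Submodule k (C.X p)
  | 0 => ⊥
  | p + 1 => LinearMap.range (C.d p)

lemma B_le_Z (p : ℕ) : C.B p ≤ C.Z p := by
  cases p with
  | zero => exact bot_le
  | succ p =>
    rintro _ ⟨x, rfl⟩
    exact LinearMap.mem_ker.mpr (C.dd p x)

/-- cohomology -/
abbrev Hm (p : ℕ) : Type u := ↥(C.Z p) ⧸ (C.B p).comap (C.Z p).subtype

/-- a contracting datum: `d h d = d`. -/
structure Htpy where
  h : ∀ p, C.X (p + 1) →ₗ[k] C.X p
  dhd : ∀ p x, C.d p (h p (C.d p x)) = C.d p x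

theorem nonempty_htpy : Nonempty C.Htpy := by
  classical
  have key : ∀ p, ∃ h : C.X (p + 1) →ₗ[k] C.X p, ∀ x, C.d p (h (C.d p x)) = C.d p x := by
    intro p
    obtain ⟨s, hs⟩ := (C.d p).rangeRestrict.exists_rightInverse_of_surjective
      (LinearMap.range_rangeRestrict _)
    obtain ⟨r, hr⟩ := (LinearMap.range (C.d p)).subtype.exists_leftInverse_of_injective
      (by rw [Submodule.ker_subtype])
    refine ⟨s ∘ₗ r, fun x => ?_⟩
    have h1 : r (C.d p x) = (C.d p).rangeRestrict x := by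
      have := LinearMap.congr_fun hr ((C.d p).rangeRestrict x)
      exact this
    have h2 : (C.d p).rangeRestrict (s ((C.d p).rangeRestrict x)) = (C.d p).rangeRestrict x := by
      have := LinearMap.congr_fun hs ((C.d p).rangeRestrict x)
      exact this
    rw [LinearMap.comp_apply, h1]
    have := congrArg Subtype.val h2
    simpa using this
  choose h hh using key
  exact ⟨⟨h, hh⟩⟩

variable {C} (S : C.Htpy)

/-- `d h` in degree `p` (zero in degree `0`). -/
def Htpy.dh : (p : ℕ) → C.X p →ₗ[k] C.X p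
  | 0 => 0
  | p + 1 => C.d p ∘ₗ S.h p

/-- the projection onto harmonic representatives. -/
def Htpy.π (p : ℕ) : C.X p →ₗ[k] C.X p := LinearMap.id - S.dh p - S.h p ∘ₗ C.d p

lemma Htpy.d_dh (p : ℕ) (x : C.X p) : C.d p (S.dh p x) = 0 := by
  cases p with
  | zero => simp [Htpy.dh]
  | succ p => simp [Htpy.dh, C.dd]

lemma Htpy.dh_d (p : ℕ) (x : C.X p) : S.dh (p + 1) (C.d p x) = C.d p x := by
  simp [Htpy.dh, S.dhd]

lemma Htpy.d_π (p : ℕ) (x : C.X p) : C.d p (S.π p x) = 0 := by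
  simp [Htpy.π, S.d_dh, S.dhd]

lemma Htpy.π_d (p : ℕ) (x : C.X p) : S.π (p + 1) (C.d p x) = 0 := by
  simp [Htpy.π, S.dh_d, C.dd]

lemma Htpy.π_mem_Z (p : ℕ) (x : C.X p) : S.π p x ∈ C.Z p := LinearMap.mem_ker.mpr (S.d_π p x)

lemma Htpy.π_of_mem_B (p : ℕ) {x : C.X p} (hx : x ∈ C.B p) : S.π p x = 0 := by
  cases p with
  | zero =>
    have : x = 0 := (Submodule.mem_bot k).mp hx
    rw [this, map_zero]
  | succ p =>
    obtain ⟨y, rfl⟩ := hx
    exact S.π_d p y

lemma Htpy.sub_π_mem_B (p : ℕ) {z : C.X p} (hz : z ∈ C.Z p) : z - S.π p z ∈ C.B p := by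
  have hz' : C.d p z = 0 := LinearMap.mem_ker.mp hz
  cases p with
  | zero =>
    have : z - S.π 0 z = 0 := by simp [Htpy.π, Htpy.dh, hz']
    rw [this]
    exact zero_mem _
  | succ p =>
    have : z - S.π (p + 1) z = C.d p (S.h p z) := by simp [Htpy.π, Htpy.dh, hz']
    rw [this]
    exact ⟨_, rfl⟩

/-- the class of the harmonic projection. -/
def Htpy.ρ (p : ℕ) : C.X p →ₗ[k] C.Hm p :=
  ((C.B p).comap (C.Z p).subtype).mkQ ∘ₗ (S.π p).codRestrict (C.Z p) (S.π_mem_Z p)

/-- harmonic representatives. -/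
def Htpy.ι (p : ℕ) : C.Hm p →ₗ[k] C.X p :=
  ((C.B p).comap (C.Z p).subtype).liftQ (S.π p ∘ₗ (C.Z p).subtype) (by
    intro z hz
    exact LinearMap.mem_ker.mpr (S.π_of_mem_B p hz))

lemma Htpy.ι_mk (p : ℕ) (z : C.Z p) :
    S.ι p (((C.B p).comap (C.Z p).subtype).mkQ z) = S.π p z := rfl

lemma Htpy.ρ_d (p : ℕ) (x : C.X p) : S.ρ (p + 1) (C.d p x) = 0 := by
  unfold Htpy.ρ
  rw [LinearMap.comp_apply]
  have : (S.π (p + 1)).codRestrict (C.Z (p + 1)) (S.π_mem_Z (p + 1)) (C.d p x) = 0 := by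
    apply Subtype.ext
    exact S.π_d p x
  rw [this, map_zero]

lemma Htpy.d_ι (p : ℕ) (t : C.Hm p) : C.d p (S.ι p t) = 0 := by
  obtain ⟨z, rfl⟩ := Submodule.mkQ_surjective _ t
  rw [S.ι_mk]
  exact S.d_π p z

lemma Htpy.ι_ρ (p : ℕ) (x : C.X p) : S.ι p (S.ρ p x) = S.π p (S.π p x) := rfl

lemma Htpy.ρ_ι (p : ℕ) (t : C.Hm p) : S.ρ p (S.ι p t) = t := by
  obtain ⟨z, rfl⟩ := Submodule.mkQ_surjective _ t
  rw [S.ι_mk]
  unfold Htpy.ρ
  rw [LinearMap.comp_apply]
  symm
  rw [← sub_eq_zero, ← map_sub, Submodule.mkQ_apply, Submodule.Quotient.mk_eq_zero,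
    Submodule.mem_comap]
  have h1 := S.sub_π_mem_B p z.2
  have h2 := S.sub_π_mem_B p (S.π_mem_Z p (z : C.X p))
  have e : (C.Z p).subtype (z - (S.π p).codRestrict (C.Z p) (S.π_mem_Z p) (S.π p (z : C.X p))) =
      ((z : C.X p) - S.π p z) + (S.π p z - S.π p (S.π p z)) := by
    change (z : C.X p) - S.π p (S.π p z) = _
    abel
  rw [e]
  exact add_mem h1 h2

/-- if the cohomology vanishes then `π² = 0`. -/
lemma Htpy.π_π_eq_zero (p : ℕ) (h : Subsingleton (C.Hm p)) (x : C.X p) :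
    S.π p (S.π p x) = 0 := by
  rw [← S.ι_ρ, h.elim (S.ρ p x) 0, map_zero]

end Cx

end Groth.Agent.Lib.Helper11.Kun
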