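import Groth.Agent.Lib.Helper11.GrKunD

/-!
# The total complex on the full product and the contracting homotopy
-/

set_option autoImplicit false
set_option linter.unusedSectionVars false
set_option linter.unusedVariables false
set_option linter.style.haveILetI false
set_option maxHeartbeats 1000000
universe u

open scoped TensorProduct

namespace Groth.Agent.Lib.Helper11.Kun

variable {k : Type u} [Field k] (C D : Cx k)

/-- the full product of the `C^p ⊗ D^q`. -/
abbrev TT : Type u := (pq : ℕ × ℕ) → C.X pq.1 ⊗[k] D.X pq.2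

/-- the sign `(-1)^p`. -/
def sg (k : Type u) [Field k] (p : ℕ) : k := (-1) ^ p

lemma sg_succ (p : ℕ) : sg k (p + 1) = - sg k p := by
  unfold sg; rw [pow_succ]; ring

lemma sg_mul_self (p : ℕ) : sg k p * sg k p = 1 := by
  unfold sg; rw [← pow_add, ← two_mul, pow_mul]; simp

/-- the horizontal part of the total differential. -/
def dL : (pq : ℕ × ℕ) → TT C D →ₗ[k] C.X pq.1 ⊗[k] D.X pq.2
  | (0, _) => 0
  | (p + 1, q) => TensorProduct.map (C.d p) LinearMap.id ∘ₗ LinearMap.proj (p, q)

/-- the vertical part of the total differential. -/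
def dR : (pq : ℕ × ℕ) → TT C D →ₗ[k] C.X pq.1 ⊗[k] D.X pq.2
  | (_, 0) => 0
  | (p, q + 1) => sg k p • (TensorProduct.map LinearMap.id (D.d q) ∘ₗ LinearMap.proj (p, q))

/-- the total differential. -/
def Dtot : TT C D →ₗ[k] TT C D := LinearMap.pi (fun pq => dL C D pq + dR C D pq)

variable {C D} (S : C.Htpy) (S' : D.Htpy)

/-- the total homotopy. -/
def Htot : TT C D →ₗ[k] TT C D := LinearMap.pi (fun pq =>
  TensorProduct.map (S.h pq.1) LinearMap.id ∘ₗ LinearMap.proj (pq.1 + 1, pq.2) +
    sg k pq.1 • (TensorProduct.map (S.π pq.1) (S'.h pq.2) ∘ₗ LinearMap.proj (pq.1, pq.2 + 1)))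

/-- the total projection. -/
def Ptot : TT C D →ₗ[k] TT C D := LinearMap.pi (fun pq =>
  TensorProduct.map (S.π pq.1) (S'.π pq.2) ∘ₗ LinearMap.proj pq)

lemma Dtot_zero_zero (w : TT C D) : Dtot C D w (0, 0) = 0 := by
  simp [Dtot, dL, dR]

lemma Dtot_succ_zero (w : TT C D) (p : ℕ) :
    Dtot C D w (p + 1, 0) = TensorProduct.map (C.d p) LinearMap.id (w (p, 0)) := by
  simp [Dtot, dL, dR]

lemma Dtot_zero_succ (w : TT C D) (q : ℕ) :
    Dtot C D w (0, q + 1) = sg k 0 • TensorProduct.map LinearMap.id (D.d q) (w (0, q)) := by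
  simp [Dtot, dL, dR]

lemma Dtot_succ_succ (w : TT C D) (p q : ℕ) :
    Dtot C D w (p + 1, q + 1) = TensorProduct.map (C.d p) LinearMap.id (w (p, q + 1)) +
      sg k (p + 1) • TensorProduct.map LinearMap.id (D.d q) (w (p + 1, q)) := by
  simp [Dtot, dL, dR]

lemma Htot_apply (w : TT C D) (p q : ℕ) :
    Htot S S' w (p, q) = TensorProduct.map (S.h p) LinearMap.id (w (p + 1, q)) +
      sg k p • TensorProduct.map (S.π p) (S'.h q) (w (p, q + 1)) := by
  simp [Htot]

lemma Ptot_apply (w : TT C D) (p q : ℕ) :
    Ptot S S' w (p, q) = TensorProduct.map (S.π p) (S'.π q) (w (p, q)) := by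
  simp [Ptot]

lemma Cx.Htpy.d_comp_π (p : ℕ) : C.d p ∘ₗ S.π p = 0 := by
  ext x; exact S.d_π p x

lemma Cx.Htpy.π_comp_d (p : ℕ) : S.π (p + 1) ∘ₗ C.d p = 0 := by
  ext x; exact S.π_d p x

lemma Cx.Htpy.dh_add (p : ℕ) : S.dh p + S.h p ∘ₗ C.d p = LinearMap.id - S.π p := by
  unfold Cx.Htpy.π; abel

/-- the diagonal coefficient of the homotopy identity. -/
lemma coeff_diag (p q : ℕ) (x : C.X p ⊗[k] D.X q) :
    TensorProduct.map (S.dh p + S.h p ∘ₗ C.d p) LinearMap.id x +
      TensorProduct.map (S.π p) (S'.dh q + S'.h q ∘ₗ D.d q) x =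
      x - TensorProduct.map (S.π p) (S'.π q) x := by
  rw [S.dh_add, S'.dh_add]
  induction x using TensorProduct.induction_on with
  | zero => simp
  | tmul a b =>
    simp only [TensorProduct.map_tmul, LinearMap.sub_apply, LinearMap.id_apply,
      TensorProduct.sub_tmul, TensorProduct.tmul_sub]
    abel
  | add x y hx hy =>
    rw [map_add, map_add, map_add]
    have e : x + y - (TensorProduct.map (S.π p) (S'.π q) x + TensorProduct.map (S.π p) (S'.π q) y)
        = (x - TensorProduct.map (S.π p) (S'.π q) x) +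
          (y - TensorProduct.map (S.π p) (S'.π q) y) := by abel
    rw [e, ← hx, ← hy]
    abel

lemma sg_zero : sg k 0 = 1 := by simp [sg]

/-- **the homotopy identity** `D H + H D = 1 - π ⊗ π` on the full product. -/
theorem htpy_identity (w : TT C D) (pq : ℕ × ℕ) :
    Dtot C D (Htot S S' w) pq + Htot S S' (Dtot C D w) pq = w pq - Ptot S S' w pq := by
  obtain ⟨p, q⟩ := pq
  rw [Ptot_apply, ← coeff_diag S S' p q (w (p, q))]
  cases p with
  | zero =>
    cases q with
    | zero =>
      rw [Dtot_zero_zero, Htot_apply, Dtot_succ_zero, Dtot_zero_succ]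
      simp only [map_smul, TensorProduct.map_map, smul_smul, sg_zero, one_smul, mul_one,
        LinearMap.comp_id, LinearMap.id_comp, Cx.Htpy.dh, zero_add, TensorProduct.map_add_right,
        LinearMap.add_apply, TensorProduct.map_zero_right, LinearMap.zero_apply]
    | succ q =>
      rw [Dtot_zero_succ, Htot_apply, Htot_apply, Dtot_succ_succ, Dtot_zero_succ]
      simp only [map_smul, map_add, TensorProduct.map_map, smul_smul, sg_zero, one_smul, mul_one,
        LinearMap.comp_id, LinearMap.id_comp, Cx.Htpy.dh, zero_add, TensorProduct.map_add_right,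
        LinearMap.add_apply, smul_add, sg_succ, one_mul, neg_smul, map_neg, smul_neg, neg_neg]
      abel
  | succ p =>
    cases q with
    | zero =>
      rw [Dtot_succ_zero, Htot_apply, Htot_apply, Dtot_succ_zero, Dtot_succ_succ]
      simp only [map_smul, map_add, TensorProduct.map_map, smul_smul, sg_mul_self, one_smul,
        LinearMap.comp_id, LinearMap.id_comp, Cx.Htpy.dh, zero_add, TensorProduct.map_add_right,
        TensorProduct.map_add_left, LinearMap.add_apply, smul_add, S.d_comp_π, S.π_comp_d,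
        TensorProduct.map_zero_left, TensorProduct.map_zero_right, LinearMap.zero_apply,
        smul_zero, add_zero]
      abel
    | succ q =>
      rw [Dtot_succ_succ, Htot_apply, Htot_apply, Htot_apply, Dtot_succ_succ, Dtot_succ_succ]
      simp only [map_smul, map_add, TensorProduct.map_map, smul_smul, sg_mul_self, one_smul,
        LinearMap.comp_id, LinearMap.id_comp, Cx.Htpy.dh, zero_add, TensorProduct.map_add_right,
        TensorProduct.map_add_left, LinearMap.add_apply, smul_add, S.d_comp_π, S.π_comp_d,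
        TensorProduct.map_zero_left, TensorProduct.map_zero_right, LinearMap.zero_apply,
        smul_zero, add_zero, sg_succ, neg_smul, neg_neg, mul_neg, neg_mul, map_neg, smul_neg]
      abel

end Groth.Agent.Lib.Helper11.Kun
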