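import Groth.Agent.Lib.Helper11.GrKunD2

/-!
# The Künneth isomorphism for the total complex on the full product
-/

set_option autoImplicit false
set_option linter.unusedSectionVars false
set_option linter.unusedVariables false
set_option linter.unusedSimpArgs false
set_option linter.style.haveILetI false
set_option maxHeartbeats 1000000
universe u

open scoped TensorProduct

namespace Groth.Agent.Lib.Helper11.Kun

variable {k : Type u} [Field k] (C D : Cx k)

lemma Cx.d_comp_d (p : ℕ) : C.d (p + 1) ∘ₗ C.d p = 0 := by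
  ext x; exact C.dd p x

/-- `D² = 0`. -/
theorem Dtot_Dtot (w : TT C D) : Dtot C D (Dtot C D w) = 0 := by
  funext pq
  obtain ⟨p, q⟩ := pq
  rw [Pi.zero_apply]
  rcases p with _ | _ | p <;> rcases q with _ | _ | q <;>
    simp only [Dtot_zero_zero, Dtot_zero_succ, Dtot_succ_zero, Dtot_succ_succ,
      map_smul, map_add, map_neg, map_zero, TensorProduct.map_map, LinearMap.comp_id,
      LinearMap.id_comp, sg_succ, sg_zero, one_smul, neg_smul, smul_neg, neg_neg, smul_add,
      smul_zero, add_zero, zero_add, neg_zero, C.d_comp_d, D.d_comp_d,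
      TensorProduct.map_zero_left, TensorProduct.map_zero_right, LinearMap.zero_apply, smul_smul,
      add_neg_cancel, neg_add_cancel] <;>
    try abel

/-- families supported on the antidiagonal `p + q = j`. -/
def supp (j : ℕ) : Submodule k (TT C D) where
  carrier := {w | ∀ pq : ℕ × ℕ, pq.1 + pq.2 ≠ j → w pq = 0}
  zero_mem' := fun _ _ => rfl
  add_mem' := by
    intro a b ha hb pq h
    rw [Pi.add_apply, ha pq h, hb pq h, add_zero]
  smul_mem' := by
    intro c a ha pq h
    rw [Pi.smul_apply, ha pq h, smul_zero]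

variable {C D}

lemma mem_supp {j : ℕ} {w : TT C D} :
    w ∈ supp C D j ↔ ∀ pq : ℕ × ℕ, pq.1 + pq.2 ≠ j → w pq = 0 := Iff.rfl

lemma Dtot_mem_supp {j : ℕ} {w : TT C D} (hw : w ∈ supp C D j) :
    Dtot C D w ∈ supp C D (j + 1) := by
  rintro ⟨p, q⟩ h
  cases p with
  | zero =>
    cases q with
    | zero => exact Dtot_zero_zero w
    | succ q =>
      rw [Dtot_zero_succ, hw (0, q) (by simp at h ⊢; omega), map_zero, smul_zero]
  | succ p =>
    cases q with
    | zero =>
      rw [Dtot_succ_zero, hw (p, 0) (by simp at h ⊢; omega), map_zero]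
    | succ q =>
      rw [Dtot_succ_succ, hw (p, q + 1) (by simp at h ⊢; omega),
        hw (p + 1, q) (by simp at h ⊢; omega), map_zero, map_zero, smul_zero, add_zero]

variable (S : C.Htpy) (S' : D.Htpy)

lemma Htot_mem_supp {j : ℕ} {w : TT C D} (hw : w ∈ supp C D (j + 1)) :
    Htot S S' w ∈ supp C D j := by
  rintro ⟨p, q⟩ h
  rw [Htot_apply, hw (p + 1, q) (by simp at h ⊢; omega), hw (p, q + 1) (by simp at h ⊢; omega),
    map_zero, map_zero, smul_zero, add_zero]

lemma Htot_eq_zero_of_supp_zero {w : TT C D} (hw : w ∈ supp C D 0) : Htot S S' w = 0 := by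
  funext pq
  obtain ⟨p, q⟩ := pq
  rw [Htot_apply, hw (p + 1, q) (by simp), hw (p, q + 1) (by simp),
    map_zero, map_zero, smul_zero, add_zero]
  rfl

lemma Ptot_mem_supp {j : ℕ} {w : TT C D} (hw : w ∈ supp C D j) :
    Ptot S S' w ∈ supp C D j := by
  rintro ⟨p, q⟩ h
  rw [Ptot_apply, hw (p, q) h, map_zero]

/-- for a cocycle `w`: `w = P w + D (H w)`. -/
lemma eq_Ptot_add {w : TT C D} (hw : Dtot C D w = 0) :
    w = Ptot S S' w + Dtot C D (Htot S S' w) := by
  funext pq
  have h := htpy_identity S S' w pq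
  rw [hw, map_zero, Pi.zero_apply, add_zero] at h
  rw [Pi.add_apply, h]
  abel

lemma Dtot_Ptot (w : TT C D) (hw : Dtot C D w = 0) : Dtot C D (Ptot S S' w) = 0 := by
  have h := eq_Ptot_add S S' hw
  have h2 : Ptot S S' w = w - Dtot C D (Htot S S' w) := by
    rw [eq_sub_iff_add_eq]; exact h.symm
  rw [h2, map_sub, hw, Dtot_Dtot, sub_zero]

/-- for a cocycle `w`: `w = P² w + D (H P w + H w)`. -/
lemma eq_Ptot_Ptot_add {w : TT C D} (hw : Dtot C D w = 0) :
    w = Ptot S S' (Ptot S S' w) + Dtot C D (Htot S S' (Ptot S S' w) + Htot S S' w) := by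
  have h1 := eq_Ptot_add S S' hw
  have h2 := eq_Ptot_add S S' (Dtot_Ptot S S' w hw)
  rw [map_add]
  calc w = Ptot S S' w + Dtot C D (Htot S S' w) := h1
    _ = (Ptot S S' (Ptot S S' w) + Dtot C D (Htot S S' (Ptot S S' w))) +
          Dtot C D (Htot S S' w) := by rw [← h2]
    _ = _ := by abel

/-! ### the Künneth target -/

variable (C D) in
/-- the full product of the `H^p(C) ⊗ H^q(D)`. -/
abbrev KK : Type u := (pq : ℕ × ℕ) → C.Hm pq.1 ⊗[k] D.Hm pq.2

variable (C D) in
/-- Künneth classes supported on the antidiagonal. -/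
def suppK (j : ℕ) : Submodule k (KK C D) where
  carrier := {t | ∀ pq : ℕ × ℕ, pq.1 + pq.2 ≠ j → t pq = 0}
  zero_mem' := fun _ _ => rfl
  add_mem' := by
    intro a b ha hb pq h
    rw [Pi.add_apply, ha pq h, hb pq h, add_zero]
  smul_mem' := by
    intro c a ha pq h
    rw [Pi.smul_apply, ha pq h, smul_zero]

/-- classes of the harmonic projections, componentwise. -/
def Rtot : TT C D →ₗ[k] KK C D := LinearMap.pi (fun pq =>
  TensorProduct.map (S.ρ pq.1) (S'.ρ pq.2) ∘ₗ LinearMap.proj pq)

/-- harmonic representatives, componentwise. -/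
def Itot : KK C D →ₗ[k] TT C D := LinearMap.pi (fun pq =>
  TensorProduct.map (S.ι pq.1) (S'.ι pq.2) ∘ₗ LinearMap.proj pq)

lemma Rtot_apply (w : TT C D) (pq : ℕ × ℕ) :
    Rtot S S' w pq = TensorProduct.map (S.ρ pq.1) (S'.ρ pq.2) (w pq) := rfl

lemma Itot_apply (t : KK C D) (pq : ℕ × ℕ) :
    Itot S S' t pq = TensorProduct.map (S.ι pq.1) (S'.ι pq.2) (t pq) := rfl

lemma Cx.Htpy.ρ_comp_d (p : ℕ) : S.ρ (p + 1) ∘ₗ C.d p = 0 := by
  ext x; exact S.ρ_d p x

lemma Cx.Htpy.d_comp_ι (p : ℕ) : C.d p ∘ₗ S.ι p = 0 :=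
  LinearMap.ext fun x => S.d_ι p x

lemma Cx.Htpy.ρ_comp_ι (p : ℕ) : S.ρ p ∘ₗ S.ι p = LinearMap.id :=
  LinearMap.ext fun x => S.ρ_ι p x

lemma Cx.Htpy.ι_comp_ρ (p : ℕ) : S.ι p ∘ₗ S.ρ p = S.π p ∘ₗ S.π p := by
  ext x; exact S.ι_ρ p x

lemma Rtot_Dtot (w : TT C D) : Rtot S S' (Dtot C D w) = 0 := by
  funext pq
  obtain ⟨p, q⟩ := pq
  rw [Rtot_apply]
  cases p with
  | zero =>
    cases q with
    | zero => rw [Dtot_zero_zero, map_zero]; rfl
    | succ q =>
      rw [Dtot_zero_succ]
      simp only [map_smul, TensorProduct.map_map, S'.ρ_comp_d, TensorProduct.map_zero_right,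
        LinearMap.zero_apply, smul_zero]
      rfl
  | succ p =>
    cases q with
    | zero =>
      rw [Dtot_succ_zero]
      simp only [TensorProduct.map_map, S.ρ_comp_d, TensorProduct.map_zero_left,
        LinearMap.zero_apply]
      rfl
    | succ q =>
      rw [Dtot_succ_succ]
      simp only [map_add, map_smul, TensorProduct.map_map, S.ρ_comp_d, S'.ρ_comp_d,
        TensorProduct.map_zero_left, TensorProduct.map_zero_right, LinearMap.zero_apply,
        smul_zero, add_zero]
      rfl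

lemma Dtot_Itot (t : KK C D) : Dtot C D (Itot S S' t) = 0 := by
  funext pq
  obtain ⟨p, q⟩ := pq
  cases p with
  | zero =>
    cases q with
    | zero => rw [Dtot_zero_zero]; rfl
    | succ q =>
      rw [Dtot_zero_succ, Itot_apply]
      simp only [TensorProduct.map_map, S'.d_comp_ι, TensorProduct.map_zero_right,
        LinearMap.zero_apply, smul_zero]
      rfl
  | succ p =>
    cases q with
    | zero =>
      rw [Dtot_succ_zero, Itot_apply]
      simp only [TensorProduct.map_map, S.d_comp_ι, TensorProduct.map_zero_left,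
        LinearMap.zero_apply]
      rfl
    | succ q =>
      rw [Dtot_succ_succ, Itot_apply, Itot_apply]
      simp only [TensorProduct.map_map, S.d_comp_ι, S'.d_comp_ι,
        TensorProduct.map_zero_left, TensorProduct.map_zero_right, LinearMap.zero_apply,
        smul_zero, add_zero]
      rfl

lemma Rtot_Itot (t : KK C D) : Rtot S S' (Itot S S' t) = t := by
  funext pq
  rw [Rtot_apply, Itot_apply, TensorProduct.map_map, S.ρ_comp_ι, S'.ρ_comp_ι,
    TensorProduct.map_id, LinearMap.id_apply]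

lemma Itot_Rtot (w : TT C D) : Itot S S' (Rtot S S' w) = Ptot S S' (Ptot S S' w) := by
  funext pq
  obtain ⟨p, q⟩ := pq
  rw [Itot_apply, Rtot_apply, TensorProduct.map_map, S.ι_comp_ρ, S'.ι_comp_ρ, Ptot_apply,
    Ptot_apply, TensorProduct.map_map]

lemma Rtot_mem_suppK {j : ℕ} {w : TT C D} (hw : w ∈ supp C D j) :
    Rtot S S' w ∈ suppK C D j := by
  intro pq h
  rw [Rtot_apply, hw pq h, map_zero]

lemma Itot_mem_supp {j : ℕ} {t : KK C D} (ht : t ∈ suppK C D j) :
    Itot S S' t ∈ supp C D j := by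
  intro pq h
  rw [Itot_apply, ht pq h, map_zero]

/-- **Künneth, injectivity**: a cocycle of total degree `j + 1` with vanishing Künneth class is
the differential of a family of total degree `j`. -/
theorem exists_Dtot_eq {j : ℕ} {w : TT C D} (hw : w ∈ supp C D (j + 1))
    (hd : Dtot C D w = 0) (hR : Rtot S S' w = 0) :
    ∃ v ∈ supp C D j, Dtot C D v = w := by
  refine ⟨Htot S S' (Ptot S S' w) + Htot S S' w,
    add_mem (Htot_mem_supp S S' (Ptot_mem_supp S S' hw)) (Htot_mem_supp S S' hw), ?_⟩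
  have h := eq_Ptot_Ptot_add S S' hd
  rw [← Itot_Rtot, hR, map_zero, zero_add] at h
  exact h.symm

/-- in total degree `0` a cocycle with vanishing Künneth class vanishes. -/
theorem eq_zero_of_supp_zero {w : TT C D} (hw : w ∈ supp C D 0)
    (hd : Dtot C D w = 0) (hR : Rtot S S' w = 0) : w = 0 := by
  have h := eq_Ptot_Ptot_add S S' hd
  rw [← Itot_Rtot, hR, map_zero, zero_add,
    Htot_eq_zero_of_supp_zero S S' hw, Htot_eq_zero_of_supp_zero S S' (Ptot_mem_supp S S' hw),
    add_zero, map_zero] at h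
  exact h

/-- in total degree `0` a cocycle is fixed by `P`. -/
theorem eq_Ptot_of_supp_zero {w : TT C D} (hw : w ∈ supp C D 0) (hd : Dtot C D w = 0) :
    w = Ptot S S' w := by
  have h := eq_Ptot_add S S' hd
  rw [Htot_eq_zero_of_supp_zero S S' hw, map_zero, add_zero] at h
  exact h

end Groth.Agent.Lib.Helper11.Kun
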