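import Groth.Agent.Lib.Helper11.GrKunD3
import Groth.Agent.Lib.Helper11.GrKunA

/-!
# The Künneth formula for the total complex: the isomorphism and its numerical consequences
-/

set_option autoImplicit false
set_option linter.unusedSectionVars false
set_option linter.unusedVariables false
set_option linter.style.haveILetI false
set_option maxHeartbeats 1000000
universe u

open scoped TensorProduct

namespace Groth.Agent.Lib.Helper11.Kun

variable {k : Type u} [Field k] (C D : Cx k)

/-- total cocycles of degree `j`. -/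
def ZT (j : ℕ) : Submodule k (TT C D) := supp C D j ⊓ LinearMap.ker (Dtot C D)

/-- total coboundaries of degree `j`. -/
def BT (j : ℕ) : Submodule k (TT C D) := supp C D j ⊓ LinearMap.range (Dtot C D)

/-- the cohomology of the total complex in degree `j`. -/
abbrev HT (j : ℕ) : Type u := ↥(ZT C D j) ⧸ (BT C D j).comap (ZT C D j).subtype

variable {C D}

/-- **Künneth formula** over a field. -/
theorem kunneth (j : ℕ) : Nonempty (HT C D j ≃ₗ[k] ↥(suppK C D j)) := by
  obtain ⟨S⟩ := C.nonempty_htpy
  obtain ⟨S'⟩ := D.nonempty_htpy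
  have hker : (BT C D j).comap (ZT C D j).subtype ≤
      LinearMap.ker (Rtot S S' ∘ₗ (ZT C D j).subtype) := by
    intro w hw
    obtain ⟨-, v, hv⟩ := hw
    apply LinearMap.mem_ker.mpr
    rw [LinearMap.comp_apply, ← hv, Rtot_Dtot]
  let φ' : HT C D j →ₗ[k] KK C D :=
    Submodule.liftQ (R₂ := k) (M₂ := KK C D) (τ₁₂ := RingHom.id k)
      ((BT C D j).comap (ZT C D j).subtype) (Rtot S S' ∘ₗ (ZT C D j).subtype) hker
  have hφ' : ∀ w : ↥(ZT C D j), φ' (Submodule.Quotient.mk w) = Rtot S S' (w : TT C D) :=
    fun w => rfl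
  have hmem : ∀ x, φ' x ∈ suppK C D j := by
    intro x
    obtain ⟨w, rfl⟩ := Submodule.Quotient.mk_surjective _ x
    rw [hφ']
    exact Rtot_mem_suppK S S' w.2.1
  let φ : HT C D j →ₗ[k] ↥(suppK C D j) := LinearMap.codRestrict (suppK C D j) φ' hmem
  have hinj : Function.Injective φ := by
    rw [injective_iff_map_eq_zero]
    intro x hx
    obtain ⟨w, rfl⟩ := Submodule.Quotient.mk_surjective _ x
    have hR : Rtot S S' (w : TT C D) = 0 := by
      have := congrArg Subtype.val hx
      exact this
    have hd : Dtot C D (w : TT C D) = 0 := LinearMap.mem_ker.mp w.2.2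
    rw [Submodule.Quotient.mk_eq_zero, Submodule.mem_comap]
    refine ⟨w.2.1, ?_⟩
    cases j with
    | zero =>
      have := eq_zero_of_supp_zero S S' w.2.1 hd hR
      change (w : TT C D) ∈ LinearMap.range (Dtot C D)
      rw [this]
      exact zero_mem _
    | succ j =>
      obtain ⟨v, -, hv⟩ := exists_Dtot_eq S S' w.2.1 hd hR
      exact ⟨v, hv⟩
  have hsurj : Function.Surjective φ := by
    intro t
    have hw : Itot S S' (t : KK C D) ∈ ZT C D j :=
      ⟨Itot_mem_supp S S' t.2, LinearMap.mem_ker.mpr (Dtot_Itot S S' _)⟩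
    refine ⟨Submodule.Quotient.mk ⟨_, hw⟩, ?_⟩
    apply Subtype.ext
    change φ' (Submodule.Quotient.mk ⟨_, hw⟩) = t
    rw [hφ']
    exact Rtot_Itot S S' _
  exact ⟨LinearEquiv.ofBijective φ ⟨hinj, hsurj⟩⟩

/-- the Künneth target as a finite product. -/
noncomputable def suppKEquiv (j : ℕ) :
    ↥(suppK C D j) ≃ₗ[k]
      ((pq : ↥(Finset.HasAntidiagonal.antidiagonal j)) → C.Hm pq.1.1 ⊗[k] D.Hm pq.1.2) where
  toFun t := fun pq => (t : KK C D) pq.1
  map_add' _ _ := rfl
  map_smul' _ _ := rfl
  invFun s := ⟨fun pq => if h : pq ∈ Finset.HasAntidiagonal.antidiagonal j then s ⟨pq, h⟩ else 0, by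
    intro pq h
    have : pq ∉ Finset.HasAntidiagonal.antidiagonal j := by
      rw [Finset.HasAntidiagonal.mem_antidiagonal]; exact h
    simp only [this, dite_false]⟩
  left_inv t := by
    apply Subtype.ext
    funext pq
    by_cases h : pq ∈ Finset.HasAntidiagonal.antidiagonal j
    · simp only [h, dite_true]
    · simp only [h, dite_false]
      have : pq.1 + pq.2 ≠ j := by
        rw [Finset.HasAntidiagonal.mem_antidiagonal] at h; exact h
      exact (t.2 pq this).symm
  right_inv s := by
    funext pq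
    simp only [pq.2, dite_true]

/-- the dimension formula. -/
theorem finrank_HT (j : ℕ) (hC : ∀ p, Module.Finite k (C.Hm p))
    (hD : ∀ q, Module.Finite k (D.Hm q)) :
    Module.finrank k (HT C D j) =
      (Finset.range (j + 1)).sum
        (fun i => Module.finrank k (C.Hm i) * Module.finrank k (D.Hm (j - i))) := by
  obtain ⟨e⟩ := kunneth (C := C) (D := D) j
  rw [LinearEquiv.finrank_eq (e.trans (suppKEquiv j)), Module.finrank_pi_fintype]
  simp only [Module.finrank_tensorProduct]
  rw [Finset.sum_coe_sort (Finset.HasAntidiagonal.antidiagonal j)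
    (fun pq => Module.finrank k (C.Hm pq.1) * Module.finrank k (D.Hm pq.2))]
  exact Finset.Nat.sum_antidiagonal_eq_sum_range_succ
    (fun p q => Module.finrank k (C.Hm p) * Module.finrank k (D.Hm q)) j

/-- vanishing. -/
theorem subsingleton_HT (j : ℕ)
    (h : ∀ p q, p + q = j → Subsingleton (C.Hm p) ∨ Subsingleton (D.Hm q)) :
    Subsingleton (HT C D j) := by
  obtain ⟨e⟩ := kunneth (C := C) (D := D) j
  have : Subsingleton ↥(suppK C D j) := by
    refine ⟨fun s t => ?_⟩
    apply Subtype.ext
    funext pq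
    by_cases hpq : pq.1 + pq.2 = j
    · rcases h pq.1 pq.2 hpq with h1 | h1
      · haveI := h1
        exact Subsingleton.elim _ _
      · haveI := h1
        exact Subsingleton.elim _ _
    · rw [s.2 pq hpq, t.2 pq hpq]
  exact e.injective.subsingleton

/-- non-vanishing. -/
theorem nontrivial_HT (j p q : ℕ) (hpq : p + q = j) (hp : Nontrivial (C.Hm p))
    (hq : Nontrivial (D.Hm q)) : Nontrivial (HT C D j) := by
  classical
  obtain ⟨e⟩ := kunneth (C := C) (D := D) j
  obtain ⟨x, hx⟩ := exists_ne (0 : C.Hm p)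
  obtain ⟨y, hy⟩ := exists_ne (0 : D.Hm q)
  have hxy : x ⊗ₜ[k] y ≠ 0 := by
    intro h0
    exact Groth.Agent.Lib.Helper11.Seg.tmul_ne_zero_of_ne_zero hx hy h0
  let t : KK C D := Function.update (0 : KK C D) (p, q) (x ⊗ₜ[k] y)
  have ht : t ∈ suppK C D j := by
    intro pq h
    have : pq ≠ (p, q) := by
      rintro rfl
      exact h hpq
    simp only [t, Function.update_of_ne this, Pi.zero_apply]
  have ht0 : (⟨t, ht⟩ : ↥(suppK C D j)) ≠ 0 := by
    intro h0
    have := congrFun (congrArg Subtype.val h0) (p, q)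
    simp only [t, Function.update_self] at this
    exact hxy this
  exact ⟨⟨e.symm ⟨t, ht⟩, 0, fun h => ht0 (by
    have := congrArg e h
    rwa [LinearEquiv.apply_symm_apply, map_zero] at this)⟩⟩

end Groth.Agent.Lib.Helper11.Kun
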