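import Groth.Agent.Lib.Helper11.GrShiftA
import Groth.Agent.Lib.Helper11.GrSegK
import Groth.Agent.Lib.Helper11.GrCompB

/-!
# Acyclic resolutions compute graded local cohomology

`GRes` is a resolution of a graded module by graded modules (no injectivity requirement).  If all
terms are `Γ_a`-acyclic then the cohomology of `Γ_a` of the resolution is `*H_a`: this is expressed
by a surjection from the cocycles onto `E.H a j` whose kernel are the coboundaries, homogeneous in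
both directions (`Computes`).
-/

set_option autoImplicit false
set_option linter.unusedSectionVars false
set_option linter.unusedVariables false
set_option linter.style.haveILetI false
set_option maxHeartbeats 1000000
universe u

namespace Groth.Agent.Lib.Helper11.Kun

open DirectSum GrLC Groth.Agent.Lib.Helper11.GrLCLib Groth.Agent.Lib.Helper11.GrLes
  Groth.Agent.Lib.Helper11.GrShift Groth.Agent.Lib.Helper11.GrComp Groth.Agent.Lib.Helper11.Seg

variable {ι : Type} [DecidableEq ι] [AddCommGroup ι]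
variable {R : Type u} [CommRing R]

/-- a resolution of a graded module by graded modules. -/
structure GRes (𝒜 : ι → AddSubgroup R) [GradedRing 𝒜] {M : Type u} [AddCommGroup M] [Module R M]
    (ℳ : ι → AddSubgroup M) [DirectSum.Decomposition ℳ] [SetLike.GradedSMul 𝒜 ℳ] :
    Type (u + 1) where
  X : ℕ → GMod.{u} 𝒜
  d : ∀ n : ℕ, (X n).carrier →ₗ[R] (X (n + 1)).carrier
  ε : M →ₗ[R] (X 0).carrier
  d_grHom : ∀ n : ℕ, IsGrHom (X n).gr (X (n + 1)).gr (d n)
  ε_grHom : IsGrHom ℳ (X 0).gr ε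
  ε_injective : Function.Injective ε
  exact_zero : LinearMap.ker (d 0) = LinearMap.range ε
  exact_succ : ∀ n : ℕ, LinearMap.ker (d (n + 1)) = LinearMap.range (d n)

variable {𝒜 : ι → AddSubgroup R} [GradedRing 𝒜]

/-- `Γ_a`-acyclicity of a graded module: vanishing of the higher `*H_a` for all resolutions. -/
def Acyclic (a : HomogeneousIdeal 𝒜) (X : GMod.{u} 𝒜) : Prop :=
  ∀ (G : StarInjRes 𝒜 X.gr) (p : ℕ), Subsingleton (G.H a (p + 1))

namespace GRes

section Basic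

variable {M : Type u} [AddCommGroup M] [Module R M] {ℳ : ι → AddSubgroup M}
  [DirectSum.Decomposition ℳ] [SetLike.GradedSMul 𝒜 ℳ] (C : GRes 𝒜 ℳ) (a : HomogeneousIdeal 𝒜)

/-- cocycles of `Γ_a(C)`. -/
def cocyc (i : ℕ) : Submodule R (C.X i).carrier :=
  gam a.toIdeal (C.X i).carrier ⊓ LinearMap.ker (C.d i)

/-- coboundaries of `Γ_a(C)`. -/
def cobdy : (i : ℕ) → Submodule R (C.X i).carrier
  | 0 => ⊥
  | n + 1 => (gam a.toIdeal (C.X n).carrier).map (C.d n)

lemma d_d (n : ℕ) (x : (C.X n).carrier) : C.d (n + 1) (C.d n x) = 0 := by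
  have : C.d n x ∈ LinearMap.ker (C.d (n + 1)) := by
    rw [C.exact_succ]; exact ⟨x, rfl⟩
  exact this

lemma d_ε (x : M) : C.d 0 (C.ε x) = 0 := by
  have : C.ε x ∈ LinearMap.ker (C.d 0) := by
    rw [C.exact_zero]; exact ⟨x, rfl⟩
  exact this

/-- the first cosyzygy. -/
noncomputable def Z1 : GMod.{u} 𝒜 :=
  subGMod 𝒜 (C.X 1).gr (LinearMap.ker (C.d 1))
    (ker_isHomogeneous (C.X 1).gr (C.X 2).gr (C.d_grHom 1))

/-- the tail of a resolution, a resolution of the first cosyzygy. -/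
noncomputable def tail : GRes 𝒜 (C.Z1).gr where
  X n := C.X (n + 1)
  d n := C.d (n + 1)
  ε := (LinearMap.ker (C.d 1)).subtype
  d_grHom n := C.d_grHom (n + 1)
  ε_grHom := subtype_isGrHom (C.X 1).gr (LinearMap.ker (C.d 1))
  ε_injective := Submodule.injective_subtype _
  exact_zero := by
    change LinearMap.ker (C.d 1) = LinearMap.range (LinearMap.ker (C.d 1)).subtype
    rw [Submodule.range_subtype]
  exact_succ n := C.exact_succ (n + 1)

/-- `d 0` as a map onto the first cosyzygy. -/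
noncomputable def v0 : (C.X 0).carrier →ₗ[R] (C.Z1).carrier :=
  LinearMap.codRestrict (LinearMap.ker (C.d 1)) (C.d 0) (fun x => LinearMap.mem_ker.mpr (C.d_d 0 x))

/-- the inclusion of the first cosyzygy. -/
noncomputable def i1 : (C.Z1).carrier →ₗ[R] (C.X 1).carrier := (LinearMap.ker (C.d 1)).subtype

lemma i1_injective : Function.Injective C.i1 := Submodule.injective_subtype _

lemma i1_mem (z : (C.Z1).carrier) : C.i1 z ∈ LinearMap.ker (C.d 1) :=
  (show ↥(LinearMap.ker (C.d 1)) from z).2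

lemma v0_coe (x : (C.X 0).carrier) : C.i1 (C.v0 x) = C.d 0 x := rfl

lemma mem_gam_Z1_iff (z : (C.Z1).carrier) :
    z ∈ gam a.toIdeal (C.Z1).carrier ↔ C.i1 z ∈ gam a.toIdeal (C.X 1).carrier :=
  mem_gam_subtype_iff (LinearMap.ker (C.d 1)) a.toIdeal _

lemma v0_isGrHom : IsGrHom (C.X 0).gr (C.Z1).gr C.v0 := fun g x hx => C.d_grHom 0 g x hx

lemma v0_surjective : Function.Surjective C.v0 := by
  rintro ⟨z, hz⟩
  have hz' : z ∈ LinearMap.ker (C.d 1) := hz
  rw [C.exact_succ] at hz'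
  obtain ⟨x, rfl⟩ := hz'
  exact ⟨x, Subtype.ext rfl⟩

lemma ker_v0 : LinearMap.ker C.v0 = LinearMap.range C.ε := by
  rw [← C.exact_zero]
  ext x
  rw [LinearMap.mem_ker, LinearMap.mem_ker]
  constructor
  · intro h
    have := congrArg Subtype.val h
    exact this
  · intro h
    exact Subtype.ext h

/-- `φ` computes `H^j_a` from the resolution `C`. -/
structure Computes (E : StarInjRes 𝒜 ℳ) (j : ℕ) (φ : ↥(C.cocyc a j) →ₗ[R] E.H a j) : Prop where
  surj : Function.Surjective φ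
  ker : ∀ z, φ z = 0 ↔ (z : (C.X j).carrier) ∈ C.cobdy a j
  mem : ∀ g (z : ↥(C.cocyc a j)), (z : (C.X j).carrier) ∈ (C.X j).gr g → φ z ∈ E.Hcomp a j g
  lift : ∀ g y, y ∈ E.Hcomp a j g →
    ∃ z : ↥(C.cocyc a j), (z : (C.X j).carrier) ∈ (C.X j).gr g ∧ φ z = y

end Basic

/-- the statement of the acyclic resolution lemma in cohomological degree `j`. -/
def ARL (a : HomogeneousIdeal 𝒜) (j : ℕ) : Prop :=
  ∀ (M : Type u) [AddCommGroup M] [Module R M] (ℳ : ι → AddSubgroup M)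
    [DirectSum.Decomposition ℳ] [SetLike.GradedSMul 𝒜 ℳ] (C : GRes 𝒜 ℳ)
    (_ : ∀ n, Acyclic a (C.X n)) (E : StarInjRes 𝒜 ℳ),
    ∃ φ : ↥(C.cocyc a j) →ₗ[R] E.H a j, C.Computes a E j φ

theorem arl_zero (a : HomogeneousIdeal 𝒜) : ARL a 0 := by
  intro M _ _ ℳ _ _ C hac E
  -- `Γ_a(M) ≃ cocyc 0`
  let ψ₀ : ↥(gam a.toIdeal M) →ₗ[R] ↥(C.cocyc a 0) :=
    LinearMap.codRestrict (C.cocyc a 0) (C.ε ∘ₗ (gam a.toIdeal M).subtype)
      (fun x => ⟨map_mem_gam C.ε _ x.2, LinearMap.mem_ker.mpr (C.d_ε _)⟩)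
  have hψ₀ : ∀ x, ((ψ₀ x : ↥(C.cocyc a 0)) : (C.X 0).carrier) = C.ε (x : M) := fun x => rfl
  have hbij : Function.Bijective ψ₀ := by
    constructor
    · intro x y hxy
      apply Subtype.ext
      apply C.ε_injective
      rw [← hψ₀, ← hψ₀, hxy]
    · intro z
      have hzk : (z : (C.X 0).carrier) ∈ LinearMap.ker (C.d 0) := z.2.2
      rw [C.exact_zero] at hzk
      obtain ⟨x, hx⟩ := hzk
      have hxg : x ∈ gam a.toIdeal M := by
        obtain ⟨n, hn⟩ := z.2.1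
        refine ⟨n, fun r hr => ?_⟩
        apply C.ε_injective
        rw [map_smul, hx, hn r hr, map_zero]
      exact ⟨⟨x, hxg⟩, Subtype.ext hx⟩
  let ψ : ↥(gam a.toIdeal M) ≃ₗ[R] ↥(C.cocyc a 0) := LinearEquiv.ofBijective ψ₀ hbij
  have hψ : ∀ z, C.ε ((ψ.symm z : ↥(gam a.toIdeal M)) : M) = (z : (C.X 0).carrier) := by
    intro z
    have h1 : ψ (ψ.symm z) = z := ψ.apply_symm_apply z
    have h2 := congrArg Subtype.val h1
    exact h2
  refine ⟨(h0Equiv E a).toLinearMap ∘ₗ ψ.symm.toLinearMap, ?_, ?_, ?_, ?_⟩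
  · exact (h0Equiv E a).surjective.comp ψ.symm.surjective
  · intro z
    change (h0Equiv E a) (ψ.symm z) = 0 ↔ (z : (C.X 0).carrier) ∈ (⊥ : Submodule R _)
    rw [LinearEquiv.map_eq_zero_iff, LinearEquiv.map_eq_zero_iff, Submodule.mem_bot]
    constructor
    · intro h; rw [h]; rfl
    · intro h; exact Subtype.ext h
  · intro g z hz
    change h0 E a (ψ.symm z) ∈ E.Hcomp a 0 g
    apply h0_mem
    apply mem_of_map_mem C.ε_grHom C.ε_injective
    rw [hψ]
    exact hz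
  · intro g y hy
    obtain ⟨x, hx, rfl⟩ := exists_h0_eq E a hy
    refine ⟨ψ x, ?_, ?_⟩
    · change C.ε (x : M) ∈ (C.X 0).gr g
      exact C.ε_grHom g _ hx
    · change (h0Equiv E a) (ψ.symm (ψ x)) = _
      rw [LinearEquiv.symm_apply_apply]
      rfl

theorem arl_one (a : HomogeneousIdeal 𝒜) : ARL a 1 := by
  intro M _ _ ℳ _ _ C hac E
  obtain ⟨GA⟩ := nonempty_starInjRes 𝒜 (C.X 0).gr
  obtain ⟨GZ⟩ := nonempty_starInjRes 𝒜 (C.Z1).gr
  obtain ⟨-, σ, hσs, hσk, hσg, hσg'⟩ := exists_shift E GA GZ C.ε C.v0 C.ε_grHom C.v0_isGrHom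
    C.ε_injective C.v0_surjective C.ker_v0 a (hac 0 GA)
  -- `cocyc 1 → Γ_a(Z1)`
  let θ : ↥(C.cocyc a 1) →ₗ[R] ↥(gam a.toIdeal (C.Z1).carrier) :=
    { toFun := fun z => ⟨⟨(z : (C.X 1).carrier), z.2.2⟩,
        (mem_gam_subtype_iff (LinearMap.ker (C.d 1)) a.toIdeal _).mpr z.2.1⟩
      map_add' := fun x y => rfl
      map_smul' := fun r x => rfl }
  have hθ : ∀ z, C.i1 ((θ z : ↥(gam a.toIdeal (C.Z1).carrier)) : (C.Z1).carrier) =
      (z : (C.X 1).carrier) := fun z => rfl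
  have hθs : Function.Surjective θ := by
    intro w
    refine ⟨⟨C.i1 (w : (C.Z1).carrier),
      (C.mem_gam_Z1_iff a _).mp w.2, C.i1_mem _⟩, ?_⟩
    rfl
  refine ⟨σ ∘ₗ θ, hσs.comp hθs, ?_, ?_, ?_⟩
  · intro z
    change σ (θ z) = 0 ↔ (z : (C.X 1).carrier) ∈ (gam a.toIdeal (C.X 0).carrier).map (C.d 0)
    rw [hσk]
    constructor
    · rintro ⟨x, hx⟩
      refine ⟨(x : (C.X 0).carrier), x.2, ?_⟩
      have := congrArg Subtype.val hx
      exact this
    · rintro ⟨x, hx, hxz⟩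
      exact ⟨⟨x, hx⟩, Subtype.ext hxz⟩
  · intro g z hz
    exact hσg g (θ z) hz
  · intro g y hy
    obtain ⟨w, hw, rfl⟩ := hσg' g y hy
    obtain ⟨z, rfl⟩ := hθs w
    exact ⟨z, hw, rfl⟩

theorem arl_succ (a : HomogeneousIdeal 𝒜) (j : ℕ) (ih : ARL a (j + 1)) : ARL a (j + 2) := by
  intro M _ _ ℳ _ _ C hac E
  obtain ⟨GA⟩ := nonempty_starInjRes 𝒜 (C.X 0).gr
  obtain ⟨GZ⟩ := nonempty_starInjRes 𝒜 (C.Z1).gr
  obtain ⟨hsh, -⟩ := exists_shift E GA GZ C.ε C.v0 C.ε_grHom C.v0_isGrHom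
    C.ε_injective C.v0_surjective C.ker_v0 a (hac 0 GA)
  obtain ⟨e, he, he'⟩ := hsh j
  obtain ⟨φ', hφ'⟩ := ih (C.Z1).carrier (C.Z1).gr C.tail (fun n => hac (n + 1)) GZ
  let φ'' : ↥(C.cocyc a (j + 2)) →ₗ[R] GZ.H a (j + 1) := φ'
  refine ⟨e.toLinearMap ∘ₗ φ'', e.surjective.comp hφ'.surj, ?_, ?_, ?_⟩
  · intro z
    change e (φ' z) = 0 ↔ _
    rw [LinearEquiv.map_eq_zero_iff]
    exact hφ'.ker z
  · intro g z hz
    exact he g _ (hφ'.mem g z hz)
  · intro g y hy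
    obtain ⟨z, hz, hzy⟩ := hφ'.lift g _ (he' g y hy)
    refine ⟨z, hz, ?_⟩
    change e (φ' z) = y
    rw [hzy, LinearEquiv.apply_symm_apply]

/-- **Acyclic resolution lemma.** -/
theorem arl (a : HomogeneousIdeal 𝒜) : ∀ j, ARL a j
  | 0 => arl_zero a
  | 1 => arl_one a
  | j + 2 => arl_succ a j (arl a (j + 1))

end GRes

end Groth.Agent.Lib.Helper11.Kun
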