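import Groth.Agent.Lib.Helper11.GrSegI

/-!
# Graded aspects of `Γ_m(M) ⊗ N ≃ Γ_{mA}(M ⊗ N)`; acyclicity of *injectives
-/

set_option autoImplicit false
set_option linter.unusedSectionVars false
set_option linter.unusedVariables false
set_option linter.style.haveILetI false
universe u

open scoped TensorProduct

namespace Groth.Agent.Lib.Helper11.Seg

open DirectSum GrLC Groth.Agent.Lib.Helper11.GrLCLib

section Nat

variable {k : Type u} [Field k] {R S : Type u} [CommRing R] [CommRing S] [Algebra k R]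
  [Algebra k S]
variable {M M' N N' : Type u} [AddCommGroup M] [Module R M] [Module k M] [IsScalarTower k R M]
  [AddCommGroup M'] [Module R M'] [Module k M'] [IsScalarTower k R M']
  [AddCommGroup N] [Module S N] [Module k N] [IsScalarTower k S N]
  [AddCommGroup N'] [Module S N'] [Module k N'] [IsScalarTower k S N']
variable (ℳ : ℤ → AddSubgroup M) [DirectSum.Decomposition ℳ] [IsKGr k ℳ]
  (ℳ' : ℤ → AddSubgroup M') [DirectSum.Decomposition ℳ'] [IsKGr k ℳ']
  (𝒩 : ℤ → AddSubgroup N) [DirectSum.Decomposition 𝒩] [IsKGr k 𝒩]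
  (𝒩' : ℤ → AddSubgroup N') [DirectSum.Decomposition 𝒩'] [IsKGr k 𝒩']

lemma biProj_mapA {f : M →ₗ[R] M'} {g : N →ₗ[S] N'} (hf : IsGrHom ℳ ℳ' f)
    (hg : IsGrHom 𝒩 𝒩' g) (p : ℤ × ℤ) (x : M ⊗[k] N) :
    biProj ℳ' 𝒩' p (mapA (k := k) f g x) = mapA (k := k) f g (biProj ℳ 𝒩 p x) := by
  induction x using TensorProduct.induction_on with
  | zero => simp
  | tmul a b =>
    rw [mapA_tmul, biProj_tmul, biProj_tmul, mapA_tmul, projK_apply, projK_apply, projK_apply,
      projK_apply, decompose_map ℳ ℳ' hf, decompose_map 𝒩 𝒩' hg]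
  | add x y hx hy => simp only [map_add, hx, hy]

end Nat

section GamGraded

variable {k : Type u} [Field k] {R S : Type u} [CommRing R] [CommRing S] [Algebra k R]
  [Algebra k S]
variable (𝒜 : ℤ → AddSubgroup R) [GradedRing 𝒜] [IsKAlgGr k 𝒜]
variable {M N : Type u} [AddCommGroup M] [Module R M] [Module k M] [IsScalarTower k R M]
  [AddCommGroup N] [Module S N] [Module k N] [IsScalarTower k S N]
variable (ℳ : ℤ → AddSubgroup M) [DirectSum.Decomposition ℳ] [SetLike.GradedSMul 𝒜 ℳ]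
  [IsKGr k ℳ]
  (𝒩 : ℤ → AddSubgroup N) [DirectSum.Decomposition 𝒩] [IsKGr k 𝒩]

instance subGr_isKGr (P : Submodule R M) : IsKGr k (subGr ℳ P) where
  smul_mem i c x hx := by
    change ((c • x : P) : M) ∈ ℳ i
    rw [Submodule.coe_smul_of_tower]
    exact IsKGr.smul_mem i c _ hx

lemma gamTensorEquiv_mem (m : HomogeneousIdeal 𝒜) {p : ℤ × ℤ}
    {w : ↥(gam m.toIdeal M) ⊗[k] N}
    (hw : w ∈ biGr (k := k) (subGr ℳ (gam m.toIdeal M)) 𝒩 p) :
    (gamTensorEquiv (k := k) (S := S) N m.toIdeal w : M ⊗[k] N) ∈ biGr (k := k) ℳ 𝒩 p := by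
  rw [gamTensorEquiv_coe]
  exact mapL_isGrHom (subtype_isGrHom ℳ (gam m.toIdeal M)) p w hw

lemma exists_gamTensorEquiv_eq (m : HomogeneousIdeal 𝒜) {p : ℤ × ℤ}
    (z : ↥(gam (extIdeal (k := k) (S := S) m.toIdeal) (M ⊗[k] N)))
    (hz : (z : M ⊗[k] N) ∈ biGr (k := k) ℳ 𝒩 p) :
    ∃ w ∈ biGr (k := k) (subGr ℳ (gam m.toIdeal M)) 𝒩 p,
      gamTensorEquiv (k := k) (S := S) N m.toIdeal w = z := by
  letI := subDecomposition ℳ (gam m.toIdeal M) (gam_isHomogeneous 𝒜 ℳ m)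
  set w₀ := (gamTensorEquiv (k := k) (S := S) N m.toIdeal).symm z with hw₀
  refine ⟨biProj (subGr ℳ (gam m.toIdeal M)) 𝒩 p w₀, biProj_mem _ _ _ _, ?_⟩
  apply Subtype.ext
  rw [gamTensorEquiv_coe]
  have h1 := biProj_mapA (k := k) (S := S) (subGr ℳ (gam m.toIdeal M)) ℳ 𝒩 𝒩
    (f := (gam m.toIdeal M).subtype) (g := LinearMap.id)
    (subtype_isGrHom ℳ (gam m.toIdeal M)) (fun _ _ h => h) p w₀
  rw [← h1]
  have h2 : mapA (k := k) (gam m.toIdeal M).subtype (LinearMap.id : N →ₗ[S] N) w₀ =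
      (z : M ⊗[k] N) := by
    rw [← gamTensorEquiv_coe, hw₀, LinearEquiv.apply_symm_apply]
  rw [h2]
  exact biProj_of_mem ℳ 𝒩 hz

end GamGraded

section Acyc

variable {ι : Type} [DecidableEq ι] [AddCommGroup ι]
variable {R : Type u} [CommRing R] {𝒜 : ι → AddSubgroup R} [GradedRing 𝒜]
variable {X : Type u} [AddCommGroup X] [Module R X] {𝒳 : ι → AddSubgroup X}
  [DirectSum.Decomposition 𝒳] [SetLike.GradedSMul 𝒜 𝒳]

/-- graded local cohomology of a *injective module vanishes in positive degrees, for any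
resolution. -/
theorem subsingleton_H_of_isStarInj' [IsNoetherianRing R] (hX : IsStarInj 𝒜 𝒳)
    (G : StarInjRes 𝒜 𝒳) (a : HomogeneousIdeal 𝒜) (p : ℕ) : Subsingleton (G.H a (p + 1)) := by
  obtain ⟨e⟩ := Groth.Agent.Lib.Helper11.GrLCOrd.nonempty_H_equiv G a (p + 1)
  have := Groth.Agent.Lib.Helper11.GrLCOrd.subsingleton_H_of_isStarInj 𝒳 hX a p
  exact e.toEquiv.subsingleton

end Acyc

end Groth.Agent.Lib.Helper11.Seg
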