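import Groth.Agent.Lib.Helper11.GrKunE
import Groth.Agent.Lib.Helper11.GrFunA
import Groth.Agent.Lib.Helper11.GrSegJ

/-!
# Finite sums of graded modules inside a product, and their acyclicity
-/

set_option autoImplicit false
set_option linter.unusedSectionVars false
set_option linter.unusedVariables false
set_option linter.style.haveILetI false
set_option maxHeartbeats 1000000
universe u

namespace Groth.Agent.Lib.Helper11.Kun

open DirectSum GrLC Groth.Agent.Lib.Helper11.GrLCLib Groth.Agent.Lib.Helper11.GrLes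
  Groth.Agent.Lib.Helper11.GrFun

variable {ι : Type} [DecidableEq ι] [AddCommGroup ι]
variable {R : Type u} [CommRing R] {𝒜 : ι → AddSubgroup R} [GradedRing 𝒜]

section Hn

variable {M : Type u} [AddCommGroup M] [Module R M] {ℳ : ι → AddSubgroup M}
  [DirectSum.Decomposition ℳ] [SetLike.GradedSMul 𝒜 ℳ]
variable {M' : Type u} [AddCommGroup M'] [Module R M'] {ℳ' : ι → AddSubgroup M'}
  [DirectSum.Decomposition ℳ'] [SetLike.GradedSMul 𝒜 ℳ']
variable {M'' : Type u} [AddCommGroup M''] [Module R M''] {ℳ'' : ι → AddSubgroup M''}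
  [DirectSum.Decomposition ℳ''] [SetLike.GradedSMul 𝒜 ℳ'']
variable {E : StarInjRes 𝒜 ℳ} {E' : StarInjRes 𝒜 ℳ'} {E'' : StarInjRes 𝒜 ℳ''}
  (a : HomogeneousIdeal 𝒜) (q : ℕ)

lemma Hn_cast {φ : M →ₗ[R] M'} {δ δ' : ι} (hδ : δ = δ') (h : IsGrHomDeg ℳ ℳ' φ δ)
    (h' : IsGrHomDeg ℳ ℳ' φ δ') : Hn E E' a q φ δ h = Hn E E' a q φ δ' h' := by
  subst hδ
  rfl

lemma Hn_comp0 {φ : M →ₗ[R] M'} (hφ : IsGrHomDeg ℳ ℳ' φ 0) {ψ : M' →ₗ[R] M''}
    (hψ : IsGrHomDeg ℳ' ℳ'' ψ 0) (h : IsGrHomDeg ℳ ℳ'' (ψ ∘ₗ φ) 0) :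
    Hn E E'' a q (ψ ∘ₗ φ) 0 h = Hn E' E'' a q ψ 0 hψ ∘ₗ Hn E E' a q φ 0 hφ := by
  have h' : IsGrHomDeg ℳ ℳ'' (ψ ∘ₗ φ) (0 + 0) := by rwa [zero_add]
  rw [Hn_cast a q (zero_add (0 : ι)).symm h h', Hn_comp a q hφ hψ h']

lemma isGrHomDeg_sum {J : Type} (s : Finset J) (φ : J → M →ₗ[R] M')
    (hφ : ∀ i, IsGrHomDeg ℳ ℳ' (φ i) 0) : IsGrHomDeg ℳ ℳ' (∑ i ∈ s, φ i) 0 := by
  intro g x hx
  rw [LinearMap.sum_apply]
  exact sum_mem (fun i _ => hφ i g x hx)

lemma Hn_sum {J : Type} (s : Finset J) (φ : J → M →ₗ[R] M')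
    (hφ : ∀ i, IsGrHomDeg ℳ ℳ' (φ i) 0) :
    Hn E E' a q (∑ i ∈ s, φ i) 0 (isGrHomDeg_sum s φ hφ) =
      ∑ i ∈ s, Hn E E' a q (φ i) 0 (hφ i) := by
  classical
  induction s using Finset.induction_on with
  | empty =>
    simp only [Finset.sum_empty]
    exact Hn_zero a q 0 _
  | insert i s hi ih =>
    have h1 : ∑ j ∈ insert i s, φ j = φ i + ∑ j ∈ s, φ j := Finset.sum_insert hi
    have h2 : IsGrHomDeg ℳ ℳ' (φ i + ∑ j ∈ s, φ j) 0 := by
      rw [← h1]; exact isGrHomDeg_sum _ φ hφ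
    rw [Hn_congr a q (isGrHomDeg_sum (insert i s) φ hφ) h1 h2,
      Hn_add a q (hφ i) (isGrHomDeg_sum s φ hφ) h2, ih, Finset.sum_insert hi]

end Hn

section Pi

variable {I : Type} [DecidableEq I] (Y : I → GMod.{u} 𝒜) (s : Finset I)

/-- families supported in `s`. -/
def PiS : Submodule R ((i : I) → (Y i).carrier) where
  carrier := {t | ∀ i, i ∉ s → t i = 0}
  zero_mem' := fun _ _ => rfl
  add_mem' := by
    intro x y hx hy i hi
    rw [Pi.add_apply, hx i hi, hy i hi, add_zero]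
  smul_mem' := by
    intro r x hx i hi
    rw [Pi.smul_apply, hx i hi, smul_zero]

lemma mem_PiS {t : (i : I) → (Y i).carrier} : t ∈ PiS Y s ↔ ∀ i, i ∉ s → t i = 0 := Iff.rfl

/-- the grading of the finite sum. -/
def piGr (g : ι) : AddSubgroup ↥(PiS Y s) where
  carrier := {t | ∀ i, (t : (i : I) → (Y i).carrier) i ∈ (Y i).gr g}
  zero_mem' := fun i => zero_mem _
  add_mem' := by
    intro x y hx hy i
    exact add_mem (hx i) (hy i)
  neg_mem' := by
    intro x hx i
    exact neg_mem (hx i)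

lemma mem_piGr {g : ι} {t : ↥(PiS Y s)} :
    t ∈ piGr Y s g ↔ ∀ i, (t : (i : I) → (Y i).carrier) i ∈ (Y i).gr g := Iff.rfl

/-- the projections. -/
noncomputable def piProj (g : ι) : ↥(PiS Y s) →+ ↥(PiS Y s) where
  toFun t := ⟨fun i => (decompose (Y i).gr ((t : (i : I) → (Y i).carrier) i) g : (Y i).carrier),
    fun i hi => by
      change ((decompose (Y i).gr ((t : (i : I) → (Y i).carrier) i) g : (Y i).gr g) :
        (Y i).carrier) = 0
      rw [t.2 i hi, decompose_zero]
      rfl⟩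
  map_zero' := by
    apply Subtype.ext
    funext i
    change ((decompose (Y i).gr (0 : (Y i).carrier) g : (Y i).gr g) : (Y i).carrier) = 0
    rw [decompose_zero]
    rfl
  map_add' x y := by
    apply Subtype.ext
    funext i
    change ((decompose (Y i).gr ((x : (i : I) → (Y i).carrier) i +
      (y : (i : I) → (Y i).carrier) i) g : (Y i).gr g) : (Y i).carrier) = _
    rw [decompose_add, DirectSum.add_apply, AddSubgroup.coe_add]
    rfl

lemma piProj_apply (g : ι) (t : ↥(PiS Y s)) (i : I) :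
    (piProj Y s g t : (i : I) → (Y i).carrier) i =
      (decompose (Y i).gr ((t : (i : I) → (Y i).carrier) i) g : (Y i).carrier) := rfl

lemma coe_sum_apply {J : Type} (S : Finset J) (f : J → ↥(PiS Y s)) (i : I) :
    ((∑ j ∈ S, f j : ↥(PiS Y s)) : (i : I) → (Y i).carrier) i =
      ∑ j ∈ S, (f j : (i : I) → (Y i).carrier) i := by
  rw [AddSubmonoidClass.coe_finset_sum, Finset.sum_apply]

theorem piGr_isInternal : DirectSum.IsInternal (piGr Y s) := by
  classical
  refine isInternal_of_proj (piGr Y s) (piProj Y s) ?_ ?_ ?_ ?_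
  · intro g t i
    rw [piProj_apply]
    exact SetLike.coe_mem _
  · intro g t ht
    apply Subtype.ext
    funext i
    rw [piProj_apply]
    exact decompose_of_mem_same _ (ht i)
  · intro g g' t ht hne
    apply Subtype.ext
    funext i
    rw [piProj_apply]
    exact decompose_of_mem_ne _ (ht i) hne.symm
  · intro t
    refine ⟨s.biUnion (fun i => (decompose (Y i).gr ((t : (i : I) → (Y i).carrier) i)).support), ?_⟩
    apply Subtype.ext
    funext i
    rw [coe_sum_apply]
    simp only [piProj_apply]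
    by_cases hi : i ∈ s
    · rw [← Finset.sum_subset (Finset.subset_biUnion_of_mem
        (fun i => (decompose (Y i).gr ((t : (i : I) → (Y i).carrier) i)).support) hi)]
      · exact DirectSum.sum_support_decompose (Y i).gr _
      · intro g _ hg
        rw [DFinsupp.notMem_support_iff] at hg
        rw [hg]; rfl
    · rw [t.2 i hi]
      apply Finset.sum_eq_zero
      intro g _
      rw [decompose_zero]; rfl

/-- the decomposition of the finite sum. -/
@[instance_reducible]
noncomputable def piDecomposition : DirectSum.Decomposition (piGr Y s) :=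
  (piGr_isInternal Y s).chooseDecomposition

instance piGradedSMul : SetLike.GradedSMul 𝒜 (piGr Y s) where
  smul_mem := by
    intro h g r t hr ht i
    exact SetLike.GradedSMul.smul_mem (A := 𝒜) (B := (Y i).gr) hr (ht i)

/-- the finite sum as a bundled graded module. -/
noncomputable def piGMod : GMod.{u} 𝒜 :=
  { carrier := ↥(PiS Y s), gr := piGr Y s, dec := piDecomposition Y s }

/-- evaluation. -/
def piEval (i : I) : ↥(PiS Y s) →ₗ[R] (Y i).carrier :=
  LinearMap.proj i ∘ₗ (PiS Y s).subtype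

lemma piEval_apply (i : I) (t : ↥(PiS Y s)) :
    piEval Y s i t = (t : (i : I) → (Y i).carrier) i := rfl

/-- the inclusion of a summand. -/
def piIncl {i : I} (hi : i ∈ s) : (Y i).carrier →ₗ[R] ↥(PiS Y s) :=
  LinearMap.codRestrict (PiS Y s) (LinearMap.single R (fun i => (Y i).carrier) i) (by
    intro x j hj
    have : j ≠ i := fun h => hj (h ▸ hi)
    change (Pi.single i x : (i : I) → (Y i).carrier) j = 0
    exact Pi.single_eq_of_ne (M := fun i => (Y i).carrier) this x)

lemma piIncl_apply {i : I} (hi : i ∈ s) (x : (Y i).carrier) :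
    (piIncl Y s hi x : (i : I) → (Y i).carrier) = Pi.single i x := rfl

lemma piEval_isGrHom (i : I) : IsGrHomDeg (piGr Y s) (Y i).gr (piEval Y s i) 0 := by
  intro g t ht
  rw [add_zero]
  exact ht i

lemma piIncl_isGrHom {i : I} (hi : i ∈ s) : IsGrHomDeg (Y i).gr (piGr Y s) (piIncl Y s hi) 0 := by
  intro g x hx j
  rw [add_zero, piIncl_apply]
  by_cases hj : j = i
  · subst hj
    rw [Pi.single_eq_same]
    exact hx
  · rw [Pi.single_eq_of_ne (M := fun i => (Y i).carrier) hj]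
    exact zero_mem _

lemma sum_piIncl_piEval :
    ∑ i ∈ s.attach, piIncl Y s i.2 ∘ₗ piEval Y s i.1 = LinearMap.id := by
  classical
  apply LinearMap.ext
  intro t
  apply Subtype.ext
  funext j
  rw [LinearMap.sum_apply, coe_sum_apply, LinearMap.id_apply]
  simp only [LinearMap.comp_apply, piIncl_apply, piEval_apply]
  by_cases hj : j ∈ s
  · rw [Finset.sum_eq_single (⟨j, hj⟩ : {x // x ∈ s})]
    · exact Pi.single_eq_same _ _
    · intro b _ hb
      have : j ≠ b.1 := fun h => hb (Subtype.ext h.symm)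
      exact Pi.single_eq_of_ne (M := fun i => (Y i).carrier) this _
    · intro h
      exact absurd (Finset.mem_attach s _) h
  · rw [t.2 j hj]
    apply Finset.sum_eq_zero
    intro b _
    have : j ≠ b.1 := fun h => hj (h ▸ b.2)
    exact Pi.single_eq_of_ne (M := fun i => (Y i).carrier) this _

/-- a finite sum of acyclic modules is acyclic. -/
theorem acyclic_piGMod (a : HomogeneousIdeal 𝒜) (h : ∀ i ∈ s, Acyclic a (Y i)) :
    Acyclic a (piGMod Y s) := by
  classical
  intro G p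
  let Gi : ∀ i, StarInjRes 𝒜 (Y i).gr := fun i => (nonempty_starInjRes 𝒜 (Y i).gr).some
  letI : DirectSum.Decomposition (piGr Y s) := piDecomposition Y s
  let G' : StarInjRes 𝒜 (piGr Y s) := G
  have hφ : ∀ i : {x // x ∈ s},
      IsGrHomDeg (piGr Y s) (piGr Y s) (piIncl Y s i.2 ∘ₗ piEval Y s i.1) 0 := by
    intro i g t ht
    have h1 := piEval_isGrHom Y s i.1 g t ht
    have h2 := piIncl_isGrHom Y s i.2 _ _ h1
    rw [add_zero] at h2 ⊢
    rw [add_zero] at h2
    exact h2
  have hid : IsGrHomDeg (piGr Y s) (piGr Y s) (LinearMap.id : ↥(PiS Y s) →ₗ[R] ↥(PiS Y s)) 0 := by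
    intro g t ht
    rw [add_zero]; exact ht
  have key : Hn G' G' a (p + 1) LinearMap.id 0 hid =
      ∑ i ∈ s.attach, Hn G' G' a (p + 1) (piIncl Y s i.2 ∘ₗ piEval Y s i.1) 0 (hφ i) := by
    rw [← Hn_sum a (p + 1) s.attach _ hφ]
    exact Hn_congr a (p + 1) hid (sum_piIncl_piEval Y s).symm _
  refine ⟨fun x y => ?_⟩
  have hz : ∀ x : G'.H a (p + 1), x = 0 := by
    intro x
    have h1 : x = Hn G' G' a (p + 1) LinearMap.id 0 hid x := by
      rw [Hn_id a (p + 1) hid]; rfl
    rw [h1, key, LinearMap.sum_apply]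
    apply Finset.sum_eq_zero
    intro i _
    rw [Hn_comp0 a (p + 1) (E' := Gi i.1) (piEval_isGrHom Y s i.1) (piIncl_isGrHom Y s i.2) (hφ i)]
    have hs : Subsingleton ((Gi i.1).H a (p + 1)) := h i.1 i.2 (Gi i.1) p
    rw [LinearMap.comp_apply, hs.elim (Hn G' (Gi i.1) a (p + 1) (piEval Y s i.1) 0 _ x) 0, map_zero]
  exact (hz x).trans (hz y).symm

end Pi

end Groth.Agent.Lib.Helper11.Kun
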