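import Groth.Agent.Lib.Helper11.GrKunD4
import Groth.Agent.Lib.Helper11.GrKunF
import Groth.Agent.Lib.Helper11.GrKunB

/-!
# The total complex of two resolutions as a resolution of `M ⊗[k] N`
-/

set_option autoImplicit false
set_option linter.unusedSectionVars false
set_option linter.unusedVariables false
set_option linter.style.haveILetI false
set_option maxHeartbeats 1000000
universe u

open scoped TensorProduct

namespace Groth.Agent.Lib.Helper11.Kun

open DirectSum GrLC Groth.Agent.Lib.Helper11.GrLCLib Groth.Agent.Lib.Helper11.GrLes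
  Groth.Agent.Lib.Helper11.Seg

section Single

variable {k : Type u} [Field k] (C D : Cx k)

lemma Dtot_single_zero (y : C.X 0 ⊗[k] D.X 0)
    (h1 : TensorProduct.map (C.d 0) (LinearMap.id : D.X 0 →ₗ[k] D.X 0) y = 0)
    (h2 : TensorProduct.map (LinearMap.id : C.X 0 →ₗ[k] C.X 0) (D.d 0) y = 0) :
    Dtot C D (Pi.single (M := fun pq : ℕ × ℕ => C.X pq.1 ⊗[k] D.X pq.2) (0, 0) y) = 0 := by
  funext pq
  obtain ⟨p, q⟩ := pq
  rw [Pi.zero_apply]
  rcases p with _ | p <;> rcases q with _ | q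
  · rw [Dtot_zero_zero]
  · rw [Dtot_zero_succ]
    rcases q with _ | q
    · rw [Pi.single_eq_same, h2, smul_zero]
    · rw [Pi.single_eq_of_ne (M := fun pq : ℕ × ℕ => C.X pq.1 ⊗[k] D.X pq.2)
        (by simp : ((0, q + 1) : ℕ × ℕ) ≠ (0, 0)), map_zero, smul_zero]
  · rw [Dtot_succ_zero]
    rcases p with _ | p
    · rw [Pi.single_eq_same, h1]
    · rw [Pi.single_eq_of_ne (M := fun pq : ℕ × ℕ => C.X pq.1 ⊗[k] D.X pq.2)
        (by simp : ((p + 1, 0) : ℕ × ℕ) ≠ (0, 0)), map_zero]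
  · rw [Dtot_succ_succ,
      Pi.single_eq_of_ne (M := fun pq : ℕ × ℕ => C.X pq.1 ⊗[k] D.X pq.2)
        (by simp : ((p, q + 1) : ℕ × ℕ) ≠ (0, 0)),
      Pi.single_eq_of_ne (M := fun pq : ℕ × ℕ => C.X pq.1 ⊗[k] D.X pq.2)
        (by simp : ((p + 1, q) : ℕ × ℕ) ≠ (0, 0)), map_zero, map_zero, smul_zero, add_zero]

end Single

section KStruct

variable (k : Type u) [Field k] {R : Type u} [CommRing R] [Algebra k R]
  {𝒜 : ℤ → AddSubgroup R} [GradedRing 𝒜]

/-- the `k`-structure of a graded `R`-module. -/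
@[reducible] noncomputable def kModG (X : GMod.{u} 𝒜) : Module k X.carrier :=
  Module.compHom _ (algebraMap k R)

attribute [local instance] kModG

lemma kTowerG (X : GMod.{u} 𝒜) : IsScalarTower k R X.carrier :=
  IsScalarTower.of_algebraMap_smul (fun r x => rfl)

attribute [local instance] kTowerG

lemma kGrG [IsKAlgGr k 𝒜] (X : GMod.{u} 𝒜) : IsKGr k X.gr := isKGr_of_gradedSMul 𝒜 _

end KStruct

attribute [local instance] kModG kTowerG kGrG

section Tot

variable {k : Type u} [Field k] {R S : Type u} [CommRing R] [CommRing S] [Algebra k R]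
  [Algebra k S]
variable {𝒜 : ℤ → AddSubgroup R} [GradedRing 𝒜] {ℬ : ℤ → AddSubgroup S} [GradedRing ℬ]
  [IsKAlgGr k 𝒜] [IsKAlgGr k ℬ]
variable {M N : Type u} [AddCommGroup M] [Module R M] [Module k M] [IsScalarTower k R M]
  [AddCommGroup N] [Module S N] [Module k N] [IsScalarTower k S N]
variable {ℳ : ℤ → AddSubgroup M} [DirectSum.Decomposition ℳ] [SetLike.GradedSMul 𝒜 ℳ] [IsKGr k ℳ]
  {𝒩 : ℤ → AddSubgroup N} [DirectSum.Decomposition 𝒩] [SetLike.GradedSMul ℬ 𝒩] [IsKGr k 𝒩]
variable (EM : StarInjRes 𝒜 ℳ) (EN : StarInjRes ℬ 𝒩)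

/-- the tensor product of two graded modules, bundled. -/
noncomputable def tenGMod (X : GMod.{u} 𝒜) (Y : GMod.{u} ℬ) : GMod.{u} (biGr (k := k) 𝒜 ℬ) :=
  { carrier := X.carrier ⊗[k] Y.carrier
    gr := biGr (k := k) X.gr Y.gr }

/-- the terms of the double complex. -/
noncomputable def YY (pq : ℕ × ℕ) : GMod.{u} (biGr (k := k) 𝒜 ℬ) :=
  tenGMod (k := k) (EM.X pq.1) (EN.X pq.2)

/-- a resolution as a complex of `k`-vector spaces. -/
@[reducible] noncomputable def cxOf (k : Type u) [Field k] {R : Type u} [CommRing R] [Algebra k R]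
    {𝒜 : ℤ → AddSubgroup R} [GradedRing 𝒜] {M : Type u} [AddCommGroup M] [Module R M]
    {ℳ : ℤ → AddSubgroup M} [DirectSum.Decomposition ℳ] [SetLike.GradedSMul 𝒜 ℳ]
    (E : StarInjRes 𝒜 ℳ) : Cx k where
  X p := (E.X p).carrier
  d p := (E.d p).restrictScalars k
  dd p x := by
    have : E.d p x ∈ LinearMap.ker (E.d (p + 1)) := by
      rw [E.exact_succ]; exact ⟨x, rfl⟩
    exact this

/-- the ambient product of the double complex. -/
abbrev WW : Type u := (pq : ℕ × ℕ) → (YY (k := k) EM EN pq).carrier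

lemma map_dL_smul (p q : ℕ) (a : R ⊗[k] S) (x : (EM.X p).carrier ⊗[k] (EN.X q).carrier) :
    TensorProduct.map ((EM.d p).restrictScalars k) (LinearMap.id : (EN.X q).carrier →ₗ[k] _)
      (a • x) =
    a • TensorProduct.map ((EM.d p).restrictScalars k) (LinearMap.id : (EN.X q).carrier →ₗ[k] _) x :=
  (mapA (k := k) (EM.d p) (LinearMap.id : (EN.X q).carrier →ₗ[S] _)).map_smul a x

lemma map_dR_smul (p q : ℕ) (a : R ⊗[k] S) (x : (EM.X p).carrier ⊗[k] (EN.X q).carrier) :
    TensorProduct.map (LinearMap.id : (EM.X p).carrier →ₗ[k] _) ((EN.d q).restrictScalars k)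
      (a • x) =
    a • TensorProduct.map (LinearMap.id : (EM.X p).carrier →ₗ[k] _) ((EN.d q).restrictScalars k) x :=
  (mapA (k := k) (LinearMap.id : (EM.X p).carrier →ₗ[R] _) (EN.d q)).map_smul a x

lemma smul_comm_kA {V : Type u} [AddCommGroup V] [Module (R ⊗[k] S) V] [Module k V]
    [IsScalarTower k (R ⊗[k] S) V] (c : k) (a : R ⊗[k] S) (x : V) : a • c • x = c • a • x := by
  rw [← algebraMap_smul (R ⊗[k] S) c x, ← mul_smul, mul_comm, mul_smul, algebraMap_smul]

/-- the total differential is `R ⊗ S`-linear. -/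
noncomputable def DA : WW (k := k) EM EN →ₗ[R ⊗[k] S] WW (k := k) EM EN where
  toFun w := Dtot (cxOf k EM) (cxOf k EN) w
  map_add' x y := map_add (Dtot (cxOf k EM) (cxOf k EN)) x y
  map_smul' a w := by
    funext pq
    obtain ⟨p, q⟩ := pq
    simp only [RingHom.id_apply]
    change Dtot (cxOf k EM) (cxOf k EN) (a • w) (p, q) =
      a • (Dtot (cxOf k EM) (cxOf k EN) w (p, q))
    rcases p with _ | p <;> rcases q with _ | q
    · rw [Dtot_zero_zero, Dtot_zero_zero, smul_zero]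
    · rw [Dtot_zero_succ, Dtot_zero_succ]
      exact (congrArg (fun y => sg k 0 • y) (map_dR_smul EM EN 0 q a (w (0, q)))).trans
        (smul_comm_kA (sg k 0) a _).symm
    · rw [Dtot_succ_zero, Dtot_succ_zero]
      exact map_dL_smul EM EN p 0 a (w (p, 0))
    · rw [Dtot_succ_succ, Dtot_succ_succ]
      have h1 := map_dL_smul EM EN p (q + 1) a (w (p, q + 1))
      have h2 := (congrArg (fun y => sg k (p + 1) • y)
        (map_dR_smul EM EN (p + 1) q a (w (p + 1, q)))).trans
        (smul_comm_kA (sg k (p + 1)) a _).symm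
      exact (congrArg₂ (· + ·) h1 h2).trans (smul_add a _ _).symm

lemma DA_apply (w : WW (k := k) EM EN) :
    DA (k := k) EM EN w = Dtot (cxOf k EM) (cxOf k EN) w := rfl

lemma mem_PiS_anti {j : ℕ} {w : WW (k := k) EM EN} :
    w ∈ PiS (YY (k := k) EM EN) (Finset.HasAntidiagonal.antidiagonal j) ↔
      (w : TT (cxOf k EM) (cxOf k EN)) ∈ supp (cxOf k EM) (cxOf k EN) j := by
  constructor
  · intro h pq hpq
    exact h pq (fun hm => hpq (Finset.HasAntidiagonal.mem_antidiagonal.mp hm))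
  · intro h pq hpq
    exact h pq (fun hm => hpq (Finset.HasAntidiagonal.mem_antidiagonal.mpr hm))


lemma subsingleton_Hm_succ (k : Type u) [Field k] {R : Type u} [CommRing R] [Algebra k R]
    {𝒜 : ℤ → AddSubgroup R} [GradedRing 𝒜] {M : Type u} [AddCommGroup M] [Module R M]
    {ℳ : ℤ → AddSubgroup M} [DirectSum.Decomposition ℳ] [SetLike.GradedSMul 𝒜 ℳ]
    (E : StarInjRes 𝒜 ℳ) (p : ℕ) : Subsingleton ((cxOf k E).Hm (p + 1)) := by
  apply Submodule.Quotient.subsingleton_iff.mpr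
  rw [eq_top_iff]
  intro z _
  rw [Submodule.mem_comap]
  have hz : (z : (E.X (p + 1)).carrier) ∈ LinearMap.ker (E.d (p + 1)) := z.2
  rw [E.exact_succ] at hz
  obtain ⟨x, hx⟩ := hz
  exact ⟨x, hx⟩

lemma subsingleton_tensor_left {V W : Type u} [AddCommGroup V] [Module k V] [AddCommGroup W]
    [Module k W] (h : Subsingleton V) : Subsingleton (V ⊗[k] W) := by
  refine ⟨fun x y => ?_⟩
  have hz : ∀ x : V ⊗[k] W, x = 0 := by
    intro x
    induction x using TensorProduct.induction_on with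
    | zero => rfl
    | tmul a b => rw [h.elim a 0, TensorProduct.zero_tmul]
    | add x y hx hy => rw [hx, hy, add_zero]
  rw [hz x, hz y]

lemma subsingleton_tensor_right {V W : Type u} [AddCommGroup V] [Module k V] [AddCommGroup W]
    [Module k W] (h : Subsingleton W) : Subsingleton (V ⊗[k] W) := by
  refine ⟨fun x y => ?_⟩
  have hz : ∀ x : V ⊗[k] W, x = 0 := by
    intro x
    induction x using TensorProduct.induction_on with
    | zero => rfl
    | tmul a b => rw [h.elim b 0, TensorProduct.tmul_zero]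
    | add x y hx hy => rw [hx, hy, add_zero]
  rw [hz x, hz y]

/-- the differential of the total resolution. -/
noncomputable def totD (j : ℕ) :
    ↥(PiS (YY (k := k) EM EN) (Finset.HasAntidiagonal.antidiagonal j)) →ₗ[R ⊗[k] S]
      ↥(PiS (YY (k := k) EM EN) (Finset.HasAntidiagonal.antidiagonal (j + 1))) :=
  LinearMap.codRestrict _ (DA (k := k) EM EN ∘ₗ (PiS (YY (k := k) EM EN) _).subtype)
    (fun w => (mem_PiS_anti EM EN).mpr (Dtot_mem_supp ((mem_PiS_anti EM EN).mp w.2)))

lemma totD_coe (j : ℕ) (w : ↥(PiS (YY (k := k) EM EN) (Finset.HasAntidiagonal.antidiagonal j))) :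
    ((totD EM EN j w : ↥(PiS (YY (k := k) EM EN) _)) : WW (k := k) EM EN) =
      Dtot (cxOf k EM) (cxOf k EN) (w : WW (k := k) EM EN) := rfl

/-- the augmentation of the total resolution. -/
noncomputable def totε : M ⊗[k] N →ₗ[R ⊗[k] S]
    ↥(PiS (YY (k := k) EM EN) (Finset.HasAntidiagonal.antidiagonal 0)) :=
  LinearMap.codRestrict _
    (LinearMap.single (R ⊗[k] S) (fun pq => (YY (k := k) EM EN pq).carrier) (0, 0) ∘ₗ
      mapA (k := k) EM.ε EN.ε)
    (fun x pq hpq => by
      have hne : pq ≠ (0, 0) := by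
        rintro rfl
        exact hpq (Finset.HasAntidiagonal.mem_antidiagonal.mpr rfl)
      exact Pi.single_eq_of_ne (M := fun pq => (YY (k := k) EM EN pq).carrier) hne _)

lemma totε_coe (x : M ⊗[k] N) :
    ((totε EM EN x : ↥(PiS (YY (k := k) EM EN) _)) : WW (k := k) EM EN) =
      Pi.single (M := fun pq => (YY (k := k) EM EN pq).carrier) (0, 0)
        (mapA (k := k) EM.ε EN.ε x) := rfl


lemma dL_mem {p q : ℕ} {g : ℤ × ℤ} {x : (EM.X p).carrier ⊗[k] (EN.X q).carrier}
    (hx : x ∈ biGr (k := k) (EM.X p).gr (EN.X q).gr g) :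
    TensorProduct.map ((EM.d p).restrictScalars k) (LinearMap.id : (EN.X q).carrier →ₗ[k] _) x ∈
      biGr (k := k) (EM.X (p + 1)).gr (EN.X q).gr g :=
  mapA_isGrHom (k := k) (f := EM.d p) (g := (LinearMap.id : (EN.X q).carrier →ₗ[S] _))
    (EM.d_grHom p) (fun _ _ h => h) g x hx

lemma dR_mem {p q : ℕ} {g : ℤ × ℤ} {x : (EM.X p).carrier ⊗[k] (EN.X q).carrier}
    (hx : x ∈ biGr (k := k) (EM.X p).gr (EN.X q).gr g) :
    TensorProduct.map (LinearMap.id : (EM.X p).carrier →ₗ[k] _) ((EN.d q).restrictScalars k) x ∈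
      biGr (k := k) (EM.X p).gr (EN.X (q + 1)).gr g :=
  mapA_isGrHom (k := k) (f := (LinearMap.id : (EM.X p).carrier →ₗ[R] _)) (g := EN.d q)
    (fun _ _ h => h) (EN.d_grHom q) g x hx

lemma totD_isGrHom (j : ℕ) :
    IsGrHom (piGr (YY (k := k) EM EN) (Finset.HasAntidiagonal.antidiagonal j))
      (piGr (YY (k := k) EM EN) (Finset.HasAntidiagonal.antidiagonal (j + 1))) (totD EM EN j) := by
  intro g w hw pq
  obtain ⟨p, q⟩ := pq
  rw [totD_coe]
  rcases p with _ | p <;> rcases q with _ | q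
  · rw [Dtot_zero_zero]; exact zero_mem _
  · rw [Dtot_zero_succ]
    exact (biSub (k := k) (EM.X 0).gr (EN.X (q + 1)).gr g).smul_mem _ (dR_mem EM EN (hw (0, q)))
  · rw [Dtot_succ_zero]
    exact dL_mem EM EN (hw (p, 0))
  · rw [Dtot_succ_succ]
    exact add_mem (dL_mem EM EN (hw (p, q + 1)))
      ((biSub (k := k) (EM.X (p + 1)).gr (EN.X (q + 1)).gr g).smul_mem _
        (dR_mem EM EN (hw (p + 1, q))))

lemma totε_isGrHom :
    IsGrHom (biGr (k := k) ℳ 𝒩)
      (piGr (YY (k := k) EM EN) (Finset.HasAntidiagonal.antidiagonal 0)) (totε EM EN) := by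
  intro g x hx pq
  rw [totε_coe]
  by_cases hpq : pq = (0, 0)
  · subst hpq
    rw [Pi.single_eq_same]
    exact mapA_isGrHom (k := k) EM.ε_grHom EN.ε_grHom g x hx
  · rw [Pi.single_eq_of_ne (M := fun pq => (YY (k := k) EM EN pq).carrier) hpq]
    exact zero_mem _

lemma totε_injective : Function.Injective (totε (k := k) EM EN) := by
  intro x y hxy
  have h1 := congrFun (congrArg Subtype.val hxy) (0, 0)
  rw [totε_coe, totε_coe, Pi.single_eq_same, Pi.single_eq_same] at h1
  exact TensorProduct.map_injective_of_flat_flat (EM.ε.restrictScalars k)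
    (EN.ε.restrictScalars k) EM.ε_injective EN.ε_injective h1


lemma tot_exact_succ (j : ℕ) :
    LinearMap.ker (totD (k := k) EM EN (j + 1)) = LinearMap.range (totD (k := k) EM EN j) := by
  obtain ⟨S₁⟩ := (cxOf k EM).nonempty_htpy
  obtain ⟨S₂⟩ := (cxOf k EN).nonempty_htpy
  apply le_antisymm
  · intro w hw
    have hd : Dtot (cxOf k EM) (cxOf k EN) (w : WW (k := k) EM EN) = 0 := by
      have := congrArg Subtype.val (LinearMap.mem_ker.mp hw)
      exact this
    have hs : (w : WW (k := k) EM EN) ∈ supp (cxOf k EM) (cxOf k EN) (j + 1) :=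
      (mem_PiS_anti EM EN).mp w.2
    have hR : Rtot S₁ S₂ (w : WW (k := k) EM EN) = 0 := by
      funext pq
      obtain ⟨p, q⟩ := pq
      rw [Rtot_apply]
      by_cases hpq : p + q = j + 1
      · have hsub : Subsingleton ((cxOf k EM).Hm p ⊗[k] (cxOf k EN).Hm q) := by
          rcases p with _ | p
          · rcases q with _ | q
            · omega
            · exact subsingleton_tensor_right (subsingleton_Hm_succ k EN q)
          · exact subsingleton_tensor_left (subsingleton_Hm_succ k EM p)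
        exact hsub.elim _ _
      · rw [hs (p, q) hpq, map_zero]
        rfl
    obtain ⟨v, hv, hvw⟩ := exists_Dtot_eq S₁ S₂ hs hd hR
    exact ⟨⟨v, (mem_PiS_anti EM EN).mpr hv⟩, Subtype.ext hvw⟩
  · rintro _ ⟨v, rfl⟩
    apply LinearMap.mem_ker.mpr
    apply Subtype.ext
    rw [totD_coe, totD_coe]
    exact Dtot_Dtot _ _ _

lemma map_π_mem_range (S₁ : (cxOf k EM).Htpy) (S₂ : (cxOf k EN).Htpy)
    (y : (EM.X 0).carrier ⊗[k] (EN.X 0).carrier) :
    TensorProduct.map (S₁.π 0) (S₂.π 0) y ∈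
      LinearMap.range (TensorProduct.map (EM.ε.restrictScalars k) (EN.ε.restrictScalars k)) := by
  induction y using TensorProduct.induction_on with
  | zero => rw [map_zero]; exact zero_mem _
  | tmul a b =>
    have ha : S₁.π 0 a ∈ LinearMap.ker (EM.d 0) := S₁.π_mem_Z 0 a
    have hb : S₂.π 0 b ∈ LinearMap.ker (EN.d 0) := S₂.π_mem_Z 0 b
    rw [EM.exact_zero] at ha
    rw [EN.exact_zero] at hb
    obtain ⟨m, hm⟩ := ha
    obtain ⟨n, hn⟩ := hb
    refine ⟨m ⊗ₜ[k] n, ?_⟩
    rw [TensorProduct.map_tmul, TensorProduct.map_tmul]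
    change EM.ε m ⊗ₜ[k] EN.ε n = _
    rw [hm, hn]
  | add x y hx hy => rw [map_add]; exact add_mem hx hy

lemma tot_exact_zero :
    LinearMap.ker (totD (k := k) EM EN 0) = LinearMap.range (totε (k := k) EM EN) := by
  obtain ⟨S₁⟩ := (cxOf k EM).nonempty_htpy
  obtain ⟨S₂⟩ := (cxOf k EN).nonempty_htpy
  apply le_antisymm
  · intro w hw
    have hd : Dtot (cxOf k EM) (cxOf k EN) (w : WW (k := k) EM EN) = 0 := by
      have := congrArg Subtype.val (LinearMap.mem_ker.mp hw)
      exact this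
    have hs : (w : WW (k := k) EM EN) ∈ supp (cxOf k EM) (cxOf k EN) 0 :=
      (mem_PiS_anti EM EN).mp w.2
    have hP := eq_Ptot_of_supp_zero S₁ S₂ hs hd
    have h00 : (w : WW (k := k) EM EN) (0, 0) =
        TensorProduct.map (S₁.π 0) (S₂.π 0) ((w : WW (k := k) EM EN) (0, 0)) := by
      have := congrFun hP (0, 0)
      rw [Ptot_apply] at this
      exact this
    obtain ⟨x, hx⟩ := map_π_mem_range EM EN S₁ S₂ ((w : WW (k := k) EM EN) (0, 0))
    refine ⟨x, ?_⟩
    apply Subtype.ext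
    rw [totε_coe]
    funext pq
    by_cases hpq : pq = (0, 0)
    · subst hpq
      rw [Pi.single_eq_same, h00, ← hx]
      rfl
    · rw [Pi.single_eq_of_ne (M := fun pq => (YY (k := k) EM EN pq).carrier) hpq]
      have : pq.1 + pq.2 ≠ 0 := by
        intro h0
        apply hpq
        have h1 : pq.1 = 0 := by omega
        have h2 : pq.2 = 0 := by omega
        exact Prod.ext h1 h2
      exact (hs pq this).symm
  · rintro _ ⟨x, rfl⟩
    apply LinearMap.mem_ker.mpr
    apply Subtype.ext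
    rw [totD_coe, totε_coe]
    have hkey : ∀ x : M ⊗[k] N,
        TensorProduct.map ((EM.d 0).restrictScalars k) (LinearMap.id : (EN.X 0).carrier →ₗ[k] _)
          (mapA (k := k) EM.ε EN.ε x) = 0 ∧
        TensorProduct.map (LinearMap.id : (EM.X 0).carrier →ₗ[k] _) ((EN.d 0).restrictScalars k)
          (mapA (k := k) EM.ε EN.ε x) = 0 := by
      intro x
      induction x using TensorProduct.induction_on with
      | zero => simp
      | tmul m n =>
        have h1 : EM.d 0 (EM.ε m) = 0 := ConeData.d_ε_apply EM m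
        have h2 : EN.d 0 (EN.ε n) = 0 := ConeData.d_ε_apply EN n
        constructor
        · rw [mapA_tmul, TensorProduct.map_tmul]
          change EM.d 0 (EM.ε m) ⊗ₜ[k] _ = 0
          rw [h1, TensorProduct.zero_tmul]
        · rw [mapA_tmul, TensorProduct.map_tmul]
          change _ ⊗ₜ[k] EN.d 0 (EN.ε n) = 0
          rw [h2, TensorProduct.tmul_zero]
      | add x y hx hy =>
        constructor
        · rw [map_add, map_add, hx.1, hy.1, add_zero]
        · rw [map_add, map_add, hx.2, hy.2, add_zero]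
    exact Dtot_single_zero (cxOf k EM) (cxOf k EN) _ (hkey x).1 (hkey x).2

/-- **the total resolution** of `M ⊗[k] N`. -/
noncomputable def totRes : GRes (biGr (k := k) 𝒜 ℬ) (biGr (k := k) ℳ 𝒩) where
  X j := piGMod (YY (k := k) EM EN) (Finset.HasAntidiagonal.antidiagonal j)
  d j := totD EM EN j
  ε := totε EM EN
  d_grHom j := totD_isGrHom EM EN j
  ε_grHom := totε_isGrHom EM EN
  ε_injective := totε_injective EM EN
  exact_zero := tot_exact_zero EM EN
  exact_succ j := tot_exact_succ EM EN j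


section Acyc

variable [IsNoetherianRing R] [IsNoetherianRing S] [IsNoetherianRing (R ⊗[k] S)]
variable (m : HomogeneousIdeal 𝒜) (n : HomogeneousIdeal ℬ)

lemma acyclic_YY (pq : ℕ × ℕ) :
    Acyclic (extL (k := k) 𝒜 ℬ m ⊔ extR (k := k) 𝒜 ℬ n) (YY (k := k) EM EN pq) := by
  intro G p
  obtain ⟨GE⟩ := nonempty_starInjRes 𝒜 (EM.X pq.1).gr
  obtain ⟨GF⟩ := nonempty_starInjRes ℬ (EN.X pq.2).gr
  letI : Module k (GE.H m 0) := Module.compHom _ (algebraMap k R)
  haveI : IsScalarTower k R (GE.H m 0) := IsScalarTower.of_algebraMap_smul (fun r x => rfl)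
  letI : Module k (GF.H n 0) := Module.compHom _ (algebraMap k S)
  haveI : IsScalarTower k S (GF.H n 0) := IsScalarTower.of_algebraMap_smul (fun r x => rfl)
  let G' : StarInjRes (biGr (k := k) 𝒜 ℬ) (biGr (k := k) (EM.X pq.1).gr (EN.X pq.2).gr) := G
  have h := kunneth_sup (k := k) m n GE GF G' 0 0
    (fun i hi => by
      obtain ⟨i', rfl⟩ := Nat.exists_eq_succ_of_ne_zero hi
      exact subsingleton_H_of_isStarInj' (EM.starInj pq.1) GE m i')
    (fun i hi => by
      obtain ⟨i', rfl⟩ := Nat.exists_eq_succ_of_ne_zero hi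
      exact subsingleton_H_of_isStarInj' (EN.starInj pq.2) GF n i')
  exact h.1 (p + 1) (Nat.succ_ne_zero p)

lemma acyclic_totRes (j : ℕ) :
    Acyclic (extL (k := k) 𝒜 ℬ m ⊔ extR (k := k) 𝒜 ℬ n) ((totRes (k := k) EM EN).X j) :=
  acyclic_piGMod _ _ _ (fun pq _ => acyclic_YY EM EN m n pq)

/-- the total resolution computes `H_{mA + nA}(M ⊗ N)`. -/
theorem exists_computes_totRes
    (EX : StarInjRes (biGr (k := k) 𝒜 ℬ) (biGr (k := k) ℳ 𝒩)) (j : ℕ) :
    ∃ φ : ↥((totRes (k := k) EM EN).cocyc (extL (k := k) 𝒜 ℬ m ⊔ extR (k := k) 𝒜 ℬ n) j)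
        →ₗ[R ⊗[k] S] EX.H (extL (k := k) 𝒜 ℬ m ⊔ extR (k := k) 𝒜 ℬ n) j,
      (totRes (k := k) EM EN).Computes (extL (k := k) 𝒜 ℬ m ⊔ extR (k := k) 𝒜 ℬ n) EX j φ :=
  GRes.arl _ j (M ⊗[k] N) (biGr (k := k) ℳ 𝒩) (totRes (k := k) EM EN)
    (acyclic_totRes EM EN m n) EX

end Acyc

end Tot

end Groth.Agent.Lib.Helper11.Kun
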