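import Groth.Agent.Lib.Helper11.GrKunG

/-!
# Strands of the total complex: `Γ_{mA+nA}(E ⊗ F)` in bidegree `(d, e)`
-/

set_option autoImplicit false
set_option linter.unusedSectionVars false
set_option linter.unusedVariables false
set_option linter.style.haveILetI false
set_option maxHeartbeats 1000000
universe u

open scoped TensorProduct

namespace Groth.Agent.Lib.Helper11.Kun

open DirectSum GrLC Groth.Agent.Lib.Helper11.GrLCLib Groth.Agent.Lib.Helper11.GrLes
  Groth.Agent.Lib.Helper11.Seg Groth.Agent.Lib.Helper11.GrMV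

section LinAlg

variable {k : Type u} [Field k] {V W : Type u} [AddCommGroup V] [Module k V] [AddCommGroup W]
  [Module k W]

/-- `(U ⊗ W) ∩ (V ⊗ Z) = U ⊗ Z` inside `V ⊗ W`. -/
lemma mem_range_map_of_mem_left_right (U : Submodule k V) (Z : Submodule k W) (x : V ⊗[k] W)
    (h1 : x ∈ LinearMap.range (TensorProduct.map U.subtype (LinearMap.id : W →ₗ[k] W)))
    (h2 : x ∈ LinearMap.range (TensorProduct.map (LinearMap.id : V →ₗ[k] V) Z.subtype)) :
    x ∈ LinearMap.range (TensorProduct.map U.subtype Z.subtype) := by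
  obtain ⟨r, hr⟩ := LinearMap.exists_leftInverse_of_injective U.subtype (Submodule.ker_subtype U)
  obtain ⟨y, rfl⟩ := h1
  obtain ⟨z, hz⟩ := h2
  have h3 : TensorProduct.map r (LinearMap.id : W →ₗ[k] W)
      (TensorProduct.map U.subtype (LinearMap.id : W →ₗ[k] W) y) = y := by
    rw [← LinearMap.comp_apply, ← TensorProduct.map_comp, hr, LinearMap.id_comp,
      TensorProduct.map_id, LinearMap.id_apply]
  have hy : y = TensorProduct.map (LinearMap.id : ↥U →ₗ[k] ↥U) Z.subtype
      (TensorProduct.map r (LinearMap.id : ↥Z →ₗ[k] ↥Z) z) := by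
    rw [← h3, ← hz, ← LinearMap.comp_apply, ← LinearMap.comp_apply, ← TensorProduct.map_comp,
      ← TensorProduct.map_comp, LinearMap.id_comp, LinearMap.comp_id, LinearMap.id_comp,
      LinearMap.comp_id]
  refine ⟨TensorProduct.map r (LinearMap.id : ↥Z →ₗ[k] ↥Z) z, ?_⟩
  rw [hy, ← LinearMap.comp_apply (TensorProduct.map U.subtype (LinearMap.id : W →ₗ[k] W)),
    ← TensorProduct.map_comp, LinearMap.comp_id, LinearMap.id_comp]

end LinAlg

section Gam

variable {k : Type u} [Field k] {R S : Type u} [CommRing R] [CommRing S] [Algebra k R]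
  [Algebra k S]
variable {M N : Type u} [AddCommGroup M] [Module R M] [Module k M] [IsScalarTower k R M]
  [AddCommGroup N] [Module S N] [Module k N] [IsScalarTower k S N]

lemma mem_gam_extIdeal_iff (m : Ideal R) (x : M ⊗[k] N) :
    x ∈ gam (extIdeal (k := k) (S := S) m) (M ⊗[k] N) ↔
      x ∈ LinearMap.range (TensorProduct.map (((gam m M).subtype).restrictScalars k)
        (LinearMap.id : N →ₗ[k] N)) := by
  rw [gam_extIdeal]
  constructor
  · rintro ⟨y, rfl⟩; exact ⟨y, rfl⟩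
  · rintro ⟨y, rfl⟩; exact ⟨y, rfl⟩

lemma comm_mem_gam {n : Ideal S} {x : M ⊗[k] N}
    (hx : x ∈ gam (extIdealR (k := k) (R := R) n) (M ⊗[k] N)) :
    TensorProduct.comm k M N x ∈ gam (extIdeal (k := k) (S := R) n) (N ⊗[k] M) := by
  obtain ⟨t, ht⟩ := hx
  refine ⟨t, fun a ha => ?_⟩
  have h1 : swapRing (k := k) (R := R) (S := S) a ∈ (extIdealR (k := k) (R := R) n) ^ t := by
    rw [← map_swapRing_extIdeal, ← Ideal.map_pow]
    exact Ideal.mem_map_of_mem _ ha
  have h2 := comm_smul (k := k) (R := R) (S := S) (M := M) (N := N) a (TensorProduct.comm k M N x)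
  have h3 : TensorProduct.comm k N M (TensorProduct.comm k M N x) = x := by
    rw [← TensorProduct.comm_symm, LinearEquiv.symm_apply_apply]
  rw [h3, ht _ h1] at h2
  exact (TensorProduct.comm k N M).injective (h2.trans (map_zero _).symm)

lemma mem_range_of_mem_gam_extIdealR (n : Ideal S) (x : M ⊗[k] N)
    (hx : x ∈ gam (extIdealR (k := k) (R := R) n) (M ⊗[k] N)) :
    x ∈ LinearMap.range (TensorProduct.map (LinearMap.id : M →ₗ[k] M)
      (((gam n N).subtype).restrictScalars k)) := by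
  have h1 := (mem_gam_extIdeal_iff (k := k) (S := R) (M := N) (N := M) n _).mp (comm_mem_gam hx)
  obtain ⟨z, hz⟩ := h1
  refine ⟨TensorProduct.comm k _ _ z, ?_⟩
  have h2 := TensorProduct.map_comm (LinearMap.id : M →ₗ[k] M)
    (((gam n N).subtype).restrictScalars k) z
  have h3 : TensorProduct.comm k N M (TensorProduct.comm k M N x) = x := by
    rw [← TensorProduct.comm_symm, LinearEquiv.symm_apply_apply]
  rw [h2, hz, h3]

/-- if `n` kills `x`, then `nA` kills `x`. -/
lemma extIdealR_smul_eq_zero {n : Ideal S} {x : M ⊗[k] N}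
    (h : ∀ s ∈ n, ((1 : R) ⊗ₜ[k] s : R ⊗[k] S) • x = 0) :
    ∀ a ∈ extIdealR (k := k) (R := R) n, a • x = 0 := by
  intro a ha
  refine Submodule.span_induction (p := fun a _ => a • x = 0) ?_ ?_ ?_ ?_ ha
  · rintro _ ⟨s, hs, rfl⟩
    exact h s hs
  · rw [zero_smul]
  · intro a b _ _ ha hb; rw [add_smul, ha, hb, add_zero]
  · intro c a _ ha; rw [smul_eq_mul, mul_smul, ha, smul_zero]

lemma extIdealR_pow (n : Ideal S) (t : ℕ) :
    (extIdealR (k := k) (R := R) n) ^ t = extIdealR (k := k) (R := R) (n ^ t) :=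
  (Ideal.map_pow _ n t).symm

lemma tmul_mem_gam_extIdeal {m : Ideal R} {u : M} (hu : u ∈ gam m M) (z : N) :
    u ⊗ₜ[k] z ∈ gam (extIdeal (k := k) (S := S) m) (M ⊗[k] N) := by
  obtain ⟨t, ht⟩ := hu
  refine ⟨t, ?_⟩
  rw [extIdeal_pow]
  apply extIdeal_smul_eq_zero
  intro r hr
  rw [TensorProduct.smul_tmul', ht r hr, TensorProduct.zero_tmul]

lemma tmul_mem_gam_extIdealR {n : Ideal S} (u : M) {z : N} (hz : z ∈ gam n N) :
    u ⊗ₜ[k] z ∈ gam (extIdealR (k := k) (R := R) n) (M ⊗[k] N) := by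
  obtain ⟨t, ht⟩ := hz
  refine ⟨t, ?_⟩
  rw [extIdealR_pow]
  apply extIdealR_smul_eq_zero
  intro s hs
  rw [tmul_smul_tmul, ht s hs, TensorProduct.tmul_zero]

end Gam

section TTmap

variable {k : Type u} [Field k] {C C' D D' : Cx k}
  (f : ∀ p, C.X p →ₗ[k] C'.X p) (g : ∀ q, D.X q →ₗ[k] D'.X q)

/-- the map of full products induced by two families of maps. -/
def TTmap : TT C D →ₗ[k] TT C' D' :=
  LinearMap.pi (fun pq => TensorProduct.map (f pq.1) (g pq.2) ∘ₗ LinearMap.proj pq)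

lemma TTmap_apply (w : TT C D) (pq : ℕ × ℕ) :
    TTmap f g w pq = TensorProduct.map (f pq.1) (g pq.2) (w pq) := rfl

lemma TTmap_injective (hf : ∀ p, Function.Injective (f p)) (hg : ∀ q, Function.Injective (g q)) :
    Function.Injective (TTmap f g) := by
  intro w w' h
  funext pq
  have := congrFun h pq
  rw [TTmap_apply, TTmap_apply] at this
  exact TensorProduct.map_injective_of_flat_flat _ _ (hf pq.1) (hg pq.2) this

lemma TTmap_mem_supp {j : ℕ} {w : TT C D} (hw : w ∈ supp C D j) :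
    TTmap f g w ∈ supp C' D' j := by
  intro pq h
  rw [TTmap_apply, hw pq h, map_zero]

lemma mem_supp_of_TTmap (hf : ∀ p, Function.Injective (f p))
    (hg : ∀ q, Function.Injective (g q)) {j : ℕ} {w : TT C D}
    (hw : TTmap f g w ∈ supp C' D' j) : w ∈ supp C D j := by
  intro pq h
  have h1 := hw pq h
  rw [TTmap_apply] at h1
  exact TensorProduct.map_injective_of_flat_flat _ _ (hf pq.1) (hg pq.2)
    (h1.trans (map_zero _).symm)

lemma TTmap_Dtot (hf : ∀ p, f (p + 1) ∘ₗ C.d p = C'.d p ∘ₗ f p)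
    (hg : ∀ q, g (q + 1) ∘ₗ D.d q = D'.d q ∘ₗ g q) (w : TT C D) :
    TTmap f g (Dtot C D w) = Dtot C' D' (TTmap f g w) := by
  have hL : ∀ p q (x : C.X p ⊗[k] D.X q),
      TensorProduct.map (f (p + 1)) (g q) (TensorProduct.map (C.d p) LinearMap.id x) =
        TensorProduct.map (C'.d p) LinearMap.id (TensorProduct.map (f p) (g q) x) := by
    intro p q x
    rw [← LinearMap.comp_apply, ← LinearMap.comp_apply, ← TensorProduct.map_comp,
      ← TensorProduct.map_comp, hf, LinearMap.comp_id, LinearMap.id_comp]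
  have hR : ∀ p q (x : C.X p ⊗[k] D.X q),
      TensorProduct.map (f p) (g (q + 1)) (TensorProduct.map LinearMap.id (D.d q) x) =
        TensorProduct.map LinearMap.id (D'.d q) (TensorProduct.map (f p) (g q) x) := by
    intro p q x
    rw [← LinearMap.comp_apply, ← LinearMap.comp_apply, ← TensorProduct.map_comp,
      ← TensorProduct.map_comp, hg, LinearMap.comp_id, LinearMap.id_comp]
  funext pq
  obtain ⟨p, q⟩ := pq
  rw [TTmap_apply]
  rcases p with _ | p <;> rcases q with _ | q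
  · rw [Dtot_zero_zero, Dtot_zero_zero, map_zero]
  · rw [Dtot_zero_succ, Dtot_zero_succ, map_smul, hR, TTmap_apply]
  · rw [Dtot_succ_zero, Dtot_succ_zero, hL, TTmap_apply]
  · rw [Dtot_succ_succ, Dtot_succ_succ, map_add, map_smul, hL, hR, TTmap_apply, TTmap_apply]

/-- truncation to an antidiagonal. -/
def trunc (C D : Cx k) (j : ℕ) : TT C D →ₗ[k] TT C D :=
  LinearMap.pi (fun pq => if pq.1 + pq.2 = j then LinearMap.proj pq else 0)

lemma trunc_apply_of_eq {j : ℕ} (w : TT C D) {pq : ℕ × ℕ} (h : pq.1 + pq.2 = j) :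
    trunc C D j w pq = w pq := by
  simp [trunc, h]

lemma trunc_apply_of_ne {j : ℕ} (w : TT C D) {pq : ℕ × ℕ} (h : pq.1 + pq.2 ≠ j) :
    trunc C D j w pq = 0 := by
  simp [trunc, h]

lemma trunc_mem_supp (j : ℕ) (w : TT C D) : trunc C D j w ∈ supp C D j :=
  fun pq h => trunc_apply_of_ne w h

/-- a coboundary of total degree `j + 1` is the coboundary of an element of total degree `j`. -/
lemma Dtot_trunc {j : ℕ} {u : TT C D} (h : Dtot C D u ∈ supp C D (j + 1)) :
    Dtot C D (trunc C D j u) = Dtot C D u := by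
  funext pq
  obtain ⟨p, q⟩ := pq
  by_cases hpq : p + q = j + 1
  · rcases p with _ | p <;> rcases q with _ | q
    · rw [Dtot_zero_zero, Dtot_zero_zero]
    · rw [Dtot_zero_succ, Dtot_zero_succ, trunc_apply_of_eq u (by simp at hpq ⊢; omega)]
    · rw [Dtot_succ_zero, Dtot_succ_zero, trunc_apply_of_eq u (by simp at hpq ⊢; omega)]
    · rw [Dtot_succ_succ, Dtot_succ_succ, trunc_apply_of_eq u (by simp at hpq ⊢; omega),
        trunc_apply_of_eq u (by simp at hpq ⊢; omega)]
  · rw [h (p, q) hpq, Dtot_mem_supp (trunc_mem_supp j u) (p, q) hpq]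

/-- a coboundary of total degree `0` vanishes. -/
lemma eq_zero_of_Dtot_mem_supp_zero {u : TT C D} (h : Dtot C D u ∈ supp C D 0) :
    Dtot C D u = 0 := by
  funext pq
  obtain ⟨p, q⟩ := pq
  by_cases hpq : p + q = 0
  · have hp : p = 0 := by omega
    have hq : q = 0 := by omega
    subst hp hq
    rw [Dtot_zero_zero]; rfl
  · exact h (p, q) hpq

end TTmap

section Strand

variable {k : Type u} [Field k] {R S : Type u} [CommRing R] [CommRing S] [Algebra k R]
  [Algebra k S]
variable {𝒜 : ℤ → AddSubgroup R} [GradedRing 𝒜] {ℬ : ℤ → AddSubgroup S} [GradedRing ℬ]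
  [IsKAlgGr k 𝒜] [IsKAlgGr k ℬ]

/-- the degree-`d` part of the `m`-torsion, as a `k`-subspace. -/
def strandSub {E : Type u} [AddCommGroup E] [Module R E] [Module k E] [IsScalarTower k R E]
    (ℰ : ℤ → AddSubgroup E) [IsKGr k ℰ] (m : HomogeneousIdeal 𝒜) (d : ℤ) : Submodule k E where
  carrier := {x | x ∈ gam m.toIdeal E ∧ x ∈ ℰ d}
  add_mem' ha hb := ⟨add_mem ha.1 hb.1, add_mem ha.2 hb.2⟩
  zero_mem' := ⟨zero_mem _, zero_mem _⟩
  smul_mem' c x hx := ⟨by
    rw [← algebraMap_smul R c x]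
    exact Submodule.smul_mem _ _ hx.1, IsKGr.smul_mem d c x hx.2⟩

lemma mem_strandSub {E : Type u} [AddCommGroup E] [Module R E] [Module k E] [IsScalarTower k R E]
    (ℰ : ℤ → AddSubgroup E) [IsKGr k ℰ] (m : HomogeneousIdeal 𝒜) (d : ℤ) (x : E) :
    x ∈ strandSub (k := k) ℰ m d ↔ x ∈ gam m.toIdeal E ∧ x ∈ ℰ d := Iff.rfl

variable {E F : Type u} [AddCommGroup E] [Module R E] [Module k E] [IsScalarTower k R E]
  [AddCommGroup F] [Module S F] [Module k F] [IsScalarTower k S F]
variable (ℰ : ℤ → AddSubgroup E) [DirectSum.Decomposition ℰ] [SetLike.GradedSMul 𝒜 ℰ] [IsKGr k ℰ]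
  (ℱ : ℤ → AddSubgroup F) [DirectSum.Decomposition ℱ] [SetLike.GradedSMul ℬ ℱ] [IsKGr k ℱ]
variable (m : HomogeneousIdeal 𝒜) (n : HomogeneousIdeal ℬ) (d e : ℤ)

/-- projection of the torsion onto its degree-`d` part. -/
noncomputable def strandProj : ↥(gam m.toIdeal E) →ₗ[k] ↥(strandSub (k := k) ℰ m d) :=
  LinearMap.codRestrict _ (projK k ℰ d ∘ₗ ((gam m.toIdeal E).subtype).restrictScalars k)
    (fun y => ⟨gam_isHomogeneous 𝒜 ℰ m d y.2, projK_mem k ℰ d _⟩)

lemma strandProj_coe (y : ↥(gam m.toIdeal E)) :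
    ((strandProj (k := k) ℰ m d y : ↥(strandSub (k := k) ℰ m d)) : E) = projK k ℰ d (y : E) := rfl

/-- **strands**: the part of bidegree `(d, e)` of `Γ_{mA+nA}(E ⊗ F)`. -/
theorem mem_range_strand (x : E ⊗[k] F)
    (hx : x ∈ gam (extL (k := k) 𝒜 ℬ m ⊔ extR (k := k) 𝒜 ℬ n).toIdeal (E ⊗[k] F))
    (hg : x ∈ biGr (k := k) ℰ ℱ (d, e)) :
    x ∈ LinearMap.range (TensorProduct.map (strandSub (k := k) ℰ m d).subtype
      (strandSub (k := k) ℱ n e).subtype) := by
  rw [HomogeneousIdeal.toIdeal_sup, gam_sup] at hx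
  obtain ⟨ha, hb⟩ := hx
  have hbi : biProj ℰ ℱ (d, e) x = x := biProj_of_mem ℰ ℱ hg
  apply mem_range_map_of_mem_left_right
  · obtain ⟨y, hy⟩ := (mem_gam_extIdeal_iff (k := k) (S := S) m.toIdeal x).mp ha
    refine ⟨TensorProduct.map (strandProj (k := k) ℰ m d) (projK k ℱ e) y, ?_⟩
    rw [← LinearMap.comp_apply, ← TensorProduct.map_comp]
    have h1 : (strandSub (k := k) ℰ m d).subtype ∘ₗ strandProj (k := k) ℰ m d =
        projK k ℰ d ∘ₗ ((gam m.toIdeal E).subtype).restrictScalars k := rfl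
    rw [h1, LinearMap.id_comp]
    have h2 : TensorProduct.map (projK k ℰ d ∘ₗ ((gam m.toIdeal E).subtype).restrictScalars k)
        (projK k ℱ e) y = biProj ℰ ℱ (d, e) x := by
      rw [← hy]
      change _ = TensorProduct.map (projK k ℰ d) (projK k ℱ e) _
      rw [← LinearMap.comp_apply (TensorProduct.map (projK k ℰ d) (projK k ℱ e)),
        ← TensorProduct.map_comp, LinearMap.comp_id]
    rw [h2, hbi]
  · obtain ⟨y, hy⟩ := mem_range_of_mem_gam_extIdealR (k := k) (R := R) n.toIdeal x hb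
    refine ⟨TensorProduct.map (projK k ℰ d) (strandProj (k := k) ℱ n e) y, ?_⟩
    rw [← LinearMap.comp_apply, ← TensorProduct.map_comp]
    have h1 : (strandSub (k := k) ℱ n e).subtype ∘ₗ strandProj (k := k) ℱ n e =
        projK k ℱ e ∘ₗ ((gam n.toIdeal F).subtype).restrictScalars k := rfl
    rw [h1, LinearMap.id_comp]
    have h2 : TensorProduct.map (projK k ℰ d)
        (projK k ℱ e ∘ₗ ((gam n.toIdeal F).subtype).restrictScalars k) y =
          biProj ℰ ℱ (d, e) x := by
      rw [← hy]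
      change _ = TensorProduct.map (projK k ℰ d) (projK k ℱ e) _
      rw [← LinearMap.comp_apply (TensorProduct.map (projK k ℰ d) (projK k ℱ e)),
        ← TensorProduct.map_comp, LinearMap.comp_id]
    rw [h2, hbi]

/-- the converse. -/
theorem strand_mem (w : ↥(strandSub (k := k) ℰ m d) ⊗[k] ↥(strandSub (k := k) ℱ n e)) :
    TensorProduct.map (strandSub (k := k) ℰ m d).subtype (strandSub (k := k) ℱ n e).subtype w ∈
        gam (extL (k := k) 𝒜 ℬ m ⊔ extR (k := k) 𝒜 ℬ n).toIdeal (E ⊗[k] F) ∧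
      TensorProduct.map (strandSub (k := k) ℰ m d).subtype (strandSub (k := k) ℱ n e).subtype w ∈
        biGr (k := k) ℰ ℱ (d, e) := by
  rw [HomogeneousIdeal.toIdeal_sup, gam_sup]
  induction w using TensorProduct.induction_on with
  | zero => rw [map_zero]; exact ⟨zero_mem _, zero_mem _⟩
  | tmul u z =>
    rw [TensorProduct.map_tmul]
    exact ⟨⟨tmul_mem_gam_extIdeal (k := k) (S := S) u.2.1 _,
      tmul_mem_gam_extIdealR (k := k) (R := R) _ z.2.1⟩, tmul_mem_biGr ℰ ℱ u.2.2 z.2.2⟩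
  | add x y hx hy =>
    rw [map_add]
    exact ⟨add_mem hx.1 hy.1, add_mem hx.2 hy.2⟩

end Strand

end Groth.Agent.Lib.Helper11.Kun
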