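import Groth.Agent.Lib.Helper11.GrKunH

/-!
# The graded Künneth formula for `H_{mA+nA}(M ⊗ N)`
-/

set_option autoImplicit false
set_option linter.unusedSectionVars false
set_option linter.unusedVariables false
set_option linter.style.haveILetI false
set_option maxHeartbeats 1000000
universe u

open scoped TensorProduct

namespace Groth.Agent.Lib.Helper11.Kun

open DirectSum GrLC Groth.Agent.Lib.Helper11.GrLCLib Groth.Agent.Lib.Helper11.GrLes
  Groth.Agent.Lib.Helper11.Seg Groth.Agent.Lib.Helper11.GrMV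

attribute [local instance] kModG kTowerG kGrG

section PiGam

variable {ι : Type} [DecidableEq ι] [AddCommGroup ι]
variable {R : Type u} [CommRing R] {𝒜 : ι → AddSubgroup R} [GradedRing 𝒜]
variable {I : Type} [DecidableEq I] (Y : I → GMod.{u} 𝒜) (s : Finset I)

lemma mem_gam_PiS_iff (a : Ideal R) (t : ↥(PiS Y s)) :
    t ∈ gam a ↥(PiS Y s) ↔ ∀ i, (t : (i : I) → (Y i).carrier) i ∈ gam a (Y i).carrier := by
  constructor
  · intro h i
    exact map_mem_gam (piEval Y s i) a h
  · intro h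
    have h1 : t = ∑ i ∈ s.attach, piIncl Y s i.2 (piEval Y s i.1 t) := by
      have := LinearMap.congr_fun (sum_piIncl_piEval Y s) t
      rw [LinearMap.sum_apply, LinearMap.id_apply] at this
      exact this.symm
    rw [h1]
    exact Submodule.sum_mem _ (fun i _ => map_mem_gam (piIncl Y s i.2) a (h i.1))

end PiGam

section HK

variable {ι : Type} [DecidableEq ι] [AddCommGroup ι]
variable {k : Type u} [Field k] {A : Type u} [CommRing A] [Algebra k A]
  {𝒜 : ι → AddSubgroup A} [GradedRing 𝒜]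
variable {X : Type u} [AddCommGroup X] [Module A X] {𝒳 : ι → AddSubgroup X}
  [DirectSum.Decomposition 𝒳] [SetLike.GradedSMul 𝒜 𝒳]

/-- `*H` with its `k`-vector space structure (a type synonym, to avoid instance diamonds). -/
def HK (k : Type u) [Field k] [Algebra k A] (E : StarInjRes 𝒜 𝒳) (a : HomogeneousIdeal 𝒜)
    (q : ℕ) : Type u := E.H a q

instance (E : StarInjRes 𝒜 𝒳) (a : HomogeneousIdeal 𝒜) (q : ℕ) : AddCommGroup (HK k E a q) :=
  inferInstanceAs (AddCommGroup (E.H a q))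

instance (E : StarInjRes 𝒜 𝒳) (a : HomogeneousIdeal 𝒜) (q : ℕ) : Module A (HK k E a q) :=
  inferInstanceAs (Module A (E.H a q))

noncomputable instance (E : StarInjRes 𝒜 𝒳) (a : HomogeneousIdeal 𝒜) (q : ℕ) :
    Module k (HK k E a q) :=
  Module.compHom (HK k E a q) (algebraMap k A)

instance (E : StarInjRes 𝒜 𝒳) (a : HomogeneousIdeal 𝒜) (q : ℕ) :
    IsScalarTower k A (HK k E a q) :=
  IsScalarTower.of_algebraMap_smul (fun _ _ => rfl)

/-- the identity `HK → H`. -/
def HK.val {E : StarInjRes 𝒜 𝒳} {a : HomogeneousIdeal 𝒜} {q : ℕ} (x : HK k E a q) : E.H a q := x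

/-- the identity `H → HK`. -/
def HK.mk {E : StarInjRes 𝒜 𝒳} {a : HomogeneousIdeal 𝒜} {q : ℕ} (x : E.H a q) : HK k E a q := x

/-- a graded piece of `*H` as a `k`-subspace. -/
def HcompK (h0 : ∀ c : k, algebraMap k A c ∈ 𝒜 0) (E : StarInjRes 𝒜 𝒳) (a : HomogeneousIdeal 𝒜)
    (q : ℕ) (g : ι) : Submodule k (HK k E a q) where
  carrier := {x | HK.val x ∈ E.Hcomp a q g}
  add_mem' := fun hx hy => (E.Hcomp a q g).add_mem hx hy
  zero_mem' := (E.Hcomp a q g).zero_mem
  smul_mem' c x hx :=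
    (E.Hcomp a q g).smul_mem (⟨algebraMap k A c, h0 c⟩ : deg0 𝒜) hx

lemma mem_HcompK (h0 : ∀ c : k, algebraMap k A c ∈ 𝒜 0) (E : StarInjRes 𝒜 𝒳)
    (a : HomogeneousIdeal 𝒜) (q : ℕ) (g : ι) (x : HK k E a q) :
    x ∈ HcompK h0 E a q g ↔ HK.val x ∈ E.Hcomp a q g := Iff.rfl

/-- homogeneous preimages inside the torsion. -/
lemma exists_homog_preimage_gam {X Y : GMod.{u} 𝒜} (f : X.carrier →ₗ[A] Y.carrier)
    (hf : IsGrHom X.gr Y.gr f) (a : HomogeneousIdeal 𝒜) {g : ι} {v : X.carrier}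
    (hv : v ∈ gam a.toIdeal X.carrier) (hy : f v ∈ Y.gr g) :
    ∃ v', v' ∈ gam a.toIdeal X.carrier ∧ v' ∈ X.gr g ∧ f v' = f v := by
  refine ⟨(decompose X.gr v g : X.carrier), gam_isHomogeneous 𝒜 X.gr a g hv,
    SetLike.coe_mem _, ?_⟩
  rw [← decompose_map X.gr Y.gr hf v g]
  exact decompose_of_mem_same Y.gr hy

end HK

section StrandCx

variable {k : Type u} [Field k] {R : Type u} [CommRing R] [Algebra k R]
  {𝒜 : ℤ → AddSubgroup R} [GradedRing 𝒜] [IsKAlgGr k 𝒜]
variable {M : Type u} [AddCommGroup M] [Module R M] {ℳ : ℤ → AddSubgroup M}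
  [DirectSum.Decomposition ℳ] [SetLike.GradedSMul 𝒜 ℳ]
variable (E : StarInjRes 𝒜 ℳ) (m : HomogeneousIdeal 𝒜) (d : ℤ)

lemma d_mem_strandSub (p : ℕ) {x : (E.X p).carrier}
    (hx : x ∈ strandSub (k := k) (E.X p).gr m d) :
    E.d p x ∈ strandSub (k := k) (E.X (p + 1)).gr m d :=
  ⟨map_mem_gam (E.d p) _ hx.1, E.d_grHom p d x hx.2⟩

/-- the degree-`d` strand of `Γ_m(E)`. -/
noncomputable def strandCx : Cx k where
  X p := ↥(strandSub (k := k) (E.X p).gr m d)
  d p := ((E.d p).restrictScalars k).restrict (fun x hx => d_mem_strandSub E m d p hx)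
  dd p x := Subtype.ext (ConeData.d_d_apply E p x)

/-- the inclusion of the strand. -/
noncomputable def strandIncl (p : ℕ) : (strandCx (k := k) E m d).X p →ₗ[k] (cxOf k E).X p :=
  (strandSub (k := k) (E.X p).gr m d).subtype

lemma strandIncl_injective (p : ℕ) : Function.Injective (strandIncl (k := k) E m d p) :=
  Submodule.injective_subtype _

lemma strandIncl_comm (p : ℕ) :
    strandIncl (k := k) E m d (p + 1) ∘ₗ (strandCx (k := k) E m d).d p =
      (cxOf k E).d p ∘ₗ strandIncl (k := k) E m d p := rfl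

lemma strandIncl_mem (p : ℕ) (x : (strandCx (k := k) E m d).X p) :
    strandIncl (k := k) E m d p x ∈ gam m.toIdeal (E.X p).carrier ∧
      strandIncl (k := k) E m d p x ∈ (E.X p).gr d := x.2

/-- constructor for elements of the strand. -/
def strandMk (p : ℕ) (x : (E.X p).carrier) (hx : x ∈ strandSub (k := k) (E.X p).gr m d) :
    (strandCx (k := k) E m d).X p := ⟨x, hx⟩

lemma strandIncl_mk (p : ℕ) (x : (E.X p).carrier)
    (hx : x ∈ strandSub (k := k) (E.X p).gr m d) :
    strandIncl (k := k) E m d p (strandMk E m d p x hx) = x := rfl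

lemma strandIncl_d (p : ℕ) (x : (strandCx (k := k) E m d).X p) :
    strandIncl (k := k) E m d (p + 1) ((strandCx (k := k) E m d).d p x) =
      E.d p (strandIncl (k := k) E m d p x) := rfl

end StrandCx

section StrandH

variable {k : Type u} [Field k] {R : Type u} [CommRing R] [Algebra k R]
  {𝒜 : ℤ → AddSubgroup R} [GradedRing 𝒜] [IsKAlgGr k 𝒜]
variable {M : Type u} [AddCommGroup M] [Module R M] {ℳ : ℤ → AddSubgroup M}
  [DirectSum.Decomposition ℳ] [SetLike.GradedSMul 𝒜 ℳ]
variable (E : StarInjRes 𝒜 ℳ) (m : HomogeneousIdeal 𝒜) (d : ℤ)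

/-- the cohomology of the strand is the graded piece of `*H`. -/
theorem strand_Hm (p : ℕ) :
    Nonempty ((strandCx (k := k) E m d).Hm p ≃ₗ[k]
      ↥(HcompK (k := k) (IsKAlgGr.algebraMap_mem (𝒜 := 𝒜)) E m p d)) := by
  classical
  have hc : ∀ z : ↥((strandCx (k := k) E m d).Z p),
      strandIncl (k := k) E m d p z.1 ∈ E.cocyc m p := by
    intro z
    refine ⟨(strandIncl_mem E m d p z.1).1, ?_⟩
    have h1 : (strandCx (k := k) E m d).d p z.1 = 0 := LinearMap.mem_ker.mp z.2
    apply LinearMap.mem_ker.mpr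
    rw [← strandIncl_d, h1, map_zero]
  let Ψ : ↥((strandCx (k := k) E m d).Z p) →ₗ[k] HK k E m p :=
    { toFun := fun z => HK.mk (E.toH m p ⟨_, hc z⟩)
      map_add' := fun z z' => by
        change E.toH m p _ = E.toH m p _ + E.toH m p _
        rw [← map_add]
        rfl
      map_smul' := fun c z => by
        change E.toH m p _ = algebraMap k R c • E.toH m p _
        rw [← map_smul]
        rfl }
  have hΨ : ∀ z, HK.val (Ψ z) = E.toH m p ⟨_, hc z⟩ := fun z => rfl
  have hrange : LinearMap.range Ψ =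
      HcompK (k := k) (IsKAlgGr.algebraMap_mem (𝒜 := 𝒜)) E m p d := by
    ext y
    constructor
    · rintro ⟨z, rfl⟩
      rw [mem_HcompK, hΨ]
      exact ⟨⟨_, hc z⟩, (strandIncl_mem E m d p z.1).2, rfl⟩
    · intro hy
      rw [mem_HcompK] at hy
      obtain ⟨z', hz', hzy⟩ := hy
      have hz'' : (z' : (E.X p).carrier) ∈ strandSub (k := k) (E.X p).gr m d := ⟨z'.2.1, hz'⟩
      refine ⟨⟨strandMk E m d p _ hz'', ?_⟩, ?_⟩
      · apply LinearMap.mem_ker.mpr
        apply strandIncl_injective E m d (p + 1)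
        rw [strandIncl_d, strandIncl_mk, map_zero]
        exact LinearMap.mem_ker.mp z'.2.2
      · change HK.mk (E.toH m p _) = y
        have : HK.val y = E.toH m p z' := hzy.symm
        change _ = HK.mk (HK.val y)
        rw [this]
        rfl
  have hker : LinearMap.ker Ψ = ((strandCx (k := k) E m d).B p).comap
      ((strandCx (k := k) E m d).Z p).subtype := by
    ext z
    rw [LinearMap.mem_ker, Submodule.mem_comap]
    have h0 : Ψ z = 0 ↔ E.toH m p ⟨_, hc z⟩ = 0 := Iff.rfl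
    rw [h0, toH_eq_zero_iff]
    cases p with
    | zero =>
      rw [mem_cobdy_zero]
      change _ ↔ z.1 ∈ (⊥ : Submodule k _)
      rw [Submodule.mem_bot]
      constructor
      · intro h
        apply strandIncl_injective E m d 0
        rw [map_zero]
        exact h
      · intro h
        change strandIncl (k := k) E m d 0 z.1 = 0
        rw [h, map_zero]
    | succ p =>
      rw [mem_cobdy_succ]
      change _ ↔ z.1 ∈ LinearMap.range ((strandCx (k := k) E m d).d p)
      constructor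
      · rintro ⟨y, hy, hyz⟩
        have hyz' : E.d p y = strandIncl (k := k) E m d (p + 1) z.1 := hyz
        have hdeg : E.d p y ∈ (E.X (p + 1)).gr d := by
          rw [hyz']
          exact (strandIncl_mem E m d (p + 1) z.1).2
        obtain ⟨y', hy'g, hy'd, hy'e⟩ := exists_homog_preimage_gam (E.d p) (E.d_grHom p) m hy hdeg
        refine ⟨strandMk E m d p y' ⟨hy'g, hy'd⟩, ?_⟩
        apply strandIncl_injective E m d (p + 1)
        rw [strandIncl_d, strandIncl_mk, hy'e, hyz']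
      · rintro ⟨y, hy⟩
        refine ⟨strandIncl (k := k) E m d p y, (strandIncl_mem E m d p y).1, ?_⟩
        rw [← strandIncl_d, hy]
  exact ⟨(Submodule.quotEquivOfEq _ _ hker.symm).trans
    (Ψ.quotKerEquivRange.trans (LinearEquiv.ofEq _ _ hrange))⟩

end StrandH

section Main

variable {k : Type u} [Field k] {R S : Type u} [CommRing R] [CommRing S] [Algebra k R]
  [Algebra k S]
variable {𝒜 : ℤ → AddSubgroup R} [GradedRing 𝒜] {ℬ : ℤ → AddSubgroup S} [GradedRing ℬ]
  [IsKAlgGr k 𝒜] [IsKAlgGr k ℬ]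
variable {M N : Type u} [AddCommGroup M] [Module R M] [Module k M] [IsScalarTower k R M]
  [AddCommGroup N] [Module S N] [Module k N] [IsScalarTower k S N]
variable {ℳ : ℤ → AddSubgroup M} [DirectSum.Decomposition ℳ] [SetLike.GradedSMul 𝒜 ℳ] [IsKGr k ℳ]
  {𝒩 : ℤ → AddSubgroup N} [DirectSum.Decomposition 𝒩] [SetLike.GradedSMul ℬ 𝒩] [IsKGr k 𝒩]
variable (EM : StarInjRes 𝒜 ℳ) (EN : StarInjRes ℬ 𝒩)
variable (m : HomogeneousIdeal 𝒜) (n : HomogeneousIdeal ℬ) (d e : ℤ)

/-- the inclusion of the product of the strands. -/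
noncomputable def Θ : TT (strandCx (k := k) EM m d) (strandCx (k := k) EN n e) →ₗ[k]
    TT (cxOf k EM) (cxOf k EN) :=
  TTmap (strandIncl (k := k) EM m d) (strandIncl (k := k) EN n e)

lemma Θ_injective : Function.Injective (Θ (k := k) EM EN m n d e) :=
  TTmap_injective _ _ (strandIncl_injective EM m d) (strandIncl_injective EN n e)

lemma Θ_Dtot (w : TT (strandCx (k := k) EM m d) (strandCx (k := k) EN n e)) :
    Θ EM EN m n d e (Dtot _ _ w) = Dtot (cxOf k EM) (cxOf k EN) (Θ EM EN m n d e w) :=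
  TTmap_Dtot _ _ (strandIncl_comm EM m d) (strandIncl_comm EN n e) w

lemma Θ_mem (w : TT (strandCx (k := k) EM m d) (strandCx (k := k) EN n e)) (pq : ℕ × ℕ) :
    (Θ EM EN m n d e w) pq ∈
        gam (extL (k := k) 𝒜 ℬ m ⊔ extR (k := k) 𝒜 ℬ n).toIdeal (YY (k := k) EM EN pq).carrier ∧
      (Θ EM EN m n d e w) pq ∈ (YY (k := k) EM EN pq).gr (d, e) :=
  strand_mem (EM.X pq.1).gr (EN.X pq.2).gr m n d e (w pq)

lemma exists_Θ_eq (z : WW (k := k) EM EN)
    (hz : ∀ pq, z pq ∈ gam (extL (k := k) 𝒜 ℬ m ⊔ extR (k := k) 𝒜 ℬ n).toIdeal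
        (YY (k := k) EM EN pq).carrier ∧ z pq ∈ (YY (k := k) EM EN pq).gr (d, e)) :
    ∃ w, Θ EM EN m n d e w = z := by
  have h : ∀ pq : ℕ × ℕ, ∃ y, TensorProduct.map
      (strandSub (k := k) (EM.X pq.1).gr m d).subtype
      (strandSub (k := k) (EN.X pq.2).gr n e).subtype y = z pq := fun pq =>
    mem_range_strand (EM.X pq.1).gr (EN.X pq.2).gr m n d e (z pq) (hz pq).1 (hz pq).2
  choose w hw using h
  exact ⟨w, funext hw⟩

/-- the underlying family of an element of the total resolution. -/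
def totVal (j : ℕ) (t : ((totRes (k := k) EM EN).X j).carrier) : WW (k := k) EM EN :=
  (show ↥(PiS (YY (k := k) EM EN) (Finset.HasAntidiagonal.antidiagonal j)) from t).1

lemma totVal_mem (j : ℕ) (t : ((totRes (k := k) EM EN).X j).carrier) :
    totVal EM EN j t ∈ PiS (YY (k := k) EM EN) (Finset.HasAntidiagonal.antidiagonal j) :=
  (show ↥(PiS (YY (k := k) EM EN) (Finset.HasAntidiagonal.antidiagonal j)) from t).2

lemma totVal_d (j : ℕ) (t : ((totRes (k := k) EM EN).X j).carrier) :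
    totVal EM EN (j + 1) ((totRes (k := k) EM EN).d j t) =
      Dtot (cxOf k EM) (cxOf k EN) (totVal EM EN j t) := rfl

lemma totVal_injective (j : ℕ) : Function.Injective (totVal (k := k) EM EN j) :=
  fun _ _ h => Subtype.ext h

lemma totVal_zero (j : ℕ) : totVal (k := k) EM EN j 0 = 0 := rfl

lemma biGr_algebraMap_mem (c : k) : algebraMap k (R ⊗[k] S) c ∈ biGr (k := k) 𝒜 ℬ 0 := by
  rw [Algebra.algebraMap_eq_smul_one]
  exact (biSub (k := k) 𝒜 ℬ 0).smul_mem c (biGr_one_mem 𝒜 ℬ)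

lemma Θ_smul (c' : k) (w : TT (strandCx (k := k) EM m d) (strandCx (k := k) EN n e))
    (pq : ℕ × ℕ) :
    Θ EM EN m n d e (c' • w) pq = (algebraMap k (R ⊗[k] S) c') •
      (Θ EM EN m n d e w pq : (EM.X pq.1).carrier ⊗[k] (EN.X pq.2).carrier) := by
  rw [map_smul, Pi.smul_apply, algebraMap_smul]

variable [IsNoetherianRing R] [IsNoetherianRing S] [IsNoetherianRing (R ⊗[k] S)]

/-- **Künneth**: `H^j_{mA+nA}(M ⊗ N)` in bidegree `(d, e)` is the cohomology of the total complex
of the two strands. -/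
theorem kunneth_strand (EX : StarInjRes (biGr (k := k) 𝒜 ℬ) (biGr (k := k) ℳ 𝒩)) (j : ℕ) :
    Nonempty (HT (strandCx (k := k) EM m d) (strandCx (k := k) EN n e) j ≃ₗ[k]
      ↥(HcompK (biGr_algebraMap_mem (𝒜 := 𝒜) (ℬ := ℬ)) EX
        (extL (k := k) 𝒜 ℬ m ⊔ extR (k := k) 𝒜 ℬ n) j (d, e))) := by
  classical
  obtain ⟨φ, hφ⟩ := exists_computes_totRes EM EN m n EX j
  have hζmem : ∀ w : ↥(ZT (strandCx (k := k) EM m d) (strandCx (k := k) EN n e) j),
      Θ EM EN m n d e (w : TT _ _) ∈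
        PiS (YY (k := k) EM EN) (Finset.HasAntidiagonal.antidiagonal j) :=
    fun w => (mem_PiS_anti EM EN).mpr (TTmap_mem_supp _ _ w.2.1)
  have hζc : ∀ w : ↥(ZT (strandCx (k := k) EM m d) (strandCx (k := k) EN n e) j),
      (⟨Θ EM EN m n d e (w : TT _ _), hζmem w⟩ :
        ↥(PiS (YY (k := k) EM EN) (Finset.HasAntidiagonal.antidiagonal j))) ∈
        (totRes (k := k) EM EN).cocyc (extL (k := k) 𝒜 ℬ m ⊔ extR (k := k) 𝒜 ℬ n) j := by
    intro w
    refine ⟨(mem_gam_PiS_iff _ _ _ _).mpr (fun pq => (Θ_mem EM EN m n d e _ pq).1), ?_⟩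
    apply LinearMap.mem_ker.mpr
    apply Subtype.ext
    change Dtot (cxOf k EM) (cxOf k EN) (Θ EM EN m n d e (w : TT _ _)) = 0
    rw [← Θ_Dtot, LinearMap.mem_ker.mp w.2.2, map_zero]
  let ζ : ↥(ZT (strandCx (k := k) EM m d) (strandCx (k := k) EN n e) j) →
      ↥((totRes (k := k) EM EN).cocyc (extL (k := k) 𝒜 ℬ m ⊔ extR (k := k) 𝒜 ℬ n) j) :=
    fun w => ⟨⟨Θ EM EN m n d e (w : TT _ _), hζmem w⟩, hζc w⟩
  have hζval : ∀ w, totVal EM EN j (ζ w).1 = Θ EM EN m n d e (w : TT _ _) := fun w => rfl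
  have hζadd : ∀ w w', ζ (w + w') = ζ w + ζ w' := by
    intro w w'
    apply Subtype.ext
    apply Subtype.ext
    exact map_add (Θ EM EN m n d e) _ _
  have hζsmul : ∀ (c' : k) w, ζ (c' • w) = (algebraMap k (R ⊗[k] S) c') • ζ w := by
    intro c' w
    apply Subtype.ext
    apply Subtype.ext
    funext pq
    exact Θ_smul EM EN m n d e c' _ pq
  let Φ : ↥(ZT (strandCx (k := k) EM m d) (strandCx (k := k) EN n e) j) →ₗ[k]
      HK k EX (extL (k := k) 𝒜 ℬ m ⊔ extR (k := k) 𝒜 ℬ n) j :=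
    { toFun := fun w => HK.mk (φ (ζ w))
      map_add' := fun w w' => by
        change φ _ = φ _ + φ _
        rw [hζadd, map_add]
      map_smul' := fun c' w => by
        change φ _ = algebraMap k (R ⊗[k] S) c' • φ _
        rw [hζsmul, map_smul] }
  have hΦ : ∀ w, HK.val (Φ w) = φ (ζ w) := fun w => rfl
  have hrange : LinearMap.range Φ = HcompK (biGr_algebraMap_mem (𝒜 := 𝒜) (ℬ := ℬ)) EX
      (extL (k := k) 𝒜 ℬ m ⊔ extR (k := k) 𝒜 ℬ n) j (d, e) := by
    ext y
    constructor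
    · rintro ⟨w, rfl⟩
      rw [mem_HcompK, hΦ]
      exact hφ.mem (d, e) (ζ w) (fun pq => (Θ_mem EM EN m n d e _ pq).2)
    · intro hy
      rw [mem_HcompK] at hy
      obtain ⟨z, hz, hzy⟩ := hφ.lift (d, e) _ hy
      have hzg := (mem_gam_PiS_iff _ _ _ _).mp z.2.1
      obtain ⟨w, hw⟩ := exists_Θ_eq EM EN m n d e
        (totVal EM EN j z.1) (fun pq => ⟨hzg pq, hz pq⟩)
      have hws : w ∈ supp _ _ j := by
        apply mem_supp_of_TTmap _ _ (strandIncl_injective EM m d) (strandIncl_injective EN n e)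
        have h1 : TTmap (strandIncl (k := k) EM m d) (strandIncl (k := k) EN n e) w = _ := hw
        rw [h1]
        exact (mem_PiS_anti EM EN).mp (totVal_mem EM EN j z.1)
      have hwd : Dtot _ _ w = 0 := by
        apply Θ_injective EM EN m n d e
        rw [Θ_Dtot, hw, map_zero, ← totVal_d]
        have h5 : (totRes (k := k) EM EN).d j z.1 = 0 := z.2.2
        rw [h5]
        rfl
      refine ⟨⟨w, hws, LinearMap.mem_ker.mpr hwd⟩, ?_⟩
      change HK.mk (φ (ζ _)) = y
      have h7 : ζ ⟨w, hws, LinearMap.mem_ker.mpr hwd⟩ = z := by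
        apply Subtype.ext
        apply Subtype.ext
        exact hw
      rw [h7, hzy]
      rfl
  have hker : LinearMap.ker Φ = (BT (strandCx (k := k) EM m d) (strandCx (k := k) EN n e) j).comap
      (ZT (strandCx (k := k) EM m d) (strandCx (k := k) EN n e) j).subtype := by
    ext w
    have h00 : Φ w = 0 ↔ φ (ζ w) = 0 := Iff.rfl
    rw [LinearMap.mem_ker, h00, hφ.ker, Submodule.mem_comap]
    cases j with
    | zero =>
      constructor
      · intro h
        have h1 : Θ EM EN m n d e w.1 = 0 := by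
          have h2 : (ζ w).1 = 0 := h
          rw [← hζval w, h2]
          rfl
        have h3 : w.1 = 0 :=
          Θ_injective EM EN m n d e (h1.trans (map_zero _).symm)
        change w.1 ∈ BT _ _ 0
        rw [h3]
        exact zero_mem _
      · rintro ⟨-, u, hu⟩
        have h1 : Dtot _ _ u ∈ supp _ _ 0 := by
          rw [hu]; exact w.2.1
        have h2 : w.1 = 0 := by
          have := eq_zero_of_Dtot_mem_supp_zero h1
          rw [hu] at this
          exact this
        change (ζ w).1 ∈ (⊥ : Submodule (R ⊗[k] S) _)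
        rw [Submodule.mem_bot]
        apply Subtype.ext
        change totVal EM EN 0 (ζ w).1 = _
        rw [hζval, h2, map_zero]
        rfl
    | succ j =>
      constructor
      · rintro ⟨v, hv, hvw⟩
        have hdeg : (totRes (k := k) EM EN).d j v ∈ ((totRes (k := k) EM EN).X (j + 1)).gr (d, e) := by
          rw [hvw]
          exact fun pq => (Θ_mem EM EN m n d e _ pq).2
        obtain ⟨v', hv'g, hv'd, hv'e⟩ := exists_homog_preimage_gam
          ((totRes (k := k) EM EN).d j) ((totRes (k := k) EM EN).d_grHom j)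
          (extL (k := k) 𝒜 ℬ m ⊔ extR (k := k) 𝒜 ℬ n) hv hdeg
        have hv'g' := (mem_gam_PiS_iff _ _ _ _).mp hv'g
        obtain ⟨u, hu⟩ := exists_Θ_eq EM EN m n d e
          (totVal EM EN j v') (fun pq => ⟨hv'g' pq, hv'd pq⟩)
        refine ⟨w.2.1, u, ?_⟩
        apply Θ_injective EM EN m n d e
        rw [Θ_Dtot, hu, ← totVal_d, hv'e, hvw]
        rfl
      · rintro ⟨-, u, hu⟩
        have h1 : Dtot _ _ u ∈ supp _ _ (j + 1) := by
          rw [hu]; exact w.2.1
        have h2 := Dtot_trunc h1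
        have hmem : Θ EM EN m n d e (trunc _ _ j u) ∈
            PiS (YY (k := k) EM EN) (Finset.HasAntidiagonal.antidiagonal j) :=
          (mem_PiS_anti EM EN).mpr (TTmap_mem_supp _ _ (trunc_mem_supp j u))
        refine ⟨⟨Θ EM EN m n d e (trunc _ _ j u), hmem⟩,
          (mem_gam_PiS_iff _ _ _ _).mpr (fun pq => (Θ_mem EM EN m n d e _ pq).1), ?_⟩
        apply Subtype.ext
        change Dtot (cxOf k EM) (cxOf k EN) (Θ EM EN m n d e (trunc _ _ j u)) = _
        rw [← Θ_Dtot, h2, hu]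
        rfl
  exact ⟨(Submodule.quotEquivOfEq _ _ hker.symm).trans
    (Φ.quotKerEquivRange.trans (LinearEquiv.ofEq _ _ hrange))⟩


end Main

end Groth.Agent.Lib.Helper11.Kun
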