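import Groth.Agent.Lib.Helper11.GrKunI

/-!
# Numerical consequences of the graded Künneth formula
-/

set_option autoImplicit false
set_option linter.unusedSectionVars false
set_option linter.unusedVariables false
set_option linter.style.haveILetI false
set_option maxHeartbeats 1000000
universe u

open scoped TensorProduct

namespace Groth.Agent.Lib.Helper11.Kun

open DirectSum GrLC Groth.Agent.Lib.Helper11.GrLCLib Groth.Agent.Lib.Helper11.GrLes
  Groth.Agent.Lib.Helper11.Seg Groth.Agent.Lib.Helper11.GrMV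

attribute [local instance] kModG kTowerG kGrG

section Bridge

variable {ι : Type} [DecidableEq ι] [AddCommGroup ι]
variable {k : Type u} [Field k] {A : Type u} [CommRing A] [Nontrivial A] [Algebra k A]
  {𝒜 : ι → AddSubgroup A} [GradedRing 𝒜]
variable {X : Type u} [AddCommGroup X] [Module A X] {𝒳 : ι → AddSubgroup X}
  [DirectSum.Decomposition 𝒳] [SetLike.GradedSMul 𝒜 𝒳]

/-- `k → R_0`. -/
def toDeg0 (h0 : ∀ c : k, algebraMap k A c ∈ 𝒜 0) : k → deg0 𝒜 := fun c => ⟨algebraMap k A c, h0 c⟩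

lemma toDeg0_bijective (h0 : ∀ c : k, algebraMap k A c ∈ 𝒜 0)
    (hs : ∀ x ∈ 𝒜 0, ∃ c : k, algebraMap k A c = x) : Function.Bijective (toDeg0 h0) := by
  constructor
  · intro c c' h
    have : algebraMap k A c = algebraMap k A c' := congrArg Subtype.val h
    exact (algebraMap k A).injective this
  · rintro ⟨x, hx⟩
    obtain ⟨c, hc⟩ := hs x hx
    exact ⟨c, Subtype.ext hc⟩

variable (h0 : ∀ c : k, algebraMap k A c ∈ 𝒜 0) (hs : ∀ x ∈ 𝒜 0, ∃ c : k, algebraMap k A c = x)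
  (E : StarInjRes 𝒜 𝒳) (a : HomogeneousIdeal 𝒜) (q : ℕ) (g : ι)

/-- the identity `HcompK ≃+ Hcomp`. -/
def hcompAddEquiv : ↥(HcompK h0 E a q g) ≃+ ↥(E.Hcomp a q g) where
  toFun x := ⟨HK.val x.1, x.2⟩
  invFun y := ⟨HK.mk y.1, y.2⟩
  left_inv _ := rfl
  right_inv _ := rfl
  map_add' _ _ := rfl

include hs in
theorem rank_HcompK :
    Module.rank k ↥(HcompK h0 E a q g) = Module.rank (deg0 𝒜) ↥(E.Hcomp a q g) :=
  rank_eq_of_equiv_equiv (toDeg0 h0) (hcompAddEquiv h0 E a q g) (toDeg0_bijective h0 hs)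
    (fun c x => rfl)

include hs in
theorem finrank_HcompK :
    Module.finrank k ↥(HcompK h0 E a q g) = Module.finrank (deg0 𝒜) ↥(E.Hcomp a q g) := by
  unfold Module.finrank
  rw [rank_HcompK h0 hs]

include hs in
theorem finite_HcompK (hfin : Module.Finite (deg0 𝒜) ↥(E.Hcomp a q g)) :
    Module.Finite k ↥(HcompK h0 E a q g) := by
  apply Module.rank_lt_aleph0_iff.mp
  rw [rank_HcompK h0 hs]
  exact Module.rank_lt_aleph0 (deg0 𝒜) ↥(E.Hcomp a q g)

lemma HcompK_subsingleton_iff :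
    Subsingleton ↥(HcompK h0 E a q g) ↔ E.Hcomp a q g = ⊥ := by
  constructor
  · intro h
    rw [eq_bot_iff]
    intro x hx
    have := h.elim (⟨HK.mk x, hx⟩ : ↥(HcompK h0 E a q g)) 0
    have h2 := congrArg Subtype.val this
    exact h2
  · intro h
    refine ⟨fun x y => ?_⟩
    apply Subtype.ext
    have hx : HK.val x.1 ∈ E.Hcomp a q g := x.2
    have hy : HK.val y.1 ∈ E.Hcomp a q g := y.2
    rw [h, Submodule.mem_bot] at hx hy
    exact hx.trans hy.symm

end Bridge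

section Num

variable {k : Type u} [Field k] {R S : Type u} [CommRing R] [CommRing S] [Algebra k R]
  [Algebra k S] [Nontrivial R] [Nontrivial S]
variable {𝒜 : ℤ → AddSubgroup R} [GradedRing 𝒜] {ℬ : ℤ → AddSubgroup S} [GradedRing ℬ]
  [IsKAlgGr k 𝒜] [IsKAlgGr k ℬ]
variable {M N : Type u} [AddCommGroup M] [Module R M] [Module k M] [IsScalarTower k R M]
  [AddCommGroup N] [Module S N] [Module k N] [IsScalarTower k S N]
variable {ℳ : ℤ → AddSubgroup M} [DirectSum.Decomposition ℳ] [SetLike.GradedSMul 𝒜 ℳ] [IsKGr k ℳ]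
  {𝒩 : ℤ → AddSubgroup N} [DirectSum.Decomposition 𝒩] [SetLike.GradedSMul ℬ 𝒩] [IsKGr k 𝒩]
variable [IsNoetherianRing R] [IsNoetherianRing S] [IsNoetherianRing (R ⊗[k] S)]
variable (EM : StarInjRes 𝒜 ℳ) (EN : StarInjRes ℬ 𝒩)
  (EX : StarInjRes (biGr (k := k) 𝒜 ℬ) (biGr (k := k) ℳ 𝒩))
variable (m : HomogeneousIdeal 𝒜) (n : HomogeneousIdeal ℬ) (d e : ℤ)

instance nontrivial_tensor : Nontrivial (R ⊗[k] S) :=
  Algebra.TensorProduct.nontrivial_of_algebraMap_injective_of_flat_left k R S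
    (algebraMap k S).injective

lemma biGr_deg0_surj (hR : ∀ x ∈ 𝒜 0, ∃ c : k, algebraMap k R c = x)
    (hS : ∀ x ∈ ℬ 0, ∃ c : k, algebraMap k S c = x) :
    ∀ x ∈ biGr (k := k) 𝒜 ℬ 0, ∃ c : k, algebraMap k (R ⊗[k] S) c = x := by
  intro x hx
  induction hx using Submodule.span_induction with
  | mem x h =>
    obtain ⟨a, ha, b, hb, rfl⟩ := h
    obtain ⟨c₁, rfl⟩ := hR a ha
    obtain ⟨c₂, rfl⟩ := hS b hb
    refine ⟨c₁ * c₂, ?_⟩
    rw [Algebra.algebraMap_eq_smul_one, Algebra.algebraMap_eq_smul_one c₁,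
      Algebra.algebraMap_eq_smul_one c₂, TensorProduct.smul_tmul_smul,
      Algebra.TensorProduct.one_def]
  | zero => exact ⟨0, map_zero _⟩
  | add x y _ _ hx hy =>
    obtain ⟨c₁, rfl⟩ := hx
    obtain ⟨c₂, rfl⟩ := hy
    exact ⟨c₁ + c₂, map_add _ _ _⟩
  | smul c x _ hx =>
    obtain ⟨c₁, rfl⟩ := hx
    refine ⟨c * c₁, ?_⟩
    rw [map_mul, Algebra.smul_def]

/-- **Künneth formula**, vanishing of the pieces. -/
theorem Hcomp_sup_eq_bot_iff (j : ℕ) :
    EX.Hcomp (extL (k := k) 𝒜 ℬ m ⊔ extR (k := k) 𝒜 ℬ n) j (d, e) = ⊥ ↔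
      ∀ p q, p + q = j → EM.Hcomp m p d = ⊥ ∨ EN.Hcomp n q e = ⊥ := by
  obtain ⟨Ξ⟩ := kunneth_strand EM EN m n d e EX j
  have hM : ∀ p, Subsingleton ((strandCx (k := k) EM m d).Hm p) ↔ EM.Hcomp m p d = ⊥ := by
    intro p
    obtain ⟨ξ⟩ := strand_Hm (k := k) EM m d p
    rw [← HcompK_subsingleton_iff (k := k) (IsKAlgGr.algebraMap_mem (𝒜 := 𝒜))]
    exact ⟨fun h => ξ.symm.injective.subsingleton, fun h => ξ.injective.subsingleton⟩
  have hN : ∀ q, Subsingleton ((strandCx (k := k) EN n e).Hm q) ↔ EN.Hcomp n q e = ⊥ := by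
    intro q
    obtain ⟨ξ⟩ := strand_Hm (k := k) EN n e q
    rw [← HcompK_subsingleton_iff (k := k) (IsKAlgGr.algebraMap_mem (𝒜 := ℬ))]
    exact ⟨fun h => ξ.symm.injective.subsingleton, fun h => ξ.injective.subsingleton⟩
  rw [← HcompK_subsingleton_iff (k := k) (biGr_algebraMap_mem (𝒜 := 𝒜) (ℬ := ℬ))]
  constructor
  · intro h p q hpq
    by_contra hcon
    push Not at hcon
    have h1 : Nontrivial ((strandCx (k := k) EM m d).Hm p) := by
      rw [← not_subsingleton_iff_nontrivial, hM]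
      exact hcon.1
    have h2 : Nontrivial ((strandCx (k := k) EN n e).Hm q) := by
      rw [← not_subsingleton_iff_nontrivial, hN]
      exact hcon.2
    have h3 := nontrivial_HT j p q hpq h1 h2
    have h4 : Subsingleton (HT (strandCx (k := k) EM m d) (strandCx (k := k) EN n e) j) :=
      Ξ.injective.subsingleton
    exact not_subsingleton _ h4
  · intro h
    have h3 : Subsingleton (HT (strandCx (k := k) EM m d) (strandCx (k := k) EN n e) j) :=
      subsingleton_HT j (fun p q hpq => by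
        rcases h p q hpq with h' | h'
        · exact Or.inl ((hM p).mpr h')
        · exact Or.inr ((hN q).mpr h'))
    exact Ξ.symm.injective.subsingleton

/-- **Künneth formula**, dimensions of the pieces. -/
theorem kunneth_finrank (hR : ∀ x ∈ 𝒜 0, ∃ c : k, algebraMap k R c = x)
    (hS : ∀ x ∈ ℬ 0, ∃ c : k, algebraMap k S c = x)
    (hfM : ∀ p, Module.Finite (deg0 𝒜) ↥(EM.Hcomp m p d))
    (hfN : ∀ q, Module.Finite (deg0 ℬ) ↥(EN.Hcomp n q e)) (j : ℕ) :
    Module.finrank (deg0 (biGr (k := k) 𝒜 ℬ))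
        ↥(EX.Hcomp (extL (k := k) 𝒜 ℬ m ⊔ extR (k := k) 𝒜 ℬ n) j (d, e)) =
      (Finset.range (j + 1)).sum (fun i =>
        Module.finrank (deg0 𝒜) ↥(EM.Hcomp m i d) *
          Module.finrank (deg0 ℬ) ↥(EN.Hcomp n (j - i) e)) := by
  obtain ⟨Ξ⟩ := kunneth_strand EM EN m n d e EX j
  have hξM : ∀ p, Nonempty ((strandCx (k := k) EM m d).Hm p ≃ₗ[k]
      ↥(HcompK (k := k) (IsKAlgGr.algebraMap_mem (𝒜 := 𝒜)) EM m p d)) :=
    fun p => strand_Hm (k := k) EM m d p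
  have hξN : ∀ q, Nonempty ((strandCx (k := k) EN n e).Hm q ≃ₗ[k]
      ↥(HcompK (k := k) (IsKAlgGr.algebraMap_mem (𝒜 := ℬ)) EN n q e)) :=
    fun q => strand_Hm (k := k) EN n e q
  have hfM' : ∀ p, Module.Finite k ((strandCx (k := k) EM m d).Hm p) := by
    intro p
    obtain ⟨ξ⟩ := hξM p
    haveI := finite_HcompK (k := k) (IsKAlgGr.algebraMap_mem (𝒜 := 𝒜)) hR EM m p d (hfM p)
    exact Module.Finite.equiv ξ.symm
  have hfN' : ∀ q, Module.Finite k ((strandCx (k := k) EN n e).Hm q) := by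
    intro q
    obtain ⟨ξ⟩ := hξN q
    haveI := finite_HcompK (k := k) (IsKAlgGr.algebraMap_mem (𝒜 := ℬ)) hS EN n q e (hfN q)
    exact Module.Finite.equiv ξ.symm
  rw [← finrank_HcompK (k := k) (biGr_algebraMap_mem (𝒜 := 𝒜) (ℬ := ℬ))
    (biGr_deg0_surj hR hS), ← Ξ.finrank_eq, finrank_HT j hfM' hfN']
  apply Finset.sum_congr rfl
  intro i _
  obtain ⟨ξ₁⟩ := hξM i
  obtain ⟨ξ₂⟩ := hξN (j - i)
  rw [ξ₁.finrank_eq, ξ₂.finrank_eq,
    finrank_HcompK (k := k) (IsKAlgGr.algebraMap_mem (𝒜 := 𝒜)) hR,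
    finrank_HcompK (k := k) (IsKAlgGr.algebraMap_mem (𝒜 := ℬ)) hS]

end Num

end Groth.Agent.Lib.Helper11.Kun
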