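import Groth.Agent.Lib.Helper11.GrKunJ

/-!
# Mayer–Vietoris on graded pieces: dimension count
-/

set_option autoImplicit false
set_option linter.unusedSectionVars false
set_option linter.unusedVariables false
set_option linter.style.haveILetI false
set_option maxHeartbeats 1000000
universe u

open scoped TensorProduct

namespace Groth.Agent.Lib.Helper11.Kun

open DirectSum GrLC Groth.Agent.Lib.Helper11.GrLCLib Groth.Agent.Lib.Helper11.GrLes
  Groth.Agent.Lib.Helper11.Seg Groth.Agent.Lib.Helper11.GrMV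

section MVcount

variable {ι : Type} [DecidableEq ι] [AddCommGroup ι]
variable {k : Type u} [Field k] {A : Type u} [CommRing A] [Algebra k A] [IsNoetherianRing A]
  {𝒜 : ι → AddSubgroup A} [GradedRing 𝒜]
variable {X : Type u} [AddCommGroup X] [Module A X] {𝒳 : ι → AddSubgroup X}
  [DirectSum.Decomposition 𝒳] [SetLike.GradedSMul 𝒜 𝒳]
variable (h0 : ∀ c : k, algebraMap k A c ∈ 𝒜 0) (E : StarInjRes 𝒜 𝒳)
  (a b : HomogeneousIdeal 𝒜) (q : ℕ) (g : ι)

/-- `β` of Mayer–Vietoris on the pieces of degree `g`. -/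
noncomputable def βK :
    (↥(HcompK h0 E a q g) × ↥(HcompK h0 E b q g)) →ₗ[k] ↥(HcompK h0 E (a ⊓ b) q g) where
  toFun x := ⟨HK.mk (mvβ E a b q (HK.val x.1.1, HK.val x.2.1)), mvβ_mem E a b q x.1.2 x.2.2⟩
  map_add' x y := Subtype.ext (by
    change mvβ E a b q (HK.val (x.1.1 + y.1.1), HK.val (x.2.1 + y.2.1)) =
      mvβ E a b q (HK.val x.1.1, HK.val x.2.1) + mvβ E a b q (HK.val y.1.1, HK.val y.2.1)
    rw [← map_add]; rfl)
  map_smul' c x := Subtype.ext (by
    change mvβ E a b q (algebraMap k A c • HK.val x.1.1, algebraMap k A c • HK.val x.2.1) =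
      algebraMap k A c • mvβ E a b q (HK.val x.1.1, HK.val x.2.1)
    rw [← map_smul]; rfl)

lemma βK_val (x : ↥(HcompK h0 E a q g) × ↥(HcompK h0 E b q g)) :
    HK.val (βK h0 E a b q g x).1 = mvβ E a b q (HK.val x.1.1, HK.val x.2.1) := rfl

/-- `δ` of Mayer–Vietoris on the pieces of degree `g`. -/
noncomputable def δK :
    ↥(HcompK h0 E (a ⊓ b) q g) →ₗ[k] ↥(HcompK h0 E (a ⊔ b) (q + 1) g) where
  toFun x := ⟨HK.mk (mvδ E a b q (HK.val x.1)), mvδ_mem E a b q x.2⟩
  map_add' x y := Subtype.ext (by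
    change mvδ E a b q (HK.val x.1 + HK.val y.1) = mvδ E a b q (HK.val x.1) +
      mvδ E a b q (HK.val y.1)
    rw [map_add])
  map_smul' c x := Subtype.ext (by
    change mvδ E a b q (algebraMap k A c • HK.val x.1) = algebraMap k A c • mvδ E a b q (HK.val x.1)
    rw [map_smul])

lemma δK_val (x : ↥(HcompK h0 E (a ⊓ b) q g)) :
    HK.val (δK h0 E a b q g x).1 = mvδ E a b q (HK.val x.1) := rfl

lemma βK_injective (hα : mvα E a b q = 0) : Function.Injective (βK h0 E a b q g) := by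
  rw [injective_iff_map_eq_zero]
  intro x hx
  have h1 : mvβ E a b q (HK.val x.1.1, HK.val x.2.1) = 0 := congrArg Subtype.val hx
  have h2 : (HK.val x.1.1, HK.val x.2.1) ∈ LinearMap.range (mvα E a b q) := by
    rw [← ker_mvβ]; exact h1
  obtain ⟨w, hw⟩ := h2
  rw [hα, LinearMap.zero_apply] at hw
  have h3 := Prod.mk.inj hw.symm
  exact Prod.ext (Subtype.ext h3.1) (Subtype.ext h3.2)

lemma range_βK : LinearMap.range (βK h0 E a b q g) = LinearMap.ker (δK h0 E a b q g) := by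
  apply le_antisymm
  · rintro _ ⟨x, rfl⟩
    rw [LinearMap.mem_ker]
    apply Subtype.ext
    exact mvδ_mvβ E a b q _
  · intro z hz
    rw [LinearMap.mem_ker] at hz
    have h1 : mvδ E a b q (HK.val z.1) = 0 := congrArg Subtype.val hz
    have h2 : HK.val z.1 ∈ LinearMap.range (mvβ E a b q) := by
      rw [← ker_mvδ]; exact h1
    obtain ⟨w, hw⟩ := h2
    have hgr : IsGrHomDeg (prodGr (E.Hgr a q) (E.Hgr b q)) (E.Hgr (a ⊓ b) q) (mvβ E a b q) 0 := by
      rintro j ⟨x, y⟩ ⟨hx, hy⟩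
      rw [add_zero]
      exact mvβ_mem E a b q hx hy
    letI := (Hgr_isInternal 𝒜 𝒳 E a q).chooseDecomposition
    letI := (Hgr_isInternal 𝒜 𝒳 E b q).chooseDecomposition
    obtain ⟨w', hw', hw'z⟩ := exists_homogeneous_preimage (prodGr (E.Hgr a q) (E.Hgr b q))
      (E.Hgr (a ⊓ b) q) (prodGr_isInternal _ _) (Hgr_isInternal 𝒜 𝒳 E (a ⊓ b) q)
      (mvβ E a b q) 0 hgr g (HK.val z.1) (by rw [add_zero]; exact z.2) w hw
    refine ⟨(⟨HK.mk w'.1, hw'.1⟩, ⟨HK.mk w'.2, hw'.2⟩), ?_⟩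
    apply Subtype.ext
    exact hw'z

lemma δK_surjective (hα : mvα E a b (q + 1) = 0) : Function.Surjective (δK h0 E a b q g) := by
  intro z
  have h2 : HK.val z.1 ∈ LinearMap.range (mvδ E a b q) := by
    rw [← ker_mvα_succ, LinearMap.mem_ker, hα, LinearMap.zero_apply]
  obtain ⟨w, hw⟩ := h2
  have hgr : IsGrHomDeg (E.Hgr (a ⊓ b) q) (E.Hgr (a ⊔ b) (q + 1)) (mvδ E a b q) 0 := by
    intro j x hx
    rw [add_zero]
    exact mvδ_mem E a b q hx
  obtain ⟨w', hw', hw'z⟩ := exists_homogeneous_preimage (E.Hgr (a ⊓ b) q)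
    (E.Hgr (a ⊔ b) (q + 1)) (Hgr_isInternal 𝒜 𝒳 E (a ⊓ b) q)
    (Hgr_isInternal 𝒜 𝒳 E (a ⊔ b) (q + 1))
    (mvδ E a b q) 0 hgr g (HK.val z.1) (by rw [add_zero]; exact z.2) w hw
  refine ⟨⟨HK.mk w', hw'⟩, ?_⟩
  apply Subtype.ext
  exact hw'z

/-- **Mayer–Vietoris dimension count** on a graded piece, when the maps `α` vanish. -/
theorem finrank_inf_eq (hα : mvα E a b q = 0) (hα' : mvα E a b (q + 1) = 0)
    [Module.Finite k ↥(HcompK h0 E a q g)] [Module.Finite k ↥(HcompK h0 E b q g)]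
    [Module.Finite k ↥(HcompK h0 E (a ⊔ b) (q + 1) g)] :
    Module.finrank k ↥(HcompK h0 E (a ⊓ b) q g) =
      Module.finrank k ↥(HcompK h0 E a q g) + Module.finrank k ↥(HcompK h0 E b q g) +
        Module.finrank k ↥(HcompK h0 E (a ⊔ b) (q + 1) g) := by
  have h1 := LinearMap.rank_range_add_rank_ker (δK h0 E a b q g)
  have h2 : Module.rank k ↥(LinearMap.range (δK h0 E a b q g)) =
      Module.rank k ↥(HcompK h0 E (a ⊔ b) (q + 1) g) := by
    rw [LinearMap.range_eq_top.mpr (δK_surjective h0 E a b q g hα')]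
    exact rank_top k _
  have h3 : Module.rank k ↥(LinearMap.ker (δK h0 E a b q g)) =
      Module.rank k (↥(HcompK h0 E a q g) × ↥(HcompK h0 E b q g)) := by
    rw [← range_βK]
    exact (LinearEquiv.ofInjective _ (βK_injective h0 E a b q g hα)).rank_eq.symm
  rw [h2, h3] at h1
  have h4 : Module.finrank k (↥(HcompK h0 E a q g) × ↥(HcompK h0 E b q g)) =
      Module.finrank k ↥(HcompK h0 E a q g) + Module.finrank k ↥(HcompK h0 E b q g) :=
    Module.finrank_prod
  rw [← h4]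
  unfold Module.finrank
  rw [← h1, Cardinal.toNat_add (Module.rank_lt_aleph0 _ _) (Module.rank_lt_aleph0 _ _), add_comm]

theorem finite_inf (hα : mvα E a b q = 0) (hα' : mvα E a b (q + 1) = 0)
    [Module.Finite k ↥(HcompK h0 E a q g)] [Module.Finite k ↥(HcompK h0 E b q g)]
    [Module.Finite k ↥(HcompK h0 E (a ⊔ b) (q + 1) g)] :
    Module.Finite k ↥(HcompK h0 E (a ⊓ b) q g) := by
  have h1 := LinearMap.rank_range_add_rank_ker (δK h0 E a b q g)
  have h2 : Module.rank k ↥(LinearMap.range (δK h0 E a b q g)) =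
      Module.rank k ↥(HcompK h0 E (a ⊔ b) (q + 1) g) := by
    rw [LinearMap.range_eq_top.mpr (δK_surjective h0 E a b q g hα')]
    exact rank_top k _
  have h3 : Module.rank k ↥(LinearMap.ker (δK h0 E a b q g)) =
      Module.rank k (↥(HcompK h0 E a q g) × ↥(HcompK h0 E b q g)) := by
    rw [← range_βK]
    exact (LinearEquiv.ofInjective _ (βK_injective h0 E a b q g hα)).rank_eq.symm
  rw [h2, h3] at h1
  apply Module.rank_lt_aleph0_iff.mp
  rw [← h1]
  exact Cardinal.add_lt_aleph0 (Module.rank_lt_aleph0 _ _) (Module.rank_lt_aleph0 _ _)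

end MVcount

end Groth.Agent.Lib.Helper11.Kun
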