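import Groth.Agent.Lib.Helper11.GrKunK

/-!
# Vanishing of the Mayer–Vietoris maps `α` for `M ⊗ N`, and the pieces of `H_{mA}(M ⊗ N)`
-/

set_option autoImplicit false
set_option linter.unusedSectionVars false
set_option linter.unusedVariables false
set_option linter.style.haveILetI false
set_option maxHeartbeats 1000000
universe u

open scoped TensorProduct

namespace Groth.Agent.Lib.Helper11.Kun

open DirectSum GrLC Groth.Agent.Lib.Helper11.GrLCLib Groth.Agent.Lib.Helper11.GrLes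
  Groth.Agent.Lib.Helper11.Seg Groth.Agent.Lib.Helper11.GrMV

section Generic

variable {ι : Type} [DecidableEq ι] [AddCommGroup ι]
variable {A : Type u} [CommRing A] {𝒜 : ι → AddSubgroup A} [GradedRing 𝒜]
variable {X : Type u} [AddCommGroup X] [Module A X] {𝒳 : ι → AddSubgroup X}
  [DirectSum.Decomposition 𝒳] [SetLike.GradedSMul 𝒜 𝒳]
variable (E : StarInjRes 𝒜 𝒳)

/-- the image of `H_c → H_{c'}` is `c`-torsion. -/
lemma cmpH_mem_gam {c' c : HomogeneousIdeal 𝒜} (h : c' ≤ c) (q : ℕ) (x : E.H c q) :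
    cmpH E h q x ∈ gam c.toIdeal (E.H c' q) := by
  obtain ⟨z, rfl⟩ := toH_surjective E c q x
  obtain ⟨t, ht⟩ := ((mem_cocyc E c q _).mp z.2).1
  refine ⟨t, fun r hr => ?_⟩
  rw [cmpH_toH, ← map_smul]
  have : r • (⟨z, cocyc_le_of_le E h q z.2⟩ : ↥(E.cocyc c' q)) = 0 := Subtype.ext (ht r hr)
  rw [this, map_zero]

lemma cmpH_eq_zero {c' c : HomogeneousIdeal 𝒜} (h : c' ≤ c) (q : ℕ)
    (hg : gam c.toIdeal (E.H c' q) = ⊥) : cmpH E h q = 0 := by
  apply LinearMap.ext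
  intro x
  have := cmpH_mem_gam E h q x
  rw [hg, Submodule.mem_bot] at this
  exact this

lemma mvα_eq_zero (a b : HomogeneousIdeal 𝒜) (q : ℕ)
    (h1 : gam b.toIdeal (E.H a q) = ⊥) (h2 : gam a.toIdeal (E.H b q) = ⊥) :
    mvα E a b q = 0 := by
  have e1 : cmpH E (le_sup_left : a ≤ a ⊔ b) q = 0 := by
    apply cmpH_eq_zero
    rw [eq_bot_iff, ← h1]
    exact gam_anti (show b.toIdeal ≤ (a ⊔ b).toIdeal from (le_sup_right : b ≤ a ⊔ b))
  have e2 : cmpH E (le_sup_right : b ≤ a ⊔ b) q = 0 := by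
    apply cmpH_eq_zero
    rw [eq_bot_iff, ← h2]
    exact gam_anti (show a.toIdeal ≤ (a ⊔ b).toIdeal from (le_sup_left : a ≤ a ⊔ b))
  unfold mvα
  rw [e1, e2]
  rfl

end Generic

section Tensor

variable {k : Type u} [Field k] {R S : Type u} [CommRing R] [CommRing S] [Algebra k R]
  [Algebra k S]
variable {𝒜 : ℤ → AddSubgroup R} [GradedRing 𝒜] {ℬ : ℤ → AddSubgroup S} [GradedRing ℬ]
  [IsKAlgGr k 𝒜] [IsKAlgGr k ℬ]
variable [IsNoetherianRing R] [IsNoetherianRing S] [IsNoetherianRing (R ⊗[k] S)]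
variable {M N : Type u} [AddCommGroup M] [Module R M] [Module k M] [IsScalarTower k R M]
  [AddCommGroup N] [Module S N] [Module k N] [IsScalarTower k S N]
variable {ℳ : ℤ → AddSubgroup M} [DirectSum.Decomposition ℳ] [SetLike.GradedSMul 𝒜 ℳ] [IsKGr k ℳ]
  {𝒩 : ℤ → AddSubgroup N} [DirectSum.Decomposition 𝒩] [SetLike.GradedSMul ℬ 𝒩] [IsKGr k 𝒩]
variable (m : HomogeneousIdeal 𝒜) (n : HomogeneousIdeal ℬ) (EM : StarInjRes 𝒜 ℳ)
  (EN : StarInjRes ℬ 𝒩) (EX : StarInjRes (biGr (k := k) 𝒜 ℬ) (biGr (k := k) ℳ 𝒩))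

include EM in
/-- `H^q_{mA}(M ⊗ N) = H^q_m(M) ⊗ N` has no `nA`-torsion when `Γ_n(N) = 0`. -/
theorem gam_extR_H_extL (hN : gam n.toIdeal N = ⊥) (q : ℕ) :
    gam (extR (k := k) 𝒜 ℬ n).toIdeal (EX.H (extL (k := k) 𝒜 ℬ m) q) = ⊥ := by
  letI : Module k (EM.H m q) := Module.compHom _ (algebraMap k R)
  haveI : IsScalarTower k R (EM.H m q) := IsScalarTower.of_algebraMap_smul (fun r x => rfl)
  obtain ⟨Φ, -, -⟩ := bc_all (k := k) 𝒜 ℬ 𝒩 m q M ℳ EM EX
  rw [eq_bot_iff]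
  intro y hy
  have h1 : Φ.symm y ∈ gam (extIdealR (k := k) (R := R) n.toIdeal) (EM.H m q ⊗[k] N) :=
    map_mem_gam Φ.symm.toLinearMap _ hy
  obtain ⟨z, hz⟩ := mem_range_of_mem_gam_extIdealR n.toIdeal _ h1
  haveI : Subsingleton ↥(gam n.toIdeal N) := by
    rw [hN]; infer_instance
  haveI : Subsingleton (EM.H m q ⊗[k] ↥(gam n.toIdeal N)) := inferInstance
  rw [Subsingleton.elim z 0, map_zero] at hz
  rw [Submodule.mem_bot]
  have := congrArg Φ hz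
  rw [map_zero, LinearEquiv.apply_symm_apply] at this
  exact this.symm

include EN in
/-- `H^q_{nA}(M ⊗ N) = M ⊗ H^q_n(N)` has no `mA`-torsion when `Γ_m(M) = 0`. -/
theorem gam_extL_H_extR (hM : gam m.toIdeal M = ⊥) (q : ℕ) :
    gam (extL (k := k) 𝒜 ℬ m).toIdeal (EX.H (extR (k := k) 𝒜 ℬ n) q) = ⊥ := by
  letI : Module k (EN.H n q) := Module.compHom _ (algebraMap k S)
  haveI : IsScalarTower k S (EN.H n q) := IsScalarTower.of_algebraMap_smul (fun r x => rfl)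
  obtain ⟨Φ, -, -⟩ := bc_right (k := k) 𝒜 ℬ ℳ 𝒩 n q EN EX
  rw [eq_bot_iff]
  intro y hy
  have h1 : Φ.symm y ∈ gam (extIdeal (k := k) (S := S) m.toIdeal) (M ⊗[k] EN.H n q) :=
    map_mem_gam Φ.symm.toLinearMap _ hy
  obtain ⟨z, hz⟩ := (mem_gam_extIdeal_iff m.toIdeal _).mp h1
  haveI : Subsingleton ↥(gam m.toIdeal M) := by
    rw [hM]; infer_instance
  haveI : Subsingleton (↥(gam m.toIdeal M) ⊗[k] EN.H n q) := inferInstance
  rw [Subsingleton.elim z 0, map_zero] at hz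
  rw [Submodule.mem_bot]
  have := congrArg Φ hz
  rw [map_zero, LinearEquiv.apply_symm_apply] at this
  exact this.symm

/-- the Mayer–Vietoris maps `α` vanish when `Γ_m(M) = 0 = Γ_n(N)`. -/
theorem mvα_tensor_eq_zero (hM : gam m.toIdeal M = ⊥) (hN : gam n.toIdeal N = ⊥) (q : ℕ) :
    mvα EX (extL (k := k) 𝒜 ℬ m) (extR (k := k) 𝒜 ℬ n) q = 0 := by
  obtain ⟨EM⟩ := nonempty_starInjRes 𝒜 ℳ
  obtain ⟨EN⟩ := nonempty_starInjRes ℬ 𝒩
  exact mvα_eq_zero EX _ _ q (gam_extR_H_extL m n EM EX hN q) (gam_extL_H_extR m n EN EX hM q)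

end Tensor

end Groth.Agent.Lib.Helper11.Kun
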