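import Groth.Agent.Lib.Helper11.GrKunL

/-!
# The graded pieces of `H_{mA}(M ⊗ N)` and `H_{nA}(M ⊗ N)`; the Segre dimension formula
-/

set_option autoImplicit false
set_option linter.unusedSectionVars false
set_option linter.unusedVariables false
set_option linter.style.haveILetI false
set_option maxHeartbeats 1000000
universe u

open scoped TensorProduct

namespace Groth.Agent.Lib.Helper11.Kun

open DirectSum GrLC Groth.Agent.Lib.Helper11.GrLCLib Groth.Agent.Lib.Helper11.GrLes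
  Groth.Agent.Lib.Helper11.Seg Groth.Agent.Lib.Helper11.GrMV

section Pieces

variable {k : Type u} [Field k] {R S : Type u} [CommRing R] [CommRing S] [Algebra k R]
  [Algebra k S]
variable {𝒜 : ℤ → AddSubgroup R} [GradedRing 𝒜] {ℬ : ℤ → AddSubgroup S} [GradedRing ℬ]
  [IsKAlgGr k 𝒜] [IsKAlgGr k ℬ]
variable [IsNoetherianRing R] [IsNoetherianRing S] [IsNoetherianRing (R ⊗[k] S)]
variable {M N : Type u} [AddCommGroup M] [Module R M] [Module k M] [IsScalarTower k R M]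
  [AddCommGroup N] [Module S N] [Module k N] [IsScalarTower k S N]
variable {ℳ : ℤ → AddSubgroup M} [DirectSum.Decomposition ℳ] [SetLike.GradedSMul 𝒜 ℳ] [IsKGr k ℳ]
  {𝒩 : ℤ → AddSubgroup N} [DirectSum.Decomposition 𝒩] [SetLike.GradedSMul ℬ 𝒩] [IsKGr k 𝒩]
variable (m : HomogeneousIdeal 𝒜) (n : HomogeneousIdeal ℬ) (EM : StarInjRes 𝒜 ℳ)
  (EN : StarInjRes ℬ 𝒩) (EX : StarInjRes (biGr (k := k) 𝒜 ℬ) (biGr (k := k) ℳ 𝒩))

/-- `H^q_{mA}(M ⊗ N)_{(d,e)} = H^q_m(M)_d ⊗ N_e`. -/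
theorem nonempty_equiv_extL (q : ℕ) (d e : ℤ) :
    Nonempty ((↥(HcompK (k := k) (IsKAlgGr.algebraMap_mem (𝒜 := 𝒜)) EM m q d) ⊗[k]
        ↥(subK k 𝒩 e)) ≃ₗ[k]
      ↥(HcompK (k := k) (biGr_algebraMap_mem (𝒜 := 𝒜) (ℬ := ℬ)) EX
        (extL (k := k) 𝒜 ℬ m) q (d, e))) := by
  letI : Module k (EM.H m q) := Module.compHom _ (algebraMap k R)
  haveI : IsScalarTower k R (EM.H m q) := IsScalarTower.of_algebraMap_smul (fun r x => rfl)
  haveI : SetLike.GradedSMul 𝒜 (EM.Hgr m q) := Hgr_gradedSMul EM m q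
  haveI : IsKGr k (EM.Hgr m q) := isKGr_of_gradedSMul 𝒜 _
  obtain ⟨Φ, hΦ, hΦ'⟩ := bc_all (k := k) 𝒜 ℬ 𝒩 m q M ℳ EM EX
  let ψ : ↥(biSub (k := k) (EM.Hgr m q) 𝒩 (d, e)) →ₗ[k]
      ↥(HcompK (k := k) (biGr_algebraMap_mem (𝒜 := 𝒜) (ℬ := ℬ)) EX
        (extL (k := k) 𝒜 ℬ m) q (d, e)) :=
    { toFun := fun x => ⟨HK.mk (Φ x.1), hΦ (d, e) x.1 x.2⟩
      map_add' := fun x y => Subtype.ext (map_add Φ x.1 y.1)
      map_smul' := fun c x => Subtype.ext (by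
        change Φ (c • x.1) = algebraMap k (R ⊗[k] S) c • Φ x.1
        rw [← map_smul, algebraMap_smul]) }
  have hψ : Function.Bijective ψ := by
    constructor
    · intro x y h
      exact Subtype.ext (Φ.injective (congrArg Subtype.val h))
    · intro y
      obtain ⟨x, hx, hxy⟩ := hΦ' (d, e) (HK.val y.1) y.2
      exact ⟨⟨x, hx⟩, Subtype.ext hxy⟩
  let ι₁ : ↥(HcompK (k := k) (IsKAlgGr.algebraMap_mem (𝒜 := 𝒜)) EM m q d) ≃ₗ[k]
      ↥(subK k (EM.Hgr m q) d) :=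
    { toFun := fun x => ⟨HK.val x.1, x.2⟩
      invFun := fun x => ⟨HK.mk x.1, x.2⟩
      left_inv := fun _ => rfl
      right_inv := fun _ => rfl
      map_add' := fun _ _ => rfl
      map_smul' := fun _ _ => rfl }
  exact ⟨(TensorProduct.congr ι₁ (LinearEquiv.refl k _)).trans
    ((biSubEquiv (k := k) (EM.Hgr m q) 𝒩 (d, e)).trans (LinearEquiv.ofBijective ψ hψ))⟩

/-- `H^q_{nA}(M ⊗ N)_{(d,e)} = M_d ⊗ H^q_n(N)_e`. -/
theorem nonempty_equiv_extR (q : ℕ) (d e : ℤ) :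
    Nonempty ((↥(subK k ℳ d) ⊗[k]
        ↥(HcompK (k := k) (IsKAlgGr.algebraMap_mem (𝒜 := ℬ)) EN n q e)) ≃ₗ[k]
      ↥(HcompK (k := k) (biGr_algebraMap_mem (𝒜 := 𝒜) (ℬ := ℬ)) EX
        (extR (k := k) 𝒜 ℬ n) q (d, e))) := by
  letI : Module k (EN.H n q) := Module.compHom _ (algebraMap k S)
  haveI : IsScalarTower k S (EN.H n q) := IsScalarTower.of_algebraMap_smul (fun r x => rfl)
  haveI : SetLike.GradedSMul ℬ (EN.Hgr n q) := Hgr_gradedSMul EN n q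
  haveI : IsKGr k (EN.Hgr n q) := isKGr_of_gradedSMul ℬ _
  obtain ⟨Φ, hΦ, hΦ'⟩ := bc_right (k := k) 𝒜 ℬ ℳ 𝒩 n q EN EX
  let ψ : ↥(biSub (k := k) ℳ (EN.Hgr n q) (d, e)) →ₗ[k]
      ↥(HcompK (k := k) (biGr_algebraMap_mem (𝒜 := 𝒜) (ℬ := ℬ)) EX
        (extR (k := k) 𝒜 ℬ n) q (d, e)) :=
    { toFun := fun x => ⟨HK.mk (Φ x.1), hΦ (d, e) x.1 x.2⟩
      map_add' := fun x y => Subtype.ext (map_add Φ x.1 y.1)
      map_smul' := fun c x => Subtype.ext (by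
        change Φ (c • x.1) = algebraMap k (R ⊗[k] S) c • Φ x.1
        rw [← map_smul, algebraMap_smul]) }
  have hψ : Function.Bijective ψ := by
    constructor
    · intro x y h
      exact Subtype.ext (Φ.injective (congrArg Subtype.val h))
    · intro y
      obtain ⟨x, hx, hxy⟩ := hΦ' (d, e) (HK.val y.1) y.2
      exact ⟨⟨x, hx⟩, Subtype.ext hxy⟩
  let ι₁ : ↥(HcompK (k := k) (IsKAlgGr.algebraMap_mem (𝒜 := ℬ)) EN n q e) ≃ₗ[k]
      ↥(subK k (EN.Hgr n q) e) :=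
    { toFun := fun x => ⟨HK.val x.1, x.2⟩
      invFun := fun x => ⟨HK.mk x.1, x.2⟩
      left_inv := fun _ => rfl
      right_inv := fun _ => rfl
      map_add' := fun _ _ => rfl
      map_smul' := fun _ _ => rfl }
  exact ⟨(TensorProduct.congr (LinearEquiv.refl k _) ι₁).trans
    ((biSubEquiv (k := k) ℳ (EN.Hgr n q) (d, e)).trans (LinearEquiv.ofBijective ψ hψ))⟩

end Pieces

section Final

variable {k : Type u} [Field k] {R S : Type u} [CommRing R] [CommRing S] [Algebra k R]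
  [Algebra k S] [Nontrivial R] [Nontrivial S]
variable {𝒜 : ℤ → AddSubgroup R} [GradedRing 𝒜] {ℬ : ℤ → AddSubgroup S} [GradedRing ℬ]
  [IsKAlgGr k 𝒜] [IsKAlgGr k ℬ]
variable [IsNoetherianRing R] [IsNoetherianRing S] [IsNoetherianRing (R ⊗[k] S)]
variable {M N : Type u} [AddCommGroup M] [Module R M] [Module k M] [IsScalarTower k R M]
  [AddCommGroup N] [Module S N] [Module k N] [IsScalarTower k S N]
variable {ℳ : ℤ → AddSubgroup M} [DirectSum.Decomposition ℳ] [SetLike.GradedSMul 𝒜 ℳ] [IsKGr k ℳ]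
  {𝒩 : ℤ → AddSubgroup N} [DirectSum.Decomposition 𝒩] [SetLike.GradedSMul ℬ 𝒩] [IsKGr k 𝒩]
variable (m : HomogeneousIdeal 𝒜) (n : HomogeneousIdeal ℬ) (EM : StarInjRes 𝒜 ℳ)
  (EN : StarInjRes ℬ 𝒩) (EX : StarInjRes (biGr (k := k) 𝒜 ℬ) (biGr (k := k) ℳ 𝒩))

theorem finite_HT {C D : Cx k} (j : ℕ) (hC : ∀ p, Module.Finite k (C.Hm p))
    (hD : ∀ q, Module.Finite k (D.Hm q)) : Module.Finite k (HT C D j) := by
  obtain ⟨e⟩ := kunneth (C := C) (D := D) j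
  exact Module.Finite.equiv (e.trans (suppKEquiv j)).symm

/-- finiteness of the Künneth pieces. -/
theorem kunneth_finite (hR : ∀ x ∈ 𝒜 0, ∃ c : k, algebraMap k R c = x)
    (hS : ∀ x ∈ ℬ 0, ∃ c : k, algebraMap k S c = x) (d e : ℤ)
    (hfM : ∀ p, Module.Finite (deg0 𝒜) ↥(EM.Hcomp m p d))
    (hfN : ∀ q, Module.Finite (deg0 ℬ) ↥(EN.Hcomp n q e)) (j : ℕ) :
    Module.Finite k ↥(HcompK (k := k) (biGr_algebraMap_mem (𝒜 := 𝒜) (ℬ := ℬ)) EX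
      (extL (k := k) 𝒜 ℬ m ⊔ extR (k := k) 𝒜 ℬ n) j (d, e)) := by
  obtain ⟨Ξ⟩ := kunneth_strand EM EN m n d e EX j
  have hfM' : ∀ p, Module.Finite k ((strandCx (k := k) EM m d).Hm p) := by
    intro p
    obtain ⟨ξ⟩ := strand_Hm (k := k) EM m d p
    haveI := finite_HcompK (k := k) (IsKAlgGr.algebraMap_mem (𝒜 := 𝒜)) hR EM m p d (hfM p)
    exact Module.Finite.equiv ξ.symm
  have hfN' : ∀ q, Module.Finite k ((strandCx (k := k) EN n e).Hm q) := by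
    intro q
    obtain ⟨ξ⟩ := strand_Hm (k := k) EN n e q
    haveI := finite_HcompK (k := k) (IsKAlgGr.algebraMap_mem (𝒜 := ℬ)) hS EN n q e (hfN q)
    exact Module.Finite.equiv ξ.symm
  haveI := finite_HT j hfM' hfN'
  exact Module.Finite.equiv Ξ

/-- **The Segre dimension formula** on the level of `M ⊗ N`: the pieces of
`H^q_{mA ∩ nA}(M ⊗ N)` when `Γ_m(M) = 0 = Γ_n(N)`. -/
theorem segre_finrank (hR : ∀ x ∈ 𝒜 0, ∃ c : k, algebraMap k R c = x)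
    (hS : ∀ x ∈ ℬ 0, ∃ c : k, algebraMap k S c = x) (d e : ℤ)
    (hfM : ∀ p, Module.Finite (deg0 𝒜) ↥(EM.Hcomp m p d))
    (hfN : ∀ q, Module.Finite (deg0 ℬ) ↥(EN.Hcomp n q e))
    (hfM0 : Module.Finite k ↥(subK k ℳ d)) (hfN0 : Module.Finite k ↥(subK k 𝒩 e))
    (hΓM : gam m.toIdeal M = ⊥) (hΓN : gam n.toIdeal N = ⊥) (q : ℕ) :
    Module.finrank (deg0 (biGr (k := k) 𝒜 ℬ))
        ↥(EX.Hcomp (extL (k := k) 𝒜 ℬ m ⊓ extR (k := k) 𝒜 ℬ n) q (d, e)) =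
      Module.finrank k ↥(subK k ℳ d) * Module.finrank (deg0 ℬ) ↥(EN.Hcomp n q e) +
      Module.finrank (deg0 𝒜) ↥(EM.Hcomp m q d) * Module.finrank k ↥(subK k 𝒩 e) +
      (Finset.range (q + 2)).sum (fun i =>
        Module.finrank (deg0 𝒜) ↥(EM.Hcomp m i d) *
          Module.finrank (deg0 ℬ) ↥(EN.Hcomp n (q + 1 - i) e)) := by
  have hX0 := biGr_deg0_surj (k := k) (𝒜 := 𝒜) (ℬ := ℬ) hR hS
  haveI h1 : Module.Finite k ↥(HcompK (k := k) (IsKAlgGr.algebraMap_mem (𝒜 := 𝒜)) EM m q d) :=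
    finite_HcompK (k := k) (IsKAlgGr.algebraMap_mem (𝒜 := 𝒜)) hR EM m q d (hfM q)
  haveI h2 : Module.Finite k ↥(HcompK (k := k) (IsKAlgGr.algebraMap_mem (𝒜 := ℬ)) EN n q e) :=
    finite_HcompK (k := k) (IsKAlgGr.algebraMap_mem (𝒜 := ℬ)) hS EN n q e (hfN q)
  obtain ⟨ΞL⟩ := nonempty_equiv_extL m EM EX q d e
  obtain ⟨ΞR⟩ := nonempty_equiv_extR n EN EX q d e
  haveI h3 : Module.Finite k ↥(HcompK (k := k) (biGr_algebraMap_mem (𝒜 := 𝒜) (ℬ := ℬ)) EX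
      (extL (k := k) 𝒜 ℬ m) q (d, e)) := Module.Finite.equiv ΞL
  haveI h4 : Module.Finite k ↥(HcompK (k := k) (biGr_algebraMap_mem (𝒜 := 𝒜) (ℬ := ℬ)) EX
      (extR (k := k) 𝒜 ℬ n) q (d, e)) := Module.Finite.equiv ΞR
  haveI h5 := kunneth_finite m n EM EN EX hR hS d e hfM hfN (q + 1)
  have hα := mvα_tensor_eq_zero m n EX hΓM hΓN q
  have hα' := mvα_tensor_eq_zero m n EX hΓM hΓN (q + 1)
  rw [← finrank_HcompK (k := k) (biGr_algebraMap_mem (𝒜 := 𝒜) (ℬ := ℬ)) hX0,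
    finrank_inf_eq (biGr_algebraMap_mem (𝒜 := 𝒜) (ℬ := ℬ)) EX _ _ q (d, e) hα hα',
    finrank_HcompK (k := k) (biGr_algebraMap_mem (𝒜 := 𝒜) (ℬ := ℬ)) hX0 EX
      (extL (k := k) 𝒜 ℬ m ⊔ extR (k := k) 𝒜 ℬ n) (q + 1) (d, e),
    kunneth_finrank EM EN EX m n d e hR hS hfM hfN (q + 1),
    ← ΞL.finrank_eq, ← ΞR.finrank_eq, Module.finrank_tensorProduct,
    Module.finrank_tensorProduct,
    finrank_HcompK (k := k) (IsKAlgGr.algebraMap_mem (𝒜 := 𝒜)) hR,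
    finrank_HcompK (k := k) (IsKAlgGr.algebraMap_mem (𝒜 := ℬ)) hS]
  ring

end Final

end Groth.Agent.Lib.Helper11.Kun
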