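import Groth.Agent.Lib.Helper11.GrSegCanA

/-!
# The canonical module of a Segre product, degree by degree
-/

set_option autoImplicit false
set_option linter.unusedSectionVars false
set_option linter.unusedVariables false
set_option linter.style.haveILetI false
set_option maxHeartbeats 1000000
universe u

open scoped TensorProduct

namespace Groth.Agent.Lib.Helper11.Seg

open DirectSum GrLC GrSeg Groth.Agent.Lib.Helper11.GrLCLib Groth.Agent.Lib.Helper11.GrLes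
  Groth.Agent.Lib.Helper11.GrComp Groth.Agent.Lib.Helper11.GrVer Groth.Agent.Lib.Helper11.GrMV
  Groth.Agent.Lib.Helper11.GrConv

section Conv

variable {k : Type u} [Field k] {R : Type u} [CommRing R] [Algebra k R] [Nontrivial R]
  (𝒜 : ℤ → Submodule k R) [GradedAlgebra 𝒜]
variable {M : Type u} [AddCommGroup M] [Module R M] [Module k M] [IsScalarTower k R M]
  (ℳ : ℤ → AddSubgroup M) [SetLike.GradedSMul 𝒜 ℳ] [IsKGr k ℳ]

/-- dimensions of pieces over the degree-zero subring `k·1` and over `k` agree. -/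
theorem finrank_comp_eq_subK (h0 : 𝒜 0 = Submodule.span k {(1 : R)}) (n : ℤ) :
    Module.finrank (GrLC.deg0 𝒜) (GrLC.comp 𝒜 ℳ n) = Module.finrank k (subK k ℳ n) := by
  have hmem : ∀ c : k, algebraMap k R c ∈ 𝒜 0 := fun c => SetLike.algebraMap_mem_graded 𝒜 c
  let i : k → GrLC.deg0 𝒜 := fun c => ⟨algebraMap k R c, hmem c⟩
  have hi : Function.Bijective i := by
    constructor
    · intro c d hcd
      have : algebraMap k R c = algebraMap k R d := congrArg Subtype.val hcd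
      exact (algebraMap k R).injective this
    · rintro ⟨x, hx⟩
      have hx' : x ∈ 𝒜 0 := hx
      rw [h0, Submodule.mem_span_singleton] at hx'
      obtain ⟨c, rfl⟩ := hx'
      refine ⟨c, Subtype.ext ?_⟩
      change algebraMap k R c = c • (1 : R)
      rw [Algebra.smul_def, mul_one]
  let j : ↥(subK k ℳ n) ≃+ ↥(GrLC.comp 𝒜 ℳ n) :=
    { toFun := fun x => ⟨x.1, x.2⟩
      invFun := fun x => ⟨x.1, x.2⟩
      left_inv := fun x => rfl
      right_inv := fun x => rfl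
      map_add' := fun x y => rfl }
  have h := rank_eq_of_equiv_equiv i j hi (fun c x => by
    apply Subtype.ext
    change c • (x : M) = (algebraMap k R c) • (x : M)
    rw [algebraMap_smul])
  unfold Module.finrank
  rw [h]

end Conv

section Dual

variable {k : Type u} [Field k] (R : Type u) [CommRing R] [Algebra k R]
variable {M D : Type u} [AddCommGroup M] [Module R M] [Module k M] [IsScalarTower k R M]
  [AddCommGroup D] [Module R D] [Module k D] [IsScalarTower k R D]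
variable {ℳ : ℤ → AddSubgroup M} [DirectSum.Decomposition ℳ] [IsKGr k ℳ]
  {𝒟 : ℤ → AddSubgroup D} [DirectSum.Decomposition 𝒟] [IsKGr k 𝒟]
  {β : D →ₗ[k] M →ₗ[k] k}

/-- pieces of a graded dual have the dimension of the opposite pieces. -/
theorem finrank_gdual_piece (hD : IsGDual R ℳ 𝒟 β) (n : ℤ) :
    Module.finrank k (subK k 𝒟 n) = Module.finrank k (subK k ℳ (-n)) := by
  have hb := theta_bijective' R hD n
  rw [(LinearEquiv.ofBijective _ hb).finrank_eq, Subspace.dual_finrank_eq]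

end Dual

attribute [local instance] convGradedRing

/-- **The canonical module of a Segre product, degree by degree** (statement level). -/
theorem segre_canonical_finrank (k : Type u) [Field k] (R : Type u) [CommRing R] [Algebra k R]
    (𝒜 : ℤ → Submodule k R) [GradedAlgebra 𝒜] (hposR : ∀ n : ℤ, n < 0 → 𝒜 n = ⊥)
    (h0R : 𝒜 0 = Submodule.span k {(1 : R)}) [Algebra.FiniteType k R]
    (S : Type u) [CommRing S] [Algebra k S] (ℬ : ℤ → Submodule k S) [GradedAlgebra ℬ]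
    (hposS : ∀ n : ℤ, n < 0 → ℬ n = ⊥) (h0S : ℬ 0 = Submodule.span k {(1 : S)})
    [Algebra.FiniteType k S]
    (T : Type u) [CommRing T] [Algebra k T] (𝒯 : ℤ → Submodule k T) [GradedAlgebra 𝒯]
    (ψ : T →ₐ[k] R ⊗[k] S) (hψ : Function.Injective ψ)
    (hdegT : ∀ n : ℤ, (𝒯 n).map ψ.toLinearMap =
      Submodule.span k {x : R ⊗[k] S | ∃ a ∈ 𝒜 n, ∃ b ∈ ℬ n, x = a ⊗ₜ[k] b})
    (mR : HomogeneousIdeal 𝒜)
    (hmR : mR.toIdeal = Ideal.span (⋃ n ∈ Set.Ioi (0 : ℤ), (𝒜 n : Set R)))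
    (I : GrLC.StarInjRes 𝒜 𝒜) (mS : HomogeneousIdeal ℬ)
    (hmS : mS.toIdeal = Ideal.span (⋃ n ∈ Set.Ioi (0 : ℤ), (ℬ n : Set S)))
    (J : GrLC.StarInjRes ℬ ℬ) (mT : HomogeneousIdeal 𝒯)
    (hmT : mT.toIdeal = Ideal.span (⋃ n ∈ Set.Ioi (0 : ℤ), (𝒯 n : Set T)))
    (IT : GrLC.StarInjRes 𝒯 𝒯) (r s : ℕ) (hr : ringKrullDim R = r) (hs : ringKrullDim S = s)
    (h2r : 2 ≤ r) (h2s : 2 ≤ s)
    (ER : Type u) [AddCommGroup ER] [Module R ER] (𝓔R : ℤ → AddSubgroup ER)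
    [DirectSum.Decomposition 𝓔R] [SetLike.GradedSMul 𝒜 𝓔R]
    (eR : (R ⧸ mR.toIdeal) →ₗ[R] ER) (heR : GrLC.IsStarInjHull 𝒜 (GrLC.quotGr 𝒜 mR) 𝓔R eR)
    (CR : Type u) [AddCommGroup CR] [Module R CR]
    (𝒞R : ℤ → AddSubgroup CR) [DirectSum.Decomposition 𝒞R] [SetLike.GradedSMul 𝒜 𝒞R]
    (hCR : GrLC.IsStarCanonical 𝒜 𝒞R 𝓔R mR r I)
    (ES : Type u) [AddCommGroup ES] [Module S ES] (𝓔S : ℤ → AddSubgroup ES)
    [DirectSum.Decomposition 𝓔S] [SetLike.GradedSMul ℬ 𝓔S]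
    (eS : (S ⧸ mS.toIdeal) →ₗ[S] ES) (heS : GrLC.IsStarInjHull ℬ (GrLC.quotGr ℬ mS) 𝓔S eS)
    (CS : Type u) [AddCommGroup CS] [Module S CS]
    (𝒞S : ℤ → AddSubgroup CS) [DirectSum.Decomposition 𝒞S] [SetLike.GradedSMul ℬ 𝒞S]
    (hCS : GrLC.IsStarCanonical ℬ 𝒞S 𝓔S mS s J)
    (ET : Type u) [AddCommGroup ET] [Module T ET] (𝓔T : ℤ → AddSubgroup ET)
    [DirectSum.Decomposition 𝓔T] [SetLike.GradedSMul 𝒯 𝓔T]
    (eT : (T ⧸ mT.toIdeal) →ₗ[T] ET) (heT : GrLC.IsStarInjHull 𝒯 (GrLC.quotGr 𝒯 mT) 𝓔T eT)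
    (CT : Type u) [AddCommGroup CT] [Module T CT]
    (𝒞T : ℤ → AddSubgroup CT) [DirectSum.Decomposition 𝒞T] [SetLike.GradedSMul 𝒯 𝒞T]
    (hCT : GrLC.IsStarCanonical 𝒯 𝒞T 𝓔T mT (r + s - 1) IT) (n : ℤ) :
    Module.finrank (GrLC.deg0 𝒯) (GrLC.comp 𝒯 𝒞T n) =
      Module.finrank (GrLC.deg0 𝒜) (GrLC.comp 𝒜 𝒞R n) *
        Module.finrank (GrLC.deg0 ℬ) (GrLC.comp ℬ 𝒞S n) := by
  haveI : IsNoetherianRing R := Algebra.FiniteType.isNoetherianRing k R
  haveI : IsNoetherianRing S := Algebra.FiniteType.isNoetherianRing k S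
  haveI : IsNoetherianRing (R ⊗[k] S) := noetherian_tensor (k := k) (R := R) (S := S)
  haveI : Nontrivial R := nontrivial_of_ringKrullDim r hr
  haveI : Nontrivial S := nontrivial_of_ringKrullDim s hs
  haveI : IsKAlgGr k (conv 𝒜) := isKAlgGr_conv 𝒜
  haveI : IsKAlgGr k (conv ℬ) := isKAlgGr_conv ℬ
  haveI : IsKAlgGr k (conv 𝒯) := isKAlgGr_conv 𝒯
  have hseg : IsSeg (conv 𝒜) (conv ℬ) (conv 𝒯) ψ := isSeg_conv hψ hdegT
  haveI : IsNoetherianRing T := hseg.isVerRing.isNoetherianRing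
  have hdimT := Groth.Agent.Lib.Helper20.SegreDim.ringKrullDim_segre 𝒜 ℬ 𝒯 ψ hψ hdegT hposR h0R
    hposS h0S r s hr hs (by omega) (by omega)
  haveI : Nontrivial T := nontrivial_of_ringKrullDim (r + s - 1) hdimT
  have hposT := Groth.Agent.Lib.Helper20.SegreDim.hposT 𝒜 ℬ 𝒯 ψ hψ hdegT hposR
  have h0T := Groth.Agent.Lib.Helper20.SegreDim.h0T 𝒜 ℬ 𝒯 ψ hψ hdegT h0R h0S
  -- conversions
  let a := hidealConv 𝒜 mR
  let b := hidealConv ℬ mS
  let c := hidealConv 𝒯 mT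
  let I' := resConv 𝒜 𝒜 I
  let J' := resConv ℬ ℬ J
  let IT' := resConv 𝒯 𝒯 IT
  -- systems of parameters
  obtain ⟨NR, θR, hNR, hθR, hradR⟩ :=
    Groth.Agent.Lib.Helper20.GradedNN.exists_hsop 𝒜 hposR h0R r hr.le
  obtain ⟨NS, θS, hNS, hθS, hradS⟩ :=
    Groth.Agent.Lib.Helper20.GradedNN.exists_hsop ℬ hposS h0S s hs.le
  have hθa : ∀ j, θR j ∈ a.toIdeal := by
    intro j
    change θR j ∈ mR.toIdeal
    rw [hmR]
    exact Ideal.subset_span (Set.mem_biUnion (Set.mem_Ioi.mpr (by exact_mod_cast hNR)) (hθR j))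
  have hθb : ∀ j, θS j ∈ b.toIdeal := by
    intro j
    change θS j ∈ mS.toIdeal
    rw [hmS]
    exact Ideal.subset_span (Set.mem_biUnion (Set.mem_Ioi.mpr (by exact_mod_cast hNS)) (hθS j))
  have hrada : a.toIdeal ≤ (Ideal.span (Set.range θR)).radical := by
    change mR.toIdeal ≤ _
    rw [hmR]
    exact hradR
  have hradb : b.toIdeal ≤ (Ideal.span (Set.range θS)).radical := by
    change mS.toIdeal ≤ _
    rw [hmS]
    exact hradS
  have hcdL : CdLE (extL (k := k) (conv 𝒜) (conv ℬ) a) r :=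
    cdLE_extL (conv 𝒜) (conv ℬ) a θR hθa hrada
  have hM : ∀ i, r < i → Subsingleton (I'.H a i) := fun i hi =>
    cdLE_of_fin a θR hθa hrada R (conv 𝒜) I' i hi
  have hN : ∀ j, s < j → Subsingleton (J'.H b j) := fun j hj =>
    cdLE_of_fin b θS hθb hradb S (conv ℬ) J' j hj
  -- the module structures
  letI : Module k (I'.H a r) := Module.compHom _ (algebraMap k R)
  haveI : IsScalarTower k R (I'.H a r) := IsScalarTower.of_algebraMap_smul (fun r x => rfl)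
  letI : Module k (J'.H b s) := Module.compHom _ (algebraMap k S)
  haveI : IsScalarTower k S (J'.H b s) := IsScalarTower.of_algebraMap_smul (fun r x => rfl)
  letI : Module k (IT'.H c (r + s - 1)) := Module.compHom _ (algebraMap k T)
  haveI : IsScalarTower k T (IT'.H c (r + s - 1)) :=
    IsScalarTower.of_algebraMap_smul (fun r x => rfl)
  letI : Module k ER := Module.compHom _ (algebraMap k R)
  haveI : IsScalarTower k R ER := IsScalarTower.of_algebraMap_smul (fun r x => rfl)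
  letI : Module k ES := Module.compHom _ (algebraMap k S)
  haveI : IsScalarTower k S ES := IsScalarTower.of_algebraMap_smul (fun r x => rfl)
  letI : Module k ET := Module.compHom _ (algebraMap k T)
  haveI : IsScalarTower k T ET := IsScalarTower.of_algebraMap_smul (fun r x => rfl)
  letI : Module k CR := Module.compHom _ (algebraMap k R)
  haveI : IsScalarTower k R CR := IsScalarTower.of_algebraMap_smul (fun r x => rfl)
  letI : Module k CS := Module.compHom _ (algebraMap k S)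
  haveI : IsScalarTower k S CS := IsScalarTower.of_algebraMap_smul (fun r x => rfl)
  letI : Module k CT := Module.compHom _ (algebraMap k T)
  haveI : IsScalarTower k T CT := IsScalarTower.of_algebraMap_smul (fun r x => rfl)
  letI dR : DirectSum.Decomposition (I'.Hgr a r) :=
    (Hgr_isInternal (conv 𝒜) (conv 𝒜) I' a r).chooseDecomposition
  letI dS : DirectSum.Decomposition (J'.Hgr b s) :=
    (Hgr_isInternal (conv ℬ) (conv ℬ) J' b s).chooseDecomposition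
  letI dT : DirectSum.Decomposition (IT'.Hgr c (r + s - 1)) :=
    (Hgr_isInternal (conv 𝒯) (conv 𝒯) IT' c (r + s - 1)).chooseDecomposition
  haveI : SetLike.GradedSMul (conv 𝒜) 𝓔R := convGradedSMul_left 𝒜 𝓔R
  haveI : SetLike.GradedSMul (conv ℬ) 𝓔S := convGradedSMul_left ℬ 𝓔S
  haveI : SetLike.GradedSMul (conv 𝒯) 𝓔T := convGradedSMul_left 𝒯 𝓔T
  haveI : SetLike.GradedSMul (conv 𝒜) 𝒞R := convGradedSMul_left 𝒜 𝒞R
  haveI : SetLike.GradedSMul (conv ℬ) 𝒞S := convGradedSMul_left ℬ 𝒞S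
  haveI : SetLike.GradedSMul (conv 𝒯) 𝒞T := convGradedSMul_left 𝒯 𝒞T
  haveI : IsKGr k 𝒞R := isKGr_of_gradedSMul (conv 𝒜) 𝒞R
  haveI : IsKGr k 𝒞S := isKGr_of_gradedSMul (conv ℬ) 𝒞S
  haveI : IsKGr k 𝒞T := isKGr_of_gradedSMul (conv 𝒯) 𝒞T
  haveI : SetLike.GradedSMul (conv 𝒜) (I'.Hgr a r) := Hgr_gradedSMul I' a r
  haveI : SetLike.GradedSMul (conv ℬ) (J'.Hgr b s) := Hgr_gradedSMul J' b s
  haveI : SetLike.GradedSMul (conv 𝒯) (IT'.Hgr c (r + s - 1)) := Hgr_gradedSMul IT' c (r + s - 1)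
  haveI : IsKGr k (I'.Hgr a r) := isKGr_of_gradedSMul (conv 𝒜) _
  haveI : IsKGr k (J'.Hgr b s) := isKGr_of_gradedSMul (conv ℬ) _
  haveI : IsKGr k (IT'.Hgr c (r + s - 1)) := isKGr_of_gradedSMul (conv 𝒯) _
  -- the pairings
  obtain ⟨βR, hβR⟩ := Groth.Agent.Lib.Helper11.GrField.exists_pairing_canonical
    (isBase_conv 𝒜 h0R) 𝓔R 𝒞R (hpos_conv 𝒜 hposR) a hmR eR (isStarInjHull_conv 𝒜 𝓔R heR) r I'
    (isStarCanonical_conv 𝒜 𝓔R 𝒞R mR r I hCR)
  obtain ⟨βS, hβS⟩ := Groth.Agent.Lib.Helper11.GrField.exists_pairing_canonical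
    (isBase_conv ℬ h0S) 𝓔S 𝒞S (hpos_conv ℬ hposS) b hmS eS (isStarInjHull_conv ℬ 𝓔S heS) s J'
    (isStarCanonical_conv ℬ 𝓔S 𝒞S mS s J hCS)
  obtain ⟨βT, hβT⟩ := Groth.Agent.Lib.Helper11.GrField.exists_pairing_canonical
    (isBase_conv 𝒯 h0T) 𝓔T 𝒞T (hpos_conv 𝒯 hposT) c hmT eT (isStarInjHull_conv 𝒯 𝓔T heT)
    (r + s - 1) IT' (isStarCanonical_conv 𝒯 𝓔T 𝒞T mT (r + s - 1) IT hCT)
  -- the top local cohomology of `T`
  obtain ⟨φ', hφ'⟩ := exists_isSegreMod_top0 hseg a b c hmR hmS hmT hseg.isSegreMod_self I' J' IT'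
    r s h2r h2s hcdL hM hN (r + s - 1) (by omega)
  have hmap : Submodule.map φ' (subK k (IT'.Hgr c (r + s - 1)) (-n)) =
      biSub (k := k) (I'.Hgr a r) (J'.Hgr b s) (-n, -n) := by
    apply SetLike.coe_injective
    exact hφ'.image_piece (-n)
  have h1 : Module.finrank k (subK k (IT'.Hgr c (r + s - 1)) (-n)) =
      Module.finrank k (subK k (I'.Hgr a r) (-n)) * Module.finrank k (subK k (J'.Hgr b s) (-n)) := by
    rw [← finrank_biSub (k := k) (I'.Hgr a r) (J'.Hgr b s) (-n, -n), ← hmap]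
    exact (Submodule.equivMapOfInjective φ' hφ'.injective _).finrank_eq
  rw [finrank_comp_eq_subK 𝒯 𝒞T h0T n, finrank_comp_eq_subK 𝒜 𝒞R h0R n,
    finrank_comp_eq_subK ℬ 𝒞S h0S n, finrank_gdual_piece T hβT n, finrank_gdual_piece R hβR n,
    finrank_gdual_piece S hβS n, h1]

end Groth.Agent.Lib.Helper11.Seg
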