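import Groth.Agent.Lib.Helper11.GrSegConv
import Groth.Agent.Lib.Helper11.GrFieldD

/-!
# More conversion lemmas for the Segre rows
-/

set_option autoImplicit false
set_option linter.unusedSectionVars false
set_option linter.unusedVariables false
set_option linter.style.haveILetI false
universe u

open scoped TensorProduct

namespace Groth.Agent.Lib.Helper11.Seg

open DirectSum GrLC Groth.Agent.Lib.Helper11.GrLCLib Groth.Agent.Lib.Helper11.GrConv

section

variable {k : Type u} [Field k] {R : Type u} [CommRing R] [Algebra k R]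
variable (𝒜 : ℤ → Submodule k R) [GradedAlgebra 𝒜]

lemma isBase_conv (h0 : 𝒜 0 = Submodule.span k {(1 : R)}) :
    Groth.Agent.Lib.Helper11.GrField.IsBase (conv 𝒜) k := by
  intro x
  change x ∈ 𝒜 0 ↔ _
  rw [h0, Submodule.mem_span_singleton]
  constructor
  · rintro ⟨c, rfl⟩
    exact ⟨c, by rw [Algebra.algebraMap_eq_smul_one]⟩
  · rintro ⟨c, rfl⟩
    exact ⟨c, by rw [Algebra.algebraMap_eq_smul_one]⟩

lemma conv_eq_bot_iff {M : Type u} [AddCommGroup M] [Module k M] (ℳ : ℤ → Submodule k M) (n : ℤ) :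
    conv ℳ n = ⊥ ↔ ℳ n = ⊥ := by
  constructor
  · intro h
    rw [eq_bot_iff]
    intro x hx
    have : x ∈ conv ℳ n := hx
    rw [h, AddSubgroup.mem_bot] at this
    exact (Submodule.mem_bot k).mpr this
  · intro h
    rw [eq_bot_iff]
    intro x hx
    have : x ∈ ℳ n := hx
    rw [h, Submodule.mem_bot] at this
    exact AddSubgroup.mem_bot.mpr this

lemma hpos_conv (hpos : ∀ n : ℤ, n < 0 → 𝒜 n = ⊥) : ∀ n : ℤ, n < 0 → conv 𝒜 n = ⊥ :=
  fun n hn => (conv_eq_bot_iff 𝒜 n).mpr (hpos n hn)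

attribute [local instance] convGradedRing

lemma isStarLocal_conv_irr [Nontrivial R]
    (hpos : ∀ n : ℤ, n < 0 → 𝒜 n = ⊥) (h0 : 𝒜 0 = Submodule.span k {(1 : R)})
    (m : HomogeneousIdeal (conv 𝒜))
    (hm : m.toIdeal = Ideal.span (⋃ n ∈ Set.Ioi (0 : ℤ), (conv 𝒜 n : Set R))) :
    IsStarLocal (conv 𝒜) m :=
  Groth.Agent.Lib.Helper11.GrField.isStarLocal_irrelevant (isBase_conv 𝒜 h0) (hpos_conv 𝒜 hpos) m hm

end

section H

variable {ι : Type} [DecidableEq ι] [AddCommGroup ι]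
variable {R : Type u} [CommRing R] {σ : Type u} [SetLike σ R] [AddSubgroupClass σ R]
  (𝒜 : ι → σ) [GradedRing 𝒜]
variable {M : Type u} [AddCommGroup M] [Module R M]

attribute [local instance] convGradedRing

lemma Hcomp_resConvL_eq_bot_iff (ℳ : ι → AddSubgroup M) [DirectSum.Decomposition ℳ]
    [SetLike.GradedSMul 𝒜 ℳ] [SetLike.GradedSMul (conv 𝒜) ℳ] (E : StarInjRes 𝒜 ℳ)
    (a : HomogeneousIdeal 𝒜) (q : ℕ) (d : ι) :
    (resConvL 𝒜 ℳ E).Hcomp (hidealConv 𝒜 a) q d = ⊥ ↔ E.Hcomp a q d = ⊥ := by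
  rw [Submodule.eq_bot_iff, Submodule.eq_bot_iff]
  exact Iff.rfl

end H

end Groth.Agent.Lib.Helper11.Seg
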