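import Groth.Agent.Lib.Helper11.GrKunM
import Groth.Agent.Lib.Helper11.GrDiagB
import Groth.Agent.Lib.Helper11.GrSegConvB
import Groth.Agent.Lib.Helper11.GrSegCanB

/-!
# The Segre dimension formula for `H^q_{T_+}(M # N)`
-/

set_option autoImplicit false
set_option linter.unusedSectionVars false
set_option linter.unusedVariables false
set_option linter.style.haveILetI false
set_option maxHeartbeats 1000000
universe u

open scoped TensorProduct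

namespace Groth.Agent.Lib.Helper11.Kun

open DirectSum GrLC Groth.Agent.Lib.Helper11.GrLCLib Groth.Agent.Lib.Helper11.GrLes
  Groth.Agent.Lib.Helper11.Seg Groth.Agent.Lib.Helper11.GrMV Groth.Agent.Lib.Helper11.GrConv

section ConvRank

variable {ι : Type} [DecidableEq ι] [AddCommGroup ι]
variable {R : Type u} [CommRing R] {σ : Type u} [SetLike σ R] [AddSubgroupClass σ R]
  (𝒜 : ι → σ) [GradedRing 𝒜]
variable {M : Type u} [AddCommGroup M] [Module R M]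

attribute [local instance] convGradedRing

lemma finrank_Hcomp_resConvL (ℳ : ι → AddSubgroup M) [DirectSum.Decomposition ℳ]
    [SetLike.GradedSMul 𝒜 ℳ] [SetLike.GradedSMul (conv 𝒜) ℳ] (E : StarInjRes 𝒜 ℳ)
    (a : HomogeneousIdeal 𝒜) (q : ℕ) (d : ι) :
    Module.finrank (deg0 (conv 𝒜)) ↥((resConvL 𝒜 ℳ E).Hcomp (hidealConv 𝒜 a) q d) =
      Module.finrank (deg0 𝒜) ↥(E.Hcomp a q d) := by
  let i : deg0 (conv 𝒜) → deg0 𝒜 := fun r => ⟨r.1, r.2⟩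
  have hi : Function.Bijective i :=
    ⟨fun r s h => Subtype.ext (congrArg Subtype.val h), fun r => ⟨⟨r.1, r.2⟩, rfl⟩⟩
  let j : ↥((resConvL 𝒜 ℳ E).Hcomp (hidealConv 𝒜 a) q d) ≃+ ↥(E.Hcomp a q d) :=
    { toFun := fun x => ⟨x.1, x.2⟩
      invFun := fun x => ⟨x.1, x.2⟩
      left_inv := fun _ => rfl
      right_inv := fun _ => rfl
      map_add' := fun _ _ => rfl }
  have h := rank_eq_of_equiv_equiv i j hi (fun c x => rfl)
  unfold Module.finrank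
  rw [h]

lemma finrank_Hcomp_resConv {τ : Type u} [SetLike τ M] [AddSubgroupClass τ M] (ℳ : ι → τ)
    [DirectSum.Decomposition ℳ] [SetLike.GradedSMul 𝒜 ℳ]
    [DirectSum.Decomposition (conv ℳ)] [SetLike.GradedSMul (conv 𝒜) (conv ℳ)]
    (E : StarInjRes 𝒜 ℳ) (a : HomogeneousIdeal 𝒜) (q : ℕ) (d : ι) :
    Module.finrank (deg0 (conv 𝒜)) ↥((resConv 𝒜 ℳ E).Hcomp (hidealConv 𝒜 a) q d) =
      Module.finrank (deg0 𝒜) ↥(E.Hcomp a q d) := by
  let i : deg0 (conv 𝒜) → deg0 𝒜 := fun r => ⟨r.1, r.2⟩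
  have hi : Function.Bijective i :=
    ⟨fun r s h => Subtype.ext (congrArg Subtype.val h), fun r => ⟨⟨r.1, r.2⟩, rfl⟩⟩
  let j : ↥((resConv 𝒜 ℳ E).Hcomp (hidealConv 𝒜 a) q d) ≃+ ↥(E.Hcomp a q d) :=
    { toFun := fun x => ⟨x.1, x.2⟩
      invFun := fun x => ⟨x.1, x.2⟩
      left_inv := fun _ => rfl
      right_inv := fun _ => rfl
      map_add' := fun _ _ => rfl }
  have h := rank_eq_of_equiv_equiv i j hi (fun c x => rfl)
  unfold Module.finrank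
  rw [h]

end ConvRank

section Row

variable {k : Type u} [Field k] {R S T : Type u} [CommRing R] [CommRing S] [CommRing T]
  [Algebra k R] [Algebra k S] [Algebra k T] [Nontrivial R] [Nontrivial S]
variable {𝒜 : ℤ → AddSubgroup R} [GradedRing 𝒜] {ℬ : ℤ → AddSubgroup S} [GradedRing ℬ]
  [IsKAlgGr k 𝒜] [IsKAlgGr k ℬ]
variable {𝒯 : ℤ → AddSubgroup T} [GradedRing 𝒯] {ψ : T →ₐ[k] R ⊗[k] S}
variable [IsNoetherianRing R] [IsNoetherianRing S] [IsNoetherianRing (R ⊗[k] S)]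
variable {M N P : Type u} [AddCommGroup M] [Module R M] [Module k M] [IsScalarTower k R M]
  [AddCommGroup N] [Module S N] [Module k N] [IsScalarTower k S N]
  [AddCommGroup P] [Module T P] [Module k P] [IsScalarTower k T P]
variable {ℳ : ℤ → AddSubgroup M} [DirectSum.Decomposition ℳ] [SetLike.GradedSMul 𝒜 ℳ] [IsKGr k ℳ]
  {𝒩 : ℤ → AddSubgroup N} [DirectSum.Decomposition 𝒩] [SetLike.GradedSMul ℬ 𝒩] [IsKGr k 𝒩]
  {𝒬 : ℤ → AddSubgroup P} [DirectSum.Decomposition 𝒬] [SetLike.GradedSMul 𝒯 𝒬]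

/-- `Γ_m(M) = 0` when all the pieces of `*H^0_m(M)` vanish. -/
lemma gam_eq_bot_of_Hcomp_zero {ι : Type} [DecidableEq ι] [AddCommGroup ι] {A : Type u}
    [CommRing A] {𝒜' : ι → AddSubgroup A} [GradedRing 𝒜'] {X : Type u} [AddCommGroup X]
    [Module A X] {𝒳 : ι → AddSubgroup X} [DirectSum.Decomposition 𝒳] [SetLike.GradedSMul 𝒜' 𝒳]
    (G : StarInjRes 𝒜' 𝒳) (a : HomogeneousIdeal 𝒜') (h : ∀ g, G.Hcomp a 0 g = ⊥) :
    gam a.toIdeal X = ⊥ := by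
  haveI := (subsingleton_H_iff G a 0).mpr h
  haveI : Subsingleton ↥(gam a.toIdeal X) := (h0Equiv G a).injective.subsingleton
  rw [eq_bot_iff]
  intro x hx
  have : (⟨x, hx⟩ : ↥(gam a.toIdeal X)) = 0 := Subsingleton.elim _ _
  exact (Submodule.mem_bot _).mpr (congrArg Subtype.val this)

/-- **The Segre dimension formula** for `H^q_{T_+}(M # N)` (for `AddSubgroup`-gradings). -/
theorem segre_row_conv (h : IsSeg 𝒜 ℬ 𝒯 ψ) (m : HomogeneousIdeal 𝒜)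
    (n : HomogeneousIdeal ℬ) (mT : HomogeneousIdeal 𝒯) (hm : m.toIdeal = irrI 𝒜)
    (hn : n.toIdeal = irrI ℬ) (hmT : mT.toIdeal = irrI 𝒯)
    {φ : P →ₗ[k] M ⊗[k] N} (hP : GrSeg.IsSegreMod ψ ℳ 𝒩 𝒬 φ)
    (EM : StarInjRes 𝒜 ℳ) (EN : StarInjRes ℬ 𝒩) (EP : StarInjRes 𝒯 𝒬)
    (hR : ∀ x ∈ 𝒜 0, ∃ c : k, algebraMap k R c = x)
    (hS : ∀ x ∈ ℬ 0, ∃ c : k, algebraMap k S c = x) (d : ℤ)
    (hfM : ∀ p, Module.Finite (deg0 𝒜) ↥(EM.Hcomp m p d))
    (hfN : ∀ q, Module.Finite (deg0 ℬ) ↥(EN.Hcomp n q d))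
    (hfM0 : Module.Finite k ↥(subK k ℳ d)) (hfN0 : Module.Finite k ↥(subK k 𝒩 d))
    (hM0 : ∀ e, EM.Hcomp m 0 e = ⊥) (hN0 : ∀ e, EN.Hcomp n 0 e = ⊥) (q : ℕ) :
    Module.finrank (deg0 𝒯) ↥(EP.Hcomp mT q d) =
      Module.finrank k ↥(subK k ℳ d) * Module.finrank (deg0 ℬ) ↥(EN.Hcomp n q d) +
      Module.finrank (deg0 𝒜) ↥(EM.Hcomp m q d) * Module.finrank k ↥(subK k 𝒩 d) +
      (Finset.range (q + 2)).sum (fun i =>
        Module.finrank (deg0 𝒜) ↥(EM.Hcomp m i d) *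
          Module.finrank (deg0 ℬ) ↥(EN.Hcomp n (q + 1 - i) d)) := by
  obtain ⟨EX⟩ := nonempty_starInjRes (biGr (k := k) 𝒜 ℬ) (biGr (k := k) ℳ 𝒩)
  have h1 := Groth.Agent.Lib.Helper11.GrVer.finrank_Hcomp_eq h.isVerRing
    (extL (k := k) 𝒜 ℬ m ⊓ extR (k := k) 𝒜 ℬ n) mT (map_irr_le h m n mT hm hn hmT)
    (exists_pow_le h m n mT hm hn hmT) (isVer_of_isSegreMod hP) EX EP q d
  rw [h1]
  exact segre_finrank m n EM EN EX hR hS d d hfM hfN hfM0 hfN0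
    (gam_eq_bot_of_Hcomp_zero EM m hM0) (gam_eq_bot_of_Hcomp_zero EN n hN0) q

end Row

end Groth.Agent.Lib.Helper11.Kun
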