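import Mathlib
import Groth.Prelude.Def_GrLC
import Groth.Prelude.Def_Wider
import Groth.Agent.Lib.Helper16.LocCohH0
import Groth.Agent.Lib.Helper16.DepthExt

set_option autoImplicit false
set_option linter.unusedSectionVars false
universe u
open CategoryTheory

namespace Groth.Agent.Lib.Helper11.GrLCOrd

open Groth.Agent.Lib.Helper16.LC GrLC

variable {R : Type u} [CommRing R] (I : Ideal R)

/-- Dimension shifting in positive degrees. -/
theorem nonempty_H_equiv_shift {S : ShortComplex (ModuleCat.{u} R)} (hS : S.ShortExact) (p : ℕ)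
    (h1 : Subsingleton ((localCohomology I (p + 1)).obj S.X₂))
    (h2 : Subsingleton ((localCohomology I (p + 1 + 1)).obj S.X₂)) :
    Nonempty ((localCohomology I (p + 1)).obj S.X₃ ≃ₗ[R] (localCohomology I (p + 1 + 1)).obj S.X₁) := by
  refine ⟨LinearEquiv.ofBijective (δ I hS (p + 1)) ⟨?_, ?_⟩⟩
  · rw [injective_iff_map_eq_zero]
    intro z hz
    obtain ⟨y, rfl⟩ := Hmap_exact₃ I hS (p + 1) z hz
    rw [h1.elim y 0, map_zero]
  · intro x
    exact Hmap_exact₁ I hS (p + 1) x (h2.elim _ _)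

/-- `Γ_I` as `gam` agrees with `torsionSub`. -/
theorem mem_gam_iff_mem_torsionSub {X : Type u} [AddCommGroup X] [Module R X] (x : X) :
    x ∈ gam I X ↔ x ∈ DRing.torsionSub I X := Iff.rfl

/-- `H^1` of the kernel as a quotient of torsion cocycles. -/
theorem nonempty_H_one_equiv {Z X X' : Type u} [AddCommGroup Z] [Module R Z] [AddCommGroup X]
    [Module R X] [AddCommGroup X'] [Module R X'] (a : Z →ₗ[R] X) (b : X →ₗ[R] X')
    (ha : Function.Injective a) (hab : Function.Exact a b)
    (hX : Subsingleton (LocCoh.H I 1 X)) (K : Submodule R X') (hK : K = LinearMap.range b) :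
    Nonempty ((↥(gam I X' ⊓ K) ⧸ ((gam I X).map b).comap (gam I X' ⊓ K).subtype) ≃ₗ[R]
      LocCoh.H I 1 Z) := by
  classical
  let b' : X →ₗ[R] K := b.codRestrict K (fun x => by rw [hK]; exact ⟨x, rfl⟩)
  have hb' : Function.Surjective b' := by
    rintro ⟨y, hy⟩
    rw [hK] at hy
    obtain ⟨x, rfl⟩ := hy
    exact ⟨x, Subtype.ext rfl⟩
  have hab' : Function.Exact a b' := by
    intro x
    rw [← hab x]
    constructor
    · intro h; exact congrArg Subtype.val h
    · intro h; exact Subtype.ext h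
  have hT := Groth.Agent.Lib.Helper16.Depth.shortExact_of_linearMaps a b' ha hb' hab'
  -- the map from torsion cocycles
  let τ : ↥(gam I X' ⊓ K) →ₗ[R] DRing.torsionSub I (ModuleCat.of R K) :=
    { toFun := fun y => ⟨⟨y.1, y.2.2⟩, by
        obtain ⟨n, hn⟩ := y.2.1
        exact ⟨n, fun r hr => Subtype.ext (hn r hr)⟩⟩
      map_add' := fun y y' => rfl
      map_smul' := fun r y => rfl }
  let Φ : ↥(gam I X' ⊓ K) →ₗ[R] LocCoh.H I 1 Z :=
    (δ I hT 0) ∘ₗ (H0equiv I (ModuleCat.of R K)).symm.toLinearMap ∘ₗ τ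
  have hΦ : ∀ y, Φ y = δ I hT 0 ((H0equiv I (ModuleCat.of R K)).symm (τ y)) := fun y => rfl
  have hsurj : Function.Surjective Φ := by
    intro x
    obtain ⟨z, hz⟩ := Hmap_exact₁ I hT 0 x (hX.elim _ _)
    set t := H0equiv I (ModuleCat.of R K) z with ht
    have htg : ((t : K) : X') ∈ gam I X' := by
      obtain ⟨n, hn⟩ := t.2
      exact ⟨n, fun r hr => congrArg Subtype.val (hn r hr)⟩
    refine ⟨⟨((t : K) : X'), ⟨htg, (t : K).2⟩⟩, ?_⟩
    rw [hΦ]
    have : τ ⟨((t : K) : X'), ⟨htg, (t : K).2⟩⟩ = t := rfl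
    rw [this, ht, LinearEquiv.symm_apply_apply]
    exact hz
  have hker : LinearMap.ker Φ = ((gam I X).map b).comap (gam I X' ⊓ K).subtype := by
    ext y
    rw [LinearMap.mem_ker, hΦ, Submodule.mem_comap, Submodule.mem_map]
    constructor
    · intro h0
      obtain ⟨w, hw⟩ := Hmap_exact₃ I hT 0 _ h0
      refine ⟨H0toM I (ModuleCat.of R X) w, H0toM_mem I (ModuleCat.of R X) w, ?_⟩
      have h1 := H0toM_naturality I (ModuleCat.ofHom b') w
      have h2 : Hmap I 0 (ModuleCat.ofHom b') w =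
          (H0equiv I (ModuleCat.of R K)).symm (τ y) := hw
      rw [h2] at h1
      have h3 : H0toM I (ModuleCat.of R K) ((H0equiv I (ModuleCat.of R K)).symm (τ y)) =
          (τ y : K) := by
        rw [← H0equiv_apply, LinearEquiv.apply_symm_apply]
      rw [h3] at h1
      have h4 := congrArg Subtype.val h1
      exact h4.symm
    · rintro ⟨x, hx, hxy⟩
      set w := (H0equiv I (ModuleCat.of R X)).symm ⟨x, hx⟩ with hw
      have hwx : H0toM I (ModuleCat.of R X) w = x := by
        rw [← H0equiv_apply, hw, LinearEquiv.apply_symm_apply]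
      have h1 := H0toM_naturality I (ModuleCat.ofHom b') w
      rw [hwx] at h1
      have h2 : Hmap I 0 (ModuleCat.ofHom b') w =
          (H0equiv I (ModuleCat.of R K)).symm (τ y) := by
        apply H0toM_injective I (ModuleCat.of R K)
        rw [h1, ← H0equiv_apply, LinearEquiv.apply_symm_apply]
        exact Subtype.ext hxy
      rw [← h2]
      exact δ_Hmap_g I hT 0 w
  exact ⟨(Submodule.quotEquivOfEq _ _ hker.symm).trans
    (LinearMap.quotKerEquivOfSurjective Φ hsurj)⟩

/-- `H^0` as the torsion cocycles of degree zero. -/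
theorem nonempty_H_zero_equiv {M X : Type u} [AddCommGroup M] [Module R M] [AddCommGroup X]
    [Module R X] (ε : M →ₗ[R] X) (hε : Function.Injective ε) (K : Submodule R X)
    (hK : K = LinearMap.range ε) :
    Nonempty ((↥(gam I X ⊓ K) ⧸ (⊥ : Submodule R X).comap (gam I X ⊓ K).subtype) ≃ₗ[R]
      LocCoh.H I 0 M) := by
  classical
  let Ψ : DRing.torsionSub I (ModuleCat.of R M) →ₗ[R] ↥(gam I X ⊓ K) :=
    { toFun := fun m => ⟨ε m.1, ⟨by
        obtain ⟨n, hn⟩ := m.2
        exact ⟨n, fun r hr => by rw [← map_smul, hn r hr, map_zero]⟩, by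
        rw [hK]; exact ⟨m.1, rfl⟩⟩⟩
      map_add' := fun m m' => Subtype.ext (map_add ε _ _)
      map_smul' := fun r m => Subtype.ext (map_smul ε _ _) }
  have hΨ : Function.Bijective Ψ := by
    constructor
    · intro m m' h
      exact Subtype.ext (hε (congrArg Subtype.val h))
    · rintro ⟨y, ⟨⟨n, hn⟩, hyK⟩⟩
      rw [hK] at hyK
      obtain ⟨m, rfl⟩ := hyK
      refine ⟨⟨m, ⟨n, fun r hr => hε ?_⟩⟩, Subtype.ext rfl⟩
      rw [map_smul, hn r hr, map_zero]
  have hbot : (⊥ : Submodule R X).comap (gam I X ⊓ K).subtype = ⊥ := by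
    rw [Submodule.comap_bot, Submodule.ker_subtype]
  exact ⟨(Submodule.quotEquivOfEqBot _ hbot).trans ((LinearEquiv.ofBijective Ψ hΨ).symm.trans
    (H0equiv I (ModuleCat.of R M)).symm)⟩

end Groth.Agent.Lib.Helper11.GrLCOrd
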