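import Groth.Agent.Lib.Helper11.GrDualC
import Groth.Agent.Lib.Helper11.GrLCSubQuot

/-!
# Graded duals of subquotients, transport, and uniqueness of graded preduals

Linear algebra around `GrSeg.IsGDual`:

* `exists_pairing_subquot` : if `A` is the graded dual of `B`, `W ≤ Z ≤ B` and `U ≤ K ≤ A` are
  homogeneous with `K = W^⊥`, `U = Z^⊥`, then `K/U` is the graded dual of `Z/W`.
* `mem_range_of_perp_ker`, `map_eq_zero_of_perp_range` : orthogonality for adjoint pairs.
* `isGDual_transport` : transport along graded isomorphisms of the dual side.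
* `exists_equiv_of_isGDual` : uniqueness of the (piecewise finite) graded predual.
-/

set_option autoImplicit false
set_option linter.unusedSectionVars false
set_option linter.unusedVariables false
set_option linter.style.haveILetI false
universe u

namespace Groth.Agent.Lib.Helper11.GrLD

open DirectSum GrLC GrSeg Groth.Agent.Lib.Helper11.GrLCLib Groth.Agent.Lib.Helper11.GrDual

section SubQuot

variable {k : Type u} [Field k] {R : Type u} [CommRing R] [Algebra k R]
variable {B : Type u} [AddCommGroup B] [Module R B] [Module k B] [IsScalarTower k R B]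
  {ℬ : ℤ → AddSubgroup B} [DirectSum.Decomposition ℬ]
variable {A : Type u} [AddCommGroup A] [Module R A] [Module k A] [IsScalarTower k R A]
  {𝒜A : ℤ → AddSubgroup A} [DirectSum.Decomposition 𝒜A]
  {β : A →ₗ[k] B →ₗ[k] k}

/-- the pairing restricted to submodules. -/
noncomputable def resPair (β : A →ₗ[k] B →ₗ[k] k) (K : Submodule R A) (Z : Submodule R B) :
    ↥K →ₗ[k] ↥Z →ₗ[k] k :=
  LinearMap.mk₂ k (fun a z => β (a : A) (z : B))
    (fun a a' z => by
      show β ((a + a' : ↥K) : A) (z : B) = _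
      rw [Submodule.coe_add, map_add, LinearMap.add_apply])
    (fun c a z => by
      show β ((c • a : ↥K) : A) (z : B) = _
      rw [Submodule.coe_smul_of_tower, map_smul, LinearMap.smul_apply])
    (fun a z z' => by
      show β (a : A) ((z + z' : ↥Z) : B) = _
      rw [Submodule.coe_add, map_add])
    (fun c a z => by
      show β (a : A) ((c • z : ↥Z) : B) = _
      rw [Submodule.coe_smul_of_tower, map_smul])

lemma resPair_apply (K : Submodule R A) (Z : Submodule R B) (a : ↥K) (z : ↥Z) :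
    resPair β K Z a z = β (a : A) (z : B) := rfl

/-- the pairing induced on subquotients. -/
noncomputable def quotPair (β : A →ₗ[k] B →ₗ[k] k) (K U : Submodule R A) (Z W : Submodule R B)
    (hKW : ∀ a ∈ K, ∀ w ∈ W, β a w = 0) (hUZ : ∀ a ∈ U, ∀ z ∈ Z, β a z = 0) :
    (↥K ⧸ U.comap K.subtype) →ₗ[k] (↥Z ⧸ W.comap Z.subtype) →ₗ[k] k :=
  let W' : Submodule R ↥Z := W.comap Z.subtype
  let U' : Submodule R ↥K := U.comap K.subtype
  let s1 : (↥Z ⧸ W'.restrictScalars k) →ₗ[k] ↥K →ₗ[k] k :=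
    (W'.restrictScalars k).liftQ (resPair β K Z).flip (by
      intro z hz
      rw [LinearMap.mem_ker]
      apply LinearMap.ext
      intro a
      rw [LinearMap.flip_apply, resPair_apply, LinearMap.zero_apply]
      exact hKW a a.2 z hz)
  let s2 : (↥K ⧸ U'.restrictScalars k) →ₗ[k] (↥Z ⧸ W'.restrictScalars k) →ₗ[k] k :=
    (U'.restrictScalars k).liftQ s1.flip (by
      intro a ha
      rw [LinearMap.mem_ker]
      apply LinearMap.ext
      intro zb
      obtain ⟨z, rfl⟩ := Submodule.mkQ_surjective _ zb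
      rw [LinearMap.flip_apply, LinearMap.zero_apply]
      show s1 (Submodule.Quotient.mk z) a = 0
      rw [Submodule.liftQ_apply, LinearMap.flip_apply, resPair_apply]
      exact hUZ a ha z z.2)
  (s2.comp (Submodule.Quotient.restrictScalarsEquiv k U').symm.toLinearMap).compl₂
    (Submodule.Quotient.restrictScalarsEquiv k W').symm.toLinearMap

lemma quotPair_mk (K U : Submodule R A) (Z W : Submodule R B)
    (hKW : ∀ a ∈ K, ∀ w ∈ W, β a w = 0) (hUZ : ∀ a ∈ U, ∀ z ∈ Z, β a z = 0) (a : ↥K) (z : ↥Z) :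
    quotPair β K U Z W hKW hUZ (Submodule.Quotient.mk a) (Submodule.Quotient.mk z) =
      β (a : A) (z : B) := rfl

/-- **Graded duals of subquotients.** -/
theorem isGDual_quotPair (hβ : IsGDual R ℬ 𝒜A β) (K U : Submodule R A) (Z W : Submodule R B)
    (hKW : ∀ a ∈ K, ∀ w ∈ W, β a w = 0) (hUZ : ∀ a ∈ U, ∀ z ∈ Z, β a z = 0)
    (hWZ : W ≤ Z)
    (hKW' : ∀ n a, a ∈ 𝒜A n → (∀ w ∈ W, w ∈ ℬ (-n) → β a w = 0) → a ∈ K)
    (hUZ' : ∀ n a, a ∈ 𝒜A n → a ∈ K → (∀ z ∈ Z, z ∈ ℬ (-n) → β a z = 0) → a ∈ U)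
    [DirectSum.Decomposition (quotGrM (subGr ℬ Z) (W.comap Z.subtype))]
    [DirectSum.Decomposition (quotGrM (subGr 𝒜A K) (U.comap K.subtype))] :
    IsGDual R (quotGrM (subGr ℬ Z) (W.comap Z.subtype))
      (quotGrM (subGr 𝒜A K) (U.comap K.subtype)) (quotPair β K U Z W hKW hUZ) where
  map_smul r ab zb := by
    obtain ⟨a, rfl⟩ := Submodule.mkQ_surjective _ ab
    obtain ⟨z, rfl⟩ := Submodule.mkQ_surjective _ zb
    show quotPair β K U Z W hKW hUZ (Submodule.Quotient.mk (r • a)) (Submodule.Quotient.mk z) =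
      quotPair β K U Z W hKW hUZ (Submodule.Quotient.mk a) (Submodule.Quotient.mk (r • z))
    rw [quotPair_mk, quotPair_mk]
    exact hβ.map_smul r a z
  vanish n ab hab e he zb hzb := by
    obtain ⟨a, ha, rfl⟩ := hab
    obtain ⟨z, hz, rfl⟩ := hzb
    refine (quotPair_mk K U Z W hKW hUZ a z).trans ?_
    exact hβ.vanish n a ha e he z hz
  eq_zero n ab hab h := by
    obtain ⟨a, ha, rfl⟩ := hab
    show (Submodule.Quotient.mk a : ↥K ⧸ U.comap K.subtype) = 0
    rw [Submodule.Quotient.mk_eq_zero]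
    show (a : A) ∈ U
    apply hUZ' n a ha a.2
    intro z hz hzn
    have := h (Submodule.Quotient.mk (⟨z, hz⟩ : ↥Z)) ⟨⟨z, hz⟩, hzn, rfl⟩
    exact (quotPair_mk K U Z W hKW hUZ a ⟨z, hz⟩).symm.trans this
  exists_eq n g := by
    classical
    -- the functional on `Z`
    let g1 : ↥(Z.restrictScalars k) →ₗ[k] k :=
      { toFun := fun z => g (Submodule.Quotient.mk (⟨z.1, z.2⟩ : ↥Z))
        map_add' := fun z z' => by
          rw [← map_add]
          rfl
        map_smul' := fun c z => by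
          rw [RingHom.id_apply, ← map_smul]
          rfl }
    obtain ⟨g2, hg2⟩ := LinearMap.exists_extend g1
    obtain ⟨a, ha, hag⟩ := hβ.exists_eq n g2
    have hg2z : ∀ z (hz : z ∈ Z), g2 z = g (Submodule.Quotient.mk (⟨z, hz⟩ : ↥Z)) := by
      intro z hz
      have := LinearMap.congr_fun hg2 ⟨z, hz⟩
      exact this
    have haK : a ∈ K := by
      apply hKW' n a ha
      intro w hw hwn
      rw [hag w hwn]
      have hwZ : w ∈ Z := hWZ hw
      rw [hg2z w hwZ]
      have : (Submodule.Quotient.mk (⟨w, hwZ⟩ : ↥Z) : ↥Z ⧸ W.comap Z.subtype) = 0 := by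
        rw [Submodule.Quotient.mk_eq_zero]
        exact hw
      rw [this, map_zero]
    refine ⟨Submodule.Quotient.mk ⟨a, haK⟩, ⟨⟨a, haK⟩, ha, rfl⟩, ?_⟩
    rintro zb ⟨z, hz, rfl⟩
    refine (quotPair_mk K U Z W hKW hUZ ⟨a, haK⟩ z).trans ?_
    rw [hag z hz, hg2z z z.2]
    rfl

end SubQuot

section Perp

variable {k : Type u} [Field k] {R : Type u} [CommRing R] [Algebra k R]
variable {B : Type u} [AddCommGroup B] [Module R B] [Module k B] [IsScalarTower k R B]
  {ℬ : ℤ → AddSubgroup B} [DirectSum.Decomposition ℬ]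
variable {A : Type u} [AddCommGroup A] [Module R A] [Module k A] [IsScalarTower k R A]
  {𝒜A : ℤ → AddSubgroup A} [DirectSum.Decomposition 𝒜A]
  {β : A →ₗ[k] B →ₗ[k] k}
variable {B' : Type u} [AddCommGroup B'] [Module R B'] [Module k B'] [IsScalarTower k R B']
  {ℬ' : ℤ → AddSubgroup B'} [DirectSum.Decomposition ℬ']
variable {A' : Type u} [AddCommGroup A'] [Module R A'] [Module k A'] [IsScalarTower k R A']
  {𝒜A' : ℤ → AddSubgroup A'} [DirectSum.Decomposition 𝒜A']
  {β' : A' →ₗ[k] B' →ₗ[k] k}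

lemma exists_factor' {V W U : Type*} [AddCommGroup V] [Module k V] [AddCommGroup W] [Module k W]
    [AddCommGroup U] [Module k U] (f : V →ₗ[k] W) (g : V →ₗ[k] U)
    (h : LinearMap.ker f ≤ LinearMap.ker g) : ∃ l : W →ₗ[k] U, l ∘ₗ f = g := by
  set q := LinearMap.ker f
  let fbar : (V ⧸ q) →ₗ[k] W := q.liftQ f le_rfl
  have hfbar : LinearMap.ker fbar = ⊥ := Submodule.ker_liftQ_eq_bot _ _ _ le_rfl
  obtain ⟨r, hr⟩ := LinearMap.exists_leftInverse_of_injective fbar hfbar
  let gbar : (V ⧸ q) →ₗ[k] U := q.liftQ g h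
  refine ⟨gbar ∘ₗ r, ?_⟩
  apply LinearMap.ext
  intro x
  have h1 : r (f x) = q.mkQ x := by
    have := LinearMap.congr_fun hr (q.mkQ x)
    simpa [fbar] using this
  simp only [LinearMap.comp_apply, h1]
  simp [gbar]

/-- For an adjoint pair `(f, fs)`: a homogeneous element orthogonal to `ker fs` lies in the range
of `f`. -/
theorem mem_range_of_perp_ker (hβ : IsGDual R ℬ 𝒜A β) (hβ' : IsGDual R ℬ' 𝒜A' β')
    (hkB : ∀ (n : ℤ) (c : k) (x : B), x ∈ ℬ n → c • x ∈ ℬ n)
    (f : A' →ₗ[R] A) (fs : B →ₗ[R] B') (hf : IsGrHom 𝒜A' 𝒜A f) (hfs : IsGrHom ℬ ℬ' fs)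
    (hadj : ∀ a' b, β (f a') b = β' a' (fs b))
    (n : ℤ) (a : A) (ha : a ∈ 𝒜A n) (h : ∀ z, fs z = 0 → z ∈ ℬ (-n) → β a z = 0) :
    a ∈ LinearMap.range f := by
  let V : Submodule k B :=
    { carrier := (ℬ (-n) : Set B)
      add_mem' := fun hx hy => add_mem hx hy
      zero_mem' := zero_mem _
      smul_mem' := fun c x hx => hkB (-n) c x hx }
  let f' : ↥V →ₗ[k] B' := (fs.restrictScalars k) ∘ₗ V.subtype
  let g' : ↥V →ₗ[k] k := (β a) ∘ₗ V.subtype
  have hker : LinearMap.ker f' ≤ LinearMap.ker g' := by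
    intro v hv
    rw [LinearMap.mem_ker] at hv ⊢
    exact h v.1 hv v.2
  obtain ⟨l, hl⟩ := exists_factor' f' g' hker
  obtain ⟨a', ha', hal⟩ := hβ'.exists_eq n l
  refine ⟨a', ?_⟩
  rw [← sub_eq_zero]
  apply hβ.eq_zero n _ (sub_mem (hf n a' ha') ha)
  intro x hx
  rw [map_sub, LinearMap.sub_apply, hadj, hal (fs x) (hfs (-n) x hx), sub_eq_zero]
  exact LinearMap.congr_fun hl ⟨x, hx⟩

/-- For an adjoint pair `(g, gs)`: a homogeneous element orthogonal to the range of `gs` is killed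
by `g`. -/
theorem map_eq_zero_of_perp_range (hβ' : IsGDual R ℬ' 𝒜A' β')
    (g : A →ₗ[R] A') (gs : B' →ₗ[R] B) (hg : IsGrHom 𝒜A 𝒜A' g)
    (hadj : ∀ a b', β' (g a) b' = β a (gs b'))
    (n : ℤ) (a : A) (ha : a ∈ 𝒜A n) (h : ∀ b', b' ∈ ℬ' (-n) → β a (gs b') = 0) : g a = 0 := by
  apply hβ'.eq_zero n _ (hg n a ha)
  intro b' hb'
  rw [hadj]
  exact h b' hb'

end Perp

section Transport

variable {k : Type u} [Field k] {R : Type u} [CommRing R] [Algebra k R]
variable {M : Type u} [AddCommGroup M] [Module R M] [Module k M] [IsScalarTower k R M]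
  {ℳ : ℤ → AddSubgroup M} [DirectSum.Decomposition ℳ]
variable {D : Type u} [AddCommGroup D] [Module R D] [Module k D] [IsScalarTower k R D]
  {𝒟 : ℤ → AddSubgroup D} [DirectSum.Decomposition 𝒟]
  {β : D →ₗ[k] M →ₗ[k] k}
variable {D' : Type u} [AddCommGroup D'] [Module R D'] [Module k D'] [IsScalarTower k R D']
  {𝒟' : ℤ → AddSubgroup D'} [DirectSum.Decomposition 𝒟']

/-- transport of a graded dual along a graded isomorphism of the dual side. -/
theorem isGDual_transport (hD : IsGDual R ℳ 𝒟 β) (e : D' ≃ₗ[R] D)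
    (he : ∀ n d, d ∈ 𝒟' n → e d ∈ 𝒟 n) (he' : ∀ n d, d ∈ 𝒟 n → e.symm d ∈ 𝒟' n) :
    IsGDual R ℳ 𝒟' (β ∘ₗ (e.toLinearMap.restrictScalars k)) where
  map_smul r d x := by
    show β (e (r • d)) x = β (e d) (r • x)
    rw [map_smul]
    exact hD.map_smul r (e d) x
  vanish n d hd m hm x hx := hD.vanish n (e d) (he n d hd) m hm x hx
  eq_zero n d hd h := by
    have := hD.eq_zero n (e d) (he n d hd) h
    exact e.map_eq_zero_iff.mp this
  exists_eq n g := by
    obtain ⟨d, hd, hdg⟩ := hD.exists_eq n g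
    refine ⟨e.symm d, he' n d hd, fun x hx => ?_⟩
    show β (e (e.symm d)) x = g x
    rw [LinearEquiv.apply_symm_apply]
    exact hdg x hx

end Transport

section Unique

variable {k : Type u} [Field k] {R : Type u} [CommRing R] [Algebra k R]
  (𝒜 : ℤ → Submodule k R) [GradedAlgebra 𝒜]
variable {X : Type u} [AddCommGroup X] [Module R X] [Module k X] [IsScalarTower k R X]
  {𝒳 : ℤ → AddSubgroup X} [DirectSum.Decomposition 𝒳] [SetLike.GradedSMul 𝒜 𝒳]
variable {X' : Type u} [AddCommGroup X'] [Module R X'] [Module k X'] [IsScalarTower k R X']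
  {𝒳' : ℤ → AddSubgroup X'} [DirectSum.Decomposition 𝒳'] [SetLike.GradedSMul 𝒜 𝒳']
variable {H : Type u} [AddCommGroup H] [Module R H] [Module k H] [IsScalarTower k R H]
  {ℋ : ℤ → AddSubgroup H} [DirectSum.Decomposition ℋ] [SetLike.GradedSMul 𝒜 ℋ]
  {β : H →ₗ[k] X →ₗ[k] k} {β' : H →ₗ[k] X' →ₗ[k] k}

/-- **Uniqueness of graded preduals** with finite-dimensional pieces. -/
theorem exists_equiv_of_isGDual (hD : IsGDual R 𝒳 ℋ β) (hD' : IsGDual R 𝒳' ℋ β')
    (hfin : ∀ n, Module.Finite k ↥(compK 𝒜 𝒳 n))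
    (hfin' : ∀ n, Module.Finite k ↥(compK 𝒜 𝒳' n)) :
    ∃ e : X' ≃ₗ[R] X, (∀ n x, x ∈ 𝒳' n → e x ∈ 𝒳 n) ∧ ∀ h x, β h (e x) = β' h x := by
  have hF : IsGDual R ℋ 𝒳 β.flip := isGDual_flip 𝒜 hD hfin
  have hF' : IsGDual R ℋ 𝒳' β'.flip := isGDual_flip 𝒜 hD' hfin'
  obtain ⟨v, hv, hvdeg⟩ := exists_transpose hF (β' := β'.flip) hF'.map_smul 0
    (fun n d hd m hm x hx => hF'.vanish n d hd m (by rwa [add_zero] at hm) x hx)
    (LinearMap.id : H →ₗ[R] H) (fun n x hx => hx)
  obtain ⟨w, hw, hwdeg⟩ := exists_transpose hF' (β' := β.flip) hF.map_smul 0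
    (fun n d hd m hm x hx => hF.vanish n d hd m (by rwa [add_zero] at hm) x hx)
    (LinearMap.id : H →ₗ[R] H) (fun n x hx => hx)
  have h1 : ∀ x, v (w x) = x := by
    intro x
    rw [← sub_eq_zero]
    apply eq_zero_of_forall hF
    intro h
    rw [map_sub, LinearMap.sub_apply, hv, hw, LinearMap.id_apply, LinearMap.id_apply, sub_self]
  have h2 : ∀ x, w (v x) = x := by
    intro x
    rw [← sub_eq_zero]
    apply eq_zero_of_forall hF'
    intro h
    rw [map_sub, LinearMap.sub_apply, hw, hv, LinearMap.id_apply, LinearMap.id_apply, sub_self]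
  refine ⟨LinearEquiv.ofLinearMap v w (LinearMap.ext h1) (LinearMap.ext h2), ?_, ?_⟩
  · intro n x hx
    have := hvdeg n x hx
    rwa [add_zero] at this
  · intro h x
    have := hv x h
    rw [LinearMap.flip_apply, LinearMap.flip_apply, LinearMap.id_apply] at this
    exact this

end Unique

end Groth.Agent.Lib.Helper11.GrLD
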