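import Groth.Agent.Lib27.LD4
import Groth.Agent.Lib.Helper11.GrExtA
import Groth.Agent.Lib.Helper11.GrFieldD
import Groth.Agent.Lib.Helper11.GrLDA

/-!
# The duality pairing between `H^n_m(F)` and `Hom_R(F, C)` for a graded free module `F`

Given a perfect graded pairing `γ : H^n_m(R) × C → k` (i.e. `H^n_m(R)` is the graded dual of `C`),
the pairing `⟨ξ, φ⟩ = ∑_b γ(H^n(pr_b) ξ, φ(e_b))` exhibits `H^n_m(F)` as the graded dual of
`Hom_R(F, C)` (with the Hom-grading).  Matrix maps and precomposition are adjoint.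
-/

set_option autoImplicit false
set_option linter.unusedSectionVars false
set_option linter.unusedVariables false
set_option linter.style.haveILetI false
universe u

namespace Groth.Agent.Lib.Helper11.GrLD

open DirectSum GrLC GrSeg Groth.Agent.Lib.Helper11.GrLCLib Groth.Agent.Lib.Helper11.GrLes
  Groth.Agent.Lib.Helper11.GrExt Groth.Agent.Lib.Helper11.GrField Groth.Agent.Lib27.LD Matrix

variable {R : Type u} [CommRing R] {𝒜 : ℤ → AddSubgroup R} [GradedRing 𝒜]

section KMod

variable {M : Type u} [AddCommGroup M] [Module R M] {ℳ : ℤ → AddSubgroup M}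
  [DirectSum.Decomposition ℳ] [SetLike.GradedSMul 𝒜 ℳ]

/-- the `k`-vector space structure on graded local cohomology (through `R`). -/
@[instance_reducible]
noncomputable def kModH (k : Type u) [Field k] [Algebra k R] (E : StarInjRes 𝒜 ℳ)
    (a : HomogeneousIdeal 𝒜) (q : ℕ) : Module k (E.H a q) :=
  Module.compHom (E.H a q) (algebraMap k R)

attribute [local instance] kModH

theorem isScalarTower_kModH (k : Type u) [Field k] [Algebra k R] (E : StarInjRes 𝒜 ℳ)
    (a : HomogeneousIdeal 𝒜) (q : ℕ) : IsScalarTower k R (E.H a q) :=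
  IsScalarTower.of_algebraMap_smul (fun _ _ => rfl)

end KMod

attribute [local instance] kModH isScalarTower_kModH

variable {k : Type u} [Field k] [Algebra k R]
variable {C : Type u} [AddCommGroup C] [Module R C] [Module k C] [IsScalarTower k R C]
  (𝒞 : ℤ → AddSubgroup C) [DirectSum.Decomposition 𝒞] [SetLike.GradedSMul 𝒜 𝒞]
variable {m : HomogeneousIdeal 𝒜} {n : ℕ} {I : StarInjRes 𝒜 𝒜}
  (γ : I.H m n →ₗ[k] C →ₗ[k] k)

section Coord

variable {r : ℕ} (a : Fin r → ℤ)

lemma single_one_mem (b : Fin r) : (Pi.single b (1 : R) : Fin r → R) ∈ freeGr 𝒜 a (a b) := by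
  have := single_isGrHomDeg 𝒜 a b 0 (1 : R) SetLike.GradedOne.one_mem
  rwa [zero_add] at this

variable {a} in
lemma apply_single_mem {d : ℤ} {φ : (Fin r → R) →ₗ[R] C} (hφ : φ ∈ homGr (R := R) (freeGr 𝒜 a) 𝒞 d)
    (b : Fin r) : φ (Pi.single b 1) ∈ 𝒞 (a b + d) :=
  hφ (a b) _ (single_one_mem a b)

/-- the map `w ↦ w_b • c`. -/
def coordHom (b : Fin r) (c : C) : (Fin r → R) →ₗ[R] C :=
  (LinearMap.toSpanSingleton R C c) ∘ₗ (LinearMap.proj b)

lemma coordHom_apply (b : Fin r) (c : C) (w : Fin r → R) : coordHom b c w = w b • c := rfl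

lemma coordHom_single (b b' : Fin r) (c : C) :
    coordHom b c (Pi.single b' (1 : R)) = if b' = b then c else 0 := by
  rw [coordHom_apply]
  by_cases h : b' = b
  · subst h
    rw [Pi.single_eq_same, one_smul, if_pos rfl]
  · rw [Pi.single_eq_of_ne (Ne.symm h), zero_smul, if_neg h]

lemma coordHom_mem {b : Fin r} {c : C} {d : ℤ} (hc : c ∈ 𝒞 (a b + d)) :
    coordHom b c ∈ homGr (R := R) (freeGr 𝒜 a) 𝒞 d := by
  intro j w hw
  rw [coordHom_apply]
  have := SetLike.GradedSMul.smul_mem (A := 𝒜) (B := 𝒞) (hw b) hc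
  rw [vadd_eq_add] at this
  have e : j - a b + (a b + d) = j + d := by ring
  rwa [e] at this

/-- `c ↦ coordHom b c`, `k`-linear. -/
def coordHomL (b : Fin r) : C →ₗ[k] ((Fin r → R) →ₗ[R] C) where
  toFun c := coordHom b c
  map_add' c c' := by
    apply LinearMap.ext
    intro w
    simp [coordHom_apply]
  map_smul' t c := by
    apply LinearMap.ext
    intro w
    simp only [coordHom_apply, RingHom.id_apply, LinearMap.smul_apply]
    rw [smul_comm]

lemma coordHomL_apply (b : Fin r) (c : C) : coordHomL (k := k) (R := R) b c = coordHom b c := rfl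

lemma sum_coordHom (φ : (Fin r → R) →ₗ[R] C) :
    ∑ b, coordHom b (φ (Pi.single b 1)) = φ := by
  apply LinearMap.ext
  intro w
  rw [LinearMap.sum_apply]
  simp only [coordHom_apply]
  conv_rhs => rw [← Finset.univ_sum_single w]
  rw [map_sum]
  refine Finset.sum_congr rfl fun b _ => ?_
  rw [← map_smul]
  congr 1
  funext b'
  by_cases h : b' = b
  · subst h
    simp
  · simp [Pi.single_eq_of_ne h]

/-- evaluation at a basis vector, `k`-linear. -/
def evalAt (b : Fin r) : ((Fin r → R) →ₗ[R] C) →ₗ[k] C where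
  toFun φ := φ (Pi.single b 1)
  map_add' _ _ := rfl
  map_smul' _ _ := rfl

lemma evalAt_apply (b : Fin r) (φ : (Fin r → R) →ₗ[R] C) :
    evalAt (k := k) b φ = φ (Pi.single b 1) := rfl

end Coord

section Pair

variable {r : ℕ} {a : Fin r → ℤ} (EP : StarInjRes 𝒜 (freeGr 𝒜 a))

/-- the duality pairing `H^n_m(F) × Hom_R(F, C) → k`. -/
noncomputable def pairC : EP.H m n →ₗ[k] ((Fin r → R) →ₗ[R] C) →ₗ[k] k :=
  ∑ b, (γ.comp ((Hm EP I m n (LinearMap.proj b) (-a b)
    (proj_isGrHomDeg 𝒜 a b)).restrictScalars k)).compl₂ (evalAt b)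

lemma pairC_apply (ξ : EP.H m n) (φ : (Fin r → R) →ₗ[R] C) :
    pairC γ EP ξ φ = ∑ b, γ (Hm EP I m n (LinearMap.proj b) (-a b) (proj_isGrHomDeg 𝒜 a b) ξ)
      (φ (Pi.single b 1)) := by
  unfold pairC
  rw [LinearMap.sum_apply, LinearMap.sum_apply]
  rfl

/-- projecting a class coming from a coordinate. -/
lemma Hm_proj_single (u : I.H m n) (b b' : Fin r) :
    Hm EP I m n (LinearMap.proj b') (-a b') (proj_isGrHomDeg 𝒜 a b')
      (Hm I EP m n (LinearMap.single R (fun _ : Fin r => R) b) (a b) (single_isGrHomDeg 𝒜 a b) u) =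
      if b = b' then u else 0 := by
  by_cases h : b = b'
  · subst h
    rw [if_pos rfl]
    rw [Hm_comp_apply' (single_isGrHomDeg 𝒜 a b) (proj_isGrHomDeg 𝒜 a b) isGrHomDeg_id0
      (by
        apply LinearMap.ext
        intro s
        simp) (add_neg_cancel _), Hm_id_apply]
  · rw [if_neg h]
    rw [Hm_comp_apply' (single_isGrHomDeg 𝒜 a b) (proj_isGrHomDeg 𝒜 a b')
      (isGrHomDeg_zero' (a b + -a b'))
      (by
        apply LinearMap.ext
        intro s
        simp [Pi.single_eq_of_ne (Ne.symm h)]) rfl, Hm_zero]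
    rfl

variable [DirectSum.Decomposition (I.Hgr m n)] [DirectSum.Decomposition (EP.Hgr m n)]
  [DirectSum.Decomposition (homGr (R := R) (freeGr 𝒜 a) 𝒞)]

/-- **`H^n_m(F)` is the graded dual of `Hom_R(F, C)`.** -/
theorem isGDual_pairC (hγ : IsGDual (k := k) R 𝒞 (I.Hgr m n) γ) :
    IsGDual (k := k) R (homGr (R := R) (freeGr 𝒜 a) 𝒞) (EP.Hgr m n) (pairC γ EP) where
  map_smul t ξ φ := by
    rw [pairC_apply, pairC_apply]
    refine Finset.sum_congr rfl fun b _ => ?_
    rw [map_smul, hγ.map_smul]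
    rfl
  vanish d ξ hξ e he φ hφ := by
    rw [pairC_apply]
    refine Finset.sum_eq_zero fun b _ => ?_
    refine hγ.vanish (d + -a b) _ (Hm_mem (proj_isGrHomDeg 𝒜 a b) hξ) (a b + e) ?_ _
      (apply_single_mem 𝒞 hφ b)
    intro h
    apply he
    omega
  eq_zero d ξ hξ h := by
    rw [decomp_id EP n ξ]
    refine Finset.sum_eq_zero fun b _ => ?_
    have hu : Hm EP I m n (LinearMap.proj b) (-a b) (proj_isGrHomDeg 𝒜 a b) ξ = 0 := by
      apply hγ.eq_zero (d + -a b) _ (Hm_mem (proj_isGrHomDeg 𝒜 a b) hξ)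
      intro c hc
      have hc' : c ∈ 𝒞 (a b + -d) := by
        have e1 : -(d + -a b) = a b + -d := by ring
        rwa [e1] at hc
      have := h (coordHom b c) (coordHom_mem 𝒞 a hc')
      rw [pairC_apply] at this
      rw [Finset.sum_eq_single b] at this
      · rwa [coordHom_single, if_pos rfl] at this
      · intro b' _ hb'
        rw [coordHom_single, if_neg hb', map_zero]
      · intro hb
        exact absurd (Finset.mem_univ b) hb
    rw [hu, map_zero]
  exists_eq d g := by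
    classical
    have hex : ∀ b : Fin r, ∃ u, u ∈ I.Hgr m n (d + -a b) ∧ ∀ c ∈ 𝒞 (-(d + -a b)),
        γ u c = (g ∘ₗ coordHomL b) c := fun b => hγ.exists_eq (d + -a b) _
    choose u hu hug using hex
    refine ⟨∑ b, Hm I EP m n (LinearMap.single R (fun _ : Fin r => R) b) (a b)
      (single_isGrHomDeg 𝒜 a b) (u b), ?_, ?_⟩
    · refine sum_mem fun b _ => ?_
      have := Hm_mem (E' := EP) (a := m) (q := n) (single_isGrHomDeg 𝒜 a b) (hu b)
      rwa [neg_add_cancel_right] at this
    · intro φ hφ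
      rw [pairC_apply]
      have h1 : ∀ b', Hm EP I m n (LinearMap.proj b') (-a b') (proj_isGrHomDeg 𝒜 a b')
          (∑ b, Hm I EP m n (LinearMap.single R (fun _ : Fin r => R) b) (a b)
            (single_isGrHomDeg 𝒜 a b) (u b)) = u b' := by
        intro b'
        rw [map_sum]
        rw [Finset.sum_eq_single b']
        · rw [Hm_proj_single, if_pos rfl]
        · intro b _ hb
          rw [Hm_proj_single, if_neg hb]
        · intro hb
          exact absurd (Finset.mem_univ b') hb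
      have h2 : ∀ b', γ (u b') (φ (Pi.single b' 1)) = g (coordHom b' (φ (Pi.single b' 1))) := by
        intro b'
        have hmem : φ (Pi.single b' 1) ∈ 𝒞 (-(d + -a b')) := by
          have := apply_single_mem 𝒞 hφ b'
          have e1 : -(d + -a b') = a b' + -d := by ring
          rwa [e1]
        exact hug b' _ hmem
      rw [Finset.sum_congr rfl fun b' _ => by rw [h1 b', h2 b']]
      rw [← map_sum, sum_coordHom]

end Pair

section Adjoint

variable {r r' : ℕ} {a : Fin r → ℤ} {a' : Fin r' → ℤ} (EP : StarInjRes 𝒜 (freeGr 𝒜 a))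
  (EP' : StarInjRes 𝒜 (freeGr 𝒜 a'))

lemma proj_comp_mulVecLin (D : Matrix (Fin r) (Fin r') R) (b : Fin r) :
    (LinearMap.proj b : (Fin r → R) →ₗ[R] R) ∘ₗ Matrix.mulVecLin D =
      ∑ b', D b b' • (LinearMap.proj b' : (Fin r' → R) →ₗ[R] R) := by
  apply LinearMap.ext
  intro w
  rw [LinearMap.comp_apply, LinearMap.proj_apply, Matrix.mulVecLin_apply, LinearMap.sum_apply]
  rfl

/-- adjointness of matrix maps and precomposition. -/
theorem pairC_Hm_mulVecLin (hγsm : ∀ (t : R) (u : I.H m n) (c : C), γ (t • u) c = γ u (t • c))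
    {D : Matrix (Fin r) (Fin r') R} (hD : ∀ b b', D b b' ∈ 𝒜 (a' b' - a b))
    (ξ' : EP'.H m n) (φ : (Fin r → R) →ₗ[R] C) :
    pairC γ EP (Hm EP' EP m n (Matrix.mulVecLin D) 0 (mulVecLin_isGrHomDeg hD) ξ') φ =
      pairC γ EP' ξ' (φ ∘ₗ Matrix.mulVecLin D) := by
  classical
  rw [pairC_apply, pairC_apply]
  have hterm : ∀ b b', IsGrHomDeg (freeGr 𝒜 a') 𝒜
      (D b b' • (LinearMap.proj b' : (Fin r' → R) →ₗ[R] R)) (-a b) := by
    intro b b'
    have := isGrHomDeg_smul' (hD b b') (proj_isGrHomDeg 𝒜 a' b')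
    have e : -a' b' + (a' b' - a b) = -a b := by ring
    rwa [e] at this
  have hsum : ∀ b, IsGrHomDeg (freeGr 𝒜 a') 𝒜
      (∑ b', D b b' • (LinearMap.proj b' : (Fin r' → R) →ₗ[R] R)) (-a b) :=
    fun b => isGrHomDeg_sum' _ _ (fun b' _ => hterm b b')
  have h1 : ∀ b, Hm EP I m n (LinearMap.proj b) (-a b) (proj_isGrHomDeg 𝒜 a b)
      (Hm EP' EP m n (Matrix.mulVecLin D) 0 (mulVecLin_isGrHomDeg hD) ξ') =
      ∑ b', D b b' • Hm EP' I m n (LinearMap.proj b') (-a' b') (proj_isGrHomDeg 𝒜 a' b') ξ' := by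
    intro b
    rw [Hm_comp_apply' (mulVecLin_isGrHomDeg hD) (proj_isGrHomDeg 𝒜 a b) (hsum b)
      (proj_comp_mulVecLin D b) (zero_add _)]
    rw [Hm_sum Finset.univ _ (hterm b) (hsum b), LinearMap.sum_apply]
    refine Finset.sum_congr rfl fun b' _ => ?_
    have e : -a b = -a' b' + (a' b' - a b) := by ring
    rw [Hm_congr (hterm b b') (isGrHomDeg_smul' (hD b b') (proj_isGrHomDeg 𝒜 a' b')) rfl e,
      Hm_smul (hD b b') (proj_isGrHomDeg 𝒜 a' b')]
  rw [Finset.sum_congr rfl fun b _ => by rw [h1 b, map_sum, LinearMap.sum_apply]]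
  rw [Finset.sum_comm]
  refine Finset.sum_congr rfl fun b' _ => ?_
  rw [Finset.sum_congr rfl fun b _ => hγsm (D b b') _ _]
  rw [← map_sum]
  congr 1
  rw [LinearMap.comp_apply, Matrix.mulVecLin_apply]
  have : D *ᵥ (Pi.single b' (1 : R)) = ∑ b, D b b' • (Pi.single b (1 : R) : Fin r → R) := by
    funext c
    rw [Matrix.mulVec_single_one, Finset.sum_apply]
    simp [Pi.single_apply]
  rw [this, map_sum]
  refine Finset.sum_congr rfl fun b _ => ?_
  rw [map_smul]

end Adjoint

end Groth.Agent.Lib.Helper11.GrLD
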