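import Groth.Agent.Lib27.LD6

/-!
# Dimension shifting along a graded free resolution, isomorphism form

For a graded free resolution `F_• → N` over a graded ring with `H^j_m(R) = 0` for `j < n` and
`H^j_m = 0` for `j > n`: `H^i_m(N)` is the homology at the spot `p = n - i` of the complex
`H^n_m(F_•)`.  This is expressed by a surjection `θ` from the cycles `Kp` onto `H^i_m(N)` whose
kernel is the module of boundaries `Up`, homogeneous (`LComputes`).
-/

set_option autoImplicit false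
set_option linter.unusedSectionVars false
set_option linter.unusedVariables false
set_option linter.style.haveILetI false
set_option maxHeartbeats 4000000
universe u

namespace Groth.Agent.Lib.Helper11.GrLD

open DirectSum GrLC Groth.Agent.Lib.Helper11.GrLCLib Groth.Agent.Lib.Helper11.GrLes
  Groth.Agent.Lib27.LD Matrix

variable {R : Type u} [CommRing R] {𝒜 : ℤ → AddSubgroup R} [GradedRing 𝒜]

section Defs

variable {N : Type u} [AddCommGroup N] [Module R N] {𝒩 : ℤ → AddSubgroup N}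
  [DirectSum.Decomposition 𝒩] [SetLike.GradedSMul 𝒜 𝒩]

/-- the differential `H^n_m(F_{p+1}) → H^n_m(F_p)`. -/
noncomputable def fA (m : HomogeneousIdeal 𝒜) (n : ℕ) (F : GrSyz.FreeRes 𝒜 𝒩) (p : ℕ) :
    (EPa 𝒜 (F.deg (p + 1))).H m n →ₗ[R] (EPa 𝒜 (F.deg p)).H m n :=
  Hm (EPa 𝒜 (F.deg (p + 1))) (EPa 𝒜 (F.deg p)) m n (F.dLin p) 0 (dLin_isGrHomDeg F p)

/-- the cycles of the complex `H^n_m(F_•)` at the spot `p`. -/
noncomputable def Kp (m : HomogeneousIdeal 𝒜) (n : ℕ) (F : GrSyz.FreeRes 𝒜 𝒩) :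
    (p : ℕ) → Submodule R ((EPa 𝒜 (F.deg p)).H m n)
  | 0 => ⊤
  | p + 1 => LinearMap.ker (fA m n F p)

/-- the boundaries of the complex `H^n_m(F_•)` at the spot `p`. -/
noncomputable def Up (m : HomogeneousIdeal 𝒜) (n : ℕ) (F : GrSyz.FreeRes 𝒜 𝒩) (p : ℕ) :
    Submodule R ((EPa 𝒜 (F.deg p)).H m n) :=
  LinearMap.range (fA m n F p)

lemma fA_mem (m : HomogeneousIdeal 𝒜) (n : ℕ) (F : GrSyz.FreeRes 𝒜 𝒩) (p : ℕ) {g : ℤ}
    {ξ : (EPa 𝒜 (F.deg (p + 1))).H m n} (hξ : ξ ∈ (EPa 𝒜 (F.deg (p + 1))).Hgr m n g) :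
    fA m n F p ξ ∈ (EPa 𝒜 (F.deg p)).Hgr m n g := by
  have := Hm_mem (E' := EPa 𝒜 (F.deg p)) (a := m) (q := n) (dLin_isGrHomDeg F p) hξ
  rwa [add_zero] at this

lemma fA_comp (m : HomogeneousIdeal 𝒜) (n : ℕ) (F : GrSyz.FreeRes 𝒜 𝒩) (p : ℕ)
    (ξ : (EPa 𝒜 (F.deg (p + 1 + 1))).H m n) : fA m n F p (fA m n F (p + 1) ξ) = 0 := by
  unfold fA
  rw [Hm_comp_apply' (dLin_isGrHomDeg F (p + 1)) (dLin_isGrHomDeg F p) (isGrHomDeg_zero' 0)
    (by
      apply LinearMap.ext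
      intro w
      have : F.dLin (p + 1) w ∈ LinearMap.ker (F.dLin p) := by
        rw [F.exact_succ p]
        exact ⟨w, rfl⟩
      simpa using this) (add_zero 0), Hm_zero]
  rfl

lemma Up_le_Kp (m : HomogeneousIdeal 𝒜) (n : ℕ) (F : GrSyz.FreeRes 𝒜 𝒩) (p : ℕ) :
    Up m n F p ≤ Kp m n F p := by
  cases p with
  | zero => exact le_top
  | succ p =>
    rintro _ ⟨ξ, rfl⟩
    show fA m n F (p + 1) ξ ∈ LinearMap.ker (fA m n F p)
    rw [LinearMap.mem_ker]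
    exact fA_comp m n F p ξ

/-- `θ` computes `H^i_m(N)` as the homology of `H^n_m(F_•)` at the spot `p`. -/
structure LComputes (m : HomogeneousIdeal 𝒜) (n : ℕ) (F : GrSyz.FreeRes 𝒜 𝒩)
    (E : StarInjRes 𝒜 𝒩) (p i : ℕ) (θ : ↥(Kp m n F p) →ₗ[R] E.H m i) : Prop where
  surj : Function.Surjective θ
  ker : ∀ ξ, θ ξ = 0 ↔ (ξ : (EPa 𝒜 (F.deg p)).H m n) ∈ Up m n F p
  mem : ∀ g (ξ : ↥(Kp m n F p)), (ξ : (EPa 𝒜 (F.deg p)).H m n) ∈ (EPa 𝒜 (F.deg p)).Hgr m n g →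
    θ ξ ∈ E.Hgr m i g

end Defs

section Aux

variable {M : Type u} [AddCommGroup M] [Module R M] {ℳ : ℤ → AddSubgroup M}
  [DirectSum.Decomposition ℳ] [SetLike.GradedSMul 𝒜 ℳ]
variable {M' : Type u} [AddCommGroup M'] [Module R M'] {ℳ' : ℤ → AddSubgroup M'}
  [DirectSum.Decomposition ℳ'] [SetLike.GradedSMul 𝒜 ℳ']

/-- an injective homogeneous map between graded local cohomologies reflects degrees. -/
lemma mem_Hgr_of_injective (E : StarInjRes 𝒜 ℳ) (E' : StarInjRes 𝒜 ℳ') (a : HomogeneousIdeal 𝒜)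
    (q q' : ℕ) (f : E.H a q →ₗ[R] E'.H a q')
    (hf : ∀ g x, x ∈ E.Hgr a q g → f x ∈ E'.Hgr a q' g) (hinj : Function.Injective f)
    (g : ℤ) (x : E.H a q) (hx : f x ∈ E'.Hgr a q' g) : x ∈ E.Hgr a q g := by
  have hdeg : IsGrHomDeg (E.Hgr a q) (E'.Hgr a q') f 0 := by
    intro g x hx
    rw [add_zero]
    exact hf g x hx
  obtain ⟨x', hx', hxx⟩ := exists_homogeneous_preimage (E.Hgr a q) (E'.Hgr a q')
    (Hgr_isInternal 𝒜 ℳ E a q) (Hgr_isInternal 𝒜 ℳ' E' a q') f 0 hdeg g (f x)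
    (by rw [add_zero]; exact hx) x rfl
  rw [← hinj hxx]
  exact hx'

variable {m : HomogeneousIdeal 𝒜} {n : ℕ} {I : StarInjRes 𝒜 𝒜}

/-- the local cohomology of a graded free module vanishes below `n`. -/
lemma free_low' (hlow : ∀ i : ℕ, i < n → Subsingleton (I.H m i)) {r : ℕ} {a : Fin r → ℤ}
    (EP : StarInjRes 𝒜 (freeGr 𝒜 a)) (i : ℕ) (hi : i < n) : Subsingleton (EP.H m i) := by
  haveI := hlow i hi
  refine ⟨fun x y => ?_⟩
  rw [decomp_id EP i x, decomp_id EP i y]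
  refine Finset.sum_congr rfl fun b _ => ?_
  rw [Subsingleton.elim (Hm EP I m i (LinearMap.proj b) (-a b) (proj_isGrHomDeg 𝒜 a b) x)
    (Hm EP I m i (LinearMap.proj b) (-a b) (proj_isGrHomDeg 𝒜 a b) y)]

end Aux

section Main

variable {m : HomogeneousIdeal 𝒜} {n : ℕ} {I : StarInjRes 𝒜 𝒜}

/-- **Dimension shifting, isomorphism form.** -/
theorem lcomputes
    (hhigh : ∀ (X : Type u) [AddCommGroup X] [Module R X] (𝒳 : ℤ → AddSubgroup X)
      [DirectSum.Decomposition 𝒳] [SetLike.GradedSMul 𝒜 𝒳] (EX : StarInjRes 𝒜 𝒳) (i : ℕ),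
      n < i → Subsingleton (EX.H m i))
    (hlow : ∀ i : ℕ, i < n → Subsingleton (I.H m i)) :
    ∀ (p : ℕ) (N : Type u) [AddCommGroup N] [Module R N] (𝒩 : ℤ → AddSubgroup N)
      [DirectSum.Decomposition 𝒩] [SetLike.GradedSMul 𝒜 𝒩] (F : GrSyz.FreeRes 𝒜 𝒩)
      (E : StarInjRes 𝒜 𝒩) (i : ℕ), p + i = n →
      ∃ θ : ↥(Kp m n F p) →ₗ[R] E.H m i, LComputes m n F E p i θ := by
  intro p
  induction p with
  | zero =>
    intro N _ _ 𝒩 _ _ F E i hpi
    have hi : i = n := by omega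
    subst hi
    obtain ⟨h1, h2⟩ := re (EPa 𝒜 (F.deg (0 + 1))) (EPa 𝒜 (F.deg 0)) E (F.dLin 0) F.augLin
      (dLin_isGrHomDeg F 0) (augLin_isGrHomDeg F) F.aug_surjective F.exact_zero m i
      (fun X _ _ 𝒳 _ _ EX => hhigh X 𝒳 EX (i + 1) (Nat.lt_succ_self i))
    refine ⟨(Hm (EPa 𝒜 (F.deg 0)) E m i F.augLin 0 (augLin_isGrHomDeg F)) ∘ₗ
      (Kp m i F 0).subtype, ?_, ?_, ?_⟩
    · intro z
      obtain ⟨y, hy⟩ := h1 z
      exact ⟨⟨y, Submodule.mem_top⟩, hy⟩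
    · intro ξ
      constructor
      · intro h
        obtain ⟨x, hx⟩ := h2 ξ.1 h
        exact ⟨x, hx⟩
      · rintro ⟨x, hx⟩
        show Hm (EPa 𝒜 (F.deg 0)) E m i F.augLin 0 (augLin_isGrHomDeg F) ξ.1 = 0
        rw [← hx]
        show Hm (EPa 𝒜 (F.deg 0)) E m i F.augLin 0 (augLin_isGrHomDeg F)
          (Hm (EPa 𝒜 (F.deg (0 + 1))) (EPa 𝒜 (F.deg 0)) m i (F.dLin 0) 0 (dLin_isGrHomDeg F 0) x) = 0
        rw [Hm_comp_apply' (dLin_isGrHomDeg F 0) (augLin_isGrHomDeg F) (isGrHomDeg_zero' 0)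
          (augLin_comp_dLin F) (add_zero 0), Hm_zero]
        rfl
    · intro g ξ hξ
      have := Hm_mem (E' := E) (a := m) (q := i) (augLin_isGrHomDeg F) hξ
      rwa [add_zero] at this
  | succ p ih =>
    intro N _ _ 𝒩 _ _ F E i hpi
    let EZ : StarInjRes 𝒜 (ZGr F) := starInjRes 𝒜 (ZGr F)
    obtain ⟨γ, hγ, e1, e2, e3, -⟩ := les EZ (EPa 𝒜 (F.deg 0)) E (Zs F).subtype F.augLin
      (Zs_subtype_isGrHomDeg F) (augLin_isGrHomDeg F) (Submodule.injective_subtype _)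
      F.aug_surjective (ker_augLin_eq F) m
    have hlow0 : Subsingleton ((EPa 𝒜 (F.deg 0)).H m i) :=
      free_low' hlow (EPa 𝒜 (F.deg 0)) i (by omega)
    have hinj : Function.Injective (γ i) := by
      rw [injective_iff_map_eq_zero]
      intro x hx
      obtain ⟨y, rfl⟩ := (e2 i x).1 hx
      rw [hlow0.elim y 0, map_zero]
    rcases p with _ | p
    · -- `p = 1`
      have hi : n = i + 1 := by omega
      subst hi
      obtain ⟨h1, h2⟩ := re (EPa 𝒜 (F.deg (0 + 1 + 1))) (EPa 𝒜 (F.deg (0 + 1))) EZ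
        ((tail F).dLin 0) (tail F).augLin
        (dLin_isGrHomDeg (tail F) 0) (augLin_isGrHomDeg (tail F)) (tail F).aug_surjective
        (tail F).exact_zero m (i + 1)
        (fun X _ _ 𝒳 _ _ EX => hhigh X 𝒳 EX (i + 1 + 1) (Nat.lt_succ_self (i + 1)))
      let aug' : (EPa 𝒜 (F.deg (0 + 1))).H m (i + 1) →ₗ[R] EZ.H m (i + 1) :=
        Hm (EPa 𝒜 (F.deg (0 + 1))) EZ m (i + 1) (tail F).augLin 0 (augLin_isGrHomDeg (tail F))
      have hcomp : ∀ ξ : (EPa 𝒜 (F.deg (0 + 1))).H m (i + 1),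
          Hm EZ (EPa 𝒜 (F.deg 0)) m (i + 1) (Zs F).subtype 0 (Zs_subtype_isGrHomDeg F) (aug' ξ) =
          fA m (i + 1) F 0 ξ := fun ξ =>
        Hm_comp_apply' (augLin_isGrHomDeg (tail F)) (Zs_subtype_isGrHomDeg F)
          (dLin_isGrHomDeg F 0) (subtype_comp_tail_aug F) (add_zero 0) ξ
      have hmemr : ∀ ξ : ↥(Kp m (i + 1) F (0 + 1)),
          (aug' ∘ₗ (Kp m (i + 1) F (0 + 1)).subtype) ξ ∈ LinearMap.range (γ i) := by
        intro ξ
        apply (e3 i _).1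
        show Hm EZ (EPa 𝒜 (F.deg 0)) m (i + 1) (Zs F).subtype 0 (Zs_subtype_isGrHomDeg F)
          (aug' ξ.1) = 0
        rw [hcomp]
        exact ξ.2
      let φ1 : ↥(Kp m (i + 1) F (0 + 1)) →ₗ[R] ↥(LinearMap.range (γ i)) :=
        (aug' ∘ₗ (Kp m (i + 1) F (0 + 1)).subtype).codRestrict (LinearMap.range (γ i)) hmemr
      let eγ := LinearEquiv.ofInjective (γ i) hinj
      have hkey : ∀ ξ, γ i (eγ.symm (φ1 ξ)) = aug' ξ.1 := by
        intro ξ
        have := eγ.apply_symm_apply (φ1 ξ)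
        have h3 := congrArg Subtype.val this
        exact h3
      refine ⟨eγ.symm.toLinearMap ∘ₗ φ1, ?_, ?_, ?_⟩
      · intro h
        obtain ⟨ξ0, hξ0⟩ := h1 (γ i h)
        have hξK : ξ0 ∈ Kp m (i + 1) F (0 + 1) := by
          show ξ0 ∈ LinearMap.ker (fA m (i + 1) F 0)
          rw [LinearMap.mem_ker, ← hcomp]
          have hξ0' : aug' ξ0 = γ i h := hξ0
          rw [hξ0']
          exact (e3 i _).2 ⟨h, rfl⟩
        refine ⟨⟨ξ0, hξK⟩, ?_⟩
        apply hinj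
        show γ i (eγ.symm (φ1 ⟨ξ0, hξK⟩)) = γ i h
        rw [hkey]
        exact hξ0
      · intro ξ
        constructor
        · intro h
          have h4 : aug' ξ.1 = 0 := by
            rw [← hkey ξ]
            have h5 : eγ.symm (φ1 ξ) = 0 := h
            rw [h5, map_zero]
          obtain ⟨η, hη⟩ := h2 ξ.1 h4
          exact ⟨η, hη⟩
        · rintro ⟨η, hη⟩
          apply hinj
          show γ i (eγ.symm (φ1 ξ)) = γ i 0
          rw [hkey, map_zero, ← hη]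
          have := Hm_comp_apply' (E := EPa 𝒜 (F.deg (0 + 1 + 1))) (E' := EPa 𝒜 (F.deg (0 + 1)))
            (E'' := EZ) (a := m) (q := i + 1)
            (dLin_isGrHomDeg (tail F) 0) (augLin_isGrHomDeg (tail F)) (isGrHomDeg_zero' 0)
            (augLin_comp_dLin (tail F)) (add_zero 0) η
          refine this.trans ?_
          rw [Hm_zero]
          rfl
      · intro g ξ hξ
        apply mem_Hgr_of_injective E EZ m i (i + 1) (γ i) (hγ i) hinj g
        show γ i (eγ.symm (φ1 ξ)) ∈ EZ.Hgr m (i + 1) g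
        rw [hkey]
        have := Hm_mem (E' := EZ) (a := m) (q := i + 1) (augLin_isGrHomDeg (tail F)) hξ
        rwa [add_zero] at this
    · -- `p + 2`
      have hlow1 : Subsingleton ((EPa 𝒜 (F.deg 0)).H m (i + 1)) :=
        free_low' hlow (EPa 𝒜 (F.deg 0)) (i + 1) (by omega)
      have hsurj : Function.Surjective (γ i) := by
        intro y
        apply (e3 i y).1
        exact hlow1.elim _ _
      obtain ⟨θ', hsurj', hker', hmem'⟩ : ∃ θ' : ↥(Kp m n F (p + 1 + 1)) →ₗ[R] EZ.H m (i + 1),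
          Function.Surjective θ' ∧
          (∀ ξ, θ' ξ = 0 ↔ (ξ : (EPa 𝒜 (F.deg (p + 1 + 1))).H m n) ∈ Up m n F (p + 1 + 1)) ∧
          (∀ g (ξ : ↥(Kp m n F (p + 1 + 1))),
            (ξ : (EPa 𝒜 (F.deg (p + 1 + 1))).H m n) ∈ (EPa 𝒜 (F.deg (p + 1 + 1))).Hgr m n g →
            θ' ξ ∈ EZ.Hgr m (i + 1) g) := by
        obtain ⟨θ', hθ'⟩ := ih (Zs F) (ZGr F) (tail F) EZ (i + 1) (by omega)
        exact ⟨θ', hθ'.surj, hθ'.ker, hθ'.mem⟩
      let eγ := LinearEquiv.ofBijective (γ i) ⟨hinj, hsurj⟩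
      have hkey : ∀ y, γ i (eγ.symm y) = y := fun y => eγ.apply_symm_apply y
      refine ⟨eγ.symm.toLinearMap ∘ₗ θ', ?_, ?_, ?_⟩
      · intro h
        obtain ⟨ξ, hξ⟩ := hsurj' (γ i h)
        refine ⟨ξ, ?_⟩
        apply hinj
        show γ i (eγ.symm (θ' ξ)) = γ i h
        rw [hkey, hξ]
      · intro ξ
        constructor
        · intro h
          have h4 : θ' ξ = 0 := by
            rw [← hkey (θ' ξ)]
            have h5 : eγ.symm (θ' ξ) = 0 := h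
            rw [h5, map_zero]
          exact (hker' ξ).1 h4
        · intro h
          have h4 : θ' ξ = 0 := (hker' ξ).2 h
          show eγ.symm (θ' ξ) = 0
          rw [h4, map_zero]
      · intro g ξ hξ
        apply mem_Hgr_of_injective E EZ m i (i + 1) (γ i) (hγ i) hinj g
        show γ i (eγ.symm (θ' ξ)) ∈ EZ.Hgr m (i + 1) g
        rw [hkey]
        exact hmem' g ξ hξ

end Main

end Groth.Agent.Lib.Helper11.GrLD
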