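import Mathlib
import Groth.Prelude.Def_GrSyz
import Groth.Agent.Lib.Helper16.ExtBridge

/-!
# `Ext` from a graded free resolution in matrix form

For a free resolution `F` (matrix form, `GrSyz.FreeRes`) of `N`, the module `Ext^p_R(N, C)` is the
cohomology of `Hom_R(F_•, C)`: concretely the cocycles `Zp` modulo the coboundaries `Wp`.
-/

set_option autoImplicit false
set_option linter.unusedSectionVars false
set_option linter.unusedVariables false

universe u

namespace Groth.Agent.Lib.Helper11.GrLD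

open CategoryTheory

section Cx

variable {R : Type u} [CommRing R] {σ' : Type u} [SetLike σ' R] [AddSubgroupClass σ' R]
  {𝒜 : ℤ → σ'}
  {N : Type u} [AddCommGroup N] [Module R N] {τ : Type u} [SetLike τ N] [AddSubgroupClass τ N]
  {𝒩 : ℤ → τ} [DirectSum.Decomposition 𝒩] [SetLike.GradedSMul 𝒜 𝒩]

lemma dLin_comp (F : GrSyz.FreeRes 𝒜 𝒩) (i : ℕ) (w : Fin (F.rk (i + 2)) → R) :
    F.dLin i (F.dLin (i + 1) w) = 0 := by
  have : F.dLin (i + 1) w ∈ LinearMap.ker (F.dLin i) := by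
    rw [F.exact_succ i]
    exact ⟨w, rfl⟩
  exact this

lemma aug_comp (F : GrSyz.FreeRes 𝒜 𝒩) (w : Fin (F.rk 1) → R) :
    F.augLin (F.dLin 0 w) = 0 := by
  have : F.dLin 0 w ∈ LinearMap.ker F.augLin := by
    rw [F.exact_zero]
    exact ⟨w, rfl⟩
  exact this

/-- the chain complex of the resolution. -/
noncomputable def cx (F : GrSyz.FreeRes 𝒜 𝒩) : ChainComplex (ModuleCat.{u} R) ℕ :=
  ChainComplex.of (fun i => ModuleCat.of R (Fin (F.rk i) → R))
    (fun i => ModuleCat.ofHom (F.dLin i))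
    (fun i => ModuleCat.hom_ext (LinearMap.ext fun w => dLin_comp F i w))

lemma cx_d (F : GrSyz.FreeRes 𝒜 𝒩) (i : ℕ) :
    (cx F).d (i + 1) i = ModuleCat.ofHom (F.dLin i) := by
  show ChainComplex.of.d (fun i => ModuleCat.of R (Fin (F.rk i) → R))
    (fun i => ModuleCat.ofHom (F.dLin i)) (i + 1) i = _
  rw [ChainComplex.of_d]

/-- the augmentation. -/
noncomputable def cxπ (F : GrSyz.FreeRes 𝒜 𝒩) :
    cx F ⟶ (ChainComplex.single₀ (ModuleCat.{u} R)).obj (ModuleCat.of R N) :=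
  ((cx F).toSingle₀Equiv _).symm ⟨ModuleCat.ofHom F.augLin, by
    rw [cx_d]
    exact ModuleCat.hom_ext (LinearMap.ext fun w => aug_comp F w)⟩

lemma cxπ_f_zero (F : GrSyz.FreeRes 𝒜 𝒩) : (cxπ F).f 0 = ModuleCat.ofHom F.augLin := by
  simp [cxπ, ChainComplex.toSingle₀Equiv]

lemma cx_quasiIso (F : GrSyz.FreeRes 𝒜 𝒩) : QuasiIso (cxπ F) where
  quasiIsoAt m := by
    induction m with
    | zero =>
      rw [ChainComplex.quasiIsoAt₀_iff, ShortComplex.quasiIso_iff_of_zeros' _ rfl rfl rfl]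
      constructor
      · rw [ShortComplex.moduleCat_exact_iff_range_eq_ker]
        show LinearMap.range (ModuleCat.Hom.hom ((cx F).d 1 0)) =
          LinearMap.ker (ModuleCat.Hom.hom ((cxπ F).f 0))
        rw [cxπ_f_zero, cx_d]
        exact F.exact_zero.symm
      · show Epi ((cxπ F).f 0)
        rw [cxπ_f_zero, ModuleCat.epi_iff_surjective]
        exact F.aug_surjective
    | succ m _ =>
      rw [quasiIsoAt_iff_exactAt' (hL := ChainComplex.exactAt_succ_single_obj ..),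
          HomologicalComplex.exactAt_iff' _ (m + 2) (m + 1) m (by simp) (by simp)]
      rw [ShortComplex.moduleCat_exact_iff_range_eq_ker]
      show LinearMap.range (ModuleCat.Hom.hom ((cx F).d (m + 2) (m + 1))) =
        LinearMap.ker (ModuleCat.Hom.hom ((cx F).d (m + 1) m))
      rw [cx_d, cx_d]
      exact (F.exact_succ m).symm

/-- the projective resolution. -/
noncomputable def projRes (F : GrSyz.FreeRes 𝒜 𝒩) :
    ProjectiveResolution (ModuleCat.of R N) where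
  complex := cx F
  projective n := (IsProjective.iff_projective (Fin (F.rk n) → R)).1 inferInstance
  π := cxπ F
  quasiIso := cx_quasiIso F

end Cx

section Ext

variable {R : Type u} [CommRing R] {σ' : Type u} [SetLike σ' R] [AddSubgroupClass σ' R]
  {𝒜 : ℤ → σ'}
  {N : Type u} [AddCommGroup N] [Module R N] {τ : Type u} [SetLike τ N] [AddSubgroupClass τ N]
  {𝒩 : ℤ → τ} [DirectSum.Decomposition 𝒩] [SetLike.GradedSMul 𝒜 𝒩]
  (C : Type u) [AddCommGroup C] [Module R C]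

/-- the differential of `Hom_R(F_•, C)`. -/
def dB (F : GrSyz.FreeRes 𝒜 𝒩) (p : ℕ) :
    ((Fin (F.rk p) → R) →ₗ[R] C) →ₗ[R] ((Fin (F.rk (p + 1)) → R) →ₗ[R] C) :=
  LinearMap.lcomp R C (F.dLin p)

lemma dB_apply (F : GrSyz.FreeRes 𝒜 𝒩) (p : ℕ) (φ : (Fin (F.rk p) → R) →ₗ[R] C) :
    dB C F p φ = φ ∘ₗ F.dLin p := rfl

/-- cocycles of `Hom_R(F_•, C)`. -/
def Zp (F : GrSyz.FreeRes 𝒜 𝒩) (p : ℕ) : Submodule R ((Fin (F.rk p) → R) →ₗ[R] C) :=
  LinearMap.ker (dB C F p)

/-- coboundaries of `Hom_R(F_•, C)`. -/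
def Wp (F : GrSyz.FreeRes 𝒜 𝒩) : (p : ℕ) → Submodule R ((Fin (F.rk p) → R) →ₗ[R] C)
  | 0 => ⊥
  | p + 1 => LinearMap.range (dB C F p)

lemma Wp_le_Zp (F : GrSyz.FreeRes 𝒜 𝒩) (p : ℕ) : Wp C F p ≤ Zp C F p := by
  cases p with
  | zero => exact bot_le
  | succ p =>
    rintro _ ⟨φ, rfl⟩
    show dB C F p φ ∈ LinearMap.ker (dB C F (p + 1))
    rw [LinearMap.mem_ker]
    apply LinearMap.ext
    intro w
    rw [dB_apply, dB_apply, LinearMap.comp_apply, LinearMap.comp_apply, dLin_comp,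
      map_zero, LinearMap.zero_apply]

lemma cocycle_of_mem (F : GrSyz.FreeRes 𝒜 𝒩) (p : ℕ) (φ : ↥(Zp C F p)) :
    (projRes F).complex.d (p + 1) p ≫
      (ModuleCat.ofHom (φ : (Fin (F.rk p) → R) →ₗ[R] C) :
        (projRes F).complex.X p ⟶ ModuleCat.of R C) = 0 := by
  show (cx F).d (p + 1) p ≫ _ = 0
  rw [cx_d]
  apply ModuleCat.hom_ext
  apply LinearMap.ext
  intro w
  have h : dB C F p φ.1 = 0 := φ.2
  exact LinearMap.congr_fun h w

/-- the map from cocycles to `Ext`. -/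
noncomputable def toExt (F : GrSyz.FreeRes 𝒜 𝒩) (p : ℕ) :
    ↥(Zp C F p) →ₗ[R] Abelian.Ext.{u} (ModuleCat.of R N) (ModuleCat.of R C) p where
  toFun φ := (projRes F).extMk
    (ModuleCat.ofHom (φ : (Fin (F.rk p) → R) →ₗ[R] C) :
      (projRes F).complex.X p ⟶ ModuleCat.of R C) (p + 1) rfl (cocycle_of_mem C F p φ)
  map_add' φ ψ := by
    rw [ProjectiveResolution.add_extMk]
    rfl
  map_smul' r φ := by
    rw [RingHom.id_apply, Groth.Agent.Lib.Helper16.ExtBridge.smul_extMk]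
    rfl

lemma toExt_surjective (F : GrSyz.FreeRes 𝒜 𝒩) (p : ℕ) : Function.Surjective (toExt C F p) := by
  intro α
  obtain ⟨f, hf, rfl⟩ := (projRes F).extMk_surjective α (p + 1) rfl
  have hmem : (ModuleCat.Hom.hom f : (Fin (F.rk p) → R) →ₗ[R] C) ∈ Zp C F p := by
    show dB C F p _ = 0
    apply LinearMap.ext
    intro w
    have h1 : (cx F).d (p + 1) p ≫ f = 0 := hf
    rw [cx_d] at h1
    have := LinearMap.congr_fun (congrArg ModuleCat.Hom.hom h1) w
    exact this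
  exact ⟨⟨_, hmem⟩, rfl⟩

lemma toExt_eq_zero_iff (F : GrSyz.FreeRes 𝒜 𝒩) (p : ℕ) (φ : ↥(Zp C F p)) :
    toExt C F p φ = 0 ↔ (φ : (Fin (F.rk p) → R) →ₗ[R] C) ∈ Wp C F p := by
  cases p with
  | zero =>
    show (projRes F).extMk _ 1 rfl (cocycle_of_mem C F 0 φ) = 0 ↔ _
    rw [Groth.Agent.Lib.Helper16.ExtBridge.extMk_zero_eq_zero_iff]
    show _ ↔ (φ : (Fin (F.rk 0) → R) →ₗ[R] C) ∈ (⊥ : Submodule R _)
    rw [Submodule.mem_bot]
    constructor
    · intro h
      have := congrArg ModuleCat.Hom.hom h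
      exact this
    · intro h
      apply ModuleCat.hom_ext
      exact h
  | succ p =>
    show (projRes F).extMk _ (p + 1 + 1) rfl (cocycle_of_mem C F (p + 1) φ) = 0 ↔ _
    rw [ProjectiveResolution.extMk_eq_zero_iff _ _ _ _ _ p rfl]
    constructor
    · rintro ⟨g, hg⟩
      refine ⟨ModuleCat.Hom.hom g, ?_⟩
      have h1 : (cx F).d (p + 1) p ≫ g = ModuleCat.ofHom (φ : (Fin (F.rk (p + 1)) → R) →ₗ[R] C) := hg
      rw [cx_d] at h1
      have := congrArg ModuleCat.Hom.hom h1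
      exact this
    · rintro ⟨ψ, hψ⟩
      refine ⟨ModuleCat.ofHom ψ, ?_⟩
      show (cx F).d (p + 1) p ≫ _ = _
      rw [cx_d]
      apply ModuleCat.hom_ext
      exact hψ

/-- **`Ext^p_R(N, C)` is the cohomology of `Hom_R(F_•, C)`.** -/
theorem nonempty_equiv_ext (F : GrSyz.FreeRes 𝒜 𝒩) (p : ℕ) :
    Nonempty ((↥(Zp C F p) ⧸ (Wp C F p).comap (Zp C F p).subtype) ≃ₗ[R]
      Abelian.Ext.{u} (ModuleCat.of R N) (ModuleCat.of R C) p) := by
  have hker : LinearMap.ker (toExt C F p) = (Wp C F p).comap (Zp C F p).subtype := by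
    ext φ
    rw [LinearMap.mem_ker, toExt_eq_zero_iff]
    rfl
  exact ⟨(Submodule.quotEquivOfEq _ _ hker.symm).trans
    (LinearMap.quotKerEquivOfSurjective (toExt C F p) (toExt_surjective C F p))⟩

end Ext

end Groth.Agent.Lib.Helper11.GrLD
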