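import Groth.Agent.Lib27.LD3
import Groth.Agent.Lib.Helper11.GrExtA

/-!
# Existence of graded free resolutions (matrix form) over a Noetherian graded ring
-/

set_option autoImplicit false
set_option linter.unusedSectionVars false
set_option linter.unusedVariables false
set_option linter.style.haveILetI false
universe u

namespace Groth.Agent.Lib.Helper11.GrLD

open DirectSum GrLC Groth.Agent.Lib.Helper11.GrLCLib Groth.Agent.Lib.Helper11.GrExt
  Groth.Agent.Lib27.LD Matrix

variable {R : Type u} [CommRing R] (𝒜 : ℤ → AddSubgroup R) [GradedRing 𝒜]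

section Gens

variable {M : Type u} [AddCommGroup M] [Module R M] (ℳ : ℤ → AddSubgroup M)
  [DirectSum.Decomposition ℳ] [SetLike.GradedSMul 𝒜 ℳ]

include 𝒜 in
/-- homogeneous generators as a `Fin`-indexed family with degrees. -/
lemma exists_fin_generators [Module.Finite R M] :
    ∃ (r : ℕ) (deg : Fin r → ℤ) (g : Fin r → M), (∀ b, g b ∈ ℳ (deg b)) ∧
      Submodule.span R (Set.range g) = ⊤ := by
  classical
  obtain ⟨G, hG, hspan⟩ := exists_homogeneous_generators (R := R) ℳ
  let e := G.equivFin
  have hdeg : ∀ b : Fin G.card, ∃ d : ℤ, ((e.symm b : G) : M) ∈ ℳ d := fun b =>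
    hG _ (e.symm b).2
  choose deg hdeg' using hdeg
  refine ⟨G.card, deg, fun b => ((e.symm b : G) : M), hdeg', ?_⟩
  rw [eq_top_iff, ← hspan]
  apply Submodule.span_mono
  intro x hx
  exact ⟨e ⟨x, hx⟩, by simp⟩

end Gens

/-- a state of the construction: a homogeneous submodule of a graded free module. -/
structure St where
  r : ℕ
  deg : Fin r → ℤ
  K : Submodule R (Fin r → R)
  hK : K.IsHomogeneous (freeGr 𝒜 deg)

/-- the output of a step: generators of `K` as a matrix. -/
structure StepOut (s : St 𝒜) where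
  r' : ℕ
  deg' : Fin r' → ℤ
  D : Matrix (Fin s.r) (Fin r') R
  D_mem : ∀ a b, D a b ∈ 𝒜 (deg' b - s.deg a)
  range_eq : LinearMap.range (Matrix.mulVecLin D) = s.K

variable [IsNoetherianRing R]

lemma exists_step (s : St 𝒜) : Nonempty (StepOut 𝒜 s) := by
  classical
  letI := subDecomposition (freeGr 𝒜 s.deg) s.K s.hK
  haveI : Module.Finite R ↥s.K := Module.IsNoetherian.finite R ↥s.K
  obtain ⟨r', deg', g, hg, hspan⟩ := exists_fin_generators 𝒜 (subGr (freeGr 𝒜 s.deg) s.K)
  refine ⟨{ r' := r'
            deg' := deg'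
            D := fun a b => (g b : Fin s.r → R) a
            D_mem := fun a b => hg b a
            range_eq := ?_ }⟩
  have hmul : ∀ w : Fin r' → R, Matrix.mulVecLin (fun a b => (g b : Fin s.r → R) a) w =
      ((∑ b, w b • g b : ↥s.K) : Fin s.r → R) := by
    intro w
    rw [Submodule.coe_sum]
    funext a
    rw [Finset.sum_apply, Matrix.mulVecLin_apply, Matrix.mulVec, dotProduct]
    refine Finset.sum_congr rfl fun b _ => ?_
    rw [Submodule.coe_smul, Pi.smul_apply, smul_eq_mul, mul_comm]
  ext v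
  constructor
  · rintro ⟨w, rfl⟩
    rw [hmul]
    exact (∑ b, w b • g b).2
  · intro hv
    have : (⟨v, hv⟩ : ↥s.K) ∈ Submodule.span R (Set.range g) := by
      rw [hspan]
      trivial
    obtain ⟨w, hw⟩ := (Submodule.mem_span_range_iff_exists_fun R).1 this
    exact ⟨w, by rw [hmul, hw]⟩

/-- a chosen step. -/
noncomputable def step (s : St 𝒜) : StepOut 𝒜 s := (exists_step 𝒜 s).some

/-- the next state. -/
noncomputable def next (s : St 𝒜) : St 𝒜 where
  r := (step 𝒜 s).r'
  deg := (step 𝒜 s).deg'
  K := LinearMap.ker (Matrix.mulVecLin (step 𝒜 s).D)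
  hK := ker_isHomogeneous_deg _ (freeGr 𝒜 s.deg) (mulVecLin_isGrHomDeg (step 𝒜 s).D_mem)

/-- the sequence of states. -/
noncomputable def σ (s0 : St 𝒜) (i : ℕ) : St 𝒜 := Nat.rec s0 (fun _ s => next 𝒜 s) i

/-- **Existence of graded free resolutions.** -/
theorem nonempty_freeRes {N : Type u} [AddCommGroup N] [Module R N] [Module.Finite R N]
    (𝒩 : ℤ → AddSubgroup N) [DirectSum.Decomposition 𝒩] [SetLike.GradedSMul 𝒜 𝒩] :
    Nonempty (GrSyz.FreeRes 𝒜 𝒩) := by
  classical
  obtain ⟨r, deg, g, hg, hspan⟩ := exists_fin_generators 𝒜 𝒩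
  have hlin : IsGrHomDeg (freeGr 𝒜 deg) 𝒩 (Fintype.linearCombination R g) 0 := by
    intro j w hw
    rw [Fintype.linearCombination_apply]
    refine sum_mem fun b _ => ?_
    have := SetLike.GradedSMul.smul_mem (A := 𝒜) (B := 𝒩) (hw b) (hg b)
    rw [vadd_eq_add] at this
    have e1 : j - deg b + deg b = j + 0 := by ring
    rw [e1] at this
    exact this
  let s0 : St 𝒜 :=
    { r := r
      deg := deg
      K := LinearMap.ker (Fintype.linearCombination R g)
      hK := ker_isHomogeneous_deg _ 𝒩 hlin }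
  have hsurj : Function.Surjective (Fintype.linearCombination R g) :=
    LinearMap.range_eq_top.1 (by rw [Fintype.range_linearCombination, hspan])
  refine ⟨{ rk := fun i => (σ 𝒜 s0 i).r
            deg := fun i => (σ 𝒜 s0 i).deg
            d := fun i => (step 𝒜 (σ 𝒜 s0 i)).D
            aug := g
            d_mem := fun i a b => (step 𝒜 (σ 𝒜 s0 i)).D_mem a b
            aug_mem := hg
            aug_surjective := hsurj
            exact_zero := ((step 𝒜 (σ 𝒜 s0 0)).range_eq).symm
            exact_succ := fun i => ((step 𝒜 (σ 𝒜 s0 (i + 1))).range_eq).symm }⟩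

end Groth.Agent.Lib.Helper11.GrLD
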