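import Groth.Agent.Lib.Helper11.GrLDB
import Groth.Agent.Lib.Helper11.GrLDC
import Groth.Agent.Lib.Helper11.GrLDD
import Groth.Agent.Lib.Helper11.GrFieldC
import Groth.Agent.Lib.Helper11.GrLesG

/-!
# Graded local duality over a graded ring over a field, pairing form

For a graded free resolution `F_• → N`, `p + i = n`: `H^i_m(N)` is the graded dual of the
cohomology of `Hom_R(F_•, C)` at the spot `p` (which is `Ext^p_R(N, C)`).
-/

set_option autoImplicit false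
set_option linter.unusedSectionVars false
set_option linter.unusedVariables false
set_option linter.style.haveILetI false
set_option maxHeartbeats 1000000
universe u

namespace Groth.Agent.Lib.Helper11.GrLD

open DirectSum GrLC GrSeg Groth.Agent.Lib.Helper11.GrLCLib Groth.Agent.Lib.Helper11.GrLes
  Groth.Agent.Lib.Helper11.GrExt Groth.Agent.Lib.Helper11.GrField Groth.Agent.Lib27.LD Matrix

attribute [local instance] kModH isScalarTower_kModH

variable {R : Type u} [CommRing R] {𝒜 : ℤ → AddSubgroup R} [GradedRing 𝒜]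
variable {k : Type u} [Field k] [Algebra k R]
variable {C : Type u} [AddCommGroup C] [Module R C] [Module k C] [IsScalarTower k R C]
  (𝒞 : ℤ → AddSubgroup C) [DirectSum.Decomposition 𝒞] [SetLike.GradedSMul 𝒜 𝒞]
variable {N : Type u} [AddCommGroup N] [Module R N] {𝒩 : ℤ → AddSubgroup N}
  [DirectSum.Decomposition 𝒩] [SetLike.GradedSMul 𝒜 𝒩] (F : GrSyz.FreeRes 𝒜 𝒩)

section Gradings

/-- the grading of `Hom_R(F_p, C)`. -/
abbrev BGr (p : ℕ) : ℤ → AddSubgroup ((Fin (F.rk p) → R) →ₗ[R] C) :=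
  homGr (R := R) (freeGr 𝒜 (F.deg p)) 𝒞

noncomputable instance BDec (p : ℕ) : DirectSum.Decomposition (BGr 𝒞 F p) :=
  homDecomposition 𝒜 (freeGr 𝒜 (F.deg p)) 𝒞

lemma dLin_isGrHom (p : ℕ) :
    IsGrHom (freeGr 𝒜 (F.deg (p + 1))) (freeGr 𝒜 (F.deg p)) (F.dLin p) :=
  (isGrHomDeg_zero_iff _ _).mp (dLin_isGrHomDeg F p)

lemma dB_isGrHom (p : ℕ) : IsGrHom (BGr 𝒞 F p) (BGr 𝒞 F (p + 1)) (dB C F p) := by
  intro d f hf g x hx
  exact hf g (F.dLin p x) (dLin_isGrHom F p g x hx)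

lemma Zp_isHomogeneous (p : ℕ) : (Zp C F p).IsHomogeneous (BGr 𝒞 F p) :=
  ker_isHomogeneous _ _ (dB_isGrHom 𝒞 F p)

lemma bot_isHomogeneous {M : Type u} [AddCommGroup M] [Module R M] (ℳ : ℤ → AddSubgroup M)
    [DirectSum.Decomposition ℳ] : (⊥ : Submodule R M).IsHomogeneous ℳ := by
  intro g x hx
  rw [Submodule.mem_bot] at hx
  rw [hx, decompose_zero, DirectSum.zero_apply, ZeroMemClass.coe_zero]
  exact zero_mem _

lemma top_isHomogeneous {M : Type u} [AddCommGroup M] [Module R M] (ℳ : ℤ → AddSubgroup M)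
    [DirectSum.Decomposition ℳ] : (⊤ : Submodule R M).IsHomogeneous ℳ :=
  fun _ _ _ => Submodule.mem_top

lemma Wp_isHomogeneous (p : ℕ) : (Wp C F p).IsHomogeneous (BGr 𝒞 F p) := by
  cases p with
  | zero => exact bot_isHomogeneous _
  | succ p => exact range_isHomogeneous _ _ (dB_isGrHom 𝒞 F p)

lemma comap_subtype_isHomogeneous {M : Type u} [AddCommGroup M] [Module R M]
    (ℳ : ℤ → AddSubgroup M) [DirectSum.Decomposition ℳ] (P Q : Submodule R M)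
    [DirectSum.Decomposition (subGr ℳ P)] (hQ : Q.IsHomogeneous ℳ) :
    (Q.comap P.subtype).IsHomogeneous (subGr ℳ P) :=
  comap_isHomogeneous (subGr ℳ P) ℳ (subtype_isGrHom ℳ P) hQ

noncomputable instance ZDec (p : ℕ) : DirectSum.Decomposition (subGr (BGr 𝒞 F p) (Zp C F p)) :=
  subDecomposition (BGr 𝒞 F p) (Zp C F p) (Zp_isHomogeneous 𝒞 F p)

/-- the model of `Ext^p_R(N, C)`. -/
abbrev XExt (p : ℕ) : Type u := ↥(Zp C F p) ⧸ (Wp C F p).comap (Zp C F p).subtype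

/-- its grading. -/
abbrev XGr (p : ℕ) : ℤ → AddSubgroup (XExt (C := C) F p) :=
  quotGrM (subGr (BGr 𝒞 F p) (Zp C F p)) ((Wp C F p).comap (Zp C F p).subtype)

noncomputable instance XDec (p : ℕ) : DirectSum.Decomposition (XGr 𝒞 F p) :=
  quotDecomposition (subGr (BGr 𝒞 F p) (Zp C F p)) ((Wp C F p).comap (Zp C F p).subtype)
    (comap_subtype_isHomogeneous (BGr 𝒞 F p) (Zp C F p) (Wp C F p) (Wp_isHomogeneous 𝒞 F p))

end Gradings

section HSide

variable (m : HomogeneousIdeal 𝒜) (n : ℕ)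

/-- the chosen decomposition of graded local cohomology. -/
@[instance_reducible]
noncomputable def HDec {M : Type u} [AddCommGroup M] [Module R M] {ℳ : ℤ → AddSubgroup M}
    [DirectSum.Decomposition ℳ] [SetLike.GradedSMul 𝒜 ℳ] (E : StarInjRes 𝒜 ℳ)
    (a : HomogeneousIdeal 𝒜) (q : ℕ) : DirectSum.Decomposition (E.Hgr a q) :=
  (Hgr_isInternal 𝒜 ℳ E a q).chooseDecomposition

attribute [local instance] HDec Hgr_gradedSMul

lemma fA_isGrHom (p : ℕ) :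
    IsGrHom ((EPa 𝒜 (F.deg (p + 1))).Hgr m n) ((EPa 𝒜 (F.deg p)).Hgr m n) (fA m n F p) :=
  fun g ξ hξ => fA_mem m n F p hξ

lemma Kp_isHomogeneous (p : ℕ) : (Kp m n F p).IsHomogeneous ((EPa 𝒜 (F.deg p)).Hgr m n) := by
  cases p with
  | zero => exact top_isHomogeneous _
  | succ p => exact ker_isHomogeneous _ _ (fA_isGrHom F m n p)

lemma Up_isHomogeneous (p : ℕ) : (Up m n F p).IsHomogeneous ((EPa 𝒜 (F.deg p)).Hgr m n) :=
  range_isHomogeneous _ _ (fA_isGrHom F m n p)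

noncomputable instance KDec (p : ℕ) :
    DirectSum.Decomposition (subGr ((EPa 𝒜 (F.deg p)).Hgr m n) (Kp m n F p)) :=
  subDecomposition _ (Kp m n F p) (Kp_isHomogeneous F m n p)

/-- the homology of `H^n_m(F_•)` at the spot `p`. -/
noncomputable abbrev HA (p : ℕ) : Type u := ↥(Kp m n F p) ⧸ (Up m n F p).comap (Kp m n F p).subtype

noncomputable abbrev HAGr (p : ℕ) : ℤ → AddSubgroup (HA F m n p) :=
  quotGrM (subGr ((EPa 𝒜 (F.deg p)).Hgr m n) (Kp m n F p))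
    ((Up m n F p).comap (Kp m n F p).subtype)

noncomputable instance HADec (p : ℕ) : DirectSum.Decomposition (HAGr F m n p) :=
  quotDecomposition _ _
    (comap_subtype_isHomogeneous ((EPa 𝒜 (F.deg p)).Hgr m n) (Kp m n F p) (Up m n F p)
      (Up_isHomogeneous F m n p))

end HSide

section Conditions

attribute [local instance] HDec Hgr_gradedSMul

variable {m : HomogeneousIdeal 𝒜} {n : ℕ} {I : StarInjRes 𝒜 𝒜} (γ : I.H m n →ₗ[k] C →ₗ[k] k)

/-- adjointness of the two differentials. -/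
lemma pair_fA (hγsm : ∀ (t : R) (u : I.H m n) (c : C), γ (t • u) c = γ u (t • c)) (p : ℕ)
    (ξ' : (EPa 𝒜 (F.deg (p + 1))).H m n) (φ : (Fin (F.rk p) → R) →ₗ[R] C) :
    pairC γ (EPa 𝒜 (F.deg p)) (fA m n F p ξ') φ =
      pairC γ (EPa 𝒜 (F.deg (p + 1))) ξ' (dB C F p φ) :=
  pairC_Hm_mulVecLin γ (EPa 𝒜 (F.deg p)) (EPa 𝒜 (F.deg (p + 1))) hγsm (F.d_mem p) ξ' φ

lemma cond_KW (hγsm : ∀ (t : R) (u : I.H m n) (c : C), γ (t • u) c = γ u (t • c)) (p : ℕ) :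
    ∀ a ∈ Kp m n F p, ∀ w ∈ Wp C F p, pairC γ (EPa 𝒜 (F.deg p)) a w = 0 := by
  cases p with
  | zero =>
    intro a _ w hw
    have hw0 : w = 0 := (Submodule.mem_bot R).mp hw
    rw [hw0, map_zero]
  | succ p =>
    rintro a ha _ ⟨φ, rfl⟩
    rw [← pair_fA F γ hγsm p a φ]
    have ha0 : fA m n F p a = 0 := ha
    rw [ha0, map_zero, LinearMap.zero_apply]

lemma cond_UZ (hγsm : ∀ (t : R) (u : I.H m n) (c : C), γ (t • u) c = γ u (t • c)) (p : ℕ) :
    ∀ a ∈ Up m n F p, ∀ z ∈ Zp C F p, pairC γ (EPa 𝒜 (F.deg p)) a z = 0 := by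
  rintro _ ⟨ξ', rfl⟩ z hz
  rw [pair_fA F γ hγsm p ξ' z]
  have hz0 : dB C F p z = 0 := hz
  rw [hz0, map_zero]

variable [DirectSum.Decomposition (I.Hgr m n)]

lemma cond_KW' (hγ : IsGDual (k := k) R 𝒞 (I.Hgr m n) γ) (p : ℕ) :
    ∀ d a, a ∈ (EPa 𝒜 (F.deg p)).Hgr m n d →
      (∀ w ∈ Wp C F p, w ∈ BGr 𝒞 F p (-d) → pairC γ (EPa 𝒜 (F.deg p)) a w = 0) →
      a ∈ Kp m n F p := by
  cases p with
  | zero => intro d a _ _; exact Submodule.mem_top
  | succ p =>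
    intro d a ha h
    show a ∈ LinearMap.ker (fA m n F p)
    rw [LinearMap.mem_ker]
    exact map_eq_zero_of_perp_range (isGDual_pairC 𝒞 γ (EPa 𝒜 (F.deg p)) hγ)
      (fA m n F p) (dB C F p) (fA_isGrHom F m n p)
      (fun a' b' => pair_fA F γ hγ.map_smul p a' b') d a ha
      (fun b' hb' => h _ ⟨b', rfl⟩ (dB_isGrHom 𝒞 F p (-d) b' hb'))

lemma cond_UZ' (hk : IsBase 𝒜 k) (hγ : IsGDual (k := k) R 𝒞 (I.Hgr m n) γ) (p : ℕ) :
    ∀ d a, a ∈ (EPa 𝒜 (F.deg p)).Hgr m n d → a ∈ Kp m n F p →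
      (∀ z ∈ Zp C F p, z ∈ BGr 𝒞 F p (-d) → pairC γ (EPa 𝒜 (F.deg p)) a z = 0) →
      a ∈ Up m n F p := by
  intro d a ha _ h
  refine mem_range_of_perp_ker (isGDual_pairC 𝒞 γ (EPa 𝒜 (F.deg p)) hγ)
    (isGDual_pairC 𝒞 γ (EPa 𝒜 (F.deg (p + 1))) hγ) ?_
    (fA m n F p) (dB C F p) (fA_isGrHom F m n p) (dB_isGrHom 𝒞 F p)
    (fun a' b => pair_fA F γ hγ.map_smul p a' b) d a ha
    (fun z hz hzd => h z hz hzd)
  intro j c φ hφ g x hx
  rw [LinearMap.smul_apply, ← algebraMap_smul R c (φ x)]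
  have := SetLike.GradedSMul.smul_mem (A := 𝒜) (B := 𝒞) (hk.algebraMap_mem c) (hφ g x hx)
  rwa [vadd_eq_add, zero_add] at this

end Conditions

section Main

attribute [local instance] HDec Hgr_gradedSMul

variable {m : HomogeneousIdeal 𝒜} {n : ℕ} {I : StarInjRes 𝒜 𝒜} (γ : I.H m n →ₗ[k] C →ₗ[k] k)

/-- **Graded local duality (pairing form).**  `H^i_m(N)` is the graded dual of the cohomology of
`Hom_R(F_•, C)` at the spot `p = n - i`. -/
theorem exists_pairing_ext (hk : IsBase 𝒜 k)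
    (hhigh : ∀ (X : Type u) [AddCommGroup X] [Module R X] (𝒳 : ℤ → AddSubgroup X)
      [DirectSum.Decomposition 𝒳] [SetLike.GradedSMul 𝒜 𝒳] (EX : StarInjRes 𝒜 𝒳) (i : ℕ),
      n < i → Subsingleton (EX.H m i))
    (hlow : ∀ i : ℕ, i < n → Subsingleton (I.H m i))
    (hγ : IsGDual (k := k) R 𝒞 (I.Hgr m n) γ)
    (G : StarInjRes 𝒜 𝒩) (p i : ℕ) (hpi : p + i = n) :
    ∃ β : G.H m i →ₗ[k] XExt (C := C) F p →ₗ[k] k,
      IsGDual (k := k) R (XGr 𝒞 F p) (G.Hgr m i) β := by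
  classical
  obtain ⟨θ, hθ⟩ := lcomputes hhigh hlow p N 𝒩 F G i hpi
  have hquot := isGDual_quotPair (isGDual_pairC 𝒞 γ (EPa 𝒜 (F.deg p)) hγ)
    (Kp m n F p) (Up m n F p) (Zp C F p) (Wp C F p)
    (cond_KW F γ hγ.map_smul p) (cond_UZ F γ hγ.map_smul p) (Wp_le_Zp C F p)
    (cond_KW' 𝒞 F γ hγ p) (cond_UZ' 𝒞 F γ hk hγ p)
  have hker : LinearMap.ker θ = (Up m n F p).comap (Kp m n F p).subtype := by
    ext ξ
    rw [LinearMap.mem_ker, hθ.ker]
    rfl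
  let Φ : HA F m n p ≃ₗ[R] G.H m i :=
    (Submodule.quotEquivOfEq _ _ hker.symm).trans
      (LinearMap.quotKerEquivOfSurjective θ hθ.surj)
  have hΦ : IsGrHom (HAGr F m n p) (G.Hgr m i) Φ.toLinearMap := by
    rintro g _ ⟨ξ, hξ, rfl⟩
    exact hθ.mem g ξ hξ
  have hΦ' : IsGrHom (G.Hgr m i) (HAGr F m n p) Φ.symm.toLinearMap := isGrHom_symm Φ hΦ
  exact ⟨_, isGDual_transport hquot Φ.symm (fun d h hh => hΦ' d h hh)
    (fun d h hh => hΦ d h hh)⟩

end Main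

end Groth.Agent.Lib.Helper11.GrLD
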