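import Groth.Agent.Lib.Helper11.GrKunE
import Groth.Agent.Lib.Helper11.GrLCOrdB
import Groth.Agent.Lib.Helper16.LocCohIndepBase
import Groth.Agent.Lib.Helper11.GrLesH

/-!
# Independence of the base for graded local cohomology

Let `R → S` be a homomorphism of Noetherian graded rings (respecting the gradings), `m ⊆ R`, `m' ⊆ S`
homogeneous ideals with the same torsion functor on `S`-modules.  For a graded `S`-module `M'`:
`*H^q_{m'}(M')` computed from a *injective resolution over `S` is isomorphic, as a graded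
`R`-module, to `*H^q_m(M')` computed from a *injective resolution over `R`.
-/

set_option autoImplicit false
set_option linter.unusedSectionVars false
set_option linter.unusedVariables false
set_option linter.style.haveILetI false
set_option maxHeartbeats 1000000
universe u

namespace Groth.Agent.Lib.Helper11.GrLD

open DirectSum GrLC Groth.Agent.Lib.Helper11.GrLCLib Groth.Agent.Lib.Helper11.GrLes
  Groth.Agent.Lib.Helper11.Kun

section Base

variable {R S : Type u} [CommRing R] [CommRing S] [Algebra R S]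
  {𝒜 : ℤ → AddSubgroup R} [GradedRing 𝒜] {𝒜' : ℤ → AddSubgroup S} [GradedRing 𝒜']

/-- the `R`-module structure of a graded `S`-module. -/
@[instance_reducible]
def rModCarrier (X : GMod.{u} 𝒜') : Module R X.carrier :=
  Module.compHom X.carrier (algebraMap R S)

attribute [local instance] rModCarrier

theorem isScalarTower_rModCarrier (X : GMod.{u} 𝒜') : IsScalarTower R S X.carrier :=
  IsScalarTower.of_algebraMap_smul (fun _ _ => rfl)

attribute [local instance] isScalarTower_rModCarrier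

variable (hf : ∀ j : ℤ, (𝒜 j).map (algebraMap R S : R →+ S) ≤ 𝒜' j)

include hf in
lemma algebraMap_mem_of_le {j : ℤ} {r : R} (hr : r ∈ 𝒜 j) : algebraMap R S r ∈ 𝒜' j :=
  hf j ⟨r, hr, rfl⟩

include hf in
lemma gradedSMul_of_le {M' : Type u} [AddCommGroup M'] [Module S M'] [Module R M']
    [IsScalarTower R S M'] (ℳ' : ℤ → AddSubgroup M') [SetLike.GradedSMul 𝒜' ℳ'] :
    SetLike.GradedSMul 𝒜 ℳ' :=
  ⟨by
    intro i j r x hr hx
    rw [← algebraMap_smul S r x]
    exact SetLike.GradedSMul.smul_mem (A := 𝒜') (B := ℳ') (algebraMap_mem_of_le hf hr) hx⟩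

/-- a graded `S`-module as a graded `R`-module. -/
def toGMod (X : GMod.{u} 𝒜') : GMod.{u} 𝒜 :=
  { carrier := X.carrier
    mod := rModCarrier X
    gr := X.gr
    dec := X.dec
    gsmul := gradedSMul_of_le hf X.gr }

variable {M' : Type u} [AddCommGroup M'] [Module S M'] [Module R M'] [IsScalarTower R S M']
  {ℳ' : ℤ → AddSubgroup M'} [DirectSum.Decomposition ℳ'] [SetLike.GradedSMul 𝒜' ℳ']
  [SetLike.GradedSMul 𝒜 ℳ']

/-- a *injective resolution over `S` as a resolution by graded `R`-modules. -/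
def toGRes (I' : StarInjRes 𝒜' ℳ') : GRes 𝒜 ℳ' where
  X q := toGMod hf (I'.X q)
  d q := (I'.d q).restrictScalars R
  ε := I'.ε.restrictScalars R
  d_grHom := I'.d_grHom
  ε_grHom := I'.ε_grHom
  ε_injective := I'.ε_injective
  exact_zero := by
    ext x
    have := congrArg (fun P : Submodule S (I'.X 0).carrier => x ∈ P) I'.exact_zero
    exact (iff_of_eq this)
  exact_succ n := by
    ext x
    have := congrArg (fun P : Submodule S (I'.X (n + 1)).carrier => x ∈ P) (I'.exact_succ n)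
    exact (iff_of_eq this)

include hf in
lemma map_isHomogeneous (m : HomogeneousIdeal 𝒜) :
    (m.toIdeal.map (algebraMap R S)).IsHomogeneous 𝒜' := by
  obtain ⟨T, hT⟩ := (Ideal.IsHomogeneous.iff_exists 𝒜 m.toIdeal).mp m.isHomogeneous
  rw [hT, Ideal.map_span]
  apply Ideal.homogeneous_span
  rintro _ ⟨_, ⟨x, _, rfl⟩, rfl⟩
  obtain ⟨j, hj⟩ := x.2
  exact ⟨j, algebraMap_mem_of_le hf hj⟩

variable [IsNoetherianRing R] [IsNoetherianRing S]

/-- *injective graded `S`-modules are `Γ_m`-acyclic over `R`. -/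
theorem acyclic_toGMod (m : HomogeneousIdeal 𝒜) (X : GMod.{u} 𝒜') (hX : IsStarInj 𝒜' X.gr) :
    Acyclic m (toGMod hf X) := by
  intro G' p
  obtain ⟨e⟩ := Groth.Agent.Lib.Helper11.GrLCOrd.nonempty_H_equiv G' m (p + 1)
  obtain ⟨φ, -⟩ := Groth.Agent.Lib.Helper16.DTL.semiIso_H (R := R) (R' := S) m.toIdeal (p + 1)
    X.carrier
  have hsub : Subsingleton (LocCoh.H (m.toIdeal.map (algebraMap R S)) (p + 1) X.carrier) :=
    Groth.Agent.Lib.Helper11.GrLCOrd.subsingleton_H_of_isStarInj X.gr hX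
      ⟨m.toIdeal.map (algebraMap R S), map_isHomogeneous hf m⟩ p
  refine ⟨fun x y => ?_⟩
  apply e.injective
  apply φ.symm.injective
  exact hsub.elim _ _

include hf in
/-- **Independence of the base**, graded form. -/
theorem exists_H_equiv_base (m : HomogeneousIdeal 𝒜) (m' : HomogeneousIdeal 𝒜')
    (hgam : ∀ (X : GMod.{u} 𝒜') (x : X.carrier),
      x ∈ gam m.toIdeal X.carrier ↔ x ∈ gam m'.toIdeal X.carrier)
    (I' : StarInjRes 𝒜' ℳ') (G : StarInjRes 𝒜 ℳ') (q : ℕ) :
    ∃ Φ : I'.H m' q ≃ₗ[R] G.H m q, (∀ g x, x ∈ I'.Hgr m' q g → Φ x ∈ G.Hgr m q g) ∧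
      (∀ g y, y ∈ G.Hgr m q g → Φ.symm y ∈ I'.Hgr m' q g) := by
  classical
  obtain ⟨φ, hφ⟩ := GRes.arl m q M' ℳ' (toGRes hf I')
    (fun n => acyclic_toGMod hf m (I'.X n) (I'.starInj n)) G
  have hcoc : ∀ z : (I'.X q).carrier, z ∈ I'.cocyc m' q ↔ z ∈ (toGRes hf I').cocyc m q := by
    intro z
    constructor
    · rintro ⟨h1, h2⟩
      exact ⟨(hgam (I'.X q) z).mpr h1, h2⟩
    · rintro ⟨h1, h2⟩
      exact ⟨(hgam (I'.X q) z).mp h1, h2⟩
  have hcob : ∀ z : (I'.X q).carrier, z ∈ I'.cobdy m' q ↔ z ∈ (toGRes hf I').cobdy m q := by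
    intro z
    cases q with
    | zero => exact Iff.rfl
    | succ q =>
      constructor
      · rintro ⟨y, hy, rfl⟩
        exact ⟨y, (hgam (I'.X q) y).mpr hy, rfl⟩
      · rintro ⟨y, hy, rfl⟩
        exact ⟨y, (hgam (I'.X q) y).mp hy, rfl⟩
  -- the inclusion of cocycles
  let ι : ↥(I'.cocyc m' q) →ₗ[R] ↥((toGRes hf I').cocyc m q) :=
    { toFun := fun z => ⟨z.1, (hcoc z.1).mp z.2⟩
      map_add' := fun _ _ => rfl
      map_smul' := fun _ _ => rfl }
  let ψ : ↥(I'.cocyc m' q) →ₗ[R] G.H m q := φ ∘ₗ ι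
  have hψsurj : Function.Surjective ψ := by
    intro y
    obtain ⟨z, rfl⟩ := hφ.surj y
    exact ⟨⟨z.1, (hcoc z.1).mpr z.2⟩, rfl⟩
  let P : Submodule S ↥(I'.cocyc m' q) := (I'.cobdy m' q).comap (I'.cocyc m' q).subtype
  have hker : LinearMap.ker ψ = P.restrictScalars R := by
    ext z
    rw [LinearMap.mem_ker]
    show φ (ι z) = 0 ↔ z.1 ∈ I'.cobdy m' q
    rw [hφ.ker, hcob]
    exact Iff.rfl
  let Φ : I'.H m' q ≃ₗ[R] G.H m q :=
    (Submodule.Quotient.restrictScalarsEquiv R P).symm.trans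
      ((Submodule.quotEquivOfEq _ _ hker.symm).trans
        (LinearMap.quotKerEquivOfSurjective ψ hψsurj))
  have hΦ : ∀ z : ↥(I'.cocyc m' q), Φ (I'.toH m' q z) = φ (ι z) := fun z => rfl
  refine ⟨Φ, ?_, ?_⟩
  · rintro g _ ⟨z, hz, rfl⟩
    rw [hΦ]
    exact hφ.mem g (ι z) hz
  · intro g y hy
    obtain ⟨z, hz, rfl⟩ := hφ.lift g y hy
    have h1 : Φ (I'.toH m' q ⟨z.1, (hcoc z.1).mpr z.2⟩) = φ z := hΦ _
    rw [← h1, LinearEquiv.symm_apply_apply]
    exact ⟨⟨z.1, (hcoc z.1).mpr z.2⟩, hz, rfl⟩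

end Base

end Groth.Agent.Lib.Helper11.GrLD
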