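import Groth.Agent.Lib.Helper11.GrLDG
import Groth.Agent.Lib.Helper12.IntegralDim

/-!
# The torsion functors of `m` and `m'` agree for a finite graded extension
-/

set_option autoImplicit false
set_option linter.unusedSectionVars false
set_option linter.unusedVariables false
set_option linter.style.haveILetI false
universe u

namespace Groth.Agent.Lib.Helper11.GrLD

open DirectSum GrLC Groth.Agent.Lib.Helper11.GrLCLib Groth.Agent.Lib.Helper11.GrLes

section Ring

variable {R S : Type u} [CommRing R] [CommRing S] [Algebra R S]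
  {𝒜 : ℤ → AddSubgroup R} [GradedRing 𝒜] {𝒜' : ℤ → AddSubgroup S} [GradedRing 𝒜']
  (hf : ∀ j : ℤ, (𝒜 j).map (algebraMap R S : R →+ S) ≤ 𝒜' j)

include hf in
/-- the *maximal ideal of `S` is contained in the radical of `m S`. -/
theorem le_radical_map [IsNoetherianRing S] [Algebra.IsIntegral R S] (m : HomogeneousIdeal 𝒜)
    (hmax : m.toIdeal.IsMaximal) (m' : HomogeneousIdeal 𝒜') (hm' : IsStarLocal 𝒜' m') :
    m'.toIdeal ≤ (m.toIdeal.map (algebraMap R S)).radical := by
  rw [Ideal.radical_eq_sInf]
  apply le_sInf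
  rintro P ⟨hJP, hP⟩
  have hJhom := map_isHomogeneous hf m
  have key : ∀ Q : Ideal S, Q.IsPrime → m.toIdeal.map (algebraMap R S) ≤ Q → Q.IsMaximal := by
    intro Q hQ hJQ
    have hle : m.toIdeal ≤ Q.comap (algebraMap R S) := Ideal.map_le_iff_le_comap.mp hJQ
    have hne : Q.comap (algebraMap R S) ≠ ⊤ := (Ideal.IsPrime.comap (algebraMap R S)).ne_top
    have heq : m.toIdeal = Q.comap (algebraMap R S) := hmax.eq_of_le hne hle
    exact Ideal.isMaximal_of_isIntegral_of_isMaximal_comap Q (heq ▸ hmax)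
  have hPmax := key P hP hJP
  have hcore_prime : (P.homogeneousCore 𝒜').toIdeal.IsPrime := Ideal.IsPrime.homogeneousCore hP
  have hJcore : m.toIdeal.map (algebraMap R S) ≤ (P.homogeneousCore 𝒜').toIdeal := by
    have h1 := Ideal.homogeneousCore_mono 𝒜' hJP
    have h2 := hJhom.toIdeal_homogeneousCore_eq_self
    rw [← h2]
    exact h1
  have hcore_max := key _ hcore_prime hJcore
  have hcore_le : (P.homogeneousCore 𝒜').toIdeal ≤ P := Ideal.toIdeal_homogeneousCore_le 𝒜' P
  have hcore_eq : (P.homogeneousCore 𝒜').toIdeal = P :=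
    hcore_max.eq_of_le hPmax.ne_top hcore_le
  have hle' : (P.homogeneousCore 𝒜').toIdeal ≤ m'.toIdeal :=
    le_of_isHomogeneous_ne_top 𝒜' hm' _ (P.homogeneousCore 𝒜').isHomogeneous hcore_max.ne_top
  have hm'ne : m'.toIdeal ≠ ⊤ := by
    intro h
    exact hm'.1.1 (HomogeneousIdeal.toIdeal_injective h)
  have := hcore_max.eq_of_le hm'ne hle'
  rw [← this, hcore_eq]

/-- the torsion functors agree. -/
theorem mem_gam_iff_of_pow_le (I : Ideal R) (J' : Ideal S)
    (h1 : I.map (algebraMap R S) ≤ J') (N : ℕ) (h2 : J' ^ N ≤ I.map (algebraMap R S))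
    {X : Type u} [AddCommGroup X] [Module S X] [Module R X] [IsScalarTower R S X] (x : X) :
    x ∈ gam I X ↔ x ∈ gam J' X := by
  constructor
  · rintro ⟨n, hn⟩
    refine ⟨N * n, fun s hs => ?_⟩
    have hs' : s ∈ (I ^ n).map (algebraMap R S) := by
      rw [Ideal.map_pow]
      have : J' ^ (N * n) ≤ (I.map (algebraMap R S)) ^ n := by
        rw [pow_mul]
        exact Ideal.pow_right_mono h2 n
      exact this hs
    have hkill : ∀ t ∈ (I ^ n).map (algebraMap R S), t • x = 0 := by
      intro t ht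
      refine Submodule.span_induction (p := fun t _ => t • x = 0) ?_ ?_ ?_ ?_ ht
      · rintro _ ⟨r, hr, rfl⟩
        rw [algebraMap_smul]
        exact hn r hr
      · rw [zero_smul]
      · intro a b _ _ ha hb
        rw [add_smul, ha, hb, add_zero]
      · intro a b _ hb
        rw [smul_eq_mul, mul_smul, hb, smul_zero]
    exact hkill s hs'
  · rintro ⟨n, hn⟩
    refine ⟨n, fun r hr => ?_⟩
    rw [← algebraMap_smul S r x]
    apply hn
    have : algebraMap R S r ∈ (I.map (algebraMap R S)) ^ n := by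
      rw [← Ideal.map_pow]
      exact Ideal.mem_map_of_mem _ hr
    exact Ideal.pow_right_mono h1 n this

end Ring

end Groth.Agent.Lib.Helper11.GrLD
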