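import Groth.Agent.Lib.Helper11.GrSegCM
import Groth.Agent.Lib.Helper11.GrSegConvB
import Groth.Agent.Lib.Helper11.GrCMGlobB
import Groth.Agent.Lib.Helper20.SegreDim

/-!
# Cohen–Macaulayness of Segre products of Cohen–Macaulay graded rings: statement-level form
-/

set_option autoImplicit false
set_option linter.unusedSectionVars false
set_option linter.unusedVariables false
set_option linter.style.haveILetI false
set_option maxHeartbeats 1000000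
universe u

open scoped TensorProduct

namespace Groth.Agent.Lib.Helper11.Seg

open DirectSum GrLC Groth.Agent.Lib.Helper11.GrLCLib Groth.Agent.Lib.Helper11.GrConv

attribute [local instance] convGradedRing

section

variable {ι : Type} [DecidableEq ι] [AddCommGroup ι]
variable {R : Type u} [CommRing R] {σ : Type u} [SetLike σ R] [AddSubgroupClass σ R]
  (𝒜 : ι → σ) [GradedRing 𝒜]

lemma Hcomp_resConv_eq_bot_iff (E : StarInjRes 𝒜 𝒜) (a : HomogeneousIdeal 𝒜) (q : ℕ) (d : ι) :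
    (resConv 𝒜 𝒜 E).Hcomp (hidealConv 𝒜 a) q d = ⊥ ↔ E.Hcomp a q d = ⊥ := by
  rw [Submodule.eq_bot_iff, Submodule.eq_bot_iff]
  exact Iff.rfl

end

theorem nontrivial_of_ringKrullDim {R : Type u} [CommRing R] (r : ℕ) (hr : ringKrullDim R = r) :
    Nontrivial R := by
  by_contra h
  rw [not_nontrivial_iff_subsingleton] at h
  rw [ringKrullDim_eq_bot_of_subsingleton] at hr
  exact absurd hr (by simp)

/-- **Cohen–Macaulayness of a Segre product of Cohen–Macaulay graded rings.** -/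
theorem segre_cm_iff (k : Type u) [Field k] (R : Type u) [CommRing R] [Algebra k R]
    (𝒜 : ℤ → Submodule k R) [GradedAlgebra 𝒜] (hposR : ∀ n : ℤ, n < 0 → 𝒜 n = ⊥)
    (h0R : 𝒜 0 = Submodule.span k {(1 : R)}) [Algebra.FiniteType k R]
    (S : Type u) [CommRing S] [Algebra k S] (ℬ : ℤ → Submodule k S) [GradedAlgebra ℬ]
    (hposS : ∀ n : ℤ, n < 0 → ℬ n = ⊥) (h0S : ℬ 0 = Submodule.span k {(1 : S)})
    [Algebra.FiniteType k S]
    (T : Type u) [CommRing T] [Algebra k T] (𝒯 : ℤ → Submodule k T) [GradedAlgebra 𝒯]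
    (ψ : T →ₐ[k] R ⊗[k] S) (hψ : Function.Injective ψ)
    (hdegT : ∀ n : ℤ, (𝒯 n).map ψ.toLinearMap =
      Submodule.span k {x : R ⊗[k] S | ∃ a ∈ 𝒜 n, ∃ b ∈ ℬ n, x = a ⊗ₜ[k] b})
    [LocCoh.IsCohenMacaulayRing R] [LocCoh.IsCohenMacaulayRing S]
    (mR : HomogeneousIdeal 𝒜)
    (hmR : mR.toIdeal = Ideal.span (⋃ n ∈ Set.Ioi (0 : ℤ), (𝒜 n : Set R)))
    (I : GrLC.StarInjRes 𝒜 𝒜) (mS : HomogeneousIdeal ℬ)
    (hmS : mS.toIdeal = Ideal.span (⋃ n ∈ Set.Ioi (0 : ℤ), (ℬ n : Set S)))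
    (J : GrLC.StarInjRes ℬ ℬ) (r s : ℕ) (hr : ringKrullDim R = r) (hs : ringKrullDim S = s)
    (h1r : 1 ≤ r) (h1s : 1 ≤ s) :
    (∀ i, i ≠ r → Subsingleton (I.H mR i)) ∧ (∀ j, j ≠ s → Subsingleton (J.H mS j)) ∧
    (LocCoh.IsCohenMacaulayRing T ↔ ∀ q, q < r + s - 1 → ∀ d : ℤ,
      (I.Hcomp mR q d = ⊥ ∨ ℬ d = ⊥) ∧ (𝒜 d = ⊥ ∨ J.Hcomp mS q d = ⊥)) := by
  haveI : IsNoetherianRing R := Algebra.FiniteType.isNoetherianRing k R
  haveI : IsNoetherianRing S := Algebra.FiniteType.isNoetherianRing k S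
  haveI : IsNoetherianRing (R ⊗[k] S) := noetherian_tensor (k := k) (R := R) (S := S)
  haveI : Nontrivial R := nontrivial_of_ringKrullDim r hr
  haveI : Nontrivial S := nontrivial_of_ringKrullDim s hs
  haveI : IsKAlgGr k (conv 𝒜) := isKAlgGr_conv 𝒜
  haveI : IsKAlgGr k (conv ℬ) := isKAlgGr_conv ℬ
  have hseg : IsSeg (conv 𝒜) (conv ℬ) (conv 𝒯) ψ := isSeg_conv hψ hdegT
  haveI : IsNoetherianRing T := hseg.isVerRing.isNoetherianRing
  have hdimT := Groth.Agent.Lib.Helper20.SegreDim.ringKrullDim_segre 𝒜 ℬ 𝒯 ψ hψ hdegT hposR h0R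
    hposS h0S r s hr hs h1r h1s
  haveI : Nontrivial T := nontrivial_of_ringKrullDim (r + s - 1) hdimT
  have hposT := Groth.Agent.Lib.Helper20.SegreDim.hposT 𝒜 ℬ 𝒯 ψ hψ hdegT hposR
  have h0T := Groth.Agent.Lib.Helper20.SegreDim.h0T 𝒜 ℬ 𝒯 ψ hψ hdegT h0R h0S
  -- ideals
  let a := hidealConv 𝒜 mR
  let b := hidealConv ℬ mS
  let mT : HomogeneousIdeal (conv 𝒯) := Groth.Agent.Lib.Helper11.GrField.irrelevant (conv 𝒯)
  have hlocR : IsStarLocal (conv 𝒜) a := isStarLocal_conv_irr 𝒜 hposR h0R a hmR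
  have hlocS : IsStarLocal (conv ℬ) b := isStarLocal_conv_irr ℬ hposS h0S b hmS
  have hlocT : IsStarLocal (conv 𝒯) mT := isStarLocal_conv_irr 𝒯 hposT h0T mT rfl
  let I' := resConv 𝒜 𝒜 I
  let J' := resConv ℬ ℬ J
  have hI : ∀ i, i ≠ r → Subsingleton (I'.H a i) := fun i hi =>
    Groth.Agent.Lib.Helper11.GrCMGlob.subsingleton_H_of_ne_dim (conv 𝒜) (hpos_conv 𝒜 hposR) a hlocR
      r hr I' i hi
  have hJ : ∀ j, j ≠ s → Subsingleton (J'.H b j) := fun j hj =>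
    Groth.Agent.Lib.Helper11.GrCMGlob.subsingleton_H_of_ne_dim (conv ℬ) (hpos_conv ℬ hposS) b hlocS
      s hs J' j hj
  refine ⟨hI, hJ, ?_⟩
  obtain ⟨IT⟩ := nonempty_starInjRes (conv 𝒯) (conv 𝒯)
  rw [Groth.Agent.Lib.Helper11.GrCMGlob.isCohenMacaulayRing_iff_H_vanish (conv 𝒯)
    (hpos_conv 𝒯 hposT) mT hlocT (r + s - 1) hdimT IT]
  have hP := hseg.isSegreMod_self
  have key : ∀ q, q < r + s - 1 → ∀ d : ℤ, (IT.Hcomp mT q d = ⊥ ↔
      (I.Hcomp mR q d = ⊥ ∨ ℬ d = ⊥) ∧ (𝒜 d = ⊥ ∨ J.Hcomp mS q d = ⊥)) := by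
    intro q hq d
    rw [Hcomp_segre_eq_bot_iff hseg a b mT hmR hmS rfl hP I' J' IT r s hI hJ q (by omega)
      (by omega) d, Hcomp_resConv_eq_bot_iff, Hcomp_resConv_eq_bot_iff, conv_eq_bot_iff,
      conv_eq_bot_iff]
  constructor
  · intro h q hq d
    rw [← key q hq d]
    exact (subsingleton_H_iff IT mT q).mp (h q hq) d
  · intro h q hq
    rw [subsingleton_H_iff]
    intro d
    rw [key q hq d]
    exact h q hq d

end Groth.Agent.Lib.Helper11.Seg
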