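import Groth.Agent.Lib.Helper11.GrVanB

/-!
# A Gorenstein criterion for *local rings without a Cohen–Macaulay hypothesis
-/

set_option autoImplicit false
set_option linter.unusedSectionVars false
set_option linter.style.haveILetI false
set_option linter.unusedVariables false
universe u

namespace Groth.Agent.Lib.Helper11.GrVan

open DirectSum GrLC Groth.Agent.Lib.Helper11.GrLCLib Groth.Agent.Lib.Helper11.GrCore
  Groth.Agent.Lib.Helper11.GrGor CategoryTheory

section Main'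

variable {R : Type u} [CommRing R] [IsNoetherianRing R] (𝒜 : ℤ → AddSubgroup R)
  [GradedRing 𝒜]

/-- If the top graded local cohomology of a Cohen–Macaulay *local ring is *injective, then the Bass
numbers `μ^i(m, R)` vanish for `i > n = ht m`. -/
theorem bassNum_eq_zero_of_top_starInj' (m : HomogeneousIdeal 𝒜) (hm : IsCoatom m)
    [hmp : m.toIdeal.IsPrime] (n : ℕ) (I : StarInjRes 𝒜 𝒜)
    (hlow : ∀ i, i < n → Subsingleton (I.H m i)) (hhigh : ∀ i, n < i → Subsingleton (I.H m i))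
    (X : GMod.{u} 𝒜)
    (φ : I.H m n ≃ₗ[R] X.carrier) (hX : IsStarInj 𝒜 X.gr)
    (hφ : IsGrHom (I.Hgr m n) X.gr φ.toLinearMap) :
    ∀ i, n < i → GrLC.bassNum m.toIdeal R i = 0 := by
  classical
  set E := minRes 𝒜 𝒜 with hE
  have hb : ∀ i, GrLC.bassNum m.toIdeal (E.X i).carrier 0 = GrLC.bassNum m.toIdeal R i :=
    fun i => bassNum_term_zero E minRes_hmin0 minRes_hmin m i
  have htr : ∀ i, Subsingleton (I.H m i) → Subsingleton (E.H m i) := by
    intro i hi
    obtain ⟨e₁, -, -⟩ := exists_H_equiv E I m i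
    exact e₁.toEquiv.subsingleton
  have hcyc0 : ∀ k, Subsingleton (E.H m k) → E.cobdy m k = ⊥ →
      gam m.toIdeal (E.X k).carrier = ⊥ := by
    intro k hsub hcb
    by_contra hne
    have h1 : gam m.toIdeal (E.X k).carrier ⊓ LinearMap.ker (E.d k) ≠ ⊥ := by
      rcases k with _ | k
      · rw [E.exact_zero]
        exact minRes_hmin0 _ (gam_isHomogeneous 𝒜 (E.X 0).gr m) hne
      · rw [E.exact_succ]
        exact minRes_hmin k _ (gam_isHomogeneous 𝒜 (E.X (k + 1)).gr m) hne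
    obtain ⟨y, hy, hy0⟩ := Submodule.exists_mem_ne_zero_of_ne_bot h1
    apply hy0
    have hyZ : y ∈ E.cocyc m k := hy
    have h2 : E.toH m k ⟨y, hyZ⟩ = 0 := Subsingleton.elim _ _
    rw [Submodule.mkQ_apply, Submodule.Quotient.mk_eq_zero, Submodule.mem_comap] at h2
    change y ∈ E.cobdy m k at h2
    rw [hcb] at h2
    exact (Submodule.mem_bot R).1 h2
  have hGlow : ∀ k, k < n → gam m.toIdeal (E.X k).carrier = ⊥ := by
    intro k
    induction k with
    | zero =>
      intro hk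
      exact hcyc0 0 (htr 0 (hlow 0 hk)) rfl
    | succ k ih =>
      intro hk
      apply hcyc0 (k + 1) (htr (k + 1) (hlow (k + 1) hk))
      change (gam m.toIdeal (E.X k).carrier).map (E.d k) = ⊥
      rw [ih (by omega), Submodule.map_bot]
  have hcobdy : E.cobdy m n = ⊥ := by
    rcases n with _ | k
    · rfl
    · change (gam m.toIdeal (E.X k).carrier).map (E.d k) = ⊥
      rw [hGlow k (Nat.lt_succ_self k), Submodule.map_bot]
  have hbot : (E.cobdy m n).comap (E.cocyc m n).subtype = ⊥ := by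
    rw [hcobdy, Submodule.comap_bot, Submodule.ker_subtype]
  let θ : ↥(E.cocyc m n) ≃ₗ[R] E.H m n := (Submodule.quotEquivOfEqBot _ hbot).symm
  have hθ : ∀ z, θ z = E.toH m n z := fun z => Submodule.quotEquivOfEqBot_symm_apply _ hbot z
  obtain ⟨e₀, he₀, -⟩ := exists_H_equiv E I m n
  let Ψ : ↥(E.cocyc m n) ≃ₗ[R] X.carrier := θ ≪≫ₗ e₀ ≪≫ₗ φ
  have hZh : (E.cocyc m n).IsHomogeneous (E.X n).gr := cocyc_isHomogeneous 𝒜 𝒜 E m n
  letI := subDecomposition (E.X n).gr (E.cocyc m n) hZh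
  have hΨ : IsGrHom (subGr (E.X n).gr (E.cocyc m n)) X.gr Ψ.toLinearMap := by
    intro h z hz
    change φ (e₀ (θ z)) ∈ X.gr h
    apply hφ h
    apply he₀ h
    rw [hθ]
    exact ⟨z, hz, rfl⟩
  have hΨs := Groth.Agent.Lib.Helper11.GrLes.isGrHom_symm Ψ hΨ
  have hZinj : IsStarInj 𝒜 (subGr (E.X n).gr (E.cocyc m n)) :=
    isStarInj_of_retract 𝒜 X.gr (subGr (E.X n).gr (E.cocyc m n)) hX Ψ.toLinearMap hΨ
      Ψ.symm.toLinearMap hΨs (by
        apply LinearMap.ext; intro z; exact Ψ.symm_apply_apply z)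
  obtain ⟨ρ, hρ, hρi⟩ := exists_retraction (subGr (E.X n).gr (E.cocyc m n)) (E.X n).gr 𝒜 hZinj
    (subtype_isGrHom (E.X n).gr (E.cocyc m n)) (Submodule.injective_subtype _)
  have hess : ∀ P : Submodule R (E.X n).carrier, P.IsHomogeneous (E.X n).gr → P ≠ ⊥ →
      P ⊓ LinearMap.ker (E.d n) ≠ ⊥ := by
    intro P hP hP0
    rcases n with _ | k
    · rw [E.exact_zero]
      exact minRes_hmin0 P hP hP0
    · rw [E.exact_succ]
      exact minRes_hmin k P hP hP0
  have hGZ : gam m.toIdeal (E.X n).carrier ≤ LinearMap.ker (E.d n) := by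
    intro y hy
    have hKh : (LinearMap.ker ρ ⊓ gam m.toIdeal (E.X n).carrier).IsHomogeneous (E.X n).gr :=
      isHomogeneous_inf _ (ker_isHomogeneous (E.X n).gr (subGr (E.X n).gr (E.cocyc m n)) hρ)
        (gam_isHomogeneous 𝒜 (E.X n).gr m)
    have hK0 : LinearMap.ker ρ ⊓ gam m.toIdeal (E.X n).carrier = ⊥ := by
      by_contra hne
      apply hess _ hKh hne
      rw [eq_bot_iff]
      rintro z ⟨⟨hz1, hz2⟩, hz3⟩
      have hzZ : z ∈ E.cocyc m n := ⟨hz2, hz3⟩
      have h1 := LinearMap.congr_fun hρi ⟨z, hzZ⟩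
      change ρ z = ⟨z, hzZ⟩ at h1
      rw [LinearMap.mem_ker.1 hz1] at h1
      rw [Submodule.mem_bot]
      exact (congrArg Subtype.val h1).symm
    have hρy : ((ρ y : ↥(E.cocyc m n)) : (E.X n).carrier) ∈ E.cocyc m n := (ρ y).2
    have hmem : y - (ρ y : (E.X n).carrier) ∈
        LinearMap.ker ρ ⊓ gam m.toIdeal (E.X n).carrier := by
      refine ⟨?_, sub_mem hy hρy.1⟩
      change ρ (y - (ρ y : (E.X n).carrier)) = 0
      rw [map_sub]
      have h1 := LinearMap.congr_fun hρi (ρ y)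
      change ρ ((ρ y : ↥(E.cocyc m n)) : (E.X n).carrier) = ρ y at h1
      rw [h1, sub_self]
    rw [hK0, Submodule.mem_bot, sub_eq_zero] at hmem
    rw [hmem]
    exact hρy.2
  -- the step
  have hstep : ∀ i, n ≤ i → (gam m.toIdeal (E.X i).carrier).map (E.d i) = ⊥ →
      gam m.toIdeal (E.X (i + 1)).carrier = ⊥ := by
    intro i hi hmap
    by_contra hne
    have hsub := htr (i + 1) (hhigh (i + 1) (by omega))
    have h1 := minRes_hmin (𝒜 := 𝒜) (ℳ := 𝒜) i (gam m.toIdeal (E.X (i + 1)).carrier)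
      (gam_isHomogeneous 𝒜 (E.X (i + 1)).gr m) hne
    obtain ⟨y, hy, hy0⟩ := Submodule.exists_mem_ne_zero_of_ne_bot h1
    apply hy0
    have hyker : y ∈ LinearMap.ker (E.d (i + 1)) := by
      rw [E.exact_succ]; exact hy.2
    have hyZ : y ∈ E.cocyc m (i + 1) := ⟨hy.1, hyker⟩
    have h2 : E.toH m (i + 1) ⟨y, hyZ⟩ = 0 := Subsingleton.elim _ _
    rw [Submodule.mkQ_apply, Submodule.Quotient.mk_eq_zero, Submodule.mem_comap] at h2
    change y ∈ (gam m.toIdeal (E.X i).carrier).map (E.d i) at h2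
    rw [hmap] at h2
    exact (Submodule.mem_bot R).1 h2
  have hGhigh : ∀ j, gam m.toIdeal (E.X (n + 1 + j)).carrier = ⊥ := by
    intro j
    induction j with
    | zero =>
      apply hstep n le_rfl
      rw [eq_bot_iff]
      rintro _ ⟨y, hy, rfl⟩
      rw [Submodule.mem_bot]
      exact hGZ hy
    | succ j ih =>
      apply hstep (n + 1 + j) (by omega)
      rw [ih, Submodule.map_bot]
  intro i hi
  obtain ⟨j, rfl⟩ : ∃ j, i = n + 1 + j := ⟨i - (n + 1), by omega⟩
  rw [← hb]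
  by_contra hne
  have hne' := (bassNum_zero_ne_zero_iff_mem_associatedPrimes m.toIdeal _).1 hne
  rw [AssociatedPrimes.mem_iff, isAssociatedPrime_iff] at hne'
  replace hne := hne'
  obtain ⟨-, y, hy⟩ := hne
  have hyG : y ∈ gam m.toIdeal (E.X (n + 1 + j)).carrier := by
    refine ⟨1, fun r hr => ?_⟩
    rw [pow_one, hy, Submodule.mem_colon_singleton, Submodule.mem_bot] at hr
    exact hr
  rw [hGhigh j, Submodule.mem_bot] at hyG
  apply hmp.ne_top
  rw [hy, hyG]
  ext r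
  simp [Submodule.mem_colon_singleton]

/-- A *local ring whose graded local cohomology is concentrated in one degree, where it is
*injective, is Gorenstein. -/
theorem isGorensteinRing_of_top_starInj' (m : HomogeneousIdeal 𝒜) (hm : IsStarLocal 𝒜 m) (n : ℕ)
    (I : StarInjRes 𝒜 𝒜)
    (hlow : ∀ i, i < n → Subsingleton (I.H m i)) (hhigh : ∀ i, n < i → Subsingleton (I.H m i))
    (X : GMod.{u} 𝒜)
    (φ : I.H m n ≃ₗ[R] X.carrier) (hX : IsStarInj 𝒜 X.gr)
    (hφ : IsGrHom (I.Hgr m n) X.gr φ.toLinearMap) : LocCoh.IsGorensteinRing R := by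
  have hmp : m.toIdeal.IsPrime := isPrime_of_isCoatom 𝒜 hm.1
  have h1 := bassNum_eq_zero_of_top_starInj' 𝒜 m hm.1 n I hlow hhigh X φ hX hφ
  have h2 : ∀ (p : Ideal R) [p.IsPrime], p ≤ m.toIdeal → ∀ i, n + 2 ≤ i →
      GrLC.bassNum p R i = 0 := fun p _ hpm i hi =>
    bassNum_eq_zero_of_le_prime m.toIdeal (n + 1) (fun i hi => h1 i (by omega)) p hpm i hi
  have h3 : ∀ (p : Ideal R) [p.IsPrime] (i : ℕ), n + 2 + 1 ≤ i → GrLC.bassNum p R i = 0 := by
    intro p hp i hi
    by_cases hph : p.IsHomogeneous 𝒜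
    · exact h2 p (Groth.Agent.Lib.Helper11.GrLes.le_of_isHomogeneous_ne_top 𝒜 hm p hph hp.ne_top)
        i (by omega)
    · have hPp : (Ideal.homogeneousCore 𝒜 p).toIdeal.IsPrime := Ideal.IsPrime.homogeneousCore hp
      obtain ⟨j, rfl⟩ : ∃ j, i = j + 1 := ⟨i - 1, by omega⟩
      rw [(bassNum_int 𝒜 𝒜 p hph).2 j]
      exact h2 _ (Groth.Agent.Lib.Helper11.GrLes.le_of_isHomogeneous_ne_top 𝒜 hm _
        (Ideal.homogeneousCore 𝒜 p).isHomogeneous hPp.ne_top) j (by omega)
  have hinj := hasInjectiveDimensionLT_of_bassNum R (n + 2) h3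
  exact ((Groth.Agent.Lib.Helper11.GorCM.finite_injdim_iff (A := R)).1 ⟨n + 2 + 1, hinj⟩).1

end Main'

end Groth.Agent.Lib.Helper11.GrVan
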