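import Groth.Agent.Lib.Helper11.GrVerK
import Groth.Agent.Lib.Helper11.GrFieldD
import Groth.Agent.Lib.Helper11.GrVanC
import Groth.Agent.Lib.Helper11.GrCanC
import Groth.Agent.Lib.Helper11.GorCM2

/-!
# Veronese-type subrings of Gorenstein graded rings
-/

set_option autoImplicit false
set_option linter.unusedSectionVars false
set_option linter.unusedVariables false
set_option linter.style.haveILetI false
universe u

namespace Groth.Agent.Lib.Helper11.GrVer

open DirectSum GrLC GrSeg Groth.Agent.Lib.Helper11.GrLCLib Groth.Agent.Lib.Helper11.GrDual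
  Groth.Agent.Lib.Helper11.GrField Groth.Agent.Lib.Helper11.GrCan

variable {k : Type u} [Field k]
variable {R : Type u} [CommRing R] [Algebra k R] {𝒜 : ℤ → AddSubgroup R} [GradedRing 𝒜]
variable {R' : Type u} [CommRing R'] [Algebra k R'] {𝒜' : ℤ → AddSubgroup R'} [GradedRing 𝒜']
variable {φ : R' →+* R} {ψ : ℤ →+ ℤ}

/-- A Gorenstein ring is Cohen–Macaulay. -/
theorem isCohenMacaulayRing_of_isGorensteinRing (A : Type u) [CommRing A]
    [hG : LocCoh.IsGorensteinRing A] : LocCoh.IsCohenMacaulayRing A :=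
  { toIsNoetherian := hG.toIsNoetherian
    isCohenMacaulayLocalRing_localization := fun p _ => by
      haveI := hG.isGorensteinLocalRing_localization p
      exact Groth.Agent.Lib.Helper11.GorCM.isCohenMacaulayLocalRing_of_gorenstein _ }

/-- **Veronese-type subrings of Gorenstein rings**: if the `a`-invariant lies in the range of `ψ`,
the Veronese-type subring is Gorenstein. -/
theorem isGorensteinRing_ver [hG : LocCoh.IsGorensteinRing R] [Nontrivial R] [Nontrivial R']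
    (hk : IsBase 𝒜 k) (hk' : IsBase 𝒜' k) (hR : IsVerRing 𝒜 𝒜' φ ψ)
    (hφk : ∀ c : k, φ (algebraMap k R' c) = algebraMap k R c)
    (hpos : ∀ n : ℤ, n < 0 → 𝒜 n = ⊥) (hpos' : ∀ n : ℤ, n < 0 → 𝒜' n = ⊥)
    (m : HomogeneousIdeal 𝒜) (hm : IsStarLocal 𝒜 m)
    (hmsp : m.toIdeal = Ideal.span (⋃ n ∈ Set.Ioi (0 : ℤ), (𝒜 n : Set R)))
    (n : ℕ) (hn : ringKrullDim R = n) (I : StarInjRes 𝒜 𝒜) (a' : ℤ)
    (ha : IsTopDeg (I.Hgr m n) (ψ a'))
    (m' : HomogeneousIdeal 𝒜')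
    (hm'sp : m'.toIdeal = Ideal.span (⋃ n ∈ Set.Ioi (0 : ℤ), (𝒜' n : Set R')))
    (h1 : m'.toIdeal.map φ ≤ m.toIdeal) (h2 : ∃ K, m.toIdeal ^ K ≤ m'.toIdeal.map φ) :
    LocCoh.IsGorensteinRing R' := by
  haveI : IsNoetherianRing R := hG.toIsNoetherian
  haveI : IsNoetherianRing R' := hR.isNoetherianRing
  haveI hCM : LocCoh.IsCohenMacaulayRing R := isCohenMacaulayRing_of_isGorensteinRing R
  have hmax := Groth.Agent.Lib.Helper11.GrLes.isMaximal_of_isCoatom 𝒜 hpos hm.1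
  have hht := Groth.Agent.Lib.Helper11.GrLes.ringKrullDim_eq_height 𝒜 hpos hm
  rw [hn] at hht
  have hht' : m.toIdeal.height = (n : ℕ∞) := by
    have : ((m.toIdeal.height : ℕ∞) : WithBot ℕ∞) = ((n : ℕ∞) : WithBot ℕ∞) := hht.symm
    exact_mod_cast this
  have hlowR : ∀ i, i < n → Subsingleton (I.H m i) := fun i hi =>
    Groth.Agent.Lib.Helper11.GrLes.subsingleton_H_of_lt_height 𝒜 m hmax I n hht'.ge i hi
  have hhighR : ∀ i, n < i → Subsingleton (I.H m i) := fun i hi =>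
    Groth.Agent.Lib.Helper11.GrVan.subsingleton_H_of_height_lt hm.1 I n hht' i hi
  -- the hull
  letI := quotDecomposition 𝒜 (m.toIdeal : Submodule R R) m.isHomogeneous
  obtain ⟨Xh, e, he⟩ := exists_isStarInjHull 𝒜 (quotGrM 𝒜 (m.toIdeal : Submodule R R))
  rw [← Groth.Agent.Lib.Helper11.GrGor.quotGr_eq_quotGrM 𝒜 m] at he
  obtain ⟨g, θ, hθ⟩ := Groth.Agent.Lib.Helper11.GrGor.exists_top_H_equiv_hull 𝒜 Xh.gr m hm n hht' I
    e he
  letI dH : DirectSum.Decomposition (I.Hgr m n) := (Hgr_isInternal 𝒜 𝒜 I m n).chooseDecomposition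
  have hθs := isGrHomDeg_symm θ hθ
  have hE := isTopDeg_hull 𝒜 Xh.gr hpos hm.1 he
  have hg1 : -g ≤ ψ a' := by
    obtain ⟨⟨z, hz⟩, hz0⟩ := (AddSubgroup.ne_bot_iff_exists_ne_zero).1 hE.1
    have hz0' : z ≠ 0 := fun h => hz0 (Subtype.ext h)
    have hmem := hθs 0 z hz
    rw [zero_add] at hmem
    have hne : θ.symm z ≠ 0 := fun h => hz0' (θ.symm.map_eq_zero_iff.1 h)
    by_contra hlt
    exact ne_bot_of_mem_ne_zero hmem hne (ha.2 (-g) (by omega))
  have hg2 : ψ a' + g ≤ 0 := by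
    obtain ⟨⟨h, hh⟩, hh0⟩ := (AddSubgroup.ne_bot_iff_exists_ne_zero).1 ha.1
    have hh0' : h ≠ 0 := fun h' => hh0 (Subtype.ext h')
    have hmem := hθ (ψ a') h hh
    have hne : θ h ≠ 0 := fun h' => hh0' (θ.map_eq_zero_iff.1 h')
    by_contra hlt
    exact ne_bot_of_mem_ne_zero hmem hne (hE.2 (ψ a' + g) (by omega))
  have hg : g = ψ (-a') := by rw [map_neg]; omega
  -- the Veronese-type submodule of the hull
  obtain ⟨V, _, _, 𝒱, _, _, gV, hV⟩ := exists_ver (𝒜' := 𝒜') Xh.gr hR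
  letI : Module k Xh.carrier := Module.compHom Xh.carrier (algebraMap k R)
  haveI : IsScalarTower k R Xh.carrier := IsScalarTower.of_algebraMap_smul (fun r x => rfl)
  letI : Module k V := Module.compHom V (algebraMap k R')
  haveI : IsScalarTower k R' V := IsScalarTower.of_algebraMap_smul (fun r x => rfl)
  have hVinj : IsStarInj 𝒜' 𝒱 := isStarInj_ver_hull hk hk' hR hφk hpos m hmsp e he hV
  -- the resolution of `R'`
  obtain ⟨I'⟩ := nonempty_starInjRes 𝒜' 𝒜'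
  letI dH' : DirectSum.Decomposition (I'.Hgr m' n) :=
    (Hgr_isInternal 𝒜' 𝒜' I' m' n).chooseDecomposition
  haveI : SetLike.GradedSMul 𝒜 (I.Hgr m n) := Hgr_gradedSMul I m n
  haveI : SetLike.GradedSMul 𝒜' (I'.Hgr m' n) := Hgr_gradedSMul I' m' n
  obtain ⟨Φ, hΦ⟩ := exists_isVer_H hR m m' h1 h2 hR.isVer I I' n
  obtain ⟨χ, hχ⟩ := exists_ver_equiv hR hΦ hV θ (-a') (by rw [← hg]; exact hθ)
  have hvan : ∀ p, Subsingleton (I.H m p) → Subsingleton (I'.H m' p) := by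
    intro p hp
    obtain ⟨Φp, hinj, -, -⟩ := claim_all hR m m' h1 h2 p R 𝒜 R' 𝒜' (ringSL φ) hR.isVer I I'
    exact hinj.subsingleton
  have hm' : IsStarLocal 𝒜' m' := isStarLocal_irrelevant hk' hpos' m' hm'sp
  letI := shiftDecomposition 𝒱 (-a')
  exact Groth.Agent.Lib.Helper11.GrVan.isGorensteinRing_of_top_starInj' 𝒜' m' hm' n I'
    (fun i hi => hvan i (hlowR i hi)) (fun i hi => hvan i (hhighR i hi))
    (shiftGMod 𝒜' 𝒱 (-a')) χ
    (Groth.Agent.Lib.Helper11.GrGor.isStarInj_shift 𝒜' 𝒱 hVinj (-a')) (fun j x hx => hχ j x hx)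

end Groth.Agent.Lib.Helper11.GrVer
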