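import Groth.Agent.Lib.Helper11.GrSegGorB
import Groth.Agent.Lib.Helper11.GrSegRowA
import Groth.Agent.Lib.Helper11.GrVerL

/-!
# Segre products of Gorenstein graded rings with equal `a`-invariants (statement level)
-/

set_option autoImplicit false
set_option linter.unusedSectionVars false
set_option linter.unusedVariables false
set_option linter.style.haveILetI false
set_option maxHeartbeats 1000000
universe u

open scoped TensorProduct

namespace Groth.Agent.Lib.Helper11.Seg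

open DirectSum GrLC Groth.Agent.Lib.Helper11.GrLCLib Groth.Agent.Lib.Helper11.GrConv
  Groth.Agent.Lib.Helper11.GrLes

attribute [local instance] convGradedRing

/-- pieces of a finitely generated graded algebra over a field are finite-dimensional. -/
theorem finite_piece_conv {k : Type u} [Field k] {R : Type u} [CommRing R] [Algebra k R]
    (𝒜 : ℤ → Submodule k R) [GradedAlgebra 𝒜] (hposR : ∀ n : ℤ, n < 0 → 𝒜 n = ⊥)
    (h0R : 𝒜 0 = Submodule.span k {(1 : R)}) [IsNoetherianRing R] [IsKGr k (conv 𝒜)] (n : ℤ) :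
    Module.Finite k (subK k (conv 𝒜) n) := by
  haveI := Groth.Agent.Lib.Helper11.GrDual.finite_compK_of_isNoetherian 𝒜 𝒜 hposR h0R n
  have heq : Groth.Agent.Lib.Helper11.GrDual.compK 𝒜 𝒜 n = subK k (conv 𝒜) n :=
    Submodule.ext (fun x => Iff.rfl)
  exact Module.Finite.equiv (LinearEquiv.ofEq _ _ heq)

/-- **Segre products of Gorenstein rings with the same `a`-invariant.** -/
theorem segre_gorenstein (k : Type u) [Field k] (R : Type u) [CommRing R] [Algebra k R]
    (𝒜 : ℤ → Submodule k R) [GradedAlgebra 𝒜] (hposR : ∀ n : ℤ, n < 0 → 𝒜 n = ⊥)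
    (h0R : 𝒜 0 = Submodule.span k {(1 : R)}) [Algebra.FiniteType k R]
    (S : Type u) [CommRing S] [Algebra k S] (ℬ : ℤ → Submodule k S) [GradedAlgebra ℬ]
    (hposS : ∀ n : ℤ, n < 0 → ℬ n = ⊥) (h0S : ℬ 0 = Submodule.span k {(1 : S)})
    [Algebra.FiniteType k S]
    (T : Type u) [CommRing T] [Algebra k T] (𝒯 : ℤ → Submodule k T) [GradedAlgebra 𝒯]
    (ψ : T →ₐ[k] R ⊗[k] S) (hψ : Function.Injective ψ)
    (hdegT : ∀ n : ℤ, (𝒯 n).map ψ.toLinearMap =
      Submodule.span k {x : R ⊗[k] S | ∃ a ∈ 𝒜 n, ∃ b ∈ ℬ n, x = a ⊗ₜ[k] b})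
    [LocCoh.IsGorensteinRing R] [LocCoh.IsGorensteinRing S]
    (mR : HomogeneousIdeal 𝒜)
    (hmR : mR.toIdeal = Ideal.span (⋃ n ∈ Set.Ioi (0 : ℤ), (𝒜 n : Set R)))
    (I : GrLC.StarInjRes 𝒜 𝒜) (mS : HomogeneousIdeal ℬ)
    (hmS : mS.toIdeal = Ideal.span (⋃ n ∈ Set.Ioi (0 : ℤ), (ℬ n : Set S)))
    (J : GrLC.StarInjRes ℬ ℬ) (r s : ℕ) (hr : ringKrullDim R = r) (hs : ringKrullDim S = s)
    (h2r : 2 ≤ r) (h2s : 2 ≤ s)
    (haeq : GrLC.endDeg (I.Hgr mR r) = GrLC.endDeg (J.Hgr mS s))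
    [LocCoh.IsCohenMacaulayRing T] : LocCoh.IsGorensteinRing T := by
  haveI : LocCoh.IsCohenMacaulayRing R :=
    Groth.Agent.Lib.Helper11.GrVer.isCohenMacaulayRing_of_isGorensteinRing R
  haveI : LocCoh.IsCohenMacaulayRing S :=
    Groth.Agent.Lib.Helper11.GrVer.isCohenMacaulayRing_of_isGorensteinRing S
  haveI : IsNoetherianRing R := Algebra.FiniteType.isNoetherianRing k R
  haveI : IsNoetherianRing S := Algebra.FiniteType.isNoetherianRing k S
  haveI : IsNoetherianRing (R ⊗[k] S) := noetherian_tensor (k := k) (R := R) (S := S)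
  haveI : Nontrivial R := nontrivial_of_ringKrullDim r hr
  haveI : Nontrivial S := nontrivial_of_ringKrullDim s hs
  haveI : IsKAlgGr k (conv 𝒜) := isKAlgGr_conv 𝒜
  haveI : IsKAlgGr k (conv ℬ) := isKAlgGr_conv ℬ
  have hseg : IsSeg (conv 𝒜) (conv ℬ) (conv 𝒯) ψ := isSeg_conv hψ hdegT
  haveI : IsNoetherianRing T := hseg.isVerRing.isNoetherianRing
  have hdimT := Groth.Agent.Lib.Helper20.SegreDim.ringKrullDim_segre 𝒜 ℬ 𝒯 ψ hψ hdegT hposR h0R
    hposS h0S r s hr hs (by omega) (by omega)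
  haveI : Nontrivial T := nontrivial_of_ringKrullDim (r + s - 1) hdimT
  have hposT := Groth.Agent.Lib.Helper20.SegreDim.hposT 𝒜 ℬ 𝒯 ψ hψ hdegT hposR
  have h0T := Groth.Agent.Lib.Helper20.SegreDim.h0T 𝒜 ℬ 𝒯 ψ hψ hdegT h0R h0S
  let a := hidealConv 𝒜 mR
  let b := hidealConv ℬ mS
  let mT : HomogeneousIdeal (conv 𝒯) := Groth.Agent.Lib.Helper11.GrField.irrelevant (conv 𝒯)
  have hlocR : IsStarLocal (conv 𝒜) a := isStarLocal_conv_irr 𝒜 hposR h0R a hmR
  have hlocS : IsStarLocal (conv ℬ) b := isStarLocal_conv_irr ℬ hposS h0S b hmS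
  have hlocT : IsStarLocal (conv 𝒯) mT := isStarLocal_conv_irr 𝒯 hposT h0T mT rfl
  let I' := resConv 𝒜 𝒜 I
  let J' := resConv ℬ ℬ J
  have hI : ∀ i, i ≠ r → Subsingleton (I'.H a i) := fun i hi =>
    Groth.Agent.Lib.Helper11.GrCMGlob.subsingleton_H_of_ne_dim (conv 𝒜) (hpos_conv 𝒜 hposR) a hlocR
      r hr I' i hi
  have hJ : ∀ j, j ≠ s → Subsingleton (J'.H b j) := fun j hj =>
    Groth.Agent.Lib.Helper11.GrCMGlob.subsingleton_H_of_ne_dim (conv ℬ) (hpos_conv ℬ hposS) b hlocS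
      s hs J' j hj
  obtain ⟨IT⟩ := nonempty_starInjRes (conv 𝒯) (conv 𝒯)
  have hT : ∀ i, i ≠ r + s - 1 → Subsingleton (IT.H mT i) := fun i hi =>
    Groth.Agent.Lib.Helper11.GrCMGlob.subsingleton_H_of_ne_dim (conv 𝒯) (hpos_conv 𝒯 hposT) mT hlocT
      (r + s - 1) hdimT IT i hi
  -- heights
  have hhtR : a.toIdeal.height = r := by
    have := ringKrullDim_eq_height (conv 𝒜) (hpos_conv 𝒜 hposR) hlocR
    rw [hr] at this
    exact_mod_cast this.symm
  have hhtS : b.toIdeal.height = s := by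
    have := ringKrullDim_eq_height (conv ℬ) (hpos_conv ℬ hposS) hlocS
    rw [hs] at this
    exact_mod_cast this.symm
  -- the module structures
  letI : Module k (I'.H a r) := Module.compHom _ (algebraMap k R)
  haveI : IsScalarTower k R (I'.H a r) := IsScalarTower.of_algebraMap_smul (fun r x => rfl)
  letI : Module k (J'.H b s) := Module.compHom _ (algebraMap k S)
  haveI : IsScalarTower k S (J'.H b s) := IsScalarTower.of_algebraMap_smul (fun r x => rfl)
  -- the pairings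
  obtain ⟨c, hc, βR, hβR⟩ := exists_gdual_top_of_gorenstein (isBase_conv 𝒜 h0R)
    (hpos_conv 𝒜 hposR) a hmR hlocR r hhtR I'
  obtain ⟨c', hc', βS, hβS⟩ := exists_gdual_top_of_gorenstein (isBase_conv ℬ h0S)
    (hpos_conv ℬ hposS) b hmS hlocS s hhtS J'
  have hcc : c = c' := by
    have h1 : cc c = cc c' := by
      rw [← hc, ← hc']
      exact haeq
    have h2 : ((c : WithTop ℤ) : WithBot (WithTop ℤ)) = ((c' : WithTop ℤ) : WithBot (WithTop ℤ)) :=
      h1
    exact_mod_cast h2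
  subst hcc
  letI dR : DirectSum.Decomposition (I'.Hgr a r) :=
    (Hgr_isInternal (conv 𝒜) (conv 𝒜) I' a r).chooseDecomposition
  letI dS : DirectSum.Decomposition (J'.Hgr b s) :=
    (Hgr_isInternal (conv ℬ) (conv ℬ) J' b s).chooseDecomposition
  letI : DirectSum.Decomposition (shiftGr (I'.Hgr a r) c) := shiftDecomposition _ c
  letI : DirectSum.Decomposition (shiftGr (J'.Hgr b s) c) := shiftDecomposition _ c
  exact isGorensteinRing_segre_of_gdual 𝒯 hseg a b mT hmR hmS rfl hlocT I' J' IT r s h2r h2s hI hJ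
    (r + s - 1) (by omega) hT c βR (hβR _) βS (hβS _)
    (fun n => finite_piece_conv 𝒜 hposR h0R n) (fun n => finite_piece_conv ℬ hposS h0S n)

end Groth.Agent.Lib.Helper11.Seg
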