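import Groth.Agent.Lib.Helper11.GrKunC
import Groth.Agent.Lib.Helper11.GrSegRowD
import Groth.Agent.Lib.Helper11.GrCanE
import Groth.Agent.Lib.Helper20.SegreMod
import Groth.Agent.Lib.Helper20.GradedNN

/-!
# The canonical module of a Segre product: `K_T = K_R # K_S`
-/

set_option autoImplicit false
set_option linter.unusedSectionVars false
set_option linter.unusedVariables false
set_option linter.style.haveILetI false
set_option maxHeartbeats 1000000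
universe u

open scoped TensorProduct

namespace Groth.Agent.Lib.Helper11.GrCan

open DirectSum GrLC GrSeg Groth.Agent.Lib.Helper11.GrLCLib Groth.Agent.Lib.Helper11.GrDual
  Groth.Agent.Lib.Helper11.GrExt Groth.Agent.Lib.Helper11.GrField

variable {R : Type u} [CommRing R] {𝒜 : ℤ → AddSubgroup R} [GradedRing 𝒜]
variable {k : Type u} [Field k] [Algebra k R] (hk : IsBase 𝒜 k)
variable {E' : Type u} [AddCommGroup E'] [Module R E'] [Module k E'] [IsScalarTower k R E']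
  (𝓔 : ℤ → AddSubgroup E') [DirectSum.Decomposition 𝓔] [SetLike.GradedSMul 𝒜 𝓔]
variable {C : Type u} [AddCommGroup C] [Module R C] [Module k C] [IsScalarTower k R C]
  (𝒞 : ℤ → AddSubgroup C) [DirectSum.Decomposition 𝒞] [SetLike.GradedSMul 𝒜 𝒞]

attribute [local instance] subKGradedAlgebra

include hk in
/-- The top graded local cohomology is a graded dual of a *canonical module. -/
theorem exists_pairing_canonical_flip [IsNoetherianRing R] [Nontrivial R]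
    (hpos : ∀ n : ℤ, n < 0 → 𝒜 n = ⊥) (m : HomogeneousIdeal 𝒜) [hmax : m.toIdeal.IsMaximal]
    (hmsp : m.toIdeal = Ideal.span (⋃ n ∈ Set.Ioi (0 : ℤ), (𝒜 n : Set R)))
    (e : (R ⧸ m.toIdeal) →ₗ[R] E') (he : IsStarInjHull 𝒜 (quotGr 𝒜 m) 𝓔 e)
    (n : ℕ) (I : StarInjRes 𝒜 𝒜) [Module k (I.H m n)] [IsScalarTower k R (I.H m n)]
    [DirectSum.Decomposition (I.Hgr m n)] (hC : IsStarCanonical 𝒜 𝒞 𝓔 m n I) :
    ∃ γ : I.H m n →ₗ[k] C →ₗ[k] k, IsGDual R 𝒞 (I.Hgr m n) γ := by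
  obtain ⟨β, hβ⟩ := exists_pairing_canonical hk 𝓔 𝒞 hpos m hmsp e he n I hC
  haveI : SetLike.GradedSMul 𝒜 (I.Hgr m n) := Hgr_gradedSMul I m n
  haveI : SetLike.GradedSMul (subK hk) (I.Hgr m n) := gradedSMul_K hk (I.Hgr m n)
  haveI : SetLike.GradedSMul (subK hk) 𝒞 := gradedSMul_K hk 𝒞
  haveI : IsArtinian R (I.H m n) := isArtinian_H hk m n I
  exact ⟨β.flip, isGDual_flip (subK hk) hβ (fun j =>
    finite_compK_of_isArtinian (subK hk) (I.Hgr m n) (subK_neg hk hpos) (subK_zero hk) j)⟩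

end Groth.Agent.Lib.Helper11.GrCan

namespace Groth.Agent.Lib.Helper11.Seg

open DirectSum GrLC Groth.Agent.Lib.Helper11.GrLCLib Groth.Agent.Lib.Helper11.GrLes
  Groth.Agent.Lib.Helper11.GrComp Groth.Agent.Lib.Helper11.GrVer Groth.Agent.Lib.Helper11.GrMV
  Groth.Agent.Lib.Helper11.GrConv

section Top

variable {k : Type u} [Field k] {R S T : Type u} [CommRing R] [CommRing S] [CommRing T]
  [Algebra k R] [Algebra k S] [Algebra k T]
variable {𝒜 : ℤ → AddSubgroup R} [GradedRing 𝒜] {ℬ : ℤ → AddSubgroup S} [GradedRing ℬ]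
  [IsKAlgGr k 𝒜] [IsKAlgGr k ℬ]
variable {𝒯 : ℤ → AddSubgroup T} [GradedRing 𝒯] {ψ : T →ₐ[k] R ⊗[k] S}
variable [IsNoetherianRing R] [IsNoetherianRing S] [IsNoetherianRing (R ⊗[k] S)]
variable {M N P : Type u} [AddCommGroup M] [Module R M] [Module k M] [IsScalarTower k R M]
  [AddCommGroup N] [Module S N] [Module k N] [IsScalarTower k S N]
  [AddCommGroup P] [Module T P] [Module k P] [IsScalarTower k T P]
variable {ℳ : ℤ → AddSubgroup M} [DirectSum.Decomposition ℳ] [SetLike.GradedSMul 𝒜 ℳ] [IsKGr k ℳ]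
  {𝒩 : ℤ → AddSubgroup N} [DirectSum.Decomposition 𝒩] [SetLike.GradedSMul ℬ 𝒩] [IsKGr k 𝒩]
  {𝒬 : ℤ → AddSubgroup P} [DirectSum.Decomposition 𝒬] [SetLike.GradedSMul 𝒯 𝒬]

/-- **The top local cohomology of a Segre product is the Segre product of the top local
cohomologies** (general case), in the form of a Segre module presentation, without shift. -/
theorem exists_isSegreMod_top0 (h : IsSeg 𝒜 ℬ 𝒯 ψ) (m : HomogeneousIdeal 𝒜)
    (n : HomogeneousIdeal ℬ) (mT : HomogeneousIdeal 𝒯) (hm : m.toIdeal = irrI 𝒜)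
    (hn : n.toIdeal = irrI ℬ) (hmT : mT.toIdeal = irrI 𝒯)
    {φ : P →ₗ[k] M ⊗[k] N} (hP : GrSeg.IsSegreMod ψ ℳ 𝒩 𝒬 φ)
    (EM : StarInjRes 𝒜 ℳ) (EN : StarInjRes ℬ 𝒩) (EP : StarInjRes 𝒯 𝒬) (r s : ℕ)
    (h2r : 2 ≤ r) (h2s : 2 ≤ s) (hcd : CdLE (extL (k := k) 𝒜 ℬ m) r)
    (hM : ∀ i, r < i → Subsingleton (EM.H m i)) (hN : ∀ j, s < j → Subsingleton (EN.H n j))
    [Module k (EM.H m r)] [IsScalarTower k R (EM.H m r)]
    [Module k (EN.H n s)] [IsScalarTower k S (EN.H n s)]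
    (q : ℕ) (hq : q + 1 = r + s)
    [Module k (EP.H mT q)] [IsScalarTower k T (EP.H mT q)]
    [DirectSum.Decomposition (EP.Hgr mT q)] :
    ∃ φ' : EP.H mT q →ₗ[k] (EM.H m r) ⊗[k] (EN.H n s),
      GrSeg.IsSegreMod ψ (EM.Hgr m r) (EN.Hgr n s) (EP.Hgr mT q) φ' := by
  obtain ⟨Λ, hΛi, hΛ, hΛ'⟩ :=
    top_cmp' h m n mT hm hn hmT hP EM EN EP r s h2r h2s hcd hM hN q hq
  let φ' : EP.H mT q →ₗ[k] (EM.H m r) ⊗[k] (EN.H n s) :=
    { toFun := fun x => Λ x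
      map_add' := fun x y => map_add Λ x y
      map_smul' := fun a x => by
        rw [← algebraMap_smul T a x, map_smulₛₗ]
        change (ψ (algebraMap k T a)) • Λ x = _
        rw [AlgHom.commutes, algebraMap_smul]
        rfl }
  refine ⟨φ', hΛi, ?_, ?_⟩
  · intro d
    ext y
    constructor
    · rintro ⟨x, hx, rfl⟩
      exact hΛ d x hx
    · intro hy
      obtain ⟨x, hx, hxy⟩ := hΛ' d y hy
      exact ⟨x, hx, hxy⟩
  · intro t p
    change Λ (t • p) = _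
    rw [map_smulₛₗ]
    rfl

end Top

attribute [local instance] convGradedRing

/-- **The canonical module of a Segre product** (statement level): `K_T = K_R # K_S`. -/
theorem segre_canonical (k : Type u) [Field k] (R : Type u) [CommRing R] [Algebra k R]
    (𝒜 : ℤ → Submodule k R) [GradedAlgebra 𝒜] (hposR : ∀ n : ℤ, n < 0 → 𝒜 n = ⊥)
    (h0R : 𝒜 0 = Submodule.span k {(1 : R)}) [Algebra.FiniteType k R]
    (S : Type u) [CommRing S] [Algebra k S] (ℬ : ℤ → Submodule k S) [GradedAlgebra ℬ]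
    (hposS : ∀ n : ℤ, n < 0 → ℬ n = ⊥) (h0S : ℬ 0 = Submodule.span k {(1 : S)})
    [Algebra.FiniteType k S]
    (T : Type u) [CommRing T] [Algebra k T] (𝒯 : ℤ → Submodule k T) [GradedAlgebra 𝒯]
    (ψ : T →ₐ[k] R ⊗[k] S) (hT : GrSeg.IsSegreRing 𝒜 ℬ 𝒯 ψ)
    (mR : HomogeneousIdeal 𝒜)
    (hmR : mR.toIdeal = Ideal.span (⋃ n ∈ Set.Ioi (0 : ℤ), (𝒜 n : Set R)))
    (I : GrLC.StarInjRes 𝒜 𝒜) (mS : HomogeneousIdeal ℬ)
    (hmS : mS.toIdeal = Ideal.span (⋃ n ∈ Set.Ioi (0 : ℤ), (ℬ n : Set S)))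
    (J : GrLC.StarInjRes ℬ ℬ) (mT : HomogeneousIdeal 𝒯)
    (hmT : mT.toIdeal = Ideal.span (⋃ n ∈ Set.Ioi (0 : ℤ), (𝒯 n : Set T)))
    (IT : GrLC.StarInjRes 𝒯 𝒯) (r s : ℕ) (hr : ringKrullDim R = r) (hs : ringKrullDim S = s)
    (h2r : 2 ≤ r) (h2s : 2 ≤ s)
    (ER : Type u) [AddCommGroup ER] [Module R ER] (𝓔R : ℤ → AddSubgroup ER)
    [DirectSum.Decomposition 𝓔R] [SetLike.GradedSMul 𝒜 𝓔R]
    (eR : (R ⧸ mR.toIdeal) →ₗ[R] ER) (heR : GrLC.IsStarInjHull 𝒜 (GrLC.quotGr 𝒜 mR) 𝓔R eR)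
    (CR : Type u) [AddCommGroup CR] [Module R CR] [Module k CR] [IsScalarTower k R CR]
    (𝒞R : ℤ → AddSubgroup CR) [DirectSum.Decomposition 𝒞R] [SetLike.GradedSMul 𝒜 𝒞R]
    (hCR : GrLC.IsStarCanonical 𝒜 𝒞R 𝓔R mR r I)
    (ES : Type u) [AddCommGroup ES] [Module S ES] (𝓔S : ℤ → AddSubgroup ES)
    [DirectSum.Decomposition 𝓔S] [SetLike.GradedSMul ℬ 𝓔S]
    (eS : (S ⧸ mS.toIdeal) →ₗ[S] ES) (heS : GrLC.IsStarInjHull ℬ (GrLC.quotGr ℬ mS) 𝓔S eS)
    (CS : Type u) [AddCommGroup CS] [Module S CS] [Module k CS] [IsScalarTower k S CS]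
    (𝒞S : ℤ → AddSubgroup CS) [DirectSum.Decomposition 𝒞S] [SetLike.GradedSMul ℬ 𝒞S]
    (hCS : GrLC.IsStarCanonical ℬ 𝒞S 𝓔S mS s J)
    (ET : Type u) [AddCommGroup ET] [Module T ET] (𝓔T : ℤ → AddSubgroup ET)
    [DirectSum.Decomposition 𝓔T] [SetLike.GradedSMul 𝒯 𝓔T]
    (eT : (T ⧸ mT.toIdeal) →ₗ[T] ET) (heT : GrLC.IsStarInjHull 𝒯 (GrLC.quotGr 𝒯 mT) 𝓔T eT)
    (P : Type u) [AddCommGroup P] [Module T P] [Module k P] [IsScalarTower k T P]
    (𝒬 : ℤ → AddSubgroup P) [DirectSum.Decomposition 𝒬] [SetLike.GradedSMul 𝒯 𝒬]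
    (φ : P →ₗ[k] CR ⊗[k] CS) (hP : GrSeg.IsSegreMod ψ 𝒞R 𝒞S 𝒬 φ) :
    GrLC.IsStarCanonical 𝒯 𝒬 𝓔T mT (r + s - 1) IT := by
  obtain ⟨hψ, hdegT⟩ := hT
  haveI : IsNoetherianRing R := Algebra.FiniteType.isNoetherianRing k R
  haveI : IsNoetherianRing S := Algebra.FiniteType.isNoetherianRing k S
  haveI : IsNoetherianRing (R ⊗[k] S) := noetherian_tensor (k := k) (R := R) (S := S)
  haveI : Nontrivial R := nontrivial_of_ringKrullDim r hr
  haveI : Nontrivial S := nontrivial_of_ringKrullDim s hs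
  haveI : IsKAlgGr k (conv 𝒜) := isKAlgGr_conv 𝒜
  haveI : IsKAlgGr k (conv ℬ) := isKAlgGr_conv ℬ
  have hseg : IsSeg (conv 𝒜) (conv ℬ) (conv 𝒯) ψ := isSeg_conv hψ hdegT
  haveI : IsNoetherianRing T := hseg.isVerRing.isNoetherianRing
  have hdimT := Groth.Agent.Lib.Helper20.SegreDim.ringKrullDim_segre 𝒜 ℬ 𝒯 ψ hψ hdegT hposR h0R
    hposS h0S r s hr hs (by omega) (by omega)
  haveI : Nontrivial T := nontrivial_of_ringKrullDim (r + s - 1) hdimT
  have hposT := Groth.Agent.Lib.Helper20.SegreDim.hposT 𝒜 ℬ 𝒯 ψ hψ hdegT hposR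
  have h0T := Groth.Agent.Lib.Helper20.SegreDim.h0T 𝒜 ℬ 𝒯 ψ hψ hdegT h0R h0S
  -- finiteness
  haveI : Module.Finite R CR := hCR.1
  haveI : Module.Finite S CS := hCS.1
  haveI : IsNoetherian T P :=
    Groth.Agent.Lib.Helper20.SegreMod.isNoetherian_segre (𝒜 := 𝒜) (ℬ := ℬ) (𝒯 := 𝒯)
      ⟨hψ, hdegT⟩ hP
  haveI : Module.Finite T P := inferInstance
  haveI : IsNoetherian R CR := isNoetherian_of_isNoetherianRing_of_finite R CR
  haveI : IsNoetherian S CS := isNoetherian_of_isNoetherianRing_of_finite S CS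
  -- conversions
  let a := hidealConv 𝒜 mR
  let b := hidealConv ℬ mS
  let c := hidealConv 𝒯 mT
  let I' := resConv 𝒜 𝒜 I
  let J' := resConv ℬ ℬ J
  let IT' := resConv 𝒯 𝒯 IT
  haveI : a.toIdeal.IsMaximal := by
    change mR.toIdeal.IsMaximal
    rw [hmR]
    exact Groth.Agent.Lib.Helper20.GradedNN.irr_isMaximal 𝒜 hposR h0R
  haveI : b.toIdeal.IsMaximal := by
    change mS.toIdeal.IsMaximal
    rw [hmS]
    exact Groth.Agent.Lib.Helper20.GradedNN.irr_isMaximal ℬ hposS h0S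
  -- systems of parameters
  obtain ⟨NR, θR, hNR, hθR, hradR⟩ :=
    Groth.Agent.Lib.Helper20.GradedNN.exists_hsop 𝒜 hposR h0R r hr.le
  obtain ⟨NS, θS, hNS, hθS, hradS⟩ :=
    Groth.Agent.Lib.Helper20.GradedNN.exists_hsop ℬ hposS h0S s hs.le
  have hθa : ∀ j, θR j ∈ a.toIdeal := by
    intro j
    change θR j ∈ mR.toIdeal
    rw [hmR]
    exact Ideal.subset_span (Set.mem_biUnion (Set.mem_Ioi.mpr (by exact_mod_cast hNR)) (hθR j))
  have hθb : ∀ j, θS j ∈ b.toIdeal := by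
    intro j
    change θS j ∈ mS.toIdeal
    rw [hmS]
    exact Ideal.subset_span (Set.mem_biUnion (Set.mem_Ioi.mpr (by exact_mod_cast hNS)) (hθS j))
  have hrada : a.toIdeal ≤ (Ideal.span (Set.range θR)).radical := by
    change mR.toIdeal ≤ _
    rw [hmR]
    exact hradR
  have hradb : b.toIdeal ≤ (Ideal.span (Set.range θS)).radical := by
    change mS.toIdeal ≤ _
    rw [hmS]
    exact hradS
  have hcdL : CdLE (extL (k := k) (conv 𝒜) (conv ℬ) a) r :=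
    cdLE_extL (conv 𝒜) (conv ℬ) a θR hθa hrada
  have hM : ∀ i, r < i → Subsingleton (I'.H a i) := fun i hi =>
    cdLE_of_fin a θR hθa hrada R (conv 𝒜) I' i hi
  have hN : ∀ j, s < j → Subsingleton (J'.H b j) := fun j hj =>
    cdLE_of_fin b θS hθb hradb S (conv ℬ) J' j hj
  -- the module structures
  letI : Module k (I'.H a r) := Module.compHom _ (algebraMap k R)
  haveI : IsScalarTower k R (I'.H a r) := IsScalarTower.of_algebraMap_smul (fun r x => rfl)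
  letI : Module k (J'.H b s) := Module.compHom _ (algebraMap k S)
  haveI : IsScalarTower k S (J'.H b s) := IsScalarTower.of_algebraMap_smul (fun r x => rfl)
  letI : Module k (IT'.H c (r + s - 1)) := Module.compHom _ (algebraMap k T)
  haveI : IsScalarTower k T (IT'.H c (r + s - 1)) :=
    IsScalarTower.of_algebraMap_smul (fun r x => rfl)
  letI : Module k ER := Module.compHom _ (algebraMap k R)
  haveI : IsScalarTower k R ER := IsScalarTower.of_algebraMap_smul (fun r x => rfl)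
  letI : Module k ES := Module.compHom _ (algebraMap k S)
  haveI : IsScalarTower k S ES := IsScalarTower.of_algebraMap_smul (fun r x => rfl)
  letI : Module k ET := Module.compHom _ (algebraMap k T)
  haveI : IsScalarTower k T ET := IsScalarTower.of_algebraMap_smul (fun r x => rfl)
  letI dR : DirectSum.Decomposition (I'.Hgr a r) :=
    (Hgr_isInternal (conv 𝒜) (conv 𝒜) I' a r).chooseDecomposition
  letI dS : DirectSum.Decomposition (J'.Hgr b s) :=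
    (Hgr_isInternal (conv ℬ) (conv ℬ) J' b s).chooseDecomposition
  letI dT : DirectSum.Decomposition (IT'.Hgr c (r + s - 1)) :=
    (Hgr_isInternal (conv 𝒯) (conv 𝒯) IT' c (r + s - 1)).chooseDecomposition
  haveI : SetLike.GradedSMul (conv 𝒜) 𝓔R := convGradedSMul_left 𝒜 𝓔R
  haveI : SetLike.GradedSMul (conv ℬ) 𝓔S := convGradedSMul_left ℬ 𝓔S
  haveI : SetLike.GradedSMul (conv 𝒯) 𝓔T := convGradedSMul_left 𝒯 𝓔T
  haveI : SetLike.GradedSMul (conv 𝒜) 𝒞R := convGradedSMul_left 𝒜 𝒞R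
  haveI : SetLike.GradedSMul (conv ℬ) 𝒞S := convGradedSMul_left ℬ 𝒞S
  haveI : SetLike.GradedSMul (conv 𝒯) 𝒬 := convGradedSMul_left 𝒯 𝒬
  haveI : IsKGr k 𝒞R := isKGr_of_gradedSMul (conv 𝒜) 𝒞R
  haveI : IsKGr k 𝒞S := isKGr_of_gradedSMul (conv ℬ) 𝒞S
  haveI : SetLike.GradedSMul (conv 𝒜) (I'.Hgr a r) := Hgr_gradedSMul I' a r
  haveI : SetLike.GradedSMul (conv ℬ) (J'.Hgr b s) := Hgr_gradedSMul J' b s
  haveI : IsKGr k (I'.Hgr a r) := isKGr_of_gradedSMul (conv 𝒜) _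
  haveI : IsKGr k (J'.Hgr b s) := isKGr_of_gradedSMul (conv ℬ) _
  -- the pairings
  obtain ⟨γR, hγR⟩ := Groth.Agent.Lib.Helper11.GrCan.exists_pairing_canonical_flip
    (isBase_conv 𝒜 h0R) 𝓔R 𝒞R (hpos_conv 𝒜 hposR) a hmR eR (isStarInjHull_conv 𝒜 𝓔R heR) r I'
    (isStarCanonical_conv 𝒜 𝓔R 𝒞R mR r I hCR)
  obtain ⟨γS, hγS⟩ := Groth.Agent.Lib.Helper11.GrCan.exists_pairing_canonical_flip
    (isBase_conv ℬ h0S) 𝓔S 𝒞S (hpos_conv ℬ hposS) b hmS eS (isStarInjHull_conv ℬ 𝓔S heS) s J'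
    (isStarCanonical_conv ℬ 𝓔S 𝒞S mS s J hCS)
  -- the top local cohomology of `T`
  obtain ⟨φ', hφ'⟩ := exists_isSegreMod_top0 hseg a b c hmR hmS hmT hseg.isSegreMod_self I' J' IT'
    r s h2r h2s hcdL hM hN (r + s - 1) (by omega)
  have hfM : ∀ n, Module.Finite k (subK k 𝒞R n) := by
    intro n
    haveI := Groth.Agent.Lib.Helper11.GrDual.finite_compK_of_isNoetherian 𝒜 𝒞R hposR h0R n
    have heq : Groth.Agent.Lib.Helper11.GrDual.compK 𝒜 𝒞R n = subK k 𝒞R n :=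
      Submodule.ext (fun x => Iff.rfl)
    exact Module.Finite.equiv (LinearEquiv.ofEq _ _ heq)
  have hfN : ∀ n, Module.Finite k (subK k 𝒞S n) := by
    intro n
    haveI := Groth.Agent.Lib.Helper11.GrDual.finite_compK_of_isNoetherian ℬ 𝒞S hposS h0S n
    have heq : Groth.Agent.Lib.Helper11.GrDual.compK ℬ 𝒞S n = subK k 𝒞S n :=
      Submodule.ext (fun x => Iff.rfl)
    exact Module.Finite.equiv (LinearEquiv.ofEq _ _ heq)
  have hdual := isGDual_segre hγR hγS hfM hfN hP hφ'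
  obtain ⟨hfin, α, hα⟩ := Groth.Agent.Lib.Helper11.GrCan.isStarCanonical_of_isGDual
    (isBase_conv 𝒯 h0T) 𝓔T 𝒬 (hpos_conv 𝒯 hposT) c hmT eT (isStarInjHull_conv 𝒯 𝓔T heT)
    (r + s - 1) IT' hdual
  exact ⟨hfin, α, hα⟩

end Groth.Agent.Lib.Helper11.Seg
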