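import Groth.Agent.Lib.Helper11.GrLDE
import Groth.Agent.Lib.Helper11.GrLDF
import Groth.Agent.Lib.Helper11.GrLDH
import Groth.Agent.Lib.Helper11.GrSegCanA
import Groth.Agent.Lib.Helper11.GrHilbB
import Groth.Agent.Lib.Helper11.GrVanA

/-!
# The canonical module of a finite graded algebra over a Cohen–Macaulay graded ring

`K_S ≅ Ext^{dim R - dim S}_R(S, K_R)`.
-/

set_option autoImplicit false
set_option linter.unusedSectionVars false
set_option linter.unusedVariables false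
set_option linter.style.haveILetI false
set_option maxHeartbeats 2000000
universe u

namespace Groth.Agent.Lib.Helper11.GrLD

open DirectSum GrLC GrSeg Groth.Agent.Lib.Helper11.GrLCLib Groth.Agent.Lib.Helper11.GrLes
  Groth.Agent.Lib.Helper11.GrExt Groth.Agent.Lib.Helper11.GrField Groth.Agent.Lib.Helper11.GrDual
  Groth.Agent.Lib.Helper11.GrCan Groth.Agent.Lib27.LD

attribute [local instance] kModH isScalarTower_kModH HDec rModCarrier isScalarTower_rModCarrier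
  subKGradedAlgebra

section General

variable {R : Type u} [CommRing R] [LocCoh.IsCohenMacaulayRing R] {𝒜 : ℤ → AddSubgroup R}
  [GradedRing 𝒜]
variable {S : Type u} [CommRing S] [IsNoetherianRing S] [Algebra R S] [Module.Finite R S]
  {𝒜' : ℤ → AddSubgroup S} [GradedRing 𝒜']
variable {k : Type u} [Field k] [Algebra k R] [Algebra k S] [IsScalarTower k R S]

theorem canonical_equiv_ext_of_isBase (hk : IsBase 𝒜 k) (hk' : IsBase 𝒜' k) [Nontrivial R]
    [Nontrivial S]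
    (hpos : ∀ n : ℤ, n < 0 → 𝒜 n = ⊥) (m : HomogeneousIdeal 𝒜) (hm : IsStarLocal 𝒜 m)
    (hmsp : m.toIdeal = Ideal.span (⋃ n ∈ Set.Ioi (0 : ℤ), (𝒜 n : Set R))) (n : ℕ)
    (hn : ringKrullDim R = n) (I : StarInjRes 𝒜 𝒜)
    {E' : Type u} [AddCommGroup E'] [Module R E'] [Module k E'] [IsScalarTower k R E']
    (𝓔 : ℤ → AddSubgroup E') [DirectSum.Decomposition 𝓔] [SetLike.GradedSMul 𝒜 𝓔]
    (e : (R ⧸ m.toIdeal) →ₗ[R] E') (he : IsStarInjHull 𝒜 (quotGr 𝒜 m) 𝓔 e)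
    {C : Type u} [AddCommGroup C] [Module R C] [Module k C] [IsScalarTower k R C]
    (𝒞 : ℤ → AddSubgroup C) [DirectSum.Decomposition 𝒞] [SetLike.GradedSMul 𝒜 𝒞]
    (hC : IsStarCanonical 𝒜 𝒞 𝓔 m n I)
    (hf : ∀ j : ℤ, (𝒜 j).map (algebraMap R S : R →+ S) ≤ 𝒜' j)
    (hpos' : ∀ j : ℤ, j < 0 → 𝒜' j = ⊥) (m' : HomogeneousIdeal 𝒜') (hm' : IsStarLocal 𝒜' m')
    (hm'sp : m'.toIdeal = Ideal.span (⋃ j ∈ Set.Ioi (0 : ℤ), (𝒜' j : Set S))) (n' : ℕ)
    (hn' : ringKrullDim S = n') (I' : StarInjRes 𝒜' 𝒜')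
    {E'' : Type u} [AddCommGroup E''] [Module S E''] [Module k E''] [IsScalarTower k S E'']
    (𝓔'' : ℤ → AddSubgroup E'') [DirectSum.Decomposition 𝓔''] [SetLike.GradedSMul 𝒜' 𝓔'']
    (e' : (S ⧸ m'.toIdeal) →ₗ[S] E'') (he' : IsStarInjHull 𝒜' (quotGr 𝒜' m') 𝓔'' e')
    {C' : Type u} [AddCommGroup C'] [Module S C'] [Module R C'] [IsScalarTower R S C']
    [Module k C'] [IsScalarTower k S C'] [IsScalarTower k R C']
    (𝒞' : ℤ → AddSubgroup C') [DirectSum.Decomposition 𝒞'] [SetLike.GradedSMul 𝒜' 𝒞']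
    (hC' : IsStarCanonical 𝒜' 𝒞' 𝓔'' m' n' I') :
    Nonempty (C' ≃ₗ[R] CategoryTheory.Abelian.Ext.{u} (ModuleCat.of R S) (ModuleCat.of R C)
      (n - n')) := by
  classical
  haveI : IsNoetherianRing R := inferInstance
  haveI hmax : m.toIdeal.IsMaximal := isMaximal_of_isCoatom 𝒜 hpos hm.1
  haveI hmax' : m'.toIdeal.IsMaximal := isMaximal_of_isCoatom 𝒜' hpos' hm'.1
  haveI : Algebra.IsIntegral R S := inferInstance
  -- heights and dimensions
  have hht : m.toIdeal.height = n := by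
    have h1 := ringKrullDim_eq_height 𝒜 hpos hm
    rw [hn] at h1
    have h2 : ((n : ℕ∞) : WithBot ℕ∞) = ((m.toIdeal.height : ℕ∞) : WithBot ℕ∞) := by
      exact_mod_cast h1
    exact_mod_cast h2.symm
  have hn'n : n' ≤ n := by
    have h1 := Groth.Agent.Lib.Helper12.ringKrullDim_le_of_isIntegral R S
    rw [hn, hn'] at h1
    exact_mod_cast h1
  have hhigh : ∀ (X : Type u) [AddCommGroup X] [Module R X] (𝒳 : ℤ → AddSubgroup X)
      [DirectSum.Decomposition 𝒳] [SetLike.GradedSMul 𝒜 𝒳] (EX : StarInjRes 𝒜 𝒳) (i : ℕ),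
      n < i → Subsingleton (EX.H m i) := fun X _ _ 𝒳 _ _ EX i hi =>
    Groth.Agent.Lib.Helper11.GrVan.subsingleton_H_of_height_lt hm.1 EX n hht i hi
  have hlow : ∀ i : ℕ, i < n → Subsingleton (I.H m i) := fun i hi =>
    subsingleton_H_of_lt_height 𝒜 m hmax I n (le_of_eq hht.symm) i hi
  -- the pairings
  obtain ⟨γ, hγ⟩ := exists_pairing_canonical_flip hk 𝓔 𝒞 hpos m hmsp e he n I hC
  obtain ⟨γ', hγ'⟩ := exists_pairing_canonical_flip hk' 𝓔'' 𝒞' hpos' m' hm'sp e' he' n' I' hC'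
  -- the free resolution of `S` over `R`
  haveI : SetLike.GradedSMul 𝒜 𝒜' := gradedSMul_of_le hf 𝒜'
  obtain ⟨F⟩ := nonempty_freeRes 𝒜 𝒜'
  let G : StarInjRes 𝒜 𝒜' := starInjRes 𝒜 𝒜'
  obtain ⟨β, hβ⟩ := exists_pairing_ext 𝒞 F γ hk hhigh hlow hγ G (n - n') n'
    (Nat.sub_add_cancel hn'n)
  -- independence of the base
  have h1 : m.toIdeal.map (algebraMap R S) ≤ m'.toIdeal := by
    rw [hmsp, Ideal.map_span, Ideal.span_le]
    rintro _ ⟨r, hr, rfl⟩
    obtain ⟨j, hj, hrj⟩ := Set.mem_iUnion₂.mp hr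
    rw [hm'sp]
    apply Ideal.subset_span
    exact Set.mem_iUnion₂.mpr ⟨j, hj, algebraMap_mem_of_le hf hrj⟩
  obtain ⟨N, h2⟩ := Ideal.exists_pow_le_of_le_radical_of_fg
    (le_radical_map hf m hmax m' hm') (IsNoetherian.noetherian m'.toIdeal)
  have hgam : ∀ (X : GMod.{u} 𝒜') (x : X.carrier),
      x ∈ gam m.toIdeal X.carrier ↔ x ∈ gam m'.toIdeal X.carrier := fun X x =>
    mem_gam_iff_of_pow_le m.toIdeal m'.toIdeal h1 N h2 x
  obtain ⟨Φ, hΦ, hΦ'⟩ := exists_H_equiv_base hf m m' hgam I' G n'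
  -- scalar towers on `H' = I'.H m' n'`
  haveI hst : IsScalarTower k R (I'.H m' n') := by
    refine IsScalarTower.of_algebraMap_smul (fun c x => ?_)
    rw [← algebraMap_smul S (algebraMap k R c) x, ← IsScalarTower.algebraMap_apply]
    rfl
  have hβ' := isGDual_transport hβ Φ hΦ hΦ'
  have hγ'R : IsGDual (k := k) R 𝒞' (I'.Hgr m' n') γ' :=
    { map_smul := fun r d x => by
        rw [← algebraMap_smul S r d, ← algebraMap_smul S r x]
        exact hγ'.map_smul _ d x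
      vanish := hγ'.vanish
      eq_zero := hγ'.eq_zero
      exists_eq := hγ'.exists_eq }
  -- graded scalar multiplications
  haveI : SetLike.GradedSMul 𝒜 𝒞' := gradedSMul_of_le hf 𝒞'
  haveI : SetLike.GradedSMul 𝒜' (I'.Hgr m' n') := Hgr_gradedSMul I' m' n'
  haveI : SetLike.GradedSMul 𝒜 (I'.Hgr m' n') := gradedSMul_of_le hf (I'.Hgr m' n')
  haveI : SetLike.GradedSMul (subK hk) 𝒞' := gradedSMul_K hk 𝒞'
  haveI : SetLike.GradedSMul (subK hk) (I'.Hgr m' n') := gradedSMul_K hk (I'.Hgr m' n')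
  haveI : SetLike.GradedSMul (subK hk) (XGr 𝒞 F (n - n')) := gradedSMul_K hk (XGr 𝒞 F (n - n'))
  -- finiteness
  haveI : Module.Finite R C := hC.1
  haveI : Module.Finite S C' := hC'.1
  haveI : Module.Finite R C' := Module.Finite.trans S C'
  haveI : IsNoetherian R C' := isNoetherian_of_isNoetherianRing_of_finite R C'
  haveI : IsNoetherian R ((Fin (F.rk (n - n')) → R) →ₗ[R] C) :=
    isNoetherian_of_isNoetherianRing_of_finite R _
  haveI : IsNoetherian R (XExt (C := C) F (n - n')) := inferInstance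
  have hfin : ∀ j, Module.Finite k ↥(compK (subK hk) (XGr 𝒞 F (n - n')) j) := fun j =>
    finite_compK_of_isNoetherian (subK hk) (XGr 𝒞 F (n - n')) (subK_neg hk hpos) (subK_zero hk) j
  have hfin' : ∀ j, Module.Finite k ↥(compK (subK hk) 𝒞' j) := fun j =>
    finite_compK_of_isNoetherian (subK hk) 𝒞' (subK_neg hk hpos) (subK_zero hk) j
  obtain ⟨eX, -, -⟩ := exists_equiv_of_isGDual (subK hk) hβ' hγ'R hfin hfin'
  obtain ⟨eExt⟩ := nonempty_equiv_ext C F (n - n')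
  exact ⟨eX.trans eExt⟩

end General

end Groth.Agent.Lib.Helper11.GrLD
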