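import Groth.Agent.Lib.Helper11.GrLDI

/-!
# `K_S ≅ Ext^{dim R - dim S}_R(S, K_R)`: the statement over the degree-zero field
-/

set_option autoImplicit false
set_option linter.unusedSectionVars false
set_option linter.unusedVariables false
set_option linter.style.haveILetI false
set_option maxHeartbeats 2000000
universe u

namespace Groth.Agent.Lib.Helper11.GrLD

open DirectSum GrLC Groth.Agent.Lib.Helper11.GrLCLib Groth.Agent.Lib.Helper11.GrField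
  Groth.Agent.Lib.Helper11.GrHilb

theorem canonical_equiv_ext (R : Type u) [CommRing R] [LocCoh.IsCohenMacaulayRing R]
    (𝒜 : ℤ → AddSubgroup R) [GradedRing 𝒜] (hpos : ∀ n : ℤ, n < 0 → 𝒜 n = ⊥)
    (h0 : IsField (GrLC.deg0 𝒜)) (m : HomogeneousIdeal 𝒜) (hm : GrLC.IsStarLocal 𝒜 m)
    (hmsp : m.toIdeal = Ideal.span (⋃ n ∈ Set.Ioi (0 : ℤ), (𝒜 n : Set R))) (n : ℕ)
    (hn : ringKrullDim R = n) (I : GrLC.StarInjRes 𝒜 𝒜) (E' : Type u) [AddCommGroup E']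
    [Module R E'] (𝓔 : ℤ → AddSubgroup E') [DirectSum.Decomposition 𝓔] [SetLike.GradedSMul 𝒜 𝓔]
    (e : (R ⧸ m.toIdeal) →ₗ[R] E') (he : GrLC.IsStarInjHull 𝒜 (GrLC.quotGr 𝒜 m) 𝓔 e)
    (C : Type u) [AddCommGroup C] [Module R C] (𝒞 : ℤ → AddSubgroup C)
    [DirectSum.Decomposition 𝒞] [SetLike.GradedSMul 𝒜 𝒞]
    (hC : GrLC.IsStarCanonical 𝒜 𝒞 𝓔 m n I) (S : Type u) [CommRing S] [IsNoetherianRing S]
    [Algebra R S] [Module.Finite R S] (𝒜' : ℤ → AddSubgroup S) [GradedRing 𝒜']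
    (hf : ∀ j : ℤ, (𝒜 j).map (algebraMap R S : R →+ S) ≤ 𝒜' j)
    (hf0 : (𝒜 0).map (algebraMap R S : R →+ S) = 𝒜' 0) (hpos' : ∀ j : ℤ, j < 0 → 𝒜' j = ⊥)
    (h0' : IsField (GrLC.deg0 𝒜')) (m' : HomogeneousIdeal 𝒜') (hm' : GrLC.IsStarLocal 𝒜' m')
    (hm'sp : m'.toIdeal = Ideal.span (⋃ j ∈ Set.Ioi (0 : ℤ), (𝒜' j : Set S))) (n' : ℕ)
    (hn' : ringKrullDim S = n') (I' : GrLC.StarInjRes 𝒜' 𝒜') (E'' : Type u) [AddCommGroup E'']
    [Module S E''] (𝓔'' : ℤ → AddSubgroup E'') [DirectSum.Decomposition 𝓔'']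
    [SetLike.GradedSMul 𝒜' 𝓔''] (e' : (S ⧸ m'.toIdeal) →ₗ[S] E'')
    (he' : GrLC.IsStarInjHull 𝒜' (GrLC.quotGr 𝒜' m') 𝓔'' e') (C' : Type u) [AddCommGroup C']
    [Module S C'] [Module R C'] [IsScalarTower R S C'] (𝒞' : ℤ → AddSubgroup C')
    [DirectSum.Decomposition 𝒞'] [SetLike.GradedSMul 𝒜' 𝒞']
    (hC' : GrLC.IsStarCanonical 𝒜' 𝒞' 𝓔'' m' n' I') :
    Nonempty (C' ≃ₗ[R] CategoryTheory.Abelian.Ext.{u} (ModuleCat.of R S) (ModuleCat.of R C)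
      (n - n')) := by
  classical
  letI : Field (GrLC.deg0 𝒜) := h0.toField
  letI : Algebra (GrLC.deg0 𝒜) R := (GrLC.deg0 𝒜).subtype.toAlgebra
  have hk : IsBase 𝒜 (GrLC.deg0 𝒜) := isBase_deg0 h0
  haveI : Nontrivial R := nontrivial_of_isField_deg0 h0
  haveI : Nontrivial S := nontrivial_of_isField_deg0 h0'
  letI : Algebra (GrLC.deg0 𝒜) S :=
    ((algebraMap R S).comp (algebraMap (GrLC.deg0 𝒜) R)).toAlgebra
  haveI : IsScalarTower (GrLC.deg0 𝒜) R S := IsScalarTower.of_algebraMap_eq (fun _ => rfl)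
  have hk' : IsBase 𝒜' (GrLC.deg0 𝒜) := by
    intro x
    constructor
    · intro hx
      rw [← hf0] at hx
      obtain ⟨r, hr, rfl⟩ := hx
      exact ⟨⟨r, hr⟩, rfl⟩
    · rintro ⟨c, rfl⟩
      rw [← hf0]
      exact ⟨c.1, c.2, rfl⟩
  letI : Module (GrLC.deg0 𝒜) E' := Module.compHom E' (algebraMap (GrLC.deg0 𝒜) R)
  haveI : IsScalarTower (GrLC.deg0 𝒜) R E' := IsScalarTower.of_algebraMap_smul (fun _ _ => rfl)
  letI : Module (GrLC.deg0 𝒜) C := Module.compHom C (algebraMap (GrLC.deg0 𝒜) R)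
  haveI : IsScalarTower (GrLC.deg0 𝒜) R C := IsScalarTower.of_algebraMap_smul (fun _ _ => rfl)
  letI : Module (GrLC.deg0 𝒜) E'' := Module.compHom E'' (algebraMap (GrLC.deg0 𝒜) S)
  haveI : IsScalarTower (GrLC.deg0 𝒜) S E'' := IsScalarTower.of_algebraMap_smul (fun _ _ => rfl)
  letI : Module (GrLC.deg0 𝒜) C' := Module.compHom C' (algebraMap (GrLC.deg0 𝒜) R)
  haveI : IsScalarTower (GrLC.deg0 𝒜) R C' := IsScalarTower.of_algebraMap_smul (fun _ _ => rfl)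
  haveI : IsScalarTower (GrLC.deg0 𝒜) S C' := by
    refine IsScalarTower.of_algebraMap_smul (fun c x => ?_)
    show algebraMap R S (algebraMap (GrLC.deg0 𝒜) R c) • x = algebraMap (GrLC.deg0 𝒜) R c • x
    rw [algebraMap_smul]
  exact canonical_equiv_ext_of_isBase hk hk' hpos m hm hmsp n hn I 𝓔 e he 𝒞 hC hf hpos' m' hm'
    hm'sp n' hn' I' 𝓔'' e' he' 𝒞' hC'

end Groth.Agent.Lib.Helper11.GrLD
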