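import Mathlib
import Groth.Prelude.Def_GrLC
import Groth.Agent.Lib.Helper11.GrLC
import Groth.Agent.Lib.Helper11.GrLCDecomp
import Groth.Agent.Lib.Helper11.GrLCSubQuot
import Groth.Agent.Lib.Helper11.GrLCCmp

/-!
# Products of graded modules, shifted resolutions and tails of resolutions
-/

set_option autoImplicit false
set_option linter.unusedSectionVars false
universe u

namespace Groth.Agent.Lib.Helper11.GrLes

open DirectSum GrLC Groth.Agent.Lib.Helper11.GrLCLib

section Prod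

variable {ι : Type} [DecidableEq ι] [AddCommGroup ι]
variable {R : Type u} [CommRing R] (𝒜 : ι → AddSubgroup R) [GradedRing 𝒜]
variable {X Y : Type u} [AddCommGroup X] [Module R X] [AddCommGroup Y] [Module R Y]
  (𝒳 : ι → AddSubgroup X) [DirectSum.Decomposition 𝒳] [SetLike.GradedSMul 𝒜 𝒳]
  (𝒴 : ι → AddSubgroup Y) [DirectSum.Decomposition 𝒴] [SetLike.GradedSMul 𝒜 𝒴]

/-- The pieces of a product. -/
def prodGr (g : ι) : AddSubgroup (X × Y) := (𝒳 g).prod (𝒴 g)

lemma mem_prodGr {g : ι} {p : X × Y} : p ∈ prodGr 𝒳 𝒴 g ↔ p.1 ∈ 𝒳 g ∧ p.2 ∈ 𝒴 g := Iff.rfl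

/-- Component maps of the product. -/
noncomputable def prodProj (g : ι) : X × Y →+ X × Y :=
  AddMonoidHom.prodMap (compHom 𝒳 g) (compHom 𝒴 g)

lemma prodProj_apply (g : ι) (p : X × Y) :
    prodProj 𝒳 𝒴 g p = ((decompose 𝒳 p.1 g : X), (decompose 𝒴 p.2 g : Y)) := rfl

lemma prodGr_isInternal : DirectSum.IsInternal (prodGr 𝒳 𝒴) := by
  classical
  refine isInternal_of_proj (prodGr 𝒳 𝒴) (prodProj 𝒳 𝒴) ?_ ?_ ?_ ?_
  · intro g p
    exact ⟨SetLike.coe_mem _, SetLike.coe_mem _⟩
  · rintro g ⟨x, y⟩ ⟨hx, hy⟩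
    rw [prodProj_apply]
    exact Prod.ext (decompose_of_mem_same 𝒳 hx) (decompose_of_mem_same 𝒴 hy)
  · rintro g g' ⟨x, y⟩ ⟨hx, hy⟩ hne
    rw [prodProj_apply]
    exact Prod.ext (decompose_of_mem_ne 𝒳 hx hne.symm) (decompose_of_mem_ne 𝒴 hy hne.symm)
  · rintro ⟨x, y⟩
    refine ⟨(decompose 𝒳 x).support ∪ (decompose 𝒴 y).support, ?_⟩
    simp only [prodProj_apply]
    apply Prod.ext
    · rw [Prod.fst_sum]
      simp only
      rw [← Finset.sum_subset Finset.subset_union_left]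
      · exact DirectSum.sum_support_decompose 𝒳 x
      · intro g _ hg
        rw [DFinsupp.notMem_support_iff] at hg
        rw [hg]; rfl
    · rw [Prod.snd_sum]
      simp only
      rw [← Finset.sum_subset Finset.subset_union_right]
      · exact DirectSum.sum_support_decompose 𝒴 y
      · intro g _ hg
        rw [DFinsupp.notMem_support_iff] at hg
        rw [hg]; rfl

/-- The decomposition of a product. -/
@[instance_reducible]
noncomputable def prodDecomposition : DirectSum.Decomposition (prodGr 𝒳 𝒴) :=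
  (prodGr_isInternal 𝒳 𝒴).chooseDecomposition

instance prodGradedSMul : SetLike.GradedSMul 𝒜 (prodGr 𝒳 𝒴) where
  smul_mem := by
    rintro h g r ⟨x, y⟩ hr ⟨hx, hy⟩
    exact ⟨SetLike.GradedSMul.smul_mem (A := 𝒜) (B := 𝒳) hr hx,
      SetLike.GradedSMul.smul_mem (A := 𝒜) (B := 𝒴) hr hy⟩

variable {𝒳 𝒴} in
/-- A product of *injective modules is *injective. -/
theorem isStarInj_prod (hX : IsStarInj 𝒜 𝒳) (hY : IsStarInj 𝒜 𝒴)
    [DirectSum.Decomposition (prodGr 𝒳 𝒴)] : IsStarInj 𝒜 (prodGr 𝒳 𝒴) := by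
  intro A B f hf hinj g hg
  obtain ⟨h1, hh1, e1⟩ := hX A B f hf hinj (LinearMap.fst R X Y ∘ₗ g) (fun j a ha => (hg j a ha).1)
  obtain ⟨h2, hh2, e2⟩ := hY A B f hf hinj (LinearMap.snd R X Y ∘ₗ g) (fun j a ha => (hg j a ha).2)
  refine ⟨h1.prod h2, fun j b hb => ⟨hh1 j b hb, hh2 j b hb⟩, ?_⟩
  apply LinearMap.ext
  intro a
  apply Prod.ext
  · exact LinearMap.congr_fun e1 a
  · exact LinearMap.congr_fun e2 a

end Prod

/-- The product of two bundled graded modules. -/
noncomputable def prodGMod {ι : Type} [DecidableEq ι] [AddCommGroup ι] {R : Type u} [CommRing R]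
    {𝒜 : ι → AddSubgroup R} [GradedRing 𝒜] (A B : GMod.{u} 𝒜) : GMod.{u} 𝒜 :=
  { carrier := A.carrier × B.carrier, gr := prodGr A.gr B.gr, dec := prodDecomposition A.gr B.gr }

section Tail

variable {ι : Type} [DecidableEq ι] [AddCommGroup ι]
variable {R : Type u} [CommRing R] {𝒜 : ι → AddSubgroup R} [GradedRing 𝒜]
variable {M : Type u} [AddCommGroup M] [Module R M] {ℳ : ι → AddSubgroup M}
  [DirectSum.Decomposition ℳ] [SetLike.GradedSMul 𝒜 ℳ]

/-- The first cosyzygy `ker (d 1) = im (d 0)` as a graded module. -/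
noncomputable def Z1 (E : StarInjRes 𝒜 ℳ) : GMod.{u} 𝒜 :=
  subGMod 𝒜 (E.X 1).gr (LinearMap.ker (E.d 1))
    (ker_isHomogeneous (E.X 1).gr (E.X 2).gr (E.d_grHom 1))

lemma ker_neg' {A B : Type u} [AddCommGroup A] [Module R A] [AddCommGroup B] [Module R B]
    (f : A →ₗ[R] B) : LinearMap.ker (-f) = LinearMap.ker f := by
  ext x
  rw [LinearMap.mem_ker, LinearMap.mem_ker, LinearMap.neg_apply, neg_eq_zero]

lemma range_neg' {A B : Type u} [AddCommGroup A] [Module R A] [AddCommGroup B] [Module R B]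
    (f : A →ₗ[R] B) : LinearMap.range (-f) = LinearMap.range f := by
  ext y
  constructor
  · rintro ⟨x, rfl⟩
    exact ⟨-x, by rw [map_neg, LinearMap.neg_apply]⟩
  · rintro ⟨x, rfl⟩
    exact ⟨-x, by rw [LinearMap.neg_apply, map_neg, neg_neg]⟩

/-- The tail of a resolution (with negated differentials), a resolution of the first cosyzygy. -/
noncomputable def tailRes (E : StarInjRes 𝒜 ℳ) : StarInjRes 𝒜 (Z1 E).gr where
  X n := E.X (n + 1)
  d n := -(E.d (n + 1))
  ε := (LinearMap.ker (E.d 1)).subtype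
  d_grHom n := fun g x hx => neg_mem (E.d_grHom (n + 1) g x hx)
  ε_grHom := subtype_isGrHom (E.X 1).gr (LinearMap.ker (E.d 1))
  ε_injective := Submodule.injective_subtype _
  exact_zero := by
    change LinearMap.ker (-(E.d 1)) = LinearMap.range (LinearMap.ker (E.d 1)).subtype
    rw [ker_neg', Submodule.range_subtype]
  exact_succ n := by
    rw [ker_neg', range_neg']; exact E.exact_succ (n + 1)
  starInj n := E.starInj (n + 1)

end Tail

end Groth.Agent.Lib.Helper11.GrLes
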