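import Groth.Agent.Lib.Helper11.GrLesA

set_option autoImplicit false
set_option linter.unusedSectionVars false
universe u

namespace Groth.Agent.Lib.Helper11.GrLes

open DirectSum GrLC Groth.Agent.Lib.Helper11.GrLCLib

variable {ι : Type} [DecidableEq ι] [AddCommGroup ι]
variable {R : Type u} [CommRing R] {𝒜 : ι → AddSubgroup R} [GradedRing 𝒜]
variable {M' : Type u} [AddCommGroup M'] [Module R M'] {ℳ' : ι → AddSubgroup M'}
  [DirectSum.Decomposition ℳ'] [SetLike.GradedSMul 𝒜 ℳ']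
variable {M : Type u} [AddCommGroup M] [Module R M] {ℳ : ι → AddSubgroup M}
  [DirectSum.Decomposition ℳ] [SetLike.GradedSMul 𝒜 ℳ]
variable {M'' : Type u} [AddCommGroup M''] [Module R M''] {ℳ'' : ι → AddSubgroup M''}
  [DirectSum.Decomposition ℳ''] [SetLike.GradedSMul 𝒜 ℳ'']

variable (ℳ) in
/-- The data gluing resolutions of the ends of a short exact sequence. -/
structure ConeData (E' : StarInjRes 𝒜 ℳ') (E'' : StarInjRes 𝒜 ℳ'') (u : M' →ₗ[R] M)
    (v : M →ₗ[R] M'') where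
  lam : M →ₗ[R] (E'.X 0).carrier
  lam_gr : IsGrHom ℳ (E'.X 0).gr lam
  lam_u : lam ∘ₗ u = E'.ε
  θ : ∀ n, (E''.X n).carrier →ₗ[R] (E'.X (n + 1)).carrier
  θ_gr : ∀ n, IsGrHom (E''.X n).gr (E'.X (n + 1)).gr (θ n)
  θ_ε : ∀ m, θ 0 (E''.ε (v m)) = -(E'.d 0 (lam m))
  θ_d : ∀ n x, θ (n + 1) (E''.d n x) = -(E'.d (n + 1) (θ n x))

theorem exists_coneData (E' : StarInjRes 𝒜 ℳ') (E'' : StarInjRes 𝒜 ℳ'') (u : M' →ₗ[R] M)
    (v : M →ₗ[R] M'') (hu : IsGrHom ℳ' ℳ u) (hv : IsGrHom ℳ ℳ'' v) (hui : Function.Injective u)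
    (hvs : Function.Surjective v) (hex : LinearMap.ker v = LinearMap.range u) :
    Nonempty (ConeData ℳ E' E'' u v) := by
  classical
  obtain ⟨lam, hlam, hlamu⟩ : ∃ lam : M →ₗ[R] (E'.X 0).carrier,
      IsGrHom ℳ (E'.X 0).gr lam ∧ lam ∘ₗ u = E'.ε :=
    E'.starInj 0 (GMod.of 𝒜 M' ℳ') (GMod.of 𝒜 M ℳ) u hu hui E'.ε E'.ε_grHom
  -- μ : M'' → E'^1
  have hd0lam : IsGrHomDeg ℳ (E'.X 1).gr (E'.d 0 ∘ₗ lam) 0 :=
    (isGrHomDeg_zero_iff ℳ (E'.X 1).gr).2 (isGrHom_comp ℳ (E'.X 0).gr (E'.X 1).gr hlam (E'.d_grHom 0))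
  obtain ⟨μ, hμdeg, hμv⟩ := exists_extension_deg 𝒜 ℳ ℳ'' (E'.X 1).gr (E'.starInj 1) v hv 0
    (E'.d 0 ∘ₗ lam) hd0lam (by
      intro x hx
      rw [hex] at hx
      obtain ⟨m', rfl⟩ := hx
      rw [LinearMap.mem_ker, LinearMap.comp_apply]
      have h1 : lam (u m') = E'.ε m' := LinearMap.congr_fun hlamu m'
      rw [h1]
      exact LinearMap.congr_fun (d_comp_ε E') m')
  have hμ : IsGrHom ℳ'' (E'.X 1).gr μ := (isGrHomDeg_zero_iff ℳ'' (E'.X 1).gr).1 hμdeg
  have hμker : ∀ m'', μ m'' ∈ LinearMap.ker (E'.d 1) := by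
    intro m''
    obtain ⟨m, rfl⟩ := hvs m''
    have h1 : μ (v m) = E'.d 0 (lam m) := LinearMap.congr_fun hμv m
    rw [h1, LinearMap.mem_ker]
    exact LinearMap.congr_fun (d_comp_d E' 0) (lam m)
  let μbar : M'' →ₗ[R] (Z1 E').carrier := μ.codRestrict (LinearMap.ker (E'.d 1)) hμker
  have hμbar : IsGrHomDeg ℳ'' (Z1 E').gr (-μbar) 0 := by
    intro g x hx
    rw [add_zero]
    exact neg_mem (hμ g x hx)
  obtain ⟨c, hc, hl⟩ := exists_cmap E'' (tailRes E') (-μbar) 0 hμbar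
  refine ⟨⟨lam, hlam, hlamu, c.f, fun n => ?_, ?_, ?_⟩⟩
  · exact (isGrHomDeg_zero_iff (E''.X n).gr (E'.X (n + 1)).gr).1 (hc n)
  · intro m
    have h1 := LinearMap.congr_fun hl (v m)
    have h2 : μ (v m) = E'.d 0 (lam m) := LinearMap.congr_fun hμv m
    rw [← h2]
    exact h1
  · intro n x
    exact LinearMap.congr_fun (c.comm n) x

variable {E' : StarInjRes 𝒜 ℳ'} {E'' : StarInjRes 𝒜 ℳ''} {u : M' →ₗ[R] M} {v : M →ₗ[R] M''}

namespace ConeData

variable (D : ConeData ℳ E' E'' u v)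

/-- The differential of the glued resolution. -/
def dd (n : ℕ) : (E'.X n).carrier × (E''.X n).carrier →ₗ[R]
    (E'.X (n + 1)).carrier × (E''.X (n + 1)).carrier :=
  ((E'.d n).coprod (D.θ n)).prod (E''.d n ∘ₗ LinearMap.snd R _ _)

lemma dd_apply (n : ℕ) (p : (E'.X n).carrier × (E''.X n).carrier) :
    D.dd n p = (E'.d n p.1 + D.θ n p.2, E''.d n p.2) := rfl

/-- The augmentation of the glued resolution. -/
def eps : M →ₗ[R] (E'.X 0).carrier × (E''.X 0).carrier := D.lam.prod (E''.ε ∘ₗ v)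

lemma eps_apply (m : M) : D.eps m = (D.lam m, E''.ε (v m)) := rfl

lemma lam_u_apply (m' : M') : D.lam (u m') = E'.ε m' := LinearMap.congr_fun D.lam_u m'

lemma d_d_apply (E : StarInjRes 𝒜 ℳ) (n : ℕ) (x : (E.X n).carrier) : E.d (n + 1) (E.d n x) = 0 :=
  LinearMap.congr_fun (d_comp_d E n) x

lemma d_ε_apply (E : StarInjRes 𝒜 ℳ) (m : M) : E.d 0 (E.ε m) = 0 :=
  LinearMap.congr_fun (d_comp_ε E) m

lemma eps_injective (hui : Function.Injective u) (hex : LinearMap.ker v = LinearMap.range u) :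
    Function.Injective D.eps := by
  rw [injective_iff_map_eq_zero]
  intro m hm
  have h2 : E''.ε (v m) = 0 := congrArg Prod.snd hm
  have h3 : v m = 0 := E''.ε_injective (by rw [h2, map_zero])
  have h4 : m ∈ LinearMap.range u := by rw [← hex]; exact h3
  obtain ⟨m', rfl⟩ := h4
  have h1 : D.lam (u m') = 0 := congrArg Prod.fst hm
  rw [D.lam_u_apply] at h1
  have : m' = 0 := E'.ε_injective (by rw [h1, map_zero])
  rw [this, map_zero]

lemma exact_zero' (hvs : Function.Surjective v) (hex : LinearMap.ker v = LinearMap.range u) :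
    LinearMap.ker (D.dd 0) = LinearMap.range D.eps := by
  apply le_antisymm
  · rintro ⟨x', x''⟩ hx
    rw [LinearMap.mem_ker] at hx
    have h2 : E''.d 0 x'' = 0 := congrArg Prod.snd hx
    have h1 : E'.d 0 x' + D.θ 0 x'' = 0 := congrArg Prod.fst hx
    have h3 : x'' ∈ LinearMap.range E''.ε := by rw [← E''.exact_zero]; exact h2
    obtain ⟨m'', rfl⟩ := h3
    obtain ⟨m, rfl⟩ := hvs m''
    rw [D.θ_ε, ← map_neg, ← map_add] at h1
    have h4 : x' + -D.lam m ∈ LinearMap.range E'.ε := by rw [← E'.exact_zero]; exact h1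
    obtain ⟨m', hm'⟩ := h4
    refine ⟨m + u m', ?_⟩
    rw [D.eps_apply]
    apply Prod.ext
    · change D.lam (m + u m') = x'
      rw [map_add, D.lam_u_apply, hm']
      abel
    · change E''.ε (v (m + u m')) = E''.ε (v m)
      have : v (u m') = 0 := by
        have : u m' ∈ LinearMap.ker v := by rw [hex]; exact ⟨m', rfl⟩
        exact this
      rw [map_add, this, add_zero]
  · rintro _ ⟨m, rfl⟩
    rw [LinearMap.mem_ker, D.eps_apply, D.dd_apply]
    apply Prod.ext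
    · change E'.d 0 (D.lam m) + D.θ 0 (E''.ε (v m)) = 0
      rw [D.θ_ε, add_neg_cancel]
    · exact d_ε_apply E'' (v m)

lemma exact_succ' (n : ℕ) : LinearMap.ker (D.dd (n + 1)) = LinearMap.range (D.dd n) := by
  apply le_antisymm
  · rintro ⟨x', x''⟩ hx
    rw [LinearMap.mem_ker] at hx
    have h2 : E''.d (n + 1) x'' = 0 := congrArg Prod.snd hx
    have h1 : E'.d (n + 1) x' + D.θ (n + 1) x'' = 0 := congrArg Prod.fst hx
    have h3 : x'' ∈ LinearMap.range (E''.d n) := by rw [← E''.exact_succ]; exact h2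
    obtain ⟨y'', rfl⟩ := h3
    rw [D.θ_d, ← map_neg, ← map_add] at h1
    have h4 : x' + -D.θ n y'' ∈ LinearMap.range (E'.d n) := by rw [← E'.exact_succ]; exact h1
    obtain ⟨y', hy'⟩ := h4
    refine ⟨(y', y''), ?_⟩
    rw [D.dd_apply]
    apply Prod.ext
    · change E'.d n y' + D.θ n y'' = x'
      rw [hy']
      abel
    · rfl
  · rintro _ ⟨⟨y', y''⟩, rfl⟩
    rw [LinearMap.mem_ker, D.dd_apply, D.dd_apply]
    apply Prod.ext
    · change E'.d (n + 1) (E'.d n y' + D.θ n y'') + D.θ (n + 1) (E''.d n y'') = 0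
      rw [map_add, d_d_apply, D.θ_d, zero_add, add_neg_cancel]
    · exact d_d_apply E'' n y''

/-- The glued resolution of the middle term. -/
noncomputable def res (hv : IsGrHom ℳ ℳ'' v) (hui : Function.Injective u)
    (hvs : Function.Surjective v) (hex : LinearMap.ker v = LinearMap.range u) : StarInjRes 𝒜 ℳ where
  X n := prodGMod (E'.X n) (E''.X n)
  d n := D.dd n
  ε := D.eps
  d_grHom n := fun g p hp =>
    ⟨add_mem (E'.d_grHom n g _ hp.1) (D.θ_gr n g _ hp.2), E''.d_grHom n g _ hp.2⟩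
  ε_grHom := fun g m hm => ⟨D.lam_gr g m hm, E''.ε_grHom g _ (hv g m hm)⟩
  ε_injective := D.eps_injective hui hex
  exact_zero := D.exact_zero' hvs hex
  exact_succ n := D.exact_succ' n
  starInj n := by
    letI := prodDecomposition (E'.X n).gr (E''.X n).gr
    exact isStarInj_prod 𝒜 (E'.starInj n) (E''.starInj n)

end ConeData

end Groth.Agent.Lib.Helper11.GrLes
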