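import Groth.Agent.Lib.Helper11.GrLesB

set_option autoImplicit false
set_option linter.unusedSectionVars false
universe u

namespace Groth.Agent.Lib.Helper11.GrLes

open DirectSum GrLC Groth.Agent.Lib.Helper11.GrLCLib

variable {ι : Type} [DecidableEq ι] [AddCommGroup ι]
variable {R : Type u} [CommRing R] {𝒜 : ι → AddSubgroup R} [GradedRing 𝒜]

section Basic

variable {M : Type u} [AddCommGroup M] [Module R M] {ℳ : ι → AddSubgroup M}
  [DirectSum.Decomposition ℳ] [SetLike.GradedSMul 𝒜 ℳ]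

lemma mem_gam_prod (a : Ideal R) {X Y : Type u} [AddCommGroup X] [Module R X] [AddCommGroup Y]
    [Module R Y] (p : X × Y) : p ∈ gam a (X × Y) ↔ p.1 ∈ gam a X ∧ p.2 ∈ gam a Y := by
  constructor
  · intro hp
    exact ⟨map_mem_gam (LinearMap.fst R X Y) a hp, map_mem_gam (LinearMap.snd R X Y) a hp⟩
  · rintro ⟨⟨n₁, h₁⟩, ⟨n₂, h₂⟩⟩
    refine ⟨n₁ + n₂, fun r hr => ?_⟩
    apply Prod.ext
    · exact h₁ r (Ideal.pow_le_pow_right (Nat.le_add_right n₁ n₂) hr)
    · exact h₂ r (Ideal.pow_le_pow_right (Nat.le_add_left n₂ n₁) hr)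

lemma toH_eq_zero_iff (E : StarInjRes 𝒜 ℳ) (a : HomogeneousIdeal 𝒜) (q : ℕ) (z : E.cocyc a q) :
    E.toH a q z = 0 ↔ (z : (E.X q).carrier) ∈ E.cobdy a q := by
  change (Submodule.mkQ _) z = 0 ↔ _
  rw [Submodule.mkQ_apply, Submodule.Quotient.mk_eq_zero, Submodule.mem_comap]
  rfl

lemma toH_surjective (E : StarInjRes 𝒜 ℳ) (a : HomogeneousIdeal 𝒜) (q : ℕ) :
    Function.Surjective (E.toH a q) := Submodule.mkQ_surjective _

lemma mem_cobdy_zero (E : StarInjRes 𝒜 ℳ) (a : HomogeneousIdeal 𝒜) (x : (E.X 0).carrier) :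
    x ∈ E.cobdy a 0 ↔ x = 0 := Submodule.mem_bot R

lemma mem_cobdy_succ (E : StarInjRes 𝒜 ℳ) (a : HomogeneousIdeal 𝒜) (n : ℕ)
    (x : (E.X (n + 1)).carrier) :
    x ∈ E.cobdy a (n + 1) ↔ ∃ y ∈ gam a.toIdeal (E.X n).carrier, E.d n y = x := Iff.rfl

lemma mem_cocyc (E : StarInjRes 𝒜 ℳ) (a : HomogeneousIdeal 𝒜) (q : ℕ) (x : (E.X q).carrier) :
    x ∈ E.cocyc a q ↔ x ∈ gam a.toIdeal (E.X q).carrier ∧ E.d q x = 0 := Iff.rfl

end Basic

section Cone

variable {M' : Type u} [AddCommGroup M'] [Module R M'] {ℳ' : ι → AddSubgroup M'}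
  [DirectSum.Decomposition ℳ'] [SetLike.GradedSMul 𝒜 ℳ']
variable {M : Type u} [AddCommGroup M] [Module R M] {ℳ : ι → AddSubgroup M}
  [DirectSum.Decomposition ℳ] [SetLike.GradedSMul 𝒜 ℳ]
variable {M'' : Type u} [AddCommGroup M''] [Module R M''] {ℳ'' : ι → AddSubgroup M''}
  [DirectSum.Decomposition ℳ''] [SetLike.GradedSMul 𝒜 ℳ'']
variable {E' : StarInjRes 𝒜 ℳ'} {E'' : StarInjRes 𝒜 ℳ''} {u : M' →ₗ[R] M} {v : M →ₗ[R] M''}
variable (D : ConeData ℳ E' E'' u v) (hv : IsGrHom ℳ ℳ'' v) (hui : Function.Injective u)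
  (hvs : Function.Surjective v) (hex : LinearMap.ker v = LinearMap.range u)

namespace ConeData

/-- The inclusion of the sub-resolution. -/
def incl : CMap E' (D.res hv hui hvs hex) where
  f n := LinearMap.inl R (E'.X n).carrier (E''.X n).carrier
  comm n := by
    apply LinearMap.ext
    intro x
    change ((E'.d n x, (0 : (E''.X (n + 1)).carrier)) : _ × _) = D.dd n (x, 0)
    rw [D.dd_apply]
    simp

/-- The projection onto the quotient resolution. -/
def proj : CMap (D.res hv hui hvs hex) E'' where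
  f n := LinearMap.snd R (E'.X n).carrier (E''.X n).carrier
  comm n := rfl

lemma incl_isDeg : (D.incl hv hui hvs hex).IsDeg 0 := by
  intro n g x hx
  rw [add_zero]
  exact ⟨hx, zero_mem _⟩

lemma proj_isDeg : (D.proj hv hui hvs hex).IsDeg 0 := by
  intro n g p hp
  rw [add_zero]
  exact hp.2

lemma incl_lifts : (D.incl hv hui hvs hex).Lifts u := by
  apply LinearMap.ext
  intro m'
  change ((E'.ε m', (0 : (E''.X 0).carrier)) : _ × _) = D.eps (u m')
  rw [D.eps_apply, D.lam_u_apply]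
  have : v (u m') = 0 := by
    have : u m' ∈ LinearMap.ker v := by rw [hex]; exact ⟨m', rfl⟩
    exact this
  rw [this, map_zero]

lemma proj_lifts : (D.proj hv hui hvs hex).Lifts v := rfl

variable (a : HomogeneousIdeal 𝒜)

lemma θ_mem_cocyc (q : ℕ) {z : (E''.X q).carrier} (hz : z ∈ E''.cocyc a q) :
    D.θ q z ∈ E'.cocyc a (q + 1) := by
  refine ⟨map_mem_gam _ _ hz.1, ?_⟩
  change D.θ q z ∈ LinearMap.ker (E'.d (q + 1))
  rw [LinearMap.mem_ker]
  have h1 := D.θ_d q z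
  have h2 : E''.d q z = 0 := LinearMap.mem_ker.mp hz.2
  rw [h2, map_zero] at h1
  exact neg_eq_zero.mp h1.symm

/-- The connecting map on cocycles. -/
def γcocyc (q : ℕ) : E''.cocyc a q →ₗ[R] E'.cocyc a (q + 1) :=
  (D.θ q).restrict (fun _ hz => D.θ_mem_cocyc a q hz)

lemma γcocyc_coe (q : ℕ) (z : E''.cocyc a q) :
    ((D.γcocyc a q z : E'.cocyc a (q + 1)) : (E'.X (q + 1)).carrier) = D.θ q z := rfl

lemma γ_cobdy_le (q : ℕ) :
    (E''.cobdy a q).comap (E''.cocyc a q).subtype ≤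
      ((E'.cobdy a (q + 1)).comap (E'.cocyc a (q + 1)).subtype).comap (D.γcocyc a q) := by
  intro z hz
  rw [Submodule.mem_comap, Submodule.mem_comap] at *
  change D.θ q (z : (E''.X q).carrier) ∈ E'.cobdy a (q + 1)
  have hz' : (z : (E''.X q).carrier) ∈ E''.cobdy a q := hz
  rw [mem_cobdy_succ]
  cases q with
  | zero =>
    rw [mem_cobdy_zero] at hz'
    exact ⟨0, zero_mem _, by rw [hz', map_zero, map_zero]⟩
  | succ k =>
    rw [mem_cobdy_succ] at hz'
    obtain ⟨y, hy, hyz⟩ := hz'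
    refine ⟨-(D.θ k y), neg_mem (map_mem_gam _ _ hy), ?_⟩
    rw [← hyz, D.θ_d, map_neg]

/-- The connecting homomorphism. -/
def γ (q : ℕ) : E''.H a q →ₗ[R] E'.H a (q + 1) :=
  Submodule.mapQ _ _ (D.γcocyc a q) (D.γ_cobdy_le a q)

lemma γ_toH (q : ℕ) (z : E''.cocyc a q) :
    D.γ a q (E''.toH a q z) = E'.toH a (q + 1) (D.γcocyc a q z) := rfl

lemma γ_mem_Hcomp (q : ℕ) {g : ι} {x : E''.H a q} (hx : x ∈ E''.Hcomp a q g) :
    D.γ a q x ∈ E'.Hcomp a (q + 1) g := by
  obtain ⟨z, hz, rfl⟩ := hx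
  exact ⟨D.γcocyc a q z, D.θ_gr q g _ hz, rfl⟩

section Exactness

variable {D hv hui hvs hex a}

/-- The underlying pair of a cocycle of the glued resolution. -/
def pair (q : ℕ) (z : (D.res hv hui hvs hex).cocyc a q) :
    (E'.X q).carrier × (E''.X q).carrier := z.1

lemma incl_cocycMap_coe (q : ℕ) (z : E'.cocyc a q) :
    pair q ((D.incl hv hui hvs hex).cocycMap a q z) = ((z : (E'.X q).carrier), 0) := rfl

lemma proj_cocycMap_coe (q : ℕ) (z : (D.res hv hui hvs hex).cocyc a q) :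
    (((D.proj hv hui hvs hex).cocycMap a q z : E''.cocyc a q) : (E''.X q).carrier) =
      (pair q z).2 := rfl

lemma res_cocyc_fst_gam (q : ℕ) (z : (D.res hv hui hvs hex).cocyc a q) :
    (pair q z).1 ∈ gam a.toIdeal (E'.X q).carrier :=
  ((mem_gam_prod a.toIdeal _).1 z.2.1).1

lemma res_cocyc_snd_gam (q : ℕ) (z : (D.res hv hui hvs hex).cocyc a q) :
    (pair q z).2 ∈ gam a.toIdeal (E''.X q).carrier :=
  ((mem_gam_prod a.toIdeal _).1 z.2.1).2

lemma res_cocyc_d (q : ℕ) (z : (D.res hv hui hvs hex).cocyc a q) :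
    D.dd q (pair q z) = 0 := LinearMap.mem_ker.mp z.2.2

lemma mem_res_cocyc (q : ℕ) (p : (E'.X q).carrier × (E''.X q).carrier)
    (h1 : p.1 ∈ gam a.toIdeal (E'.X q).carrier) (h2 : p.2 ∈ gam a.toIdeal (E''.X q).carrier)
    (h3 : D.dd q p = 0) : p ∈ (D.res hv hui hvs hex).cocyc a q :=
  ⟨(mem_gam_prod a.toIdeal p).2 ⟨h1, h2⟩, LinearMap.mem_ker.mpr h3⟩

lemma mem_res_cobdy_succ (q : ℕ) (p : (E'.X (q + 1)).carrier × (E''.X (q + 1)).carrier)
    (w : (E'.X q).carrier × (E''.X q).carrier)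
    (h1 : w.1 ∈ gam a.toIdeal (E'.X q).carrier) (h2 : w.2 ∈ gam a.toIdeal (E''.X q).carrier)
    (h3 : D.dd q w = p) : p ∈ (D.res hv hui hvs hex).cobdy a (q + 1) :=
  ⟨w, (mem_gam_prod a.toIdeal w).2 ⟨h1, h2⟩, h3⟩

lemma toH_eq_toH_iff {N : Type u} [AddCommGroup N] [Module R N] {𝒩 : ι → AddSubgroup N}
    [DirectSum.Decomposition 𝒩] [SetLike.GradedSMul 𝒜 𝒩] (E : StarInjRes 𝒜 𝒩) (q : ℕ)
    (z₁ z₂ : E.cocyc a q) :
    E.toH a q z₁ = E.toH a q z₂ ↔
      (z₁ : (E.X q).carrier) - (z₂ : (E.X q).carrier) ∈ E.cobdy a q := by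
  rw [← sub_eq_zero, ← map_sub, toH_eq_zero_iff]
  rfl

theorem incl_Hmap_zero_injective :
    Function.Injective ((D.incl hv hui hvs hex).Hmap a 0) := by
  rw [injective_iff_map_eq_zero]
  intro x hx
  obtain ⟨z, rfl⟩ := toH_surjective E' a 0 x
  rw [CMap.Hmap_toH, toH_eq_zero_iff, mem_cobdy_zero] at hx
  have h1 : ((z : (E'.X 0).carrier), (0 : (E''.X 0).carrier)) = 0 := hx
  have h2 : (z : (E'.X 0).carrier) = 0 := congrArg Prod.fst h1
  have : z = 0 := Subtype.ext h2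
  rw [this, map_zero]

theorem exact_incl_proj (q : ℕ) :
    Function.Exact ((D.incl hv hui hvs hex).Hmap a q) ((D.proj hv hui hvs hex).Hmap a q) := by
  intro y
  constructor
  · intro hy
    obtain ⟨z, rfl⟩ := toH_surjective (D.res hv hui hvs hex) a q y
    rw [CMap.Hmap_toH, toH_eq_zero_iff, proj_cocycMap_coe] at hy
    set x' := (pair q z).1 with hx'
    set x'' := (pair q z).2 with hx''
    have hzd := res_cocyc_d q z
    rw [D.dd_apply] at hzd
    have hd1 : E'.d q x' + D.θ q x'' = 0 := congrArg Prod.fst hzd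
    have hd2 : E''.d q x'' = 0 := congrArg Prod.snd hzd
    cases q with
    | zero =>
      rw [mem_cobdy_zero] at hy
      have hx'c : x' ∈ E'.cocyc a 0 := by
        refine ⟨res_cocyc_fst_gam 0 z, LinearMap.mem_ker.mpr ?_⟩
        rw [hy, map_zero, add_zero] at hd1
        exact hd1
      refine ⟨E'.toH a 0 ⟨x', hx'c⟩, ?_⟩
      rw [CMap.Hmap_toH]
      congr 1
      apply Subtype.ext
      change ((x', (0 : (E''.X 0).carrier)) : (E'.X 0).carrier × (E''.X 0).carrier) = pair 0 z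
      exact Prod.ext rfl hy.symm
    | succ k =>
      rw [mem_cobdy_succ] at hy
      obtain ⟨y'', hy''g, hy''⟩ := hy
      have hw'c : x' - D.θ k y'' ∈ E'.cocyc a (k + 1) := by
        refine ⟨sub_mem (res_cocyc_fst_gam (k + 1) z) (map_mem_gam _ _ hy''g),
          LinearMap.mem_ker.mpr ?_⟩
        rw [map_sub, sub_eq_zero]
        have := D.θ_d k y''
        rw [hy''] at this
        rw [this] at hd1
        exact add_neg_eq_zero.1 hd1
      refine ⟨E'.toH a (k + 1) ⟨x' - D.θ k y'', hw'c⟩, ?_⟩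
      rw [CMap.Hmap_toH, toH_eq_toH_iff]
      refine mem_res_cobdy_succ k _ (0, -y'') (zero_mem _) (neg_mem hy''g) ?_
      apply Prod.ext
      · change E'.d k 0 + D.θ k (-y'') = (x' - D.θ k y'') - x'
        rw [map_zero, map_neg]
        abel
      · change E''.d k (-y'') = 0 - x''
        rw [map_neg, hy'', zero_sub]
  · rintro ⟨x, rfl⟩
    obtain ⟨z, rfl⟩ := toH_surjective E' a q x
    rw [CMap.Hmap_toH, CMap.Hmap_toH, toH_eq_zero_iff, proj_cocycMap_coe, incl_cocycMap_coe]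
    exact zero_mem _

theorem exact_proj_γ (q : ℕ) :
    Function.Exact ((D.proj hv hui hvs hex).Hmap a q) (D.γ a q) := by
  intro y
  constructor
  · intro hy
    obtain ⟨z, rfl⟩ := toH_surjective E'' a q y
    rw [γ_toH, toH_eq_zero_iff, γcocyc_coe, mem_cobdy_succ] at hy
    obtain ⟨y', hy'g, hy'⟩ := hy
    have hzc : ((-y', (z : (E''.X q).carrier)) : (E'.X q).carrier × (E''.X q).carrier) ∈
        (D.res hv hui hvs hex).cocyc a q := by
      refine mem_res_cocyc q _ (neg_mem hy'g) z.2.1 ?_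
      rw [D.dd_apply]
      apply Prod.ext
      · change E'.d q (-y') + D.θ q (z : (E''.X q).carrier) = 0
        rw [map_neg, hy', neg_add_cancel]
      · exact LinearMap.mem_ker.mp z.2.2
    refine ⟨(D.res hv hui hvs hex).toH a q ⟨_, hzc⟩, ?_⟩
    rw [CMap.Hmap_toH]
    congr 1
  · rintro ⟨x, rfl⟩
    obtain ⟨z, rfl⟩ := toH_surjective (D.res hv hui hvs hex) a q x
    rw [CMap.Hmap_toH, γ_toH, toH_eq_zero_iff, γcocyc_coe, proj_cocycMap_coe, mem_cobdy_succ]
    have hzd := res_cocyc_d q z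
    rw [D.dd_apply] at hzd
    have hd1 : E'.d q (pair q z).1 + D.θ q (pair q z).2 = 0 := congrArg Prod.fst hzd
    refine ⟨-(pair q z).1, neg_mem (res_cocyc_fst_gam q z), ?_⟩
    rw [map_neg]
    exact (neg_eq_of_add_eq_zero_right hd1)

theorem exact_γ_incl (q : ℕ) :
    Function.Exact (D.γ a q) ((D.incl hv hui hvs hex).Hmap a (q + 1)) := by
  intro y
  constructor
  · intro hy
    obtain ⟨z, rfl⟩ := toH_surjective E' a (q + 1) y
    rw [CMap.Hmap_toH, toH_eq_zero_iff] at hy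
    obtain ⟨w, hwg, hw⟩ := hy
    have hwg' := (mem_gam_prod a.toIdeal (show (E'.X q).carrier × (E''.X q).carrier from w)).1 hwg
    have hw' : D.dd q w = ((z : (E'.X (q + 1)).carrier), (0 : (E''.X (q + 1)).carrier)) := hw
    rw [D.dd_apply] at hw'
    have h1 : E'.d q (show (E'.X q).carrier × (E''.X q).carrier from w).1 +
        D.θ q (show (E'.X q).carrier × (E''.X q).carrier from w).2 = (z : (E'.X (q + 1)).carrier) :=
      congrArg Prod.fst hw'
    have h2 : E''.d q (show (E'.X q).carrier × (E''.X q).carrier from w).2 = 0 :=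
      congrArg Prod.snd hw'
    have hwc : (show (E'.X q).carrier × (E''.X q).carrier from w).2 ∈ E''.cocyc a q :=
      ⟨hwg'.2, LinearMap.mem_ker.mpr h2⟩
    refine ⟨E''.toH a q ⟨_, hwc⟩, ?_⟩
    rw [γ_toH, toH_eq_toH_iff, γcocyc_coe, mem_cobdy_succ]
    refine ⟨-(show (E'.X q).carrier × (E''.X q).carrier from w).1, neg_mem hwg'.1, ?_⟩
    rw [map_neg, ← h1]
    abel
  · rintro ⟨x, rfl⟩
    obtain ⟨z, rfl⟩ := toH_surjective E'' a q x
    rw [γ_toH, CMap.Hmap_toH, toH_eq_zero_iff]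
    refine mem_res_cobdy_succ q _ (0, (z : (E''.X q).carrier)) (zero_mem _) z.2.1 ?_
    rw [D.dd_apply]
    apply Prod.ext
    · change E'.d q 0 + D.θ q (z : (E''.X q).carrier) = D.θ q (z : (E''.X q).carrier)
      rw [map_zero, zero_add]
    · exact LinearMap.mem_ker.mp z.2.2

end Exactness

end ConeData

end Cone

end Groth.Agent.Lib.Helper11.GrLes
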