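import Groth.Agent.Lib.Helper11.GrLesC

set_option autoImplicit false
set_option linter.unusedSectionVars false
universe u

namespace Groth.Agent.Lib.Helper11.GrLes

open DirectSum GrLC Groth.Agent.Lib.Helper11.GrLCLib

variable {ι : Type} [DecidableEq ι] [AddCommGroup ι]
variable {R : Type u} [CommRing R] {𝒜 : ι → AddSubgroup R} [GradedRing 𝒜]
variable {M' : Type u} [AddCommGroup M'] [Module R M'] {ℳ' : ι → AddSubgroup M'}
  [DirectSum.Decomposition ℳ'] [SetLike.GradedSMul 𝒜 ℳ']
variable {M : Type u} [AddCommGroup M] [Module R M] {ℳ : ι → AddSubgroup M}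
  [DirectSum.Decomposition ℳ] [SetLike.GradedSMul 𝒜 ℳ]
variable {M'' : Type u} [AddCommGroup M''] [Module R M''] {ℳ'' : ι → AddSubgroup M''}
  [DirectSum.Decomposition ℳ''] [SetLike.GradedSMul 𝒜 ℳ'']

/-- The long exact sequence of graded local cohomology for a short exact sequence of graded
modules (maps of degree zero), for arbitrary *injective resolutions and arbitrary lifts. -/
theorem exists_les (E' : StarInjRes 𝒜 ℳ') (E : StarInjRes 𝒜 ℳ) (E'' : StarInjRes 𝒜 ℳ'')
    (u : M' →ₗ[R] M) (v : M →ₗ[R] M'') (hu : IsGrHom ℳ' ℳ u) (hv : IsGrHom ℳ ℳ'' v)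
    (hui : Function.Injective u) (hvs : Function.Surjective v)
    (hex : LinearMap.ker v = LinearMap.range u) (a : HomogeneousIdeal 𝒜)
    (cu : CMap E' E) (hcu : cu.IsDeg 0) (hlu : cu.Lifts u)
    (cv : CMap E E'') (hcv : cv.IsDeg 0) (hlv : cv.Lifts v) :
    ∃ γ : ∀ q, E''.H a q →ₗ[R] E'.H a (q + 1),
      (∀ q g x, x ∈ E''.Hcomp a q g → γ q x ∈ E'.Hcomp a (q + 1) g) ∧
      (∀ q, Function.Exact (cu.Hmap a q) (cv.Hmap a q)) ∧
      (∀ q, Function.Exact (cv.Hmap a q) (γ q)) ∧
      (∀ q, Function.Exact (γ q) (cu.Hmap a (q + 1))) ∧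
      Function.Injective (cu.Hmap a 0) := by
  obtain ⟨D⟩ := exists_coneData (ℳ := ℳ) E' E'' u v hu hv hui hvs hex
  set Et := D.res hv hui hvs hex with hEt
  set I := D.incl hv hui hvs hex with hI
  set P := D.proj hv hui hvs hex with hP
  have hIdeg := D.incl_isDeg hv hui hvs hex
  have hPdeg := D.proj_isDeg hv hui hvs hex
  have hIl := D.incl_lifts hv hui hvs hex
  have hPl := D.proj_lifts hv hui hvs hex
  obtain ⟨c, hc, hl⟩ := exists_cmap Et E LinearMap.id 0 (isGrHomDeg_id_zero (ℳ := ℳ))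
  obtain ⟨c', hc', hl'⟩ := exists_cmap E Et LinearMap.id 0 (isGrHomDeg_id_zero (ℳ := ℳ))
  have h1 : CMap.Homotopic (c'.comp c) (CMap.id Et) := by
    refine homotopic_of_lifts _ _ LinearMap.id 0 ?_ (CMap.id_isDeg Et) ?_ (CMap.id_lifts Et)
    · have := CMap.comp_isDeg hc' hc
      rwa [add_zero] at this
    · exact CMap.comp_lifts hl' hl
  have h2 : CMap.Homotopic (c.comp c') (CMap.id E) := by
    refine homotopic_of_lifts _ _ LinearMap.id 0 ?_ (CMap.id_isDeg E) ?_ (CMap.id_lifts E)
    · have := CMap.comp_isDeg hc hc'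
      rwa [add_zero] at this
    · exact CMap.comp_lifts hl hl'
  have e1 : ∀ q x, c'.Hmap a q (c.Hmap a q x) = x := by
    intro q x
    have : c'.Hmap a q ∘ₗ c.Hmap a q = LinearMap.id := by
      rw [← CMap.Hmap_comp, CMap.Hmap_eq_of_homotopic a h1, CMap.Hmap_id]
    exact LinearMap.congr_fun this x
  have e2 : ∀ q x, c.Hmap a q (c'.Hmap a q x) = x := by
    intro q x
    have : c.Hmap a q ∘ₗ c'.Hmap a q = LinearMap.id := by
      rw [← CMap.Hmap_comp, CMap.Hmap_eq_of_homotopic a h2, CMap.Hmap_id]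
    exact LinearMap.congr_fun this x
  have h3 : CMap.Homotopic cu (c.comp I) := by
    refine homotopic_of_lifts _ _ u 0 hcu ?_ hlu ?_
    · have := CMap.comp_isDeg hc hIdeg
      rwa [add_zero] at this
    · have := CMap.comp_lifts hl hIl
      rwa [LinearMap.id_comp] at this
  have h4 : CMap.Homotopic (cv.comp c) P := by
    refine homotopic_of_lifts _ _ v 0 ?_ hPdeg ?_ hPl
    · have := CMap.comp_isDeg hcv hc
      rwa [add_zero] at this
    · have := CMap.comp_lifts hlv hl
      rwa [LinearMap.comp_id] at this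
  have e3 : ∀ q x, cu.Hmap a q x = c.Hmap a q (I.Hmap a q x) := by
    intro q x
    rw [CMap.Hmap_eq_of_homotopic a h3, CMap.Hmap_comp]
    rfl
  have e4 : ∀ q x, cv.Hmap a q (c.Hmap a q x) = P.Hmap a q x := by
    intro q x
    rw [← CMap.Hmap_eq_of_homotopic a h4, CMap.Hmap_comp]
    rfl
  refine ⟨fun q => D.γ a q, fun q g x hx => D.γ_mem_Hcomp a q hx, fun q => ?_, fun q => ?_,
    fun q => ?_, ?_⟩
  · intro y
    have hex1 := ConeData.exact_incl_proj (D := D) (hv := hv) (hui := hui) (hvs := hvs) (hex := hex)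
      (a := a) q (c'.Hmap a q y)
    constructor
    · intro hy
      have : P.Hmap a q (c'.Hmap a q y) = 0 := by rw [← e4, e2, hy]
      obtain ⟨x, hx⟩ := hex1.1 this
      refine ⟨x, ?_⟩
      rw [e3, hx, e2]
    · rintro ⟨x, rfl⟩
      have : P.Hmap a q (c'.Hmap a q (cu.Hmap a q x)) = 0 := by
        rw [e3, e1]
        exact hex1.2 ⟨x, by rw [e3, e1]⟩ |> fun h => by
          have h5 := (ConeData.exact_incl_proj (D := D) (hv := hv) (hui := hui) (hvs := hvs)
            (hex := hex) (a := a) q (I.Hmap a q x)).2 ⟨x, rfl⟩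
          exact h5
      rw [← e4, e2] at this
      exact this
  · intro y
    have hex2 := ConeData.exact_proj_γ (D := D) (hv := hv) (hui := hui) (hvs := hvs) (hex := hex)
      (a := a) q y
    constructor
    · intro hy
      obtain ⟨x, hx⟩ := hex2.1 hy
      exact ⟨c.Hmap a q x, by rw [e4, hx]⟩
    · rintro ⟨x, rfl⟩
      exact hex2.2 ⟨c'.Hmap a q x, by rw [← e4, e2]⟩
  · intro y
    have hex3 := ConeData.exact_γ_incl (D := D) (hv := hv) (hui := hui) (hvs := hvs) (hex := hex)
      (a := a) q y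
    constructor
    · intro hy
      rw [e3] at hy
      have : I.Hmap a (q + 1) y = 0 := by
        have := congrArg (c'.Hmap a (q + 1)) hy
        rwa [e1, map_zero] at this
      exact hex3.1 this
    · intro hy
      rw [e3, hex3.2 hy, map_zero]
  · intro x y hxy
    rw [e3, e3] at hxy
    have := congrArg (c'.Hmap a 0) hxy
    rw [e1, e1] at this
    exact ConeData.incl_Hmap_zero_injective (D := D) (hv := hv) (hui := hui) (hvs := hvs)
      (hex := hex) (a := a) this

end Groth.Agent.Lib.Helper11.GrLes
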