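import Groth.Agent.Lib.Helper11.GrLesD
import Groth.Agent.Lib.Helper11.GrGorF

set_option autoImplicit false
set_option linter.unusedSectionVars false
universe u

namespace Groth.Agent.Lib.Helper11.GrLes

open DirectSum GrLC Groth.Agent.Lib.Helper11.GrLCLib

variable {ι : Type} [DecidableEq ι] [AddCommGroup ι]
variable {R : Type u} [CommRing R] {𝒜 : ι → AddSubgroup R} [GradedRing 𝒜]
variable {M : Type u} [AddCommGroup M] [Module R M] {ℳ : ι → AddSubgroup M}
  [DirectSum.Decomposition ℳ] [SetLike.GradedSMul 𝒜 ℳ]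
variable {N : Type u} [AddCommGroup N] [Module R N] {𝒩 : ι → AddSubgroup N}
  [DirectSum.Decomposition 𝒩] [SetLike.GradedSMul 𝒜 𝒩]

/-- The shifted *injective resolution: a resolution of `M(δ)` with the same modules and maps. -/
noncomputable def shiftRes (E : StarInjRes 𝒜 ℳ) (δ : ι) [DirectSum.Decomposition (shiftGr ℳ δ)] :
    StarInjRes 𝒜 (shiftGr ℳ δ) where
  X n := shiftGMod 𝒜 (E.X n).gr δ
  d n := E.d n
  ε := E.ε
  d_grHom n := fun g x hx => E.d_grHom n (g + δ) x hx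
  ε_grHom := fun g x hx => E.ε_grHom (g + δ) x hx
  ε_injective := E.ε_injective
  exact_zero := E.exact_zero
  exact_succ := E.exact_succ
  starInj n := by
    letI := shiftDecomposition (E.X n).gr δ
    exact Groth.Agent.Lib.Helper11.GrGor.isStarInj_shift 𝒜 (E.X n).gr (E.starInj n) δ

/-- Multiplication by `x` as a chain map `E(-k) → E`. -/
noncomputable def smulShift (E : StarInjRes 𝒜 ℳ) (x : R) (k : ι)
    [DirectSum.Decomposition (shiftGr ℳ (-k))] : CMap (shiftRes E (-k)) E where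
  f n := LinearMap.lsmul R (E.X n).carrier x
  comm n := by
    apply LinearMap.ext
    intro y
    exact (map_smul (E.d n) x y).symm

lemma smul_mem_aux (E : StarInjRes 𝒜 ℳ) {x : R} {k : ι} (hx : x ∈ 𝒜 k) (n : ℕ) (g : ι)
    (y : (E.X n).carrier) (hy : y ∈ (E.X n).gr (g + -k)) : x • y ∈ (E.X n).gr (g + 0) := by
  have := isGrHomDeg_lsmul (E.X n).gr 𝒜 hx (g + -k) y hy
  have e : g + -k + k = g + 0 := by abel
  rw [e] at this
  exact this

lemma smulShift_isDeg (E : StarInjRes 𝒜 ℳ) {x : R} {k : ι} (hx : x ∈ 𝒜 k)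
    [DirectSum.Decomposition (shiftGr ℳ (-k))] : (smulShift E x k).IsDeg 0 := by
  intro n g y hy
  exact smul_mem_aux E hx n g y hy

lemma smulShift_lifts (E : StarInjRes 𝒜 ℳ) (x : R) (k : ι)
    [DirectSum.Decomposition (shiftGr ℳ (-k))] :
    (smulShift E x k).Lifts (LinearMap.lsmul R M x) := by
  unfold CMap.Lifts
  apply LinearMap.ext
  intro y
  change x • E.ε y = E.ε (x • y)
  exact (map_smul _ _ _).symm

lemma shiftRes_cocyc (E : StarInjRes 𝒜 ℳ) (δ : ι) [DirectSum.Decomposition (shiftGr ℳ δ)]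
    (a : HomogeneousIdeal 𝒜) (q : ℕ) : (shiftRes E δ).cocyc a q = E.cocyc a q := rfl

lemma shiftRes_cobdy (E : StarInjRes 𝒜 ℳ) (δ : ι) [DirectSum.Decomposition (shiftGr ℳ δ)]
    (a : HomogeneousIdeal 𝒜) (q : ℕ) : (shiftRes E δ).cobdy a q = E.cobdy a q := by
  cases q <;> rfl

/-- identification of the cohomology of the shifted resolution. -/
noncomputable def shiftResH (E : StarInjRes 𝒜 ℳ) (δ : ι) [DirectSum.Decomposition (shiftGr ℳ δ)]
    (a : HomogeneousIdeal 𝒜) (q : ℕ) : (shiftRes E δ).H a q ≃ₗ[R] E.H a q :=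
  Submodule.quotEquivOfEq _ _ (by rw [shiftRes_cobdy]; rfl)

lemma shiftResH_toH (E : StarInjRes 𝒜 ℳ) (δ : ι) [DirectSum.Decomposition (shiftGr ℳ δ)]
    (a : HomogeneousIdeal 𝒜) (q : ℕ) (w : (shiftRes E δ).cocyc a q) :
    shiftResH E δ a q ((shiftRes E δ).toH a q w) = E.toH a q w := rfl

lemma smulShift_Hmap (E : StarInjRes 𝒜 ℳ) (x : R) (k : ι)
    [DirectSum.Decomposition (shiftGr ℳ (-k))] (a : HomogeneousIdeal 𝒜) (q : ℕ)
    (z : (shiftRes E (-k)).H a q) :
    (smulShift E x k).Hmap a q z = x • shiftResH E (-k) a q z := by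
  obtain ⟨w, rfl⟩ := Submodule.mkQ_surjective _ z
  rfl

lemma shiftRes_Hcomp (E : StarInjRes 𝒜 ℳ) (δ : ι) [DirectSum.Decomposition (shiftGr ℳ δ)]
    (a : HomogeneousIdeal 𝒜) (q : ℕ) (g : ι) (z : (shiftRes E δ).H a q) :
    z ∈ (shiftRes E δ).Hcomp a q g ↔ shiftResH E δ a q z ∈ E.Hcomp a q (g + δ) := by
  constructor
  · rintro ⟨w, hw, rfl⟩
    exact ⟨w, hw, rfl⟩
  · rintro ⟨w, hw, hwz⟩
    refine ⟨w, hw, ?_⟩
    apply (shiftResH E δ a q).injective
    rw [← hwz]
    rfl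

/-- The long exact sequence of graded local cohomology for multiplication by a homogeneous
`M`-regular element `x` of degree `k`, with `N = M/xM`. -/
theorem exists_les_smul (E : StarInjRes 𝒜 ℳ) (F : StarInjRes 𝒜 𝒩) {x : R} {k : ι} (hx : x ∈ 𝒜 k)
    (hreg : IsSMulRegular M x) (π : M →ₗ[R] N) (hπ : IsGrHom ℳ 𝒩 π)
    (hπs : Function.Surjective π)
    (hπk : LinearMap.ker π = LinearMap.range (LinearMap.lsmul R M x)) (a : HomogeneousIdeal 𝒜) :
    ∃ (p : ∀ q, E.H a q →ₗ[R] F.H a q) (γ : ∀ q, F.H a q →ₗ[R] E.H a (q + 1)),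
      (∀ q g z, z ∈ E.Hcomp a q g → p q z ∈ F.Hcomp a q g) ∧
      (∀ q g z, z ∈ F.Hcomp a q g → γ q z ∈ E.Hcomp a (q + 1) (g + -k)) ∧
      (∀ q (z : E.H a q), p q z = 0 ↔ ∃ w : E.H a q, x • w = z) ∧
      (∀ q, Function.Exact (p q) (γ q)) ∧
      (∀ q (z : E.H a (q + 1)), x • z = 0 ↔ ∃ w, γ q w = z) ∧
      (∀ z : E.H a 0, x • z = 0 → z = 0) := by
  letI := shiftDecomposition ℳ (-k)
  have hu : IsGrHom (shiftGr ℳ (-k)) ℳ (LinearMap.lsmul R M x) := by
    intro g m hm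
    have hm' : m ∈ ℳ (g + -k) := hm
    have := isGrHomDeg_lsmul ℳ 𝒜 hx (g + -k) m hm'
    have e : g + -k + k = g := by abel
    rw [e] at this
    exact this
  obtain ⟨cv, hcv, hlv⟩ := exists_cmap E F π 0 ((isGrHomDeg_zero_iff ℳ 𝒩).mpr hπ)
  obtain ⟨γ, hγ, h1, h2, h3, h4⟩ := exists_les (shiftRes E (-k)) E F (LinearMap.lsmul R M x) π hu hπ
    hreg hπs hπk a (smulShift E x k) (smulShift_isDeg E hx) (smulShift_lifts E x k) cv hcv hlv
  refine ⟨fun q => cv.Hmap a q,
    fun q => (shiftResH E (-k) a (q + 1)).toLinearMap ∘ₗ γ q, ?_, ?_, ?_, ?_, ?_, ?_⟩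
  · intro q g z hz
    obtain ⟨w, hw, rfl⟩ := hz
    exact ⟨cv.cocycMap a q w, by have := hcv q g _ hw; rwa [add_zero] at this, rfl⟩
  · intro q g z hz
    exact (shiftRes_Hcomp E (-k) a (q + 1) g _).1 (hγ q g z hz)
  · intro q z
    rw [h1 q z]
    constructor
    · rintro ⟨w, hw⟩
      exact ⟨shiftResH E (-k) a q w, by rw [← hw, smulShift_Hmap]⟩
    · rintro ⟨w, hw⟩
      exact ⟨(shiftResH E (-k) a q).symm w, by
        rw [← hw, smulShift_Hmap, LinearEquiv.apply_symm_apply]⟩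
  · intro q z
    have e : ((shiftResH E (-k) a (q + 1)).toLinearMap ∘ₗ γ q) z = 0 ↔ γ q z = 0 := by
      rw [LinearMap.comp_apply]
      exact (shiftResH E (-k) a (q + 1)).map_eq_zero_iff
    exact e.trans (h2 q z)
  · intro q z
    have := h3 q ((shiftResH E (-k) a (q + 1)).symm z)
    rw [smulShift_Hmap, LinearEquiv.apply_symm_apply] at this
    rw [this]
    constructor
    · rintro ⟨w, hw⟩
      exact ⟨w, by
        rw [LinearMap.comp_apply, hw]
        exact LinearEquiv.apply_symm_apply _ _⟩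
    · rintro ⟨w, hw⟩
      exact ⟨w, by
        rw [← hw, LinearMap.comp_apply]
        exact (LinearEquiv.symm_apply_apply _ _).symm⟩
  · intro z hz
    have h5 : (smulShift E x k).Hmap a 0 ((shiftResH E (-k) a 0).symm z) =
        (smulShift E x k).Hmap a 0 0 := by
      rw [smulShift_Hmap, map_zero, LinearEquiv.apply_symm_apply]
      exact hz
    have := h4 h5
    rw [LinearEquiv.symm_apply_eq, map_zero] at this
    exact this

end Groth.Agent.Lib.Helper11.GrLes
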