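import Groth.Agent.Lib.Helper11.GrVanA
import Groth.Agent.Lib.Helper11.GrGorG
import Groth.Agent.Lib.Helper11.GorDim2
import Groth.Agent.Lib.Helper11.Bass
import Groth.Agent.Lib.Helper11.ExtLoc
import Groth.Agent.Lib.Helper11.GrCoreH

set_option autoImplicit false
set_option linter.unusedSectionVars false
set_option linter.style.haveILetI false
universe u

namespace Groth.Agent.Lib.Helper11.GrVan

open DirectSum GrLC Groth.Agent.Lib.Helper11.GrLCLib Groth.Agent.Lib.Helper11.GrCore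
  Groth.Agent.Lib.Helper11.GrGor CategoryTheory

section CMBass

variable {R : Type u} [CommRing R] [LocCoh.IsCohenMacaulayRing R]

/-- Bass numbers of a Cohen–Macaulay ring vanish below the height. -/
theorem bassNum_eq_zero_of_lt_height (p : Ideal R) [hp : p.IsPrime] (n : ℕ)
    (hn : p.height = n) (i : ℕ) (hi : i < n) : GrLC.bassNum p R i = 0 := by
  rw [bassNum_self_eq]
  unfold GrLC.bassNumLocal
  rw [Module.length_eq_zero_iff]
  have hCM := LocCoh.IsCohenMacaulayRing.isCohenMacaulayLocalRing_localization (R := R) p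
  have h1 := hCM.supportDim_eq_depth
  rw [Module.supportDim_self_eq_ringKrullDim, IsLocalization.AtPrime.ringKrullDim_eq_height p,
    hn] at h1
  have h2 : ((n : ℕ) : ℕ∞) = LocCoh.depth (Localization.AtPrime p) (Localization.AtPrime p) := by
    exact_mod_cast h1
  have h3 : (i : ℕ∞) < LocCoh.idealDepth (IsLocalRing.maximalIdeal (Localization.AtPrime p))
      (Localization.AtPrime p) := by
    change (i : ℕ∞) < LocCoh.depth (Localization.AtPrime p) (Localization.AtPrime p)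
    rw [← h2]
    exact_mod_cast hi
  exact Groth.Agent.Lib.Helper16.Depth.subsingleton_ext_of_lt_idealDepth
    (IsLocalRing.maximalIdeal (Localization.AtPrime p)) (Localization.AtPrime p) i h3

end CMBass

section Transfer

variable {R : Type u} [CommRing R] [IsNoetherianRing R]

open CategoryTheory.Abelian in
/-- If the Bass numbers `μ^i(m, R)` vanish for `i ≥ N`, then `μ^i(p, R) = 0` for `i ≥ N + 1` and
every prime `p ⊆ m`. -/
theorem bassNum_eq_zero_of_le_prime (m : Ideal R) [hm : m.IsPrime] (N : ℕ)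
    (h : ∀ i, N ≤ i → GrLC.bassNum m R i = 0) (p : Ideal R) [hp : p.IsPrime] (hpm : p ≤ m)
    (i : ℕ) (hi : N + 1 ≤ i) : GrLC.bassNum p R i = 0 := by
  let M₀ : ModuleCat.{u} (Localization.AtPrime m) :=
    ModuleCat.of (Localization.AtPrime m) (LocalizedModule m.primeCompl R)
  have fin : Module.Finite (Localization.AtPrime m) (LocalizedModule m.primeCompl R) :=
    Module.Finite.of_isLocalizedModule m.primeCompl (LocalizedModule.mkLinearMap m.primeCompl R)
  have hN : ∀ i, N ≤ i → Subsingleton (Ext.{u}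
      (ModuleCat.of (Localization.AtPrime m) (IsLocalRing.ResidueField (Localization.AtPrime m)))
      M₀ i) := by
    intro i hi
    have := h i hi
    unfold GrLC.bassNum GrLC.bassNumLocal at this
    rwa [Module.length_eq_zero_iff] at this
  have hinj : HasInjectiveDimensionLT M₀ (N + 1) :=
    Groth.Agent.Lib.Helper11.Bass.hasInjectiveDimensionLT_of_residueField M₀ N hN
  let Fm := ModuleCat.localizedModuleFunctor.{u} m.primeCompl
  let Fp := ModuleCat.localizedModuleFunctor.{u} p.primeCompl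
  have iso : Fm.obj (ModuleCat.of R R) ≅ M₀ :=
    (Shrink.linearEquiv (Localization.AtPrime m) (LocalizedModule m.primeCompl R)).toModuleIso
  have hinj' : HasInjectiveDimensionLT (Fm.obj (ModuleCat.of R R)) (N + 1) :=
    hasInjectiveDimensionLT_of_iso iso.symm (N + 1)
  apply bassNum_eq_zero_of_subsingleton_locExt
  have hPp := Groth.Agent.Lib.Helper11.ExtLoc.P_of_finite p.primeCompl (ModuleCat.of R R) i
    (ModuleCat.of R (R ⧸ p))
  have hPm := Groth.Agent.Lib.Helper11.ExtLoc.P_of_finite m.primeCompl (ModuleCat.of R R) i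
    (ModuleCat.of R (R ⧸ p))
  refine ⟨fun a b => ?_⟩
  suffices h0 : ∀ y : Ext.{u} (Fp.obj (ModuleCat.of R (R ⧸ p))) (Fp.obj (ModuleCat.of R R)) i,
      y = 0 by rw [h0 a, h0 b]
  intro y
  obtain ⟨e, s, hs⟩ := hPp.1 y
  have h0 : e.mapExactFunctor Fm = 0 :=
    (HasInjectiveDimensionLT.subsingleton (Fm.obj (ModuleCat.of R R)) (N + 1) i hi _).elim _ _
  obtain ⟨t, ht⟩ := hPm.2 e h0
  have htp : (t : R) ∈ p.primeCompl := fun hmem => t.2 (hpm hmem)
  have h1 := Groth.Agent.Lib.Helper11.ExtLoc.mapExactFunctor_smul p.primeCompl (t : R) e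
  rw [ht, Ext.mapExactFunctor_zero] at h1
  have h2 : e.mapExactFunctor Fp = 0 :=
    ((IsLocalization.map_units (Localization p.primeCompl) (⟨t, htp⟩ : p.primeCompl)).smul_eq_zero).1
      h1.symm
  rw [h2] at hs
  exact ((IsLocalization.map_units (Localization p.primeCompl) s).smul_eq_zero).1 hs

end Transfer

section Main

variable {R : Type u} [CommRing R] [LocCoh.IsCohenMacaulayRing R] (𝒜 : ℤ → AddSubgroup R)
  [GradedRing 𝒜]

/-- If the top graded local cohomology of a Cohen–Macaulay *local ring is *injective, then the Bass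
numbers `μ^i(m, R)` vanish for `i > n = ht m`. -/
theorem bassNum_eq_zero_of_top_starInj (m : HomogeneousIdeal 𝒜) (hm : IsCoatom m)
    [hmp : m.toIdeal.IsPrime] (n : ℕ)
    (hn : m.toIdeal.height = n) (I : StarInjRes 𝒜 𝒜) (X : GMod.{u} 𝒜)
    (φ : I.H m n ≃ₗ[R] X.carrier) (hX : IsStarInj 𝒜 X.gr)
    (hφ : IsGrHom (I.Hgr m n) X.gr φ.toLinearMap) :
    ∀ i, n < i → GrLC.bassNum m.toIdeal R i = 0 := by
  classical
  set E := minRes 𝒜 𝒜 with hE
  have hb : ∀ i, GrLC.bassNum m.toIdeal (E.X i).carrier 0 = GrLC.bassNum m.toIdeal R i :=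
    fun i => bassNum_term_zero E minRes_hmin0 minRes_hmin m i
  have hGlow : ∀ k, k < n → gam m.toIdeal (E.X k).carrier = ⊥ := fun k hk =>
    gam_eq_bot_of_bassNum_zero 𝒜 (E.X k).gr hm (by
      rw [hb]; exact bassNum_eq_zero_of_lt_height m.toIdeal n hn k hk)
  have hcobdy : E.cobdy m n = ⊥ := by
    rcases n with _ | k
    · rfl
    · change (gam m.toIdeal (E.X k).carrier).map (E.d k) = ⊥
      rw [hGlow k (Nat.lt_succ_self k), Submodule.map_bot]
  have hbot : (E.cobdy m n).comap (E.cocyc m n).subtype = ⊥ := by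
    rw [hcobdy, Submodule.comap_bot, Submodule.ker_subtype]
  let θ : ↥(E.cocyc m n) ≃ₗ[R] E.H m n := (Submodule.quotEquivOfEqBot _ hbot).symm
  have hθ : ∀ z, θ z = E.toH m n z := fun z => Submodule.quotEquivOfEqBot_symm_apply _ hbot z
  obtain ⟨e₀, he₀, -⟩ := exists_H_equiv E I m n
  let Ψ : ↥(E.cocyc m n) ≃ₗ[R] X.carrier := θ ≪≫ₗ e₀ ≪≫ₗ φ
  have hZh : (E.cocyc m n).IsHomogeneous (E.X n).gr := cocyc_isHomogeneous 𝒜 𝒜 E m n
  letI := subDecomposition (E.X n).gr (E.cocyc m n) hZh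
  have hΨ : IsGrHom (subGr (E.X n).gr (E.cocyc m n)) X.gr Ψ.toLinearMap := by
    intro h z hz
    change φ (e₀ (θ z)) ∈ X.gr h
    apply hφ h
    apply he₀ h
    rw [hθ]
    exact ⟨z, hz, rfl⟩
  have hΨs := Groth.Agent.Lib.Helper11.GrLes.isGrHom_symm Ψ hΨ
  have hZinj : IsStarInj 𝒜 (subGr (E.X n).gr (E.cocyc m n)) :=
    isStarInj_of_retract 𝒜 X.gr (subGr (E.X n).gr (E.cocyc m n)) hX Ψ.toLinearMap hΨ
      Ψ.symm.toLinearMap hΨs (by
        apply LinearMap.ext; intro z; exact Ψ.symm_apply_apply z)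
  obtain ⟨ρ, hρ, hρi⟩ := exists_retraction (subGr (E.X n).gr (E.cocyc m n)) (E.X n).gr 𝒜 hZinj
    (subtype_isGrHom (E.X n).gr (E.cocyc m n)) (Submodule.injective_subtype _)
  have hess : ∀ P : Submodule R (E.X n).carrier, P.IsHomogeneous (E.X n).gr → P ≠ ⊥ →
      P ⊓ LinearMap.ker (E.d n) ≠ ⊥ := by
    intro P hP hP0
    rcases n with _ | k
    · rw [E.exact_zero]
      exact minRes_hmin0 P hP hP0
    · rw [E.exact_succ]
      exact minRes_hmin k P hP hP0
  have hGZ : gam m.toIdeal (E.X n).carrier ≤ LinearMap.ker (E.d n) := by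
    intro y hy
    have hKh : (LinearMap.ker ρ ⊓ gam m.toIdeal (E.X n).carrier).IsHomogeneous (E.X n).gr :=
      isHomogeneous_inf _ (ker_isHomogeneous (E.X n).gr (subGr (E.X n).gr (E.cocyc m n)) hρ)
        (gam_isHomogeneous 𝒜 (E.X n).gr m)
    have hK0 : LinearMap.ker ρ ⊓ gam m.toIdeal (E.X n).carrier = ⊥ := by
      by_contra hne
      apply hess _ hKh hne
      rw [eq_bot_iff]
      rintro z ⟨⟨hz1, hz2⟩, hz3⟩
      have hzZ : z ∈ E.cocyc m n := ⟨hz2, hz3⟩
      have h1 := LinearMap.congr_fun hρi ⟨z, hzZ⟩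
      change ρ z = ⟨z, hzZ⟩ at h1
      rw [LinearMap.mem_ker.1 hz1] at h1
      rw [Submodule.mem_bot]
      exact (congrArg Subtype.val h1).symm
    have hρy : ((ρ y : ↥(E.cocyc m n)) : (E.X n).carrier) ∈ E.cocyc m n := (ρ y).2
    have hmem : y - (ρ y : (E.X n).carrier) ∈
        LinearMap.ker ρ ⊓ gam m.toIdeal (E.X n).carrier := by
      refine ⟨?_, sub_mem hy hρy.1⟩
      change ρ (y - (ρ y : (E.X n).carrier)) = 0
      rw [map_sub]
      have h1 := LinearMap.congr_fun hρi (ρ y)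
      change ρ ((ρ y : ↥(E.cocyc m n)) : (E.X n).carrier) = ρ y at h1
      rw [h1, sub_self]
    rw [hK0, Submodule.mem_bot, sub_eq_zero] at hmem
    rw [hmem]
    exact hρy.2
  -- the step
  have hstep : ∀ i, n ≤ i → (gam m.toIdeal (E.X i).carrier).map (E.d i) = ⊥ →
      gam m.toIdeal (E.X (i + 1)).carrier = ⊥ := by
    intro i hi hmap
    by_contra hne
    have hsub := subsingleton_H_of_height_lt hm E n hn (i + 1) (by omega)
    have h1 := minRes_hmin (𝒜 := 𝒜) (ℳ := 𝒜) i (gam m.toIdeal (E.X (i + 1)).carrier)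
      (gam_isHomogeneous 𝒜 (E.X (i + 1)).gr m) hne
    obtain ⟨y, hy, hy0⟩ := Submodule.exists_mem_ne_zero_of_ne_bot h1
    apply hy0
    have hyker : y ∈ LinearMap.ker (E.d (i + 1)) := by
      rw [E.exact_succ]; exact hy.2
    have hyZ : y ∈ E.cocyc m (i + 1) := ⟨hy.1, hyker⟩
    have h2 : E.toH m (i + 1) ⟨y, hyZ⟩ = 0 := Subsingleton.elim _ _
    rw [Submodule.mkQ_apply, Submodule.Quotient.mk_eq_zero, Submodule.mem_comap] at h2
    change y ∈ (gam m.toIdeal (E.X i).carrier).map (E.d i) at h2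
    rw [hmap] at h2
    exact (Submodule.mem_bot R).1 h2
  have hGhigh : ∀ j, gam m.toIdeal (E.X (n + 1 + j)).carrier = ⊥ := by
    intro j
    induction j with
    | zero =>
      apply hstep n le_rfl
      rw [eq_bot_iff]
      rintro _ ⟨y, hy, rfl⟩
      rw [Submodule.mem_bot]
      exact hGZ hy
    | succ j ih =>
      apply hstep (n + 1 + j) (by omega)
      rw [ih, Submodule.map_bot]
  intro i hi
  obtain ⟨j, rfl⟩ : ∃ j, i = n + 1 + j := ⟨i - (n + 1), by omega⟩
  rw [← hb]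
  by_contra hne
  have hne' := (bassNum_zero_ne_zero_iff_mem_associatedPrimes m.toIdeal _).1 hne
  rw [AssociatedPrimes.mem_iff, isAssociatedPrime_iff] at hne'
  replace hne := hne'
  obtain ⟨-, y, hy⟩ := hne
  have hyG : y ∈ gam m.toIdeal (E.X (n + 1 + j)).carrier := by
    refine ⟨1, fun r hr => ?_⟩
    rw [pow_one, hy, Submodule.mem_colon_singleton, Submodule.mem_bot] at hr
    exact hr
  rw [hGhigh j, Submodule.mem_bot] at hyG
  apply hmp.ne_top
  rw [hy, hyG]
  ext r
  simp [Submodule.mem_colon_singleton]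

/-- A Cohen–Macaulay *local ring whose top graded local cohomology is *injective is Gorenstein. -/
theorem isGorensteinRing_of_top_starInj (m : HomogeneousIdeal 𝒜) (hm : IsStarLocal 𝒜 m) (n : ℕ)
    (hn : m.toIdeal.height = n) (I : StarInjRes 𝒜 𝒜) (X : GMod.{u} 𝒜)
    (φ : I.H m n ≃ₗ[R] X.carrier) (hX : IsStarInj 𝒜 X.gr)
    (hφ : IsGrHom (I.Hgr m n) X.gr φ.toLinearMap) : LocCoh.IsGorensteinRing R := by
  have hmp : m.toIdeal.IsPrime := isPrime_of_isCoatom 𝒜 hm.1
  have h1 := bassNum_eq_zero_of_top_starInj 𝒜 m hm.1 n hn I X φ hX hφ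
  have h2 : ∀ (p : Ideal R) [p.IsPrime], p ≤ m.toIdeal → ∀ i, n + 2 ≤ i →
      GrLC.bassNum p R i = 0 := fun p _ hpm i hi =>
    bassNum_eq_zero_of_le_prime m.toIdeal (n + 1) (fun i hi => h1 i (by omega)) p hpm i hi
  have h3 : ∀ (p : Ideal R) [p.IsPrime] (i : ℕ), n + 2 + 1 ≤ i → GrLC.bassNum p R i = 0 := by
    intro p hp i hi
    by_cases hph : p.IsHomogeneous 𝒜
    · exact h2 p (Groth.Agent.Lib.Helper11.GrLes.le_of_isHomogeneous_ne_top 𝒜 hm p hph hp.ne_top)
        i (by omega)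
    · have hPp : (Ideal.homogeneousCore 𝒜 p).toIdeal.IsPrime := Ideal.IsPrime.homogeneousCore hp
      obtain ⟨j, rfl⟩ : ∃ j, i = j + 1 := ⟨i - 1, by omega⟩
      rw [(bassNum_int 𝒜 𝒜 p hph).2 j]
      exact h2 _ (Groth.Agent.Lib.Helper11.GrLes.le_of_isHomogeneous_ne_top 𝒜 hm _
        (Ideal.homogeneousCore 𝒜 p).isHomogeneous hPp.ne_top) j (by omega)
  have hinj := hasInjectiveDimensionLT_of_bassNum R (n + 2) h3
  exact ((Groth.Agent.Lib.Helper11.GorCM.finite_injdim_iff (A := R)).1 ⟨n + 2 + 1, hinj⟩).1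

end Main

end Groth.Agent.Lib.Helper11.GrVan
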