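import Groth.Agent.Lib.Helper11.GrLocA
import Groth.Agent.Lib.Helper11.GrVanB
import Groth.Agent.Lib.Helper16.CanonicalInjDim

/-!
# A *canonical module of a positively graded CM *local ring is CM of finite injective dimension
-/

set_option autoImplicit false
set_option linter.unusedSectionVars false
set_option linter.style.haveILetI false
set_option linter.unusedVariables false
universe u

namespace Groth.Agent.Lib.Helper11.GrLoc

open DirectSum GrLC Groth.Agent.Lib.Helper11.GrLCLib Groth.Agent.Lib.Helper11.GrCan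
  Groth.Agent.Lib.Helper11.GrCore CategoryTheory

section Transfer

variable {R : Type u} [CommRing R] [IsNoetherianRing R]

open CategoryTheory.Abelian in
/-- If `M_m` has injective dimension `< N + 1` over `R_m`, then `μ^i(p, M) = 0` for `i ≥ N + 1` and
every prime `p ⊆ m`. -/
theorem bassNum_eq_zero_of_le_prime_module (m : Ideal R) [hm : m.IsPrime] (M : Type u)
    [AddCommGroup M] [Module R M] (N : ℕ)
    (hinj : HasInjectiveDimensionLT (ModuleCat.of (Localization.AtPrime m)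
      (LocalizedModule m.primeCompl M)) (N + 1)) (p : Ideal R) [hp : p.IsPrime] (hpm : p ≤ m)
    (i : ℕ) (hi : N + 1 ≤ i) : GrLC.bassNum p M i = 0 := by
  let M₀ : ModuleCat.{u} (Localization.AtPrime m) :=
    ModuleCat.of (Localization.AtPrime m) (LocalizedModule m.primeCompl M)
  let Fm := ModuleCat.localizedModuleFunctor.{u} m.primeCompl
  let Fp := ModuleCat.localizedModuleFunctor.{u} p.primeCompl
  have iso : Fm.obj (ModuleCat.of R M) ≅ M₀ :=
    (Shrink.linearEquiv (Localization.AtPrime m) (LocalizedModule m.primeCompl M)).toModuleIso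
  have hinj' : HasInjectiveDimensionLT (Fm.obj (ModuleCat.of R M)) (N + 1) :=
    hasInjectiveDimensionLT_of_iso iso.symm (N + 1)
  apply bassNum_eq_zero_of_subsingleton_locExt
  have hPp := Groth.Agent.Lib.Helper11.ExtLoc.P_of_finite p.primeCompl (ModuleCat.of R M) i
    (ModuleCat.of R (R ⧸ p))
  have hPm := Groth.Agent.Lib.Helper11.ExtLoc.P_of_finite m.primeCompl (ModuleCat.of R M) i
    (ModuleCat.of R (R ⧸ p))
  refine ⟨fun a b => ?_⟩
  suffices h0 : ∀ y : Ext.{u} (Fp.obj (ModuleCat.of R (R ⧸ p))) (Fp.obj (ModuleCat.of R M)) i,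
      y = 0 by rw [h0 a, h0 b]
  intro y
  obtain ⟨e, s, hs⟩ := hPp.1 y
  have h0 : e.mapExactFunctor Fm = 0 :=
    (HasInjectiveDimensionLT.subsingleton (Fm.obj (ModuleCat.of R M)) (N + 1) i hi _).elim _ _
  obtain ⟨t, ht⟩ := hPm.2 e h0
  have htp : (t : R) ∈ p.primeCompl := fun hmem => t.2 (hpm hmem)
  have h1 := Groth.Agent.Lib.Helper11.ExtLoc.mapExactFunctor_smul p.primeCompl (t : R) e
  rw [ht, Ext.mapExactFunctor_zero] at h1
  have h2 : e.mapExactFunctor Fp = 0 :=
    ((IsLocalization.map_units (Localization p.primeCompl) (⟨t, htp⟩ : p.primeCompl)).smul_eq_zero).1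
      h1.symm
  rw [h2] at hs
  exact ((IsLocalization.map_units (Localization p.primeCompl) s).smul_eq_zero).1 hs

end Transfer


section Main

open IsLocalRing

variable {R : Type u} [CommRing R] [LocCoh.IsCohenMacaulayRing R] (𝒜 : ℤ → AddSubgroup R)
  [GradedRing 𝒜]
variable {E' : Type u} [AddCommGroup E'] [Module R E'] (𝓔 : ℤ → AddSubgroup E')
  [DirectSum.Decomposition 𝓔] [SetLike.GradedSMul 𝒜 𝓔]
variable {C : Type u} [AddCommGroup C] [Module R C] (𝒞 : ℤ → AddSubgroup C)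
  [DirectSum.Decomposition 𝒞] [SetLike.GradedSMul 𝒜 𝒞]
variable {m : HomogeneousIdeal 𝒜} {e : (R ⧸ m.toIdeal) →ₗ[R] E'}

lemma ringKrullDim_localization (hpos : ∀ n : ℤ, n < 0 → 𝒜 n = ⊥) (hm : IsStarLocal 𝒜 m)
    [hmax : m.toIdeal.IsMaximal] (n : ℕ) (hn : ringKrullDim R = n) :
    ringKrullDim (Localization.AtPrime m.toIdeal) = n := by
  rw [IsLocalization.AtPrime.ringKrullDim_eq_height m.toIdeal,
    ← Groth.Agent.Lib.Helper11.GrLes.ringKrullDim_eq_height 𝒜 hpos hm, hn]

/-- (i) `C_m` is a Cohen–Macaulay module, (ii) `C` has finite injective dimension. -/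
theorem canonical_cm_injdim (hpos : ∀ n : ℤ, n < 0 → 𝒜 n = ⊥) (hm : IsStarLocal 𝒜 m)
    [hmax : m.toIdeal.IsMaximal] (n : ℕ) (hn : ringKrullDim R = n) (I : StarInjRes 𝒜 𝒜)
    (he : IsStarInjHull 𝒜 (quotGr 𝒜 m) 𝓔 e) (hC : IsStarCanonical 𝒜 𝒞 𝓔 m n I) :
    LocCoh.IsCohenMacaulayModule (Localization.AtPrime m.toIdeal)
        (LocalizedModule m.toIdeal.primeCompl C) ∧
      ∃ N : ℕ, HasInjectiveDimensionLT (ModuleCat.of R C) N := by
  have hCM := LocCoh.IsCohenMacaulayRing.isCohenMacaulayLocalRing_localization (R := R) m.toIdeal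
  have hnA := ringKrullDim_localization 𝒜 hpos hm n hn
  have hfinC : Module.Finite R C := hC.1
  have hfin : Module.Finite (Localization.AtPrime m.toIdeal)
      (LocalizedModule m.toIdeal.primeCompl C) :=
    Module.Finite.of_isLocalizedModule m.toIdeal.primeCompl
      (LocalizedModule.mkLinearMap m.toIdeal.primeCompl C)
  obtain ⟨f, hf, ⟨eK⟩⟩ := exists_local_canonical 𝒜 𝓔 𝒞 n I he hC
  refine ⟨Groth.Agent.Lib.Helper16.Canon.isCohenMacaulayModule_K hnA f hf eK, ?_⟩
  have hinj := Groth.Agent.Lib.Helper16.Canon.hasInjectiveDimensionLT_succ hnA f hf eK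
  have h2 : ∀ (p : Ideal R) [p.IsPrime], p ≤ m.toIdeal → ∀ i, n + 1 ≤ i →
      GrLC.bassNum p C i = 0 := fun p _ hpm i hi =>
    bassNum_eq_zero_of_le_prime_module m.toIdeal C n hinj p hpm i hi
  have h3 : ∀ (p : Ideal R) [p.IsPrime] (i : ℕ), n + 1 + 1 ≤ i → GrLC.bassNum p C i = 0 := by
    intro p hp i hi
    by_cases hph : p.IsHomogeneous 𝒜
    · exact h2 p (Groth.Agent.Lib.Helper11.GrLes.le_of_isHomogeneous_ne_top 𝒜 hm p hph hp.ne_top)
        i (by omega)
    · have hPp : (Ideal.homogeneousCore 𝒜 p).toIdeal.IsPrime := Ideal.IsPrime.homogeneousCore hp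
      obtain ⟨j, rfl⟩ : ∃ j, i = j + 1 := ⟨i - 1, by omega⟩
      rw [(bassNum_int 𝒜 𝒞 p hph).2 j]
      exact h2 _ (Groth.Agent.Lib.Helper11.GrLes.le_of_isHomogeneous_ne_top 𝒜 hm _
        (Ideal.homogeneousCore 𝒜 p).isHomogeneous hPp.ne_top) j (by omega)
  exact ⟨n + 1 + 1, hasInjectiveDimensionLT_of_bassNum C (n + 1) h3⟩

end Main

end Groth.Agent.Lib.Helper11.GrLoc
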