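import Groth.Agent.Lib.Helper11.GrLocB
import Groth.Agent.Lib.Helper11.CanonType

/-!
# Type of a *canonical module and of the ring (graded *local, `m` maximal)
-/

set_option autoImplicit false
set_option linter.unusedSectionVars false
set_option linter.style.haveILetI false
set_option linter.unusedVariables false
universe u

namespace Groth.Agent.Lib.Helper11.GrLoc

open DirectSum GrLC Groth.Agent.Lib.Helper11.GrLCLib Groth.Agent.Lib.Helper11.GrCan
  Groth.Agent.Lib.Helper11.GrCore CategoryTheory IsLocalRing TensorProduct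

section Rank

variable {R : Type u} [CommRing R] (p : Ideal R) [hmax : p.IsMaximal] (C : Type u) [AddCommGroup C]
  [Module R C] [Module.Finite R C]

/-- `dim_κ (κ ⊗_{R_p} C_p) = dim_{R/p} (R/p ⊗_R C)`. -/
theorem finrank_residue_tensor_localized :
    Module.finrank (ResidueField (Localization.AtPrime p))
        (ResidueField (Localization.AtPrime p) ⊗[Localization.AtPrime p]
          LocalizedModule p.primeCompl C) =
      Module.finrank (R ⧸ p) ((R ⧸ p) ⊗[R] C) := by
  letI : Field (R ⧸ p) := Ideal.Quotient.field p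
  have hbc := IsLocalizedModule.isBaseChange p.primeCompl (Localization.AtPrime p)
    (LocalizedModule.mkLinearMap p.primeCompl C)
  let e0 : Localization.AtPrime p ⊗[R] C ≃ₗ[Localization.AtPrime p]
      LocalizedModule p.primeCompl C := hbc.equiv
  let e1 : ResidueField (Localization.AtPrime p) ⊗[Localization.AtPrime p]
        LocalizedModule p.primeCompl C ≃ₗ[ResidueField (Localization.AtPrime p)]
      ResidueField (Localization.AtPrime p) ⊗[Localization.AtPrime p]
        (Localization.AtPrime p ⊗[R] C) :=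
    TensorProduct.AlgebraTensorModule.congr (LinearEquiv.refl _ _) e0.symm
  let e2 := TensorProduct.AlgebraTensorModule.cancelBaseChange R (Localization.AtPrime p)
    (ResidueField (Localization.AtPrime p)) (ResidueField (Localization.AtPrime p)) C
  let e3 := TensorProduct.AlgebraTensorModule.cancelBaseChange R (R ⧸ p)
    (ResidueField (Localization.AtPrime p)) (ResidueField (Localization.AtPrime p)) C
  rw [(e1.trans e2).finrank_eq, ← e3.finrank_eq, Module.finrank_baseChange]

end Rank


section Main

variable {R : Type u} [CommRing R] [LocCoh.IsCohenMacaulayRing R] (𝒜 : ℤ → AddSubgroup R)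
  [GradedRing 𝒜]
variable {E' : Type u} [AddCommGroup E'] [Module R E'] (𝓔 : ℤ → AddSubgroup E')
  [DirectSum.Decomposition 𝓔] [SetLike.GradedSMul 𝒜 𝓔]
variable {C : Type u} [AddCommGroup C] [Module R C] (𝒞 : ℤ → AddSubgroup C)
  [DirectSum.Decomposition 𝒞] [SetLike.GradedSMul 𝒜 𝒞]
variable {m : HomogeneousIdeal 𝒜} {e : (R ⧸ m.toIdeal) →ₗ[R] E'}

/-- (iii) the type of the *canonical module is one; (iv) the type of `R` is the minimal number of
generators of the *canonical module. -/
theorem canonical_type (hpos : ∀ n : ℤ, n < 0 → 𝒜 n = ⊥) (hm : IsStarLocal 𝒜 m)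
    [hmax : m.toIdeal.IsMaximal] (n : ℕ) (hn : ringKrullDim R = n) (I : StarInjRes 𝒜 𝒜)
    (he : IsStarInjHull 𝒜 (quotGr 𝒜 m) 𝓔 e) (hC : IsStarCanonical 𝒜 𝒞 𝓔 m n I) :
    GrLC.bassNum m.toIdeal C n = 1 ∧ GrLC.bassNum m.toIdeal R n =
      (Module.finrank (R ⧸ m.toIdeal) ((R ⧸ m.toIdeal) ⊗[R] C) : ℕ∞) := by
  have hCM := LocCoh.IsCohenMacaulayRing.isCohenMacaulayLocalRing_localization (R := R) m.toIdeal
  have hnA := ringKrullDim_localization 𝒜 hpos hm n hn
  have hfinC : Module.Finite R C := hC.1
  have hfin : Module.Finite (Localization.AtPrime m.toIdeal)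
      (LocalizedModule m.toIdeal.primeCompl C) :=
    Module.Finite.of_isLocalizedModule m.toIdeal.primeCompl
      (LocalizedModule.mkLinearMap m.toIdeal.primeCompl C)
  obtain ⟨f, hf, ⟨eK⟩⟩ := exists_local_canonical 𝒜 𝓔 𝒞 n I he hC
  constructor
  · exact Groth.Agent.Lib.Helper11.CanonType.length_ext_residue_K hnA f hf eK
  · rw [Groth.Agent.Lib.Helper11.GrGor.bassNum_self_eq]
    unfold GrLC.bassNumLocal
    rw [Groth.Agent.Lib.Helper11.CanonType.length_ext_residue_self hnA f hf eK,
      Groth.Agent.Lib.Helper11.CanonType.length_residue_tensor,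
      finrank_residue_tensor_localized m.toIdeal C]

end Main

end Groth.Agent.Lib.Helper11.GrLoc
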