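import Groth.Agent.Lib.Helper11.GrLocC

/-!
# Type of the ring via the *canonical module, assuming only that `R_m` is Cohen–Macaulay
-/

set_option autoImplicit false
set_option linter.unusedSectionVars false
set_option linter.style.haveILetI false
set_option linter.unusedVariables false
universe u

namespace Groth.Agent.Lib.Helper11.GrLoc

open DirectSum GrLC Groth.Agent.Lib.Helper11.GrLCLib Groth.Agent.Lib.Helper11.GrCan
  Groth.Agent.Lib.Helper11.GrCore CategoryTheory IsLocalRing TensorProduct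

variable {R : Type u} [CommRing R] [IsNoetherianRing R] (𝒜 : ℤ → AddSubgroup R)
  [GradedRing 𝒜]
variable {E' : Type u} [AddCommGroup E'] [Module R E'] (𝓔 : ℤ → AddSubgroup E')
  [DirectSum.Decomposition 𝓔] [SetLike.GradedSMul 𝒜 𝓔]
variable {C : Type u} [AddCommGroup C] [Module R C] (𝒞 : ℤ → AddSubgroup C)
  [DirectSum.Decomposition 𝒞] [SetLike.GradedSMul 𝒜 𝒞]
variable {m : HomogeneousIdeal 𝒜} {e : (R ⧸ m.toIdeal) →ₗ[R] E'}

/-- the type of `R` is the minimal number of generators of the *canonical module, assuming only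
that `R_m` is Cohen–Macaulay of dimension `n`. -/
theorem canonical_type' [hmax : m.toIdeal.IsMaximal]
    [hCM : LocCoh.IsCohenMacaulayLocalRing (Localization.AtPrime m.toIdeal)] (n : ℕ)
    (hnA : ringKrullDim (Localization.AtPrime m.toIdeal) = n) (I : StarInjRes 𝒜 𝒜)
    (he : IsStarInjHull 𝒜 (quotGr 𝒜 m) 𝓔 e) (hC : IsStarCanonical 𝒜 𝒞 𝓔 m n I) :
    GrLC.bassNum m.toIdeal R n =
      (Module.finrank (R ⧸ m.toIdeal) ((R ⧸ m.toIdeal) ⊗[R] C) : ℕ∞) := by
  have hfinC : Module.Finite R C := hC.1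
  have hfin : Module.Finite (Localization.AtPrime m.toIdeal)
      (LocalizedModule m.toIdeal.primeCompl C) :=
    Module.Finite.of_isLocalizedModule m.toIdeal.primeCompl
      (LocalizedModule.mkLinearMap m.toIdeal.primeCompl C)
  obtain ⟨f, hf, ⟨eK⟩⟩ := exists_local_canonical 𝒜 𝓔 𝒞 n I he hC
  rw [Groth.Agent.Lib.Helper11.GrGor.bassNum_self_eq]
  unfold GrLC.bassNumLocal
  rw [Groth.Agent.Lib.Helper11.CanonType.length_ext_residue_self hnA f hf eK,
    Groth.Agent.Lib.Helper11.CanonType.length_residue_tensor,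
    finrank_residue_tensor_localized m.toIdeal C]

end Groth.Agent.Lib.Helper11.GrLoc
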