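import Groth.Agent.Lib.Helper11.GrGorE
import Groth.Agent.Lib.Helper11.GrLesC

/-!
# Mayer–Vietoris for graded local cohomology: torsion of sums and intersections, comparison maps
-/

set_option autoImplicit false
set_option linter.unusedSectionVars false
set_option linter.unusedVariables false
set_option linter.style.haveILetI false
universe u

namespace Groth.Agent.Lib.Helper11.GrMV

open DirectSum GrLC Groth.Agent.Lib.Helper11.GrLCLib Groth.Agent.Lib.Helper11.GrLes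

section Gam

variable {R : Type u} [CommRing R] {X : Type u} [AddCommGroup X] [Module R X]

lemma gam_anti {a b : Ideal R} (h : a ≤ b) : gam b X ≤ gam a X := by
  rintro x ⟨n, hn⟩
  exact ⟨n, fun r hr => hn r (Ideal.pow_right_mono h n hr)⟩

lemma gam_sup (a b : Ideal R) : gam (a ⊔ b) X = gam a X ⊓ gam b X := by
  apply le_antisymm
  · exact le_inf (gam_anti le_sup_left) (gam_anti le_sup_right)
  · rintro x ⟨⟨n, hn⟩, ⟨m, hm⟩⟩
    refine ⟨n + m, fun r hr => ?_⟩
    have h1 := Ideal.sup_pow_add_le_pow_sup_pow (I := a) (J := b) (n := n) (m := m) hr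
    obtain ⟨s, hs, t, ht, rfl⟩ := Submodule.mem_sup.mp h1
    rw [add_smul, hn s hs, hm t ht, add_zero]

end Gam

section Split

variable {ι : Type} [DecidableEq ι] [AddCommGroup ι]
variable {R : Type u} [CommRing R] {𝒜 : ι → AddSubgroup R} [GradedRing 𝒜]
variable {X : Type u} [AddCommGroup X] [Module R X] (𝒳 : ι → AddSubgroup X)
  [DirectSum.Decomposition 𝒳] [SetLike.GradedSMul 𝒜 𝒳]

/-- For *injective `X`, a homogeneous projection onto `Γ_a(X)` which splits
`Γ_{a ∩ b}(X) = Γ_a(X) + Γ_b(X)`. -/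
theorem exists_split [IsNoetherianRing R] (hX : IsStarInj 𝒜 𝒳) (a b : HomogeneousIdeal 𝒜) :
    ∃ ρ : X →ₗ[R] X, IsGrHom 𝒳 𝒳 ρ ∧ (∀ x, ρ x ∈ gam a.toIdeal X) ∧
      (∀ x ∈ gam a.toIdeal X, ρ x = x) ∧
      (∀ x ∈ gam (a ⊓ b).toIdeal X, x - ρ x ∈ gam b.toIdeal X) := by
  letI := subDecomposition 𝒳 (gam a.toIdeal X) (gam_isHomogeneous 𝒜 𝒳 a)
  have hΓ : IsStarInj 𝒜 (subGr 𝒳 (gam a.toIdeal X)) := Groth.Agent.Lib.Helper11.GrGor.isStarInj_gam 𝒜 𝒳 hX a
  obtain ⟨r, hr, hrf⟩ := exists_retraction (subGr 𝒳 (gam a.toIdeal X)) 𝒳 𝒜 hΓ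
    (subtype_isGrHom 𝒳 (gam a.toIdeal X)) (Submodule.injective_subtype _)
  have hρid : ∀ x (hx : x ∈ gam a.toIdeal X), ((r x : ↥(gam a.toIdeal X)) : X) = x := by
    intro x hx
    have := LinearMap.congr_fun hrf ⟨x, hx⟩
    exact congrArg Subtype.val this
  refine ⟨(gam a.toIdeal X).subtype ∘ₗ r, ?_, fun x => (r x).2, hρid, ?_⟩
  · intro j x hx
    exact hr j x hx
  · rintro x ⟨n, hn⟩
    obtain ⟨n1, hn1⟩ := (r x).2
    set y := x - ((gam a.toIdeal X).subtype ∘ₗ r) x with hy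
    have hρy : r y = 0 := by
      rw [hy, map_sub]
      have : r (((gam a.toIdeal X).subtype ∘ₗ r) x) = r x := by
        apply Subtype.ext
        exact hρid _ (r x).2
      rw [this, sub_self]
    refine ⟨n, fun s hs => ?_⟩
    -- `s • y ∈ Γ_a`
    have hsy : s • y ∈ gam a.toIdeal X := by
      refine ⟨max n n1, fun t ht => ?_⟩
      have ht1 : t ∈ a.toIdeal ^ n := Ideal.pow_le_pow_right (le_max_left n n1) ht
      have ht2 : t ∈ a.toIdeal ^ n1 := Ideal.pow_le_pow_right (le_max_right n n1) ht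
      have hts : t * s ∈ (a ⊓ b).toIdeal ^ n := by
        have h1 : t * s ∈ a.toIdeal ^ n * b.toIdeal ^ n := Ideal.mul_mem_mul ht1 hs
        rw [← mul_pow] at h1
        have h2 : a.toIdeal * b.toIdeal ≤ (a ⊓ b).toIdeal := by
          rw [HomogeneousIdeal.toIdeal_inf]
          exact Ideal.mul_le_inf
        exact Ideal.pow_right_mono h2 n h1
      rw [hy, smul_sub, smul_sub, smul_smul, hn _ hts, LinearMap.comp_apply,
        Submodule.subtype_apply, smul_comm, hn1 t ht2, smul_zero, sub_zero]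
    have h3 := hρid _ hsy
    rw [map_smul, hρy, smul_zero] at h3
    exact h3.symm

theorem gam_inf_le [IsNoetherianRing R] (hX : IsStarInj 𝒜 𝒳) (a b : HomogeneousIdeal 𝒜) :
    gam (a ⊓ b).toIdeal X ≤ gam a.toIdeal X ⊔ gam b.toIdeal X := by
  obtain ⟨ρ, -, h1, -, h3⟩ := exists_split 𝒳 hX a b
  intro x hx
  have : x = ρ x + (x - ρ x) := by abel
  rw [this]
  exact Submodule.add_mem_sup (h1 x) (h3 x hx)

end Split

section Cmp

variable {ι : Type} [DecidableEq ι] [AddCommGroup ι]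
variable {R : Type u} [CommRing R] {𝒜 : ι → AddSubgroup R} [GradedRing 𝒜]
variable {M : Type u} [AddCommGroup M] [Module R M] {ℳ : ι → AddSubgroup M}
  [DirectSum.Decomposition ℳ] [SetLike.GradedSMul 𝒜 ℳ]
variable (E : StarInjRes 𝒜 ℳ)

lemma gam_le_of_le {a b : HomogeneousIdeal 𝒜} (h : a ≤ b) (q : ℕ) :
    gam b.toIdeal (E.X q).carrier ≤ gam a.toIdeal (E.X q).carrier :=
  gam_anti (show a.toIdeal ≤ b.toIdeal from h)

lemma cocyc_le_of_le {a b : HomogeneousIdeal 𝒜} (h : a ≤ b) (q : ℕ) :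
    E.cocyc b q ≤ E.cocyc a q :=
  inf_le_inf_right _ (gam_le_of_le E h q)

lemma cobdy_le_of_le {a b : HomogeneousIdeal 𝒜} (h : a ≤ b) (q : ℕ) :
    E.cobdy b q ≤ E.cobdy a q := by
  cases q with
  | zero => exact le_refl _
  | succ n => exact Submodule.map_mono (gam_le_of_le E h n)

/-- For `a ≤ b`, the comparison map `H^q_b(M) → H^q_a(M)`. -/
noncomputable def cmpH {a b : HomogeneousIdeal 𝒜} (h : a ≤ b) (q : ℕ) : E.H b q →ₗ[R] E.H a q :=
  Submodule.mapQ _ _ (Submodule.inclusion (cocyc_le_of_le E h q)) (by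
    intro z hz
    rw [Submodule.mem_comap] at hz ⊢
    exact cobdy_le_of_le E h q hz)

lemma cmpH_toH {a b : HomogeneousIdeal 𝒜} (h : a ≤ b) (q : ℕ) (z : E.cocyc b q) :
    cmpH E h q (E.toH b q z) = E.toH a q ⟨z, cocyc_le_of_le E h q z.2⟩ := rfl

lemma cmpH_mem {a b : HomogeneousIdeal 𝒜} (h : a ≤ b) (q : ℕ) {g : ι} {x : E.H b q}
    (hx : x ∈ E.Hcomp b q g) : cmpH E h q x ∈ E.Hcomp a q g := by
  obtain ⟨z, hz, rfl⟩ := hx
  exact ⟨⟨z, cocyc_le_of_le E h q z.2⟩, hz, rfl⟩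

end Cmp

end Groth.Agent.Lib.Helper11.GrMV
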