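import Groth.Agent.Lib.Helper11.GrMVA

/-!
# The Mayer–Vietoris sequence for graded local cohomology
-/

set_option autoImplicit false
set_option linter.unusedSectionVars false
set_option linter.unusedVariables false
set_option linter.style.haveILetI false
universe u

namespace Groth.Agent.Lib.Helper11.GrMV

open DirectSum GrLC Groth.Agent.Lib.Helper11.GrLCLib Groth.Agent.Lib.Helper11.GrLes

variable {ι : Type} [DecidableEq ι] [AddCommGroup ι]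
variable {R : Type u} [CommRing R] [IsNoetherianRing R] {𝒜 : ι → AddSubgroup R} [GradedRing 𝒜]
variable {M : Type u} [AddCommGroup M] [Module R M] {ℳ : ι → AddSubgroup M}
  [DirectSum.Decomposition ℳ] [SetLike.GradedSMul 𝒜 ℳ]
variable (E : StarInjRes 𝒜 ℳ) (a b : HomogeneousIdeal 𝒜)

/-- the chosen splitting projection onto `Γ_a(X^q)`. -/
noncomputable def ρ (q : ℕ) : (E.X q).carrier →ₗ[R] (E.X q).carrier :=
  (exists_split (E.X q).gr (E.starInj q) a b).choose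

lemma ρ_grHom (q : ℕ) : IsGrHom (E.X q).gr (E.X q).gr (ρ E a b q) :=
  (exists_split (E.X q).gr (E.starInj q) a b).choose_spec.1

lemma ρ_mem (q : ℕ) (x : (E.X q).carrier) : ρ E a b q x ∈ gam a.toIdeal (E.X q).carrier :=
  (exists_split (E.X q).gr (E.starInj q) a b).choose_spec.2.1 x

lemma ρ_of_mem (q : ℕ) {x : (E.X q).carrier} (hx : x ∈ gam a.toIdeal (E.X q).carrier) :
    ρ E a b q x = x :=
  (exists_split (E.X q).gr (E.starInj q) a b).choose_spec.2.2.1 x hx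

lemma sub_ρ_mem (q : ℕ) {x : (E.X q).carrier} (hx : x ∈ gam (a ⊓ b).toIdeal (E.X q).carrier) :
    x - ρ E a b q x ∈ gam b.toIdeal (E.X q).carrier :=
  (exists_split (E.X q).gr (E.starInj q) a b).choose_spec.2.2.2 x hx

lemma mem_gam_sup_iff (q : ℕ) (x : (E.X q).carrier) :
    x ∈ gam (a ⊔ b).toIdeal (E.X q).carrier ↔
      x ∈ gam a.toIdeal (E.X q).carrier ∧ x ∈ gam b.toIdeal (E.X q).carrier := by
  rw [HomogeneousIdeal.toIdeal_sup, gam_sup]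
  exact Submodule.mem_inf

lemma gam_b_le_inf (q : ℕ) :
    gam b.toIdeal (E.X q).carrier ≤ gam (a ⊓ b).toIdeal (E.X q).carrier :=
  gam_le_of_le E (inf_le_right : a ⊓ b ≤ b) q

lemma gam_a_le_inf (q : ℕ) :
    gam a.toIdeal (E.X q).carrier ≤ gam (a ⊓ b).toIdeal (E.X q).carrier :=
  gam_le_of_le E (inf_le_left : a ⊓ b ≤ a) q

/-- `ρ y ∈ Γ_{a+b}` for `y ∈ Γ_b`. -/
lemma ρ_mem_sup (q : ℕ) {y : (E.X q).carrier} (hy : y ∈ gam b.toIdeal (E.X q).carrier) :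
    ρ E a b q y ∈ gam (a ⊔ b).toIdeal (E.X q).carrier := by
  rw [mem_gam_sup_iff]
  refine ⟨ρ_mem E a b q y, ?_⟩
  have h1 := sub_ρ_mem E a b q (gam_b_le_inf E a b q hy)
  have : ρ E a b q y = y - (y - ρ E a b q y) := by abel
  rw [this]
  exact sub_mem hy h1

lemma d_mem_gam (c : HomogeneousIdeal 𝒜) (q : ℕ) {x : (E.X q).carrier}
    (hx : x ∈ gam c.toIdeal (E.X q).carrier) : E.d q x ∈ gam c.toIdeal (E.X (q + 1)).carrier :=
  map_mem_gam (E.d q) c.toIdeal hx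

/-- the first map of the Mayer–Vietoris sequence. -/
noncomputable def mvα (q : ℕ) : E.H (a ⊔ b) q →ₗ[R] E.H a q × E.H b q :=
  (cmpH E (le_sup_left : a ≤ a ⊔ b) q).prod (cmpH E (le_sup_right : b ≤ a ⊔ b) q)

/-- the second map of the Mayer–Vietoris sequence. -/
noncomputable def mvβ (q : ℕ) : E.H a q × E.H b q →ₗ[R] E.H (a ⊓ b) q :=
  cmpH E (inf_le_left : a ⊓ b ≤ a) q ∘ₗ LinearMap.fst R _ _ -
    cmpH E (inf_le_right : a ⊓ b ≤ b) q ∘ₗ LinearMap.snd R _ _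

lemma δ_mem_cocyc (q : ℕ) {z : (E.X q).carrier} (hz : z ∈ E.cocyc (a ⊓ b) q) :
    E.d q (ρ E a b q z) ∈ E.cocyc (a ⊔ b) (q + 1) := by
  rw [mem_cocyc] at hz ⊢
  refine ⟨?_, ConeData.d_d_apply E q _⟩
  rw [mem_gam_sup_iff]
  refine ⟨d_mem_gam E a q (ρ_mem E a b q z), ?_⟩
  have h1 := d_mem_gam E b q (sub_ρ_mem E a b q hz.1)
  rw [map_sub, hz.2, zero_sub] at h1
  have := neg_mem h1
  rwa [neg_neg] at this

/-- the connecting map on cocycles. -/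
noncomputable def δcocyc (q : ℕ) : E.cocyc (a ⊓ b) q →ₗ[R] E.cocyc (a ⊔ b) (q + 1) :=
  LinearMap.codRestrict _ (E.d q ∘ₗ ρ E a b q ∘ₗ (E.cocyc (a ⊓ b) q).subtype)
    (fun z => δ_mem_cocyc E a b q z.2)

lemma δcocyc_coe (q : ℕ) (z : E.cocyc (a ⊓ b) q) :
    (δcocyc E a b q z : (E.X (q + 1)).carrier) = E.d q (ρ E a b q z) := rfl

lemma δ_cobdy_le (q : ℕ) :
    (E.cobdy (a ⊓ b) q).comap (E.cocyc (a ⊓ b) q).subtype ≤
      ((E.cobdy (a ⊔ b) (q + 1)).comap (E.cocyc (a ⊔ b) (q + 1)).subtype).comap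
        (δcocyc E a b q) := by
  intro z hz
  rw [Submodule.mem_comap] at hz
  rw [Submodule.mem_comap, Submodule.mem_comap, Submodule.subtype_apply, δcocyc_coe,
    mem_cobdy_succ]
  cases q with
  | zero =>
    rw [Submodule.subtype_apply, mem_cobdy_zero] at hz
    refine ⟨0, zero_mem _, ?_⟩
    rw [hz, map_zero, map_zero, map_zero]
  | succ n =>
    rw [Submodule.subtype_apply, mem_cobdy_succ] at hz
    obtain ⟨w, hw, hwz⟩ := hz
    refine ⟨ρ E a b (n + 1) z - E.d n (ρ E a b n w), ?_, ?_⟩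
    · rw [mem_gam_sup_iff]
      refine ⟨sub_mem (ρ_mem E a b _ _) (d_mem_gam E a n (ρ_mem E a b n w)), ?_⟩
      have h1 := sub_ρ_mem E a b (n + 1) ((mem_cocyc E (a ⊓ b) (n + 1) _).mp z.2).1
      have h2 := d_mem_gam E b n (sub_ρ_mem E a b n hw)
      have : ρ E a b (n + 1) (z : (E.X (n + 1)).carrier) - E.d n (ρ E a b n w) =
          E.d n (w - ρ E a b n w) - ((z : (E.X (n + 1)).carrier) - ρ E a b (n + 1) z) := by
        rw [map_sub, hwz]; abel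
      rw [this]
      exact sub_mem h2 h1
    · rw [map_sub, ConeData.d_d_apply, sub_zero]

/-- the connecting map of the Mayer–Vietoris sequence. -/
noncomputable def mvδ (q : ℕ) : E.H (a ⊓ b) q →ₗ[R] E.H (a ⊔ b) (q + 1) :=
  Submodule.mapQ _ _ (δcocyc E a b q) (δ_cobdy_le E a b q)

lemma mvδ_toH (q : ℕ) (z : E.cocyc (a ⊓ b) q) :
    mvδ E a b q (E.toH (a ⊓ b) q z) = E.toH (a ⊔ b) (q + 1) (δcocyc E a b q z) := rfl

lemma mvα_toH (q : ℕ) (z : E.cocyc (a ⊔ b) q) :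
    mvα E a b q (E.toH (a ⊔ b) q z) =
      (E.toH a q ⟨z, cocyc_le_of_le E le_sup_left q z.2⟩,
        E.toH b q ⟨z, cocyc_le_of_le E le_sup_right q z.2⟩) := rfl

lemma mvβ_toH (q : ℕ) (x : E.cocyc a q) (y : E.cocyc b q) :
    mvβ E a b q (E.toH a q x, E.toH b q y) =
      E.toH (a ⊓ b) q (⟨x, cocyc_le_of_le E inf_le_left q x.2⟩ -
        ⟨y, cocyc_le_of_le E inf_le_right q y.2⟩) := by
  rw [map_sub]
  rfl

/-! ### gradedness -/

lemma mvα_mem (q : ℕ) {g : ι} {x : E.H (a ⊔ b) q} (hx : x ∈ E.Hcomp (a ⊔ b) q g) :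
    (mvα E a b q x).1 ∈ E.Hcomp a q g ∧ (mvα E a b q x).2 ∈ E.Hcomp b q g :=
  ⟨cmpH_mem E _ q hx, cmpH_mem E _ q hx⟩

lemma mvβ_mem (q : ℕ) {g : ι} {x : E.H a q × E.H b q} (hx1 : x.1 ∈ E.Hcomp a q g)
    (hx2 : x.2 ∈ E.Hcomp b q g) : mvβ E a b q x ∈ E.Hcomp (a ⊓ b) q g := by
  change cmpH E (inf_le_left : a ⊓ b ≤ a) q x.1 - cmpH E (inf_le_right : a ⊓ b ≤ b) q x.2 ∈ _
  exact sub_mem (cmpH_mem E _ q hx1) (cmpH_mem E _ q hx2)

lemma mvδ_mem (q : ℕ) {g : ι} {x : E.H (a ⊓ b) q} (hx : x ∈ E.Hcomp (a ⊓ b) q g) :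
    mvδ E a b q x ∈ E.Hcomp (a ⊔ b) (q + 1) g := by
  obtain ⟨z, hz, rfl⟩ := hx
  refine ⟨δcocyc E a b q z, ?_, rfl⟩
  rw [δcocyc_coe]
  exact E.d_grHom q g _ (ρ_grHom E a b q g _ hz)

end Groth.Agent.Lib.Helper11.GrMV
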