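import Groth.Agent.Lib.Helper11.GrModA
import Groth.Agent.Lib.Helper11.DepthLoc

/-!
# Grothendieck non-vanishing for graded modules and the Cohen–Macaulay property at the
*maximal ideal
-/

set_option autoImplicit false
set_option linter.unusedSectionVars false
set_option linter.unusedVariables false
set_option linter.style.haveILetI false
universe u

namespace Groth.Agent.Lib.Helper11.GrMod

open DirectSum GrLC Groth.Agent.Lib.Helper11.GrLCLib Groth.Agent.Lib.Helper11.GrHt TensorProduct

variable {T : Type u} [CommRing T] [IsNoetherianRing T] (𝒯 : ℤ → AddSubgroup T) [GradedRing 𝒯]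
variable {P : Type u} [AddCommGroup P] [Module T P] (𝒬 : ℤ → AddSubgroup P)
  [DirectSum.Decomposition 𝒬] [SetLike.GradedSMul 𝒯 𝒬]

/-- non-vanishing of the ordinary local cohomology at a prime, in the dimension of the
localization. -/
theorem nontrivial_H_of_supportDim_localization [Module.Finite T P] (p : Ideal T) [hp : p.IsPrime]
    (n : ℕ) (hn : Module.supportDim (Localization.AtPrime p) (LocalizedModule p.primeCompl P) = n) :
    Nontrivial (LocCoh.H p n P) := by
  haveI : IsNoetherianRing (Localization.AtPrime p) :=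
    IsLocalization.isNoetherianRing p.primeCompl _ inferInstance
  obtain ⟨e⟩ := Groth.Agent.Lib.Helper16.DTL.nonempty_H_baseChange_equiv
    (R' := Localization.AtPrime p) p n P
  let e0 : (Localization.AtPrime p ⊗[T] P) ≃ₗ[Localization.AtPrime p]
      LocalizedModule p.primeCompl P :=
    (IsLocalizedModule.isBaseChange p.primeCompl (Localization.AtPrime p)
      (LocalizedModule.mkLinearMap p.primeCompl P)).equiv
  have hdim : Module.supportDim (Localization.AtPrime p) (Localization.AtPrime p ⊗[T] P) = n := by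
    rw [Module.supportDim_eq_of_equiv e0, hn]
  have hnt := Groth.Agent.Lib.Helper16.LC.nontrivial_H_supportDim
    (R := Localization.AtPrime p) (Localization.AtPrime p ⊗[T] P) n hdim
  rw [← IsLocalization.AtPrime.map_eq_maximalIdeal p (Localization.AtPrime p)] at hnt
  have h2 : Nontrivial (Localization.AtPrime p ⊗[T] LocCoh.H p n P) :=
    e.symm.injective.nontrivial
  by_contra hcon
  rw [not_nontrivial_iff_subsingleton] at hcon
  have : Subsingleton (Localization.AtPrime p ⊗[T] LocCoh.H p n P) := inferInstance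
  exact not_subsingleton _ this

include 𝒬 in
/-- **Grothendieck non-vanishing** for finitely generated graded modules. -/
theorem nontrivial_H_of_supportDim [Module.Finite T P] [Nontrivial P]
    (hpos : ∀ n : ℤ, n < 0 → 𝒯 n = ⊥) {m : HomogeneousIdeal 𝒯} (hloc : IsStarLocal 𝒯 m)
    (EP : StarInjRes 𝒯 𝒬) (n : ℕ) (hn : Module.supportDim T P = n) :
    Nontrivial (EP.H m n) := by
  have hmax := Groth.Agent.Lib.Helper11.GrLes.isMaximal_of_isCoatom 𝒯 hpos hloc.1
  haveI hmp : m.toIdeal.IsPrime := hmax.isPrime
  have h1 := nontrivial_H_of_supportDim_localization (P := P) m.toIdeal n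
    (by rw [supportDim_localization_eq 𝒯 𝒬 hpos hloc, hn])
  obtain ⟨e⟩ := Groth.Agent.Lib.Helper11.GrLCOrd.nonempty_H_equiv EP m n
  exact e.symm.injective.nontrivial

include 𝒬 in
/-- the dimension of a graded module is the top non-vanishing degree of its local cohomology. -/
theorem supportDim_eq_of_H [Module.Finite T P] [Nontrivial P]
    (hpos : ∀ n : ℤ, n < 0 → 𝒯 n = ⊥) {m : HomogeneousIdeal 𝒯} (hloc : IsStarLocal 𝒯 m)
    (EP : StarInjRes 𝒯 𝒬) (n : ℕ) (hn : Nontrivial (EP.H m n))
    (hhigh : ∀ q, n < q → Subsingleton (EP.H m q)) :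
    Module.supportDim T P = n := by
  have hne : Module.supportDim T P ≠ ⊥ := by
    rw [Ne, Module.supportDim_eq_bot_iff_subsingleton]
    exact not_subsingleton P
  have hlt : Module.supportDim T P < ⊤ := by
    rw [supportDim_eq_relHt 𝒯 𝒬 hpos hloc]
    have hmax := Groth.Agent.Lib.Helper11.GrLes.isMaximal_of_isCoatom 𝒯 hpos hloc.1
    haveI hmp : m.toIdeal.IsPrime := hmax.isPrime
    have := relHt_ne_top (J := Module.annihilator T P) (q := m.toIdeal) (annihilator_le 𝒯 𝒬 hloc)
    rw [← WithBot.coe_top, WithBot.coe_lt_coe]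
    exact lt_top_iff_ne_top.mpr this
  obtain ⟨d', hd'⟩ := WithBot.ne_bot_iff_exists.mp hne
  rw [← hd'] at hlt
  have hd'top : d' ≠ ⊤ := by
    intro h
    rw [h] at hlt
    exact lt_irrefl _ hlt
  obtain ⟨d, hd⟩ := ENat.ne_top_iff_exists.mp hd'top
  have hdim : Module.supportDim T P = (d : WithBot ℕ∞) := by
    rw [← hd', ← hd]; rfl
  have hnt := nontrivial_H_of_supportDim 𝒯 𝒬 hpos hloc EP d hdim
  have h1 : ¬ n < d := fun h => not_subsingleton _ (hhigh d h)
  have h2 : ¬ d < n := by
    intro h
    have := Groth.Agent.Lib.Helper11.GrCMGlob.subsingleton_H_of_dim_lt EP m d (by rw [hdim]) n h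
    exact not_subsingleton _ this
  have : d = n := by omega
  rw [hdim, this]

/-- the depth at a maximal ideal is the depth of the localization. -/
theorem idealDepth_eq_depth_localization [Module.Finite T P] (m : Ideal T) [hm : m.IsMaximal] :
    LocCoh.idealDepth m P =
      LocCoh.depth (Localization.AtPrime m) (LocalizedModule m.primeCompl P) := by
  apply le_antisymm
  · exact Groth.Agent.Lib.Helper11.DepthLoc.idealDepth_le_depth_localization m P m le_rfl
  · rw [← ENat.forall_natCast_le_iff_le]
    intro n hn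
    apply Groth.Agent.Lib.Helper11.DepthLoc.le_idealDepth_of_forall_le_depth_localization m n P
    intro p hp hmp
    have hpm : m = p := hm.eq_of_le hp.ne_top hmp
    subst hpm
    exact hn

include 𝒬 in
/-- **Cohen–Macaulay criterion at the *maximal ideal**: the localization of `P` at `m` is a
Cohen–Macaulay module iff the graded local cohomology vanishes below the dimension. -/
theorem isCohenMacaulayModule_localization_iff [Module.Finite T P] [Nontrivial P]
    (hpos : ∀ n : ℤ, n < 0 → 𝒯 n = ⊥) {m : HomogeneousIdeal 𝒯} (hloc : IsStarLocal 𝒯 m)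
    [hmax : m.toIdeal.IsMaximal]
    (EP : StarInjRes 𝒯 𝒬) (n : ℕ) (hn : Module.supportDim T P = n) :
    LocCoh.IsCohenMacaulayModule (Localization.AtPrime m.toIdeal)
        (LocalizedModule m.toIdeal.primeCompl P) ↔
      ∀ q, q < n → Subsingleton (EP.H m q) := by
  have hIM := smul_top_ne_top 𝒯 𝒬 hloc
  unfold LocCoh.IsCohenMacaulayModule
  rw [supportDim_localization_eq 𝒯 𝒬 hpos hloc, hn, ← idealDepth_eq_depth_localization]
  constructor
  · intro h
    have h1 : LocCoh.idealDepth m.toIdeal P = n := by
      have : ((n : ℕ∞) : WithBot ℕ∞) = ((LocCoh.idealDepth m.toIdeal P : ℕ∞) : WithBot ℕ∞) := h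
      exact (WithBot.coe_injective this).symm
    exact (H_of_idealDepth_eq 𝒯 𝒬 EP m hIM n h1).1
  · intro h
    have hnt := nontrivial_H_of_supportDim 𝒯 𝒬 hpos hloc EP n hn
    rw [idealDepth_eq_of_H 𝒯 𝒬 EP m hIM n h hnt]
    rfl

end Groth.Agent.Lib.Helper11.GrMod
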