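import Groth.Agent.Lib.Helper16.Depth
import Mathlib

/-!
# Transport of the Cohen–Macaulay property of a module along a ring isomorphism
-/

set_option autoImplicit false
set_option linter.unusedSectionVars false
set_option linter.unusedVariables false
set_option linter.style.haveILetI false
universe u

namespace Groth.Agent.Lib.Helper11.GrMod

open RingTheory.Sequence

section Transport

variable {A B : Type u} [CommRing A] [CommRing B] (e : A ≃+* B)
variable {M N : Type u} [AddCommGroup M] [Module A M] [AddCommGroup N] [Module B N]
variable (φ : M ≃+ N) (hφ : ∀ (a : A) (x : M), φ (a • x) = e a • φ x)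

include hφ in
lemma map_mem_smul_top (I : Ideal A) (J : Ideal B) (hIJ : ∀ a ∈ I, e a ∈ J) {x : M}
    (hx : x ∈ I • (⊤ : Submodule A M)) : φ x ∈ J • (⊤ : Submodule B N) := by
  refine Submodule.smul_induction_on hx ?_ ?_
  · intro a ha y _
    rw [hφ]
    exact Submodule.smul_mem_smul (hIJ a ha) trivial
  · intro y z hy hz
    rw [map_add]
    exact add_mem hy hz

include hφ in
lemma idealDepth_le_of_semilinear (I : Ideal A) (J : Ideal B) (hIJ : ∀ a ∈ I, e a ∈ J) :
    LocCoh.idealDepth I M ≤ LocCoh.idealDepth J N := by
  rw [← ENat.forall_natCast_le_iff_le]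
  intro n hn
  rw [Groth.Agent.Lib.Helper16.Depth.le_idealDepth_iff] at hn ⊢
  rcases hn with h | ⟨rs, hlen, hreg, hmem⟩
  · left
    rw [eq_top_iff]
    intro y _
    obtain ⟨x, rfl⟩ := φ.surjective y
    exact map_mem_smul_top e φ hφ I J hIJ (by rw [h]; trivial)
  · right
    refine ⟨rs.map e, by rw [List.length_map, hlen], ?_, ?_⟩
    · refine (φ.isWeaklyRegular_congr (as := rs) (bs := rs.map e) ?_).mp hreg
      exact List.forall₂_map_right_iff.mpr (List.forall₂_same.mpr fun r _ x => hφ r x)
    · intro b hb
      rw [List.mem_map] at hb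
      obtain ⟨a, ha, rfl⟩ := hb
      exact hIJ a (hmem a ha)

include hφ in
lemma symm_semilinear (b : B) (y : N) : φ.symm (b • y) = e.symm b • φ.symm y := by
  apply φ.injective
  rw [hφ, AddEquiv.apply_symm_apply, RingEquiv.apply_symm_apply, AddEquiv.apply_symm_apply]

include hφ in
theorem depth_eq_of_semilinear [IsLocalRing A] [IsLocalRing B] :
    LocCoh.depth A M = LocCoh.depth B N := by
  unfold LocCoh.depth
  apply le_antisymm
  · apply idealDepth_le_of_semilinear e φ hφ
    intro a ha
    rw [IsLocalRing.mem_maximalIdeal, mem_nonunits_iff] at ha ⊢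
    intro h
    apply ha
    have := h.map e.symm
    rwa [RingEquiv.symm_apply_apply] at this
  · apply idealDepth_le_of_semilinear e.symm φ.symm (symm_semilinear e φ hφ)
    intro b hb
    rw [IsLocalRing.mem_maximalIdeal, mem_nonunits_iff] at hb ⊢
    intro h
    apply hb
    have := h.map e
    rwa [RingEquiv.apply_symm_apply] at this

include hφ in
lemma annihilator_map_eq :
    (Module.annihilator A M).map (e : A →+* B) = Module.annihilator B N := by
  ext b
  rw [Module.mem_annihilator]
  constructor
  · intro hb
    rw [Ideal.mem_map_iff_of_surjective (e : A →+* B) e.surjective] at hb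
    obtain ⟨a, ha, rfl⟩ := hb
    intro y
    obtain ⟨x, rfl⟩ := φ.surjective y
    rw [Module.mem_annihilator] at ha
    change e a • φ x = 0
    rw [← hφ, ha x, map_zero]
  · intro hb
    rw [Ideal.mem_map_iff_of_surjective (e : A →+* B) e.surjective]
    refine ⟨e.symm b, ?_, e.apply_symm_apply b⟩
    rw [Module.mem_annihilator]
    intro x
    apply φ.injective
    rw [hφ, RingEquiv.apply_symm_apply, hb, map_zero]

include hφ in
theorem supportDim_eq_of_semilinear [Module.Finite A M] [Module.Finite B N] :
    Module.supportDim A M = Module.supportDim B N := by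
  rw [Module.supportDim_eq_ringKrullDim_quotient_annihilator,
    Module.supportDim_eq_ringKrullDim_quotient_annihilator]
  exact ringKrullDim_eq_of_ringEquiv
    (Ideal.quotientEquiv _ _ e (annihilator_map_eq e φ hφ).symm)

include hφ in
/-- The Cohen–Macaulay property is invariant under a ring isomorphism and a compatible
isomorphism of modules. -/
theorem isCohenMacaulayModule_of_semilinear [IsLocalRing A] [IsLocalRing B]
    [Module.Finite A M] [Module.Finite B N] (h : LocCoh.IsCohenMacaulayModule A M) :
    LocCoh.IsCohenMacaulayModule B N := by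
  unfold LocCoh.IsCohenMacaulayModule at h ⊢
  rw [← supportDim_eq_of_semilinear e φ hφ, ← depth_eq_of_semilinear e φ hφ]
  exact h

end Transport

end Groth.Agent.Lib.Helper11.GrMod
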