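import Groth.Agent.Lib.Helper11.GrModC
import Groth.Agent.Lib.Helper18.CM5

/-!
# The Cohen–Macaulay property of a module passes to smaller primes
-/

set_option autoImplicit false
set_option linter.unusedSectionVars false
set_option linter.unusedVariables false
set_option linter.style.haveILetI false
universe u

namespace Groth.Agent.Lib.Helper11.GrMod

section TwoModels

variable {T : Type u} [CommRing T] (S : Submonoid T)
variable {B B' : Type u} [CommRing B] [CommRing B'] [Algebra T B] [Algebra T B']
  [IsLocalization S B] [IsLocalization S B']
variable {P N N' : Type u} [AddCommGroup P] [Module T P] [AddCommGroup N] [Module T N]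
  [Module B N] [IsScalarTower T B N] [AddCommGroup N'] [Module T N'] [Module B' N']
  [IsScalarTower T B' N']
variable (f : P →ₗ[T] N) [IsLocalizedModule S f] (f' : P →ₗ[T] N') [IsLocalizedModule S f']

/-- the comparison of two localizations of a module is semilinear for the comparison of the
two localizations of the ring. -/
lemma linearEquiv_semilinear (b : B) (x : N) :
    IsLocalizedModule.linearEquiv S f f' (b • x) =
      (IsLocalization.algEquiv S B B' b) • IsLocalizedModule.linearEquiv S f f' x := by
  obtain ⟨⟨t, s⟩, hts⟩ := IsLocalization.surj S b
  simp only at hts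
  set φ := IsLocalizedModule.linearEquiv S f f' with hφdef
  set e := IsLocalization.algEquiv S B B' with hedef
  have h1 : (s : T) • (b • x) = t • x := by
    rw [← algebraMap_smul B (s : T) (b • x), smul_smul, mul_comm, hts, algebraMap_smul]
  have h2 : (s : T) • φ (b • x) = t • φ x := by
    rw [← map_smul, h1, map_smul]
  have h3 : e b * algebraMap T B' (s : T) = algebraMap T B' t := by
    have := congrArg e hts
    rwa [map_mul, AlgEquiv.commutes, AlgEquiv.commutes] at this
  have h4 : (s : T) • (e b • φ x) = t • φ x := by
    rw [← algebraMap_smul B' (s : T) (e b • φ x), smul_smul, mul_comm, h3, algebraMap_smul]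
  have hinj := IsLocalizedModule.smul_injective f' s
  apply hinj
  change (s : T) • φ (b • x) = (s : T) • (e b • φ x)
  rw [h2, h4]

include S f f' in
/-- the Cohen–Macaulay property does not depend on the chosen models of the localizations. -/
theorem isCohenMacaulayModule_of_isLocalizedModule [IsLocalRing B] [IsLocalRing B']
    [Module.Finite B N] [Module.Finite B' N'] (h : LocCoh.IsCohenMacaulayModule B N) :
    LocCoh.IsCohenMacaulayModule B' N' :=
  isCohenMacaulayModule_of_semilinear (IsLocalization.algEquiv S B B').toRingEquiv
    (IsLocalizedModule.linearEquiv S f f').toAddEquiv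
    (fun b x => linearEquiv_semilinear S f f' b x) h

end TwoModels

end Groth.Agent.Lib.Helper11.GrMod

namespace Groth.Agent.Lib.Helper11.GrMod

section AtPrime

variable {T : Type u} [CommRing T] [IsNoetherianRing T] (m : Ideal T) [hm : m.IsPrime]
variable (P : Type u) [AddCommGroup P] [Module T P] [Module.Finite T P]

/-- the Cohen–Macaulay property passes from `P_m` to `P_q` for `q` the contraction of a prime of
`T_m`. -/
theorem isCohenMacaulayModule_comap (q' : Ideal (Localization.AtPrime m)) [hq' : q'.IsPrime]
    (hCM : LocCoh.IsCohenMacaulayModule (Localization.AtPrime m)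
      (LocalizedModule m.primeCompl P))
    (hnt : Nontrivial (LocalizedModule
      (q'.comap (algebraMap T (Localization.AtPrime m))).primeCompl P)) :
    LocCoh.IsCohenMacaulayModule
      (Localization.AtPrime (q'.comap (algebraMap T (Localization.AtPrime m))))
      (LocalizedModule (q'.comap (algebraMap T (Localization.AtPrime m))).primeCompl P) := by
  haveI : IsNoetherianRing (Localization.AtPrime m) :=
    IsLocalization.isNoetherianRing m.primeCompl _ inferInstance
  haveI : Module.Finite (Localization.AtPrime m) (LocalizedModule m.primeCompl P) :=
    Module.Finite.of_isLocalizedModule m.primeCompl (LocalizedModule.mkLinearMap m.primeCompl P)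
  haveI : Module.Finite (Localization.AtPrime q')
      (LocalizedModule q'.primeCompl (LocalizedModule m.primeCompl P)) :=
    Module.Finite.of_isLocalizedModule q'.primeCompl
      (LocalizedModule.mkLinearMap q'.primeCompl (LocalizedModule m.primeCompl P))
  set q := q'.comap (algebraMap T (Localization.AtPrime m)) with hq
  haveI : Module.Finite (Localization.AtPrime q) (LocalizedModule q.primeCompl P) :=
    Module.Finite.of_isLocalizedModule q.primeCompl (LocalizedModule.mkLinearMap q.primeCompl P)
  let f1 := LocalizedModule.mkLinearMap m.primeCompl P
  let f2 := LocalizedModule.mkLinearMap q'.primeCompl (LocalizedModule m.primeCompl P)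
  let f' : P →ₗ[T] LocalizedModule q'.primeCompl (LocalizedModule m.primeCompl P) :=
    (f2.restrictScalars T).comp f1
  have h1 : IsBaseChange (Localization.AtPrime m) f1 :=
    IsLocalizedModule.isBaseChange m.primeCompl (Localization.AtPrime m) f1
  have h2 : IsBaseChange (Localization.AtPrime q') f2 :=
    IsLocalizedModule.isBaseChange q'.primeCompl (Localization.AtPrime q') f2
  have h3 : IsBaseChange (Localization.AtPrime q') f' := IsBaseChange.comp h1 h2
  haveI hloc : IsLocalizedModule q.primeCompl f' :=
    (isLocalizedModule_iff_isBaseChange q.primeCompl (Localization.AtPrime q') f').2 h3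
  let φ := IsLocalizedModule.linearEquiv q.primeCompl (LocalizedModule.mkLinearMap q.primeCompl P) f'
  haveI := hnt
  haveI hnt' : Nontrivial (LocalizedModule q'.primeCompl (LocalizedModule m.primeCompl P)) :=
    φ.injective.nontrivial
  have hsupp : (⟨q', hq'⟩ : PrimeSpectrum (Localization.AtPrime m)) ∈
      Module.support (Localization.AtPrime m) (LocalizedModule m.primeCompl P) :=
    Module.mem_support_iff.2 hnt'
  have hCM' := Groth.Agent.Lib.Helper18.CM.isCohenMacaulayModule_localizedModule q'
    (LocalizedModule m.primeCompl P) hCM hsupp
  exact isCohenMacaulayModule_of_isLocalizedModule q.primeCompl f'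
    (LocalizedModule.mkLinearMap q.primeCompl P) hCM'

/-- the Cohen–Macaulay property passes from `P_m` to `P_q` for primes `q ≤ m`. -/
theorem isCohenMacaulayModule_atPrime_of_le (q : Ideal T) [hq : q.IsPrime] (hqm : q ≤ m)
    (hCM : LocCoh.IsCohenMacaulayModule (Localization.AtPrime m)
      (LocalizedModule m.primeCompl P))
    (hnt : Nontrivial (LocalizedModule q.primeCompl P)) :
    LocCoh.IsCohenMacaulayModule (Localization.AtPrime q) (LocalizedModule q.primeCompl P) := by
  have hdisj : Disjoint (m.primeCompl : Set T) (q : Set T) := by
    rw [Set.disjoint_left]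
    intro x hx hxq
    exact hx (hqm hxq)
  set q' : Ideal (Localization.AtPrime m) := q.map (algebraMap T (Localization.AtPrime m)) with hq'
  haveI hq'p : q'.IsPrime :=
    IsLocalization.isPrime_of_isPrime_disjoint m.primeCompl (Localization.AtPrime m) q hq hdisj
  have hcomap : q'.comap (algebraMap T (Localization.AtPrime m)) = q :=
    IsLocalization.comap_map_of_isPrime_disjoint m.primeCompl (Localization.AtPrime m) hq hdisj
  have key : ∀ (p : Ideal T) [p.IsPrime], p = q →
      LocCoh.IsCohenMacaulayModule (Localization.AtPrime p) (LocalizedModule p.primeCompl P) →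
      LocCoh.IsCohenMacaulayModule (Localization.AtPrime q) (LocalizedModule q.primeCompl P) := by
    intro p _ hp h
    subst hp
    exact h
  haveI : (q'.comap (algebraMap T (Localization.AtPrime m))).IsPrime := Ideal.comap_isPrime _ _
  refine key _ hcomap (isCohenMacaulayModule_comap m P q' hCM ?_)
  have key2 : ∀ (p : Ideal T) [p.IsPrime], p = q → Nontrivial (LocalizedModule p.primeCompl P) := by
    intro p _ hp
    subst hp
    exact hnt
  exact key2 _ hcomap

end AtPrime

end Groth.Agent.Lib.Helper11.GrMod
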