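import Mathlib
import Groth.Prelude.Def_GrLC
import Groth.Prelude.Def_GrLC2
import Groth.Agent.Lib.Helper11.GrCoreF
import Groth.Agent.Lib.Helper11.GrCoarseB
import Groth.Agent.Lib.Helper11.GrHt

/-!
# Bass numbers and heights along `p* ⊆ p` for ℤⁿ-graded Noetherian rings
-/

set_option autoImplicit false
set_option linter.unusedSectionVars false
universe u

namespace Groth.Agent.Lib.Helper11.GrMulti

open DirectSum GrLC Groth.Agent.Lib.Helper11.GrCoarse Groth.Agent.Lib.Helper11.GrHt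
  Groth.Agent.Lib.Helper11.GrCore

variable {ι : Type} [AddCommGroup ι] [DecidableEq ι]
variable {R : Type u} [CommRing R] [IsNoetherianRing R] (𝒜 : ι → AddSubgroup R) [GradedRing 𝒜]
variable {M : Type u} [AddCommGroup M] [Module R M] (ℳ : ι → AddSubgroup M)
  [DirectSum.Decomposition ℳ] [SetLike.GradedSMul 𝒜 ℳ]

include ℳ in
/-- The chain of partial cores. -/
theorem exists_chain {J : Type} (c : J → (ι →+ ℤ)) (p : Ideal R) [hp : p.IsPrime] (L : List J) :
    ∃ (q : Ideal R) (hq : q.IsPrime), (∀ j ∈ L, q.IsHomogeneous (coarse 𝒜 (c j))) ∧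
      (Ideal.homogeneousCore 𝒜 p).toIdeal ≤ q ∧ q ≤ p ∧ ∃ d' : ℕ,
        (∀ I : Ideal R, I.IsHomogeneous 𝒜 → I ≤ q → relHt I p = relHt I q + d') ∧
        (∀ i : ℕ, i < d' → GrLC.bassNum p M i = 0) ∧
        (∀ i : ℕ, d' ≤ i → GrLC.bassNum p M i = @GrLC.bassNum _ _ q hq M _ _ (i - d')) := by
  classical
  induction L with
  | nil =>
    refine ⟨p, hp, fun j hj => absurd hj (List.not_mem_nil), Ideal.toIdeal_homogeneousCore_le 𝒜 p,
      le_rfl, 0, fun I _ _ => by simp, fun i hi => absurd hi (Nat.not_lt_zero i), fun i _ => rfl⟩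
  | cons j L ih =>
    obtain ⟨q, hq, hqhom, hPq, hqp, d', hht, hb0, hb⟩ := ih
    set q' := (Ideal.homogeneousCore (coarse 𝒜 (c j)) q).toIdeal with hq'def
    have hq'prime : q'.IsPrime := Ideal.IsPrime.homogeneousCore hq
    have hq'q : q' ≤ q := Ideal.toIdeal_homogeneousCore_le _ q
    have hcoarse : ∀ I : Ideal R, I.IsHomogeneous 𝒜 → I.IsHomogeneous (coarse 𝒜 (c j)) :=
      fun I hI => isHomogeneous_coarse 𝒜 𝒜 (c j) hI
    have hle : ∀ I : Ideal R, I.IsHomogeneous 𝒜 → I ≤ q → I ≤ q' := by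
      intro I hI hIq
      rw [← (hcoarse I hI).toIdeal_homogeneousCore_eq_self]
      exact Ideal.homogeneousCore_mono _ hIq
    have hPq' : (Ideal.homogeneousCore 𝒜 p).toIdeal ≤ q' :=
      hle _ (Ideal.homogeneousCore 𝒜 p).isHomogeneous hPq
    have hq'hom : ∀ j' ∈ j :: L, q'.IsHomogeneous (coarse 𝒜 (c j')) := by
      intro j' hj'
      rcases List.mem_cons.1 hj' with rfl | hj'
      · exact (Ideal.homogeneousCore (coarse 𝒜 (c j')) q).isHomogeneous
      · exact core_isHomogeneous_coarse 𝒜 (c j') (c j) (hqhom j' hj')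
    by_cases hqj : q.IsHomogeneous (coarse 𝒜 (c j))
    · have heq : q' = q := hqj.toIdeal_homogeneousCore_eq_self
      refine ⟨q, hq, ?_, hPq, hqp, d', hht, hb0, hb⟩
      intro j' hj'
      rw [← heq]
      exact hq'hom j' hj'
    · obtain ⟨h0, hsucc⟩ := bassNum_int (coarse 𝒜 (c j)) (coarse ℳ (c j)) q hqj
      refine ⟨q', hq'prime, hq'hom, hPq', hq'q.trans hqp, d' + 1, ?_, ?_, ?_⟩
      · intro I hI hIq'
        rw [hht I hI (hIq'.trans hq'q),
          relHt_eq_relHt_core_add_one (coarse 𝒜 (c j)) I (hcoarse I hI) q hqj (hIq'.trans hq'q)]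
        push_cast
        ring
      · intro i hi
        by_cases hi' : i < d'
        · exact hb0 i hi'
        · have : i = d' := by omega
          subst this
          rw [hb i le_rfl, Nat.sub_self]
          exact h0
      · intro i hi
        rw [hb i (by omega)]
        have : i - d' = (i - (d' + 1)) + 1 := by omega
        rw [this]
        exact hsucc _

include ℳ in
/-- Bass numbers and heights along `p* ⊆ p`. -/
theorem main [Module.Free ℤ ι] [Module.Finite ℤ ι] (p : Ideal R) [hp : p.IsPrime]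
    [hP : (Ideal.homogeneousCore 𝒜 p).toIdeal.IsPrime] :
    ∃ d' : ℕ,
      (∀ I : Ideal R, I.IsHomogeneous 𝒜 → I ≤ (Ideal.homogeneousCore 𝒜 p).toIdeal →
        relHt I p = relHt I (Ideal.homogeneousCore 𝒜 p).toIdeal + d') ∧
      (∀ i : ℕ, i < d' → GrLC.bassNum p M i = 0) ∧
      (∀ i : ℕ, d' ≤ i → GrLC.bassNum p M i =
        GrLC.bassNum (Ideal.homogeneousCore 𝒜 p).toIdeal M (i - d')) := by
  classical
  let b := Module.Free.chooseBasis ℤ ι
  let c : Module.Free.ChooseBasisIndex ℤ ι → (ι →+ ℤ) := fun j => (b.coord j).toAddMonoidHom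
  obtain ⟨q, hq, hqhom, hPq, hqp, d', hht, hb0, hb⟩ :=
    exists_chain 𝒜 ℳ c p (Finset.univ : Finset (Module.Free.ChooseBasisIndex ℤ ι)).toList
  have hqh : q.IsHomogeneous 𝒜 := by
    refine isHomogeneous_of_forall_coarse 𝒜 (fun j => ⇑(c j))
      (Finset.univ : Finset (Module.Free.ChooseBasisIndex ℤ ι)).toList ?_ hqhom
    intro g h hall
    apply b.ext_elem
    intro j
    have := hall j (Finset.mem_toList.2 (Finset.mem_univ j))
    exact this
  have hqP : q = (Ideal.homogeneousCore 𝒜 p).toIdeal := by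
    apply le_antisymm _ hPq
    rw [← hqh.toIdeal_homogeneousCore_eq_self]
    exact Ideal.homogeneousCore_mono 𝒜 hqp
  subst hqP
  exact ⟨d', hht, hb0, hb⟩

end Groth.Agent.Lib.Helper11.GrMulti
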