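import Groth.Agent.Lib.Helper11.GrModB
import Groth.Agent.Lib.Helper11.GrModD
import Groth.Agent.S13232
import Groth.Agent.S13234

/-!
# Globalization of the Cohen–Macaulay property for finitely generated graded modules
-/

set_option autoImplicit false
set_option linter.unusedSectionVars false
set_option linter.unusedVariables false
set_option linter.style.haveILetI false
universe u

namespace Groth.Agent.Lib.Helper11.GrMod

open DirectSum GrLC Groth.Agent.Lib.Helper11.GrLCLib Groth.Agent.Lib.Helper11.GrHt

variable {T : Type u} [CommRing T] [IsNoetherianRing T] (𝒯 : ℤ → AddSubgroup T) [GradedRing 𝒯]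
variable {P : Type u} [AddCommGroup P] [Module T P] (𝒬 : ℤ → AddSubgroup P)
  [DirectSum.Decomposition 𝒬] [SetLike.GradedSMul 𝒯 𝒬]

/-- the "Cohen–Macaulay at every prime" predicate used in the rows. -/
def IsCMAll (T : Type u) [CommRing T] (P : Type u) [AddCommGroup P] [Module T P] : Prop :=
  ∀ (q : Ideal T) [q.IsPrime], Subsingleton (LocalizedModule q.primeCompl P) ∨
    LocCoh.IsCohenMacaulayModule (Localization.AtPrime q) (LocalizedModule q.primeCompl P)

lemma nontrivial_localizedModule_iff [Module.Finite T P] (q : Ideal T) [hq : q.IsPrime] :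
    Nontrivial (LocalizedModule q.primeCompl P) ↔ Module.annihilator T P ≤ q := by
  rw [← Module.mem_support_iff (p := ⟨q, hq⟩), Module.mem_support_iff_of_finite]

include 𝒬 in
/-- passage from the homogeneous core to a non-homogeneous prime. -/
theorem isCohenMacaulayModule_of_core [Module.Finite T P] (q : Ideal T) [hq : q.IsPrime]
    (hnh : ¬ q.IsHomogeneous 𝒯) [hc : (Ideal.homogeneousCore 𝒯 q).toIdeal.IsPrime]
    (hnt : Nontrivial (LocalizedModule q.primeCompl P))
    (hCM : LocCoh.IsCohenMacaulayModule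
      (Localization.AtPrime (Ideal.homogeneousCore 𝒯 q).toIdeal)
      (LocalizedModule (Ideal.homogeneousCore 𝒯 q).toIdeal.primeCompl P)) :
    LocCoh.IsCohenMacaulayModule (Localization.AtPrime q) (LocalizedModule q.primeCompl P) := by
  have hd : (q.map (Ideal.Quotient.mk (Ideal.homogeneousCore 𝒯 q).toIdeal)).height = ((1 : ℕ) : ℕ∞) := by
    have := relHt_core_eq_one 𝒯 q hnh
    unfold relHt at this
    rw [this]
    rfl
  have h1 := Groth.Agent.S13232.result T 𝒯 P 𝒬 q 1 hd hnt
  have h2 := Groth.Agent.S13234.result T 𝒯 P 𝒬 q 1 hd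
  unfold LocCoh.IsCohenMacaulayModule at hCM ⊢
  rw [h1, h2, hCM]
  push_cast
  rfl

include 𝒬 in
/-- **Globalization**: a finitely generated graded module whose localization at the *maximal
ideal is Cohen–Macaulay is Cohen–Macaulay at every prime of its support. -/
theorem isCMAll_of_local [Module.Finite T P] {m : HomogeneousIdeal 𝒯} (hloc : IsStarLocal 𝒯 m)
    [hmp : m.toIdeal.IsPrime]
    (hCM : LocCoh.IsCohenMacaulayModule (Localization.AtPrime m.toIdeal)
      (LocalizedModule m.toIdeal.primeCompl P)) : IsCMAll T P := by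
  intro q hq
  by_cases hnt : Nontrivial (LocalizedModule q.primeCompl P)
  swap
  · left
    exact not_nontrivial_iff_subsingleton.mp hnt
  right
  have hann : Module.annihilator T P ≤ q := (nontrivial_localizedModule_iff q).mp hnt
  by_cases hqh : q.IsHomogeneous 𝒯
  · have hle := Groth.Agent.Lib.Helper11.GrLes.le_of_isHomogeneous_ne_top 𝒯 hloc q hqh hq.ne_top
    exact isCohenMacaulayModule_atPrime_of_le m.toIdeal P q hle hCM hnt
  · haveI hPp : (Ideal.homogeneousCore 𝒯 q).toIdeal.IsPrime := Ideal.IsPrime.homogeneousCore hq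
    have hPle : (Ideal.homogeneousCore 𝒯 q).toIdeal ≤ m.toIdeal :=
      Groth.Agent.Lib.Helper11.GrLes.le_of_isHomogeneous_ne_top 𝒯 hloc _
        (Ideal.homogeneousCore 𝒯 q).isHomogeneous hPp.ne_top
    have hannhom : (Module.annihilator T P).IsHomogeneous 𝒯 :=
      Groth.Agent.Lib.Helper11.GrDim.annihilator_isHomogeneous 𝒯 𝒬
    have hannP : Module.annihilator T P ≤ (Ideal.homogeneousCore 𝒯 q).toIdeal := by
      rw [← hannhom.toIdeal_homogeneousCore_eq_self]
      exact Ideal.homogeneousCore_mono 𝒯 hann
    have hntP : Nontrivial (LocalizedModule (Ideal.homogeneousCore 𝒯 q).toIdeal.primeCompl P) :=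
      (nontrivial_localizedModule_iff _).mpr hannP
    have hCMP := isCohenMacaulayModule_atPrime_of_le m.toIdeal P
      (Ideal.homogeneousCore 𝒯 q).toIdeal hPle hCM hntP
    exact isCohenMacaulayModule_of_core 𝒯 𝒬 q hqh hnt hCMP

include 𝒬 in
/-- **Cohen–Macaulay criterion**: a non-zero finitely generated graded module of dimension `n`
is Cohen–Macaulay at every prime iff its graded local cohomology vanishes below `n`. -/
theorem isCMAll_iff [Module.Finite T P] [Nontrivial P]
    (hpos : ∀ n : ℤ, n < 0 → 𝒯 n = ⊥) {m : HomogeneousIdeal 𝒯} (hloc : IsStarLocal 𝒯 m)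
    (EP : StarInjRes 𝒯 𝒬) (n : ℕ) (hn : Module.supportDim T P = n) :
    IsCMAll T P ↔ ∀ q, q < n → Subsingleton (EP.H m q) := by
  haveI hmax := Groth.Agent.Lib.Helper11.GrLes.isMaximal_of_isCoatom 𝒯 hpos hloc.1
  haveI hmp : m.toIdeal.IsPrime := hmax.isPrime
  rw [← isCohenMacaulayModule_localization_iff 𝒯 𝒬 hpos hloc EP n hn]
  constructor
  · intro h
    rcases h m.toIdeal with h0 | h0
    · exfalso
      have : Nontrivial (LocalizedModule m.toIdeal.primeCompl P) :=
        (nontrivial_localizedModule_iff _).mpr (annihilator_le 𝒯 𝒬 hloc)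
      exact not_subsingleton _ h0
    · exact h0
  · intro h
    exact isCMAll_of_local 𝒯 𝒬 hloc h

end Groth.Agent.Lib.Helper11.GrMod
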