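import Groth.Agent.Lib.Helper11.GrModB
import Groth.Agent.Lib.Helper11.GrLesE
import Groth.Agent.Lib.Helper11.GrSegK
import Groth.Agent.Lib27.GrFin4
import Groth.Agent.Lib27.Kos6

/-!
# Non-vanishing of the top local cohomology of a graded module in an arithmetic progression
-/

set_option autoImplicit false
set_option linter.unusedSectionVars false
set_option linter.unusedVariables false
set_option linter.style.haveILetI false
set_option maxHeartbeats 1000000
universe u

namespace Groth.Agent.Lib.Helper11.GrMod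

open Pointwise DirectSum GrLC Groth.Agent.Lib.Helper11.GrLCLib Groth.Agent.Lib.Helper11.GrHt
  Groth.Agent.Lib.Helper11.GrLes Groth.Agent.Lib.Helper11.GrShift Groth.Agent.Lib.Helper11.Seg

variable {R : Type u} [CommRing R] [IsNoetherianRing R] (𝒜 : ℤ → AddSubgroup R) [GradedRing 𝒜]

section Zero

variable {N : Type u} [AddCommGroup N] [Module R N] (𝒩 : ℤ → AddSubgroup N)
  [DirectSum.Decomposition 𝒩] [SetLike.GradedSMul 𝒜 𝒩]

include 𝒩 in
/-- a finitely generated graded module of dimension `≤ 0` is torsion for the *maximal ideal. -/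
theorem gam_eq_top_of_supportDim_le_zero [Module.Finite R N]
    (hpos : ∀ n : ℤ, n < 0 → 𝒜 n = ⊥) {m : HomogeneousIdeal 𝒜} (hloc : IsStarLocal 𝒜 m)
    (hdim : Module.supportDim R N ≤ 0) : gam m.toIdeal N = ⊤ := by
  rcases subsingleton_or_nontrivial N with hs | hnt
  · exact Subsingleton.elim _ _
  have hmax := isMaximal_of_isCoatom 𝒜 hpos hloc.1
  haveI hmp : m.toIdeal.IsPrime := hmax.isPrime
  set J := Module.annihilator R N with hJ
  have hJhom : J.IsHomogeneous 𝒜 := Groth.Agent.Lib.Helper11.GrDim.annihilator_isHomogeneous 𝒜 𝒩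
  have hJm : J ≤ m.toIdeal := annihilator_le 𝒜 𝒩 hloc
  have hrel : relHt J m.toIdeal = 0 := by
    have h1 := supportDim_eq_relHt 𝒜 𝒩 hpos hloc
    rw [h1] at hdim
    have : ((relHt J m.toIdeal : ℕ∞) : WithBot ℕ∞) ≤ ((0 : ℕ∞) : WithBot ℕ∞) := hdim
    exact le_antisymm (WithBot.coe_le_coe.mp this) zero_le
  -- `m` is contained in every prime containing `J`
  have hle : m.toIdeal ≤ J.radical := by
    rw [Ideal.radical_eq_sInf]
    apply le_sInf
    rintro p ⟨hJp, hp⟩
    by_cases hph : p.IsHomogeneous 𝒜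
    · have hpm := le_of_isHomogeneous_ne_top 𝒜 hloc p hph hp.ne_top
      by_contra hcon
      have hlt : p < m.toIdeal := lt_of_le_of_ne hpm (fun h => hcon (h ▸ le_rfl))
      have := relHt_add_one_le (J := J) hJp hlt
      rw [hrel] at this
      exact absurd this (by simp)
    · haveI hPp : (Ideal.homogeneousCore 𝒜 p).toIdeal.IsPrime := Ideal.IsPrime.homogeneousCore hp
      have hPm := le_of_isHomogeneous_ne_top 𝒜 hloc _ (Ideal.homogeneousCore 𝒜 p).isHomogeneous
        hPp.ne_top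
      have hJP : J ≤ (Ideal.homogeneousCore 𝒜 p).toIdeal := by
        rw [← hJhom.toIdeal_homogeneousCore_eq_self]
        exact Ideal.homogeneousCore_mono 𝒜 hJp
      by_cases heq : (Ideal.homogeneousCore 𝒜 p).toIdeal = m.toIdeal
      · rw [← heq]
        exact Ideal.toIdeal_homogeneousCore_le 𝒜 p
      · have hlt : (Ideal.homogeneousCore 𝒜 p).toIdeal < m.toIdeal := lt_of_le_of_ne hPm heq
        have := relHt_add_one_le (J := J) hJP hlt
        rw [hrel] at this
        exact absurd this (by simp)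
  obtain ⟨k, hk⟩ := Ideal.exists_pow_le_of_le_radical_of_fg hle
    (IsNoetherian.noetherian m.toIdeal)
  rw [eq_top_iff]
  intro y _
  refine ⟨k, fun r hr => ?_⟩
  have := hk hr
  rw [hJ, Module.mem_annihilator] at this
  exact this y

include 𝒩 in
theorem Hcomp_zero_ne_bot_of_supportDim_le_zero [Module.Finite R N]
    (hpos : ∀ n : ℤ, n < 0 → 𝒜 n = ⊥) {m : HomogeneousIdeal 𝒜} (hloc : IsStarLocal 𝒜 m)
    (hdim : Module.supportDim R N ≤ 0) (F : StarInjRes 𝒜 𝒩) (d : ℤ) (hd : 𝒩 d ≠ ⊥) :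
    F.Hcomp m 0 d ≠ ⊥ := by
  have htop := gam_eq_top_of_supportDim_le_zero 𝒜 𝒩 hpos hloc hdim
  obtain ⟨y, hy, hy0⟩ : ∃ y ∈ 𝒩 d, y ≠ 0 := by
    by_contra hcon
    push Not at hcon
    apply hd
    rw [eq_bot_iff]
    intro y hy
    rw [AddSubgroup.mem_bot]
    exact hcon y hy
  have hyΓ : y ∈ gam m.toIdeal N := by rw [htop]; trivial
  intro hbot
  have h1 := h0_mem F m ⟨y, hyΓ⟩ hy
  rw [hbot, Submodule.mem_bot] at h1
  have h2 := h0_injective F m (h1.trans (map_zero _).symm)
  exact hy0 (congrArg Subtype.val h2)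

end Zero

section Quot

variable {M : Type u} [AddCommGroup M] [Module R M] (ℳ : ℤ → AddSubgroup M)
  [DirectSum.Decomposition ℳ] [SetLike.GradedSMul 𝒜 ℳ]

lemma smulTop_isHomogeneous {x : R} {D : ℤ} (hx : x ∈ 𝒜 D) :
    (x • (⊤ : Submodule R M)).IsHomogeneous ℳ := by
  letI := shiftDecomposition ℳ (-D)
  have hu : IsGrHom (shiftGr ℳ (-D)) ℳ (LinearMap.lsmul R M x) := by
    intro g y hy
    have hy' : y ∈ ℳ (g + -D) := hy
    have := isGrHomDeg_lsmul ℳ 𝒜 hx (g + -D) y hy'
    have e : g + -D + D = g := by abel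
    rw [e] at this
    exact this
  have h1 := range_isHomogeneous (shiftGr ℳ (-D)) ℳ hu
  have h2 : LinearMap.range (LinearMap.lsmul R M x) = x • (⊤ : Submodule R M) := by
    ext y
    rw [Submodule.mem_smul_pointwise_iff_exists]
    constructor
    · rintro ⟨z, rfl⟩
      exact ⟨z, trivial, rfl⟩
    · rintro ⟨z, -, rfl⟩
      exact ⟨z, rfl⟩
  rwa [h2] at h1

include 𝒜 in
/-- some graded piece of `M/xM` in the residue class of `d` is non-zero. -/
theorem exists_piece_quot_ne_bot [Module.Finite R M] (hpos : ∀ n : ℤ, n < 0 → 𝒜 n = ⊥)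
    {x : R} {D : ℕ} (hD : 0 < D) (hx : x ∈ 𝒜 (D : ℤ)) (d : ℤ) (hd : ℳ d ≠ ⊥) :
    ∃ d₀ : ℤ, (D : ℤ) ∣ d₀ - d ∧ quotGrM ℳ (x • (⊤ : Submodule R M)) d₀ ≠ ⊥ := by
  classical
  by_contra hcon
  push Not at hcon
  obtain ⟨n₀, hn₀⟩ := Groth.Agent.Lib27.Kos.exists_bound_below (𝒜 := 𝒜) ℳ hpos
  have key : ∀ n : ℕ, ℳ (d - n * D) ≠ ⊥ := by
    intro n
    induction n with
    | zero => simpa using hd
    | succ n ih =>
      obtain ⟨y, hy, hy0⟩ : ∃ y ∈ ℳ (d - n * D), y ≠ 0 := by
        by_contra hc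
        push Not at hc
        apply ih
        rw [eq_bot_iff]
        intro y hy
        rw [AddSubgroup.mem_bot]
        exact hc y hy
      have hq := hcon (d - n * D) ⟨-(n : ℤ), by ring⟩
      have hmk : (x • (⊤ : Submodule R M)).mkQ y = 0 := by
        have : (x • (⊤ : Submodule R M)).mkQ y ∈ quotGrM ℳ (x • (⊤ : Submodule R M)) (d - n * D) :=
          ⟨y, hy, rfl⟩
        rw [hq, AddSubgroup.mem_bot] at this
        exact this
      rw [Submodule.mkQ_apply, Submodule.Quotient.mk_eq_zero,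
        Submodule.mem_smul_pointwise_iff_exists] at hmk
      obtain ⟨z, -, hz⟩ := hmk
      -- the component of `z`
      have hdeg := isGrHomDeg_lsmul ℳ 𝒜 hx
      have h1 := decompose_map_deg ℳ ℳ hdeg z (d - n * D - D)
      have e : d - n * D - D + D = d - n * D := by ring
      rw [e] at h1
      have h2 : (decompose ℳ (LinearMap.lsmul R M x z) (d - n * D) : M) = y := by
        change (decompose ℳ (x • z) (d - n * D) : M) = y
        rw [hz, decompose_of_mem_same ℳ hy]
      rw [h2] at h1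
      intro hbot
      have hz0 : ((decompose ℳ z (d - n * D - D) : ℳ (d - n * D - D)) : M) = 0 := by
        have hmem : ((decompose ℳ z (d - n * D - D) : ℳ (d - n * D - D)) : M) ∈
            ℳ (d - ((n + 1 : ℕ) : ℤ) * D) := by
          have aux : ∀ (k : ℤ) (w : ℳ k), k = d - ((n + 1 : ℕ) : ℤ) * D →
              (w : M) ∈ ℳ (d - ((n + 1 : ℕ) : ℤ) * D) := by
            rintro k w rfl
            exact w.2
          exact aux _ _ (by push_cast; ring)
        rw [hbot, AddSubgroup.mem_bot] at hmem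
        exact hmem
      apply hy0
      rw [h1, hz0, map_zero]
  -- contradiction with boundedness
  obtain ⟨n, hn⟩ : ∃ n : ℕ, d - n * D < n₀ := by
    refine ⟨(d - n₀ + 1).toNat, ?_⟩
    have h1 : (d - n₀ + 1 : ℤ) ≤ ((d - n₀ + 1).toNat : ℤ) := Int.self_le_toNat _
    have h2 : ((d - n₀ + 1).toNat : ℤ) ≤ ((d - n₀ + 1).toNat : ℤ) * D := by
      have : (1 : ℤ) ≤ D := by exact_mod_cast hD
      nlinarith [Int.natCast_nonneg (d - n₀ + 1).toNat]
    linarith
  apply key n
  rw [eq_bot_iff]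
  intro y hy
  rw [AddSubgroup.mem_bot]
  exact hn₀ _ hn y hy

end Quot

end Groth.Agent.Lib.Helper11.GrMod
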