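import Groth.Agent.Lib.Helper11.GrModF
import Groth.Agent.Lib.Helper11.GrLesF
import Groth.Agent.Lib.Helper11.GrCMGlobB

/-!
# Periodic non-vanishing of the top local cohomology of a graded Cohen–Macaulay module
-/

set_option autoImplicit false
set_option linter.unusedSectionVars false
set_option linter.unusedVariables false
set_option linter.style.haveILetI false
set_option maxHeartbeats 1000000
universe u

namespace Groth.Agent.Lib.Helper11.GrMod

open Pointwise DirectSum GrLC Groth.Agent.Lib.Helper11.GrLCLib Groth.Agent.Lib.Helper11.GrHt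
  Groth.Agent.Lib.Helper11.GrLes Groth.Agent.Lib.Helper11.GrShift Groth.Agent.Lib.Helper11.Seg

variable {R : Type u} [CommRing R] [IsNoetherianRing R] (𝒜 : ℤ → AddSubgroup R) [GradedRing 𝒜]

section

variable {M : Type u} [AddCommGroup M] [Module R M] (ℳ : ℤ → AddSubgroup M)
  [DirectSum.Decomposition ℳ] [SetLike.GradedSMul 𝒜 ℳ]

omit [IsNoetherianRing R] in
lemma range_lsmul_eq (x : R) :
    LinearMap.range (LinearMap.lsmul R M x) = x • (⊤ : Submodule R M) := by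
  ext y
  rw [Submodule.mem_smul_pointwise_iff_exists]
  constructor
  · rintro ⟨z, rfl⟩
    exact ⟨z, trivial, rfl⟩
  · rintro ⟨z, -, rfl⟩
    exact ⟨z, rfl⟩

/-- vanishing of `H^0` kills the socle. -/
lemma no_socle_of_H0 (E : StarInjRes 𝒜 ℳ) (m : HomogeneousIdeal 𝒜)
    (h : Subsingleton (E.H m 0)) : ∀ y : M, (∀ r ∈ m.toIdeal, r • y = 0) → y = 0 := by
  intro y hy
  have hyΓ : y ∈ gam m.toIdeal M := ⟨1, fun r hr => hy r (by simpa using hr)⟩
  have h1 := h0_injective E m (Subsingleton.elim (h0 E m ⟨y, hyΓ⟩) (h0 E m 0))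
  exact congrArg Subtype.val h1

lemma supportDim_quot_le {x : R} (hreg : IsSMulRegular M x) [Module.Finite R M] (r : ℕ)
    (hdim : Module.supportDim R M ≤ ((r + 1 : ℕ) : WithBot ℕ∞)) :
    Module.supportDim R (M ⧸ x • (⊤ : Submodule R M)) ≤ (r : WithBot ℕ∞) := by
  have h1 : Module.supportDim R (QuotSMulTop x M) + 1 ≤ Module.supportDim R M :=
    Module.supportDim_quotSMulTop_succ_le_of_notMem_minimalPrimes
      (fun _ => hreg.notMem_of_mem_minimalPrimes)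
  have h2 : Module.supportDim R (QuotSMulTop x M) + 1 ≤ ((r + 1 : ℕ) : WithBot ℕ∞) :=
    h1.trans hdim
  change Module.supportDim R (QuotSMulTop x M) ≤ _
  rcases hb : Module.supportDim R (QuotSMulTop x M) with _ | a
  · exact bot_le
  · rw [hb] at h2
    have h3 : ((a + 1 : ℕ∞) : WithBot ℕ∞) ≤ (((r + 1 : ℕ) : ℕ∞) : WithBot ℕ∞) := h2
    have h4 : a + 1 ≤ ((r + 1 : ℕ) : ℕ∞) := WithBot.coe_le_coe.mp h3
    have h5 : a ≤ (r : ℕ∞) := by
      rw [Nat.cast_add, Nat.cast_one] at h4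
      exact (ENat.add_le_add_iff_right ENat.one_ne_top).mp h4
    exact WithBot.coe_le_coe.mpr h5

end

/-- **Non-vanishing in a residue class**: for a graded module `M` with `H^i_m(M) = 0` for `i < r`
and `dim M ≤ r`, every residue class mod `L` of degrees `d` with `M_d ≠ 0` contains a degree `j`
with `H^r_m(M)_j ≠ 0`. -/
theorem exists_Hcomp_ne_bot (hpos : ∀ n : ℤ, n < 0 → 𝒜 n = ⊥) {m : HomogeneousIdeal 𝒜}
    (hloc : IsStarLocal 𝒜 m)
    (hmsp : m.toIdeal = Ideal.span (⋃ n ∈ Set.Ioi (0 : ℤ), (𝒜 n : Set R))) (L : ℕ) (hL : 0 < L) :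
    ∀ (r : ℕ) (M : Type u) [AddCommGroup M] [Module R M] [Module.Finite R M]
      (ℳ : ℤ → AddSubgroup M) [DirectSum.Decomposition ℳ] [SetLike.GradedSMul 𝒜 ℳ]
      (E : StarInjRes 𝒜 ℳ), (∀ i, i < r → Subsingleton (E.H m i)) →
      Module.supportDim R M ≤ (r : WithBot ℕ∞) →
      ∀ d : ℤ, ℳ d ≠ ⊥ → ∃ j : ℤ, (L : ℤ) ∣ j - d ∧ E.Hcomp m r j ≠ ⊥ := by
  intro r
  induction r with
  | zero =>
    intro M _ _ _ ℳ _ _ E _ hdim d hd
    refine ⟨d, by simp, ?_⟩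
    exact Hcomp_zero_ne_bot_of_supportDim_le_zero 𝒜 ℳ hpos hloc (by simpa using hdim) E d hd
  | succ r ih =>
    intro M _ _ _ ℳ _ _ E hvan hdim d hd
    have hΓ := no_socle_of_H0 𝒜 ℳ E m (hvan 0 (Nat.succ_pos r))
    obtain ⟨c, y, hc, hyc, hym, hreg⟩ := Groth.Agent.Lib27.GrFin.exists_regular 𝒜 hpos m
      (Groth.Agent.Lib27.GrFin.irr_deg_zero 𝒜 hpos m hmsp) M hΓ
    have hyreg : IsSMulRegular M y := by
      intro a b hab
      have hab' : y • a = y • b := hab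
      have : y • (a - b) = 0 := by rw [smul_sub, hab', sub_self]
      exact sub_eq_zero.mp (hreg _ this)
    have hxreg : IsSMulRegular M (y ^ L) := hyreg.pow L
    have hxdeg : y ^ L ∈ 𝒜 (((L * c : ℕ)) : ℤ) := by
      have h1 := SetLike.pow_mem_graded L hyc
      have e : L • (c : ℤ) = ((L * c : ℕ) : ℤ) := by
        rw [nsmul_eq_mul]; push_cast; ring
      rwa [e] at h1
    have hDpos : 0 < L * c := Nat.mul_pos hL hc
    obtain ⟨d₀, hd₀, hd₀ne⟩ := exists_piece_quot_ne_bot 𝒜 ℳ hpos hDpos hxdeg d hd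
    have hhom := smulTop_isHomogeneous 𝒜 ℳ hxdeg
    letI := quotDecomposition ℳ ((y ^ L) • (⊤ : Submodule R M)) hhom
    obtain ⟨F⟩ := nonempty_starInjRes 𝒜 (quotGrM ℳ ((y ^ L) • (⊤ : Submodule R M)))
    have hπk : LinearMap.ker ((y ^ L) • (⊤ : Submodule R M)).mkQ =
        LinearMap.range (LinearMap.lsmul R M (y ^ L)) := by
      rw [Submodule.ker_mkQ, range_lsmul_eq]
    obtain ⟨p, γ, hp, hγ, h1, h2, h3, h4⟩ := exists_les_smul E F hxdeg hxreg
      ((y ^ L) • (⊤ : Submodule R M)).mkQ (mkQ_isGrHom ℳ _) (Submodule.mkQ_surjective _) hπk m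
    have hvanF : ∀ i, i < r + 1 → ∀ z : F.H m i, γ i z = 0 → z = 0 := by
      intro i hi z hz
      obtain ⟨w, rfl⟩ := (h2 i z).1 hz
      have := hvan i hi
      rw [Subsingleton.elim w 0, map_zero]
    have hFvan : ∀ i, i < r → Subsingleton (F.H m i) := by
      intro i hi
      refine ⟨fun z z' => ?_⟩
      have := hvan (i + 1) (by omega)
      have e1 := hvanF i (by omega) z (Subsingleton.elim _ _)
      have e2 := hvanF i (by omega) z' (Subsingleton.elim _ _)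
      rw [e1, e2]
    have hFdim := supportDim_quot_le hxreg r hdim
    obtain ⟨j, hj, hjne⟩ := ih (M ⧸ (y ^ L) • (⊤ : Submodule R M))
      (quotGrM ℳ ((y ^ L) • (⊤ : Submodule R M))) F hFvan hFdim d₀ hd₀ne
    obtain ⟨z, hz, hz0⟩ := (Submodule.ne_bot_iff _).mp hjne
    refine ⟨j + -((L * c : ℕ) : ℤ), ?_, ?_⟩
    · obtain ⟨u, hu⟩ := hj
      obtain ⟨v, hv⟩ := hd₀
      refine ⟨u + v * c - c, ?_⟩
      have : j - d = (L : ℤ) * u + ((L * c : ℕ) : ℤ) * v := by rw [← hu, ← hv]; ring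
      push_cast at this ⊢
      linarith [this]
    · rw [Submodule.ne_bot_iff]
      refine ⟨γ r z, hγ r j z hz, ?_⟩
      intro h0
      exact hz0 (hvanF r (by omega) z h0)

/-- **Periodicity of the top local cohomology**: for a graded module `M` with `H^i_m(M) = 0` for
`i < r + 1` and `dim M ≤ r + 1` there is a period `c > 0` such that for all `t > 0` every degree
`d` with `M_d ≠ 0` is congruent mod `tc` to a degree `j` with `H^{r+1}_m(M)_{j - n t c} ≠ 0` for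
all `n`. -/
theorem exists_period (hpos : ∀ n : ℤ, n < 0 → 𝒜 n = ⊥) {m : HomogeneousIdeal 𝒜}
    (hloc : IsStarLocal 𝒜 m)
    (hmsp : m.toIdeal = Ideal.span (⋃ n ∈ Set.Ioi (0 : ℤ), (𝒜 n : Set R))) (r : ℕ)
    {M : Type u} [AddCommGroup M] [Module R M] [Module.Finite R M]
    (ℳ : ℤ → AddSubgroup M) [DirectSum.Decomposition ℳ] [SetLike.GradedSMul 𝒜 ℳ]
    (E : StarInjRes 𝒜 ℳ) (hvan : ∀ i, i < r + 1 → Subsingleton (E.H m i))
    (hdim : Module.supportDim R M ≤ ((r + 1 : ℕ) : WithBot ℕ∞)) :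
    ∃ c : ℕ, 0 < c ∧ ∀ t : ℕ, 0 < t → ∀ d : ℤ, ℳ d ≠ ⊥ →
      ∃ j : ℤ, ((t * c : ℕ) : ℤ) ∣ j - d ∧
        ∀ n : ℕ, E.Hcomp m (r + 1) (j - n * ((t * c : ℕ) : ℤ)) ≠ ⊥ := by
  have hΓ := no_socle_of_H0 𝒜 ℳ E m (hvan 0 (Nat.succ_pos r))
  obtain ⟨c, y, hc, hyc, hym, hreg⟩ := Groth.Agent.Lib27.GrFin.exists_regular 𝒜 hpos m
    (Groth.Agent.Lib27.GrFin.irr_deg_zero 𝒜 hpos m hmsp) M hΓ
  refine ⟨c, hc, fun t ht d hd => ?_⟩
  have hyreg : IsSMulRegular M y := by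
    intro a b hab
    have hab' : y • a = y • b := hab
    have : y • (a - b) = 0 := by rw [smul_sub, hab', sub_self]
    exact sub_eq_zero.mp (hreg _ this)
  have hxreg : IsSMulRegular M (y ^ t) := hyreg.pow t
  have hxdeg : y ^ t ∈ 𝒜 (((t * c : ℕ)) : ℤ) := by
    have h1 := SetLike.pow_mem_graded t hyc
    have e : t • (c : ℤ) = ((t * c : ℕ) : ℤ) := by
      rw [nsmul_eq_mul]; push_cast; ring
    rwa [e] at h1
  have hDpos : 0 < t * c := Nat.mul_pos ht hc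
  obtain ⟨j, hj, hjne⟩ := exists_Hcomp_ne_bot 𝒜 hpos hloc hmsp (t * c) hDpos (r + 1) M ℳ E hvan
    hdim d hd
  refine ⟨j, hj, ?_⟩
  -- the quotient
  have hhom := smulTop_isHomogeneous 𝒜 ℳ hxdeg
  letI := quotDecomposition ℳ ((y ^ t) • (⊤ : Submodule R M)) hhom
  obtain ⟨F⟩ := nonempty_starInjRes 𝒜 (quotGrM ℳ ((y ^ t) • (⊤ : Submodule R M)))
  have hπk : LinearMap.ker ((y ^ t) • (⊤ : Submodule R M)).mkQ =
      LinearMap.range (LinearMap.lsmul R M (y ^ t)) := by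
    rw [Submodule.ker_mkQ, range_lsmul_eq]
  obtain ⟨p, γ, hp, hγ, h1, h2, h3, h4⟩ := exists_les_smul E F hxdeg hxreg
    ((y ^ t) • (⊤ : Submodule R M)).mkQ (mkQ_isGrHom ℳ _) (Submodule.mkQ_surjective _) hπk m
  have hFdim := supportDim_quot_le hxreg r hdim
  have hFtop : Subsingleton (F.H m (r + 1)) :=
    Groth.Agent.Lib.Helper11.GrCMGlob.subsingleton_H_of_dim_lt F m r hFdim (r + 1) (by omega)
  have hsurj : ∀ z : E.H m (r + 1), ∃ w : E.H m (r + 1), (y ^ t) • w = z := by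
    intro z
    exact (h1 (r + 1) z).1 (Subsingleton.elim _ _)
  have hint := Hgr_isInternal 𝒜 ℳ E m (r + 1)
  have hdeg : IsGrHomDeg (E.Hgr m (r + 1)) (E.Hgr m (r + 1))
      (LinearMap.lsmul R (E.H m (r + 1)) (y ^ t)) (((t * c : ℕ)) : ℤ) := by
    intro g z hz
    exact smul_mem_Hcomp E m (r + 1) hxdeg hz
  have hprop : ∀ j' : ℤ, E.Hcomp m (r + 1) j' ≠ ⊥ →
      E.Hcomp m (r + 1) (j' - ((t * c : ℕ) : ℤ)) ≠ ⊥ := by
    intro j' hj'
    obtain ⟨z, hz, hz0⟩ := (Submodule.ne_bot_iff _).mp hj'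
    obtain ⟨w, hw⟩ := hsurj z
    have hz' : z ∈ E.Hgr m (r + 1) ((j' - ((t * c : ℕ) : ℤ)) + ((t * c : ℕ) : ℤ)) := by
      rw [sub_add_cancel]
      exact hz
    obtain ⟨w', hw', hw'z⟩ := exists_homogeneous_preimage (E.Hgr m (r + 1)) (E.Hgr m (r + 1))
      hint hint (LinearMap.lsmul R (E.H m (r + 1)) (y ^ t)) _ hdeg
      (j' - ((t * c : ℕ) : ℤ)) z hz' w hw
    rw [Submodule.ne_bot_iff]
    refine ⟨w', hw', ?_⟩
    intro h0
    apply hz0
    rw [← hw'z, h0, map_zero]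
  intro n
  induction n with
  | zero => simpa using hjne
  | succ n ih =>
    have := hprop _ ih
    have e : j - (n : ℤ) * ((t * c : ℕ) : ℤ) - ((t * c : ℕ) : ℤ) =
        j - ((n + 1 : ℕ) : ℤ) * ((t * c : ℕ) : ℤ) := by push_cast; ring
    rwa [e] at this

/-- **A common degree**: two graded Cohen–Macaulay modules (over two graded rings) of positive
dimensions with a common non-zero degree have a common degree in which both top local cohomology
modules are non-zero. -/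
theorem exists_common_degree (hpos : ∀ n : ℤ, n < 0 → 𝒜 n = ⊥) {m : HomogeneousIdeal 𝒜}
    (hloc : IsStarLocal 𝒜 m)
    (hmsp : m.toIdeal = Ideal.span (⋃ n ∈ Set.Ioi (0 : ℤ), (𝒜 n : Set R))) (r : ℕ)
    {M : Type u} [AddCommGroup M] [Module R M] [Module.Finite R M]
    (ℳ : ℤ → AddSubgroup M) [DirectSum.Decomposition ℳ] [SetLike.GradedSMul 𝒜 ℳ]
    (E : StarInjRes 𝒜 ℳ) (hvan : ∀ i, i < r + 1 → Subsingleton (E.H m i))
    (hdim : Module.supportDim R M ≤ ((r + 1 : ℕ) : WithBot ℕ∞))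
    {S : Type u} [CommRing S] [IsNoetherianRing S] (ℬ : ℤ → AddSubgroup S) [GradedRing ℬ]
    (hposS : ∀ n : ℤ, n < 0 → ℬ n = ⊥) {n : HomogeneousIdeal ℬ}
    (hlocS : IsStarLocal ℬ n)
    (hnsp : n.toIdeal = Ideal.span (⋃ n ∈ Set.Ioi (0 : ℤ), (ℬ n : Set S))) (s : ℕ)
    {N : Type u} [AddCommGroup N] [Module S N] [Module.Finite S N]
    (𝒩 : ℤ → AddSubgroup N) [DirectSum.Decomposition 𝒩] [SetLike.GradedSMul ℬ 𝒩]
    (F : StarInjRes ℬ 𝒩) (hvanS : ∀ i, i < s + 1 → Subsingleton (F.H n i))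
    (hdimS : Module.supportDim S N ≤ ((s + 1 : ℕ) : WithBot ℕ∞))
    (d : ℤ) (hdM : ℳ d ≠ ⊥) (hdN : 𝒩 d ≠ ⊥) :
    ∃ e : ℤ, E.Hcomp m (r + 1) e ≠ ⊥ ∧ F.Hcomp n (s + 1) e ≠ ⊥ := by
  obtain ⟨cM, hcM, hM⟩ := exists_period 𝒜 hpos hloc hmsp r ℳ E hvan hdim
  obtain ⟨cN, hcN, hN⟩ := exists_period ℬ hposS hlocS hnsp s 𝒩 F hvanS hdimS
  obtain ⟨jM, hjM, hjM'⟩ := hM cN hcN d hdM
  obtain ⟨jN, hjN, hjN'⟩ := hN cM hcM d hdN
  have eL : ((cM * cN : ℕ) : ℤ) = ((cN * cM : ℕ) : ℤ) := by rw [Nat.mul_comm]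
  rw [eL] at hjN hjN'
  obtain ⟨u, hu⟩ := hjM
  obtain ⟨v, hv⟩ := hjN
  have hdiff : jM - jN = ((cN * cM : ℕ) : ℤ) * (u - v) := by
    have : jM - jN = (jM - d) - (jN - d) := by ring
    rw [this, hu, hv]; ring
  rcases le_total 0 (u - v) with h | h
  · -- degree `jN`
    refine ⟨jN, ?_, ?_⟩
    · have h1 := hjM' (u - v).toNat
      have e : jM - ((u - v).toNat : ℤ) * ((cN * cM : ℕ) : ℤ) = jN := by
        rw [Int.toNat_of_nonneg h]
        linarith [hdiff]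
      rwa [e] at h1
    · have h1 := hjN' 0
      simpa using h1
  · refine ⟨jM, ?_, ?_⟩
    · have h1 := hjM' 0
      simpa using h1
    · have h1 := hjN' (v - u).toNat
      have e : jN - ((v - u).toNat : ℤ) * ((cN * cM : ℕ) : ℤ) = jM := by
        rw [Int.toNat_of_nonneg (by linarith)]
        linarith [hdiff]
      rwa [e] at h1

end Groth.Agent.Lib.Helper11.GrMod
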