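import Groth.Agent.Lib.Helper11.GrModG
import Groth.Agent.Lib.Helper11.GrFunA

/-!
# Multiplication by a homogeneous element on the top local cohomology (no regularity needed)
-/

set_option autoImplicit false
set_option linter.unusedSectionVars false
set_option linter.unusedVariables false
set_option linter.style.haveILetI false
set_option maxHeartbeats 1000000
universe u

namespace Groth.Agent.Lib.Helper11.GrPar

open DirectSum GrLC Groth.Agent.Lib.Helper11.GrLCLib Groth.Agent.Lib.Helper11.GrLes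

variable {R : Type u} [CommRing R] [IsNoetherianRing R] {𝒜 : ℤ → AddSubgroup R} [GradedRing 𝒜]
variable {M : Type u} [AddCommGroup M] [Module R M] {ℳ : ℤ → AddSubgroup M}
  [DirectSum.Decomposition ℳ] [SetLike.GradedSMul 𝒜 ℳ]
variable {N : Type u} [AddCommGroup N] [Module R N] {𝒩 : ℤ → AddSubgroup N}
  [DirectSum.Decomposition 𝒩] [SetLike.GradedSMul 𝒜 𝒩]

/-- **Right exactness of the top local cohomology**: if `dim M ≤ r`, `M'' = M/xM` and a class
`z ∈ H^r_a(M)` dies in `H^r_a(M/xM)`, then `z ∈ x H^r_a(M)`. -/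
theorem exists_smul_eq (E : StarInjRes 𝒜 ℳ) (F : StarInjRes 𝒜 𝒩) {x : R} {c : ℤ} (hx : x ∈ 𝒜 c)
    (π : M →ₗ[R] N) (hπ : IsGrHom ℳ 𝒩 π) (hπs : Function.Surjective π)
    (hπk : LinearMap.ker π = LinearMap.range (LinearMap.lsmul R M x)) (a : HomogeneousIdeal 𝒜)
    (r : ℕ) (hdim : Module.supportDim R M ≤ (r : WithBot ℕ∞))
    (cπ : CMap E F) (hcπ : cπ.IsDeg 0) (hlπ : cπ.Lifts π)
    (z : E.H a r) (hz : cπ.Hmap a r z = 0) : ∃ w : E.H a r, x • w = z := by
  -- the submodule `xM`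
  set U : Submodule R M := LinearMap.range (LinearMap.lsmul R M x) with hU
  have hUhom : U.IsHomogeneous ℳ := range_isHomogeneous_deg ℳ ℳ (isGrHomDeg_lsmul ℳ 𝒜 hx)
  letI := subDecomposition ℳ U hUhom
  obtain ⟨EU⟩ := nonempty_starInjRes 𝒜 (subGr ℳ U)
  obtain ⟨cu, hcu, hlu⟩ := exists_cmap EU E U.subtype 0
    ((isGrHomDeg_zero_iff (subGr ℳ U) ℳ).mpr (subtype_isGrHom ℳ U))
  have hex2 : LinearMap.ker π = LinearMap.range U.subtype := by
    rw [Submodule.range_subtype, hπk]
  obtain ⟨γ2, -, hmid2, -, -, -⟩ := exists_les EU E F U.subtype π (subtype_isGrHom ℳ U) hπ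
    (Submodule.injective_subtype U) hπs hex2 a cu hcu hlu cπ hcπ hlπ
  obtain ⟨z', hz'⟩ := (hmid2 r z).mp hz
  -- the first short exact sequence
  letI := shiftDecomposition ℳ (-c)
  let x' : M →ₗ[R] ↥U := (LinearMap.lsmul R M x).rangeRestrict
  have hx' : IsGrHom (shiftGr ℳ (-c)) (subGr ℳ U) x' := by
    intro g y hy
    have hy' : y ∈ ℳ (g + -c) := hy
    have := isGrHomDeg_lsmul ℳ 𝒜 hx (g + -c) y hy'
    have e : g + -c + c = g := by abel
    rw [e] at this
    exact this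
  set K : Submodule R M := LinearMap.ker x' with hK
  have hKhom : K.IsHomogeneous (shiftGr ℳ (-c)) :=
    ker_isHomogeneous (shiftGr ℳ (-c)) (subGr ℳ U) hx'
  letI := subDecomposition (shiftGr ℳ (-c)) K hKhom
  obtain ⟨EK⟩ := nonempty_starInjRes 𝒜 (subGr (shiftGr ℳ (-c)) K)
  obtain ⟨ck, hck, hlk⟩ := exists_cmap EK (shiftRes E (-c)) K.subtype 0
    ((isGrHomDeg_zero_iff (subGr (shiftGr ℳ (-c)) K) (shiftGr ℳ (-c))).mpr
      (subtype_isGrHom (shiftGr ℳ (-c)) K))
  obtain ⟨cx, hcx, hlx⟩ := exists_cmap (shiftRes E (-c)) EU x' 0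
    ((isGrHomDeg_zero_iff (shiftGr ℳ (-c)) (subGr ℳ U)).mpr hx')
  have hex1 : LinearMap.ker x' = LinearMap.range K.subtype := by
    rw [Submodule.range_subtype]
  obtain ⟨γ1, -, -, hright1, -, -⟩ := exists_les EK (shiftRes E (-c)) EU K.subtype x'
    (subtype_isGrHom (shiftGr ℳ (-c)) K) hx' (Submodule.injective_subtype K)
    (LinearMap.surjective_rangeRestrict _) hex1 a ck hck hlk cx hcx hlx
  have hdimK : Module.supportDim R ↥K ≤ (r : WithBot ℕ∞) :=
    le_trans (Module.supportDim_le_of_injective K.subtype (Submodule.injective_subtype K)) hdim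
  haveI : Subsingleton (EK.H a (r + 1)) :=
    Groth.Agent.Lib.Helper11.GrCMGlob.subsingleton_H_of_dim_lt EK a r hdimK (r + 1) (by omega)
  obtain ⟨w', hw'⟩ := (hright1 r z').mp (Subsingleton.elim _ _)
  -- compose
  have hcomp : (cu.comp cx).Hmap a r = (smulShift E x c).Hmap a r := by
    apply CMap.Hmap_eq_of_homotopic a
    refine homotopic_of_lifts _ _ (LinearMap.lsmul R M x) 0 ?_ (smulShift_isDeg E hx) ?_
      (smulShift_lifts E x c)
    · have := CMap.comp_isDeg hcu hcx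
      rwa [add_zero] at this
    · have := CMap.comp_lifts hlu hlx
      exact this
  refine ⟨shiftResH E (-c) a r w', ?_⟩
  rw [← smulShift_Hmap, ← hcomp, CMap.Hmap_comp, LinearMap.comp_apply, hw', hz']

end Groth.Agent.Lib.Helper11.GrPar
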