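import Groth.Agent.Lib.Helper11.GrParA

/-!
# The top local cohomology of a graded module over a standard graded ring has no gaps
-/

set_option autoImplicit false
set_option linter.unusedSectionVars false
set_option linter.unusedVariables false
set_option linter.style.haveILetI false
set_option maxHeartbeats 1000000
universe u

namespace Groth.Agent.Lib.Helper11.GrPar

open DirectSum GrLC Groth.Agent.Lib.Helper11.GrLCLib Groth.Agent.Lib.Helper11.GrLes
  Groth.Agent.Lib.Helper11.GrMod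
open scoped Pointwise

variable {R : Type u} [CommRing R] [IsNoetherianRing R] {𝒜 : ℤ → AddSubgroup R} [GradedRing 𝒜]

section Two

variable {M : Type u} [AddCommGroup M] [Module R M] {ℳ : ℤ → AddSubgroup M}
  [DirectSum.Decomposition ℳ] [SetLike.GradedSMul 𝒜 ℳ]
variable {N : Type u} [AddCommGroup N] [Module R N] {𝒩 : ℤ → AddSubgroup N}
  [DirectSum.Decomposition 𝒩] [SetLike.GradedSMul 𝒜 𝒩]

/-- graded form of `exists_smul_eq`. -/
theorem exists_smul_eq_homog (E : StarInjRes 𝒜 ℳ) (F : StarInjRes 𝒜 𝒩) {x : R} {c : ℤ}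
    (hx : x ∈ 𝒜 c) (π : M →ₗ[R] N) (hπ : IsGrHom ℳ 𝒩 π) (hπs : Function.Surjective π)
    (hπk : LinearMap.ker π = LinearMap.range (LinearMap.lsmul R M x)) (a : HomogeneousIdeal 𝒜)
    (r : ℕ) (hdim : Module.supportDim R M ≤ (r : WithBot ℕ∞)) (j : ℤ)
    (hF : F.Hcomp a r j = ⊥) {z : E.H a r} (hz : z ∈ E.Hcomp a r j) :
    ∃ w ∈ E.Hcomp a r (j - c), x • w = z := by
  obtain ⟨cπ, hcπ, hlπ⟩ := exists_cmap E F π 0 ((isGrHomDeg_zero_iff ℳ 𝒩).mpr hπ)
  have h1 : cπ.Hmap a r z ∈ F.Hcomp a r (j + 0) := CMap.Hmap_mem_Hcomp cπ a hcπ r hz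
  rw [add_zero, hF, Submodule.mem_bot] at h1
  obtain ⟨w, hw⟩ := exists_smul_eq E F hx π hπ hπs hπk a r hdim cπ hcπ hlπ z h1
  have hint := Hgr_isInternal 𝒜 ℳ E a r
  have hdeg : IsGrHomDeg (E.Hgr a r) (E.Hgr a r) (LinearMap.lsmul R (E.H a r) x) c := by
    intro g y hy
    exact smul_mem_Hcomp E a r hx hy
  have hz' : z ∈ E.Hgr a r ((j - c) + c) := by
    rw [sub_add_cancel]
    exact hz
  obtain ⟨w', hw', hw'z⟩ := exists_homogeneous_preimage (E.Hgr a r) (E.Hgr a r)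
    hint hint (LinearMap.lsmul R (E.H a r) x) c hdeg (j - c) z hz' w hw
  exact ⟨w', hw', hw'z⟩

/-- `H^r_a(M) → H^r_a(M'')` is onto when `dim M ≤ r`, degree by degree. -/
theorem exists_preimage_top (E : StarInjRes 𝒜 ℳ) (F : StarInjRes 𝒜 𝒩)
    (π : M →ₗ[R] N) (hπ : IsGrHom ℳ 𝒩 π) (hπs : Function.Surjective π) (a : HomogeneousIdeal 𝒜)
    (r : ℕ) (hdim : Module.supportDim R M ≤ (r : WithBot ℕ∞))
    (cπ : CMap E F) (hcπ : cπ.IsDeg 0) (hlπ : cπ.Lifts π) (j : ℤ)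
    {y : F.H a r} (hy : y ∈ F.Hcomp a r j) : ∃ z ∈ E.Hcomp a r j, cπ.Hmap a r z = y := by
  set U : Submodule R M := LinearMap.ker π with hU
  have hUhom : U.IsHomogeneous ℳ := ker_isHomogeneous ℳ 𝒩 hπ
  letI := subDecomposition ℳ U hUhom
  obtain ⟨EU⟩ := nonempty_starInjRes 𝒜 (subGr ℳ U)
  obtain ⟨cu, hcu, hlu⟩ := exists_cmap EU E U.subtype 0
    ((isGrHomDeg_zero_iff (subGr ℳ U) ℳ).mpr (subtype_isGrHom ℳ U))
  have hex : LinearMap.ker π = LinearMap.range U.subtype := by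
    rw [Submodule.range_subtype]
  obtain ⟨γ, -, -, hright, -, -⟩ := exists_les EU E F U.subtype π (subtype_isGrHom ℳ U) hπ
    (Submodule.injective_subtype U) hπs hex a cu hcu hlu cπ hcπ hlπ
  have hdimU : Module.supportDim R ↥U ≤ (r : WithBot ℕ∞) :=
    le_trans (Module.supportDim_le_of_injective U.subtype (Submodule.injective_subtype U)) hdim
  haveI : Subsingleton (EU.H a (r + 1)) :=
    Groth.Agent.Lib.Helper11.GrCMGlob.subsingleton_H_of_dim_lt EU a r hdimU (r + 1) (by omega)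
  obtain ⟨z, hz⟩ := (hright r y).mp (Subsingleton.elim _ _)
  have hdeg : IsGrHomDeg (E.Hgr a r) (F.Hgr a r) (cπ.Hmap a r) 0 := by
    intro g w hw
    exact CMap.Hmap_mem_Hcomp cπ a hcπ r hw
  have hy' : y ∈ F.Hgr a r (j + 0) := by
    rw [add_zero]; exact hy
  obtain ⟨z', hz', hz'y⟩ := exists_homogeneous_preimage (E.Hgr a r) (F.Hgr a r)
    (Hgr_isInternal 𝒜 ℳ E a r) (Hgr_isInternal 𝒜 𝒩 F a r) (cπ.Hmap a r) 0 hdeg j y hy' z hz
  exact ⟨z', hz', hz'y⟩

/-- vanishing of a piece of the top cohomology passes to quotients. -/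
theorem Hcomp_top_eq_bot_of_surjective (E : StarInjRes 𝒜 ℳ) (F : StarInjRes 𝒜 𝒩)
    (π : M →ₗ[R] N) (hπ : IsGrHom ℳ 𝒩 π) (hπs : Function.Surjective π) (a : HomogeneousIdeal 𝒜)
    (r : ℕ) (hdim : Module.supportDim R M ≤ (r : WithBot ℕ∞)) (j : ℤ)
    (h : E.Hcomp a r j = ⊥) : F.Hcomp a r j = ⊥ := by
  obtain ⟨cπ, hcπ, hlπ⟩ := exists_cmap E F π 0 ((isGrHomDeg_zero_iff ℳ 𝒩).mpr hπ)
  rw [eq_bot_iff]
  intro y hy
  obtain ⟨z, hz, rfl⟩ := exists_preimage_top E F π hπ hπs a r hdim cπ hcπ hlπ j hy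
  rw [h, Submodule.mem_bot] at hz
  rw [hz, map_zero]
  exact zero_mem _

end Two

section List

/-- all finitely generated graded modules killed by `Z` have vanishing `H^r_a` in degree `j`. -/
def KillVanish (a : HomogeneousIdeal 𝒜) (r : ℕ) (j : ℤ) (Z : Set R) : Prop :=
  ∀ (N : Type u) [AddCommGroup N] [Module R N] [Module.Finite R N] (𝒩 : ℤ → AddSubgroup N)
    [DirectSum.Decomposition 𝒩] [SetLike.GradedSMul 𝒜 𝒩] (F : StarInjRes 𝒜 𝒩),
    (∀ s ∈ Z, ∀ y : N, s • y = 0) → F.Hcomp a r j = ⊥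

lemma KillVanish.mono {a : HomogeneousIdeal 𝒜} {r : ℕ} {j : ℤ} {Z Z' : Set R} (h : Z ⊆ Z')
    (hV : KillVanish a r j Z) : KillVanish a r j Z' :=
  fun N _ _ _ 𝒩 _ _ F hN => hV N 𝒩 F (fun s hs y => hN s (h hs) y)

/-- the inductive step over a list of elements of degree one. -/
theorem Hcomp_top_eq_bot_of_list (a : HomogeneousIdeal 𝒜) (r : ℕ) (j : ℤ) (L : List R)
    (hL : ∀ x ∈ L, x ∈ 𝒜 1) :
    ∀ (Z : Set R), KillVanish a r j (Z ∪ {x | x ∈ L}) →
    ∀ (M : Type u) [AddCommGroup M] [Module R M] [Module.Finite R M] (ℳ : ℤ → AddSubgroup M)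
      [DirectSum.Decomposition ℳ] [SetLike.GradedSMul 𝒜 ℳ] (E : StarInjRes 𝒜 ℳ),
      (∀ s ∈ Z, ∀ y : M, s • y = 0) → Module.supportDim R M ≤ (r : WithBot ℕ∞) →
      E.Hcomp a r (j - 1) = ⊥ → E.Hcomp a r j = ⊥ := by
  induction L with
  | nil =>
    intro Z hV M _ _ _ ℳ _ _ E hZ hdim h1
    exact hV M ℳ E (fun s hs y => by
      rcases hs with hs | hs
      · exact hZ s hs y
      · simp at hs)
  | cons x L ih =>
    intro Z hV M _ _ _ ℳ _ _ E hZ hdim h1
    have hx : x ∈ 𝒜 1 := hL x List.mem_cons_self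
    have hhom := smulTop_isHomogeneous 𝒜 ℳ hx
    letI := quotDecomposition ℳ (x • (⊤ : Submodule R M)) hhom
    obtain ⟨E₁⟩ := nonempty_starInjRes 𝒜 (quotGrM ℳ (x • (⊤ : Submodule R M)))
    have hπs : Function.Surjective (x • (⊤ : Submodule R M)).mkQ := Submodule.mkQ_surjective _
    have hπk : LinearMap.ker (x • (⊤ : Submodule R M)).mkQ =
        LinearMap.range (LinearMap.lsmul R M x) := by
      rw [Submodule.ker_mkQ, range_lsmul_eq]
    have hdim₁ : Module.supportDim R (M ⧸ x • (⊤ : Submodule R M)) ≤ (r : WithBot ℕ∞) :=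
      le_trans (Module.supportDim_le_of_surjective _ hπs) hdim
    have hZ₁ : ∀ s ∈ insert x Z, ∀ y : M ⧸ x • (⊤ : Submodule R M), s • y = 0 := by
      intro s hs y
      obtain ⟨m, rfl⟩ := hπs y
      rw [← map_smul]
      rcases hs with rfl | hs
      · rw [← LinearMap.mem_ker, Submodule.ker_mkQ]
        exact Submodule.smul_mem_pointwise_smul m s ⊤ trivial
      · rw [hZ s hs m, map_zero]
    have hV₁ : KillVanish a r j (insert x Z ∪ {y | y ∈ L}) := by
      refine KillVanish.mono ?_ hV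
      rintro s (hs | hs)
      · exact Or.inl (Or.inr hs)
      · rcases List.mem_cons.mp hs with rfl | hs'
        · exact Or.inl (Or.inl rfl)
        · exact Or.inr hs'
    have h1₁ : E₁.Hcomp a r (j - 1) = ⊥ :=
      Hcomp_top_eq_bot_of_surjective E E₁ _ (mkQ_isGrHom ℳ _) hπs a r hdim (j - 1) h1
    have h2 := ih (fun y hy => hL y (List.mem_cons_of_mem _ hy)) (insert x Z) hV₁
      (M ⧸ x • (⊤ : Submodule R M)) (quotGrM ℳ (x • (⊤ : Submodule R M))) E₁ hZ₁ hdim₁ h1₁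
    rw [eq_bot_iff]
    intro z hz
    obtain ⟨w, hw, rfl⟩ := exists_smul_eq_homog E E₁ hx _ (mkQ_isGrHom ℳ _) hπs hπk a r hdim j
      h2 hz
    rw [h1, Submodule.mem_bot] at hw
    rw [hw, smul_zero]
    exact zero_mem _

end List

section NoGaps

variable {M : Type u} [AddCommGroup M] [Module R M] [Module.Finite R M] (ℳ : ℤ → AddSubgroup M)
  [DirectSum.Decomposition ℳ] [SetLike.GradedSMul 𝒜 ℳ]

/-- a finitely generated module killed by a maximal ideal has dimension `≤ 0`. -/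
lemma supportDim_le_zero_of_kill {N : Type u} [AddCommGroup N] [Module R N] [Module.Finite R N]
    (m : Ideal R) [hm : m.IsMaximal] (h : ∀ s ∈ m, ∀ y : N, s • y = 0) :
    Module.supportDim R N ≤ ((0 : ℕ) : WithBot ℕ∞) := by
  rw [Module.supportDim_eq_ringKrullDim_quotient_annihilator]
  have hle : m ≤ Module.annihilator R N := fun s hs => Module.mem_annihilator.mpr (h s hs)
  refine le_trans (ringKrullDim_le_of_surjective (Ideal.Quotient.factor hle)
    (Ideal.Quotient.factor_surjective hle)) ?_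
  letI := Ideal.Quotient.field m
  rw [ringKrullDim_eq_zero_of_field]
  rfl

/-- **No gaps**: over a standard graded ring, the top local cohomology `H^r_m(M)` (`r ≥ 1`,
`dim M ≤ r`) satisfies `H^r_m(M)_{j-1} = 0 ⇒ H^r_m(M)_j = 0`. -/
theorem top_no_gaps (hpos : ∀ n : ℤ, n < 0 → 𝒜 n = ⊥) {m : HomogeneousIdeal 𝒜}
    (hloc : IsStarLocal 𝒜 m)
    (hstd : m.toIdeal = Ideal.span ((𝒜 1 : AddSubgroup R) : Set R)) (r : ℕ) (hr : 1 ≤ r)
    (E : StarInjRes 𝒜 ℳ) (hdim : Module.supportDim R M ≤ (r : WithBot ℕ∞)) (j : ℤ)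
    (h : E.Hcomp m r (j - 1) = ⊥) : E.Hcomp m r j = ⊥ := by
  classical
  have hfg : m.toIdeal.FG := IsNoetherian.noetherian _
  rw [hstd] at hfg
  obtain ⟨t, ht, hspan⟩ := (Submodule.fg_span_iff_fg_span_finset_subset _).mp hfg
  haveI hmax : m.toIdeal.IsMaximal :=
    Groth.Agent.Lib.Helper11.GrLes.isMaximal_of_isCoatom 𝒜 hpos hloc.1
  refine Hcomp_top_eq_bot_of_list m r j t.toList
    (fun x hx => ht (Finset.mem_coe.mpr (Finset.mem_toList.mp hx))) ∅ ?_ M ℳ E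
    (fun s hs => absurd hs (Set.notMem_empty s)) hdim h
  intro N _ _ _ 𝒩 _ _ F hN
  have hkill0 : ∀ s, s ∈ Submodule.span R (↑t : Set R) → ∀ y : N, s • y = 0 := by
    intro s hs'
    induction hs' using Submodule.span_induction with
    | mem s hst => exact hN s (Or.inr (Finset.mem_toList.mpr (Finset.mem_coe.mp hst)))
    | zero => exact fun y => zero_smul _ _
    | add s s' _ _ h1 h2 => exact fun y => by rw [add_smul, h1 y, h2 y, add_zero]
    | smul c s _ h1 => exact fun y => by rw [smul_eq_mul, mul_smul, h1 y, smul_zero]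
  have hkill : ∀ s ∈ m.toIdeal, ∀ y : N, s • y = 0 := by
    intro s hs y
    rw [hstd] at hs
    have hs' : s ∈ Submodule.span R ((𝒜 1 : AddSubgroup R) : Set R) := hs
    rw [hspan] at hs'
    exact hkill0 s hs' y
  have hdimN := supportDim_le_zero_of_kill (N := N) m.toIdeal hkill
  haveI := Groth.Agent.Lib.Helper11.GrCMGlob.subsingleton_H_of_dim_lt F m 0 hdimN r (by omega)
  rw [eq_bot_iff]
  intro x _
  exact (Submodule.mem_bot _).mpr (Subsingleton.elim x 0)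

/-- non-vanishing propagates downwards. -/
theorem top_ne_bot_of_le (hpos : ∀ n : ℤ, n < 0 → 𝒜 n = ⊥) {m : HomogeneousIdeal 𝒜}
    (hloc : IsStarLocal 𝒜 m)
    (hstd : m.toIdeal = Ideal.span ((𝒜 1 : AddSubgroup R) : Set R)) (r : ℕ) (hr : 1 ≤ r)
    (E : StarInjRes 𝒜 ℳ) (hdim : Module.supportDim R M ≤ (r : WithBot ℕ∞)) (j : ℤ)
    (h : E.Hcomp m r j ≠ ⊥) : ∀ n : ℕ, E.Hcomp m r (j - n) ≠ ⊥ := by
  intro n
  induction n with
  | zero => simpa using h
  | succ n ih =>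
    intro h0
    apply ih
    have := top_no_gaps ℳ hpos hloc hstd r hr E hdim (j - n) (by
      have e : j - (n : ℤ) - 1 = j - ((n + 1 : ℕ) : ℤ) := by push_cast; ring
      rw [e]; exact h0)
    exact this

end NoGaps

end Groth.Agent.Lib.Helper11.GrPar
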