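import Groth.Agent.Lib.Helper11.GrSegModA
import Groth.Agent.Lib.Helper11.GrSegRowA
import Groth.Agent.Lib.Helper11.GrModE
import Groth.Agent.Lib.Helper11.GrModG
import Groth.Agent.Lib.Helper20.SegreMod

/-!
# Segre products of graded Cohen–Macaulay modules: dimension and the Cohen–Macaulay criterion
(statement level)
-/

set_option autoImplicit false
set_option linter.unusedSectionVars false
set_option linter.unusedVariables false
set_option linter.style.haveILetI false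
set_option maxHeartbeats 1000000
universe u

open scoped TensorProduct

namespace Groth.Agent.Lib.Helper11.Seg

open DirectSum GrLC Groth.Agent.Lib.Helper11.GrLCLib Groth.Agent.Lib.Helper11.GrConv
  Groth.Agent.Lib.Helper11.GrMod

attribute [local instance] convGradedRing

/-- a module of dimension `≥ 0` is non-zero. -/
lemma nontrivial_of_supportDim {R : Type u} [CommRing R] {M : Type u} [AddCommGroup M]
    [Module R M] (r : ℕ) (h : Module.supportDim R M = r) : Nontrivial M := by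
  by_contra hcon
  rw [not_nontrivial_iff_subsingleton] at hcon
  rw [Module.supportDim_eq_bot_of_subsingleton] at h
  exact absurd h (by simp)

/-- **The Segre product of graded Cohen–Macaulay modules.** -/
theorem segreMod_core (k : Type u) [Field k] (R : Type u) [CommRing R] [Algebra k R]
    (𝒜 : ℤ → Submodule k R) [GradedAlgebra 𝒜] (hposR : ∀ n : ℤ, n < 0 → 𝒜 n = ⊥)
    (h0R : 𝒜 0 = Submodule.span k {(1 : R)}) [Algebra.FiniteType k R]
    (S : Type u) [CommRing S] [Algebra k S] (ℬ : ℤ → Submodule k S) [GradedAlgebra ℬ]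
    (hposS : ∀ n : ℤ, n < 0 → ℬ n = ⊥) (h0S : ℬ 0 = Submodule.span k {(1 : S)})
    [Algebra.FiniteType k S]
    (T : Type u) [CommRing T] [Algebra k T] (𝒯 : ℤ → Submodule k T) [GradedAlgebra 𝒯]
    (ψ : T →ₐ[k] R ⊗[k] S) (hT : GrSeg.IsSegreRing 𝒜 ℬ 𝒯 ψ)
    (M : Type u) [AddCommGroup M] [Module R M] [Module k M] [IsScalarTower k R M]
    (ℳ : ℤ → AddSubgroup M) [DirectSum.Decomposition ℳ] [SetLike.GradedSMul 𝒜 ℳ]
    [SetLike.GradedSMul (conv 𝒜) ℳ] [Module.Finite R M]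
    (N : Type u) [AddCommGroup N] [Module S N] [Module k N] [IsScalarTower k S N]
    (𝒩 : ℤ → AddSubgroup N) [DirectSum.Decomposition 𝒩] [SetLike.GradedSMul ℬ 𝒩]
    [SetLike.GradedSMul (conv ℬ) 𝒩] [Module.Finite S N]
    (P : Type u) [AddCommGroup P] [Module T P] [Module k P] [IsScalarTower k T P]
    (𝒬 : ℤ → AddSubgroup P) [DirectSum.Decomposition 𝒬]
    (φ : P →ₗ[k] M ⊗[k] N) (hP : GrSeg.IsSegreMod ψ ℳ 𝒩 𝒬 φ)
    (r s : ℕ) (h1r : 1 ≤ r) (h1s : 1 ≤ s) (hdM : Module.supportDim R M = r)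
    (hdN : Module.supportDim S N = s) (hMcm : IsCMAll R M) (hNcm : IsCMAll S N)
    (a : HomogeneousIdeal (conv 𝒜))
    (ha : a.toIdeal = Ideal.span (⋃ n ∈ Set.Ioi (0 : ℤ), (𝒜 n : Set R)))
    (b : HomogeneousIdeal (conv ℬ))
    (hb : b.toIdeal = Ideal.span (⋃ n ∈ Set.Ioi (0 : ℤ), (ℬ n : Set S)))
    (EM : StarInjRes (conv 𝒜) ℳ) (EN : StarInjRes (conv ℬ) 𝒩) :
    (∀ i, i ≠ r → Subsingleton (EM.H a i)) ∧ (∀ j, j ≠ s → Subsingleton (EN.H b j)) ∧
    (Subsingleton P ∨ (Module.supportDim T P = ((r + s - 1 : ℕ) : WithBot ℕ∞) ∧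
      (IsCMAll T P ↔ ∀ q, q < r + s - 1 → ∀ d : ℤ,
        (EM.Hcomp a q d = ⊥ ∨ 𝒩 d = ⊥) ∧ (ℳ d = ⊥ ∨ EN.Hcomp b q d = ⊥)))) := by
  obtain ⟨hψ, hdegT⟩ := hT
  haveI : IsNoetherianRing R := Algebra.FiniteType.isNoetherianRing k R
  haveI : IsNoetherianRing S := Algebra.FiniteType.isNoetherianRing k S
  haveI : IsNoetherianRing (R ⊗[k] S) := noetherian_tensor (k := k) (R := R) (S := S)
  haveI : Nontrivial M := nontrivial_of_supportDim r hdM
  haveI : Nontrivial N := nontrivial_of_supportDim s hdN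
  haveI : Nontrivial R := Module.nontrivial R M
  haveI : Nontrivial S := Module.nontrivial S N
  haveI : IsKAlgGr k (conv 𝒜) := isKAlgGr_conv 𝒜
  haveI : IsKAlgGr k (conv ℬ) := isKAlgGr_conv ℬ
  have hseg : IsSeg (conv 𝒜) (conv ℬ) (conv 𝒯) ψ := isSeg_conv hψ hdegT
  haveI : IsNoetherianRing T := hseg.isVerRing.isNoetherianRing
  have hposT := Groth.Agent.Lib.Helper20.SegreDim.hposT 𝒜 ℬ 𝒯 ψ hψ hdegT hposR
  have h0T := Groth.Agent.Lib.Helper20.SegreDim.h0T 𝒜 ℬ 𝒯 ψ hψ hdegT h0R h0S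
  haveI : IsKGr k ℳ := isKGr_of_gradedSMul (conv 𝒜) ℳ
  haveI : IsKGr k 𝒩 := isKGr_of_gradedSMul (conv ℬ) 𝒩
  haveI : SetLike.GradedSMul (conv 𝒯) 𝒬 := gradedSMul_of_isSegreMod hseg hP
  haveI : IsNoetherian T P :=
    Groth.Agent.Lib.Helper20.SegreMod.isNoetherian_segre (𝒜 := 𝒜) (ℬ := ℬ) (𝒯 := 𝒯)
      ⟨hψ, hdegT⟩ hP
  haveI : Module.Finite T P := inferInstance
  have hlocR : IsStarLocal (conv 𝒜) a := isStarLocal_conv_irr 𝒜 hposR h0R a ha
  have hlocS : IsStarLocal (conv ℬ) b := isStarLocal_conv_irr ℬ hposS h0S b hb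
  have hM : ∀ i, i ≠ r → Subsingleton (EM.H a i) := by
    intro i hi
    rcases lt_or_gt_of_ne hi with h | h
    · exact (isCMAll_iff (conv 𝒜) ℳ (hpos_conv 𝒜 hposR) hlocR EM r hdM).mp hMcm i h
    · exact Groth.Agent.Lib.Helper11.GrCMGlob.subsingleton_H_of_dim_lt EM a r hdM.le i h
  have hN : ∀ j, j ≠ s → Subsingleton (EN.H b j) := by
    intro j hj
    rcases lt_or_gt_of_ne hj with h | h
    · exact (isCMAll_iff (conv ℬ) 𝒩 (hpos_conv ℬ hposS) hlocS EN s hdN).mp hNcm j h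
    · exact Groth.Agent.Lib.Helper11.GrCMGlob.subsingleton_H_of_dim_lt EN b s hdN.le j h
  refine ⟨hM, hN, ?_⟩
  rcases subsingleton_or_nontrivial P with hPs | hPn
  · exact Or.inl hPs
  right
  haveI : Nontrivial T := Module.nontrivial T P
  let mT : HomogeneousIdeal (conv 𝒯) := Groth.Agent.Lib.Helper11.GrField.irrelevant (conv 𝒯)
  have hlocT : IsStarLocal (conv 𝒯) mT := isStarLocal_conv_irr 𝒯 hposT h0T mT rfl
  obtain ⟨EP⟩ := nonempty_starInjRes (conv 𝒯) 𝒬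
  -- a common non-zero degree
  obtain ⟨d, hdM', hdN'⟩ : ∃ d : ℤ, ℳ d ≠ ⊥ ∧ 𝒩 d ≠ ⊥ := by
    by_contra hcon
    push Not at hcon
    have hz : ∀ p : P, p = 0 := by
      intro p
      induction p using DirectSum.Decomposition.inductionOn 𝒬 with
      | zero => rfl
      | add p p' hp hp' => rw [hp, hp', add_zero]
      | homogeneous p =>
        rename_i i
        have h2 : φ (p : P) ∈ biGr (k := k) ℳ 𝒩 (i, i) :=
          (Set.ext_iff.mp (hP.image_piece i) (φ p)).mp ⟨p, p.2, rfl⟩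
        have h3 : biGr (k := k) ℳ 𝒩 (i, i) = ⊥ := by
          rw [biGr_eq_bot_iff]
          by_cases h : ℳ i = ⊥
          · exact Or.inl h
          · exact Or.inr (hcon i h)
        rw [h3, AddSubgroup.mem_bot] at h2
        exact hP.injective (h2.trans (map_zero φ).symm)
    obtain ⟨x, y, hxy⟩ := hPn
    exact hxy ((hz x).trans (hz y).symm)
  obtain ⟨r', rfl⟩ : ∃ r', r = r' + 1 := ⟨r - 1, by omega⟩
  obtain ⟨s', rfl⟩ : ∃ s', s = s' + 1 := ⟨s - 1, by omega⟩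
  obtain ⟨e, heM, heN⟩ := exists_common_degree (conv 𝒜) (hpos_conv 𝒜 hposR) hlocR ha r' ℳ EM
    (fun i hi => hM i (by omega)) hdM.le (conv ℬ) (hpos_conv ℬ hposS) hlocS hb s' 𝒩 EN
    (fun j hj => hN j (by omega)) hdN.le d hdM' hdN'
  obtain ⟨hhigh, htop⟩ := segreMod_top hseg a b mT ha hb rfl hP EM EN EP (r' + 1) (s' + 1)
    (by omega) (by omega) hM hN
  have hne := htop (r' + 1 + (s' + 1) - 1) (by omega) e heM heN
  have hnt : Nontrivial (EP.H mT (r' + 1 + (s' + 1) - 1)) := by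
    obtain ⟨z, -, hz0⟩ := (Submodule.ne_bot_iff _).mp hne
    exact ⟨⟨z, 0, hz0⟩⟩
  have hdimP := supportDim_eq_of_H (conv 𝒯) 𝒬 (hpos_conv 𝒯 hposT) hlocT EP
    (r' + 1 + (s' + 1) - 1) hnt (fun q hq => hhigh q (by omega))
  refine ⟨hdimP, ?_⟩
  rw [isCMAll_iff (conv 𝒯) 𝒬 (hpos_conv 𝒯 hposT) hlocT EP _ hdimP]
  have key : ∀ q, q < r' + 1 + (s' + 1) - 1 → ∀ d : ℤ, (EP.Hcomp mT q d = ⊥ ↔
      (EM.Hcomp a q d = ⊥ ∨ 𝒩 d = ⊥) ∧ (ℳ d = ⊥ ∨ EN.Hcomp b q d = ⊥)) := by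
    intro q hq d
    exact Hcomp_segre_eq_bot_iff hseg a b mT ha hb rfl hP EM EN EP (r' + 1) (s' + 1) hM hN q
      (by omega) (by omega) d
  constructor
  · intro h q hq d
    rw [← key q hq d]
    exact (subsingleton_H_iff EP mT q).mp (h q hq) d
  · intro h q hq
    rw [subsingleton_H_iff]
    intro d
    rw [key q hq d]
    exact h q hq d

end Groth.Agent.Lib.Helper11.Seg
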