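import Groth.Agent.Lib.Helper11.GrParB
import Groth.Agent.Lib.Helper11.GrSegModB
import Groth.Agent.Lib.Helper11.GrKunJ

/-!
# The dimension of a Segre product of graded modules over standard graded rings
-/

set_option autoImplicit false
set_option linter.unusedSectionVars false
set_option linter.unusedVariables false
set_option linter.style.haveILetI false
set_option maxHeartbeats 1000000
universe u

open scoped TensorProduct

namespace Groth.Agent.Lib.Helper11.Seg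

open DirectSum GrLC Groth.Agent.Lib.Helper11.GrLCLib Groth.Agent.Lib.Helper11.GrVer
  Groth.Agent.Lib.Helper11.GrMV Groth.Agent.Lib.Helper11.GrConv Groth.Agent.Lib.Helper11.GrMod

section Top

variable {k : Type u} [Field k] {R S T : Type u} [CommRing R] [CommRing S] [CommRing T]
  [Algebra k R] [Algebra k S] [Algebra k T] [Nontrivial R] [Nontrivial S]
variable {𝒜 : ℤ → AddSubgroup R} [GradedRing 𝒜] {ℬ : ℤ → AddSubgroup S} [GradedRing ℬ]
  [IsKAlgGr k 𝒜] [IsKAlgGr k ℬ]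
variable {𝒯 : ℤ → AddSubgroup T} [GradedRing 𝒯] {ψ : T →ₐ[k] R ⊗[k] S}
variable [IsNoetherianRing R] [IsNoetherianRing S] [IsNoetherianRing (R ⊗[k] S)]
variable {M N P : Type u} [AddCommGroup M] [Module R M] [Module k M] [IsScalarTower k R M]
  [AddCommGroup N] [Module S N] [Module k N] [IsScalarTower k S N]
  [AddCommGroup P] [Module T P] [Module k P] [IsScalarTower k T P]
variable {ℳ : ℤ → AddSubgroup M} [DirectSum.Decomposition ℳ] [SetLike.GradedSMul 𝒜 ℳ] [IsKGr k ℳ]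
  {𝒩 : ℤ → AddSubgroup N} [DirectSum.Decomposition 𝒩] [SetLike.GradedSMul ℬ 𝒩] [IsKGr k 𝒩]
  {𝒬 : ℤ → AddSubgroup P} [DirectSum.Decomposition 𝒬] [SetLike.GradedSMul 𝒯 𝒬]

/-- **The local cohomology of a Segre product at and above the degree `r + s - 1`**, where
`H^i_m(M) = 0` for `i > r` and `H^j_n(N) = 0` for `j > s` (no Cohen–Macaulay hypothesis). -/
theorem segreMod_top' (h : IsSeg 𝒜 ℬ 𝒯 ψ) (m : HomogeneousIdeal 𝒜)
    (n : HomogeneousIdeal ℬ) (mT : HomogeneousIdeal 𝒯) (hm : m.toIdeal = irrI 𝒜)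
    (hn : n.toIdeal = irrI ℬ) (hmT : mT.toIdeal = irrI 𝒯)
    {φ : P →ₗ[k] M ⊗[k] N} (hP : GrSeg.IsSegreMod ψ ℳ 𝒩 𝒬 φ)
    (EM : StarInjRes 𝒜 ℳ) (EN : StarInjRes ℬ 𝒩) (EP : StarInjRes 𝒯 𝒬) (r s : ℕ)
    (hr : 1 ≤ r) (hs : 1 ≤ s)
    (hM : ∀ i, r < i → Subsingleton (EM.H m i)) (hN : ∀ j, s < j → Subsingleton (EN.H n j)) :
    (∀ q, r + s ≤ q → Subsingleton (EP.H mT q)) ∧
    (∀ q, q + 1 = r + s → ∀ d : ℤ, EM.Hcomp m r d ≠ ⊥ → EN.Hcomp n s d ≠ ⊥ →
      EP.Hcomp mT q d ≠ ⊥) := by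
  obtain ⟨EX⟩ := nonempty_starInjRes (biGr (k := k) 𝒜 ℬ) (biGr (k := k) ℳ 𝒩)
  have hsup : ∀ q, r + s < q →
      Subsingleton (EX.H (extL (k := k) 𝒜 ℬ m ⊔ extR (k := k) 𝒜 ℬ n) q) := by
    intro q hq
    rw [subsingleton_H_iff]
    rintro ⟨d, e⟩
    rw [Groth.Agent.Lib.Helper11.Kun.Hcomp_sup_eq_bot_iff EM EN EX m n d e q]
    intro p q' hpq
    by_cases hp : r < p
    · exact Or.inl ((subsingleton_H_iff EM m p).mp (hM p hp) d)
    · exact Or.inr ((subsingleton_H_iff EN n q').mp (hN q' (by omega)) e)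
  constructor
  · intro q hq
    have ha : Subsingleton (EX.H (extL (k := k) 𝒜 ℬ m) q) :=
      subsingleton_H_extL_of m EM EX q (hM q (by omega))
    have hb : Subsingleton (EX.H (extR (k := k) 𝒜 ℬ n) q) :=
      subsingleton_H_extR_of n EN EX q (hN q (by omega))
    have hinf := subsingleton_H_inf EX _ _ q ha hb (hsup (q + 1) (by omega))
    rw [subsingleton_H_iff]
    intro d
    rw [Hcomp_diag_eq_bot_iff h m n mT hm hn hmT hP EX EP q d]
    exact (subsingleton_H_iff EX _ q).mp hinf (d, d)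
  · intro q hq d hdM hdN
    have ha' : Subsingleton (EX.H (extL (k := k) 𝒜 ℬ m) (q + 1)) :=
      subsingleton_H_extL_of m EM EX (q + 1) (hM (q + 1) (by omega))
    have hb' : Subsingleton (EX.H (extR (k := k) 𝒜 ℬ n) (q + 1)) :=
      subsingleton_H_extR_of n EN EX (q + 1) (hN (q + 1) (by omega))
    have hsupne : EX.Hcomp (extL (k := k) 𝒜 ℬ m ⊔ extR (k := k) 𝒜 ℬ n) (q + 1) (d, d) ≠ ⊥ := by
      intro h0
      rw [Groth.Agent.Lib.Helper11.Kun.Hcomp_sup_eq_bot_iff EM EN EX m n d d (q + 1)] at h0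
      rcases h0 r s hq.symm with h1 | h1
      · exact hdM h1
      · exact hdN h1
    have hinf := Hcomp_inf_ne_bot_of_sup EX _ _ q ha' hb' (d, d) hsupne
    intro h0
    apply hinf
    rwa [Hcomp_diag_eq_bot_iff h m n mT hm hn hmT hP EX EP q d] at h0

end Top

section Dim

attribute [local instance] convGradedRing

/-- some piece of a non-zero graded local cohomology module is non-zero. -/
lemma exists_Hcomp_ne_bot_of_nontrivial {ι : Type} [DecidableEq ι] [AddCommGroup ι]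
    {A : Type u} [CommRing A] {𝒜' : ι → AddSubgroup A} [GradedRing 𝒜'] {X : Type u}
    [AddCommGroup X] [Module A X] {𝒳 : ι → AddSubgroup X} [DirectSum.Decomposition 𝒳]
    [SetLike.GradedSMul 𝒜' 𝒳] (E : StarInjRes 𝒜' 𝒳) (a : HomogeneousIdeal 𝒜') (q : ℕ)
    (h : Nontrivial (E.H a q)) : ∃ g, E.Hcomp a q g ≠ ⊥ := by
  by_contra hcon
  push Not at hcon
  exact not_subsingleton _ ((subsingleton_H_iff E a q).mpr hcon)

/-- **The dimension of a Segre product of graded modules** over standard graded rings. -/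
theorem segreMod_dim (k : Type u) [Field k] (R : Type u) [CommRing R] [Algebra k R]
    (𝒜 : ℤ → Submodule k R) [GradedAlgebra 𝒜] (hposR : ∀ n : ℤ, n < 0 → 𝒜 n = ⊥)
    (h0R : 𝒜 0 = Submodule.span k {(1 : R)}) [Algebra.FiniteType k R]
    (S : Type u) [CommRing S] [Algebra k S] (ℬ : ℤ → Submodule k S) [GradedAlgebra ℬ]
    (hposS : ∀ n : ℤ, n < 0 → ℬ n = ⊥) (h0S : ℬ 0 = Submodule.span k {(1 : S)})
    [Algebra.FiniteType k S]
    (T : Type u) [CommRing T] [Algebra k T] (𝒯 : ℤ → Submodule k T) [GradedAlgebra 𝒯]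
    (ψ : T →ₐ[k] R ⊗[k] S) (hT : GrSeg.IsSegreRing 𝒜 ℬ 𝒯 ψ)
    (hstdR : Ideal.span (⋃ n ∈ Set.Ioi (0 : ℤ), (𝒜 n : Set R)) =
      Ideal.span ((𝒜 1 : Submodule k R) : Set R))
    (hstdS : Ideal.span (⋃ n ∈ Set.Ioi (0 : ℤ), (ℬ n : Set S)) =
      Ideal.span ((ℬ 1 : Submodule k S) : Set S))
    (M : Type u) [AddCommGroup M] [Module R M] [Module k M] [IsScalarTower k R M]
    (ℳ : ℤ → AddSubgroup M) [DirectSum.Decomposition ℳ] [SetLike.GradedSMul 𝒜 ℳ]
    [SetLike.GradedSMul (conv 𝒜) ℳ] [Module.Finite R M]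
    (N : Type u) [AddCommGroup N] [Module S N] [Module k N] [IsScalarTower k S N]
    (𝒩 : ℤ → AddSubgroup N) [DirectSum.Decomposition 𝒩] [SetLike.GradedSMul ℬ 𝒩]
    [SetLike.GradedSMul (conv ℬ) 𝒩] [Module.Finite S N]
    (P : Type u) [AddCommGroup P] [Module T P] [Module k P] [IsScalarTower k T P]
    (𝒬 : ℤ → AddSubgroup P) [DirectSum.Decomposition 𝒬]
    (φ : P →ₗ[k] M ⊗[k] N) (hP : GrSeg.IsSegreMod ψ ℳ 𝒩 𝒬 φ)
    (r s : ℕ) (h1r : 1 ≤ r) (h1s : 1 ≤ s) (hdM : Module.supportDim R M = r)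
    (hdN : Module.supportDim S N = s) :
    Module.supportDim T P = ((r + s - 1 : ℕ) : WithBot ℕ∞) := by
  obtain ⟨hψ, hdegT⟩ := hT
  haveI : IsNoetherianRing R := Algebra.FiniteType.isNoetherianRing k R
  haveI : IsNoetherianRing S := Algebra.FiniteType.isNoetherianRing k S
  haveI : IsNoetherianRing (R ⊗[k] S) := noetherian_tensor (k := k) (R := R) (S := S)
  haveI : Nontrivial M := nontrivial_of_supportDim r hdM
  haveI : Nontrivial N := nontrivial_of_supportDim s hdN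
  haveI : Nontrivial R := Module.nontrivial R M
  haveI : Nontrivial S := Module.nontrivial S N
  haveI : IsKAlgGr k (conv 𝒜) := isKAlgGr_conv 𝒜
  haveI : IsKAlgGr k (conv ℬ) := isKAlgGr_conv ℬ
  have hseg : IsSeg (conv 𝒜) (conv ℬ) (conv 𝒯) ψ := isSeg_conv hψ hdegT
  haveI : IsNoetherianRing T := hseg.isVerRing.isNoetherianRing
  have hposT := Groth.Agent.Lib.Helper20.SegreDim.hposT 𝒜 ℬ 𝒯 ψ hψ hdegT hposR
  have h0T := Groth.Agent.Lib.Helper20.SegreDim.h0T 𝒜 ℬ 𝒯 ψ hψ hdegT h0R h0S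
  haveI : IsKGr k ℳ := isKGr_of_gradedSMul (conv 𝒜) ℳ
  haveI : IsKGr k 𝒩 := isKGr_of_gradedSMul (conv ℬ) 𝒩
  haveI : SetLike.GradedSMul (conv 𝒯) 𝒬 := gradedSMul_of_isSegreMod hseg hP
  haveI : IsNoetherian T P :=
    Groth.Agent.Lib.Helper20.SegreMod.isNoetherian_segre (𝒜 := 𝒜) (ℬ := ℬ) (𝒯 := 𝒯)
      ⟨hψ, hdegT⟩ hP
  haveI : Module.Finite T P := inferInstance
  let a : HomogeneousIdeal (conv 𝒜) := Groth.Agent.Lib.Helper11.GrField.irrelevant (conv 𝒜)
  let b : HomogeneousIdeal (conv ℬ) := Groth.Agent.Lib.Helper11.GrField.irrelevant (conv ℬ)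
  have ha : a.toIdeal = Ideal.span (⋃ n ∈ Set.Ioi (0 : ℤ), (𝒜 n : Set R)) := rfl
  have hb : b.toIdeal = Ideal.span (⋃ n ∈ Set.Ioi (0 : ℤ), (ℬ n : Set S)) := rfl
  have hlocR : IsStarLocal (conv 𝒜) a := isStarLocal_conv_irr 𝒜 hposR h0R a ha
  have hlocS : IsStarLocal (conv ℬ) b := isStarLocal_conv_irr ℬ hposS h0S b hb
  obtain ⟨EM⟩ := nonempty_starInjRes (conv 𝒜) ℳ
  obtain ⟨EN⟩ := nonempty_starInjRes (conv ℬ) 𝒩
  have hM : ∀ i, r < i → Subsingleton (EM.H a i) := fun i hi =>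
    Groth.Agent.Lib.Helper11.GrCMGlob.subsingleton_H_of_dim_lt EM a r hdM.le i hi
  have hN : ∀ j, s < j → Subsingleton (EN.H b j) := fun j hj =>
    Groth.Agent.Lib.Helper11.GrCMGlob.subsingleton_H_of_dim_lt EN b s hdN.le j hj
  -- the top local cohomology modules are non-zero
  have hntM := nontrivial_H_of_supportDim (conv 𝒜) ℳ (hpos_conv 𝒜 hposR) hlocR EM r hdM
  have hntN := nontrivial_H_of_supportDim (conv ℬ) 𝒩 (hpos_conv ℬ hposS) hlocS EN s hdN
  obtain ⟨j₀, hj₀⟩ := exists_Hcomp_ne_bot_of_nontrivial EM a r hntM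
  obtain ⟨j₁, hj₁⟩ := exists_Hcomp_ne_bot_of_nontrivial EN b s hntN
  have hstdR' : a.toIdeal = Ideal.span ((conv 𝒜 1 : AddSubgroup R) : Set R) := by
    rw [ha, hstdR]; rfl
  have hstdS' : b.toIdeal = Ideal.span ((conv ℬ 1 : AddSubgroup S) : Set S) := by
    rw [hb, hstdS]; rfl
  have hMdown := Groth.Agent.Lib.Helper11.GrPar.top_ne_bot_of_le ℳ (hpos_conv 𝒜 hposR) hlocR
    hstdR' r h1r EM hdM.le j₀ hj₀
  have hNdown := Groth.Agent.Lib.Helper11.GrPar.top_ne_bot_of_le 𝒩 (hpos_conv ℬ hposS) hlocS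
    hstdS' s h1s EN hdN.le j₁ hj₁
  -- a common degree
  obtain ⟨e, heM, heN⟩ : ∃ e : ℤ, EM.Hcomp a r e ≠ ⊥ ∧ EN.Hcomp b s e ≠ ⊥ := by
    refine ⟨min j₀ j₁, ?_, ?_⟩
    · have := hMdown (j₀ - min j₀ j₁).toNat
      rwa [Int.toNat_of_nonneg (by omega), sub_sub_cancel] at this
    · have := hNdown (j₁ - min j₀ j₁).toNat
      rwa [Int.toNat_of_nonneg (by omega), sub_sub_cancel] at this
  let mT : HomogeneousIdeal (conv 𝒯) := Groth.Agent.Lib.Helper11.GrField.irrelevant (conv 𝒯)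
  obtain ⟨EP⟩ := nonempty_starInjRes (conv 𝒯) 𝒬
  obtain ⟨hhigh, htop⟩ := segreMod_top' hseg a b mT ha hb rfl hP EM EN EP r s h1r h1s hM hN
  have hne := htop (r + s - 1) (by omega) e heM heN
  have hnt : Nontrivial (EP.H mT (r + s - 1)) := by
    obtain ⟨z, -, hz0⟩ := (Submodule.ne_bot_iff _).mp hne
    exact ⟨⟨z, 0, hz0⟩⟩
  haveI : Nontrivial P := by
    by_contra hcon
    rw [not_nontrivial_iff_subsingleton] at hcon
    have hdimP : Module.supportDim T P ≤ ((0 : ℕ) : WithBot ℕ∞) := by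
      rw [Module.supportDim_eq_bot_of_subsingleton]
      exact bot_le
    have := Groth.Agent.Lib.Helper11.GrCMGlob.subsingleton_H_of_dim_lt EP mT 0 hdimP (r + s - 1)
      (by omega)
    exact not_subsingleton _ this
  haveI : Nontrivial T := Module.nontrivial T P
  have hlocT : IsStarLocal (conv 𝒯) mT := isStarLocal_conv_irr 𝒯 hposT h0T mT rfl
  exact supportDim_eq_of_H (conv 𝒯) 𝒬 (hpos_conv 𝒯 hposT) hlocT EP (r + s - 1) hnt
    (fun q hq => hhigh q (by omega))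

end Dim

end Groth.Agent.Lib.Helper11.Seg
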