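import Groth.Agent.Lib.Helper11.GrLCDecomp

/-!
# The Veronese grading pulled back along an injective ring homomorphism

`φ : R' →+* R` injective with image the elements of `R` all of whose components in degrees not
divisible by `q` vanish.  Then `R'` is graded by `𝒜' j = φ⁻¹ (𝒜 (j q))`.
-/

set_option autoImplicit false
set_option linter.unusedSectionVars false
set_option linter.unusedVariables false
set_option linter.style.haveILetI false
universe u

namespace Groth.Agent.Lib.Helper11.GrPull

open DirectSum GrLC Groth.Agent.Lib.Helper11.GrLCLib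

variable {R R' : Type u} [CommRing R] [CommRing R'] (𝒜 : ℤ → AddSubgroup R) [GradedRing 𝒜]
  (φ : R' →+* R) (q : ℕ)

/-- the pulled back Veronese pieces. -/
def pull (j : ℤ) : AddSubgroup R' := (𝒜 (j * q)).comap (φ : R' →+ R)

lemma mem_pull {j : ℤ} {x : R'} : x ∈ pull 𝒜 φ q j ↔ φ x ∈ 𝒜 (j * q) := Iff.rfl

variable (hφ : Function.Injective φ) (hq : 0 < q)
  (hr : ∀ x : R, x ∈ φ.range ↔ ∀ j : ℤ, ¬ (q : ℤ) ∣ j → (decompose 𝒜 x j : R) = 0)

include hr in
lemma mem_range_of_mem {j : ℤ} {y : R} (hy : y ∈ 𝒜 (j * q)) : y ∈ φ.range := by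
  rw [hr]
  intro i hi
  apply decompose_of_mem_ne 𝒜 hy
  rintro rfl
  exact hi (dvd_mul_left _ _)

include hr in
lemma component_mem_range (x : R') (i : ℤ) : (decompose 𝒜 (φ x) i : R) ∈ φ.range := by
  by_cases hi : (q : ℤ) ∣ i
  · obtain ⟨j, rfl⟩ := hi
    rw [mul_comm]
    apply mem_range_of_mem 𝒜 φ q hr (j := j)
    rw [mul_comm]
    exact SetLike.coe_mem _
  · rw [(hr (φ x)).mp ⟨x, rfl⟩ i hi]
    exact zero_mem _

include hr in
lemma component_eq_zero (x : R') (i : ℤ) (hi : ¬ (q : ℤ) ∣ i) : (decompose 𝒜 (φ x) i : R) = 0 :=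
  (hr (φ x)).mp ⟨x, rfl⟩ i hi

/-- the component maps on `R'`. -/
noncomputable def pproj (j : ℤ) : R' →+ R' where
  toFun x := Classical.choose (component_mem_range 𝒜 φ q hr x (j * q))
  map_zero' := by
    apply hφ
    rw [Classical.choose_spec (component_mem_range 𝒜 φ q hr 0 (j * q))]
    simp
  map_add' x y := by
    apply hφ
    have h1 := Classical.choose_spec (component_mem_range 𝒜 φ q hr (x + y) (j * q))
    have h2 := Classical.choose_spec (component_mem_range 𝒜 φ q hr x (j * q))
    have h3 := Classical.choose_spec (component_mem_range 𝒜 φ q hr y (j * q))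
    refine h1.trans ?_
    refine Eq.trans ?_ (map_add φ _ _).symm
    rw [h2, h3, map_add, decompose_add, DirectSum.add_apply, AddSubgroup.coe_add]

lemma map_pproj (j : ℤ) (x : R') :
    φ (pproj 𝒜 φ q hφ hr j x) = (decompose 𝒜 (φ x) (j * q) : R) :=
  Classical.choose_spec (component_mem_range 𝒜 φ q hr x (j * q))

include hφ hq hr in
theorem pull_isInternal : DirectSum.IsInternal (pull 𝒜 φ q) := by
  classical
  have hqz : (q : ℤ) ≠ 0 := by exact_mod_cast hq.ne'
  refine isInternal_of_proj (pull 𝒜 φ q) (pproj 𝒜 φ q hφ hr) ?_ ?_ ?_ ?_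
  · intro g x
    rw [mem_pull, map_pproj]
    exact SetLike.coe_mem _
  · intro g x hx
    apply hφ
    rw [map_pproj]
    exact decompose_of_mem_same 𝒜 hx
  · intro g g' x hx hne
    apply hφ
    rw [map_pproj, map_zero]
    apply decompose_of_mem_ne 𝒜 hx
    intro h
    exact hne (mul_right_cancel₀ hqz h).symm
  · intro x
    refine ⟨(decompose 𝒜 (φ x)).support.image (fun i => i / (q : ℤ)), ?_⟩
    apply hφ
    rw [map_sum]
    simp only [map_pproj]
    have h1 : ∑ g ∈ (decompose 𝒜 (φ x)).support.image (fun i => i / (q : ℤ)),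
        (decompose 𝒜 (φ x) (g * q) : R) =
        ∑ i ∈ ((decompose 𝒜 (φ x)).support.image (fun i => i / (q : ℤ))).image (fun g => g * (q : ℤ)),
          (decompose 𝒜 (φ x) i : R) := by
      exact (Finset.sum_image (f := fun i => (decompose 𝒜 (φ x) i : R)) (g := fun g => g * (q : ℤ))
        (fun a _ b _ hab => mul_right_cancel₀ hqz hab)).symm
    rw [h1]
    have h2 : ((decompose 𝒜 (φ x)).support.image (fun i => i / (q : ℤ))).image (fun g => g * (q : ℤ))
        = (decompose 𝒜 (φ x)).support := by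
      rw [Finset.image_image]
      have : ∀ i ∈ (decompose 𝒜 (φ x)).support, ((fun g => g * (q : ℤ)) ∘ fun i => i / (q : ℤ)) i = i := by
        intro i hi
        rw [DFinsupp.mem_support_iff] at hi
        have hdvd : (q : ℤ) ∣ i := by
          by_contra hnd
          apply hi
          apply Subtype.ext
          rw [component_eq_zero 𝒜 φ q hr x i hnd]
          rfl
        exact Int.ediv_mul_cancel hdvd
      rw [Finset.image_congr this]
      exact Finset.image_id
    rw [h2]
    exact DirectSum.sum_support_decompose 𝒜 (φ x)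

/-- the pulled back grading. -/
@[instance_reducible]
noncomputable def pullGradedRing : GradedRing (pull 𝒜 φ q) :=
  { one_mem := by
      rw [mem_pull, map_one, zero_mul]
      exact SetLike.GradedOne.one_mem
    mul_mem := fun i j x y hx hy => by
      rw [mem_pull] at hx hy ⊢
      rw [map_mul, add_mul]
      exact SetLike.GradedMul.mul_mem hx hy
    toDecomposition := (pull_isInternal 𝒜 φ q hφ hq hr).chooseDecomposition }

include hφ hq hr in
lemma decompose_pull [DirectSum.Decomposition (pull 𝒜 φ q)] (x : R') (j : ℤ) :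
    φ (decompose (pull 𝒜 φ q) x j : R') = (decompose 𝒜 (φ x) (j * q) : R) := by
  have hqz : (q : ℤ) ≠ 0 := by exact_mod_cast hq.ne'
  rw [decompose_eq_proj (pull 𝒜 φ q) (pproj 𝒜 φ q hφ hr) ?_ ?_ x j, map_pproj]
  · intro g x hx
    apply hφ
    rw [map_pproj]
    exact decompose_of_mem_same 𝒜 hx
  · intro g g' x hx hne
    apply hφ
    rw [map_pproj, map_zero]
    apply decompose_of_mem_ne 𝒜 hx
    intro h
    exact hne (mul_right_cancel₀ hqz h).symm

include hr in
lemma map_pull (j : ℤ) : (pull 𝒜 φ q j).map (φ : R' →+ R) = 𝒜 (j * q) := by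
  ext y
  constructor
  · rintro ⟨x, hx, rfl⟩
    exact hx
  · intro hy
    obtain ⟨x, rfl⟩ := mem_range_of_mem 𝒜 φ q hr hy
    exact ⟨x, hy, rfl⟩

include hφ hq in
lemma pull_neg (hpos : ∀ n : ℤ, n < 0 → 𝒜 n = ⊥) (j : ℤ) (hj : j < 0) : pull 𝒜 φ q j = ⊥ := by
  rw [eq_bot_iff]
  intro x hx
  rw [mem_pull, hpos _ (mul_neg_of_neg_of_pos hj (by exact_mod_cast hq)), AddSubgroup.mem_bot] at hx
  rw [AddSubgroup.mem_bot]
  apply hφ
  rw [hx, map_zero]

end Groth.Agent.Lib.Helper11.GrPull
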