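import Groth.Agent.Lib.Helper11.GrPullA
import Groth.Agent.Lib.Helper11.GrFieldA
import Groth.Agent.Lib.Helper11.GrDiagA

/-!
# The irrelevant ideal of a pulled back Veronese grading; the degree zero field
-/

set_option autoImplicit false
set_option linter.unusedSectionVars false
set_option linter.unusedVariables false
set_option linter.style.haveILetI false
universe u

namespace Groth.Agent.Lib.Helper11.GrPull

open DirectSum GrLC Groth.Agent.Lib.Helper11.GrLCLib Groth.Agent.Lib.Helper11.GrField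
  Groth.Agent.Lib.Helper11.Seg

section Ideal

variable {R R' : Type u} [CommRing R] [CommRing R'] (𝒜 : ℤ → AddSubgroup R) [GradedRing 𝒜]
  (φ : R' →+* R) (q : ℕ)
variable (hφ : Function.Injective φ) (hq : 0 < q)
  (hr : ∀ x : R, x ∈ φ.range ↔ ∀ j : ℤ, ¬ (q : ℤ) ∣ j → (decompose 𝒜 x j : R) = 0)
  [GradedRing (pull 𝒜 φ q)]

include hφ hq hr in
theorem comap_isHomogeneous (m : HomogeneousIdeal 𝒜) :
    (Ideal.comap φ m.toIdeal).IsHomogeneous (pull 𝒜 φ q) := by
  intro j x hx
  rw [Ideal.mem_comap, decompose_pull 𝒜 φ q hφ hq hr]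
  exact m.isHomogeneous _ hx

include hφ hq hr in
theorem comap_eq_irr (m : HomogeneousIdeal 𝒜) (hpos : ∀ n : ℤ, n < 0 → 𝒜 n = ⊥)
    (hmsp : m.toIdeal = Ideal.span (⋃ n ∈ Set.Ioi (0 : ℤ), (𝒜 n : Set R)))
    (h0 : ∀ y ∈ 𝒜 0, y ∈ m.toIdeal → y = 0) :
    Ideal.comap φ m.toIdeal =
      Ideal.span (⋃ j ∈ Set.Ioi (0 : ℤ), (pull 𝒜 φ q j : Set R')) := by
  classical
  apply le_antisymm
  · intro x hx
    rw [← DirectSum.sum_support_decompose (pull 𝒜 φ q) x]
    apply Ideal.sum_mem
    intro j _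
    have hmem : (decompose (pull 𝒜 φ q) x j : R') ∈ pull 𝒜 φ q j := SetLike.coe_mem _
    have hmemI : (decompose (pull 𝒜 φ q) x j : R') ∈ Ideal.comap φ m.toIdeal :=
      comap_isHomogeneous 𝒜 φ q hφ hq hr m j hx
    generalize (decompose (pull 𝒜 φ q) x j : R') = y at hmem hmemI
    rcases lt_trichotomy j 0 with hj | hj | hj
    · rw [pull_neg 𝒜 φ q hφ hq hpos j hj, AddSubgroup.mem_bot] at hmem
      rw [hmem]
      exact zero_mem _
    · have hz : φ y = 0 := by
        apply h0 _ _ hmemI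
        have := (mem_pull 𝒜 φ q).mp hmem
        rwa [hj, zero_mul] at this
      have : y = 0 := by
        apply hφ
        rw [hz, map_zero]
      rw [this]
      exact zero_mem _
    · exact Ideal.subset_span (Set.mem_biUnion (Set.mem_Ioi.mpr hj) hmem)
  · rw [Ideal.span_le]
    intro x hx
    simp only [Set.mem_iUnion, Set.mem_Ioi] at hx
    obtain ⟨j, hj, hxj⟩ := hx
    change φ x ∈ m.toIdeal
    rw [hmsp]
    exact Ideal.subset_span (Set.mem_biUnion
      (Set.mem_Ioi.mpr (mul_pos hj (by exact_mod_cast hq))) ((mem_pull 𝒜 φ q).mp hxj))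

end Ideal

section Field

variable {R : Type u} [CommRing R] (𝒜 : ℤ → AddSubgroup R) [GradedRing 𝒜]
variable {k : Type u} [Field k] [Algebra k R]

theorem isField_deg0_of_isBase [Nontrivial R] (hk : IsBase 𝒜 k) : IsField (GrLC.deg0 𝒜) where
  exists_pair_ne := ⟨0, 1, fun h => zero_ne_one (congrArg Subtype.val h)⟩
  mul_comm := mul_comm
  mul_inv_cancel := by
    intro a ha
    obtain ⟨c, hc⟩ := (hk a.1).mp a.2
    have hc0 : c ≠ 0 := by
      rintro rfl
      apply ha
      apply Subtype.ext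
      rw [← hc, map_zero]
      rfl
    refine ⟨⟨algebraMap k R c⁻¹, hk.algebraMap_mem _⟩, Subtype.ext ?_⟩
    change a.1 * algebraMap k R c⁻¹ = 1
    rw [← hc, ← map_mul, mul_inv_cancel₀ hc0, map_one]

/-- dimensions of pieces over the degree-zero subring and over `k` agree. -/
theorem finrank_comp_eq_subK' [Nontrivial R] (hk : IsBase 𝒜 k) (n : ℤ) :
    Module.finrank (GrLC.deg0 𝒜) (GrLC.comp 𝒜 𝒜 n) = Module.finrank k (subK hk n) := by
  let i : k → GrLC.deg0 𝒜 := fun c => ⟨algebraMap k R c, hk.algebraMap_mem c⟩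
  have hi : Function.Bijective i := by
    constructor
    · intro c d hcd
      have : algebraMap k R c = algebraMap k R d := congrArg Subtype.val hcd
      exact (algebraMap k R).injective this
    · rintro ⟨x, hx⟩
      obtain ⟨c, hc⟩ := (hk x).mp hx
      exact ⟨c, Subtype.ext hc⟩
  let j : ↥(subK hk n) ≃+ ↥(GrLC.comp 𝒜 𝒜 n) :=
    { toFun := fun x => ⟨x.1, x.2⟩
      invFun := fun x => ⟨x.1, x.2⟩
      left_inv := fun x => rfl
      right_inv := fun x => rfl
      map_add' := fun x y => rfl }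
  have h := rank_eq_of_equiv_equiv i j hi (fun c x => by
    apply Subtype.ext
    change c • (x : R) = (algebraMap k R c) • (x : R)
    rw [algebraMap_smul])
  unfold Module.finrank
  rw [h]

end Field

end Groth.Agent.Lib.Helper11.GrPull
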