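import Groth.Agent.Lib.Helper11.GrSegModC
import Groth.Agent.Lib.Helper11.GrPolyA

/-!
# The graded local cohomology of the standard graded polynomial ring and of its shifts
-/

set_option autoImplicit false
set_option linter.unusedSectionVars false
set_option linter.unusedVariables false
set_option linter.style.haveILetI false
set_option maxHeartbeats 1000000
universe u

open scoped TensorProduct

attribute [local instance] MvPolynomial.weightedGradedAlgebra

namespace Groth.Agent.Lib.Helper11.GrPoly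

open DirectSum GrLC Groth.Agent.Lib.Helper11.GrLCLib Groth.Agent.Lib.Helper11.GrConv
  Groth.Agent.Lib.Helper11.GrMod Groth.Agent.Lib.Helper11.Seg Groth.Agent.Lib.Helper11.GrLes
  Groth.Agent.Lib.Helper11.GrCan MvPolynomial

attribute [local instance] convGradedRing

variable (k : Type u) [Field k] (r : ℕ)

/-- the standard grading of the polynomial ring. -/
abbrev stdW : ℤ → Submodule k (MvPolynomial (Fin r) k) :=
  MvPolynomial.weightedHomogeneousSubmodule k (fun _ : Fin r => (1 : ℤ))

lemma stdW_neg : ∀ n : ℤ, n < 0 → stdW k r n = ⊥ := by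
  intro n hn
  rw [← conv_eq_bot_iff]
  exact conv_weighted_neg k r (fun _ => (1 : ℤ)) (fun _ => one_pos) n hn

lemma weight_one_pos (d : Fin r →₀ ℕ) (hd : d ≠ 0) :
    0 < Finsupp.weight (fun _ : Fin r => (1 : ℤ)) d := by
  rw [Finsupp.weight_apply, Finsupp.sum]
  have hne : d.support.Nonempty := by
    rw [Finsupp.support_nonempty_iff]
    exact hd
  apply Finset.sum_pos _ hne
  intro i hi
  have : d i ≠ 0 := Finsupp.mem_support_iff.mp hi
  simp only [nsmul_eq_mul, mul_one]
  exact_mod_cast Nat.pos_of_ne_zero this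

lemma stdW_zero : stdW k r 0 = Submodule.span k {(1 : MvPolynomial (Fin r) k)} := by
  apply le_antisymm
  · intro p hp
    have hp' : IsWeightedHomogeneous (fun _ : Fin r => (1 : ℤ)) p 0 :=
      (mem_weightedHomogeneousSubmodule k _ 0 p).1 hp
    have hpC : p = C (coeff 0 p) := by
      ext d
      rw [coeff_C]
      split_ifs with h
      · rw [← h]
      · apply hp'.coeff_eq_zero
        exact (weight_one_pos r d (Ne.symm h)).ne'
    rw [hpC, Submodule.mem_span_singleton]
    refine ⟨coeff 0 p, ?_⟩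
    rw [Algebra.smul_def, mul_one]
    rfl
  · rw [Submodule.span_le, Set.singleton_subset_iff]
    exact (mem_weightedHomogeneousSubmodule k _ 0 1).2 (isWeightedHomogeneous_one k _)

lemma X_pow_mem (i : Fin r) (n : ℕ) :
    (X i ^ n : MvPolynomial (Fin r) k) ∈ stdW k r (n : ℤ) := by
  rw [mem_weightedHomogeneousSubmodule]
  have := (isWeightedHomogeneous_X k (fun _ : Fin r => (1 : ℤ)) i).pow n
  simpa using this

/-- the non-zero pieces of the polynomial ring in at least one variable. -/
lemma conv_stdW_eq_bot_iff (h1r : 1 ≤ r) (n : ℤ) : conv (stdW k r) n = ⊥ ↔ n < 0 := by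
  constructor
  · intro h
    by_contra hn
    push Not at hn
    have h1 : (X ⟨0, h1r⟩ ^ n.toNat : MvPolynomial (Fin r) k) ∈ conv (stdW k r) n := by
      have := X_pow_mem k r ⟨0, h1r⟩ n.toNat
      rwa [Int.toNat_of_nonneg hn] at this
    rw [h, AddSubgroup.mem_bot] at h1
    exact pow_ne_zero _ (X_ne_zero _) h1
  · intro hn
    rw [conv_eq_bot_iff]
    exact stdW_neg k r n hn

section LC

variable (a : HomogeneousIdeal (conv (stdW k r)))
  (ha : a.toIdeal = Ideal.span (⋃ n ∈ Set.Ioi (0 : ℤ), (stdW k r n : Set (MvPolynomial (Fin r) k))))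
  (I : StarInjRes (conv (stdW k r)) (conv (stdW k r)))

include ha in
lemma isStarLocal_stdW : IsStarLocal (conv (stdW k r)) a :=
  isStarLocal_conv_irr (stdW k r) (stdW_neg k r) (stdW_zero k r) a ha

include ha in
lemma subsingleton_H_stdW (i : ℕ) (hi : i ≠ r) : Subsingleton (I.H a i) := by
  haveI := isCM k r
  exact Groth.Agent.Lib.Helper11.GrCMGlob.subsingleton_H_of_ne_dim (conv (stdW k r))
    (hpos_conv (stdW k r) (stdW_neg k r)) a (isStarLocal_stdW k r a ha) r (krullDim k r) I i hi

include ha in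
/-- the pieces of the top local cohomology of the polynomial ring. -/
theorem Hcomp_stdW_eq_bot_iff (h1r : 1 ≤ r) (q : ℕ) (j : ℤ) :
    I.Hcomp a q j = ⊥ ↔ ¬ (q = r ∧ j ≤ -(r : ℤ)) := by
  have hloc := isStarLocal_stdW k r a ha
  by_cases hq : q = r
  swap
  · have hs := subsingleton_H_stdW k r a ha I q hq
    constructor
    · intro _ h
      exact hq h.1
    · intro _
      exact (subsingleton_H_iff I a q).mp hs j
  subst hq
  obtain ⟨-, htop, hvan⟩ := isTopDeg_poly (k := k) (N := q) (fun _ => (1 : ℤ)) (conv (stdW k q))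
    (X_mem_conv_weighted k q (fun _ => (1 : ℤ)))
    (conv_weighted_neg k q (fun _ => (1 : ℤ)) (fun _ => one_pos)) (fun _ => one_pos) a hloc I
  have hsum : (Finset.univ : Finset (Fin q)).sum (fun _ => (1 : ℤ)) = (q : ℤ) := by simp
  rw [hsum] at htop hvan
  obtain ⟨q', rfl⟩ : ∃ q', q = q' + 1 := ⟨q - 1, by omega⟩
  constructor
  · intro h hcon
    obtain ⟨-, hj⟩ := hcon
    -- downward propagation
    have hxreg : IsSMulRegular (MvPolynomial (Fin (q' + 1)) k)
        (X ⟨0, h1r⟩ : MvPolynomial (Fin (q' + 1)) k) := IsSMulRegular.of_ne_zero (X_ne_zero _)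
    have hxdeg : (X ⟨0, h1r⟩ : MvPolynomial (Fin (q' + 1)) k) ∈ conv (stdW k (q' + 1)) 1 :=
      X_mem_conv_weighted k (q' + 1) (fun _ => (1 : ℤ)) ⟨0, h1r⟩
    have hdim : Module.supportDim (MvPolynomial (Fin (q' + 1)) k) (MvPolynomial (Fin (q' + 1)) k)
        ≤ ((q' + 1 : ℕ) : WithBot ℕ∞) := by
      rw [Module.supportDim_self_eq_ringKrullDim, krullDim]
    have key : ∀ n : ℕ, I.Hcomp a (q' + 1) (-((q' + 1 : ℕ) : ℤ) - n) ≠ ⊥ := by
      intro n
      induction n with
      | zero =>
        rw [Nat.cast_zero, sub_zero, Ne, Hcomp_eq_bot_iff_Hgr]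
        exact htop
      | succ n ih =>
        have := Hcomp_top_sub_ne_bot (conv (stdW k (q' + 1))) (conv (stdW k (q' + 1))) I a hxdeg
          hxreg q' hdim _ ih
        have e : -((q' + 1 : ℕ) : ℤ) - (n : ℤ) - 1 = -((q' + 1 : ℕ) : ℤ) - ((n + 1 : ℕ) : ℤ) := by
          push_cast; ring
        rwa [e] at this
    have := key (-((q' + 1 : ℕ) : ℤ) - j).toNat
    rw [Int.toNat_of_nonneg (by linarith)] at this
    apply this
    have e : -((q' + 1 : ℕ) : ℤ) - (-((q' + 1 : ℕ) : ℤ) - j) = j := by ring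
    rw [e]
    exact h
  · intro h
    have hj : -((q' + 1 : ℕ) : ℤ) < j := by
      by_contra hcon
      push Not at hcon
      exact h ⟨rfl, hcon⟩
    rw [Hcomp_eq_bot_iff_Hgr]
    exact hvan j hj

end LC

end Groth.Agent.Lib.Helper11.GrPoly
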