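import Groth.Agent.Lib.Helper11.GrPullB
import Groth.Agent.Lib.Helper11.GrSegModD
import Groth.Agent.Lib.Helper11.GrFieldD
import Groth.Agent.Lib27.RegA2

/-!
# The standard graded polynomial ring: components, irrelevant ideal, dimensions of the pieces
-/

set_option autoImplicit false
set_option linter.unusedSectionVars false
set_option linter.unusedVariables false
set_option linter.style.haveILetI false
set_option maxHeartbeats 1000000
universe u

attribute [local instance] MvPolynomial.weightedGradedAlgebra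

namespace Groth.Agent.Lib.Helper11.GrPull

open DirectSum GrLC Groth.Agent.Lib.Helper11.GrLCLib Groth.Agent.Lib.Helper11.GrField
  Groth.Agent.Lib.Helper11.Seg Groth.Agent.Lib.Helper11.GrConv Groth.Agent.Lib.Helper11.GrPoly
  MvPolynomial

attribute [local instance] convGradedRing

variable (k : Type u) [Field k] (s : ℕ)

lemma weight_one_eq_degree (d : Fin s →₀ ℕ) :
    Finsupp.weight (fun _ : Fin s => (1 : ℤ)) d = ((Finsupp.degree d : ℕ) : ℤ) := by
  rw [Groth.Agent.Lib27.RegA.weight_one', Finsupp.degree_eq_sum]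

lemma weight_one_nat (d : Fin s →₀ ℕ) :
    Finsupp.weight (1 : Fin s → ℕ) d = Finsupp.degree d := by
  rw [Finsupp.degree_eq_weight_one]; rfl

lemma mem_stdW_iff (p : MvPolynomial (Fin s) k) (n : ℕ) :
    p ∈ stdW k s (n : ℤ) ↔ p.IsHomogeneous n := by
  rw [mem_weightedHomogeneousSubmodule]
  constructor
  · intro h d hd
    have := h hd
    rw [weight_one_eq_degree] at this
    rw [weight_one_nat]
    exact_mod_cast this
  · intro h d hd
    have := h hd
    rw [weight_one_nat] at this
    rw [weight_one_eq_degree, this]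

/-- the component maps of the standard grading. -/
noncomputable def hproj (g : ℤ) : MvPolynomial (Fin s) k →+ MvPolynomial (Fin s) k :=
  if 0 ≤ g then (homogeneousComponent g.toNat : MvPolynomial (Fin s) k →ₗ[k] _).toAddMonoidHom else 0

lemma hproj_same (g : ℤ) (x : MvPolynomial (Fin s) k) (hx : x ∈ conv (stdW k s) g) :
    hproj k s g x = x := by
  unfold hproj
  by_cases hg : 0 ≤ g
  · rw [if_pos hg]
    have hx' : x ∈ stdW k s ((g.toNat : ℕ) : ℤ) := by
      rw [Int.toNat_of_nonneg hg]; exact hx
    rw [mem_stdW_iff] at hx'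
    change homogeneousComponent g.toNat x = x
    rw [homogeneousComponent_of_mem ((mem_homogeneousSubmodule _ _).mpr hx'), if_pos rfl]
  · rw [if_neg hg]
    push Not at hg
    rw [hpos_conv (stdW k s) (stdW_neg k s) g hg, AddSubgroup.mem_bot] at hx
    rw [hx, map_zero]

lemma hproj_ne (g g' : ℤ) (x : MvPolynomial (Fin s) k) (hx : x ∈ conv (stdW k s) g)
    (hne : g' ≠ g) : hproj k s g' x = 0 := by
  unfold hproj
  by_cases hg' : 0 ≤ g'
  · rw [if_pos hg']
    by_cases hg : 0 ≤ g
    · have hx' : x ∈ stdW k s ((g.toNat : ℕ) : ℤ) := by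
        rw [Int.toNat_of_nonneg hg]; exact hx
      rw [mem_stdW_iff] at hx'
      change homogeneousComponent g'.toNat x = 0
      rw [homogeneousComponent_of_mem ((mem_homogeneousSubmodule _ _).mpr hx'), if_neg]
      intro h
      apply hne
      rw [← Int.toNat_of_nonneg hg', ← Int.toNat_of_nonneg hg, h]
    · push Not at hg
      rw [hpos_conv (stdW k s) (stdW_neg k s) g hg, AddSubgroup.mem_bot] at hx
      rw [hx, map_zero]
  · rw [if_neg hg']
    rfl

/-- the components for the standard grading are the homogeneous components. -/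
theorem decompose_stdW [DirectSum.Decomposition (conv (stdW k s))] (p : MvPolynomial (Fin s) k)
    (j : ℕ) : (decompose (conv (stdW k s)) p (j : ℤ) : MvPolynomial (Fin s) k) =
      homogeneousComponent j p := by
  rw [decompose_eq_proj (conv (stdW k s)) (hproj k s) (hproj_same k s) (hproj_ne k s)]
  unfold hproj
  rw [if_pos (Int.natCast_nonneg j), Int.toNat_natCast]
  rfl

theorem decompose_stdW_neg [DirectSum.Decomposition (conv (stdW k s))]
    (p : MvPolynomial (Fin s) k) (j : ℤ) (hj : j < 0) :
    (decompose (conv (stdW k s)) p j : MvPolynomial (Fin s) k) = 0 := by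
  have hbot := hpos_conv (stdW k s) (stdW_neg k s) j hj
  have h : (decompose (conv (stdW k s)) p j : MvPolynomial (Fin s) k) ∈
      (⊥ : AddSubgroup (MvPolynomial (Fin s) k)) := hbot ▸ SetLike.coe_mem _
  exact AddSubgroup.mem_bot.mp h

/-- the hypothesis on the range, in terms of the `ℤ`-grading. -/
theorem range_iff {R' : Type u} [CommRing R'] (φ : R' →+* MvPolynomial (Fin s) k) (d : ℕ)
    (hrange : ∀ p : MvPolynomial (Fin s) k, p ∈ φ.range ↔
      ∀ j : ℕ, ¬ d ∣ j → MvPolynomial.homogeneousComponent j p = 0)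
    [DirectSum.Decomposition (conv (stdW k s))] (x : MvPolynomial (Fin s) k) :
    x ∈ φ.range ↔ ∀ j : ℤ, ¬ (d : ℤ) ∣ j →
      (decompose (conv (stdW k s)) x j : MvPolynomial (Fin s) k) = 0 := by
  rw [hrange]
  constructor
  · intro h j hj
    by_cases hj0 : 0 ≤ j
    · obtain ⟨n, rfl⟩ := Int.eq_ofNat_of_zero_le hj0
      rw [decompose_stdW]
      apply h
      intro hd
      exact hj (Int.natCast_dvd_natCast.mpr hd)
    · push Not at hj0
      exact decompose_stdW_neg k s x j hj0
  · intro h j hj
    rw [← decompose_stdW]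
    apply h
    intro hd
    exact hj (Int.natCast_dvd_natCast.mp hd)

/-- the irrelevant ideal is the kernel of the constant coefficient. -/
theorem irrelevant_eq_ker :
    (irrelevant (conv (stdW k s))).toIdeal =
      RingHom.ker (MvPolynomial.constantCoeff : MvPolynomial (Fin s) k →+* k) := by
  ext r
  rw [mem_irrelevant_iff' (isBase_conv (stdW k s) (stdW_zero k s))
    (hpos_conv (stdW k s) (stdW_neg k s)) (irrelevant (conv (stdW k s)))
    (irrelevant_toIdeal _) r]
  have := decompose_stdW k s r 0
  rw [Nat.cast_zero] at this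
  rw [this, homogeneousComponent_zero, RingHom.mem_ker, constantCoeff_eq]
  constructor
  · intro h
    have := congrArg (coeff 0) h
    rwa [coeff_C, if_pos rfl, coeff_zero] at this
  · intro h
    rw [h, C_0]

lemma zero_of_mem_zero_of_mem_irrelevant (y : MvPolynomial (Fin s) k)
    (hy : y ∈ conv (stdW k s) 0) (hym : y ∈ (irrelevant (conv (stdW k s))).toIdeal) : y = 0 := by
  rw [mem_irrelevant_iff' (isBase_conv (stdW k s) (stdW_zero k s))
    (hpos_conv (stdW k s) (stdW_neg k s)) (irrelevant (conv (stdW k s)))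
    (irrelevant_toIdeal _) y, decompose_of_mem_same _ hy] at hym
  exact hym

theorem isStarLocal_irrelevant_stdW :
    IsStarLocal (conv (stdW k s)) (irrelevant (conv (stdW k s))) :=
  isStarLocal_stdW k s (irrelevant (conv (stdW k s))) (irrelevant_toIdeal _)

theorem hstd_stdW :
    Ideal.span (⋃ n ∈ Set.Ioi (0 : ℤ), (conv (stdW k s) n : Set (MvPolynomial (Fin s) k))) =
      Ideal.span ((conv (stdW k s) 1 : AddSubgroup (MvPolynomial (Fin s) k)) :
        Set (MvPolynomial (Fin s) k)) := by
  apply le_antisymm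
  · rw [← irrelevant_toIdeal, toIdeal_eq_span_X (fun _ => (1 : ℤ)) (conv (stdW k s))
      (X_mem_conv_weighted k s (fun _ => (1 : ℤ)))
      (conv_weighted_neg k s (fun _ => (1 : ℤ)) (fun _ => one_pos)) (fun _ => one_pos)
      (isStarLocal_irrelevant_stdW k s).1, Ideal.span_le]
    rintro _ ⟨i, rfl⟩
    exact Ideal.subset_span (X_mem_conv_weighted k s (fun _ => (1 : ℤ)) i)
  · apply Ideal.span_mono
    intro x hx
    exact Set.mem_biUnion (Set.mem_Ioi.mpr one_pos) hx

theorem isField_deg0_stdW (hs : 1 ≤ s) : IsField (GrLC.deg0 (conv (stdW k s))) :=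
  isField_deg0_of_isBase (conv (stdW k s)) (isBase_conv (stdW k s) (stdW_zero k s))

/-- the `a`-invariant of the standard graded polynomial ring. -/
theorem endDeg_stdW (I : StarInjRes (conv (stdW k s)) (conv (stdW k s))) :
    GrLC.endDeg (I.Hgr (irrelevant (conv (stdW k s))) s) =
      (((-(s : ℤ) : ℤ) : WithTop ℤ) : WithBot (WithTop ℤ)) := by
  obtain ⟨-, htop⟩ := isTopDeg_poly (k := k) (N := s) (fun _ => (1 : ℤ)) (conv (stdW k s))
    (X_mem_conv_weighted k s (fun _ => (1 : ℤ)))
    (conv_weighted_neg k s (fun _ => (1 : ℤ)) (fun _ => one_pos)) (fun _ => one_pos)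
    (irrelevant (conv (stdW k s))) (isStarLocal_irrelevant_stdW k s) I
  have hsum : (Finset.univ : Finset (Fin s)).sum (fun _ => (1 : ℤ)) = (s : ℤ) := by simp
  rw [hsum] at htop
  exact Groth.Agent.Lib.Helper11.GrCan.endDeg_eq_of_isTopDeg htop

end Groth.Agent.Lib.Helper11.GrPull
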