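import Groth.Agent.Lib.Helper11.GrPullC

/-!
# Dimensions of the pieces of the standard graded polynomial ring
-/

set_option autoImplicit false
set_option linter.unusedSectionVars false
set_option linter.unusedVariables false
set_option linter.style.haveILetI false
set_option maxHeartbeats 1000000
universe u

attribute [local instance] MvPolynomial.weightedGradedAlgebra

namespace Groth.Agent.Lib.Helper11.GrPull

open DirectSum GrLC Groth.Agent.Lib.Helper11.GrLCLib Groth.Agent.Lib.Helper11.GrField
  Groth.Agent.Lib.Helper11.Seg Groth.Agent.Lib.Helper11.GrConv Groth.Agent.Lib.Helper11.GrPoly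
  MvPolynomial

attribute [local instance] convGradedRing

variable (k : Type u) [Field k] (s : ℕ)

theorem finrank_stdW (r : ℕ) :
    Module.finrank k (stdW k s (r : ℤ)) = Nat.choose (s + r - 1) r := by
  classical
  have h1 : stdW k s (r : ℤ) = restrictSupport k {d : Fin s →₀ ℕ |
      Finsupp.weight (fun _ : Fin s => (1 : ℤ)) d = (r : ℤ)} :=
    weightedHomogeneousSubmodule_eq_finsupp_supported k _ _
  rw [h1, Module.finrank_eq_nat_card_basis (basisRestrictSupport k _)]
  have h2 : ∀ d : Fin s →₀ ℕ, d ∈ {d : Fin s →₀ ℕ |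
      Finsupp.weight (fun _ : Fin s => (1 : ℤ)) d = (r : ℤ)} ↔
      d ∈ (Finset.univ : Finset (Fin s)).finsuppAntidiag r := by
    intro d
    rw [Set.mem_setOf_eq, weight_one_eq_degree, Finset.mem_finsuppAntidiag,
      Finsupp.degree_eq_sum]
    constructor
    · intro h
      exact ⟨by exact_mod_cast h, Finset.subset_univ _⟩
    · rintro ⟨h, -⟩
      exact_mod_cast h
  rw [Nat.card_congr (Equiv.subtypeEquivRight h2), Nat.card_eq_fintype_card, Fintype.card_coe,
    Finset.card_finsuppAntidiag_nat_eq_choose, Finset.card_univ, Fintype.card_fin]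

theorem finrank_comp_stdW (hs : 1 ≤ s) (r : ℕ) :
    Module.finrank (GrLC.deg0 (conv (stdW k s)))
      (GrLC.comp (conv (stdW k s)) (conv (stdW k s)) (r : ℤ)) = Nat.choose (s + r - 1) r := by
  rw [finrank_comp_eq_subK' (conv (stdW k s)) (isBase_conv (stdW k s) (stdW_zero k s)) (r : ℤ),
    ← finrank_stdW k s r]
  have : subK (isBase_conv (stdW k s) (stdW_zero k s)) (r : ℤ) = stdW k s (r : ℤ) := by
    ext x
    exact Iff.rfl
  rw [this]

end Groth.Agent.Lib.Helper11.GrPull
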