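import Groth.Agent.Lib.Helper11.GrFieldD
import Groth.Agent.Lib.Helper11.GrVanA

/-!
# Minimal number of generators of a graded module generated by its lowest piece
-/

set_option autoImplicit false
set_option linter.unusedSectionVars false
set_option linter.unusedVariables false
set_option linter.style.haveILetI false
universe u

namespace Groth.Agent.Lib.Helper11.GrRes

open DirectSum GrLC Groth.Agent.Lib.Helper11.GrLCLib Groth.Agent.Lib.Helper11.GrField TensorProduct

variable {R : Type u} [CommRing R] {𝒜 : ℤ → AddSubgroup R} [GradedRing 𝒜]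
variable {k : Type u} [Field k] [Algebra k R] (hk : IsBase 𝒜 k)
variable {M : Type u} [AddCommGroup M] [Module R M] (ℳ : ℤ → AddSubgroup M)
  [DirectSum.Decomposition ℳ] [SetLike.GradedSMul 𝒜 ℳ]

/-- elements of `m M` have no component in the lowest degree. -/
theorem decompose_eq_zero_of_mem_smul (m : HomogeneousIdeal 𝒜)
    (hmsp : m.toIdeal = Ideal.span (⋃ n ∈ Set.Ioi (0 : ℤ), (𝒜 n : Set R)))
    (j₀ : ℤ) (hlow : ∀ j, j < j₀ → ℳ j = ⊥) (y : M)
    (hy : y ∈ m.toIdeal • (⊤ : Submodule R M)) : (decompose ℳ y j₀ : M) = 0 := by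
  have key : ∀ a ∈ m.toIdeal, ∀ c : M, (decompose ℳ (a • c) j₀ : M) = 0 := by
    intro a ha
    rw [hmsp] at ha
    refine Submodule.span_induction ?_ ?_ ?_ ?_ ha
    · intro a ha c
      simp only [Set.mem_iUnion, Set.mem_Ioi, SetLike.mem_coe, exists_prop] at ha
      obtain ⟨i, hi, hai⟩ := ha
      have h1 := Groth.Agent.Lib.Helper11.GrVan.decompose_smul_of_mem 𝒜 ℳ hai c (j₀ - i)
      rw [sub_add_cancel] at h1
      rw [h1]
      have h2 : ∀ z : M, z ∈ ℳ (j₀ - i) → z = 0 := by
        intro z hz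
        rw [hlow (j₀ - i) (by omega), AddSubgroup.mem_bot] at hz
        exact hz
      rw [h2 _ (SetLike.coe_mem _), smul_zero]
    · intro c
      rw [zero_smul, decompose_zero, DirectSum.zero_apply, ZeroMemClass.coe_zero]
    · intro a b _ _ ha hb c
      rw [add_smul, decompose_add, DirectSum.add_apply, AddMemClass.coe_add, ha c, hb c, add_zero]
    · intro r a _ ha c
      rw [smul_eq_mul, mul_comm, mul_smul]
      exact ha (r • c)
  refine Submodule.smul_induction_on hy ?_ ?_
  · intro a ha c _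
    exact key a ha c
  · intro x y hx hy
    rw [decompose_add, DirectSum.add_apply, AddMemClass.coe_add, hx, hy, add_zero]

include hk in
/-- If a graded module is generated by its lowest piece `M_{j₀}`, then
`dim_{R/m} (R/m ⊗ M) = dim_{R_0} M_{j₀}`. -/
theorem finrank_residue_tensor_eq (hpos : ∀ n : ℤ, n < 0 → 𝒜 n = ⊥) (m : HomogeneousIdeal 𝒜)
    (hmsp : m.toIdeal = Ideal.span (⋃ n ∈ Set.Ioi (0 : ℤ), (𝒜 n : Set R)))
    (j₀ : ℤ) (hlow : ∀ j, j < j₀ → ℳ j = ⊥)
    (hgen : Submodule.span R ((ℳ j₀ : AddSubgroup M) : Set M) = ⊤) :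
    Module.finrank (R ⧸ m.toIdeal) ((R ⧸ m.toIdeal) ⊗[R] M) =
      Module.finrank (GrLC.deg0 𝒜) (GrLC.comp 𝒜 ℳ j₀) := by
  classical
  -- the map on scalars
  let i : GrLC.deg0 𝒜 → R ⧸ m.toIdeal := fun r => Ideal.Quotient.mk m.toIdeal (r : R)
  have hi : Function.Bijective i := by
    constructor
    · intro r s hrs
      have h1 : (r : R) - (s : R) ∈ m.toIdeal := Ideal.Quotient.eq.mp hrs
      rw [mem_irrelevant_iff' hk hpos m hmsp] at h1
      have h2 : (r : R) - (s : R) ∈ 𝒜 0 := sub_mem r.2 s.2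
      rw [decompose_of_mem_same 𝒜 h2] at h1
      exact Subtype.ext (sub_eq_zero.mp h1)
    · intro y
      obtain ⟨x, rfl⟩ := Ideal.Quotient.mk_surjective y
      refine ⟨⟨(decompose 𝒜 x 0 : R), SetLike.coe_mem _⟩, ?_⟩
      apply Ideal.Quotient.eq.mpr
      rw [mem_irrelevant_iff' hk hpos m hmsp, decompose_sub, DirectSum.sub_apply,
        AddSubgroupClass.coe_sub, decompose_coe, DirectSum.of_eq_same, sub_self]
  -- the map on modules
  let q₀ : ↥(GrLC.comp 𝒜 ℳ j₀) →+ M ⧸ (m.toIdeal • (⊤ : Submodule R M)) :=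
    { toFun := fun x => Submodule.Quotient.mk (x : M)
      map_zero' := rfl
      map_add' := fun x y => rfl }
  have hq₀ : Function.Bijective q₀ := by
    constructor
    · rw [injective_iff_map_eq_zero]
      intro x hx
      have h1 : (x : M) ∈ m.toIdeal • (⊤ : Submodule R M) :=
        (Submodule.Quotient.mk_eq_zero _).mp hx
      have h2 := decompose_eq_zero_of_mem_smul ℳ m hmsp j₀ hlow _ h1
      have h3 : (x : M) ∈ ℳ j₀ := x.2
      rw [decompose_of_mem_same ℳ h3] at h2
      exact Subtype.ext h2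
    · intro y
      obtain ⟨y, rfl⟩ := Submodule.Quotient.mk_surjective _ y
      have key : ∀ y ∈ Submodule.span R ((ℳ j₀ : AddSubgroup M) : Set M),
          ∃ x ∈ ℳ j₀, y - x ∈ m.toIdeal • (⊤ : Submodule R M) := by
        intro y hy
        refine Submodule.span_induction ?_ ?_ ?_ ?_ hy
        · intro x hx
          exact ⟨x, hx, by rw [sub_self]; exact zero_mem _⟩
        · exact ⟨0, zero_mem _, by rw [sub_self]; exact zero_mem _⟩
        · rintro a b _ _ ⟨xa, hxa, ha⟩ ⟨xb, hxb, hb⟩
          refine ⟨xa + xb, add_mem hxa hxb, ?_⟩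
          have : a + b - (xa + xb) = (a - xa) + (b - xb) := by abel
          rw [this]
          exact add_mem ha hb
        · rintro r a _ ⟨xa, hxa, ha⟩
          have hr0 : (decompose 𝒜 r 0 : R) ∈ 𝒜 0 := SetLike.coe_mem _
          refine ⟨(decompose 𝒜 r 0 : R) • xa, ?_, ?_⟩
          · have := SetLike.GradedSMul.smul_mem (A := 𝒜) (B := ℳ) hr0 hxa
            rwa [vadd_eq_add, zero_add] at this
          · have hrm : r - (decompose 𝒜 r 0 : R) ∈ m.toIdeal := by
              rw [mem_irrelevant_iff' hk hpos m hmsp, decompose_sub, DirectSum.sub_apply,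
                AddSubgroupClass.coe_sub, decompose_coe, DirectSum.of_eq_same, sub_self]
            have : r • a - (decompose 𝒜 r 0 : R) • xa =
                r • (a - xa) + (r - (decompose 𝒜 r 0 : R)) • xa := by
              rw [smul_sub, sub_smul]
              abel
            rw [this]
            exact add_mem (Submodule.smul_mem _ r ha)
              (Submodule.smul_mem_smul hrm Submodule.mem_top)
      obtain ⟨x, hx, hyx⟩ := key y (by rw [hgen]; exact Submodule.mem_top)
      refine ⟨⟨x, hx⟩, ?_⟩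
      symm
      exact (Submodule.Quotient.eq _).mpr hyx
  let e := (TensorProduct.quotTensorEquivQuotSMul M m.toIdeal).symm
  let jm : ↥(GrLC.comp 𝒜 ℳ j₀) ≃+ (R ⧸ m.toIdeal) ⊗[R] M :=
    (AddEquiv.ofBijective q₀ hq₀).trans e.toAddEquiv
  have hjm : ∀ x : ↥(GrLC.comp 𝒜 ℳ j₀), jm x = (1 : R ⧸ m.toIdeal) ⊗ₜ[R] (x : M) := by
    intro x
    rfl
  have hrank := rank_eq_of_equiv_equiv i jm hi (by
    intro r x
    rw [hjm, hjm, TensorProduct.smul_tmul']
    change (1 : R ⧸ m.toIdeal) ⊗ₜ[R] ((r : R) • (x : M)) = _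
    rw [← TensorProduct.smul_tmul]
    congr 1)
  unfold Module.finrank
  rw [hrank]

end Groth.Agent.Lib.Helper11.GrRes
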