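import Groth.Agent.Lib.Helper11.GrVanC
import Groth.Agent.Lib.Helper18.CMRing
import Groth.Agent.Lib.Helper16.LocCohDepth

/-!
# `R_m` is Cohen–Macaulay when the graded local cohomology vanishes below the height of `m`
-/

set_option autoImplicit false
set_option linter.unusedSectionVars false
set_option linter.style.haveILetI false
set_option linter.unusedVariables false
universe u

namespace Groth.Agent.Lib.Helper11.GrVan

open DirectSum GrLC Groth.Agent.Lib.Helper11.GrLCLib

variable {R : Type u} [CommRing R] [IsNoetherianRing R] (𝒜 : ℤ → AddSubgroup R) [GradedRing 𝒜]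

/-- If `m` is a maximal homogeneous ideal of height `n` and `*H^i_m(R) = 0` for `i < n`, then
`R_m` is a Cohen–Macaulay local ring. -/
theorem isCohenMacaulayLocalRing_of_H_vanish (m : HomogeneousIdeal 𝒜)
    [hmax : m.toIdeal.IsMaximal] (n : ℕ) (hht : m.toIdeal.height = n) (I : StarInjRes 𝒜 𝒜)
    (hlow : ∀ i, i < n → Subsingleton (I.H m i)) :
    LocCoh.IsCohenMacaulayLocalRing (Localization.AtPrime m.toIdeal) := by
  have hne : m.toIdeal ≠ ⊤ := hmax.ne_top
  have hIM : m.toIdeal • (⊤ : Submodule R R) ≠ ⊤ := by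
    rw [smul_eq_mul, Ideal.mul_top]
    exact hne
  have hle := Groth.Agent.Lib.Helper18.CM.idealDepth_le_height m.toIdeal hne
  rw [hht] at hle
  have hfin : LocCoh.idealDepth m.toIdeal R ≠ ⊤ := by
    intro h
    rw [h, top_le_iff] at hle
    exact ENat.natCast_ne_top _ hle
  obtain ⟨d, hd⟩ := ENat.ne_top_iff_exists.mp hfin
  have hnt := Groth.Agent.Lib.Helper16.LC.nontrivial_H_of_idealDepth_eq m.toIdeal R hIM d hd.symm
  obtain ⟨eq⟩ := Groth.Agent.Lib.Helper11.GrLCOrd.nonempty_H_equiv I m d
  have hnt' : Nontrivial (I.H m d) := eq.symm.injective.nontrivial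
  have hdn : d = n := by
    have h1 : d ≤ n := by
      rw [← hd] at hle
      exact_mod_cast hle
    by_contra hne'
    have hlt : d < n := lt_of_le_of_ne h1 hne'
    exact not_subsingleton _ (hlow d hlt)
  subst hdn
  have hge : ((d : ℕ) : ℕ∞) ≤ LocCoh.idealDepth m.toIdeal R := by rw [← hd]
  rw [Groth.Agent.Lib.Helper16.Depth.le_idealDepth_iff] at hge
  rcases hge with hge | ⟨rs, hlen, hreg, hmem⟩
  · exact absurd hge hIM
  have h1 := Groth.Agent.Lib.Helper18.CM.length_le_depth_localization m.toIdeal rs hreg hmem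
  have h2 := Groth.Agent.Lib.Helper18.CM.depth_localization_le_height m.toIdeal
  rw [hlen] at h1
  rw [hht] at h2
  have h3 : LocCoh.depth (Localization.AtPrime m.toIdeal) (Localization.AtPrime m.toIdeal) =
      (d : ℕ∞) := le_antisymm h2 h1
  exact { supportDim_eq_depth := by
            rw [Module.supportDim_self_eq_ringKrullDim,
              IsLocalization.AtPrime.ringKrullDim_eq_height m.toIdeal, hht, h3] }

end Groth.Agent.Lib.Helper11.GrVan
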