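import Groth.Agent.Lib.Helper11.GrVerM
import Groth.Agent.Lib.Helper11.GrCanE
import Groth.Agent.Lib.Helper11.GrLocD
import Groth.Agent.Lib.Helper11.GrVanD
import Groth.Agent.Lib.Helper11.GrResA

/-!
# The type of a Veronese subring of a Gorenstein graded ring
-/

set_option autoImplicit false
set_option linter.unusedSectionVars false
set_option linter.unusedVariables false
set_option linter.style.haveILetI false
universe u

namespace Groth.Agent.Lib.Helper11.GrVer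

open DirectSum GrLC GrSeg Groth.Agent.Lib.Helper11.GrLCLib Groth.Agent.Lib.Helper11.GrDual
  Groth.Agent.Lib.Helper11.GrField Groth.Agent.Lib.Helper11.GrCan TensorProduct

variable {k : Type u} [Field k]
variable {R : Type u} [CommRing R] [Algebra k R] {𝒜 : ℤ → AddSubgroup R} [GradedRing 𝒜]
variable {R' : Type u} [CommRing R'] [Algebra k R'] {𝒜' : ℤ → AddSubgroup R'} [GradedRing 𝒜']
variable {φ : R' →+* R}

/-- the dimension of a Veronese subring. -/
theorem ringKrullDim_veronese (q : ℕ) (hq : 0 < q)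
    (hR : IsVerRing 𝒜 𝒜' φ (AddMonoidHom.mulRight (q : ℤ))) :
    ringKrullDim R' = ringKrullDim R := by
  apply ringKrullDim_eq_of_pow_mem hR
  intro i x hx
  refine ⟨q, hq, ?_⟩
  have h3 : x ^ q ∈ 𝒜 (q • i) := SetLike.pow_mem_graded q hx
  have h4 : (q • i : ℤ) = (AddMonoidHom.mulRight (q : ℤ)) i := by
    rw [nsmul_eq_mul, mul_comm]; rfl
  rw [h4, ← hR.deg i] at h3
  obtain ⟨r, hr, hrx⟩ := h3
  exact ⟨r, hrx⟩

/-- vanishing of the local cohomology of the Veronese-type subring. -/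
theorem subsingleton_H_ver' [IsNoetherianRing R] {ψ : ℤ →+ ℤ} (hR : IsVerRing 𝒜 𝒜' φ ψ)
    (m : HomogeneousIdeal 𝒜) (m' : HomogeneousIdeal 𝒜')
    (h1 : m'.toIdeal.map φ ≤ m.toIdeal) (h2 : ∃ K, m.toIdeal ^ K ≤ m'.toIdeal.map φ)
    (I : StarInjRes 𝒜 𝒜) (I' : StarInjRes 𝒜' 𝒜') (p : ℕ) (hp : Subsingleton (I.H m p)) :
    Subsingleton (I'.H m' p) := by
  obtain ⟨Φp, hinj, -, -⟩ := claim_all hR m m' h1 h2 p R 𝒜 R' 𝒜' (ringSL φ) hR.isVer I I'
  exact hinj.subsingleton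

/-- **Type of the Veronese subring of a Gorenstein graded ring.** -/
theorem bassNum_veronese_eq [hG : LocCoh.IsGorensteinRing R] [Nontrivial R] [Nontrivial R']
    (hk : IsBase 𝒜 k) (hk' : IsBase 𝒜' k) (q : ℕ) (hq : 0 < q)
    (hR : IsVerRing 𝒜 𝒜' φ (AddMonoidHom.mulRight (q : ℤ)))
    (hφk : ∀ c : k, φ (algebraMap k R' c) = algebraMap k R c)
    (hpos : ∀ n : ℤ, n < 0 → 𝒜 n = ⊥) (hpos' : ∀ n : ℤ, n < 0 → 𝒜' n = ⊥)
    (m : HomogeneousIdeal 𝒜) (hm : IsStarLocal 𝒜 m)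
    (hmsp : m.toIdeal = Ideal.span (⋃ n ∈ Set.Ioi (0 : ℤ), (𝒜 n : Set R)))
    (n : ℕ) (hn : ringKrullDim R = n) (I : StarInjRes 𝒜 𝒜) (a : ℤ)
    (ha : IsTopDeg (I.Hgr m n) a)
    (m' : HomogeneousIdeal 𝒜') [hm'max : m'.toIdeal.IsMaximal]
    (hm'sp : m'.toIdeal = Ideal.span (⋃ n ∈ Set.Ioi (0 : ℤ), (𝒜' n : Set R')))
    (h1 : m'.toIdeal.map φ ≤ m.toIdeal) (h2 : ∃ K, m.toIdeal ^ K ≤ m'.toIdeal.map φ)
    (j₀ : ℤ) (hj₀' : a + (j₀ - 1) * q < 0)
    (hgen : ∀ (M' : Type u) [AddCommGroup M'] [Module R' M'] (ℳ' : ℤ → AddSubgroup M')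
      [DirectSum.Decomposition ℳ'] [SetLike.GradedSMul 𝒜' ℳ'] (g : M' →ₛₗ[φ] R)
      (hg : Function.Injective g)
      (hgdeg : ∀ j : ℤ, (ℳ' j).map (g : M' →+ R) = 𝒜 (a + j * q)),
      Submodule.span R' ((ℳ' j₀ : AddSubgroup M') : Set M') = ⊤) :
    GrLC.bassNum m'.toIdeal R' n =
      (Module.finrank (GrLC.deg0 𝒜) (GrLC.comp 𝒜 𝒜 (a + j₀ * q)) : ℕ∞) := by
  haveI : IsNoetherianRing R := hG.toIsNoetherian
  haveI : IsNoetherianRing R' := hR.isNoetherianRing
  haveI hCM : LocCoh.IsCohenMacaulayRing R := isCohenMacaulayRing_of_isGorensteinRing R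
  have hmax := Groth.Agent.Lib.Helper11.GrLes.isMaximal_of_isCoatom 𝒜 hpos hm.1
  have hht := Groth.Agent.Lib.Helper11.GrLes.ringKrullDim_eq_height 𝒜 hpos hm
  rw [hn] at hht
  have hht' : m.toIdeal.height = (n : ℕ∞) := by
    have : ((m.toIdeal.height : ℕ∞) : WithBot ℕ∞) = ((n : ℕ∞) : WithBot ℕ∞) := hht.symm
    exact_mod_cast this
  have hlowR : ∀ i, i < n → Subsingleton (I.H m i) := fun i hi =>
    Groth.Agent.Lib.Helper11.GrLes.subsingleton_H_of_lt_height 𝒜 m hmax I n hht'.ge i hi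
  have hm' : IsStarLocal 𝒜' m' := isStarLocal_irrelevant hk' hpos' m' hm'sp
  have hdim' : ringKrullDim R' = n := by rw [ringKrullDim_veronese q hq hR, hn]
  have hht2 := Groth.Agent.Lib.Helper11.GrLes.ringKrullDim_eq_height 𝒜' hpos' hm'
  rw [hdim'] at hht2
  have hht2' : m'.toIdeal.height = (n : ℕ∞) := by
    have : ((m'.toIdeal.height : ℕ∞) : WithBot ℕ∞) = ((n : ℕ∞) : WithBot ℕ∞) := hht2.symm
    exact_mod_cast this
  obtain ⟨I'⟩ := nonempty_starInjRes 𝒜' 𝒜'
  have hlowR' : ∀ i, i < n → Subsingleton (I'.H m' i) := fun i hi =>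
    subsingleton_H_ver' hR m m' h1 h2 I I' i (hlowR i hi)
  -- the hulls
  letI := quotDecomposition 𝒜 (m.toIdeal : Submodule R R) m.isHomogeneous
  obtain ⟨Xh, e, he⟩ := exists_isStarInjHull 𝒜 (quotGrM 𝒜 (m.toIdeal : Submodule R R))
  rw [← Groth.Agent.Lib.Helper11.GrGor.quotGr_eq_quotGrM 𝒜 m] at he
  letI := quotDecomposition 𝒜' (m'.toIdeal : Submodule R' R') m'.isHomogeneous
  obtain ⟨Xh', e', he'⟩ := exists_isStarInjHull 𝒜' (quotGrM 𝒜' (m'.toIdeal : Submodule R' R'))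
  rw [← Groth.Agent.Lib.Helper11.GrGor.quotGr_eq_quotGrM 𝒜' m'] at he'
  letI : Module k Xh.carrier := Module.compHom Xh.carrier (algebraMap k R)
  haveI : IsScalarTower k R Xh.carrier := IsScalarTower.of_algebraMap_smul (fun r x => rfl)
  letI : Module k Xh'.carrier := Module.compHom Xh'.carrier (algebraMap k R')
  haveI : IsScalarTower k R' Xh'.carrier := IsScalarTower.of_algebraMap_smul (fun r x => rfl)
  -- the canonical modules
  obtain ⟨X, hC⟩ := exists_isStarCanonical hk Xh.gr hpos m hmsp e he n I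
  obtain ⟨X', hC'⟩ := exists_isStarCanonical hk' Xh'.gr hpos' m' hm'sp e' he' n I'
  obtain ⟨f, hf, hfdeg⟩ := exists_bijective_of_gorenstein 𝒜 Xh.gr X.gr hpos m hm n hht' I e he hC a ha
  obtain ⟨g, hg, hgdeg⟩ := exists_isVer_canonical hk hk' hR hφk hpos hpos' m hmsp m' hm'sp h1 h2 n I
    I' Xh.gr e he X.gr hC Xh'.gr e' he' X'.gr hC'
  let fe : R ≃ₗ[R] X.carrier := LinearEquiv.ofBijective f hf
  have hfe : IsGrHomDeg 𝒜 X.gr fe.toLinearMap (-a) := hfdeg
  have hfes := isGrHomDeg_symm fe hfe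
  rw [neg_neg] at hfes
  let g' : X'.carrier →ₛₗ[φ] R := fe.symm.toLinearMap.comp g
  have hg'apply : ∀ x, g' x = fe.symm (g x) := fun x => rfl
  have hg'inj : Function.Injective g' := fe.symm.injective.comp hg
  have hg'deg : ∀ j : ℤ, (X'.gr j).map (g' : X'.carrier →+ R) = 𝒜 (a + j * q) := by
    intro j
    ext y
    constructor
    · rintro ⟨x, hx, rfl⟩
      have h3 : g x ∈ X.gr (j * q) := by
        have : g x ∈ (X'.gr j).map (g : X'.carrier →+ X.carrier) := ⟨x, hx, rfl⟩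
        rw [hgdeg j] at this
        exact this
      have h4 := hfes (j * q) (g x) h3
      rw [add_comm]
      exact h4
    · intro hy
      have h3 : fe y ∈ X.gr (a + j * q + -a) := hfe (a + j * q) y hy
      have h4 : a + j * q + -a = j * q := by ring
      rw [h4] at h3
      have h5 : fe y ∈ (X'.gr j).map (g : X'.carrier →+ X.carrier) := by
        rw [hgdeg j]
        exact h3
      obtain ⟨x, hx, hxy⟩ := h5
      refine ⟨x, hx, ?_⟩
      change g' x = y
      rw [hg'apply]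
      have : g x = fe y := hxy
      rw [this, fe.symm_apply_apply]
  have hgen' := hgen X'.carrier X'.gr g' hg'inj hg'deg
  have hlow' : ∀ j, j < j₀ → X'.gr j = ⊥ := by
    intro j hj
    rw [eq_bot_iff]
    intro x hx
    have h3 : g' x ∈ (X'.gr j).map (g' : X'.carrier →+ R) := ⟨x, hx, rfl⟩
    rw [hg'deg j] at h3
    have hneg : a + j * q < 0 := by
      have hq' : (0 : ℤ) < q := by exact_mod_cast hq
      have : j * q ≤ (j₀ - 1) * q := by
        apply mul_le_mul_of_nonneg_right _ hq'.le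
        omega
      omega
    rw [hpos _ hneg, AddSubgroup.mem_bot] at h3
    rw [AddSubgroup.mem_bot]
    exact hg'inj (by rw [h3, map_zero])
  -- Cohen–Macaulayness of `R'_{m'}`
  haveI hCM' : LocCoh.IsCohenMacaulayLocalRing (Localization.AtPrime m'.toIdeal) :=
    Groth.Agent.Lib.Helper11.GrVan.isCohenMacaulayLocalRing_of_H_vanish 𝒜' m' n hht2' I' hlowR'
  have hnA : ringKrullDim (Localization.AtPrime m'.toIdeal) = n := by
    rw [IsLocalization.AtPrime.ringKrullDim_eq_height m'.toIdeal, hht2']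
    rfl
  rw [Groth.Agent.Lib.Helper11.GrLoc.canonical_type' 𝒜' Xh'.gr X'.gr n hnA I' he' hC',
    Groth.Agent.Lib.Helper11.GrRes.finrank_residue_tensor_eq hk' X'.gr hpos' m' hm'sp j₀ hlow' hgen']
  congr 1
  -- comparison of the pieces
  have h0mem : ∀ r : deg0 𝒜', φ (r : R') ∈ 𝒜 0 := by
    intro r
    have := hR.map_mem (show (r : R') ∈ 𝒜' 0 from r.2)
    rwa [map_zero] at this
  let i : deg0 𝒜' → deg0 𝒜 := fun r => ⟨φ (r : R'), h0mem r⟩
  have hi : Function.Bijective i := by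
    constructor
    · intro r s hrs
      have : φ (r : R') = φ (s : R') := congrArg Subtype.val hrs
      exact Subtype.ext (hR.inj this)
    · rintro ⟨s, hs⟩
      have hs' : s ∈ 𝒜 ((AddMonoidHom.mulRight (q : ℤ)) 0) := by rw [map_zero]; exact hs
      rw [← hR.deg 0] at hs'
      obtain ⟨r, hr, rfl⟩ := hs'
      exact ⟨⟨r, hr⟩, rfl⟩
  have hmemg : ∀ x : X'.carrier, x ∈ X'.gr j₀ → g' x ∈ 𝒜 (a + j₀ * q) := by
    intro x hx
    rw [← hg'deg j₀]
    exact ⟨x, hx, rfl⟩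
  let jm : ↥(GrLC.comp 𝒜' X'.gr j₀) →+ ↥(GrLC.comp 𝒜 𝒜 (a + j₀ * q)) :=
    { toFun := fun x => ⟨g' (x : X'.carrier), hmemg _ x.2⟩
      map_zero' := Subtype.ext (map_zero g')
      map_add' := fun x y => Subtype.ext (map_add g' _ _) }
  have hjm : Function.Bijective jm := by
    constructor
    · intro x y hxy
      have : g' (x : X'.carrier) = g' (y : X'.carrier) := congrArg Subtype.val hxy
      exact Subtype.ext (hg'inj this)
    · rintro ⟨y, hy⟩
      have hy' : y ∈ (X'.gr j₀).map (g' : X'.carrier →+ R) := by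
        rw [hg'deg j₀]; exact hy
      obtain ⟨x, hx, hxy⟩ := hy'
      exact ⟨⟨x, hx⟩, Subtype.ext hxy⟩
  have hrank := rank_eq_of_equiv_equiv i (AddEquiv.ofBijective jm hjm) hi (by
    intro r x
    apply Subtype.ext
    change g' ((r : R') • (x : X'.carrier)) = φ (r : R') • g' (x : X'.carrier)
    exact g'.map_smulₛₗ _ _)
  unfold Module.finrank
  rw [hrank]

end Groth.Agent.Lib.Helper11.GrVer
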