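import Mathlib

set_option autoImplicit false
universe u

namespace Groth.Agent.Lib.Helper11.GrStd

variable {R : Type u} [CommRing R]

/-- the additive subgroup generated by the products `p * q` -/
def prodGrp (P Q : AddSubgroup R) : AddSubgroup R :=
  AddSubgroup.closure (Set.image2 (· * ·) (P : Set R) (Q : Set R))

lemma mul_mem_prodGrp {P Q : AddSubgroup R} {p q : R} (hp : p ∈ P) (hq : q ∈ Q) :
    p * q ∈ prodGrp P Q :=
  AddSubgroup.subset_closure ⟨p, hp, q, hq, rfl⟩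

lemma prodGrp_mul_mem {P Q Q' : AddSubgroup R} {z y : R} (hz : z ∈ prodGrp P Q)
    (hy : ∀ v ∈ Q, v * y ∈ Q') : z * y ∈ prodGrp P Q' := by
  unfold prodGrp at hz
  induction hz using AddSubgroup.closure_induction with
  | mem x hx =>
    obtain ⟨u, hu, v, hv, rfl⟩ := hx
    rw [mul_assoc]
    exact mul_mem_prodGrp hu (hy v hv)
  | zero => rw [zero_mul]; exact zero_mem _
  | add a b _ _ ha hb => rw [add_mul]; exact add_mem ha hb
  | neg a _ ha => rw [neg_mul]; exact neg_mem ha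

variable (𝒜 : ℤ → AddSubgroup R) [GradedRing 𝒜]

theorem mem_prodGrp_one
    (hstd : Ideal.span (⋃ n ∈ Set.Ioi (0 : ℤ), (𝒜 n : Set R)) =
      Ideal.span ((𝒜 1 : AddSubgroup R) : Set R))
    (n : ℤ) (hn : 0 ≤ n) {x : R} (hx : x ∈ 𝒜 (n + 1)) : x ∈ prodGrp (𝒜 n) (𝒜 1) := by
  have h1 : x ∈ Ideal.span (⋃ n ∈ Set.Ioi (0 : ℤ), (𝒜 n : Set R)) :=
    Ideal.subset_span (Set.mem_iUnion₂.2 ⟨n + 1, Set.mem_Ioi.2 (by omega), hx⟩)
  rw [hstd] at h1
  obtain ⟨k, f, g, hsum⟩ := Submodule.mem_span_set'.1 h1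
  have h2 : GradedRing.proj 𝒜 (n + 1) x = x := by
    rw [GradedRing.proj_apply, DirectSum.decompose_of_mem_same 𝒜 hx]
  rw [← h2, ← hsum, map_sum]
  refine sum_mem fun i _ => ?_
  rw [smul_eq_mul, GradedRing.proj_apply,
    DirectSum.coe_decompose_mul_add_of_right_mem 𝒜 (g i).2]
  exact mul_mem_prodGrp (DirectSum.decompose 𝒜 (f i) n).2 (g i).2

theorem mem_prodGrp_add
    (hstd : Ideal.span (⋃ n ∈ Set.Ioi (0 : ℤ), (𝒜 n : Set R)) =
      Ideal.span ((𝒜 1 : AddSubgroup R) : Set R)) :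
    ∀ (m : ℕ) (n : ℤ), 0 ≤ n → ∀ x ∈ 𝒜 (n + m), x ∈ prodGrp (𝒜 n) (𝒜 m) := by
  intro m
  induction m with
  | zero =>
    intro n _ x hx
    rw [Nat.cast_zero, add_zero] at hx
    rw [← mul_one x, Nat.cast_zero]
    exact mul_mem_prodGrp hx (SetLike.GradedOne.one_mem)
  | succ m ih =>
    intro n hn x hx
    have hx' : x ∈ 𝒜 (n + m + 1) := by
      have : n + ((m + 1 : ℕ) : ℤ) = n + m + 1 := by push_cast; ring
      rwa [this] at hx
    have h1 := mem_prodGrp_one 𝒜 hstd (n + m) (by omega) hx'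
    unfold prodGrp at h1
    clear hx hx'
    induction h1 using AddSubgroup.closure_induction with
    | mem z hz =>
      obtain ⟨w, hw, y, hy, rfl⟩ := hz
      refine prodGrp_mul_mem (ih n hn w hw) (fun v hv => ?_)
      have : ((m + 1 : ℕ) : ℤ) = m + 1 := by push_cast; ring
      rw [this]
      exact SetLike.GradedMul.mul_mem hv hy
    | zero => exact zero_mem _
    | add a b _ _ ha hb => exact add_mem ha hb
    | neg a _ ha => exact neg_mem ha

end Groth.Agent.Lib.Helper11.GrStd
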