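import Groth.Agent.Lib.Helper11.GrPullD
import Groth.Agent.Lib.Helper11.GrLCRes
import Groth.Agent.S18655

/-!
# The type of the Veronese subrings of a polynomial ring
-/

set_option autoImplicit false
set_option linter.unusedSectionVars false
set_option linter.unusedVariables false
set_option linter.style.haveILetI false
set_option maxHeartbeats 1000000
universe u

attribute [local instance] MvPolynomial.weightedGradedAlgebra

namespace Groth.Agent.Lib.Helper11.GrPull

open DirectSum GrLC Groth.Agent.Lib.Helper11.GrLCLib Groth.Agent.Lib.Helper11.GrField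
  Groth.Agent.Lib.Helper11.Seg Groth.Agent.Lib.Helper11.GrConv Groth.Agent.Lib.Helper11.GrPoly
  MvPolynomial

attribute [local instance] convGradedRing

theorem bassNum_veronese_poly (k : Type u) [Field k] (s d : ℕ) (hs : 1 ≤ s)
    (hd : 1 ≤ d) (R' : Type u) [CommRing R'] (φ : R' →+* MvPolynomial (Fin s) k)
    (hφ : Function.Injective φ)
    (hrange : ∀ p : MvPolynomial (Fin s) k, p ∈ φ.range ↔
      ∀ j : ℕ, ¬ d ∣ j → MvPolynomial.homogeneousComponent j p = 0)
    (m' : Ideal R') [m'.IsMaximal]
    (hm' : m' = Ideal.comap φ (RingHom.ker (MvPolynomial.constantCoeff : MvPolynomial (Fin s) k →+* k)))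
    (n : ℕ) (hsn : s ≤ n) (hdn : d ∣ n) (hmin : ∀ n' : ℕ, s ≤ n' → d ∣ n' → n ≤ n') :
    GrLC.bassNum m' R' s = (Nat.choose (n - 1) (s - 1) : ℕ∞) := by
  classical
  subst hm'
  haveI := isGor k s
  have hr := range_iff k s φ d hrange
  letI : GradedRing (pull (conv (stdW k s)) φ d) := pullGradedRing (conv (stdW k s)) φ d hφ hd hr
  have hposA := hpos_conv (stdW k s) (stdW_neg k s)
  -- the maximal ideal
  have hcomap : Ideal.comap φ (RingHom.ker (MvPolynomial.constantCoeff :
      MvPolynomial (Fin s) k →+* k)) =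
      Ideal.comap φ (irrelevant (conv (stdW k s))).toIdeal := by
    rw [irrelevant_eq_ker]
  let mH : HomogeneousIdeal (pull (conv (stdW k s)) φ d) :=
    ⟨Ideal.comap φ (RingHom.ker (MvPolynomial.constantCoeff : MvPolynomial (Fin s) k →+* k)), by
      rw [hcomap]
      exact comap_isHomogeneous (conv (stdW k s)) φ d hφ hd hr (irrelevant (conv (stdW k s)))⟩
  haveI : mH.toIdeal.IsMaximal := ‹_›
  have hmHsp : mH.toIdeal = Ideal.span (⋃ j ∈ Set.Ioi (0 : ℤ),
      (pull (conv (stdW k s)) φ d j : Set R')) := by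
    change Ideal.comap φ (RingHom.ker (MvPolynomial.constantCoeff :
      MvPolynomial (Fin s) k →+* k)) = _
    rw [hcomap]
    exact comap_eq_irr (conv (stdW k s)) φ d hφ hd hr (irrelevant (conv (stdW k s))) hposA
      (irrelevant_toIdeal _) (zero_of_mem_zero_of_mem_irrelevant k s)
  obtain ⟨I⟩ := nonempty_starInjRes (conv (stdW k s)) (conv (stdW k s))
  -- the remainder
  have hρ : n - s < d := by
    by_contra hlt
    push Not at hlt
    have h1 : s ≤ n - d := by omega
    have h2 : d ∣ n - d := Nat.dvd_sub hdn (dvd_refl d)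
    have := hmin (n - d) h1 h2
    omega
  have key := Groth.Agent.S18655.result (MvPolynomial (Fin s) k) (conv (stdW k s)) hposA
    (isField_deg0_stdW k s hs) (irrelevant (conv (stdW k s))) (isStarLocal_irrelevant_stdW k s)
    (irrelevant_toIdeal _) (hstd_stdW k s) s (krullDim k s) I (-(s : ℤ)) (endDeg_stdW k s I)
    d hd R' (pull (conv (stdW k s)) φ d) φ hφ (map_pull (conv (stdW k s)) φ d hr) mH hmHsp
    ((n - s : ℕ) : ℤ) (Int.natCast_nonneg _) (by exact_mod_cast hρ)
    (by
      have : (-(s : ℤ) - ((n - s : ℕ) : ℤ)) = -(n : ℤ) := by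
        rw [Nat.cast_sub hsn]; ring
      rw [this]
      exact (Int.natCast_dvd_natCast.mpr hdn).neg_right)
  rw [finrank_comp_stdW k s hs (n - s)] at key
  have hch : Nat.choose (s + (n - s) - 1) (n - s) = Nat.choose (n - 1) (s - 1) := by
    have h1 : s + (n - s) - 1 = n - 1 := by omega
    rw [h1]
    have h2 : n - s = (n - 1) - (s - 1) := by omega
    rw [h2, Nat.choose_symm (by omega)]
  rw [hch] at key
  exact key

end Groth.Agent.Lib.Helper11.GrPull
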