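import Groth.Agent.Lib.Helper11.GrFieldA
import Groth.Prelude.Def_GrSeg

/-!
# The `R ⊗[k] S`-module structure on `M ⊗[k] N` and its bigrading

For graded modules `M` over `R` and `N` over `S` (everything over a field `k`), `M ⊗[k] N` is a
`ℤ × ℤ`-graded module over the `ℤ × ℤ`-graded ring `R ⊗[k] S`.
-/

set_option autoImplicit false
set_option linter.unusedSectionVars false
set_option linter.unusedVariables false
set_option linter.style.haveILetI false
universe u

open scoped TensorProduct

namespace Groth.Agent.Lib.Helper11.Seg

open DirectSum GrLC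

section Act

variable {k : Type u} [CommRing k] {R S : Type u} [CommRing R] [CommRing S] [Algebra k R]
  [Algebra k S]
variable {M N : Type u} [AddCommGroup M] [Module R M] [Module k M] [IsScalarTower k R M]
  [AddCommGroup N] [Module S N] [Module k N] [IsScalarTower k S N]

lemma act_one (x : M ⊗[k] N) : GrSeg.act k R S M N 1 x = x := by
  induction x using TensorProduct.induction_on with
  | zero => rw [map_zero]
  | tmul m n =>
    rw [Algebra.TensorProduct.one_def, GrSeg.act_tmul, one_smul, one_smul]
  | add x y hx hy => rw [map_add, hx, hy]

lemma act_mul (a b : R ⊗[k] S) (x : M ⊗[k] N) :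
    GrSeg.act k R S M N (a * b) x = GrSeg.act k R S M N a (GrSeg.act k R S M N b x) := by
  induction a using TensorProduct.induction_on with
  | zero => simp
  | add a a' ha ha' => rw [add_mul, map_add, LinearMap.add_apply, ha, ha', map_add,
      LinearMap.add_apply]
  | tmul r s =>
    induction b using TensorProduct.induction_on with
    | zero => simp
    | add b b' hb hb' => rw [mul_add, map_add, LinearMap.add_apply, hb, hb', map_add,
        LinearMap.add_apply, map_add]
    | tmul r' s' =>
      induction x using TensorProduct.induction_on with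
      | zero => simp
      | add x y hx hy => simp only [map_add, hx, hy]
      | tmul m n =>
        rw [Algebra.TensorProduct.tmul_mul_tmul, GrSeg.act_tmul, GrSeg.act_tmul, GrSeg.act_tmul,
          mul_smul, mul_smul]

/-- The `R ⊗[k] S`-module structure on `M ⊗[k] N`. -/
@[instance_reducible]
noncomputable def segModule : Module (R ⊗[k] S) (M ⊗[k] N) where
  smul a x := GrSeg.act k R S M N a x
  one_smul := act_one
  mul_smul := act_mul
  smul_zero a := map_zero _
  smul_add a x y := map_add _ x y
  add_smul a b x := by
    change GrSeg.act k R S M N (a + b) x = _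
    rw [map_add, LinearMap.add_apply]; rfl
  zero_smul x := by
    change GrSeg.act k R S M N 0 x = 0
    rw [map_zero, LinearMap.zero_apply]

scoped[Groth.Agent.Lib.Helper11.Seg] attribute [instance 50] segModule

lemma smul_def (a : R ⊗[k] S) (x : M ⊗[k] N) : a • x = GrSeg.act k R S M N a x := rfl

lemma tmul_smul_tmul (r : R) (s : S) (m : M) (n : N) :
    (r ⊗ₜ[k] s : R ⊗[k] S) • (m ⊗ₜ[k] n : M ⊗[k] N) = (r • m) ⊗ₜ[k] (s • n) := by
  rw [smul_def, GrSeg.act_tmul]

instance segTower : IsScalarTower k (R ⊗[k] S) (M ⊗[k] N) where
  smul_assoc c a x := by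
    rw [smul_def, smul_def, map_smul, LinearMap.smul_apply]

end Act

end Groth.Agent.Lib.Helper11.Seg
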