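import Groth.Agent.Lib.Helper11.GrSegA

/-!
# The bigrading of `M ⊗[k] N`
-/

set_option autoImplicit false
set_option linter.unusedSectionVars false
set_option linter.unusedVariables false
set_option linter.style.haveILetI false
universe u

open scoped TensorProduct

namespace Groth.Agent.Lib.Helper11.Seg

open DirectSum GrLC

section KGr

variable (k : Type u) [Field k] {M : Type u} [AddCommGroup M] [Module k M]
  {ι : Type} [DecidableEq ι]

/-- The pieces of the grading are `k`-subspaces. -/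
class IsKGr (ℳ : ι → AddSubgroup M) : Prop where
  smul_mem : ∀ (i : ι) (c : k) (x : M), x ∈ ℳ i → c • x ∈ ℳ i

/-- The pieces as `k`-subspaces. -/
def subK (ℳ : ι → AddSubgroup M) [IsKGr k ℳ] (i : ι) : Submodule k M where
  carrier := (ℳ i : Set M)
  add_mem' := fun ha hb => add_mem ha hb
  zero_mem' := zero_mem _
  smul_mem' := fun c x hx => IsKGr.smul_mem i c x hx

lemma mem_subK (ℳ : ι → AddSubgroup M) [IsKGr k ℳ] {i : ι} {x : M} : x ∈ subK k ℳ i ↔ x ∈ ℳ i :=
  Iff.rfl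

variable (ℳ : ι → AddSubgroup M) [DirectSum.Decomposition ℳ] [IsKGr k ℳ]

/-- The `k`-linear projection onto the `i`-th component. -/
noncomputable def projK (i : ι) : M →ₗ[k] M where
  toFun x := (decompose ℳ x i : M)
  map_add' x y := by rw [decompose_add, DirectSum.add_apply, AddSubgroup.coe_add]
  map_smul' c x := by
    classical
    simp only [RingHom.id_apply]
    induction x using DirectSum.Decomposition.inductionOn ℳ with
    | zero => simp
    | @homogeneous j x =>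
      have hcx : c • (x : M) ∈ ℳ j := IsKGr.smul_mem j c _ x.2
      by_cases h : i = j
      · subst h
        rw [decompose_of_mem_same ℳ hcx, decompose_of_mem_same ℳ x.2]
      · rw [decompose_of_mem_ne ℳ hcx (Ne.symm h), decompose_of_mem_ne ℳ x.2 (Ne.symm h),
          smul_zero]
    | add x y hx hy =>
      rw [smul_add, decompose_add, DirectSum.add_apply, AddSubgroup.coe_add, hx, hy,
        decompose_add, DirectSum.add_apply, AddSubgroup.coe_add, smul_add]

lemma projK_apply (i : ι) (x : M) : projK k ℳ i x = (decompose ℳ x i : M) := rfl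

lemma projK_mem (i : ι) (x : M) : projK k ℳ i x ∈ ℳ i := SetLike.coe_mem _

lemma projK_of_mem {i : ι} {x : M} (hx : x ∈ ℳ i) : projK k ℳ i x = x :=
  decompose_of_mem_same ℳ hx

lemma projK_of_mem_ne {i j : ι} {x : M} (hx : x ∈ ℳ i) (h : j ≠ i) : projK k ℳ j x = 0 :=
  decompose_of_mem_ne ℳ hx (Ne.symm h)

open Classical in
lemma sum_projK (x : M) (s : Finset ι) (hs : (decompose ℳ x).support ⊆ s) :
    ∑ i ∈ s, projK k ℳ i x = x := by
  classical
  have h1 := DirectSum.sum_support_decompose ℳ x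
  conv_rhs => rw [← h1]
  symm
  apply Finset.sum_subset hs
  intro i _ hi
  rw [DFinsupp.notMem_support_iff] at hi
  change ((decompose ℳ x) i : M) = 0
  rw [hi, ZeroMemClass.coe_zero]

end KGr

section BiGr

variable {k : Type u} [Field k]
variable {M N : Type u} [AddCommGroup M] [Module k M] [AddCommGroup N] [Module k N]
variable (ℳ : ℤ → AddSubgroup M) (𝒩 : ℤ → AddSubgroup N)

/-- The bigrading of `M ⊗[k] N`. -/
def biSub (p : ℤ × ℤ) : Submodule k (M ⊗[k] N) :=
  Submodule.span k {x | ∃ a ∈ ℳ p.1, ∃ b ∈ 𝒩 p.2, x = a ⊗ₜ[k] b}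

/-- The bigrading of `M ⊗[k] N`, as additive subgroups. -/
def biGr (p : ℤ × ℤ) : AddSubgroup (M ⊗[k] N) := (biSub (k := k) ℳ 𝒩 p).toAddSubgroup

lemma mem_biGr {p : ℤ × ℤ} {x : M ⊗[k] N} : x ∈ biGr (k := k) ℳ 𝒩 p ↔ x ∈ biSub (k := k) ℳ 𝒩 p :=
  Iff.rfl

lemma tmul_mem_biGr {i j : ℤ} {a : M} {b : N} (ha : a ∈ ℳ i) (hb : b ∈ 𝒩 j) :
    a ⊗ₜ[k] b ∈ biGr (k := k) ℳ 𝒩 (i, j) :=
  Submodule.subset_span ⟨a, ha, b, hb, rfl⟩

instance biGr_isKGr : IsKGr k (biGr (k := k) ℳ 𝒩) where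
  smul_mem p c x hx := (biSub (k := k) ℳ 𝒩 p).smul_mem c hx

variable [DirectSum.Decomposition ℳ] [IsKGr k ℳ] [DirectSum.Decomposition 𝒩] [IsKGr k 𝒩]

/-- The projection onto the `(i, j)` component. -/
noncomputable def biProj (p : ℤ × ℤ) : M ⊗[k] N →ₗ[k] M ⊗[k] N :=
  TensorProduct.map (projK k ℳ p.1) (projK k 𝒩 p.2)

lemma biProj_tmul (p : ℤ × ℤ) (a : M) (b : N) :
    biProj ℳ 𝒩 p (a ⊗ₜ[k] b) = projK k ℳ p.1 a ⊗ₜ[k] projK k 𝒩 p.2 b := rfl

lemma biProj_mem (p : ℤ × ℤ) (x : M ⊗[k] N) : biProj ℳ 𝒩 p x ∈ biGr (k := k) ℳ 𝒩 p := by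
  induction x using TensorProduct.induction_on with
  | zero => rw [map_zero]; exact zero_mem _
  | tmul a b => exact tmul_mem_biGr ℳ 𝒩 (projK_mem k ℳ _ a) (projK_mem k 𝒩 _ b)
  | add x y hx hy => rw [map_add]; exact add_mem hx hy

lemma biProj_of_mem {p : ℤ × ℤ} {x : M ⊗[k] N} (hx : x ∈ biGr (k := k) ℳ 𝒩 p) :
    biProj ℳ 𝒩 p x = x := by
  induction hx using Submodule.span_induction with
  | mem x h =>
    obtain ⟨a, ha, b, hb, rfl⟩ := h
    rw [biProj_tmul, projK_of_mem k ℳ ha, projK_of_mem k 𝒩 hb]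
  | zero => rw [map_zero]
  | add x y _ _ hx hy => rw [map_add, hx, hy]
  | smul c x _ hx => rw [map_smul, hx]

lemma biProj_of_mem_ne {p q : ℤ × ℤ} {x : M ⊗[k] N} (hx : x ∈ biGr (k := k) ℳ 𝒩 p) (h : q ≠ p) :
    biProj ℳ 𝒩 q x = 0 := by
  induction hx using Submodule.span_induction with
  | mem x hx' =>
    obtain ⟨a, ha, b, hb, rfl⟩ := hx'
    rw [biProj_tmul]
    by_cases h1 : q.1 = p.1
    · have h2 : q.2 ≠ p.2 := fun h2 => h (Prod.ext h1 h2)
      rw [projK_of_mem_ne k 𝒩 hb h2, TensorProduct.tmul_zero]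
    · rw [projK_of_mem_ne k ℳ ha h1, TensorProduct.zero_tmul]
  | zero => rw [map_zero]
  | add x y _ _ hx hy => rw [map_add, hx, hy, add_zero]
  | smul c x _ hx => rw [map_smul, hx, smul_zero]

lemma exists_sum_biProj (x : M ⊗[k] N) :
    ∃ s : Finset (ℤ × ℤ), ∀ t : Finset (ℤ × ℤ), s ⊆ t → ∑ p ∈ t, biProj ℳ 𝒩 p x = x := by
  classical
  induction x using TensorProduct.induction_on with
  | zero => exact ⟨∅, fun t _ => by simp⟩
  | tmul a b =>
    refine ⟨(decompose ℳ a).support ×ˢ (decompose 𝒩 b).support, fun t ht => ?_⟩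
    have h1 : ∑ p ∈ t, biProj ℳ 𝒩 p (a ⊗ₜ[k] b) =
        ∑ p ∈ (decompose ℳ a).support ×ˢ (decompose 𝒩 b).support,
          biProj ℳ 𝒩 p (a ⊗ₜ[k] b) := by
      symm
      apply Finset.sum_subset ht
      intro p _ hp
      rw [Finset.mem_product, not_and_or] at hp
      rw [biProj_tmul]
      rcases hp with hp | hp
      · rw [DFinsupp.notMem_support_iff] at hp
        rw [projK_apply, hp, ZeroMemClass.coe_zero, TensorProduct.zero_tmul]
      · rw [DFinsupp.notMem_support_iff] at hp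
        rw [projK_apply k 𝒩, hp, ZeroMemClass.coe_zero, TensorProduct.tmul_zero]
    rw [h1, Finset.sum_product]
    simp only [biProj_tmul]
    have h2 : ∀ i ∈ (decompose ℳ a).support, ∑ j ∈ (decompose 𝒩 b).support,
        projK k ℳ i a ⊗ₜ[k] projK k 𝒩 j b = projK k ℳ i a ⊗ₜ[k] b := by
      intro i _
      rw [← TensorProduct.tmul_sum, sum_projK k 𝒩 b _ (Finset.Subset.refl _)]
    rw [Finset.sum_congr rfl h2, ← TensorProduct.sum_tmul,
      sum_projK k ℳ a _ (Finset.Subset.refl _)]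
  | add x y hx hy =>
    obtain ⟨s, hs⟩ := hx
    obtain ⟨s', hs'⟩ := hy
    refine ⟨s ∪ s', fun t ht => ?_⟩
    simp only [map_add]
    rw [Finset.sum_add_distrib, hs t (Finset.union_subset_left ht),
      hs' t (Finset.union_subset_right ht)]

theorem biGr_isInternal : DirectSum.IsInternal (biGr (k := k) ℳ 𝒩) := by
  classical
  refine Groth.Agent.Lib.Helper11.GrField.isInternal_of_proj' (biGr (k := k) ℳ 𝒩)
    (fun p => (biProj ℳ 𝒩 p).toAddMonoidHom) ?_ ?_ ?_ ?_
  · intro p x; exact biProj_mem ℳ 𝒩 p x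
  · intro p x hx; exact biProj_of_mem ℳ 𝒩 hx
  · intro p q x hx hne; exact biProj_of_mem_ne ℳ 𝒩 hx hne
  · intro x
    obtain ⟨s, hs⟩ := exists_sum_biProj ℳ 𝒩 x
    exact ⟨s, hs s (Finset.Subset.refl _)⟩

/-- The decomposition of `M ⊗[k] N`. -/
@[instance_reducible]
noncomputable def biDecomposition : DirectSum.Decomposition (biGr (k := k) ℳ 𝒩) :=
  (biGr_isInternal ℳ 𝒩).chooseDecomposition

scoped[Groth.Agent.Lib.Helper11.Seg] attribute [instance] biDecomposition

lemma decompose_biGr (x : M ⊗[k] N) (p : ℤ × ℤ) :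
    (decompose (biGr (k := k) ℳ 𝒩) x p : M ⊗[k] N) = biProj ℳ 𝒩 p x :=
  Groth.Agent.Lib.Helper11.GrField.decompose_eq_proj' (biGr (k := k) ℳ 𝒩)
    (fun p => (biProj ℳ 𝒩 p).toAddMonoidHom)
    (fun p x hx => biProj_of_mem ℳ 𝒩 hx) (fun p q x hx hne => biProj_of_mem_ne ℳ 𝒩 hx hne) x p

end BiGr

end Groth.Agent.Lib.Helper11.Seg
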