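import Groth.Agent.Lib.Helper11.GrSegB

/-!
# `R ⊗[k] S` as a bigraded ring and `M ⊗[k] N` as a bigraded module
-/

set_option autoImplicit false
set_option linter.unusedSectionVars false
set_option linter.unusedVariables false
set_option linter.style.haveILetI false
universe u

open scoped TensorProduct

namespace Groth.Agent.Lib.Helper11.Seg

open DirectSum GrLC

section Ring

variable {k : Type u} [Field k] {R S : Type u} [CommRing R] [CommRing S] [Algebra k R]
  [Algebra k S]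
variable (𝒜 : ℤ → AddSubgroup R) [GradedRing 𝒜] (ℬ : ℤ → AddSubgroup S) [GradedRing ℬ]

/-- `k` maps into degree zero. -/
class IsKAlgGr (k : Type u) [Field k] {R : Type u} [CommRing R] [Algebra k R]
    (𝒜 : ℤ → AddSubgroup R) : Prop where
  algebraMap_mem : ∀ c : k, algebraMap k R c ∈ 𝒜 0

variable {M : Type u} [AddCommGroup M] [Module R M] [Module k M] [IsScalarTower k R M]
  (ℳ : ℤ → AddSubgroup M) [SetLike.GradedSMul 𝒜 ℳ]

lemma isKGr_of_gradedSMul [IsKAlgGr k 𝒜] : IsKGr k ℳ where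
  smul_mem i c x hx := by
    rw [← algebraMap_smul R c x]
    have := SetLike.GradedSMul.smul_mem (A := 𝒜) (B := ℳ) (IsKAlgGr.algebraMap_mem (𝒜 := 𝒜) c) hx
    rwa [vadd_eq_add, zero_add] at this

instance isKGr_self [IsKAlgGr k 𝒜] : IsKGr k 𝒜 := isKGr_of_gradedSMul 𝒜 𝒜

variable [IsKAlgGr k 𝒜] [IsKAlgGr k ℬ]

lemma biGr_one_mem : (1 : R ⊗[k] S) ∈ biGr (k := k) 𝒜 ℬ 0 := by
  rw [Algebra.TensorProduct.one_def]
  exact tmul_mem_biGr 𝒜 ℬ (SetLike.GradedOne.one_mem (A := 𝒜)) (SetLike.GradedOne.one_mem (A := ℬ))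

lemma biGr_mul_mem {p q : ℤ × ℤ} {x y : R ⊗[k] S} (hx : x ∈ biGr (k := k) 𝒜 ℬ p)
    (hy : y ∈ biGr (k := k) 𝒜 ℬ q) : x * y ∈ biGr (k := k) 𝒜 ℬ (p + q) := by
  induction hx using Submodule.span_induction with
  | mem x h =>
    obtain ⟨a, ha, b, hb, rfl⟩ := h
    induction hy using Submodule.span_induction with
    | mem y h' =>
      obtain ⟨a', ha', b', hb', rfl⟩ := h'
      rw [Algebra.TensorProduct.tmul_mul_tmul]
      exact tmul_mem_biGr 𝒜 ℬ (SetLike.GradedMul.mul_mem (A := 𝒜) ha ha')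
        (SetLike.GradedMul.mul_mem (A := ℬ) hb hb')
    | zero => rw [mul_zero]; exact zero_mem _
    | add y z _ _ hy hz => rw [mul_add]; exact add_mem hy hz
    | smul c y _ hy =>
      rw [mul_smul_comm]
      exact (biSub (k := k) 𝒜 ℬ (p + q)).smul_mem c hy
  | zero => rw [zero_mul]; exact zero_mem _
  | add x z _ _ hx hz => rw [add_mul]; exact add_mem hx hz
  | smul c x _ hx =>
    rw [smul_mul_assoc]
    exact (biSub (k := k) 𝒜 ℬ (p + q)).smul_mem c hx

/-- The bigraded ring `R ⊗[k] S`. -/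
@[instance_reducible]
noncomputable def biGradedRing : GradedRing (biGr (k := k) 𝒜 ℬ) :=
  { one_mem := biGr_one_mem 𝒜 ℬ
    mul_mem := fun _ _ _ _ hx hy => biGr_mul_mem 𝒜 ℬ hx hy
    toDecomposition := biDecomposition 𝒜 ℬ }

scoped[Groth.Agent.Lib.Helper11.Seg] attribute [instance] biGradedRing

end Ring

section Mod

variable {k : Type u} [Field k] {R S : Type u} [CommRing R] [CommRing S] [Algebra k R]
  [Algebra k S]
variable (𝒜 : ℤ → AddSubgroup R) [GradedRing 𝒜] (ℬ : ℤ → AddSubgroup S) [GradedRing ℬ]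
  [IsKAlgGr k 𝒜] [IsKAlgGr k ℬ]
variable {M N : Type u} [AddCommGroup M] [Module R M] [Module k M] [IsScalarTower k R M]
  [AddCommGroup N] [Module S N] [Module k N] [IsScalarTower k S N]
variable (ℳ : ℤ → AddSubgroup M) [SetLike.GradedSMul 𝒜 ℳ]
  (𝒩 : ℤ → AddSubgroup N) [SetLike.GradedSMul ℬ 𝒩]

lemma biGr_smul_mem {p q : ℤ × ℤ} {a : R ⊗[k] S} {x : M ⊗[k] N}
    (ha : a ∈ biGr (k := k) 𝒜 ℬ p) (hx : x ∈ biGr (k := k) ℳ 𝒩 q) :
    a • x ∈ biGr (k := k) ℳ 𝒩 (p + q) := by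
  induction ha using Submodule.span_induction with
  | mem a h =>
    obtain ⟨r, hr, s, hs, rfl⟩ := h
    induction hx using Submodule.span_induction with
    | mem x h' =>
      obtain ⟨m, hm, n, hn, rfl⟩ := h'
      rw [tmul_smul_tmul]
      exact tmul_mem_biGr ℳ 𝒩 (SetLike.GradedSMul.smul_mem (A := 𝒜) (B := ℳ) hr hm)
        (SetLike.GradedSMul.smul_mem (A := ℬ) (B := 𝒩) hs hn)
    | zero => rw [smul_zero]; exact zero_mem _
    | add y z _ _ hy hz => rw [smul_add]; exact add_mem hy hz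
    | smul c y _ hy =>
      rw [smul_comm]
      exact (biSub (k := k) ℳ 𝒩 (p + q)).smul_mem c hy
  | zero => rw [zero_smul]; exact zero_mem _
  | add a b _ _ ha hb => rw [add_smul]; exact add_mem ha hb
  | smul c a _ ha =>
    rw [smul_assoc]
    exact (biSub (k := k) ℳ 𝒩 (p + q)).smul_mem c ha

instance biGradedSMul : SetLike.GradedSMul (biGr (k := k) 𝒜 ℬ) (biGr (k := k) ℳ 𝒩) where
  smul_mem := fun _ _ _ _ ha hx => biGr_smul_mem 𝒜 ℬ ℳ 𝒩 ha hx

end Mod

end Groth.Agent.Lib.Helper11.Seg
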