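import Groth.Agent.Lib.Helper11.GrKunB
import Groth.Agent.Lib.Helper11.GrDiagB

/-!
# The homogeneous pieces of `H^q_{T_+}(M # N)` below the top degree
-/

set_option autoImplicit false
set_option linter.unusedSectionVars false
set_option linter.unusedVariables false
set_option linter.style.haveILetI false
set_option maxHeartbeats 1000000
universe u

open scoped TensorProduct

namespace Groth.Agent.Lib.Helper11.Seg

open DirectSum GrLC Groth.Agent.Lib.Helper11.GrLCLib Groth.Agent.Lib.Helper11.GrVer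
  Groth.Agent.Lib.Helper11.GrMV

section Self

variable {k : Type u} [Field k] {R S T : Type u} [CommRing R] [CommRing S] [CommRing T]
  [Algebra k R] [Algebra k S] [Algebra k T]

lemma act_self (a x : R ⊗[k] S) : GrSeg.act k R S R S a x = a * x := by
  induction a using TensorProduct.induction_on with
  | zero => rw [map_zero, zero_mul]; rfl
  | tmul r s =>
    induction x using TensorProduct.induction_on with
    | zero => rw [map_zero, mul_zero]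
    | tmul r' s' =>
      rw [GrSeg.act_tmul, Algebra.TensorProduct.tmul_mul_tmul, smul_eq_mul, smul_eq_mul]
    | add x y hx hy => rw [map_add, hx, hy, mul_add]
  | add a b ha hb => rw [map_add, LinearMap.add_apply, ha, hb, add_mul]

variable {𝒜 : ℤ → AddSubgroup R} [GradedRing 𝒜] {ℬ : ℤ → AddSubgroup S} [GradedRing ℬ]
  [IsKAlgGr k 𝒜] [IsKAlgGr k ℬ]
variable {𝒯 : ℤ → AddSubgroup T} [GradedRing 𝒯] {ψ : T →ₐ[k] R ⊗[k] S}

/-- the Segre ring is the Segre module `R # S`. -/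
lemma IsSeg.isSegreMod_self (h : IsSeg 𝒜 ℬ 𝒯 ψ) :
    GrSeg.IsSegreMod ψ 𝒜 ℬ 𝒯 ψ.toLinearMap where
  injective := h.inj
  image_piece n := by
    ext x
    constructor
    · rintro ⟨t, ht, rfl⟩
      exact h.map_mem ht
    · intro hx
      obtain ⟨t, ht, rfl⟩ := h.exists_of_mem (n := n) hx
      exact ⟨t, ht, rfl⟩
  map_smul t p := by
    rw [act_self]
    change ψ (t * p) = ψ t * ψ p
    exact map_mul ψ t p

end Self

section Pieces

variable {k : Type u} [Field k] {R S T : Type u} [CommRing R] [CommRing S] [CommRing T]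
  [Algebra k R] [Algebra k S] [Algebra k T]
variable {𝒜 : ℤ → AddSubgroup R} [GradedRing 𝒜] {ℬ : ℤ → AddSubgroup S} [GradedRing ℬ]
  [IsKAlgGr k 𝒜] [IsKAlgGr k ℬ]
variable {𝒯 : ℤ → AddSubgroup T} [GradedRing 𝒯] {ψ : T →ₐ[k] R ⊗[k] S}
variable [IsNoetherianRing R] [IsNoetherianRing S] [IsNoetherianRing (R ⊗[k] S)]
variable {M N P : Type u} [AddCommGroup M] [Module R M] [Module k M] [IsScalarTower k R M]
  [AddCommGroup N] [Module S N] [Module k N] [IsScalarTower k S N]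
  [AddCommGroup P] [Module T P] [Module k P] [IsScalarTower k T P]
variable {ℳ : ℤ → AddSubgroup M} [DirectSum.Decomposition ℳ] [SetLike.GradedSMul 𝒜 ℳ] [IsKGr k ℳ]
  {𝒩 : ℤ → AddSubgroup N} [DirectSum.Decomposition 𝒩] [SetLike.GradedSMul ℬ 𝒩] [IsKGr k 𝒩]
  {𝒬 : ℤ → AddSubgroup P} [DirectSum.Decomposition 𝒬] [SetLike.GradedSMul 𝒯 𝒬]

/-- the pieces of `H^q_{T_+}(M # N)` are the diagonal pieces of `H^q_{mA ∩ nA}(M ⊗ N)`. -/
theorem Hcomp_diag_eq_bot_iff (h : IsSeg 𝒜 ℬ 𝒯 ψ) (m : HomogeneousIdeal 𝒜)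
    (n : HomogeneousIdeal ℬ) (mT : HomogeneousIdeal 𝒯) (hm : m.toIdeal = irrI 𝒜)
    (hn : n.toIdeal = irrI ℬ) (hmT : mT.toIdeal = irrI 𝒯)
    {φ : P →ₗ[k] M ⊗[k] N} (hP : GrSeg.IsSegreMod ψ ℳ 𝒩 𝒬 φ)
    (EX : StarInjRes (biGr (k := k) 𝒜 ℬ) (biGr (k := k) ℳ 𝒩)) (EP : StarInjRes 𝒯 𝒬) (q : ℕ)
    (d : ℤ) :
    EP.Hcomp mT q d = ⊥ ↔
      EX.Hcomp (extL (k := k) 𝒜 ℬ m ⊓ extR (k := k) 𝒜 ℬ n) q (d, d) = ⊥ := by
  obtain ⟨Ψ, hΨi, hΨ, hΨ'⟩ := diag_cmp h m n mT hm hn hmT hP EX EP q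
  constructor
  · intro h0
    rw [eq_bot_iff]
    intro y hy
    obtain ⟨x, hx, rfl⟩ := hΨ' d y hy
    rw [h0, Submodule.mem_bot] at hx
    rw [hx, map_zero]
    exact zero_mem _
  · intro h0
    rw [eq_bot_iff]
    intro x hx
    have h1 := hΨ d x hx
    rw [diagHom_apply, h0, Submodule.mem_bot] at h1
    exact (Submodule.mem_bot _).mpr (hΨi (h1.trans (map_zero Ψ).symm))

/-- **The pieces of `H^q_{T_+}(M # N)` away from the top**, when the local cohomologies of `M`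
and `N` are concentrated in degrees `r` and `s`. -/
theorem Hcomp_segre_eq_bot_iff (h : IsSeg 𝒜 ℬ 𝒯 ψ) (m : HomogeneousIdeal 𝒜)
    (n : HomogeneousIdeal ℬ) (mT : HomogeneousIdeal 𝒯) (hm : m.toIdeal = irrI 𝒜)
    (hn : n.toIdeal = irrI ℬ) (hmT : mT.toIdeal = irrI 𝒯)
    {φ : P →ₗ[k] M ⊗[k] N} (hP : GrSeg.IsSegreMod ψ ℳ 𝒩 𝒬 φ)
    (EM : StarInjRes 𝒜 ℳ) (EN : StarInjRes ℬ 𝒩) (EP : StarInjRes 𝒯 𝒬) (r s : ℕ)
    (hM : ∀ i, i ≠ r → Subsingleton (EM.H m i)) (hN : ∀ j, j ≠ s → Subsingleton (EN.H n j))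
    (q : ℕ) (hq : q ≠ r + s) (hq' : q + 1 ≠ r + s) (d : ℤ) :
    EP.Hcomp mT q d = ⊥ ↔
      (EM.Hcomp m q d = ⊥ ∨ 𝒩 d = ⊥) ∧ (ℳ d = ⊥ ∨ EN.Hcomp n q d = ⊥) := by
  obtain ⟨EX⟩ := nonempty_starInjRes (biGr (k := k) 𝒜 ℬ) (biGr (k := k) ℳ 𝒩)
  letI : Module k (EM.H m r) := Module.compHom _ (algebraMap k R)
  haveI : IsScalarTower k R (EM.H m r) := IsScalarTower.of_algebraMap_smul (fun r x => rfl)
  letI : Module k (EN.H n s) := Module.compHom _ (algebraMap k S)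
  haveI : IsScalarTower k S (EN.H n s) := IsScalarTower.of_algebraMap_smul (fun r x => rfl)
  obtain ⟨hsup, -⟩ := kunneth_sup m n EM EN EX r s hM hN
  rw [Hcomp_diag_eq_bot_iff h m n mT hm hn hmT hP EX EP q d,
    Hcomp_inf_eq_bot_iff EX _ _ q (hsup q hq) (hsup (q + 1) hq') (d, d),
    Hcomp_extL_eq_bot_iff m EM EX q (d, d), Hcomp_extR_eq_bot_iff n EN EX q (d, d)]

end Pieces

end Groth.Agent.Lib.Helper11.Seg
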