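import Groth.Agent.Lib.Helper11.GrDiagB
import Groth.Agent.Lib.Helper11.GrConvB

/-!
# Conversion of the statement-level hypotheses of the Segre rows
-/

set_option autoImplicit false
set_option linter.unusedSectionVars false
set_option linter.unusedVariables false
set_option linter.style.haveILetI false
universe u

open scoped TensorProduct

namespace Groth.Agent.Lib.Helper11.Seg

open DirectSum GrLC Groth.Agent.Lib.Helper11.GrLCLib Groth.Agent.Lib.Helper11.GrConv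

section

variable {k : Type u} [Field k] {R S T : Type u} [CommRing R] [CommRing S] [CommRing T]
  [Algebra k R] [Algebra k S] [Algebra k T]
variable (𝒜 : ℤ → Submodule k R) [GradedAlgebra 𝒜] (ℬ : ℤ → Submodule k S) [GradedAlgebra ℬ]
  (𝒯 : ℤ → Submodule k T) [GradedAlgebra 𝒯]

lemma isKAlgGr_conv : IsKAlgGr k (conv 𝒜) where
  algebraMap_mem c := by
    rw [Algebra.algebraMap_eq_smul_one]
    exact (𝒜 0).smul_mem c (SetLike.GradedOne.one_mem (A := 𝒜))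

lemma noetherian_tensor [Algebra.FiniteType k R] [Algebra.FiniteType k S] :
    IsNoetherianRing (R ⊗[k] S) := by
  have h1 : Algebra.FiniteType R (R ⊗[k] S) := inferInstance
  have : Algebra.FiniteType k (R ⊗[k] S) := Algebra.FiniteType.trans (S := R) inferInstance h1
  exact Algebra.FiniteType.isNoetherianRing k _

variable {𝒜 ℬ 𝒯}

lemma isSeg_conv [GradedRing (conv 𝒜)] [GradedRing (conv ℬ)] [GradedRing (conv 𝒯)]
    [IsKAlgGr k (conv 𝒜)] [IsKAlgGr k (conv ℬ)] {ψ : T →ₐ[k] R ⊗[k] S}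
    (hψ : Function.Injective ψ)
    (hdeg : ∀ n : ℤ, (𝒯 n).map ψ.toLinearMap =
      Submodule.span k {x : R ⊗[k] S | ∃ a ∈ 𝒜 n, ∃ b ∈ ℬ n, x = a ⊗ₜ[k] b}) :
    IsSeg (conv 𝒜) (conv ℬ) (conv 𝒯) ψ := by
  refine ⟨hψ, fun n => ?_⟩
  ext x
  have h1 : x ∈ (𝒯 n).map ψ.toLinearMap ↔
      x ∈ Submodule.span k {x : R ⊗[k] S | ∃ a ∈ 𝒜 n, ∃ b ∈ ℬ n, x = a ⊗ₜ[k] b} := by
    rw [hdeg n]
  constructor
  · rintro ⟨t, ht, rfl⟩
    exact h1.mp ⟨t, ht, rfl⟩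
  · intro hx
    obtain ⟨t, ht, rfl⟩ := h1.mpr hx
    exact ⟨t, ht, rfl⟩

lemma isSeg_conv' [GradedRing (conv 𝒜)] [GradedRing (conv ℬ)] [GradedRing (conv 𝒯)]
    [IsKAlgGr k (conv 𝒜)] [IsKAlgGr k (conv ℬ)] {ψ : T →ₐ[k] R ⊗[k] S}
    (hT : GrSeg.IsSegreRing 𝒜 ℬ 𝒯 ψ) : IsSeg (conv 𝒜) (conv ℬ) (conv 𝒯) ψ :=
  isSeg_conv hT.1 hT.2

end

end Groth.Agent.Lib.Helper11.Seg
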