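import Groth.Agent.Lib.Helper11.GrSegC
import Mathlib.RingTheory.Flat.Basic
import Mathlib.LinearAlgebra.TensorProduct.RightExactness

/-!
# Functoriality of `M ⊗[k] N` in `M` and `N`
-/

set_option autoImplicit false
set_option linter.unusedSectionVars false
set_option linter.unusedVariables false
set_option linter.style.haveILetI false
universe u

open scoped TensorProduct

namespace Groth.Agent.Lib.Helper11.Seg

open DirectSum GrLC

section Map

variable {k : Type u} [Field k] {R S : Type u} [CommRing R] [CommRing S] [Algebra k R]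
  [Algebra k S]
variable {M M' M'' N N' : Type u} [AddCommGroup M] [Module R M] [Module k M] [IsScalarTower k R M]
  [AddCommGroup M'] [Module R M'] [Module k M'] [IsScalarTower k R M']
  [AddCommGroup M''] [Module R M''] [Module k M''] [IsScalarTower k R M'']
  [AddCommGroup N] [Module S N] [Module k N] [IsScalarTower k S N]
  [AddCommGroup N'] [Module S N'] [Module k N'] [IsScalarTower k S N']

/-- `f ⊗ g` as an `R ⊗[k] S`-linear map. -/
noncomputable def mapA (f : M →ₗ[R] M') (g : N →ₗ[S] N') :
    M ⊗[k] N →ₗ[R ⊗[k] S] M' ⊗[k] N' where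
  toFun := TensorProduct.map (f.restrictScalars k) (g.restrictScalars k)
  map_add' := map_add _
  map_smul' a x := by
    simp only [RingHom.id_apply]
    induction a using TensorProduct.induction_on with
    | zero => rw [zero_smul, map_zero, zero_smul]
    | add a b ha hb => rw [add_smul, map_add, ha, hb, add_smul]
    | tmul r s =>
      induction x using TensorProduct.induction_on with
      | zero => rw [smul_zero, map_zero, smul_zero]
      | add x y hx hy => rw [smul_add, map_add, hx, hy, map_add, smul_add]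
      | tmul m n =>
        rw [tmul_smul_tmul, TensorProduct.map_tmul, TensorProduct.map_tmul, tmul_smul_tmul]
        simp

lemma mapA_tmul (f : M →ₗ[R] M') (g : N →ₗ[S] N') (m : M) (n : N) :
    mapA (k := k) f g (m ⊗ₜ[k] n) = f m ⊗ₜ[k] g n := rfl

lemma mapA_apply (f : M →ₗ[R] M') (g : N →ₗ[S] N') (x : M ⊗[k] N) :
    mapA (k := k) f g x = TensorProduct.map (f.restrictScalars k) (g.restrictScalars k) x := rfl

/-- `f ⊗ id`. -/
noncomputable abbrev mapL (N : Type u) [AddCommGroup N] [Module S N] [Module k N]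
    [IsScalarTower k S N] (f : M →ₗ[R] M') : M ⊗[k] N →ₗ[R ⊗[k] S] M' ⊗[k] N :=
  mapA (k := k) f (LinearMap.id : N →ₗ[S] N)

lemma mapL_apply (f : M →ₗ[R] M') (x : M ⊗[k] N) :
    mapL (k := k) (S := S) N f x = LinearMap.rTensor N (f.restrictScalars k) x := rfl

lemma mapL_injective {f : M →ₗ[R] M'} (hf : Function.Injective f) :
    Function.Injective (mapL (k := k) (S := S) N f) := by
  intro x y hxy
  rw [mapL_apply, mapL_apply] at hxy
  exact Module.Flat.rTensor_preserves_injective_linearMap (f.restrictScalars k) hf hxy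

lemma mapL_surjective {f : M →ₗ[R] M'} (hf : Function.Surjective f) :
    Function.Surjective (mapL (k := k) (S := S) N f) := by
  intro y
  obtain ⟨x, hx⟩ := LinearMap.rTensor_surjective N (g := f.restrictScalars k) hf y
  exact ⟨x, hx⟩

lemma mapL_exact {f : M →ₗ[R] M'} {g : M' →ₗ[R] M''}
    (hfg : LinearMap.ker g = LinearMap.range f) (hg : Function.Surjective g) :
    LinearMap.ker (mapL (k := k) (S := S) N g) = LinearMap.range (mapL (k := k) (S := S) N f) := by
  have hex : Function.Exact (f.restrictScalars k) (g.restrictScalars k) := by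
    intro y
    constructor
    · intro hy
      have : y ∈ LinearMap.ker g := hy
      rw [hfg] at this
      exact this
    · intro hy
      have : y ∈ LinearMap.range f := hy
      rw [← hfg] at this
      exact this
  have h := rTensor_exact N hex (g := g.restrictScalars k) hg
  ext y
  constructor
  · intro hy
    have hy' : LinearMap.rTensor N (g.restrictScalars k) y = 0 := hy
    obtain ⟨x, hx⟩ := (h y).mp hy'
    exact ⟨x, hx⟩
  · rintro ⟨x, rfl⟩
    have : LinearMap.rTensor N (g.restrictScalars k) (LinearMap.rTensor N (f.restrictScalars k) x)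
        = 0 := (h _).mpr ⟨x, rfl⟩
    exact this

section Graded

variable {ℳ : ℤ → AddSubgroup M} {ℳ' : ℤ → AddSubgroup M'} {𝒩 : ℤ → AddSubgroup N}
  {𝒩' : ℤ → AddSubgroup N'}

lemma mapA_isGrHom {f : M →ₗ[R] M'} {g : N →ₗ[S] N'} (hf : IsGrHom ℳ ℳ' f)
    (hg : IsGrHom 𝒩 𝒩' g) :
    IsGrHom (biGr (k := k) ℳ 𝒩) (biGr (k := k) ℳ' 𝒩') (mapA (k := k) f g) := by
  intro p x hx
  induction hx using Submodule.span_induction with
  | mem x h =>
    obtain ⟨a, ha, b, hb, rfl⟩ := h
    rw [mapA_tmul]
    exact tmul_mem_biGr ℳ' 𝒩' (hf _ _ ha) (hg _ _ hb)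
  | zero => rw [map_zero]; exact zero_mem _
  | add x y _ _ hx hy => rw [map_add]; exact add_mem hx hy
  | smul c x _ hx =>
    have : mapA (k := k) f g (c • x) = c • mapA (k := k) f g x := by
      rw [mapA_apply, map_smul]; rfl
    rw [this]
    exact (biSub (k := k) ℳ' 𝒩' p).smul_mem c hx

lemma mapL_isGrHom {f : M →ₗ[R] M'} (hf : IsGrHom ℳ ℳ' f) :
    IsGrHom (biGr (k := k) ℳ 𝒩) (biGr (k := k) ℳ' 𝒩) (mapL (k := k) (S := S) N f) :=
  mapA_isGrHom hf (fun _ _ h => h)

end Graded

end Map

end Groth.Agent.Lib.Helper11.Seg
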