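import Groth.Agent.Lib.Helper11.GrSegD
import Mathlib.LinearAlgebra.DirectSum.Finsupp
import Mathlib.LinearAlgebra.Basis.VectorSpace

/-!
# Torsion in `M ⊗[k] N`: `Γ_{mA}(M ⊗ N) = Γ_m(M) ⊗ N`
-/

set_option autoImplicit false
set_option linter.unusedSectionVars false
set_option linter.unusedVariables false
set_option linter.style.haveILetI false
universe u

open scoped TensorProduct

namespace Groth.Agent.Lib.Helper11.Seg

open DirectSum GrLC

section Coord

variable {k : Type u} [Field k] {R S : Type u} [CommRing R] [CommRing S] [Algebra k R]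
  [Algebra k S]
variable {M N : Type u} [AddCommGroup M] [Module R M] [Module k M] [IsScalarTower k R M]
  [AddCommGroup N] [Module S N] [Module k N] [IsScalarTower k S N]

lemma includeLeft_smul (r : R) (x : M ⊗[k] N) :
    (r ⊗ₜ[k] (1 : S) : R ⊗[k] S) • x = r • x := by
  induction x using TensorProduct.induction_on with
  | zero => rw [smul_zero, smul_zero]
  | tmul m n => rw [tmul_smul_tmul, one_smul, TensorProduct.smul_tmul']
  | add x y hx hy => rw [smul_add, hx, hy, smul_add]

open Classical in
/-- Coordinates of `M ⊗[k] N` with respect to a basis of `N`. -/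
noncomputable def coord {ι : Type u} (b : Module.Basis ι k N) : M ⊗[k] N ≃ₗ[R] (ι →₀ M) :=
  (TensorProduct.AlgebraTensorModule.congr (LinearEquiv.refl R M) b.repr) ≪≫ₗ
    TensorProduct.finsuppScalarRight k R M ι

lemma coord_tmul {ι : Type u} (b : Module.Basis ι k N) (m : M) (n : N) (i : ι) :
    coord (R := R) b (m ⊗ₜ[k] n) i = b.repr n i • m := by
  classical
  simp [coord]

lemma coord_symm_single {ι : Type u} (b : Module.Basis ι k N) (m : M) (i : ι) :
    (coord (R := R) b).symm (Finsupp.single i m) = m ⊗ₜ[k] b i := by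
  rw [LinearEquiv.symm_apply_eq]
  ext j
  rw [coord_tmul, Module.Basis.repr_self]
  by_cases h : i = j
  · subst h; simp
  · simp [Finsupp.single_eq_of_ne' h, Finsupp.single_eq_of_ne h]

/-- An element of `M ⊗ N` all of whose coordinates lie in a submodule `M₀ ⊆ M` lies in the image
of `M₀ ⊗ N`. -/
lemma mem_range_of_coord_mem {ι : Type u} (b : Module.Basis ι k N) (M₀ : Submodule R M)
    (x : M ⊗[k] N) (h : ∀ i, coord (R := R) b x i ∈ M₀) :
    x ∈ LinearMap.range (mapL (k := k) (S := S) N M₀.subtype) := by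
  have hx : x = (coord (R := R) b).symm (coord (R := R) b x) := (LinearEquiv.symm_apply_apply _ _).symm
  rw [hx, ← Finsupp.sum_single (coord (R := R) b x), Finsupp.sum, map_sum]
  refine Submodule.sum_mem _ fun i _ => ?_
  rw [coord_symm_single]
  exact ⟨(⟨coord (R := R) b x i, h i⟩ : M₀) ⊗ₜ[k] b i, rfl⟩

end Coord

section Gam

variable {k : Type u} [Field k] {R S : Type u} [CommRing R] [CommRing S] [Algebra k R]
  [Algebra k S]
variable {M N : Type u} [AddCommGroup M] [Module R M] [Module k M] [IsScalarTower k R M]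
  [AddCommGroup N] [Module S N] [Module k N] [IsScalarTower k S N]

/-- the extension of an ideal of `R` to `R ⊗[k] S`. -/
noncomputable def extIdeal (m : Ideal R) : Ideal (R ⊗[k] S) :=
  m.map (Algebra.TensorProduct.includeLeft : R →ₐ[k] R ⊗[k] S).toRingHom

lemma extIdeal_pow (m : Ideal R) (t : ℕ) :
    (extIdeal (k := k) (S := S) m) ^ t = extIdeal (k := k) (S := S) (m ^ t) :=
  (Ideal.map_pow _ m t).symm

lemma tmul_one_mem_extIdeal {m : Ideal R} {r : R} (hr : r ∈ m) :
    (r ⊗ₜ[k] (1 : S) : R ⊗[k] S) ∈ extIdeal (k := k) (S := S) m :=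
  Ideal.mem_map_of_mem _ hr

/-- if `m` kills `y`, then `mA` kills `y ⊗ n`. -/
lemma extIdeal_smul_eq_zero {m : Ideal R} {x : M ⊗[k] N}
    (h : ∀ r ∈ m, r • x = 0) : ∀ a ∈ extIdeal (k := k) (S := S) m, a • x = 0 := by
  intro a ha
  refine Submodule.span_induction (p := fun a _ => a • x = 0) ?_ ?_ ?_ ?_ ha
  · rintro _ ⟨r, hr, rfl⟩
    change (r ⊗ₜ[k] (1 : S) : R ⊗[k] S) • x = 0
    rw [includeLeft_smul]
    exact h r hr
  · rw [zero_smul]
  · intro a b _ _ ha hb; rw [add_smul, ha, hb, add_zero]
  · intro c a _ ha; rw [smul_eq_mul, mul_smul, ha, smul_zero]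

theorem gam_extIdeal (m : Ideal R) :
    gam (extIdeal (k := k) (S := S) m) (M ⊗[k] N) =
      LinearMap.range (mapL (k := k) (S := S) N (gam m M).subtype) := by
  apply le_antisymm
  · rintro x ⟨t, ht⟩
    let b := Module.Free.chooseBasis k N
    refine mem_range_of_coord_mem b (gam m M) x fun i => ⟨t, fun r hr => ?_⟩
    have h1 : (r ⊗ₜ[k] (1 : S) : R ⊗[k] S) • x = 0 := by
      apply ht
      rw [extIdeal_pow]
      exact tmul_one_mem_extIdeal hr
    rw [includeLeft_smul] at h1
    have h2 := congrArg (fun y => coord (R := R) b y i) h1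
    simp only [map_smul, map_zero, Finsupp.smul_apply, Finsupp.zero_apply] at h2
    exact h2
  · rintro _ ⟨x, rfl⟩
    induction x using TensorProduct.induction_on with
    | zero => rw [map_zero]; exact zero_mem _
    | tmul y n =>
      obtain ⟨t, ht⟩ := y.2
      refine ⟨t, ?_⟩
      rw [extIdeal_pow]
      apply extIdeal_smul_eq_zero
      intro r hr
      rw [mapA_tmul, TensorProduct.smul_tmul', Submodule.subtype_apply, ht r hr,
        TensorProduct.zero_tmul]
    | add x y hx hy => rw [map_add]; exact add_mem hx hy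

end Gam

end Groth.Agent.Lib.Helper11.Seg
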