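import Groth.Agent.Lib.Helper11.GrSegE

/-!
# The left grading of `E ⊗[k] V` as a graded `R`-module
-/

set_option autoImplicit false
set_option linter.unusedSectionVars false
set_option linter.unusedVariables false
set_option linter.style.haveILetI false
universe u

open scoped TensorProduct

namespace Groth.Agent.Lib.Helper11.Seg

open DirectSum GrLC

section LeftGr

variable {k : Type u} [Field k]
variable {M V : Type u} [AddCommGroup M] [Module k M] [AddCommGroup V] [Module k V]
variable (ℳ : ℤ → AddSubgroup M)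

/-- The left grading of `M ⊗[k] V`: degree `d` is `M_d ⊗ V`. -/
def leftSub (V : Type u) [AddCommGroup V] [Module k V] (d : ℤ) : Submodule k (M ⊗[k] V) :=
  Submodule.span k {x | ∃ a ∈ ℳ d, ∃ b : V, x = a ⊗ₜ[k] b}

/-- The left grading, as additive subgroups. -/
def leftGr (V : Type u) [AddCommGroup V] [Module k V] (d : ℤ) : AddSubgroup (M ⊗[k] V) :=
  (leftSub (k := k) ℳ V d).toAddSubgroup

lemma tmul_mem_leftGr {d : ℤ} {a : M} (ha : a ∈ ℳ d) (b : V) :
    a ⊗ₜ[k] b ∈ leftGr (k := k) ℳ V d :=
  Submodule.subset_span ⟨a, ha, b, rfl⟩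

variable [DirectSum.Decomposition ℳ] [IsKGr k ℳ]

/-- The projection onto the degree `d` component. -/
noncomputable def leftProj (d : ℤ) : M ⊗[k] V →ₗ[k] M ⊗[k] V :=
  LinearMap.rTensor V (projK k ℳ d)

lemma leftProj_tmul (d : ℤ) (a : M) (b : V) :
    leftProj ℳ d (a ⊗ₜ[k] b) = projK k ℳ d a ⊗ₜ[k] b := rfl

lemma leftProj_mem (d : ℤ) (x : M ⊗[k] V) : leftProj ℳ d x ∈ leftGr (k := k) ℳ V d := by
  induction x using TensorProduct.induction_on with
  | zero => rw [map_zero]; exact zero_mem _
  | tmul a b => exact tmul_mem_leftGr ℳ (projK_mem k ℳ _ a) b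
  | add x y hx hy => rw [map_add]; exact add_mem hx hy

lemma leftProj_of_mem {d : ℤ} {x : M ⊗[k] V} (hx : x ∈ leftGr (k := k) ℳ V d) :
    leftProj ℳ d x = x := by
  induction hx using Submodule.span_induction with
  | mem x h =>
    obtain ⟨a, ha, b, rfl⟩ := h
    rw [leftProj_tmul, projK_of_mem k ℳ ha]
  | zero => rw [map_zero]
  | add x y _ _ hx hy => rw [map_add, hx, hy]
  | smul c x _ hx => rw [map_smul, hx]

lemma leftProj_of_mem_ne {d e : ℤ} {x : M ⊗[k] V} (hx : x ∈ leftGr (k := k) ℳ V d)
    (h : e ≠ d) : leftProj ℳ e x = 0 := by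
  induction hx using Submodule.span_induction with
  | mem x hx' =>
    obtain ⟨a, ha, b, rfl⟩ := hx'
    rw [leftProj_tmul, projK_of_mem_ne k ℳ ha h, TensorProduct.zero_tmul]
  | zero => rw [map_zero]
  | add x y _ _ hx hy => rw [map_add, hx, hy, add_zero]
  | smul c x _ hx => rw [map_smul, hx, smul_zero]

lemma exists_sum_leftProj (x : M ⊗[k] V) :
    ∃ s : Finset ℤ, ∀ t : Finset ℤ, s ⊆ t → ∑ p ∈ t, leftProj ℳ p x = x := by
  classical
  induction x using TensorProduct.induction_on with
  | zero => exact ⟨∅, fun t _ => by simp⟩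
  | tmul a b =>
    refine ⟨(decompose ℳ a).support, fun t ht => ?_⟩
    simp only [leftProj_tmul]
    rw [← TensorProduct.sum_tmul, sum_projK k ℳ a t ht]
  | add x y hx hy =>
    obtain ⟨s, hs⟩ := hx
    obtain ⟨s', hs'⟩ := hy
    refine ⟨s ∪ s', fun t ht => ?_⟩
    simp only [map_add]
    rw [Finset.sum_add_distrib, hs t (Finset.union_subset_left ht),
      hs' t (Finset.union_subset_right ht)]

theorem leftGr_isInternal : DirectSum.IsInternal (leftGr (k := k) ℳ V) := by
  classical
  refine Groth.Agent.Lib.Helper11.GrField.isInternal_of_proj' (leftGr (k := k) ℳ V)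
    (fun p => (leftProj ℳ p).toAddMonoidHom) ?_ ?_ ?_ ?_
  · intro p x; exact leftProj_mem ℳ p x
  · intro p x hx; exact leftProj_of_mem ℳ hx
  · intro p q x hx hne; exact leftProj_of_mem_ne ℳ hx hne
  · intro x
    obtain ⟨s, hs⟩ := exists_sum_leftProj ℳ x
    exact ⟨s, hs s (Finset.Subset.refl _)⟩

/-- The decomposition of `M ⊗[k] V` for the left grading. -/
@[instance_reducible]
noncomputable def leftDecomposition : DirectSum.Decomposition (leftGr (k := k) ℳ V) :=
  (leftGr_isInternal ℳ).chooseDecomposition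

end LeftGr

section LeftMod

variable {k : Type u} [Field k] {R : Type u} [CommRing R] [Algebra k R]
variable (𝒜 : ℤ → AddSubgroup R) [GradedRing 𝒜]
variable {M V : Type u} [AddCommGroup M] [Module R M] [Module k M] [IsScalarTower k R M]
  [AddCommGroup V] [Module k V]
variable (ℳ : ℤ → AddSubgroup M) [SetLike.GradedSMul 𝒜 ℳ]

instance leftGradedSMul : SetLike.GradedSMul 𝒜 (leftGr (k := k) ℳ V) where
  smul_mem := by
    intro i j r x hr hx
    induction hx using Submodule.span_induction with
    | mem x h =>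
      obtain ⟨a, ha, b, rfl⟩ := h
      rw [TensorProduct.smul_tmul']
      exact tmul_mem_leftGr ℳ (SetLike.GradedSMul.smul_mem (A := 𝒜) (B := ℳ) hr ha) b
    | zero => rw [smul_zero]; exact zero_mem _
    | add y z _ _ hy hz => rw [smul_add]; exact add_mem hy hz
    | smul c y _ hy =>
      rw [smul_comm]
      exact (leftSub (k := k) ℳ V (i +ᵥ j)).smul_mem c hy

end LeftMod

end Groth.Agent.Lib.Helper11.Seg
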