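import Groth.Agent.Lib.Helper11.GrSegF
import Groth.Agent.Lib.Helper11.GrLCCmp
import Groth.Agent.Lib.Helper11.GrShiftA

/-!
# `E ⊗[k] V` is *injective for *injective `E` (graded Bass–Papp, via coordinates)
-/

set_option autoImplicit false
set_option linter.unusedSectionVars false
set_option linter.unusedVariables false
set_option linter.style.haveILetI false
universe u

open scoped TensorProduct

namespace Groth.Agent.Lib.Helper11.Seg

open DirectSum GrLC Groth.Agent.Lib.Helper11.GrLCLib

section Aux

variable {ι : Type} [DecidableEq ι] [AddCommGroup ι]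
variable {R : Type u} [CommRing R]
variable {M : Type u} [AddCommGroup M] [Module R M] (ℳ : ι → AddSubgroup M)
  [DirectSum.Decomposition ℳ]
variable {N : Type u} [AddCommGroup N] [Module R N] (𝒩 : ι → AddSubgroup N)
  [DirectSum.Decomposition 𝒩]

lemma comap_isHomogeneous_deg {f : M →ₗ[R] N} {d : ι} (hf : IsGrHomDeg ℳ 𝒩 f d)
    {P : Submodule R N} (hP : P.IsHomogeneous 𝒩) : (P.comap f).IsHomogeneous ℳ := by
  intro g x hx
  rw [Submodule.mem_comap] at hx ⊢
  rw [← decompose_map_deg ℳ 𝒩 hf]
  exact hP _ hx

end Aux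

section Main

variable {k : Type u} [Field k] {R : Type u} [CommRing R] [Algebra k R]
variable (𝒜 : ℤ → AddSubgroup R) [GradedRing 𝒜]
variable {E V : Type u} [AddCommGroup E] [Module R E] [Module k E] [IsScalarTower k R E]
  [AddCommGroup V] [Module k V]
variable (ℰ : ℤ → AddSubgroup E) [DirectSum.Decomposition ℰ] [SetLike.GradedSMul 𝒜 ℰ] [IsKGr k ℰ]

/-- Coordinates with respect to a basis of `V` (no second ring involved). -/
noncomputable def coordV {ι : Type u} (b : Module.Basis ι k V) : E ⊗[k] V ≃ₗ[R] (ι →₀ E) := by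
  classical
  exact (TensorProduct.AlgebraTensorModule.congr (LinearEquiv.refl R E) b.repr) ≪≫ₗ
    TensorProduct.finsuppScalarRight k R E ι

lemma coordV_tmul {ι : Type u} (b : Module.Basis ι k V) (m : E) (n : V) (i : ι) :
    coordV (R := R) b (m ⊗ₜ[k] n) i = b.repr n i • m := by
  classical
  simp [coordV]

lemma coordV_symm_single {ι : Type u} (b : Module.Basis ι k V) (m : E) (i : ι) :
    (coordV (R := R) b).symm (Finsupp.single i m) = m ⊗ₜ[k] b i := by
  classical
  rw [LinearEquiv.symm_apply_eq]
  ext j
  rw [coordV_tmul, Module.Basis.repr_self]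
  by_cases h : i = j
  · subst h; simp
  · simp [Finsupp.single_eq_of_ne' h, Finsupp.single_eq_of_ne h]

lemma coordV_mem {ι : Type u} (b : Module.Basis ι k V) {d : ℤ} {x : E ⊗[k] V}
    (hx : x ∈ leftGr (k := k) ℰ V d) (i : ι) : coordV (R := R) b x i ∈ ℰ d := by
  induction hx using Submodule.span_induction with
  | mem x h =>
    obtain ⟨a, ha, v, rfl⟩ := h
    rw [coordV_tmul]
    exact IsKGr.smul_mem d _ a ha
  | zero => rw [map_zero]; exact zero_mem _
  | add x y _ _ hx hy => rw [map_add, Finsupp.add_apply]; exact add_mem hx hy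
  | smul c x _ hx =>
    have : coordV (R := R) b (c • x) = c • coordV (R := R) b x := by
      rw [← algebraMap_smul R c x, map_smul, algebraMap_smul]
    rw [this, Finsupp.smul_apply]
    exact IsKGr.smul_mem d _ _ hx

theorem isStarInj_leftGr [IsNoetherianRing R] (hE : IsStarInj 𝒜 ℰ) :
    letI := leftDecomposition (k := k) (V := V) ℰ
    IsStarInj 𝒜 (leftGr (k := k) ℰ V) := by
  classical
  letI := leftDecomposition (k := k) (V := V) ℰ
  apply isStarInj_of_forall_isStarEss_surjective
  intro Q f hf
  let b := Module.Free.chooseBasis k V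
  have hP : (LinearMap.range f).IsHomogeneous Q.gr :=
    range_isHomogeneous (leftGr (k := k) ℰ V) Q.gr hf.grHom
  -- homogeneous elements are in the range
  have key : ∀ (g : ℤ) (q : Q.carrier), q ∈ Q.gr g → q ∈ LinearMap.range f := by
    intro g q hq
    have hdeg := isGrHomDeg_toSpanSingleton Q.gr 𝒜 hq
    set 𝔮 : Submodule R R := (LinearMap.range f).comap (LinearMap.toSpanSingleton R Q.carrier q)
      with h𝔮
    have h𝔮hom : 𝔮.IsHomogeneous 𝒜 := comap_isHomogeneous_deg 𝒜 Q.gr hdeg hP
    letI := subDecomposition 𝒜 𝔮 h𝔮hom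
    let f' : (E ⊗[k] V) ≃ₗ[R] LinearMap.range f := LinearEquiv.ofInjective f hf.injective
    let θ : 𝔮 →ₗ[R] E ⊗[k] V := f'.symm.toLinearMap ∘ₗ
      LinearMap.codRestrict (LinearMap.range f)
        ((LinearMap.toSpanSingleton R Q.carrier q) ∘ₗ 𝔮.subtype) (fun r => r.2)
    have hθ : ∀ r : 𝔮, f (θ r) = (r : R) • q := by
      intro r
      have : (f' (θ r) : Q.carrier) = (r : R) • q := by
        simp only [θ, LinearMap.comp_apply, LinearEquiv.coe_coe, LinearEquiv.apply_symm_apply]
        rfl
      exact this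
    have hθdeg : IsGrHomDeg (subGr 𝒜 𝔮) (leftGr (k := k) ℰ V) θ g := by
      intro j r hr
      apply Groth.Agent.Lib.Helper11.GrShift.mem_of_map_mem hf.grHom hf.injective
      rw [hθ r]
      exact hdeg j _ hr
    -- a finite set of coordinates
    obtain ⟨gens, hgens⟩ := (IsNoetherian.noetherian 𝔮 : 𝔮.FG)
    have hfg : (⊤ : Submodule R 𝔮).FG := Module.Finite.fg_top
    obtain ⟨T, hT⟩ := hfg
    let F : Finset (Module.Free.ChooseBasisIndex k V) :=
      T.biUnion (fun r => (coordV (R := R) b (θ r)).support)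
    have hF : ∀ r : 𝔮, ∀ i, i ∉ F → coordV (R := R) b (θ r) i = 0 := by
      intro r
      have hr : r ∈ Submodule.span R (T : Set 𝔮) := by rw [hT]; trivial
      induction hr using Submodule.span_induction with
      | mem r h =>
        intro i hi
        by_contra hne
        apply hi
        rw [Finset.mem_biUnion]
        exact ⟨r, h, Finsupp.mem_support_iff.mpr hne⟩
      | zero => intro i _; simp
      | add x y _ _ hx hy =>
        intro i hi
        rw [map_add, map_add, Finsupp.add_apply, hx i hi, hy i hi, add_zero]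
      | smul c x _ hx =>
        intro i hi
        rw [map_smul, map_smul, Finsupp.smul_apply, hx i hi, smul_zero]
    -- extend each coordinate
    have hext : ∀ i : Module.Free.ChooseBasisIndex k V, ∃ e : E, e ∈ ℰ g ∧
        ∀ r : 𝔮, (r : R) • e = coordV (R := R) b (θ r) i := by
      intro i
      let θi : 𝔮 →ₗ[R] E := (Finsupp.lapply i : (_ →₀ E) →ₗ[R] E) ∘ₗ
        (coordV (R := R) b).toLinearMap ∘ₗ θ
      have hθi : IsGrHomDeg (subGr 𝒜 𝔮) ℰ θi g := by
        intro j r hr
        exact coordV_mem ℰ b (hθdeg j r hr) i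
      obtain ⟨w, hw, hwθ⟩ := exists_extension_deg 𝒜 (subGr 𝒜 𝔮) 𝒜 ℰ hE 𝔮.subtype
        (subtype_isGrHom 𝒜 𝔮) g θi hθi (by
          rw [Submodule.ker_subtype]; exact bot_le)
      refine ⟨w 1, ?_, fun r => ?_⟩
      · have := hw 0 1 (SetLike.GradedOne.one_mem (A := 𝒜))
        rwa [zero_add] at this
      · have h1 : w (r : R) = θi r := LinearMap.congr_fun hwθ r
        rw [← map_smul, smul_eq_mul, mul_one, h1]
        rfl
    choose e he heθ using hext
    let y : E ⊗[k] V := (coordV (R := R) b).symm (∑ i ∈ F, Finsupp.single i (e i))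
    have hy : y ∈ leftGr (k := k) ℰ V g := by
      simp only [y, map_sum]
      refine sum_mem fun i _ => ?_
      rw [coordV_symm_single]
      exact tmul_mem_leftGr ℰ (he i) _
    have hry : ∀ r : 𝔮, (r : R) • y = θ r := by
      intro r
      apply (coordV (R := R) b).injective
      rw [map_smul]
      simp only [y, LinearEquiv.apply_symm_apply]
      ext i
      rw [Finsupp.smul_apply, Finsupp.finset_sum_apply]
      by_cases hi : i ∈ F
      · rw [Finset.sum_eq_single i]
        · rw [Finsupp.single_eq_same, heθ i r]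
        · intro j _ hji
          rw [Finsupp.single_eq_of_ne' hji]
        · intro h; exact absurd hi h
      · rw [hF r i hi, Finset.sum_eq_zero, smul_zero]
        intro j hj
        have : j ≠ i := fun h => hi (h ▸ hj)
        rw [Finsupp.single_eq_of_ne' this]
    -- the difference
    set q' : Q.carrier := q - f y with hq'
    have hq'deg : q' ∈ Q.gr g := sub_mem hq (hf.grHom g y hy)
    by_contra hnot
    have hq'ne : q' ≠ 0 := by
      intro h0
      apply hnot
      rw [hq', sub_eq_zero] at h0
      exact ⟨y, h0.symm⟩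
    have hspan : (LinearMap.range (LinearMap.toSpanSingleton R Q.carrier q')).IsHomogeneous Q.gr :=
      range_isHomogeneous_deg 𝒜 Q.gr (isGrHomDeg_toSpanSingleton Q.gr 𝒜 hq'deg)
    have hne : LinearMap.range (LinearMap.toSpanSingleton R Q.carrier q') ≠ ⊥ := by
      intro h0
      apply hq'ne
      have : q' ∈ LinearMap.range (LinearMap.toSpanSingleton R Q.carrier q') :=
        ⟨1, by simp⟩
      rw [h0] at this
      exact this
    apply hf.essential _ hspan hne
    rw [eq_bot_iff]
    rintro z ⟨⟨r, rfl⟩, hz⟩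
    rw [Submodule.mem_bot]
    simp only [LinearMap.toSpanSingleton_apply] at hz ⊢
    have hrq : r • q ∈ LinearMap.range f := by
      have : r • q = r • q' + f (r • y) := by rw [hq', smul_sub, map_smul]; abel
      rw [this]
      exact add_mem hz ⟨_, rfl⟩
    have hr𝔮 : r ∈ 𝔮 := hrq
    have h2 := hry ⟨r, hr𝔮⟩
    have h3 := hθ ⟨r, hr𝔮⟩
    simp only at h2 h3
    rw [hq', smul_sub, ← map_smul, h2, h3, sub_self]
  intro q
  change q ∈ LinearMap.range f
  induction q using DirectSum.Decomposition.inductionOn Q.gr with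
  | zero => exact zero_mem _
  | homogeneous q => exact key _ _ q.2
  | add x y hx hy => exact add_mem hx hy

end Main

end Groth.Agent.Lib.Helper11.Seg
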