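import Groth.Agent.Lib.Helper11.GrSegTopB
import Groth.Agent.Lib.Helper11.GrDualB
import Groth.Agent.Lib.Helper11.GrVanC
import Groth.Agent.Lib.Helper11.GrGorF
import Groth.Agent.Lib.Helper11.GrConv

/-!
# A Segre product whose top local cohomology is a Segre product of graded duals is Gorenstein
-/

set_option autoImplicit false
set_option linter.unusedSectionVars false
set_option linter.unusedVariables false
set_option linter.style.haveILetI false
set_option maxHeartbeats 1000000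
universe u

open scoped TensorProduct

namespace Groth.Agent.Lib.Helper11.Seg

open DirectSum GrLC GrSeg Groth.Agent.Lib.Helper11.GrLCLib Groth.Agent.Lib.Helper11.GrConv

attribute [local instance] convGradedRing

section Gor

variable {k : Type u} [Field k] {R S T : Type u} [CommRing R] [CommRing S] [CommRing T]
  [Algebra k R] [Algebra k S] [Algebra k T]
variable {𝒜 : ℤ → AddSubgroup R} [GradedRing 𝒜] {ℬ : ℤ → AddSubgroup S} [GradedRing ℬ]
  [IsKAlgGr k 𝒜] [IsKAlgGr k ℬ]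
variable (𝒯s : ℤ → Submodule k T) [GradedAlgebra 𝒯s] {ψ : T →ₐ[k] R ⊗[k] S}
variable [IsNoetherianRing R] [IsNoetherianRing S] [IsNoetherianRing (R ⊗[k] S)]
  [IsNoetherianRing T]

/-- the shifted top local cohomology of `T = R # S` is *injective, when the shifted top local
cohomologies of `R` and `S` are graded duals of `R` and `S`. -/
theorem isStarInj_top_of_gdual (h : IsSeg 𝒜 ℬ (conv 𝒯s) ψ) (m : HomogeneousIdeal 𝒜)
    (n : HomogeneousIdeal ℬ) (mT : HomogeneousIdeal (conv 𝒯s)) (hm : m.toIdeal = irrI 𝒜)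
    (hn : n.toIdeal = irrI ℬ) (hmT : mT.toIdeal = irrI (conv 𝒯s))
    (I : StarInjRes 𝒜 𝒜) (J : StarInjRes ℬ ℬ) (IT : StarInjRes (conv 𝒯s) (conv 𝒯s)) (r s : ℕ)
    (h2r : 2 ≤ r) (h2s : 2 ≤ s)
    (hM : ∀ i, i ≠ r → Subsingleton (I.H m i)) (hN : ∀ j, j ≠ s → Subsingleton (J.H n j))
    [Module k (I.H m r)] [IsScalarTower k R (I.H m r)]
    [Module k (J.H n s)] [IsScalarTower k S (J.H n s)]
    (q : ℕ) (hq : q + 1 = r + s)
    [Module k (IT.H mT q)] [IsScalarTower k T (IT.H mT q)] (c : ℤ)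
    [DirectSum.Decomposition (shiftGr (I.Hgr m r) c)]
    [DirectSum.Decomposition (shiftGr (J.Hgr n s) c)]
    [DirectSum.Decomposition (shiftGr (IT.Hgr mT q) c)]
    [SetLike.GradedSMul (conv 𝒯s) (shiftGr (IT.Hgr mT q) c)]
    (βR : I.H m r →ₗ[k] R →ₗ[k] k) (hβR : IsGDual R 𝒜 (shiftGr (I.Hgr m r) c) βR)
    (βS : J.H n s →ₗ[k] S →ₗ[k] k) (hβS : IsGDual S ℬ (shiftGr (J.Hgr n s) c) βS)
    (hfR : ∀ n, Module.Finite k (subK k 𝒜 n)) (hfS : ∀ n, Module.Finite k (subK k ℬ n)) :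
    IsStarInj (conv 𝒯s) (shiftGr (IT.Hgr mT q) c) := by
  haveI : SetLike.GradedSMul 𝒜 (I.Hgr m r) := Hgr_gradedSMul I m r
  haveI : SetLike.GradedSMul ℬ (J.Hgr n s) := Hgr_gradedSMul J n s
  haveI : IsKGr k (shiftGr (I.Hgr m r) c) := isKGr_of_gradedSMul 𝒜 _
  haveI : IsKGr k (shiftGr (J.Hgr n s) c) := isKGr_of_gradedSMul ℬ _
  obtain ⟨φ', hφ'⟩ := exists_isSegreMod_top h m n mT hm hn hmT h.isSegreMod_self I J IT r s h2r h2s
    hM hN q hq c
  have hD := isGDual_segre hβR hβS hfR hfS h.isSegreMod_self hφ'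
  have hD' : IsGDual T 𝒯s (shiftGr (IT.Hgr mT q) c) ((tpair βR βS).compl₁₂ φ' ψ.toLinearMap) :=
    ⟨hD.map_smul, hD.vanish, hD.eq_zero, hD.exists_eq⟩
  haveI : SetLike.GradedSMul 𝒯s (shiftGr (IT.Hgr mT q) c) := unconvGradedSMul_left 𝒯s _
  have h1 : IsStarInj 𝒯s (shiftGr (IT.Hgr mT q) c) :=
    Groth.Agent.Lib.Helper11.GrDual.isStarInj_gdual 𝒯s _ _ hD'
  exact isStarInj_conv 𝒯s _ h1

/-- **Gorenstein criterion for Segre products.** -/
theorem isGorensteinRing_segre_of_gdual (h : IsSeg 𝒜 ℬ (conv 𝒯s) ψ) (m : HomogeneousIdeal 𝒜)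
    (n : HomogeneousIdeal ℬ) (mT : HomogeneousIdeal (conv 𝒯s)) (hm : m.toIdeal = irrI 𝒜)
    (hn : n.toIdeal = irrI ℬ) (hmT : mT.toIdeal = irrI (conv 𝒯s))
    (hloc : IsStarLocal (conv 𝒯s) mT)
    (I : StarInjRes 𝒜 𝒜) (J : StarInjRes ℬ ℬ) (IT : StarInjRes (conv 𝒯s) (conv 𝒯s)) (r s : ℕ)
    (h2r : 2 ≤ r) (h2s : 2 ≤ s)
    (hM : ∀ i, i ≠ r → Subsingleton (I.H m i)) (hN : ∀ j, j ≠ s → Subsingleton (J.H n j))
    [Module k (I.H m r)] [IsScalarTower k R (I.H m r)]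
    [Module k (J.H n s)] [IsScalarTower k S (J.H n s)]
    (q : ℕ) (hq : q + 1 = r + s) (hT : ∀ i, i ≠ q → Subsingleton (IT.H mT i)) (c : ℤ)
    [DirectSum.Decomposition (shiftGr (I.Hgr m r) c)]
    [DirectSum.Decomposition (shiftGr (J.Hgr n s) c)]
    (βR : I.H m r →ₗ[k] R →ₗ[k] k) (hβR : IsGDual R 𝒜 (shiftGr (I.Hgr m r) c) βR)
    (βS : J.H n s →ₗ[k] S →ₗ[k] k) (hβS : IsGDual S ℬ (shiftGr (J.Hgr n s) c) βS)
    (hfR : ∀ n, Module.Finite k (subK k 𝒜 n)) (hfS : ∀ n, Module.Finite k (subK k ℬ n)) :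
    LocCoh.IsGorensteinRing T := by
  letI : Module k (IT.H mT q) := Module.compHom _ (algebraMap k T)
  haveI : IsScalarTower k T (IT.H mT q) := IsScalarTower.of_algebraMap_smul (fun r x => rfl)
  letI : DirectSum.Decomposition (IT.Hgr mT q) :=
    (Hgr_isInternal (conv 𝒯s) (conv 𝒯s) IT mT q).chooseDecomposition
  haveI : SetLike.GradedSMul (conv 𝒯s) (IT.Hgr mT q) := Hgr_gradedSMul IT mT q
  letI : DirectSum.Decomposition (shiftGr (IT.Hgr mT q) c) := shiftDecomposition _ c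
  have h1 := isStarInj_top_of_gdual 𝒯s h m n mT hm hn hmT I J IT r s h2r h2s hM hN q hq c
    βR hβR βS hβS hfR hfS
  letI : DirectSum.Decomposition (shiftGr (shiftGr (IT.Hgr mT q) c) (-c)) :=
    shiftDecomposition _ (-c)
  have h2 : IsStarInj (conv 𝒯s) (shiftGr (shiftGr (IT.Hgr mT q) c) (-c)) :=
    Groth.Agent.Lib.Helper11.GrGor.isStarInj_shift (conv 𝒯s) _ h1 (-c)
  let X : GMod.{u} (conv 𝒯s) :=
    GMod.of (conv 𝒯s) (IT.H mT q) (shiftGr (shiftGr (IT.Hgr mT q) c) (-c))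
  refine Groth.Agent.Lib.Helper11.GrVan.isGorensteinRing_of_top_starInj' (conv 𝒯s) mT hloc q IT
    (fun i hi => hT i (by omega)) (fun i hi => hT i (by omega)) X (LinearEquiv.refl T _) h2 ?_
  intro j x hx
  change x ∈ IT.Hgr mT q (j + -c + c)
  rwa [neg_add_cancel_right]

end Gor

end Groth.Agent.Lib.Helper11.Seg
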