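import Groth.Agent.Lib.Helper11.GrSegGor
import Groth.Agent.Lib.Helper11.GrGorG
import Groth.Agent.Lib.Helper11.GrFieldB
import Groth.Agent.Lib.Helper11.GrCanC
import Groth.Agent.Lib.Helper11.GrCanB

/-!
# The top local cohomology of a Gorenstein graded ring over a field as a shifted graded dual
-/

set_option autoImplicit false
set_option linter.unusedSectionVars false
set_option linter.unusedVariables false
set_option linter.style.haveILetI false
set_option maxHeartbeats 1000000
universe u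

open scoped TensorProduct

namespace Groth.Agent.Lib.Helper11.Seg

open DirectSum GrLC GrSeg Groth.Agent.Lib.Helper11.GrLCLib Groth.Agent.Lib.Helper11.GrConv
  Groth.Agent.Lib.Helper11.GrField Groth.Agent.Lib.Helper11.GrCan Groth.Agent.Lib.Helper11.GrLes

section Hull

variable {R : Type u} [CommRing R] (𝒜 : ℤ → AddSubgroup R) [GradedRing 𝒜]

/-- existence of a *injective hull of `R/m`. -/
theorem exists_hull_quot (m : HomogeneousIdeal 𝒜) :
    ∃ (X : GMod.{u} 𝒜) (e : (R ⧸ m.toIdeal) →ₗ[R] X.carrier),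
      IsStarInjHull 𝒜 (quotGr 𝒜 m) X.gr e := by
  letI := quotDecomposition 𝒜 (m.toIdeal : Submodule R R) m.isHomogeneous
  obtain ⟨X, e, he⟩ := exists_isStarInjHull 𝒜 (quotGrM 𝒜 (m.toIdeal : Submodule R R))
  refine ⟨X, e, ?_⟩
  rw [Groth.Agent.Lib.Helper11.GrGor.quotGr_eq_quotGrM 𝒜 m]
  exact he

end Hull

section Gor

variable {R : Type u} [CommRing R] {𝒜 : ℤ → AddSubgroup R} [GradedRing 𝒜]
variable {k : Type u} [Field k] [Algebra k R] (hk : IsBase 𝒜 k)

attribute [local instance] subKGradedAlgebra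

include hk in
/-- For a Gorenstein graded ring over a field, `H^r_m(R)` (shifted by its top degree) is a graded
dual of `R`. -/
theorem exists_gdual_top_of_gorenstein [Nontrivial R] [LocCoh.IsGorensteinRing R]
    (hpos : ∀ n : ℤ, n < 0 → 𝒜 n = ⊥) (m : HomogeneousIdeal 𝒜)
    (hmsp : m.toIdeal = Ideal.span (⋃ n ∈ Set.Ioi (0 : ℤ), (𝒜 n : Set R)))
    (hm : IsStarLocal 𝒜 m) (r : ℕ) (hht : m.toIdeal.height = r) (I : StarInjRes 𝒜 𝒜)
    [Module k (I.H m r)] [IsScalarTower k R (I.H m r)] :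
    ∃ c : ℤ, endDeg (I.Hgr m r) = cc c ∧ ∃ β : I.H m r →ₗ[k] R →ₗ[k] k,
      ∀ (_ : DirectSum.Decomposition (shiftGr (I.Hgr m r) c)),
        IsGDual R 𝒜 (shiftGr (I.Hgr m r) c) β := by
  obtain ⟨X, e, he⟩ := exists_hull_quot 𝒜 m
  letI : Module k X.carrier := Module.compHom _ (algebraMap k R)
  haveI : IsScalarTower k R X.carrier := IsScalarTower.of_algebraMap_smul (fun r x => rfl)
  obtain ⟨g, φ, hφ⟩ := Groth.Agent.Lib.Helper11.GrGor.exists_top_H_equiv_hull 𝒜 X.gr m hm r hht I
    e he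
  obtain ⟨βE, hE⟩ := exists_pairing_hull hk X.gr hpos m hmsp e he
  have htop := isTopDeg_hull 𝒜 X.gr hpos hm.1 he
  letI dH : DirectSum.Decomposition (I.Hgr m r) := (Hgr_isInternal 𝒜 𝒜 I m r).chooseDecomposition
  have hφs := isGrHomDeg_symm φ hφ
  refine ⟨-g, ?_, βE ∘ₗ (φ.toLinearMap.restrictScalars k), ?_⟩
  · apply endDeg_eq_of_isTopDeg
    constructor
    · obtain ⟨y, hy⟩ := (AddSubgroup.ne_bot_iff_exists_ne_zero).mp htop.1
      rw [AddSubgroup.ne_bot_iff_exists_ne_zero]
      have h1 : φ.symm (y : X.carrier) ∈ I.Hgr m r (0 + -g) := hφs 0 _ y.2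
      rw [zero_add] at h1
      refine ⟨⟨φ.symm (y : X.carrier), h1⟩, ?_⟩
      intro h0
      apply hy
      have h2 : φ.symm (y : X.carrier) = 0 := congrArg Subtype.val h0
      apply Subtype.ext
      have h3 := congrArg φ h2
      rw [LinearEquiv.apply_symm_apply, map_zero] at h3
      exact h3
    · intro j hj
      rw [eq_bot_iff]
      intro x hx
      have h1 : φ x ∈ X.gr (j + g) := hφ j x hx
      rw [htop.2 (j + g) (by omega), AddSubgroup.mem_bot] at h1
      rw [AddSubgroup.mem_bot]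
      exact φ.injective (h1.trans (map_zero φ).symm)
  · intro inst
    have hφ' : IsGrHom (shiftGr (I.Hgr m r) (-g)) X.gr φ.toLinearMap := by
      intro j x hx
      have h1 : φ x ∈ X.gr (j + -g + g) := hφ (j + -g) x hx
      rwa [neg_add_cancel_right] at h1
    have h2 := isGDual_of_equiv (Groth.Agent.Lib.Helper11.GrField.subK hk) X.gr (shiftGr (I.Hgr m r) (-g)) φ hφ' hE
    exact ⟨h2.map_smul, h2.vanish, h2.eq_zero, h2.exists_eq⟩

end Gor

end Groth.Agent.Lib.Helper11.Seg
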