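import Groth.Agent.Lib.Helper11.GrSegH

/-!
# Helpers for base change: `congrA`, `Γ_m(M) ⊗ N ≃ Γ_{mA}(M ⊗ N)`, equivalences from surjections
-/

set_option autoImplicit false
set_option linter.unusedSectionVars false
set_option linter.unusedVariables false
set_option linter.style.haveILetI false
universe u

open scoped TensorProduct

namespace Groth.Agent.Lib.Helper11.Seg

open DirectSum GrLC Groth.Agent.Lib.Helper11.GrLCLib

section Surj

variable {A : Type u} [CommRing A] {W P Q : Type u} [AddCommGroup W] [Module A W]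
  [AddCommGroup P] [Module A P] [AddCommGroup Q] [Module A Q]

/-- Two surjections with the same kernel have isomorphic targets. -/
theorem exists_equiv_of_surjective_of_ker_eq (f : W →ₗ[A] P) (g : W →ₗ[A] Q)
    (hf : Function.Surjective f) (hg : Function.Surjective g)
    (h : LinearMap.ker f = LinearMap.ker g) :
    ∃ Φ : P ≃ₗ[A] Q, ∀ w, Φ (f w) = g w := by
  let e1 := f.quotKerEquivOfSurjective hf
  let e2 := g.quotKerEquivOfSurjective hg
  let e3 := Submodule.quotEquivOfEq _ _ h
  refine ⟨e1.symm ≪≫ₗ e3 ≪≫ₗ e2, fun w => ?_⟩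
  have h1 : e1.symm (f w) = Submodule.Quotient.mk w := by
    rw [LinearEquiv.symm_apply_eq]
    rfl
  simp only [LinearEquiv.trans_apply, h1]
  rfl

end Surj

section CongrA

variable {k : Type u} [Field k] {R S : Type u} [CommRing R] [CommRing S] [Algebra k R]
  [Algebra k S]
variable {M M' N : Type u} [AddCommGroup M] [Module R M] [Module k M] [IsScalarTower k R M]
  [AddCommGroup M'] [Module R M'] [Module k M'] [IsScalarTower k R M']
  [AddCommGroup N] [Module S N] [Module k N] [IsScalarTower k S N]

lemma mapL_comp_apply {M'' : Type u} [AddCommGroup M''] [Module R M''] [Module k M'']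
    [IsScalarTower k R M''] (g : M' →ₗ[R] M'') (f : M →ₗ[R] M') (x : M ⊗[k] N) :
    mapL (k := k) (S := S) N g (mapL (k := k) (S := S) N f x) =
      mapL (k := k) (S := S) N (g ∘ₗ f) x := by
  induction x using TensorProduct.induction_on with
  | zero => simp
  | tmul m n => rfl
  | add x y hx hy => simp only [map_add, hx, hy]

lemma mapL_id_apply (x : M ⊗[k] N) :
    mapL (k := k) (S := S) N (LinearMap.id : M →ₗ[R] M) x = x := by
  induction x using TensorProduct.induction_on with
  | zero => simp
  | tmul m n => rfl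
  | add x y hx hy => simp only [map_add, hx, hy]

/-- `e ⊗ id` as an `R ⊗ S`-linear equivalence. -/
noncomputable def congrA (N : Type u) [AddCommGroup N] [Module S N] [Module k N]
    [IsScalarTower k S N] (e : M ≃ₗ[R] M') : M ⊗[k] N ≃ₗ[R ⊗[k] S] M' ⊗[k] N :=
  LinearEquiv.ofLinear (mapL (k := k) (S := S) N e.toLinearMap)
    (mapL (k := k) (S := S) N e.symm.toLinearMap)
    (by
      ext x
      simp only [LinearMap.comp_apply, LinearMap.id_apply]
      rw [mapL_comp_apply]
      have : e.toLinearMap ∘ₗ e.symm.toLinearMap = LinearMap.id := by ext; simp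
      rw [this, mapL_id_apply])
    (by
      ext x
      simp only [LinearMap.comp_apply, LinearMap.id_apply]
      rw [mapL_comp_apply]
      have : e.symm.toLinearMap ∘ₗ e.toLinearMap = LinearMap.id := by ext; simp
      rw [this, mapL_id_apply])

lemma congrA_apply (e : M ≃ₗ[R] M') (x : M ⊗[k] N) :
    congrA (k := k) (S := S) N e x = mapL (k := k) (S := S) N e.toLinearMap x := rfl

lemma congrA_symm_apply (e : M ≃ₗ[R] M') (x : M' ⊗[k] N) :
    (congrA (k := k) (S := S) N e).symm x = mapL (k := k) (S := S) N e.symm.toLinearMap x := rfl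

end CongrA

section GamTensor

variable {k : Type u} [Field k] {R S : Type u} [CommRing R] [CommRing S] [Algebra k R]
  [Algebra k S]
variable {M N : Type u} [AddCommGroup M] [Module R M] [Module k M] [IsScalarTower k R M]
  [AddCommGroup N] [Module S N] [Module k N] [IsScalarTower k S N]

/-- `Γ_m(M) ⊗ N → Γ_{mA}(M ⊗ N)`. -/
noncomputable def gamTensorMap (N : Type u) [AddCommGroup N] [Module S N] [Module k N]
    [IsScalarTower k S N] (m : Ideal R) :
    ↥(gam m M) ⊗[k] N →ₗ[R ⊗[k] S] ↥(gam (extIdeal (k := k) (S := S) m) (M ⊗[k] N)) :=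
  LinearMap.codRestrict _ (mapL (k := k) (S := S) N (gam m M).subtype) (fun x => by
    rw [gam_extIdeal]; exact ⟨x, rfl⟩)

lemma gamTensorMap_coe (m : Ideal R) (w : ↥(gam m M) ⊗[k] N) :
    (gamTensorMap (k := k) (S := S) N m w : M ⊗[k] N) =
      mapL (k := k) (S := S) N (gam m M).subtype w := rfl

lemma gamTensorMap_bijective (m : Ideal R) :
    Function.Bijective (gamTensorMap (k := k) (S := S) (M := M) N m) := by
  constructor
  · intro x y hxy
    have h := congrArg Subtype.val hxy
    rw [gamTensorMap_coe, gamTensorMap_coe] at h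
    exact mapL_injective (Submodule.injective_subtype _) h
  · rintro ⟨y, hy⟩
    rw [gam_extIdeal] at hy
    obtain ⟨x, rfl⟩ := hy
    exact ⟨x, rfl⟩

/-- `Γ_m(M) ⊗ N ≃ Γ_{mA}(M ⊗ N)`. -/
noncomputable def gamTensorEquiv (N : Type u) [AddCommGroup N] [Module S N] [Module k N]
    [IsScalarTower k S N] (m : Ideal R) :
    ↥(gam m M) ⊗[k] N ≃ₗ[R ⊗[k] S] ↥(gam (extIdeal (k := k) (S := S) m) (M ⊗[k] N)) :=
  LinearEquiv.ofBijective (gamTensorMap (k := k) (S := S) N m) (gamTensorMap_bijective m)

lemma gamTensorEquiv_coe (m : Ideal R) (w : ↥(gam m M) ⊗[k] N) :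
    (gamTensorEquiv (k := k) (S := S) N m w : M ⊗[k] N) =
      mapL (k := k) (S := S) N (gam m M).subtype w := rfl

end GamTensor

end Groth.Agent.Lib.Helper11.Seg
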