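import Groth.Agent.Lib.Helper11.GrSegTypeB

/-!
# From a perfect pairing on a Segre product to perfect pairings on the factors
-/

set_option autoImplicit false
set_option linter.unusedSectionVars false
set_option linter.unusedVariables false
set_option linter.style.haveILetI false
set_option maxHeartbeats 1000000
universe u

open scoped TensorProduct

namespace Groth.Agent.Lib.Helper11.Seg

open DirectSum GrLC GrSeg Groth.Agent.Lib.Helper11.GrLCLib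

section Perfect

variable {k : Type u} [Field k] {R S T : Type u} [CommRing R] [CommRing S] [CommRing T]
  [Algebra k R] [Algebra k S] [Algebra k T]
variable {𝒜 : ℤ → AddSubgroup R} [GradedRing 𝒜] {ℬ : ℤ → AddSubgroup S} [GradedRing ℬ]
  [IsKAlgGr k 𝒜] [IsKAlgGr k ℬ]
variable {𝒯 : ℤ → AddSubgroup T} [GradedRing 𝒯] {ψ : T →ₐ[k] R ⊗[k] S}
variable {HR HS HT : Type u} [AddCommGroup HR] [Module R HR] [Module k HR] [IsScalarTower k R HR]
  [AddCommGroup HS] [Module S HS] [Module k HS] [IsScalarTower k S HS]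
  [AddCommGroup HT] [Module T HT] [Module k HT] [IsScalarTower k T HT]
variable {𝒰 : ℤ → AddSubgroup HR} {𝒱 : ℤ → AddSubgroup HS} {𝒲 : ℤ → AddSubgroup HT}
  [DirectSum.Decomposition 𝒲] {φ' : HT →ₗ[k] HR ⊗[k] HS} {βT : HT →ₗ[k] T →ₗ[k] k}

lemma exists_tmul_preimage (hφ' : IsSegreMod ψ 𝒰 𝒱 𝒲 φ') {n : ℤ} {x : HR} (hx : x ∈ 𝒰 n) {y : HS}
    (hy : y ∈ 𝒱 n) : ∃ w ∈ 𝒲 n, φ' w = x ⊗ₜ[k] y := by
  have h1 : (x ⊗ₜ[k] y : HR ⊗[k] HS) ∈ (segrePiece k 𝒰 𝒱 n : Set (HR ⊗[k] HS)) :=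
    Submodule.subset_span ⟨x, hx, y, hy, rfl⟩
  rw [← hφ'.image_piece n] at h1
  obtain ⟨w, hw, hwx⟩ := h1
  exact ⟨w, hw, hwx⟩

lemma map_mem_segrePiece (hφ' : IsSegreMod ψ 𝒰 𝒱 𝒲 φ') {n : ℤ} {w : HT} (hw : w ∈ 𝒲 n) :
    φ' w ∈ segrePiece k 𝒰 𝒱 n := by
  have h1 : φ' w ∈ φ' '' (𝒲 n : Set HT) := ⟨w, hw, rfl⟩
  rw [hφ'.image_piece n] at h1
  exact h1

/-- `βT w t = βT (t • w) 1`. -/
lemma beta_eq (hβ : IsGDual T 𝒯 𝒲 βT) (w : HT) (t : T) : βT w t = βT (t • w) 1 := by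
  rw [hβ.map_smul t w 1, smul_eq_mul, mul_one]

/-- non-degeneracy on the right. -/
lemma eq_zero_of_forall_beta (hβ : IsGDual T 𝒯 𝒲 βT) (n : ℤ) {t : T} (ht : t ∈ 𝒯 (-n))
    (h : ∀ w ∈ 𝒲 n, βT w t = 0) : t = 0 := by
  by_contra ht0
  obtain ⟨g, hg⟩ : ∃ g : Module.Dual k T, g t ≠ 0 := by
    by_contra hcon
    push Not at hcon
    exact ht0 ((Module.forall_dual_apply_eq_zero_iff k t).mp hcon)
  obtain ⟨w, hw, hwt⟩ := hβ.exists_eq n g
  apply hg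
  rw [← hwt t ht]
  exact h w hw

variable (h : IsSeg 𝒜 ℬ 𝒯 ψ)
include h

/-- pieces of the dual are nonzero where the ring is. -/
lemma exists_ne_zero_pieces (hφ' : IsSegreMod ψ 𝒰 𝒱 𝒲 φ') (hβ : IsGDual T 𝒯 𝒲 βT) (n : ℤ)
    (hA : ∃ u ∈ 𝒜 (-n), u ≠ 0) (hB : ∃ v ∈ ℬ (-n), v ≠ 0) :
    (∃ x ∈ 𝒰 n, x ≠ 0) ∧ (∃ y ∈ 𝒱 n, y ≠ 0) := by
  obtain ⟨u, hu, hu0⟩ := hA
  obtain ⟨v, hv, hv0⟩ := hB
  obtain ⟨t, ht, hψt⟩ := h.exists_of_mem (n := -n) (x := u ⊗ₜ[k] v)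
    (Submodule.subset_span ⟨u, hu, v, hv, rfl⟩)
  have ht0 : t ≠ 0 := by
    intro h0
    rw [h0, map_zero] at hψt
    exact tmul_ne_zero_of_ne_zero hu0 hv0 hψt.symm
  -- a nonzero element of `𝒲 n`
  have hW : ∃ w ∈ 𝒲 n, w ≠ 0 := by
    by_contra hcon
    push Not at hcon
    apply ht0
    apply eq_zero_of_forall_beta hβ n ht
    intro w hw
    rw [hcon w hw, map_zero, LinearMap.zero_apply]
  obtain ⟨w, hw, hw0⟩ := hW
  have hφw : φ' w ≠ 0 := fun h0 => hw0 (hφ'.injective (h0.trans (map_zero φ').symm))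
  have hmem := map_mem_segrePiece hφ' hw
  constructor
  · by_contra hcon
    push Not at hcon
    apply hφw
    have : segrePiece k 𝒰 𝒱 n = ⊥ := by
      rw [eq_bot_iff]
      apply Submodule.span_le.mpr
      rintro _ ⟨x, hx, y, hy, rfl⟩
      rw [hcon x hx, TensorProduct.zero_tmul]
      exact zero_mem _
    rw [this] at hmem
    exact (Submodule.mem_bot k).mp hmem
  · by_contra hcon
    push Not at hcon
    apply hφw
    have : segrePiece k 𝒰 𝒱 n = ⊥ := by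
      rw [eq_bot_iff]
      apply Submodule.span_le.mpr
      rintro _ ⟨x, hx, y, hy, rfl⟩
      rw [hcon y hy, TensorProduct.tmul_zero]
      exact zero_mem _
    rw [this] at hmem
    exact (Submodule.mem_bot k).mp hmem

/-- (P1) for the left factor. -/
theorem left_eq_zero_of_forall_smul (hφ' : IsSegreMod ψ 𝒰 𝒱 𝒲 φ') (hβ : IsGDual T 𝒯 𝒲 βT) (n : ℤ)
    (hA : ∃ u ∈ 𝒜 (-n), u ≠ 0) (hB : ∃ v ∈ ℬ (-n), v ≠ 0) {d : HR} (hd : d ∈ 𝒰 n)
    (hd0 : ∀ u ∈ 𝒜 (-n), u • d = 0) : d = 0 := by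
  obtain ⟨-, y, hy, hy0⟩ := exists_ne_zero_pieces h hφ' hβ n hA hB
  obtain ⟨w, hw, hwφ⟩ := exists_tmul_preimage hφ' hd hy
  have hw0 : w = 0 := by
    apply hβ.eq_zero n w hw
    intro t ht
    rw [beta_eq hβ]
    have h1 : t • w = 0 := by
      apply hφ'.injective
      rw [hφ'.map_smul, map_zero, hwφ]
      have hmem : ψ t ∈ Submodule.span k
          {x : R ⊗[k] S | ∃ a ∈ 𝒜 (-n), ∃ b ∈ ℬ (-n), x = a ⊗ₜ[k] b} := h.map_mem ht
      generalize ψ t = a0 at hmem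
      induction hmem using Submodule.span_induction with
      | mem a ha =>
        obtain ⟨u, hu, v, hv, rfl⟩ := ha
        rw [GrSeg.act_tmul, hd0 u hu, TensorProduct.zero_tmul]
      | zero => rw [map_zero, LinearMap.zero_apply]
      | add a b _ _ ha hb => rw [map_add, LinearMap.add_apply, ha, hb, add_zero]
      | smul c a _ ha => rw [map_smul, LinearMap.smul_apply, ha, smul_zero]
    rw [h1, map_zero, LinearMap.zero_apply]
  rw [hw0, map_zero] at hwφ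
  by_contra hd'
  exact tmul_ne_zero_of_ne_zero hd' hy0 hwφ.symm

/-- (P1) for the right factor. -/
theorem right_eq_zero_of_forall_smul (hφ' : IsSegreMod ψ 𝒰 𝒱 𝒲 φ') (hβ : IsGDual T 𝒯 𝒲 βT) (n : ℤ)
    (hA : ∃ u ∈ 𝒜 (-n), u ≠ 0) (hB : ∃ v ∈ ℬ (-n), v ≠ 0) {d : HS} (hd : d ∈ 𝒱 n)
    (hd0 : ∀ v ∈ ℬ (-n), v • d = 0) : d = 0 := by
  obtain ⟨⟨x, hx, hx0⟩, -⟩ := exists_ne_zero_pieces h hφ' hβ n hA hB
  obtain ⟨w, hw, hwφ⟩ := exists_tmul_preimage hφ' hx hd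
  have hw0 : w = 0 := by
    apply hβ.eq_zero n w hw
    intro t ht
    rw [beta_eq hβ]
    have h1 : t • w = 0 := by
      apply hφ'.injective
      rw [hφ'.map_smul, map_zero, hwφ]
      have hmem : ψ t ∈ Submodule.span k
          {x : R ⊗[k] S | ∃ a ∈ 𝒜 (-n), ∃ b ∈ ℬ (-n), x = a ⊗ₜ[k] b} := h.map_mem ht
      generalize ψ t = a0 at hmem
      induction hmem using Submodule.span_induction with
      | mem a ha =>
        obtain ⟨u, hu, v, hv, rfl⟩ := ha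
        rw [GrSeg.act_tmul, hd0 v hv, TensorProduct.tmul_zero]
      | zero => rw [map_zero, LinearMap.zero_apply]
      | add a b _ _ ha hb => rw [map_add, LinearMap.add_apply, ha, hb, add_zero]
      | smul c a _ ha => rw [map_smul, LinearMap.smul_apply, ha, smul_zero]
    rw [h1, map_zero, LinearMap.zero_apply]
  rw [hw0, map_zero] at hwφ
  by_contra hd'
  exact tmul_ne_zero_of_ne_zero hx0 hd' hwφ.symm

/-- (P2) for the left factor. -/
theorem left_ring_eq_zero_of_forall_smul (hφ' : IsSegreMod ψ 𝒰 𝒱 𝒲 φ') (hβ : IsGDual T 𝒯 𝒲 βT)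
    (n : ℤ) (hB : ∃ v ∈ ℬ (-n), v ≠ 0) {u : R} (hu : u ∈ 𝒜 (-n))
    (hu0 : ∀ d ∈ 𝒰 n, u • d = 0) : u = 0 := by
  obtain ⟨v, hv, hv0⟩ := hB
  obtain ⟨t, ht, hψt⟩ := h.exists_of_mem (n := -n) (x := u ⊗ₜ[k] v)
    (Submodule.subset_span ⟨u, hu, v, hv, rfl⟩)
  have ht0 : t = 0 := by
    apply eq_zero_of_forall_beta hβ n ht
    intro w hw
    rw [beta_eq hβ]
    have h1 : t • w = 0 := by
      apply hφ'.injective
      rw [hφ'.map_smul, map_zero, hψt]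
      have hmem : φ' w ∈ Submodule.span k
          {x : HR ⊗[k] HS | ∃ a ∈ 𝒰 n, ∃ b ∈ 𝒱 n, x = a ⊗ₜ[k] b} := map_mem_segrePiece hφ' hw
      generalize φ' w = z0 at hmem
      induction hmem using Submodule.span_induction with
      | mem a ha =>
        obtain ⟨x, hx, y, hy, rfl⟩ := ha
        rw [GrSeg.act_tmul, hu0 x hx, TensorProduct.zero_tmul]
      | zero => rw [map_zero]
      | add a b _ _ ha hb => rw [map_add, ha, hb, add_zero]
      | smul c a _ ha => rw [map_smul, ha, smul_zero]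
    rw [h1, map_zero, LinearMap.zero_apply]
  rw [ht0, map_zero] at hψt
  by_contra hu'
  exact tmul_ne_zero_of_ne_zero hu' hv0 hψt.symm

/-- (P2) for the right factor. -/
theorem right_ring_eq_zero_of_forall_smul (hφ' : IsSegreMod ψ 𝒰 𝒱 𝒲 φ') (hβ : IsGDual T 𝒯 𝒲 βT)
    (n : ℤ) (hA : ∃ u ∈ 𝒜 (-n), u ≠ 0) {v : S} (hv : v ∈ ℬ (-n))
    (hv0 : ∀ d ∈ 𝒱 n, v • d = 0) : v = 0 := by
  obtain ⟨u, hu, hu0⟩ := hA
  obtain ⟨t, ht, hψt⟩ := h.exists_of_mem (n := -n) (x := u ⊗ₜ[k] v)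
    (Submodule.subset_span ⟨u, hu, v, hv, rfl⟩)
  have ht0 : t = 0 := by
    apply eq_zero_of_forall_beta hβ n ht
    intro w hw
    rw [beta_eq hβ]
    have h1 : t • w = 0 := by
      apply hφ'.injective
      rw [hφ'.map_smul, map_zero, hψt]
      have hmem : φ' w ∈ Submodule.span k
          {x : HR ⊗[k] HS | ∃ a ∈ 𝒰 n, ∃ b ∈ 𝒱 n, x = a ⊗ₜ[k] b} := map_mem_segrePiece hφ' hw
      generalize φ' w = z0 at hmem
      induction hmem using Submodule.span_induction with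
      | mem a ha =>
        obtain ⟨x, hx, y, hy, rfl⟩ := ha
        rw [GrSeg.act_tmul, hv0 y hy, TensorProduct.tmul_zero]
      | zero => rw [map_zero]
      | add a b _ _ ha hb => rw [map_add, ha, hb, add_zero]
      | smul c a _ ha => rw [map_smul, ha, smul_zero]
    rw [h1, map_zero, LinearMap.zero_apply]
  rw [ht0, map_zero] at hψt
  by_contra hv'
  exact tmul_ne_zero_of_ne_zero hu0 hv' hψt.symm

end Perfect

end Groth.Agent.Lib.Helper11.Seg
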