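import Groth.Agent.Lib.Helper11.GrSegInvA

/-!
# One-dimensionality of the top pieces, and graded duals from perfect multiplication pairings
-/

set_option autoImplicit false
set_option linter.unusedSectionVars false
set_option linter.unusedVariables false
set_option linter.style.haveILetI false
set_option maxHeartbeats 1000000
universe u

open scoped TensorProduct

namespace Groth.Agent.Lib.Helper11.Seg

open DirectSum GrLC GrSeg Groth.Agent.Lib.Helper11.GrLCLib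

section OneDim

variable {k : Type u} [Field k] {R S T : Type u} [CommRing R] [CommRing S] [CommRing T]
  [Algebra k R] [Algebra k S] [Algebra k T] [Nontrivial R] [Nontrivial S]
variable {𝒜 : ℤ → AddSubgroup R} [GradedRing 𝒜] {ℬ : ℤ → AddSubgroup S} [GradedRing ℬ]
  [IsKAlgGr k 𝒜] [IsKAlgGr k ℬ]
variable {𝒯 : ℤ → AddSubgroup T} [GradedRing 𝒯] {ψ : T →ₐ[k] R ⊗[k] S}
variable {HR HS HT : Type u} [AddCommGroup HR] [Module R HR] [Module k HR] [IsScalarTower k R HR]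
  [AddCommGroup HS] [Module S HS] [Module k HS] [IsScalarTower k S HS]
  [AddCommGroup HT] [Module T HT] [Module k HT] [IsScalarTower k T HT]
variable {𝒰 : ℤ → AddSubgroup HR} {𝒱 : ℤ → AddSubgroup HS} {𝒲 : ℤ → AddSubgroup HT}
  [DirectSum.Decomposition 𝒲] [IsKGr k 𝒲] {φ' : HT →ₗ[k] HR ⊗[k] HS} {βT : HT →ₗ[k] T →ₗ[k] k}

/-- the top pieces of the factors are one-dimensional. -/
theorem top_one_dim (h : IsSeg 𝒜 ℬ 𝒯 ψ) (hφ' : IsSegreMod ψ 𝒰 𝒱 𝒲 φ') (hβ : IsGDual T 𝒯 𝒲 βT)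
    (hT0 : ∀ t ∈ 𝒯 0, ∃ a : k, algebraMap k T a = t) :
    (∃ x₀ ∈ 𝒰 0, x₀ ≠ 0 ∧ ∀ x ∈ 𝒰 0, ∃ a : k, x = a • x₀) ∧
    (∃ y₀ ∈ 𝒱 0, y₀ ≠ 0 ∧ ∀ y ∈ 𝒱 0, ∃ a : k, y = a • y₀) := by
  have e0 : (-0 : ℤ) = 0 := neg_zero
  have hA : ∃ u ∈ 𝒜 (-0), u ≠ 0 := by
    rw [e0]
    exact ⟨1, SetLike.GradedOne.one_mem, one_ne_zero⟩
  have hB : ∃ v ∈ ℬ (-0), v ≠ 0 := by
    rw [e0]
    exact ⟨1, SetLike.GradedOne.one_mem, one_ne_zero⟩
  obtain ⟨⟨x₀, hx₀, hx₀0⟩, ⟨y₀, hy₀, hy₀0⟩⟩ := exists_ne_zero_pieces h hφ' hβ 0 hA hB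
  obtain ⟨w₀, hw₀, hw₀φ⟩ := exists_tmul_preimage hφ' hx₀ hy₀
  have hw₀0 : w₀ ≠ 0 := by
    intro h0
    rw [h0, map_zero] at hw₀φ
    exact tmul_ne_zero_of_ne_zero hx₀0 hy₀0 hw₀φ.symm
  -- an element of `𝒲 0` vanishing against `1` is zero
  have hkey : ∀ w ∈ 𝒲 0, βT w 1 = 0 → w = 0 := by
    intro w hw hw1
    apply hβ.eq_zero 0 w hw
    intro t ht
    rw [e0] at ht
    obtain ⟨a, rfl⟩ := hT0 t ht
    rw [Algebra.algebraMap_eq_smul_one, map_smul, hw1, smul_zero]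
  have hb₀ : βT w₀ 1 ≠ 0 := fun h0 => hw₀0 (hkey w₀ hw₀ h0)
  -- every element of `𝒲 0` is a multiple of `w₀`
  have hspan : ∀ w ∈ 𝒲 0, ∃ a : k, w = a • w₀ := by
    intro w hw
    refine ⟨βT w 1 / βT w₀ 1, ?_⟩
    have h1 : w - (βT w 1 / βT w₀ 1) • w₀ = 0 := by
      apply hkey
      · exact sub_mem hw (IsKGr.smul_mem 0 _ w₀ hw₀)
      · rw [map_sub, map_smul, LinearMap.sub_apply, LinearMap.smul_apply, smul_eq_mul,
          div_mul_cancel₀ _ hb₀, sub_self]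
    exact sub_eq_zero.mp h1
  constructor
  · refine ⟨x₀, hx₀, hx₀0, fun x hx => ?_⟩
    obtain ⟨w, hw, hwφ⟩ := exists_tmul_preimage hφ' hx hy₀
    obtain ⟨a, rfl⟩ := hspan w hw
    refine ⟨a, ?_⟩
    rw [map_smul, hw₀φ, TensorProduct.smul_tmul'] at hwφ
    have h2 : (x - a • x₀) ⊗ₜ[k] y₀ = (0 : HR ⊗[k] HS) := by
      rw [TensorProduct.sub_tmul, ← hwφ, sub_self]
    by_contra hne
    exact tmul_ne_zero_of_ne_zero (sub_ne_zero.mpr hne) hy₀0 h2
  · refine ⟨y₀, hy₀, hy₀0, fun y hy => ?_⟩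
    obtain ⟨w, hw, hwφ⟩ := exists_tmul_preimage hφ' hx₀ hy
    obtain ⟨a, rfl⟩ := hspan w hw
    refine ⟨a, ?_⟩
    rw [map_smul, hw₀φ, ← TensorProduct.tmul_smul] at hwφ
    have h2 : x₀ ⊗ₜ[k] (y - a • y₀) = (0 : HR ⊗[k] HS) := by
      rw [TensorProduct.tmul_sub, ← hwφ, sub_self]
    by_contra hne
    exact tmul_ne_zero_of_ne_zero hx₀0 (sub_ne_zero.mpr hne) h2

end OneDim

section Single

variable {k : Type u} [Field k] {R : Type u} [CommRing R] [Algebra k R]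
variable {𝒜 : ℤ → AddSubgroup R} [GradedRing 𝒜] [IsKAlgGr k 𝒜]
variable {H : Type u} [AddCommGroup H] [Module R H] [Module k H] [IsScalarTower k R H]
variable (𝒰 : ℤ → AddSubgroup H) [DirectSum.Decomposition 𝒰] [SetLike.GradedSMul 𝒜 𝒰]

/-- **Core of the perfect pairing**: a functional `ℓ` supported on `𝒰 0`, injective there, such
that `(u, d) ↦ ℓ (u • d)` is a perfect pairing `𝒜 j × 𝒰 (-j) → k` for every `j ≥ 0`. -/
theorem exists_perfect_functional (hfin : ∀ j, Module.Finite k (subK k 𝒜 j))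
    (hQ : ∃ x₀ ∈ 𝒰 0, x₀ ≠ 0 ∧ ∀ x ∈ 𝒰 0, ∃ a : k, x = a • x₀)
    (hP1 : ∀ j : ℤ, 0 ≤ j → ∀ d ∈ 𝒰 (-j), (∀ u ∈ 𝒜 j, u • d = 0) → d = 0)
    (hP2 : ∀ j : ℤ, 0 ≤ j → ∀ u ∈ 𝒜 j, (∀ d ∈ 𝒰 (-j), u • d = 0) → u = 0) :
    ∃ ℓ : H →ₗ[k] k, (∀ n, n ≠ 0 → ∀ x ∈ 𝒰 n, ℓ x = 0) ∧ (∀ x ∈ 𝒰 0, ℓ x = 0 → x = 0) ∧
      (∀ j : ℤ, 0 ≤ j → ∀ g : R →ₗ[k] k, ∃ d ∈ 𝒰 (-j), ∀ u ∈ 𝒜 j, ℓ (u • d) = g u) ∧
      (∀ j : ℤ, 0 ≤ j → ∀ g : H →ₗ[k] k, ∃ u ∈ 𝒜 j, ∀ d ∈ 𝒰 (-j), ℓ (u • d) = g d) := by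
  haveI : IsKGr k 𝒰 := isKGr_of_gradedSMul 𝒜 𝒰
  obtain ⟨x₀, hx₀, hx₀0, hspan⟩ := hQ
  obtain ⟨g₀, hg₀⟩ : ∃ g : Module.Dual k H, g x₀ ≠ 0 := by
    by_contra hcon
    push Not at hcon
    exact hx₀0 ((Module.forall_dual_apply_eq_zero_iff k x₀).mp hcon)
  let ℓ : H →ₗ[k] k := g₀ ∘ₗ projK k 𝒰 0
  have hℓ0 : ∀ x ∈ 𝒰 0, ℓ x = g₀ x := by
    intro x hx
    change g₀ (projK k 𝒰 0 x) = g₀ x
    rw [projK_of_mem k 𝒰 hx]
  have hℓne : ∀ n, n ≠ 0 → ∀ x ∈ 𝒰 n, ℓ x = 0 := by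
    intro n hn x hx
    change g₀ (projK k 𝒰 0 x) = 0
    rw [projK_of_mem_ne k 𝒰 hx (Ne.symm hn), map_zero]
  have hℓinj : ∀ x ∈ 𝒰 0, ℓ x = 0 → x = 0 := by
    intro x hx hx0
    obtain ⟨a, rfl⟩ := hspan x hx
    rw [hℓ0 _ hx, map_smul, smul_eq_mul] at hx0
    rcases mul_eq_zero.mp hx0 with h | h
    · rw [h, zero_smul]
    · exact absurd h hg₀
  have hmem0 : ∀ (j : ℤ) (u : R) (d : H), u ∈ 𝒜 j → d ∈ 𝒰 (-j) → u • d ∈ 𝒰 0 := by
    intro j u d hu hd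
    have := SetLike.GradedSMul.smul_mem (A := 𝒜) (B := 𝒰) hu hd
    rwa [vadd_eq_add, add_neg_cancel] at this
  -- the two restricted maps
  have key : ∀ j : ℤ, 0 ≤ j →
      (∀ g : Module.Dual k (subK k 𝒜 j), ∃ d : subK k 𝒰 (-j), ∀ u : subK k 𝒜 j,
        ℓ ((u : R) • (d : H)) = g u) ∧
      (∀ g : Module.Dual k (subK k 𝒰 (-j)), ∃ u : subK k 𝒜 j, ∀ d : subK k 𝒰 (-j),
        ℓ ((u : R) • (d : H)) = g d) := by
    intro j hj
    haveI := hfin j
    let Θ : subK k 𝒰 (-j) →ₗ[k] Module.Dual k (subK k 𝒜 j) :=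
      { toFun := fun d =>
          { toFun := fun u => ℓ ((u : R) • (d : H))
            map_add' := fun u u' => by
              rw [Submodule.coe_add, add_smul, map_add]
            map_smul' := fun a u => by
              rw [Submodule.coe_smul, smul_assoc, map_smul, RingHom.id_apply] }
        map_add' := fun d d' => by
          apply LinearMap.ext
          intro u
          change ℓ ((u : R) • ((d + d' : subK k 𝒰 (-j)) : H)) = ℓ ((u : R) • (d : H)) +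
            ℓ ((u : R) • (d' : H))
          rw [Submodule.coe_add, smul_add, map_add]
        map_smul' := fun a d => by
          apply LinearMap.ext
          intro u
          change ℓ ((u : R) • ((a • d : subK k 𝒰 (-j)) : H)) = a • ℓ ((u : R) • (d : H))
          rw [Submodule.coe_smul, smul_comm, map_smul] }
    let Θ' : subK k 𝒜 j →ₗ[k] Module.Dual k (subK k 𝒰 (-j)) :=
      { toFun := fun u =>
          { toFun := fun d => ℓ ((u : R) • (d : H))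
            map_add' := fun d d' => by
              rw [Submodule.coe_add, smul_add, map_add]
            map_smul' := fun a d => by
              rw [Submodule.coe_smul, smul_comm, map_smul, RingHom.id_apply] }
        map_add' := fun u u' => by
          apply LinearMap.ext
          intro d
          change ℓ (((u + u' : subK k 𝒜 j) : R) • (d : H)) = ℓ ((u : R) • (d : H)) +
            ℓ ((u' : R) • (d : H))
          rw [Submodule.coe_add, add_smul, map_add]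
        map_smul' := fun a u => by
          apply LinearMap.ext
          intro d
          change ℓ (((a • u : subK k 𝒜 j) : R) • (d : H)) = a • ℓ ((u : R) • (d : H))
          rw [Submodule.coe_smul, smul_assoc, map_smul] }
    have hΘ : Function.Injective Θ := by
      rw [injective_iff_map_eq_zero]
      intro d hd
      apply Subtype.ext
      apply hP1 j hj d.1 d.2
      intro u hu
      apply hℓinj _ (hmem0 j u d.1 hu d.2)
      exact LinearMap.congr_fun hd ⟨u, hu⟩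
    have hΘ' : Function.Injective Θ' := by
      rw [injective_iff_map_eq_zero]
      intro u hu
      apply Subtype.ext
      apply hP2 j hj u.1 u.2
      intro d hd
      apply hℓinj _ (hmem0 j u.1 d u.2 hd)
      exact LinearMap.congr_fun hu ⟨d, hd⟩
    haveI : Module.Finite k (subK k 𝒰 (-j)) := Module.Finite.of_injective Θ hΘ
    have h1 : Module.finrank k (subK k 𝒰 (-j)) ≤ Module.finrank k (subK k 𝒜 j) := by
      have := LinearMap.finrank_le_finrank_of_injective hΘ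
      rwa [Subspace.dual_finrank_eq] at this
    have h2 : Module.finrank k (subK k 𝒜 j) ≤ Module.finrank k (subK k 𝒰 (-j)) := by
      have := LinearMap.finrank_le_finrank_of_injective hΘ'
      rwa [Subspace.dual_finrank_eq] at this
    have h3 : Module.finrank k (subK k 𝒰 (-j)) = Module.finrank k (subK k 𝒜 j) :=
      le_antisymm h1 h2
    have hΘs : Function.Surjective Θ :=
      (LinearMap.injective_iff_surjective_of_finrank_eq_finrank
        (by rw [Subspace.dual_finrank_eq]; exact h3)).mp hΘ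
    have hΘ's : Function.Surjective Θ' :=
      (LinearMap.injective_iff_surjective_of_finrank_eq_finrank
        (by rw [Subspace.dual_finrank_eq]; exact h3.symm)).mp hΘ'
    constructor
    · intro g
      obtain ⟨d, hd⟩ := hΘs g
      exact ⟨d, fun u => LinearMap.congr_fun hd u⟩
    · intro g
      obtain ⟨u, hu⟩ := hΘ's g
      exact ⟨u, fun d => LinearMap.congr_fun hu d⟩
  refine ⟨ℓ, hℓne, hℓinj, ?_, ?_⟩
  · intro j hj g
    obtain ⟨d, hd⟩ := (key j hj).1 (g.comp (subK k 𝒜 j).subtype)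
    exact ⟨d.1, d.2, fun u hu => hd ⟨u, hu⟩⟩
  · intro j hj g
    obtain ⟨u, hu⟩ := (key j hj).2 (g.comp (subK k 𝒰 (-j)).subtype)
    exact ⟨u.1, u.2, fun d hd => hu ⟨d, hd⟩⟩

/-- **A graded dual from a perfect multiplication pairing.** -/
theorem exists_gdual_of_perfect (hpos : ∀ n : ℤ, n < 0 → 𝒜 n = ⊥)
    (hfin : ∀ j, Module.Finite k (subK k 𝒜 j))
    (hQ : ∃ x₀ ∈ 𝒰 0, x₀ ≠ 0 ∧ ∀ x ∈ 𝒰 0, ∃ a : k, x = a • x₀)
    (hP1 : ∀ j : ℤ, 0 ≤ j → ∀ d ∈ 𝒰 (-j), (∀ u ∈ 𝒜 j, u • d = 0) → d = 0)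
    (hP2 : ∀ j : ℤ, 0 ≤ j → ∀ u ∈ 𝒜 j, (∀ d ∈ 𝒰 (-j), u • d = 0) → u = 0)
    (hvan : ∀ n : ℤ, 0 < n → 𝒰 n = ⊥) :
    ∃ β : H →ₗ[k] R →ₗ[k] k, IsGDual R 𝒜 𝒰 β := by
  obtain ⟨ℓ, hℓne, hℓinj, hS1, -⟩ := exists_perfect_functional 𝒰 hfin hQ hP1 hP2
  let β : H →ₗ[k] R →ₗ[k] k := LinearMap.mk₂ k (fun d u => ℓ (u • d))
    (fun d d' u => by rw [smul_add, map_add])
    (fun a d u => by rw [smul_comm, map_smul])
    (fun d u u' => by rw [add_smul, map_add])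
    (fun a d u => by rw [smul_assoc, map_smul])
  have hβ : ∀ d u, β d u = ℓ (u • d) := fun d u => rfl
  refine ⟨β, ?_, ?_, ?_, ?_⟩
  · intro r d x
    rw [hβ, hβ, smul_smul, smul_eq_mul, ← smul_smul, smul_smul, mul_comm]
  · intro n d hd m hm x hx
    rw [hβ]
    have h1 := SetLike.GradedSMul.smul_mem (A := 𝒜) (B := 𝒰) hx hd
    rw [vadd_eq_add] at h1
    exact hℓne (m + n) (fun e => hm (by omega)) _ h1
  · intro n d hd hx
    by_cases hn : 0 < n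
    · have := hvan n hn
      rw [this, AddSubgroup.mem_bot] at hd
      exact hd
    · have hj : 0 ≤ -n := by omega
      have hd' : d ∈ 𝒰 (-(-n)) := by rwa [neg_neg]
      apply hP1 (-n) hj d hd'
      intro u hu
      have h1 := SetLike.GradedSMul.smul_mem (A := 𝒜) (B := 𝒰) hu hd
      rw [vadd_eq_add, neg_add_cancel] at h1
      apply hℓinj _ h1
      exact hx u hu
  · intro n g
    by_cases hn : 0 < n
    · refine ⟨0, zero_mem _, fun x hx => ?_⟩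
      rw [hpos (-n) (by omega), AddSubgroup.mem_bot] at hx
      rw [hx, map_zero, map_zero]
    · have hj : 0 ≤ -n := by omega
      obtain ⟨d, hd, hdu⟩ := hS1 (-n) hj g
      rw [neg_neg] at hd
      exact ⟨d, hd, fun u hu => hdu u hu⟩

end Single

end Groth.Agent.Lib.Helper11.Seg
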