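import Groth.Agent.Lib.Helper11.GrSegInvB
import Groth.Agent.Lib.Helper11.GrCanF

/-!
# Vanishing of the top local cohomology above the degree of a perfect multiplication pairing
-/

set_option autoImplicit false
set_option linter.unusedSectionVars false
set_option linter.unusedVariables false
set_option linter.style.haveILetI false
set_option maxHeartbeats 1000000
universe u

open scoped TensorProduct

namespace Groth.Agent.Lib.Helper11.GrCan

open DirectSum GrLC GrSeg Groth.Agent.Lib.Helper11.GrLCLib Groth.Agent.Lib.Helper11.GrDual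
  Groth.Agent.Lib.Helper11.GrExt Groth.Agent.Lib.Helper11.GrField Groth.Agent.Lib.Helper11.GrLes
  Groth.Agent.Lib.Helper11.GrShift

variable {R : Type u} [CommRing R] {𝒜 : ℤ → AddSubgroup R} [GradedRing 𝒜]
variable {k : Type u} [Field k] [Algebra k R] (hk : IsBase 𝒜 k)

include hk in
/-- If multiplication induces perfect pairings `R_j × H_{c-j} → H_c ≅ k` for all `j ≥ 0` on the
top local cohomology `H` of a graded ring with `H^1 = 0` and `dim ≥ 1`, then `H` vanishes above
degree `c`. -/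
theorem Hgr_eq_bot_above [IsNoetherianRing R] [Nontrivial R] [Groth.Agent.Lib.Helper11.Seg.IsKAlgGr k 𝒜]
    (hpos : ∀ n : ℤ, n < 0 → 𝒜 n = ⊥) (m : HomogeneousIdeal 𝒜) [hmax : m.toIdeal.IsMaximal]
    (hmsp : m.toIdeal = Ideal.span (⋃ n ∈ Set.Ioi (0 : ℤ), (𝒜 n : Set R)))
    (n : ℕ) (hn : ringKrullDim R = n) (hn1 : 1 ≤ n) (I : StarInjRes 𝒜 𝒜)
    (hI1 : Subsingleton (I.H m 1))
    [Module k (I.H m n)] [IsScalarTower k R (I.H m n)] [DirectSum.Decomposition (I.Hgr m n)]
    [SetLike.GradedSMul 𝒜 (I.Hgr m n)]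
    (c : ℤ) [DirectSum.Decomposition (shiftGr (I.Hgr m n) c)]
    (hfin : ∀ j, Module.Finite k (Groth.Agent.Lib.Helper11.Seg.subK k 𝒜 j))
    (hQ : ∃ x₀ ∈ shiftGr (I.Hgr m n) c 0, x₀ ≠ 0 ∧
      ∀ x ∈ shiftGr (I.Hgr m n) c 0, ∃ a : k, x = a • x₀)
    (hP1 : ∀ j : ℤ, 0 ≤ j → ∀ d ∈ shiftGr (I.Hgr m n) c (-j), (∀ u ∈ 𝒜 j, u • d = 0) → d = 0)
    (hP2 : ∀ j : ℤ, 0 ≤ j → ∀ u ∈ 𝒜 j, (∀ d ∈ shiftGr (I.Hgr m n) c (-j), u • d = 0) → u = 0) :
    ∀ j : ℤ, 0 < j → shiftGr (I.Hgr m n) c j = ⊥ := by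
  classical
  obtain ⟨ℓ, hℓne, hℓinj, -, hS2⟩ :=
    Groth.Agent.Lib.Helper11.Seg.exists_perfect_functional (shiftGr (I.Hgr m n) c) hfin hQ hP1 hP2
  -- hull and canonical module
  obtain ⟨Xh, e, he⟩ := Groth.Agent.Lib.Helper11.Seg.exists_hull_quot 𝒜 m
  letI : Module k Xh.carrier := Module.compHom _ (algebraMap k R)
  haveI : IsScalarTower k R Xh.carrier := IsScalarTower.of_algebraMap_smul (fun r x => rfl)
  obtain ⟨X, hX⟩ := exists_isStarCanonical hk Xh.gr hpos m hmsp e he n I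
  letI : Module k X.carrier := Module.compHom _ (algebraMap k R)
  haveI : IsScalarTower k R X.carrier := IsScalarTower.of_algebraMap_smul (fun r x => rfl)
  obtain ⟨β, hβ⟩ := exists_pairing_canonical hk Xh.gr X.gr hpos m hmsp e he n I hX
  have hΓ : gam m.toIdeal X.carrier = ⊥ :=
    gam_canonical_eq_bot hk Xh.gr X.gr hpos m hmsp e he n hn hn1 I hX
  -- the generator
  obtain ⟨ξ, hξ, hξβ⟩ := hβ.exists_eq (-c) ℓ
  have hξall : ∀ h, β ξ h = ℓ h := by
    intro h
    induction h using DirectSum.Decomposition.inductionOn (I.Hgr m n) with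
    | zero => rw [map_zero, map_zero]
    | @homogeneous d h =>
      by_cases hd : d = c
      · subst hd
        exact hξβ h (by rw [neg_neg]; exact h.2)
      · rw [hβ.vanish (-c) ξ hξ d (by rw [neg_neg]; exact hd) h h.2]
        symm
        apply hℓne (d - c) (sub_ne_zero.mpr hd)
        change (h : I.H m n) ∈ I.Hgr m n (d - c + c)
        rw [sub_add_cancel]
        exact h.2
    | add h h' ih ih' => rw [map_add, map_add, ih, ih']
  let f : R →ₗ[R] X.carrier := LinearMap.toSpanSingleton R X.carrier ξ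
  have hf : ∀ u, f u = u • ξ := fun u => rfl
  have hfβ : ∀ u h, β (f u) h = ℓ (u • h) := by
    intro u h
    rw [hf, hβ.map_smul, hξall]
  letI dRc : DirectSum.Decomposition (shiftGr 𝒜 c) := shiftDecomposition 𝒜 c
  have hfgr : IsGrHom (shiftGr 𝒜 c) X.gr f := by
    intro j u hu
    have h1 := SetLike.GradedSMul.smul_mem (A := 𝒜) (B := X.gr) hu hξ
    rw [vadd_eq_add, add_neg_cancel_right] at h1
    exact h1
  have hmem0 : ∀ (j : ℤ) (u : R) (d : I.H m n), u ∈ 𝒜 j → d ∈ shiftGr (I.Hgr m n) c (-j) →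
      u • d ∈ shiftGr (I.Hgr m n) c 0 := by
    intro j u d hu hd
    have := SetLike.GradedSMul.smul_mem (A := 𝒜) (B := shiftGr (I.Hgr m n) c) hu hd
    rwa [vadd_eq_add, add_neg_cancel] at this
  have hfi : Function.Injective f := by
    rw [injective_iff_map_eq_zero]
    intro u hu
    have hcomp : ∀ j, (decompose (shiftGr 𝒜 c) u j : R) = 0 := by
      intro j
      have hujm : (decompose (shiftGr 𝒜 c) u j : R) ∈ 𝒜 (j + c) :=
        SetLike.coe_mem (decompose (shiftGr 𝒜 c) u j)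
      have hfuj : f (decompose (shiftGr 𝒜 c) u j : R) = 0 := by
        have := decompose_map (shiftGr 𝒜 c) X.gr hfgr u j
        rw [← this, hu, decompose_zero, DirectSum.zero_apply, ZeroMemClass.coe_zero]
      by_cases hjc : j + c < 0
      · have := hpos (j + c) hjc
        rw [this, AddSubgroup.mem_bot] at hujm
        exact hujm
      · apply hP2 (j + c) (by omega) _ hujm
        intro d hd
        apply hℓinj _ (hmem0 (j + c) _ d hujm hd)
        rw [← hfβ, hfuj, map_zero, LinearMap.zero_apply]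
    rw [← DirectSum.sum_support_decompose (shiftGr 𝒜 c) u]
    exact Finset.sum_eq_zero (fun j _ => hcomp j)
  have hrange : ∀ n', -c ≤ n' → ∀ z ∈ X.gr n', z ∈ LinearMap.range f := by
    intro n' hn' z hz
    have hj : 0 ≤ n' + c := by omega
    obtain ⟨u, hu, hud⟩ := hS2 (n' + c) hj (β z)
    refine ⟨u, ?_⟩
    have hfu : f u ∈ X.gr n' := hfgr n' u hu
    have h0 : f u - z = 0 := by
      apply hβ.eq_zero n' (f u - z) (sub_mem hfu hz)
      intro h hh
      rw [map_sub, LinearMap.sub_apply, hfβ, sub_eq_zero]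
      apply hud
      change h ∈ I.Hgr m n (-(n' + c) + c)
      have e1 : -(n' + c) + c = -n' := by ring
      rw [e1]
      exact hh
    exact sub_eq_zero.mp h0
  -- the contradiction
  intro j hj
  by_contra hne
  obtain ⟨x, hx, hx0⟩ : ∃ x ∈ shiftGr (I.Hgr m n) c j, x ≠ 0 := by
    by_contra hcon
    push Not at hcon
    apply hne
    rw [eq_bot_iff]
    intro x hx
    exact (AddSubgroup.mem_bot).mpr (hcon x hx)
  obtain ⟨g, hg⟩ : ∃ g : Module.Dual k (I.H m n), g x ≠ 0 := by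
    by_contra hcon
    push Not at hcon
    exact hx0 ((Module.forall_dual_apply_eq_zero_iff k x).mp hcon)
  obtain ⟨z, hz, hzg⟩ := hβ.exists_eq (-(j + c)) g
  have hz0 : z ≠ 0 := by
    intro h0
    apply hg
    rw [← hzg x (by rw [neg_neg]; exact hx), h0, map_zero, LinearMap.zero_apply]
  have hS : ∃ n₁ : ℤ, (n₁ < -c ∧ X.gr n₁ ≠ ⊥) ∧ ∀ n', (n' < -c ∧ X.gr n' ≠ ⊥) → n' ≤ n₁ := by
    apply Int.exists_greatest_of_bdd (P := fun n' => n' < -c ∧ X.gr n' ≠ ⊥)
    · exact ⟨-c, fun n' hn' => hn'.1.le⟩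
    · refine ⟨-(j + c), by omega, fun hbot => hz0 ?_⟩
      rw [hbot, AddSubgroup.mem_bot] at hz
      exact hz
  obtain ⟨n₁, ⟨hn₁, hn₁ne⟩, hmaxn⟩ := hS
  obtain ⟨z₁, hz₁, hz₁0⟩ : ∃ z₁ ∈ X.gr n₁, z₁ ≠ 0 := by
    by_contra hcon
    push Not at hcon
    apply hn₁ne
    rw [eq_bot_iff]
    intro x hx
    exact (AddSubgroup.mem_bot).mpr (hcon x hx)
  have hmz : ∀ r ∈ m.toIdeal, r • z₁ ∈ LinearMap.range f := by
    intro r hr
    rw [hmsp] at hr
    induction hr using Submodule.span_induction with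
    | mem r hr =>
      simp only [Set.mem_iUnion, Set.mem_Ioi] at hr
      obtain ⟨i, hi, hri⟩ := hr
      have hmem : r • z₁ ∈ X.gr (i + n₁) := by
        have := SetLike.GradedSMul.smul_mem (A := 𝒜) (B := X.gr) hri hz₁
        rwa [vadd_eq_add] at this
      by_cases h1 : -c ≤ i + n₁
      · exact hrange _ h1 _ hmem
      · have hbot : X.gr (i + n₁) = ⊥ := by
          by_contra hne'
          have := hmaxn (i + n₁) ⟨by omega, hne'⟩
          omega
        rw [hbot, AddSubgroup.mem_bot] at hmem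
        rw [hmem]
        exact zero_mem _
    | zero => rw [zero_smul]; exact zero_mem _
    | add r r' _ _ h h' => rw [add_smul]; exact add_mem h h'
    | smul a r _ h => rw [smul_eq_mul, mul_smul]; exact Submodule.smul_mem _ a h
  -- the quotient and the long exact sequence
  have hfr : (LinearMap.range f).IsHomogeneous X.gr := range_isHomogeneous (shiftGr 𝒜 c) X.gr hfgr
  letI := quotDecomposition X.gr (LinearMap.range f) hfr
  let v : X.carrier →ₗ[R] (X.carrier ⧸ LinearMap.range f) := (LinearMap.range f).mkQ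
  have hv : IsGrHom X.gr (quotGrM X.gr (LinearMap.range f)) v := mkQ_isGrHom X.gr (LinearMap.range f)
  have hvs : Function.Surjective v := Submodule.mkQ_surjective _
  have hex : LinearMap.ker v = LinearMap.range f := Submodule.ker_mkQ _
  obtain ⟨E⟩ := nonempty_starInjRes 𝒜 X.gr
  obtain ⟨E''⟩ := nonempty_starInjRes 𝒜 (quotGrM X.gr (LinearMap.range f))
  obtain ⟨cu, hcu, hlu⟩ := exists_cmap (shiftRes I c) E f 0
    ((isGrHomDeg_zero_iff (shiftGr 𝒜 c) X.gr).mpr hfgr)
  obtain ⟨cv, hcv, hlv⟩ := exists_cmap E E'' v 0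
    ((isGrHomDeg_zero_iff X.gr (quotGrM X.gr (LinearMap.range f))).mpr hv)
  obtain ⟨γ, -, -, ex2, -, -⟩ := exists_les (shiftRes I c) E E'' f v hfgr hv hfi hvs hex m cu hcu hlu
    cv hcv hlv
  have hE0 : Subsingleton (E.H m 0) := by
    have h1 : Subsingleton ↥(gam m.toIdeal X.carrier) := by
      refine ⟨fun a b => ?_⟩
      apply Subtype.ext
      have ha : (a : X.carrier) = 0 := (Submodule.mem_bot R).mp (hΓ.le a.2)
      have hb : (b : X.carrier) = 0 := (Submodule.mem_bot R).mp (hΓ.le b.2)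
      rw [ha, hb]
    exact (Groth.Agent.Lib.Helper11.Seg.h0Equiv E m).symm.injective.subsingleton
  have hE'1 : Subsingleton ((shiftRes I c).H m 1) := (shiftResH I c m 1).injective.subsingleton
  have hE''0 : ∀ y : E''.H m 0, y = 0 := by
    intro y
    have h1 : γ 0 y = 0 := hE'1.elim _ _
    obtain ⟨x, rfl⟩ := (ex2 0 y).mp h1
    rw [hE0.elim x 0, map_zero]
  have hzq : v z₁ ∈ gam m.toIdeal (X.carrier ⧸ LinearMap.range f) := by
    refine ⟨1, fun r hr => ?_⟩
    rw [pow_one] at hr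
    rw [← map_smul]
    exact (Submodule.Quotient.mk_eq_zero _).mpr (hmz r hr)
  have hvz : v z₁ = 0 := by
    have h1 := hE''0 (Groth.Agent.Lib.Helper11.Seg.h0Equiv E'' m ⟨v z₁, hzq⟩)
    have h2 := (Groth.Agent.Lib.Helper11.Seg.h0Equiv E'' m).injective (h1.trans (map_zero _).symm)
    exact congrArg Subtype.val h2
  have hz₁r : z₁ ∈ LinearMap.range f := by
    rw [← hex]
    exact hvz
  obtain ⟨u, hu⟩ := hz₁r
  have hdm := decompose_map (shiftGr 𝒜 c) X.gr hfgr u n₁
  rw [hu, decompose_of_mem_same X.gr hz₁] at hdm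
  have hu0 : (decompose (shiftGr 𝒜 c) u n₁ : R) = 0 := by
    have hm' : (decompose (shiftGr 𝒜 c) u n₁ : R) ∈ 𝒜 (n₁ + c) := SetLike.coe_mem _
    rw [hpos (n₁ + c) (by omega), AddSubgroup.mem_bot] at hm'
    exact hm'
  rw [hu0, map_zero] at hdm
  exact hz₁0 hdm

end Groth.Agent.Lib.Helper11.GrCan
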