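import Groth.Agent.Lib.Helper11.GrStd
import Groth.Prelude.Def_GrLC

/-!
# Torsion criteria in standard graded rings
-/

set_option autoImplicit false
set_option linter.unusedSectionVars false
set_option linter.unusedVariables false
universe u

namespace Groth.Agent.Lib.Helper11.GrStd

open GrLC

variable {R : Type u} [CommRing R] (𝒜 : ℤ → AddSubgroup R) [GradedRing 𝒜]
variable {T : Type u} [AddCommGroup T] [Module R T]

/-- if `t` is killed by all pieces of degree `≥ K`, it is killed by `m^K`. -/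
theorem smul_eq_zero_of_mem_pow (m : HomogeneousIdeal 𝒜)
    (hmsp : m.toIdeal = Ideal.span (⋃ n ∈ Set.Ioi (0 : ℤ), (𝒜 n : Set R))) :
    ∀ (K : ℕ) (t : T), (∀ i : ℤ, (K : ℤ) ≤ i → ∀ y ∈ 𝒜 i, y • t = 0) →
      ∀ y ∈ m.toIdeal ^ K, y • t = 0 := by
  intro K
  induction K with
  | zero =>
    intro t ht y _
    have h1 : (1 : R) • t = 0 := ht 0 (by simp) 1 SetLike.GradedOne.one_mem
    rw [one_smul] at h1
    rw [h1, smul_zero]
  | succ K ih =>
    intro t ht y hy
    rw [pow_succ] at hy
    refine Submodule.mul_induction_on hy ?_ ?_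
    · intro v hv u hu
      rw [mul_smul]
      apply ih (u • t) _ v hv
      intro i hi z hz
      rw [hmsp] at hu
      refine Submodule.span_induction ?_ ?_ ?_ ?_ hu
      · intro w hw
        simp only [Set.mem_iUnion, Set.mem_Ioi, SetLike.mem_coe, exists_prop] at hw
        obtain ⟨j, hj, hwj⟩ := hw
        rw [← mul_smul]
        apply ht (i + j) (by push_cast; omega)
        exact SetLike.GradedMul.mul_mem hz hwj
      · rw [zero_smul, smul_zero]
      · intro a b _ _ ha hb
        rw [add_smul, smul_add, ha, hb, add_zero]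
      · intro c a _ ha
        rw [smul_eq_mul, mul_smul, smul_comm, ha, smul_zero]
    · intro a b ha hb
      rw [add_smul, ha, hb, add_zero]

/-- In a standard graded ring, an element killed by the piece of degree `N` is `m`-torsion. -/
theorem mem_gam_of_piece_smul_eq_zero
    (hstd : Ideal.span (⋃ n ∈ Set.Ioi (0 : ℤ), (𝒜 n : Set R)) =
      Ideal.span ((𝒜 1 : AddSubgroup R) : Set R))
    (m : HomogeneousIdeal 𝒜)
    (hmsp : m.toIdeal = Ideal.span (⋃ n ∈ Set.Ioi (0 : ℤ), (𝒜 n : Set R)))
    (N : ℕ) (t : T) (h : ∀ y ∈ 𝒜 (N : ℤ), y • t = 0) : t ∈ gam m.toIdeal T := by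
  refine ⟨N, smul_eq_zero_of_mem_pow 𝒜 m hmsp N t ?_⟩
  intro i hi y hy
  have hy' : y ∈ 𝒜 (i - N + (N : ℤ)) := by rwa [sub_add_cancel]
  have h1 := mem_prodGrp_add 𝒜 hstd N (i - N) (by omega) y hy'
  unfold prodGrp at h1
  clear hy hy'
  induction h1 using AddSubgroup.closure_induction with
  | mem z hz =>
    obtain ⟨u, hu, v, hv, rfl⟩ := hz
    rw [mul_smul, h v hv, smul_zero]
  | zero => rw [zero_smul]
  | add a b _ _ ha hb => rw [add_smul, ha, hb, add_zero]
  | neg a _ ha => rw [neg_smul, ha, neg_zero]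

end Groth.Agent.Lib.Helper11.GrStd
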