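import Groth.Agent.Lib.Helper11.GrSegConvB
import Groth.Agent.Lib.Helper11.GrStdB

/-!
# Standard graded algebras of positive dimension have no vanishing pieces; `endDeg < 0`
-/

set_option autoImplicit false
set_option linter.unusedSectionVars false
set_option linter.unusedVariables false
set_option linter.style.haveILetI false
universe u

namespace Groth.Agent.Lib.Helper11.Seg

open DirectSum GrLC Groth.Agent.Lib.Helper11.GrLCLib Groth.Agent.Lib.Helper11.GrConv

attribute [local instance] convGradedRing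

section Std

variable {k : Type u} [Field k] {R : Type u} [CommRing R] [Algebra k R]
variable (𝒜 : ℤ → Submodule k R) [GradedAlgebra 𝒜]

/-- a standard graded algebra of positive dimension is nonzero in every nonnegative degree. -/
theorem piece_ne_bot_of_std (hposR : ∀ n : ℤ, n < 0 → 𝒜 n = ⊥)
    (h0R : 𝒜 0 = Submodule.span k {(1 : R)})
    (hstdR : Ideal.span (⋃ n ∈ Set.Ioi (0 : ℤ), (𝒜 n : Set R)) =
      Ideal.span ((𝒜 1 : Submodule k R) : Set R))
    (r : ℕ) (hr : ringKrullDim R = r) (h1r : 1 ≤ r) (n : ℤ) (hn : 0 ≤ n) : 𝒜 n ≠ ⊥ := by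
  intro hbot
  haveI : Nontrivial R := by
    by_contra h
    rw [not_nontrivial_iff_subsingleton] at h
    rw [ringKrullDim_eq_bot_of_subsingleton] at hr
    exact absurd hr (by simp)
  obtain ⟨N, rfl⟩ := Int.eq_ofNat_of_zero_le hn
  let m : HomogeneousIdeal (conv 𝒜) := Groth.Agent.Lib.Helper11.GrField.irrelevant (conv 𝒜)
  have hmax : m.toIdeal.IsMaximal :=
    Groth.Agent.Lib.Helper11.GrField.isMaximal_irrelevant' (isBase_conv 𝒜 h0R) (hpos_conv 𝒜 hposR)
      m rfl
  have h1 : (1 : R) ∈ gam m.toIdeal R := by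
    refine Groth.Agent.Lib.Helper11.GrStd.mem_gam_of_piece_smul_eq_zero (conv 𝒜) hstdR m rfl N 1 ?_
    intro y hy
    have hy' : y ∈ 𝒜 (N : ℤ) := hy
    rw [hbot, Submodule.mem_bot] at hy'
    rw [hy', zero_smul]
  obtain ⟨K, hK⟩ := h1
  have hpow : m.toIdeal ^ K = ⊥ := by
    rw [eq_bot_iff]
    intro x hx
    have := hK x hx
    rw [smul_eq_mul, mul_one] at this
    exact (Submodule.mem_bot R).mpr this
  have hdim0 : Ring.KrullDimLE 0 R := by
    rw [Ring.krullDimLE_zero_iff]
    intro p hp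
    have hle : m.toIdeal ≤ p := by
      apply hp.le_of_pow_le (n := K)
      rw [hpow]
      exact bot_le
    rw [← hmax.eq_of_le hp.ne_top hle]
    exact hmax
  rw [Ring.krullDimLE_iff, hr] at hdim0
  have : (r : WithBot ℕ∞) ≤ ((0 : ℕ) : WithBot ℕ∞) := hdim0
  have h2 : r ≤ 0 := by exact_mod_cast this
  omega

end Std

section EndDeg

variable {A : Type u} [AddCommGroup A]

theorem endDeg_lt_zero_iff (𝒳 : ℤ → AddSubgroup A) :
    endDeg 𝒳 < 0 ↔ ∀ n : ℤ, 0 ≤ n → 𝒳 n = ⊥ := by
  constructor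
  · intro h n hn
    by_contra hne
    have h1 : (((n : ℤ) : WithTop ℤ) : WithBot (WithTop ℤ)) ≤ endDeg 𝒳 := by
      unfold endDeg
      exact le_iSup₂ (f := fun (n : ℤ) (_ : 𝒳 n ≠ ⊥) => ((n : WithTop ℤ) : WithBot (WithTop ℤ))) n hne
    have h2 : (0 : WithBot (WithTop ℤ)) ≤ (((n : ℤ) : WithTop ℤ) : WithBot (WithTop ℤ)) := by
      exact_mod_cast hn
    exact absurd (lt_of_le_of_lt (h2.trans h1) h) (lt_irrefl _)
  · intro h
    have h1 : endDeg 𝒳 ≤ ((((-1 : ℤ)) : WithTop ℤ) : WithBot (WithTop ℤ)) := by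
      unfold endDeg
      refine iSup₂_le fun n hn => ?_
      have hlt : n < 0 := by
        by_contra hge
        exact hn (h n (not_lt.mp hge))
      have : n ≤ -1 := by omega
      exact_mod_cast this
    refine lt_of_le_of_lt h1 ?_
    have : ((-1 : ℤ)) < 0 := by omega
    exact_mod_cast this

end EndDeg

end Groth.Agent.Lib.Helper11.Seg
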