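import Groth.Agent.Lib.Helper11.GrSegInvC
import Groth.Agent.Lib.Helper11.GrSegStd

/-!
# A Gorenstein Segre product has Gorenstein factors with equal `a`-invariants (statement level)
-/

set_option autoImplicit false
set_option linter.unusedSectionVars false
set_option linter.unusedVariables false
set_option linter.style.haveILetI false
set_option maxHeartbeats 1000000
universe u

open scoped TensorProduct

namespace Groth.Agent.Lib.Helper11.Seg

open DirectSum GrLC GrSeg Groth.Agent.Lib.Helper11.GrLCLib Groth.Agent.Lib.Helper11.GrLes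
  Groth.Agent.Lib.Helper11.GrComp Groth.Agent.Lib.Helper11.GrVer Groth.Agent.Lib.Helper11.GrMV
  Groth.Agent.Lib.Helper11.GrConv Groth.Agent.Lib.Helper11.GrCan

attribute [local instance] convGradedRing

/-- A graded ring over a field whose (shifted) top local cohomology is a graded dual of the ring,
and whose other local cohomologies vanish, is Gorenstein. -/
theorem isGorensteinRing_of_gdual_top {k : Type u} [Field k] {R : Type u} [CommRing R] [Algebra k R]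
    (𝒜s : ℤ → Submodule k R) [GradedAlgebra 𝒜s] [IsNoetherianRing R]
    (m : HomogeneousIdeal (conv 𝒜s)) (hloc : IsStarLocal (conv 𝒜s) m)
    (I : StarInjRes (conv 𝒜s) (conv 𝒜s)) (q : ℕ) (hI : ∀ i, i ≠ q → Subsingleton (I.H m i))
    [Module k (I.H m q)] [IsScalarTower k R (I.H m q)] (c : ℤ)
    [DirectSum.Decomposition (shiftGr (I.Hgr m q) c)]
    [SetLike.GradedSMul (conv 𝒜s) (shiftGr (I.Hgr m q) c)]
    (β : I.H m q →ₗ[k] R →ₗ[k] k) (hβ : IsGDual R (conv 𝒜s) (shiftGr (I.Hgr m q) c) β) :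
    LocCoh.IsGorensteinRing R := by
  have hD' : IsGDual R 𝒜s (shiftGr (I.Hgr m q) c) β :=
    ⟨hβ.map_smul, hβ.vanish, hβ.eq_zero, hβ.exists_eq⟩
  haveI : SetLike.GradedSMul 𝒜s (shiftGr (I.Hgr m q) c) := unconvGradedSMul_left 𝒜s _
  have h0 : IsStarInj 𝒜s (shiftGr (I.Hgr m q) c) :=
    Groth.Agent.Lib.Helper11.GrDual.isStarInj_gdual 𝒜s _ _ hD'
  have h1 : IsStarInj (conv 𝒜s) (shiftGr (I.Hgr m q) c) := isStarInj_conv 𝒜s _ h0
  letI : DirectSum.Decomposition (shiftGr (shiftGr (I.Hgr m q) c) (-c)) :=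
    shiftDecomposition _ (-c)
  have h2 : IsStarInj (conv 𝒜s) (shiftGr (shiftGr (I.Hgr m q) c) (-c)) :=
    Groth.Agent.Lib.Helper11.GrGor.isStarInj_shift (conv 𝒜s) _ h1 (-c)
  let X : GMod.{u} (conv 𝒜s) :=
    GMod.of (conv 𝒜s) (I.H m q) (shiftGr (shiftGr (I.Hgr m q) c) (-c))
  refine Groth.Agent.Lib.Helper11.GrVan.isGorensteinRing_of_top_starInj' (conv 𝒜s) m hloc q I
    (fun i hi => hI i (by omega)) (fun i hi => hI i (by omega)) X (LinearEquiv.refl R _) h2 ?_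
  intro j x hx
  change x ∈ I.Hgr m q (j + -c + c)
  rwa [neg_add_cancel_right]

/-- **Gorenstein Segre products have Gorenstein factors with equal `a`-invariants.** -/
theorem segre_gorenstein_inv (k : Type u) [Field k] (R : Type u) [CommRing R] [Algebra k R]
    (𝒜 : ℤ → Submodule k R) [GradedAlgebra 𝒜] (hposR : ∀ n : ℤ, n < 0 → 𝒜 n = ⊥)
    (h0R : 𝒜 0 = Submodule.span k {(1 : R)}) [Algebra.FiniteType k R]
    (S : Type u) [CommRing S] [Algebra k S] (ℬ : ℤ → Submodule k S) [GradedAlgebra ℬ]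
    (hposS : ∀ n : ℤ, n < 0 → ℬ n = ⊥) (h0S : ℬ 0 = Submodule.span k {(1 : S)})
    [Algebra.FiniteType k S]
    (T : Type u) [CommRing T] [Algebra k T] (𝒯 : ℤ → Submodule k T) [GradedAlgebra 𝒯]
    (ψ : T →ₐ[k] R ⊗[k] S) (hψ : Function.Injective ψ)
    (hdegT : ∀ n : ℤ, (𝒯 n).map ψ.toLinearMap =
      Submodule.span k {x : R ⊗[k] S | ∃ a ∈ 𝒜 n, ∃ b ∈ ℬ n, x = a ⊗ₜ[k] b})
    [LocCoh.IsCohenMacaulayRing R] [LocCoh.IsCohenMacaulayRing S]
    (mR : HomogeneousIdeal 𝒜)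
    (hmR : mR.toIdeal = Ideal.span (⋃ n ∈ Set.Ioi (0 : ℤ), (𝒜 n : Set R)))
    (hstdR : Ideal.span (⋃ n ∈ Set.Ioi (0 : ℤ), (𝒜 n : Set R)) =
      Ideal.span ((𝒜 1 : Submodule k R) : Set R))
    (I : GrLC.StarInjRes 𝒜 𝒜) (mS : HomogeneousIdeal ℬ)
    (hmS : mS.toIdeal = Ideal.span (⋃ n ∈ Set.Ioi (0 : ℤ), (ℬ n : Set S)))
    (hstdS : Ideal.span (⋃ n ∈ Set.Ioi (0 : ℤ), (ℬ n : Set S)) =
      Ideal.span ((ℬ 1 : Submodule k S) : Set S))
    (J : GrLC.StarInjRes ℬ ℬ) (r s : ℕ) (hr : ringKrullDim R = r) (hs : ringKrullDim S = s)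
    (h2r : 2 ≤ r) (h2s : 2 ≤ s) [LocCoh.IsGorensteinRing T] :
    LocCoh.IsGorensteinRing R ∧ LocCoh.IsGorensteinRing S ∧
      GrLC.endDeg (I.Hgr mR r) = GrLC.endDeg (J.Hgr mS s) := by
  haveI : LocCoh.IsCohenMacaulayRing T :=
    Groth.Agent.Lib.Helper11.GrVer.isCohenMacaulayRing_of_isGorensteinRing T
  haveI : IsNoetherianRing R := Algebra.FiniteType.isNoetherianRing k R
  haveI : IsNoetherianRing S := Algebra.FiniteType.isNoetherianRing k S
  haveI : IsNoetherianRing (R ⊗[k] S) := noetherian_tensor (k := k) (R := R) (S := S)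
  haveI : Nontrivial R := nontrivial_of_ringKrullDim r hr
  haveI : Nontrivial S := nontrivial_of_ringKrullDim s hs
  haveI : IsKAlgGr k (conv 𝒜) := isKAlgGr_conv 𝒜
  haveI : IsKAlgGr k (conv ℬ) := isKAlgGr_conv ℬ
  haveI : IsKAlgGr k (conv 𝒯) := isKAlgGr_conv 𝒯
  have hseg : IsSeg (conv 𝒜) (conv ℬ) (conv 𝒯) ψ := isSeg_conv hψ hdegT
  haveI : IsNoetherianRing T := hseg.isVerRing.isNoetherianRing
  have hdimT := Groth.Agent.Lib.Helper20.SegreDim.ringKrullDim_segre 𝒜 ℬ 𝒯 ψ hψ hdegT hposR h0R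
    hposS h0S r s hr hs (by omega) (by omega)
  haveI : Nontrivial T := nontrivial_of_ringKrullDim (r + s - 1) hdimT
  have hposT := Groth.Agent.Lib.Helper20.SegreDim.hposT 𝒜 ℬ 𝒯 ψ hψ hdegT hposR
  have h0T := Groth.Agent.Lib.Helper20.SegreDim.h0T 𝒜 ℬ 𝒯 ψ hψ hdegT h0R h0S
  let mA := hidealConv 𝒜 mR
  let mB := hidealConv ℬ mS
  let mC : HomogeneousIdeal (conv 𝒯) := Groth.Agent.Lib.Helper11.GrField.irrelevant (conv 𝒯)
  have hlocR : IsStarLocal (conv 𝒜) mA := isStarLocal_conv_irr 𝒜 hposR h0R mA hmR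
  have hlocS : IsStarLocal (conv ℬ) mB := isStarLocal_conv_irr ℬ hposS h0S mB hmS
  have hlocT : IsStarLocal (conv 𝒯) mC := isStarLocal_conv_irr 𝒯 hposT h0T mC rfl
  haveI : mA.toIdeal.IsMaximal := by
    change mR.toIdeal.IsMaximal
    rw [hmR]
    exact Groth.Agent.Lib.Helper20.GradedNN.irr_isMaximal 𝒜 hposR h0R
  haveI : mB.toIdeal.IsMaximal := by
    change mS.toIdeal.IsMaximal
    rw [hmS]
    exact Groth.Agent.Lib.Helper20.GradedNN.irr_isMaximal ℬ hposS h0S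
  let I' := resConv 𝒜 𝒜 I
  let J' := resConv ℬ ℬ J
  obtain ⟨IT'⟩ := nonempty_starInjRes (conv 𝒯) (conv 𝒯)
  have hI : ∀ i, i ≠ r → Subsingleton (I'.H mA i) := fun i hi =>
    Groth.Agent.Lib.Helper11.GrCMGlob.subsingleton_H_of_ne_dim (conv 𝒜) (hpos_conv 𝒜 hposR) mA hlocR
      r hr I' i hi
  have hJ : ∀ j, j ≠ s → Subsingleton (J'.H mB j) := fun j hj =>
    Groth.Agent.Lib.Helper11.GrCMGlob.subsingleton_H_of_ne_dim (conv ℬ) (hpos_conv ℬ hposS) mB hlocS
      s hs J' j hj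
  have hhtT' : ∀ q : ℕ, ringKrullDim T = q → mC.toIdeal.height = q := by
    intro q hq
    have := ringKrullDim_eq_height (conv 𝒯) (hpos_conv 𝒯 hposT) hlocT
    rw [hq] at this
    exact_mod_cast this.symm
  have hhtT : mC.toIdeal.height = (r + s - 1 : ℕ) := hhtT' (r + s - 1) hdimT
  -- the module structures
  letI : Module k (I'.H mA r) := Module.compHom _ (algebraMap k R)
  haveI : IsScalarTower k R (I'.H mA r) := IsScalarTower.of_algebraMap_smul (fun r x => rfl)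
  letI : Module k (J'.H mB s) := Module.compHom _ (algebraMap k S)
  haveI : IsScalarTower k S (J'.H mB s) := IsScalarTower.of_algebraMap_smul (fun r x => rfl)
  letI : Module k (IT'.H mC (r + s - 1)) := Module.compHom _ (algebraMap k T)
  haveI : IsScalarTower k T (IT'.H mC (r + s - 1)) :=
    IsScalarTower.of_algebraMap_smul (fun r x => rfl)
  -- the pairing of `T`
  obtain ⟨c, hc, βT, hβT⟩ := exists_gdual_top_of_gorenstein (isBase_conv 𝒯 h0T)
    (hpos_conv 𝒯 hposT) mC rfl hlocT (r + s - 1) hhtT IT'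
  letI dR : DirectSum.Decomposition (I'.Hgr mA r) :=
    (Hgr_isInternal (conv 𝒜) (conv 𝒜) I' mA r).chooseDecomposition
  letI dS : DirectSum.Decomposition (J'.Hgr mB s) :=
    (Hgr_isInternal (conv ℬ) (conv ℬ) J' mB s).chooseDecomposition
  letI dT : DirectSum.Decomposition (IT'.Hgr mC (r + s - 1)) :=
    (Hgr_isInternal (conv 𝒯) (conv 𝒯) IT' mC (r + s - 1)).chooseDecomposition
  letI : DirectSum.Decomposition (shiftGr (I'.Hgr mA r) c) := shiftDecomposition _ c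
  letI : DirectSum.Decomposition (shiftGr (J'.Hgr mB s) c) := shiftDecomposition _ c
  letI : DirectSum.Decomposition (shiftGr (IT'.Hgr mC (r + s - 1)) c) := shiftDecomposition _ c
  haveI : SetLike.GradedSMul (conv 𝒜) (I'.Hgr mA r) := Hgr_gradedSMul I' mA r
  haveI : SetLike.GradedSMul (conv ℬ) (J'.Hgr mB s) := Hgr_gradedSMul J' mB s
  haveI : SetLike.GradedSMul (conv 𝒯) (IT'.Hgr mC (r + s - 1)) := Hgr_gradedSMul IT' mC (r + s - 1)
  haveI : IsKGr k (shiftGr (IT'.Hgr mC (r + s - 1)) c) := isKGr_of_gradedSMul (conv 𝒯) _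
  obtain ⟨φ', hφ'⟩ := exists_isSegreMod_top hseg mA mB mC hmR hmS rfl hseg.isSegreMod_self I' J' IT'
    r s h2r h2s hI hJ (r + s - 1) (by omega) c
  have hβ := hβT inferInstance
  -- nonvanishing of the pieces of `R`, `S`
  have hAne : ∀ j : ℤ, 0 ≤ j → ∃ u ∈ conv 𝒜 j, u ≠ 0 := by
    intro j hj
    have := piece_ne_bot_of_std 𝒜 hposR h0R hstdR r hr (by omega) j hj
    obtain ⟨u, hu, hu0⟩ := Submodule.exists_mem_ne_zero_of_ne_bot this
    exact ⟨u, hu, hu0⟩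
  have hBne : ∀ j : ℤ, 0 ≤ j → ∃ v ∈ conv ℬ j, v ≠ 0 := by
    intro j hj
    have := piece_ne_bot_of_std ℬ hposS h0S hstdS s hs (by omega) j hj
    obtain ⟨u, hu, hu0⟩ := Submodule.exists_mem_ne_zero_of_ne_bot this
    exact ⟨u, hu, hu0⟩
  have hT0 : ∀ t ∈ conv 𝒯 0, ∃ a : k, algebraMap k T a = t := fun t ht =>
    ((isBase_conv 𝒯 h0T) t).mp ht
  obtain ⟨hQR, hQS⟩ := top_one_dim hseg hφ' hβ hT0
  have hP1R : ∀ j : ℤ, 0 ≤ j → ∀ d ∈ shiftGr (I'.Hgr mA r) c (-j),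
      (∀ u ∈ conv 𝒜 j, u • d = 0) → d = 0 := by
    intro j hj d hd hud
    exact left_eq_zero_of_forall_smul hseg hφ' hβ (-j) (by rw [neg_neg]; exact hAne j hj)
      (by rw [neg_neg]; exact hBne j hj) hd (fun u hu => hud u (by rwa [neg_neg] at hu))
  have hP2R : ∀ j : ℤ, 0 ≤ j → ∀ u ∈ conv 𝒜 j,
      (∀ d ∈ shiftGr (I'.Hgr mA r) c (-j), u • d = 0) → u = 0 := by
    intro j hj u hu hud
    exact left_ring_eq_zero_of_forall_smul hseg hφ' hβ (-j) (by rw [neg_neg]; exact hBne j hj)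
      (by rwa [neg_neg]) hud
  have hP1S : ∀ j : ℤ, 0 ≤ j → ∀ d ∈ shiftGr (J'.Hgr mB s) c (-j),
      (∀ v ∈ conv ℬ j, v • d = 0) → d = 0 := by
    intro j hj d hd hud
    exact right_eq_zero_of_forall_smul hseg hφ' hβ (-j) (by rw [neg_neg]; exact hAne j hj)
      (by rw [neg_neg]; exact hBne j hj) hd (fun u hu => hud u (by rwa [neg_neg] at hu))
  have hP2S : ∀ j : ℤ, 0 ≤ j → ∀ v ∈ conv ℬ j,
      (∀ d ∈ shiftGr (J'.Hgr mB s) c (-j), v • d = 0) → v = 0 := by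
    intro j hj v hv hvd
    exact right_ring_eq_zero_of_forall_smul hseg hφ' hβ (-j) (by rw [neg_neg]; exact hAne j hj)
      (by rwa [neg_neg]) hvd
  have hfinR : ∀ j, Module.Finite k (subK k (conv 𝒜) j) := fun j => finite_piece_conv 𝒜 hposR h0R j
  have hfinS : ∀ j, Module.Finite k (subK k (conv ℬ) j) := fun j => finite_piece_conv ℬ hposS h0S j
  -- vanishing above `c`
  have hvanR := Hgr_eq_bot_above (isBase_conv 𝒜 h0R) (hpos_conv 𝒜 hposR) mA hmR r hr (by omega) I'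
    (hI 1 (by omega)) c hfinR hQR hP1R hP2R
  have hvanS := Hgr_eq_bot_above (isBase_conv ℬ h0S) (hpos_conv ℬ hposS) mB hmS s hs (by omega) J'
    (hJ 1 (by omega)) c hfinS hQS hP1S hP2S
  -- graded duals
  obtain ⟨βR, hβR⟩ := exists_gdual_of_perfect (shiftGr (I'.Hgr mA r) c) (hpos_conv 𝒜 hposR) hfinR hQR
    hP1R hP2R hvanR
  obtain ⟨βS, hβS⟩ := exists_gdual_of_perfect (shiftGr (J'.Hgr mB s) c) (hpos_conv ℬ hposS) hfinS hQS
    hP1S hP2S hvanS
  refine ⟨isGorensteinRing_of_gdual_top 𝒜 mA hlocR I' r hI c βR hβR,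
    isGorensteinRing_of_gdual_top ℬ mB hlocS J' s hJ c βS hβS, ?_⟩
  have h1 : endDeg (I'.Hgr mA r) = cc c := by
    apply endDeg_eq_of_isTopDeg
    constructor
    · obtain ⟨x₀, hx₀, hx₀0, -⟩ := hQR
      intro hbot
      have hx' : x₀ ∈ I'.Hgr mA r (0 + c) := hx₀
      rw [zero_add, hbot, AddSubgroup.mem_bot] at hx'
      exact hx₀0 hx'
    · intro j hj
      have := hvanR (j - c) (by omega)
      have e : shiftGr (I'.Hgr mA r) c (j - c) = I'.Hgr mA r j := by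
        change I'.Hgr mA r (j - c + c) = _
        rw [sub_add_cancel]
      rw [← e]
      exact this
  have h2 : endDeg (J'.Hgr mB s) = cc c := by
    apply endDeg_eq_of_isTopDeg
    constructor
    · obtain ⟨x₀, hx₀, hx₀0, -⟩ := hQS
      intro hbot
      have hx' : x₀ ∈ J'.Hgr mB s (0 + c) := hx₀
      rw [zero_add, hbot, AddSubgroup.mem_bot] at hx'
      exact hx₀0 hx'
    · intro j hj
      have := hvanS (j - c) (by omega)
      have e : shiftGr (J'.Hgr mB s) c (j - c) = J'.Hgr mB s j := by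
        change J'.Hgr mB s (j - c + c) = _
        rw [sub_add_cancel]
      rw [← e]
      exact this
  exact h1.trans h2.symm

end Groth.Agent.Lib.Helper11.Seg
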