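import Groth.Agent.Lib.Helper11.GrSegCM
import Groth.Agent.Lib.Helper11.GrMVD

/-!
# Segre products of graded Cohen–Macaulay modules: the top local cohomology
-/

set_option autoImplicit false
set_option linter.unusedSectionVars false
set_option linter.unusedVariables false
set_option linter.style.haveILetI false
set_option maxHeartbeats 1000000
universe u

open scoped TensorProduct

namespace Groth.Agent.Lib.Helper11.GrMV

open DirectSum GrLC Groth.Agent.Lib.Helper11.GrLCLib Groth.Agent.Lib.Helper11.GrLes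

variable {ι : Type} [DecidableEq ι] [AddCommGroup ι]
variable {R : Type u} [CommRing R] [IsNoetherianRing R] {𝒜 : ι → AddSubgroup R} [GradedRing 𝒜]
variable {M : Type u} [AddCommGroup M] [Module R M] {ℳ : ι → AddSubgroup M}
  [DirectSum.Decomposition ℳ] [SetLike.GradedSMul 𝒜 ℳ]
variable (E : StarInjRes 𝒜 ℳ) (a b : HomogeneousIdeal 𝒜)

/-- when `H^{q+1}_a` and `H^{q+1}_b` vanish, the connecting map `H^q_{a ∩ b} → H^{q+1}_{a+b}` is
onto, degree by degree. -/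
theorem Hcomp_inf_ne_bot_of_sup (q : ℕ) (ha' : Subsingleton (E.H a (q + 1)))
    (hb' : Subsingleton (E.H b (q + 1))) (g : ι) (h : E.Hcomp (a ⊔ b) (q + 1) g ≠ ⊥) :
    E.Hcomp (a ⊓ b) q g ≠ ⊥ := by
  have hsurj : Function.Surjective (mvδ E a b q) := by
    intro w
    have h1 : w ∈ LinearMap.ker (mvα E a b (q + 1)) :=
      Prod.ext (ha'.elim _ _) (hb'.elim _ _)
    rw [ker_mvα_succ] at h1
    exact h1
  obtain ⟨w, hw, hw0⟩ := (Submodule.ne_bot_iff _).mp h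
  obtain ⟨z, hz⟩ := hsurj w
  have hdeg : IsGrHomDeg (E.Hgr (a ⊓ b) q) (E.Hgr (a ⊔ b) (q + 1)) (mvδ E a b q) 0 := by
    intro j x hx
    rw [add_zero]
    exact mvδ_mem E a b q hx
  have hw' : w ∈ E.Hgr (a ⊔ b) (q + 1) (g + 0) := by
    rw [add_zero]
    exact hw
  obtain ⟨z', hz', hz'w⟩ := exists_homogeneous_preimage (E.Hgr (a ⊓ b) q) (E.Hgr (a ⊔ b) (q + 1))
    (Hgr_isInternal 𝒜 ℳ E (a ⊓ b) q) (Hgr_isInternal 𝒜 ℳ E (a ⊔ b) (q + 1)) (mvδ E a b q) 0 hdeg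
    g w hw' z hz
  rw [Submodule.ne_bot_iff]
  refine ⟨z', hz', ?_⟩
  intro h0
  apply hw0
  rw [← hz'w, h0, map_zero]

end Groth.Agent.Lib.Helper11.GrMV

namespace Groth.Agent.Lib.Helper11.Seg

open DirectSum GrLC Groth.Agent.Lib.Helper11.GrLCLib Groth.Agent.Lib.Helper11.GrVer
  Groth.Agent.Lib.Helper11.GrMV

section GSMul

variable {k : Type u} [Field k] {R S T : Type u} [CommRing R] [CommRing S] [CommRing T]
  [Algebra k R] [Algebra k S] [Algebra k T]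
variable {𝒜 : ℤ → AddSubgroup R} [GradedRing 𝒜] {ℬ : ℤ → AddSubgroup S} [GradedRing ℬ]
  [IsKAlgGr k 𝒜] [IsKAlgGr k ℬ]
variable {𝒯 : ℤ → AddSubgroup T} [GradedRing 𝒯] {ψ : T →ₐ[k] R ⊗[k] S}
variable {M N P : Type u} [AddCommGroup M] [Module R M] [Module k M] [IsScalarTower k R M]
  [AddCommGroup N] [Module S N] [Module k N] [IsScalarTower k S N]
  [AddCommGroup P] [Module T P] [Module k P] [IsScalarTower k T P]
variable {ℳ : ℤ → AddSubgroup M} [DirectSum.Decomposition ℳ] [SetLike.GradedSMul 𝒜 ℳ] [IsKGr k ℳ]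
  {𝒩 : ℤ → AddSubgroup N} [DirectSum.Decomposition 𝒩] [SetLike.GradedSMul ℬ 𝒩] [IsKGr k 𝒩]
  {𝒬 : ℤ → AddSubgroup P} [DirectSum.Decomposition 𝒬]

/-- a Segre module is a graded module over the Segre ring. -/
lemma gradedSMul_of_isSegreMod (h : IsSeg 𝒜 ℬ 𝒯 ψ) {φ : P →ₗ[k] M ⊗[k] N}
    (hP : GrSeg.IsSegreMod ψ ℳ 𝒩 𝒬 φ) : SetLike.GradedSMul 𝒯 𝒬 where
  smul_mem := by
    intro i j t p ht hp
    have h1 : ψ t ∈ biGr (k := k) 𝒜 ℬ (i, i) := h.map_mem ht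
    have h2 : φ p ∈ biGr (k := k) ℳ 𝒩 (j, j) :=
      (Set.ext_iff.mp (hP.image_piece j) (φ p)).mp ⟨p, hp, rfl⟩
    have h3 : ψ t • φ p ∈ biGr (k := k) ℳ 𝒩 ((i, i) +ᵥ (j, j)) :=
      SetLike.GradedSMul.smul_mem (A := biGr (k := k) 𝒜 ℬ) (B := biGr (k := k) ℳ 𝒩) h1 h2
    have h4 : φ (t • p) ∈ biGr (k := k) ℳ 𝒩 (i + j, i + j) := by
      rw [hP.map_smul]
      exact h3
    obtain ⟨p', hp', e⟩ := (Set.ext_iff.mp (hP.image_piece (i + j)) _).mpr h4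
    have e' := hP.injective e
    rw [vadd_eq_add, ← e']
    exact hp'

end GSMul

section Top

variable {k : Type u} [Field k] {R S T : Type u} [CommRing R] [CommRing S] [CommRing T]
  [Algebra k R] [Algebra k S] [Algebra k T]
variable {𝒜 : ℤ → AddSubgroup R} [GradedRing 𝒜] {ℬ : ℤ → AddSubgroup S} [GradedRing ℬ]
  [IsKAlgGr k 𝒜] [IsKAlgGr k ℬ]
variable {𝒯 : ℤ → AddSubgroup T} [GradedRing 𝒯] {ψ : T →ₐ[k] R ⊗[k] S}
variable [IsNoetherianRing R] [IsNoetherianRing S] [IsNoetherianRing (R ⊗[k] S)]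
variable {M N P : Type u} [AddCommGroup M] [Module R M] [Module k M] [IsScalarTower k R M]
  [AddCommGroup N] [Module S N] [Module k N] [IsScalarTower k S N]
  [AddCommGroup P] [Module T P] [Module k P] [IsScalarTower k T P]
variable {ℳ : ℤ → AddSubgroup M} [DirectSum.Decomposition ℳ] [SetLike.GradedSMul 𝒜 ℳ] [IsKGr k ℳ]
  {𝒩 : ℤ → AddSubgroup N} [DirectSum.Decomposition 𝒩] [SetLike.GradedSMul ℬ 𝒩] [IsKGr k 𝒩]
  {𝒬 : ℤ → AddSubgroup P} [DirectSum.Decomposition 𝒬] [SetLike.GradedSMul 𝒯 𝒬]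

/-- **The local cohomology of a Segre product of Cohen–Macaulay modules at and above the top
degree `r + s - 1`.** -/
theorem segreMod_top (h : IsSeg 𝒜 ℬ 𝒯 ψ) (m : HomogeneousIdeal 𝒜)
    (n : HomogeneousIdeal ℬ) (mT : HomogeneousIdeal 𝒯) (hm : m.toIdeal = irrI 𝒜)
    (hn : n.toIdeal = irrI ℬ) (hmT : mT.toIdeal = irrI 𝒯)
    {φ : P →ₗ[k] M ⊗[k] N} (hP : GrSeg.IsSegreMod ψ ℳ 𝒩 𝒬 φ)
    (EM : StarInjRes 𝒜 ℳ) (EN : StarInjRes ℬ 𝒩) (EP : StarInjRes 𝒯 𝒬) (r s : ℕ)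
    (hr : 1 ≤ r) (hs : 1 ≤ s)
    (hM : ∀ i, i ≠ r → Subsingleton (EM.H m i)) (hN : ∀ j, j ≠ s → Subsingleton (EN.H n j)) :
    (∀ q, r + s ≤ q → Subsingleton (EP.H mT q)) ∧
    (∀ q, q + 1 = r + s → ∀ d : ℤ, EM.Hcomp m r d ≠ ⊥ → EN.Hcomp n s d ≠ ⊥ →
      EP.Hcomp mT q d ≠ ⊥) := by
  obtain ⟨EX⟩ := nonempty_starInjRes (biGr (k := k) 𝒜 ℬ) (biGr (k := k) ℳ 𝒩)
  letI : Module k (EM.H m r) := Module.compHom _ (algebraMap k R)
  haveI : IsScalarTower k R (EM.H m r) := IsScalarTower.of_algebraMap_smul (fun r x => rfl)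
  letI : Module k (EN.H n s) := Module.compHom _ (algebraMap k S)
  haveI : IsScalarTower k S (EN.H n s) := IsScalarTower.of_algebraMap_smul (fun r x => rfl)
  obtain ⟨hsup, Θ, hΘ, hΘ'⟩ := kunneth_sup m n EM EN EX r s hM hN
  constructor
  · intro q hq
    have ha : Subsingleton (EX.H (extL (k := k) 𝒜 ℬ m) q) :=
      subsingleton_H_extL_of m EM EX q (hM q (by omega))
    have hb : Subsingleton (EX.H (extR (k := k) 𝒜 ℬ n) q) :=
      subsingleton_H_extR_of n EN EX q (hN q (by omega))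
    have hinf := subsingleton_H_inf EX _ _ q ha hb (hsup (q + 1) (by omega))
    rw [subsingleton_H_iff]
    intro d
    rw [Hcomp_diag_eq_bot_iff h m n mT hm hn hmT hP EX EP q d]
    exact (subsingleton_H_iff EX _ q).mp hinf (d, d)
  · intro q hq d hdM hdN
    have ha' : Subsingleton (EX.H (extL (k := k) 𝒜 ℬ m) (q + 1)) :=
      subsingleton_H_extL_of m EM EX (q + 1) (hM (q + 1) (by omega))
    have hb' : Subsingleton (EX.H (extR (k := k) 𝒜 ℬ n) (q + 1)) :=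
      subsingleton_H_extR_of n EN EX (q + 1) (hN (q + 1) (by omega))
    -- the Künneth piece is non-zero
    haveI : SetLike.GradedSMul 𝒜 (EM.Hgr m r) := Hgr_gradedSMul EM m r
    haveI : IsKGr k (EM.Hgr m r) := isKGr_of_gradedSMul 𝒜 _
    haveI : SetLike.GradedSMul ℬ (EN.Hgr n s) := Hgr_gradedSMul EN n s
    haveI : IsKGr k (EN.Hgr n s) := isKGr_of_gradedSMul ℬ _
    have hbi : biGr (k := k) (EM.Hgr m r) (EN.Hgr n s) (d, d) ≠ ⊥ := by
      rw [Ne, biGr_eq_bot_iff, not_or]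
      refine ⟨?_, ?_⟩
      · rw [← Hcomp_eq_bot_iff_Hgr]; exact hdM
      · rw [← Hcomp_eq_bot_iff_Hgr]; exact hdN
    obtain ⟨⟨y, hy⟩, hy0⟩ := (AddSubgroup.ne_bot_iff_exists_ne_zero).mp hbi
    have hy0' : y ≠ 0 := fun h0 => hy0 (Subtype.ext h0)
    have hsupne : EX.Hcomp (extL (k := k) 𝒜 ℬ m ⊔ extR (k := k) 𝒜 ℬ n) (r + s) (d, d) ≠ ⊥ := by
      rw [Submodule.ne_bot_iff]
      refine ⟨Θ.symm y, hΘ' (d, d) y hy, ?_⟩
      intro h0
      apply hy0'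
      have := congrArg Θ h0
      rwa [LinearEquiv.apply_symm_apply, map_zero] at this
    have hsupne' : EX.Hcomp (extL (k := k) 𝒜 ℬ m ⊔ extR (k := k) 𝒜 ℬ n) (q + 1) (d, d) ≠ ⊥ := by
      rw [hq]
      exact hsupne
    have hinf := Hcomp_inf_ne_bot_of_sup EX _ _ q ha' hb' (d, d) hsupne'
    intro h0
    apply hinf
    rwa [Hcomp_diag_eq_bot_iff h m n mT hm hn hmT hP EX EP q d] at h0

end Top

end Groth.Agent.Lib.Helper11.Seg
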