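import Groth.Agent.Lib.Helper11.GrSegModB

/-!
# Segre products of graded modules with concentrated local cohomology: dimension,
Cohen–Macaulayness and depth (statement level)
-/

set_option autoImplicit false
set_option linter.unusedSectionVars false
set_option linter.unusedVariables false
set_option linter.style.haveILetI false
set_option maxHeartbeats 1000000
universe u

open scoped TensorProduct

namespace Groth.Agent.Lib.Helper11.GrMod

open Pointwise DirectSum GrLC Groth.Agent.Lib.Helper11.GrLCLib Groth.Agent.Lib.Helper11.GrHt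
  Groth.Agent.Lib.Helper11.GrLes Groth.Agent.Lib.Helper11.GrShift Groth.Agent.Lib.Helper11.Seg

variable {R : Type u} [CommRing R] [IsNoetherianRing R] (𝒜 : ℤ → AddSubgroup R) [GradedRing 𝒜]

/-- multiplication by a homogeneous regular element is onto on the top local cohomology: the
non-vanishing of a piece propagates downwards. -/
theorem Hcomp_top_sub_ne_bot {M : Type u} [AddCommGroup M] [Module R M] [Module.Finite R M]
    (ℳ : ℤ → AddSubgroup M) [DirectSum.Decomposition ℳ] [SetLike.GradedSMul 𝒜 ℳ]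
    (E : StarInjRes 𝒜 ℳ) (m : HomogeneousIdeal 𝒜) {x : R} {c : ℤ} (hx : x ∈ 𝒜 c)
    (hreg : IsSMulRegular M x) (r : ℕ)
    (hdim : Module.supportDim R M ≤ ((r + 1 : ℕ) : WithBot ℕ∞)) (j : ℤ)
    (hj : E.Hcomp m (r + 1) j ≠ ⊥) : E.Hcomp m (r + 1) (j - c) ≠ ⊥ := by
  have hhom := smulTop_isHomogeneous 𝒜 ℳ hx
  letI := quotDecomposition ℳ (x • (⊤ : Submodule R M)) hhom
  obtain ⟨F⟩ := nonempty_starInjRes 𝒜 (quotGrM ℳ (x • (⊤ : Submodule R M)))
  have hπk : LinearMap.ker (x • (⊤ : Submodule R M)).mkQ =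
      LinearMap.range (LinearMap.lsmul R M x) := by
    rw [Submodule.ker_mkQ, range_lsmul_eq]
  obtain ⟨p, γ, hp, hγ, h1, h2, h3, h4⟩ := exists_les_smul E F hx hreg
    (x • (⊤ : Submodule R M)).mkQ (mkQ_isGrHom ℳ _) (Submodule.mkQ_surjective _) hπk m
  have hFdim := supportDim_quot_le hreg r hdim
  have hFtop : Subsingleton (F.H m (r + 1)) :=
    Groth.Agent.Lib.Helper11.GrCMGlob.subsingleton_H_of_dim_lt F m r hFdim (r + 1) (by omega)
  have hsurj : ∀ z : E.H m (r + 1), ∃ w : E.H m (r + 1), x • w = z := by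
    intro z
    exact (h1 (r + 1) z).1 (Subsingleton.elim _ _)
  have hint := Hgr_isInternal 𝒜 ℳ E m (r + 1)
  have hdeg : IsGrHomDeg (E.Hgr m (r + 1)) (E.Hgr m (r + 1))
      (LinearMap.lsmul R (E.H m (r + 1)) x) c := by
    intro g z hz
    exact smul_mem_Hcomp E m (r + 1) hx hz
  obtain ⟨z, hz, hz0⟩ := (Submodule.ne_bot_iff _).mp hj
  obtain ⟨w, hw⟩ := hsurj z
  have hz' : z ∈ E.Hgr m (r + 1) ((j - c) + c) := by
    rw [sub_add_cancel]
    exact hz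
  obtain ⟨w', hw', hw'z⟩ := exists_homogeneous_preimage (E.Hgr m (r + 1)) (E.Hgr m (r + 1))
    hint hint (LinearMap.lsmul R (E.H m (r + 1)) x) _ hdeg (j - c) z hz' w hw
  rw [Submodule.ne_bot_iff]
  refine ⟨w', hw', ?_⟩
  intro h0
  apply hz0
  rw [← hw'z, h0, map_zero]

end Groth.Agent.Lib.Helper11.GrMod

namespace Groth.Agent.Lib.Helper11.Seg

open DirectSum GrLC Groth.Agent.Lib.Helper11.GrLCLib Groth.Agent.Lib.Helper11.GrConv
  Groth.Agent.Lib.Helper11.GrMod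

attribute [local instance] convGradedRing

/-- **The Segre product of graded modules with concentrated local cohomology**: dimension,
Cohen–Macaulay criterion and depth. -/
theorem segreMod_coreH (k : Type u) [Field k] (R : Type u) [CommRing R] [Algebra k R]
    (𝒜 : ℤ → Submodule k R) [GradedAlgebra 𝒜] (hposR : ∀ n : ℤ, n < 0 → 𝒜 n = ⊥)
    (h0R : 𝒜 0 = Submodule.span k {(1 : R)}) [Algebra.FiniteType k R] [Nontrivial R]
    (S : Type u) [CommRing S] [Algebra k S] (ℬ : ℤ → Submodule k S) [GradedAlgebra ℬ]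
    (hposS : ∀ n : ℤ, n < 0 → ℬ n = ⊥) (h0S : ℬ 0 = Submodule.span k {(1 : S)})
    [Algebra.FiniteType k S] [Nontrivial S]
    (T : Type u) [CommRing T] [Algebra k T] (𝒯 : ℤ → Submodule k T) [GradedAlgebra 𝒯]
    (ψ : T →ₐ[k] R ⊗[k] S) (hT : GrSeg.IsSegreRing 𝒜 ℬ 𝒯 ψ)
    (mT : HomogeneousIdeal 𝒯)
    (hmT : mT.toIdeal = Ideal.span (⋃ n ∈ Set.Ioi (0 : ℤ), (𝒯 n : Set T)))
    (M : Type u) [AddCommGroup M] [Module R M] [Module k M] [IsScalarTower k R M]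
    (ℳ : ℤ → AddSubgroup M) [DirectSum.Decomposition ℳ] [SetLike.GradedSMul 𝒜 ℳ]
    [SetLike.GradedSMul (conv 𝒜) ℳ] [Module.Finite R M]
    (N : Type u) [AddCommGroup N] [Module S N] [Module k N] [IsScalarTower k S N]
    (𝒩 : ℤ → AddSubgroup N) [DirectSum.Decomposition 𝒩] [SetLike.GradedSMul ℬ 𝒩]
    [SetLike.GradedSMul (conv ℬ) 𝒩] [Module.Finite S N]
    (P : Type u) [AddCommGroup P] [Module T P] [Module k P] [IsScalarTower k T P]
    (𝒬 : ℤ → AddSubgroup P) [DirectSum.Decomposition 𝒬]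
    (φ : P →ₗ[k] M ⊗[k] N) (hP : GrSeg.IsSegreMod ψ ℳ 𝒩 𝒬 φ) [Nontrivial P]
    (r s : ℕ) (h1r : 1 ≤ r) (h1s : 1 ≤ s)
    (hdM : Module.supportDim R M ≤ (r : WithBot ℕ∞))
    (hdN : Module.supportDim S N ≤ (s : WithBot ℕ∞))
    (a : HomogeneousIdeal (conv 𝒜))
    (ha : a.toIdeal = Ideal.span (⋃ n ∈ Set.Ioi (0 : ℤ), (𝒜 n : Set R)))
    (b : HomogeneousIdeal (conv ℬ))
    (hb : b.toIdeal = Ideal.span (⋃ n ∈ Set.Ioi (0 : ℤ), (ℬ n : Set S)))
    (EM : StarInjRes (conv 𝒜) ℳ) (EN : StarInjRes (conv ℬ) 𝒩)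
    (hM : ∀ i, i ≠ r → Subsingleton (EM.H a i)) (hN : ∀ j, j ≠ s → Subsingleton (EN.H b j)) :
    Module.supportDim T P = ((r + s - 1 : ℕ) : WithBot ℕ∞) ∧
      (IsCMAll T P ↔ ∀ q, q < r + s - 1 → ∀ d : ℤ,
        (EM.Hcomp a q d = ⊥ ∨ 𝒩 d = ⊥) ∧ (ℳ d = ⊥ ∨ EN.Hcomp b q d = ⊥)) ∧
      (∀ n, n < r + s - 1 →
        (∀ q, q < n → ∀ d : ℤ,
          (EM.Hcomp a q d = ⊥ ∨ 𝒩 d = ⊥) ∧ (ℳ d = ⊥ ∨ EN.Hcomp b q d = ⊥)) →
        (∃ d : ℤ, ¬ ((EM.Hcomp a n d = ⊥ ∨ 𝒩 d = ⊥) ∧ (ℳ d = ⊥ ∨ EN.Hcomp b n d = ⊥))) →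
        LocCoh.idealDepth mT.toIdeal P = (n : ℕ∞)) := by
  obtain ⟨hψ, hdegT⟩ := hT
  haveI : IsNoetherianRing R := Algebra.FiniteType.isNoetherianRing k R
  haveI : IsNoetherianRing S := Algebra.FiniteType.isNoetherianRing k S
  haveI : IsNoetherianRing (R ⊗[k] S) := noetherian_tensor (k := k) (R := R) (S := S)
  haveI : IsKAlgGr k (conv 𝒜) := isKAlgGr_conv 𝒜
  haveI : IsKAlgGr k (conv ℬ) := isKAlgGr_conv ℬ
  have hseg : IsSeg (conv 𝒜) (conv ℬ) (conv 𝒯) ψ := isSeg_conv hψ hdegT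
  haveI : IsNoetherianRing T := hseg.isVerRing.isNoetherianRing
  have hposT := Groth.Agent.Lib.Helper20.SegreDim.hposT 𝒜 ℬ 𝒯 ψ hψ hdegT hposR
  have h0T := Groth.Agent.Lib.Helper20.SegreDim.h0T 𝒜 ℬ 𝒯 ψ hψ hdegT h0R h0S
  haveI : IsKGr k ℳ := isKGr_of_gradedSMul (conv 𝒜) ℳ
  haveI : IsKGr k 𝒩 := isKGr_of_gradedSMul (conv ℬ) 𝒩
  haveI : SetLike.GradedSMul (conv 𝒯) 𝒬 := gradedSMul_of_isSegreMod hseg hP
  haveI : IsNoetherian T P :=
    Groth.Agent.Lib.Helper20.SegreMod.isNoetherian_segre (𝒜 := 𝒜) (ℬ := ℬ) (𝒯 := 𝒯)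
      ⟨hψ, hdegT⟩ hP
  haveI : Module.Finite T P := inferInstance
  have hlocR : IsStarLocal (conv 𝒜) a := isStarLocal_conv_irr 𝒜 hposR h0R a ha
  have hlocS : IsStarLocal (conv ℬ) b := isStarLocal_conv_irr ℬ hposS h0S b hb
  haveI : Nontrivial T := Module.nontrivial T P
  let c : HomogeneousIdeal (conv 𝒯) := hidealConv 𝒯 mT
  have hlocT : IsStarLocal (conv 𝒯) c := isStarLocal_conv_irr 𝒯 hposT h0T c hmT
  obtain ⟨EP⟩ := nonempty_starInjRes (conv 𝒯) 𝒬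
  -- a common non-zero degree
  obtain ⟨d, hdM', hdN'⟩ : ∃ d : ℤ, ℳ d ≠ ⊥ ∧ 𝒩 d ≠ ⊥ := by
    by_contra hcon
    push Not at hcon
    have hz : ∀ p : P, p = 0 := by
      intro p
      induction p using DirectSum.Decomposition.inductionOn 𝒬 with
      | zero => rfl
      | add p p' hp hp' => rw [hp, hp', add_zero]
      | homogeneous p =>
        rename_i i
        have h2 : φ (p : P) ∈ biGr (k := k) ℳ 𝒩 (i, i) :=
          (Set.ext_iff.mp (hP.image_piece i) (φ p)).mp ⟨p, p.2, rfl⟩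
        have h3 : biGr (k := k) ℳ 𝒩 (i, i) = ⊥ := by
          rw [biGr_eq_bot_iff]
          by_cases h : ℳ i = ⊥
          · exact Or.inl h
          · exact Or.inr (hcon i h)
        rw [h3, AddSubgroup.mem_bot] at h2
        exact hP.injective (h2.trans (map_zero φ).symm)
    obtain ⟨x, y, hxy⟩ := ‹Nontrivial P›
    exact hxy ((hz x).trans (hz y).symm)
  obtain ⟨r', rfl⟩ : ∃ r', r = r' + 1 := ⟨r - 1, by omega⟩
  obtain ⟨s', rfl⟩ : ∃ s', s = s' + 1 := ⟨s - 1, by omega⟩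
  obtain ⟨e, heM, heN⟩ := exists_common_degree (conv 𝒜) (hpos_conv 𝒜 hposR) hlocR ha r' ℳ EM
    (fun i hi => hM i (by omega)) hdM (conv ℬ) (hpos_conv ℬ hposS) hlocS hb s' 𝒩 EN
    (fun j hj => hN j (by omega)) hdN d hdM' hdN'
  obtain ⟨hhigh, htop⟩ := segreMod_top hseg a b c ha hb hmT hP EM EN EP (r' + 1) (s' + 1)
    (by omega) (by omega) hM hN
  have hne := htop (r' + 1 + (s' + 1) - 1) (by omega) e heM heN
  have hnt : Nontrivial (EP.H c (r' + 1 + (s' + 1) - 1)) := by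
    obtain ⟨z, -, hz0⟩ := (Submodule.ne_bot_iff _).mp hne
    exact ⟨⟨z, 0, hz0⟩⟩
  have hdimP := supportDim_eq_of_H (conv 𝒯) 𝒬 (hpos_conv 𝒯 hposT) hlocT EP
    (r' + 1 + (s' + 1) - 1) hnt (fun q hq => hhigh q (by omega))
  have key : ∀ q, q < r' + 1 + (s' + 1) - 1 → ∀ d : ℤ, (EP.Hcomp c q d = ⊥ ↔
      (EM.Hcomp a q d = ⊥ ∨ 𝒩 d = ⊥) ∧ (ℳ d = ⊥ ∨ EN.Hcomp b q d = ⊥)) := by
    intro q hq d
    exact Hcomp_segre_eq_bot_iff hseg a b c ha hb hmT hP EM EN EP (r' + 1) (s' + 1) hM hN q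
      (by omega) (by omega) d
  refine ⟨hdimP, ?_, ?_⟩
  · rw [isCMAll_iff (conv 𝒯) 𝒬 (hpos_conv 𝒯 hposT) hlocT EP _ hdimP]
    constructor
    · intro h q hq d
      rw [← key q hq d]
      exact (subsingleton_H_iff EP c q).mp (h q hq) d
    · intro h q hq
      rw [subsingleton_H_iff]
      intro d
      rw [key q hq d]
      exact h q hq d
  · intro n hn hlow hex
    have hIM : c.toIdeal • (⊤ : Submodule T P) ≠ ⊤ := smul_top_ne_top (conv 𝒯) 𝒬 hlocT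
    have hlow' : ∀ q, q < n → Subsingleton (EP.H c q) := by
      intro q hq
      rw [subsingleton_H_iff]
      intro d
      rw [key q (by omega) d]
      exact hlow q hq d
    have hn' : Nontrivial (EP.H c n) := by
      obtain ⟨d, hd⟩ := hex
      rw [← key n hn d] at hd
      obtain ⟨z, -, hz0⟩ := (Submodule.ne_bot_iff _).mp hd
      exact ⟨⟨z, 0, hz0⟩⟩
    exact idealDepth_eq_of_H (conv 𝒯) 𝒬 EP c hIM n hlow' hn'

end Groth.Agent.Lib.Helper11.Seg
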