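import Groth.Agent.Lib.Helper11.GrSegModD

/-!
# Segre products of shifted polynomial rings: Cohen–Macaulayness and depth
-/

set_option autoImplicit false
set_option linter.unusedSectionVars false
set_option linter.unusedVariables false
set_option linter.style.haveILetI false
set_option maxHeartbeats 1000000
universe u

open scoped TensorProduct

attribute [local instance] MvPolynomial.weightedGradedAlgebra

namespace Groth.Agent.Lib.Helper11.GrLes

open DirectSum GrLC Groth.Agent.Lib.Helper11.GrLCLib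

variable {ι : Type} [DecidableEq ι] [AddCommGroup ι]
variable {R : Type u} [CommRing R] {𝒜 : ι → AddSubgroup R} [GradedRing 𝒜]
variable {M : Type u} [AddCommGroup M] [Module R M] {ℳ : ι → AddSubgroup M}
  [DirectSum.Decomposition ℳ] [SetLike.GradedSMul 𝒜 ℳ]

lemma shiftRes_Hcomp_eq_bot_iff (E : StarInjRes 𝒜 ℳ) (δ : ι)
    [DirectSum.Decomposition (shiftGr ℳ δ)] (a : HomogeneousIdeal 𝒜) (q : ℕ) (g : ι) :
    (shiftRes E δ).Hcomp a q g = ⊥ ↔ E.Hcomp a q (g + δ) = ⊥ := by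
  constructor
  · intro h
    rw [eq_bot_iff]
    intro x hx
    have h1 : (shiftResH E δ a q).symm x ∈ (shiftRes E δ).Hcomp a q g := by
      rw [shiftRes_Hcomp, LinearEquiv.apply_symm_apply]
      exact hx
    rw [h, Submodule.mem_bot] at h1
    have h2 := congrArg (shiftResH E δ a q) h1
    rw [LinearEquiv.apply_symm_apply, map_zero] at h2
    exact (Submodule.mem_bot _).mpr h2
  · intro h
    rw [eq_bot_iff]
    intro z hz
    have h1 := (shiftRes_Hcomp E δ a q g z).mp hz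
    rw [h, Submodule.mem_bot] at h1
    have h2 := (shiftResH E δ a q).injective (h1.trans (map_zero _).symm)
    exact (Submodule.mem_bot _).mpr h2

end Groth.Agent.Lib.Helper11.GrLes

namespace Groth.Agent.Lib.Helper11.GrPoly

open DirectSum GrLC Groth.Agent.Lib.Helper11.GrLCLib Groth.Agent.Lib.Helper11.GrConv
  Groth.Agent.Lib.Helper11.GrMod Groth.Agent.Lib.Helper11.Seg Groth.Agent.Lib.Helper11.GrLes
  MvPolynomial

attribute [local instance] convGradedRing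

/-- **Segre products of shifted polynomial rings.** -/
theorem segre_poly (k : Type u) [Field k] (r s : ℕ) (h1r : 1 ≤ r) (h1s : 1 ≤ s)
    (T : Type u) [CommRing T] [Algebra k T] (𝒯 : ℤ → Submodule k T) [GradedAlgebra 𝒯]
    (ψ : T →ₐ[k] (MvPolynomial (Fin r) k) ⊗[k] (MvPolynomial (Fin s) k))
    (hT : GrSeg.IsSegreRing (stdW k r) (stdW k s) 𝒯 ψ)
    (mT : HomogeneousIdeal 𝒯)
    (hmT : mT.toIdeal = Ideal.span (⋃ n ∈ Set.Ioi (0 : ℤ), (𝒯 n : Set T))) (a b : ℤ)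
    (P : Type u) [AddCommGroup P] [Module T P] [Module k P] [IsScalarTower k T P]
    (𝒬 : ℤ → AddSubgroup P) [DirectSum.Decomposition 𝒬]
    (φ : P →ₗ[k] (MvPolynomial (Fin r) k) ⊗[k] (MvPolynomial (Fin s) k))
    (hP : GrSeg.IsSegreMod ψ (fun n : ℤ => stdW k r (n + a)) (fun n : ℤ => stdW k s (n + b)) 𝒬 φ) :
    (IsCMAll T P ↔ ∀ q, q < r + s - 1 → ∀ d : ℤ,
        ¬ (q = r ∧ d + a ≤ -(r : ℤ) ∧ 0 ≤ d + b) ∧ ¬ (q = s ∧ d + b ≤ -(s : ℤ) ∧ 0 ≤ d + a)) ∧
      (∀ n, n < r + s - 1 →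
        (∀ q, q < n → ∀ d : ℤ,
          ¬ (q = r ∧ d + a ≤ -(r : ℤ) ∧ 0 ≤ d + b) ∧ ¬ (q = s ∧ d + b ≤ -(s : ℤ) ∧ 0 ≤ d + a)) →
        (∃ d : ℤ, ¬ (¬ (n = r ∧ d + a ≤ -(r : ℤ) ∧ 0 ≤ d + b) ∧
          ¬ (n = s ∧ d + b ≤ -(s : ℤ) ∧ 0 ≤ d + a))) →
        LocCoh.idealDepth mT.toIdeal P = (n : ℕ∞)) := by
  -- the shifted modules
  letI dM : DirectSum.Decomposition (shiftGr (conv (stdW k r)) a) :=
    shiftDecomposition (conv (stdW k r)) a
  letI dN : DirectSum.Decomposition (shiftGr (conv (stdW k s)) b) :=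
    shiftDecomposition (conv (stdW k s)) b
  haveI : SetLike.GradedSMul (stdW k r) (shiftGr (conv (stdW k r)) a) :=
    unconvGradedSMul_left (stdW k r) (shiftGr (conv (stdW k r)) a)
  haveI : SetLike.GradedSMul (stdW k s) (shiftGr (conv (stdW k s)) b) :=
    unconvGradedSMul_left (stdW k s) (shiftGr (conv (stdW k s)) b)
  have hP' : GrSeg.IsSegreMod ψ (shiftGr (conv (stdW k r)) a) (shiftGr (conv (stdW k s)) b) 𝒬 φ :=
    ⟨hP.injective, hP.image_piece, hP.map_smul⟩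
  -- `P ≠ 0`
  haveI : Nontrivial P := by
    set n₀ : ℤ := max (-a) (-b) with hn₀
    have h1 : 0 ≤ n₀ + a := by have := le_max_left (-a) (-b); omega
    have h2 : 0 ≤ n₀ + b := by have := le_max_right (-a) (-b); omega
    have hx : (X ⟨0, h1r⟩ ^ (n₀ + a).toNat : MvPolynomial (Fin r) k) ∈ stdW k r (n₀ + a) := by
      have := X_pow_mem k r ⟨0, h1r⟩ (n₀ + a).toNat
      rwa [Int.toNat_of_nonneg h1] at this
    have hy : (X ⟨0, h1s⟩ ^ (n₀ + b).toNat : MvPolynomial (Fin s) k) ∈ stdW k s (n₀ + b) := by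
      have := X_pow_mem k s ⟨0, h1s⟩ (n₀ + b).toNat
      rwa [Int.toNat_of_nonneg h2] at this
    have hmem : ((X ⟨0, h1r⟩ ^ (n₀ + a).toNat : MvPolynomial (Fin r) k) ⊗ₜ[k]
        (X ⟨0, h1s⟩ ^ (n₀ + b).toNat : MvPolynomial (Fin s) k)) ∈
        (GrSeg.segrePiece k (fun n : ℤ => stdW k r (n + a)) (fun n : ℤ => stdW k s (n + b)) n₀ :
          Set _) :=
      Submodule.subset_span ⟨_, hx, _, hy, rfl⟩
    rw [← hP.image_piece n₀] at hmem
    obtain ⟨p, -, hp⟩ := hmem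
    refine ⟨⟨p, 0, ?_⟩⟩
    intro h0
    rw [h0, map_zero] at hp
    exact tmul_ne_zero_of_ne_zero (pow_ne_zero _ (X_ne_zero _)) (pow_ne_zero _ (X_ne_zero _))
      hp.symm
  -- the resolutions
  let irrR : HomogeneousIdeal (conv (stdW k r)) :=
    Groth.Agent.Lib.Helper11.GrField.irrelevant (conv (stdW k r))
  let irrS : HomogeneousIdeal (conv (stdW k s)) :=
    Groth.Agent.Lib.Helper11.GrField.irrelevant (conv (stdW k s))
  obtain ⟨I⟩ := nonempty_starInjRes (conv (stdW k r)) (conv (stdW k r))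
  obtain ⟨J⟩ := nonempty_starInjRes (conv (stdW k s)) (conv (stdW k s))
  let EM : StarInjRes (conv (stdW k r)) (shiftGr (conv (stdW k r)) a) := shiftRes I a
  let EN : StarInjRes (conv (stdW k s)) (shiftGr (conv (stdW k s)) b) := shiftRes J b
  have hM : ∀ i, i ≠ r → Subsingleton (EM.H irrR i) := by
    intro i hi
    haveI := subsingleton_H_stdW k r irrR rfl I i hi
    exact (shiftResH I a irrR i).injective.subsingleton
  have hN : ∀ j, j ≠ s → Subsingleton (EN.H irrS j) := by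
    intro j hj
    haveI := subsingleton_H_stdW k s irrS rfl J j hj
    exact (shiftResH J b irrS j).injective.subsingleton
  have hdM : Module.supportDim (MvPolynomial (Fin r) k) (MvPolynomial (Fin r) k)
      ≤ (r : WithBot ℕ∞) := by
    rw [Module.supportDim_self_eq_ringKrullDim, krullDim]
  have hdN : Module.supportDim (MvPolynomial (Fin s) k) (MvPolynomial (Fin s) k)
      ≤ (s : WithBot ℕ∞) := by
    rw [Module.supportDim_self_eq_ringKrullDim, krullDim]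
  obtain ⟨-, hcm, hdepth⟩ := segreMod_coreH k (MvPolynomial (Fin r) k) (stdW k r) (stdW_neg k r)
    (stdW_zero k r) (MvPolynomial (Fin s) k) (stdW k s) (stdW_neg k s) (stdW_zero k s) T 𝒯 ψ hT
    mT hmT (MvPolynomial (Fin r) k) (shiftGr (conv (stdW k r)) a) (MvPolynomial (Fin s) k)
    (shiftGr (conv (stdW k s)) b) P 𝒬 φ hP' r s h1r h1s hdM hdN irrR rfl irrS rfl EM EN hM hN
  -- the conditions
  have c1 : ∀ (q : ℕ) (d : ℤ), (EM.Hcomp irrR q d = ⊥ ∨ shiftGr (conv (stdW k s)) b d = ⊥) ↔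
      ¬ (q = r ∧ d + a ≤ -(r : ℤ) ∧ 0 ≤ d + b) := by
    intro q d
    have e1 : EM.Hcomp irrR q d = ⊥ ↔ ¬ (q = r ∧ d + a ≤ -(r : ℤ)) :=
      (shiftRes_Hcomp_eq_bot_iff I a irrR q d).trans
        (Hcomp_stdW_eq_bot_iff k r irrR rfl I h1r q (d + a))
    have e2 : shiftGr (conv (stdW k s)) b d = ⊥ ↔ d + b < 0 := conv_stdW_eq_bot_iff k s h1s (d + b)
    rw [e1, e2]
    constructor
    · rintro (h | h) ⟨h3, h4, h5⟩
      · exact h ⟨h3, h4⟩
      · omega
    · intro h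
      by_cases h5 : d + b < 0
      · exact Or.inr h5
      · exact Or.inl (fun ⟨h3, h4⟩ => h ⟨h3, h4, by omega⟩)
  have c2 : ∀ (q : ℕ) (d : ℤ), (shiftGr (conv (stdW k r)) a d = ⊥ ∨ EN.Hcomp irrS q d = ⊥) ↔
      ¬ (q = s ∧ d + b ≤ -(s : ℤ) ∧ 0 ≤ d + a) := by
    intro q d
    have e1 : EN.Hcomp irrS q d = ⊥ ↔ ¬ (q = s ∧ d + b ≤ -(s : ℤ)) :=
      (shiftRes_Hcomp_eq_bot_iff J b irrS q d).trans
        (Hcomp_stdW_eq_bot_iff k s irrS rfl J h1s q (d + b))
    have e2 : shiftGr (conv (stdW k r)) a d = ⊥ ↔ d + a < 0 := conv_stdW_eq_bot_iff k r h1r (d + a)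
    rw [e1, e2]
    constructor
    · rintro (h | h) ⟨h3, h4, h5⟩
      · omega
      · exact h ⟨h3, h4⟩
    · intro h
      by_cases h5 : d + a < 0
      · exact Or.inl h5
      · exact Or.inr (fun ⟨h3, h4⟩ => h ⟨h3, h4, by omega⟩)
  refine ⟨?_, ?_⟩
  · rw [hcm]
    constructor
    · intro h q hq d
      exact ⟨(c1 q d).mp (h q hq d).1, (c2 q d).mp (h q hq d).2⟩
    · intro h q hq d
      exact ⟨(c1 q d).mpr (h q hq d).1, (c2 q d).mpr (h q hq d).2⟩
  · intro n hn hlow hex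
    apply hdepth n hn
    · intro q hq d
      exact ⟨(c1 q d).mpr (hlow q hq d).1, (c2 q d).mpr (hlow q hq d).2⟩
    · obtain ⟨d, hd⟩ := hex
      refine ⟨d, fun hcon => hd ⟨(c1 n d).mp hcon.1, (c2 n d).mp hcon.2⟩⟩

end Groth.Agent.Lib.Helper11.GrPoly
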