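import Groth.Agent.Lib.Helper2.Gor.GK1
import Groth.Agent.Lib.Helper11.GrDualA
import Groth.Agent.Lib.Helper11.GrFieldA

/-!
# Gorenstein rings under ring isomorphisms; the socle of a graded dual of a connected graded ring
-/

set_option autoImplicit false
set_option linter.unusedSectionVars false
set_option linter.unusedVariables false
set_option linter.style.haveILetI false
universe u

namespace Groth.Agent.Lib.Helper11.Seg

open DirectSum GrLC GrSeg Groth.Agent.Lib.Helper11.GrLCLib Groth.Agent.Lib.Helper11.GrField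

/-- Gorenstein rings are invariant under ring isomorphisms. -/
theorem isGorensteinRing_of_ringEquiv {A B : Type u} [CommRing A] [CommRing B] (e : A ≃+* B)
    [hA : LocCoh.IsGorensteinRing A] : LocCoh.IsGorensteinRing B := by
  haveI : IsNoetherianRing A := inferInstance
  haveI : IsNoetherianRing B := isNoetherianRing_of_ringEquiv A e
  refine ⟨fun q hq => ?_⟩
  let p : Ideal A := q.comap (e : A →+* B)
  haveI hp : p.IsPrime := Ideal.comap_isPrime _ q
  have hgor : LocCoh.IsGorensteinLocalRing (Localization.AtPrime p) :=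
    hA.isGorensteinLocalRing_localization p
  have H : p.primeCompl.map e.toMonoidHom = q.primeCompl := by
    ext b
    constructor
    · rintro ⟨a, ha, rfl⟩
      exact ha
    · intro hb
      refine ⟨e.symm b, ?_, e.apply_symm_apply b⟩
      change e.symm b ∉ p
      intro h
      apply hb
      have : e (e.symm b) ∈ q := h
      rwa [e.apply_symm_apply] at this
  exact Groth.Agent.Lib.Helper2.GK.gor_of_ringEquiv
    (IsLocalization.ringEquivOfRingEquiv (Localization.AtPrime p) (Localization.AtPrime q) e H) hgor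

section Socle

variable {k : Type u} [Field k] {R : Type u} [CommRing R] [Algebra k R]
variable {𝒜 : ℤ → AddSubgroup R} [GradedRing 𝒜]
variable {D : Type u} [AddCommGroup D] [Module R D] [Module k D] [IsScalarTower k R D]
  {𝒟 : ℤ → AddSubgroup D} [DirectSum.Decomposition 𝒟]
  {β : D →ₗ[k] R →ₗ[k] k}

/-- a socle element of a graded dual of a connected graded ring is determined by its value on `1`. -/
theorem socle_eq_zero (hk : IsBase 𝒜 k) (hpos : ∀ n : ℤ, n < 0 → 𝒜 n = ⊥)
    (hD : IsGDual R 𝒜 𝒟 β) (d : D) (hd : ∀ e : ℤ, 0 < e → ∀ t ∈ 𝒜 e, t • d = 0)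
    (h1 : β d 1 = 0) : d = 0 := by
  apply Groth.Agent.Lib.Helper11.GrDual.eq_zero_of_forall hD
  intro x
  have key : ∀ n, ∀ x ∈ 𝒜 n, (β d).toAddMonoidHom x = (0 : R →+ k) x := by
    intro n x hx
    change β d x = 0
    rcases lt_trichotomy n 0 with hn | hn | hn
    · rw [hpos n hn, AddSubgroup.mem_bot] at hx
      rw [hx, map_zero]
    · subst hn
      obtain ⟨a, rfl⟩ := (hk x).1 hx
      rw [Algebra.algebraMap_eq_smul_one, map_smul, h1, smul_zero]
    · have : β d x = β (x • d) 1 := by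
        rw [hD.map_smul, smul_eq_mul, mul_one]
      rw [this, hd n hn x hx, map_zero, LinearMap.zero_apply]
  exact Groth.Agent.Lib.Helper11.GrDual.eq_of_forall_homogeneous 𝒜 _ _ key x

/-- the socle of a graded dual of a connected graded ring is at most one-dimensional. -/
theorem socle_dependent (hk : IsBase 𝒜 k) (hpos : ∀ n : ℤ, n < 0 → 𝒜 n = ⊥)
    (hD : IsGDual R 𝒜 𝒟 β) (w₁ w₂ : D) (h₁ : ∀ e : ℤ, 0 < e → ∀ t ∈ 𝒜 e, t • w₁ = 0)
    (h₂ : ∀ e : ℤ, 0 < e → ∀ t ∈ 𝒜 e, t • w₂ = 0) :
    ∃ c₁ c₂ : k, (c₁ ≠ 0 ∨ c₂ ≠ 0) ∧ c₁ • w₁ + c₂ • w₂ = 0 := by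
  by_cases h : β w₁ 1 = 0
  · refine ⟨1, 0, Or.inl one_ne_zero, ?_⟩
    rw [socle_eq_zero hk hpos hD w₁ h₁ h, smul_zero, zero_smul, add_zero]
  · refine ⟨β w₂ 1, -(β w₁ 1), Or.inr (neg_ne_zero.mpr h), ?_⟩
    apply socle_eq_zero hk hpos hD
    · intro e he t ht
      rw [smul_add, smul_comm t (β w₂ 1) w₁, smul_comm t (-(β w₁ 1)) w₂, h₁ e he t ht,
        h₂ e he t ht, smul_zero, smul_zero, add_zero]
    · rw [map_add, map_smul, map_smul, LinearMap.add_apply, LinearMap.smul_apply,
        LinearMap.smul_apply, smul_eq_mul, smul_eq_mul]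
      ring

end Socle

end Groth.Agent.Lib.Helper11.Seg
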