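import Groth.Agent.Lib.Helper11.GrKunN
import Groth.Agent.Lib.Helper11.GrSegCM

/-!
# Two independent socle elements in `H^q_{T_+}(R # S)` coming from the two factors
-/

set_option autoImplicit false
set_option linter.unusedSectionVars false
set_option linter.unusedVariables false
set_option linter.style.haveILetI false
set_option maxHeartbeats 1000000
universe u

open scoped TensorProduct

namespace Groth.Agent.Lib.Helper11.Seg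

open DirectSum GrLC Groth.Agent.Lib.Helper11.GrLCLib Groth.Agent.Lib.Helper11.GrLes
  Groth.Agent.Lib.Helper11.GrVer Groth.Agent.Lib.Helper11.GrMV Groth.Agent.Lib.Helper11.Kun

section Two

variable {k : Type u} [Field k] {R S T : Type u} [CommRing R] [CommRing S] [CommRing T]
  [Algebra k R] [Algebra k S] [Algebra k T]
variable {𝒜 : ℤ → AddSubgroup R} [GradedRing 𝒜] {ℬ : ℤ → AddSubgroup S} [GradedRing ℬ]
  [IsKAlgGr k 𝒜] [IsKAlgGr k ℬ]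
variable {𝒯 : ℤ → AddSubgroup T} [GradedRing 𝒯] {ψ : T →ₐ[k] R ⊗[k] S}
variable [IsNoetherianRing R] [IsNoetherianRing S] [IsNoetherianRing (R ⊗[k] S)]
variable {M N P : Type u} [AddCommGroup M] [Module R M] [Module k M] [IsScalarTower k R M]
  [AddCommGroup N] [Module S N] [Module k N] [IsScalarTower k S N]
  [AddCommGroup P] [Module T P] [Module k P] [IsScalarTower k T P]
variable {ℳ : ℤ → AddSubgroup M} [DirectSum.Decomposition ℳ] [SetLike.GradedSMul 𝒜 ℳ] [IsKGr k ℳ]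
  {𝒩 : ℤ → AddSubgroup N} [DirectSum.Decomposition 𝒩] [SetLike.GradedSMul ℬ 𝒩] [IsKGr k 𝒩]
  {𝒬 : ℤ → AddSubgroup P} [DirectSum.Decomposition 𝒬] [SetLike.GradedSMul 𝒯 𝒬]

/-- if the top local cohomologies of `R` and `S` end in degrees `α` and `γ` where the other ring
is nonzero, then `H^q_{T_+}(R # S)` contains two `k`-independent elements killed by `T_+`. -/
theorem exists_two_socle (h : IsSeg 𝒜 ℬ 𝒯 ψ) (m : HomogeneousIdeal 𝒜)
    (n : HomogeneousIdeal ℬ) (mT : HomogeneousIdeal 𝒯) (hm : m.toIdeal = irrI 𝒜)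
    (hn : n.toIdeal = irrI ℬ) (hmT : mT.toIdeal = irrI 𝒯)
    {φ : P →ₗ[k] M ⊗[k] N} (hP : GrSeg.IsSegreMod ψ ℳ 𝒩 𝒬 φ)
    (EM : StarInjRes 𝒜 ℳ) (EN : StarInjRes ℬ 𝒩) (EP : StarInjRes 𝒯 𝒬) (r s : ℕ)
    (hM : ∀ i, i ≠ r → Subsingleton (EM.H m i)) (hN : ∀ j, j ≠ s → Subsingleton (EN.H n j))
    (q : ℕ) (hq : q ≠ r + s)
    (α : ℤ) (hα : EM.Hcomp m q α ≠ ⊥) (hα' : ∀ e : ℤ, 0 < e → EM.Hcomp m q (α + e) = ⊥)
    (hBα : 𝒩 α ≠ ⊥)
    (γ : ℤ) (hγ : EN.Hcomp n q γ ≠ ⊥) (hγ' : ∀ e : ℤ, 0 < e → EN.Hcomp n q (γ + e) = ⊥)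
    (hAγ : ℳ γ ≠ ⊥) :
    ∃ w₁ w₂ : EP.H mT q, (∀ e : ℤ, 0 < e → ∀ t ∈ 𝒯 e, t • w₁ = 0) ∧
      (∀ e : ℤ, 0 < e → ∀ t ∈ 𝒯 e, t • w₂ = 0) ∧
      ∀ c₁ c₂ : k, algebraMap k T c₁ • w₁ + algebraMap k T c₂ • w₂ = 0 → c₁ = 0 ∧ c₂ = 0 := by
  obtain ⟨EX⟩ := nonempty_starInjRes (biGr (k := k) 𝒜 ℬ) (biGr (k := k) ℳ 𝒩)
  letI : Module k (EM.H m r) := Module.compHom _ (algebraMap k R)
  haveI : IsScalarTower k R (EM.H m r) := IsScalarTower.of_algebraMap_smul (fun r x => rfl)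
  letI : Module k (EN.H n s) := Module.compHom _ (algebraMap k S)
  haveI : IsScalarTower k S (EN.H n s) := IsScalarTower.of_algebraMap_smul (fun r x => rfl)
  obtain ⟨hsup, -⟩ := kunneth_sup m n EM EN EX r s hM hN
  have hs := hsup q hq
  obtain ⟨Φ, hΦinj, hΦmem, hΦsurj⟩ := diag_cmp h m n mT hm hn hmT hP EX EP q
  -- the element coming from `R`
  have hx0 : EX.Hcomp (extL (k := k) 𝒜 ℬ m) q (α, α) ≠ ⊥ := by
    rw [Ne, Hcomp_extL_eq_bot_iff m EM EX q (α, α)]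
    push_neg
    exact ⟨hα, hBα⟩
  obtain ⟨x, hx, hx0'⟩ := Submodule.exists_mem_ne_zero_of_ne_bot hx0
  have hy0 : EX.Hcomp (extR (k := k) 𝒜 ℬ n) q (γ, γ) ≠ ⊥ := by
    rw [Ne, Hcomp_extR_eq_bot_iff n EN EX q (γ, γ)]
    push_neg
    exact ⟨hAγ, hγ⟩
  obtain ⟨y, hy, hy0'⟩ := Submodule.exists_mem_ne_zero_of_ne_bot hy0
  have hz₁ : cmpH EX (inf_le_left : extL (k := k) 𝒜 ℬ m ⊓ extR (k := k) 𝒜 ℬ n ≤ extL (k := k) 𝒜 ℬ m) q x ∈ EX.Hcomp (extL (k := k) 𝒜 ℬ m ⊓ extR (k := k) 𝒜 ℬ n) q (diagHom α) :=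
    cmpH_mem EX _ q hx
  have hz₂ : cmpH EX (inf_le_right : extL (k := k) 𝒜 ℬ m ⊓ extR (k := k) 𝒜 ℬ n ≤ extR (k := k) 𝒜 ℬ n) q y ∈ EX.Hcomp (extL (k := k) 𝒜 ℬ m ⊓ extR (k := k) 𝒜 ℬ n) q (diagHom γ) :=
    cmpH_mem EX _ q hy
  obtain ⟨w₁, hw₁, hΦw₁⟩ := hΦsurj α _ hz₁
  obtain ⟨w₂, hw₂, hΦw₂⟩ := hΦsurj γ _ hz₂
  have hinjβ := mvβ_injective EX (extL (k := k) 𝒜 ℬ m) (extR (k := k) 𝒜 ℬ n) q hs
  refine ⟨w₁, w₂, ?_, ?_, ?_⟩
  · intro e he t ht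
    apply hΦinj
    rw [map_zero, map_smulₛₗ, hΦw₁, ← map_smul]
    have h1 : (ψ : T →+* R ⊗[k] S) t • x ∈ EX.Hcomp (extL (k := k) 𝒜 ℬ m) q ((α, α) + (e, e)) :=
      smul_mem_Hcomp EX (extL (k := k) 𝒜 ℬ m) q (h.map_mem ht) hx
    have h2 : EX.Hcomp (extL (k := k) 𝒜 ℬ m) q ((α, α) + (e, e)) = ⊥ := by
      rw [Hcomp_extL_eq_bot_iff m EM EX q]
      exact Or.inl (hα' e he)
    rw [h2, Submodule.mem_bot] at h1
    rw [h1, map_zero]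
  · intro e he t ht
    apply hΦinj
    rw [map_zero, map_smulₛₗ, hΦw₂, ← map_smul]
    have h1 : (ψ : T →+* R ⊗[k] S) t • y ∈ EX.Hcomp (extR (k := k) 𝒜 ℬ n) q ((γ, γ) + (e, e)) :=
      smul_mem_Hcomp EX (extR (k := k) 𝒜 ℬ n) q (h.map_mem ht) hy
    have h2 : EX.Hcomp (extR (k := k) 𝒜 ℬ n) q ((γ, γ) + (e, e)) = ⊥ := by
      rw [Hcomp_extR_eq_bot_iff n EN EX q]
      exact Or.inr (hγ' e he)
    rw [h2, Submodule.mem_bot] at h1
    rw [h1, map_zero]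
  · intro c₁ c₂ hc
    have h1 := congrArg Φ hc
    rw [map_zero, map_add, map_smulₛₗ, map_smulₛₗ, hΦw₁, hΦw₂] at h1
    have e1 : ∀ c : k, (ψ : T →+* R ⊗[k] S) (algebraMap k T c) = algebraMap k (R ⊗[k] S) c :=
      fun c => ψ.commutes c
    rw [e1, e1, ← map_smul, ← map_smul] at h1
    have h2 : mvβ EX (extL (k := k) 𝒜 ℬ m) (extR (k := k) 𝒜 ℬ n) q (algebraMap k (R ⊗[k] S) c₁ • x,
        -(algebraMap k (R ⊗[k] S) c₂ • y)) = 0 := by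
      rw [mvβ_apply, map_neg, sub_neg_eq_add]
      exact h1
    have h3 := hinjβ (h2.trans (map_zero _).symm)
    have h4 : algebraMap k (R ⊗[k] S) c₁ • x = 0 := congrArg Prod.fst h3
    have h5 : algebraMap k (R ⊗[k] S) c₂ • y = 0 := by
      have := congrArg Prod.snd h3
      exact neg_eq_zero.mp this
    constructor
    · by_contra hne
      apply hx0'
      have : algebraMap k (R ⊗[k] S) c₁⁻¹ • algebraMap k (R ⊗[k] S) c₁ • x = 0 := by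
        rw [h4, smul_zero]
      rwa [smul_smul, ← map_mul, inv_mul_cancel₀ hne, map_one, one_smul] at this
    · by_contra hne
      apply hy0'
      have : algebraMap k (R ⊗[k] S) c₂⁻¹ • algebraMap k (R ⊗[k] S) c₂ • y = 0 := by
        rw [h5, smul_zero]
      rwa [smul_smul, ← map_mul, inv_mul_cancel₀ hne, map_one, one_smul] at this

end Two

end Groth.Agent.Lib.Helper11.Seg
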