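import Groth.Agent.Lib.Helper11.GrSegPoly
import Groth.Agent.Lib.Helper11.GrDiagA

/-!
# The Segre product with a polynomial ring in one variable
-/

set_option autoImplicit false
set_option linter.unusedSectionVars false
set_option linter.unusedVariables false
set_option linter.style.haveILetI false
set_option maxHeartbeats 1000000
universe u

open scoped TensorProduct

namespace Groth.Agent.Lib.Helper11.Seg

open GrLC DirectSum MvPolynomial Groth.Agent.Lib.Helper11.GrField Groth.Agent.Lib.Helper11.GrCan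
  Groth.Agent.Lib.Helper11.GrLes Groth.Agent.Lib.Helper11.GrLCLib Groth.Agent.Lib27.LD
  Groth.Agent.Lib27.RS Groth.Agent.Lib.Helper11.GrConv Groth.Agent.Lib.Helper11.GrShift
  Groth.Agent.Lib27.StdPoly

section Gen

variable {k : Type u} [Field k] (R : Type u) [CommRing R] [Algebra k R] [IsNoetherianRing R]
  (𝒜 : ℤ → AddSubgroup R) [GradedRing 𝒜]

/-- a standard graded `k`-algebra of dimension one which is abstractly a polynomial ring is
generated by a single linear form, which can be specialised to `1`. -/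
theorem exists_linear_gen (hk : IsBase 𝒜 k) (hpos : ∀ n : ℤ, n < 0 → 𝒜 n = ⊥)
    (m : HomogeneousIdeal 𝒜) (hm : GrLC.IsStarLocal 𝒜 m)
    (hmsp : m.toIdeal = Ideal.span (⋃ n ∈ Set.Ioi (0 : ℤ), (𝒜 n : Set R)))
    (hstd : Ideal.span (⋃ n ∈ Set.Ioi (0 : ℤ), (𝒜 n : Set R)) =
      Ideal.span ((𝒜 1 : AddSubgroup R) : Set R))
    (hr : ringKrullDim R = ((1 : ℕ) : WithBot ℕ∞)) (e : R ≃ₐ[k] MvPolynomial (Fin 1) k) :
    ∃ y : R, y ∈ 𝒜 1 ∧ (∀ n : ℕ, ∀ x ∈ 𝒜 (n : ℤ), ∃ c : k, x = algebraMap k R c * y ^ n) ∧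
      ∃ ε : R →ₐ[k] k, ε y = 1 := by
  classical
  haveI : Nontrivial R := nontrivial_of_ringKrullDim 1 hr
  have hmax := isMaximal_of_isCoatom 𝒜 hpos hm.1
  have hm1 : (1 : R) ∉ m.toIdeal := fun h => hmax.ne_top ((Ideal.eq_top_iff_one _).2 h)
  have hht : m.toIdeal.height = ((1 : ℕ) : ℕ∞) := by
    have := ringKrullDim_eq_height 𝒜 hpos hm
    rw [hr] at this
    exact_mod_cast this.symm
  obtain ⟨t, y, hy, hyspan, hyind, hmin⟩ := exists_linear_basis hk hpos m hm1 hmsp hstd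
  obtain ⟨I⟩ := nonempty_starInjRes 𝒜 𝒜
  rcases t with _ | t'
  · exfalso
    have hA1 : ∀ x ∈ 𝒜 1, x = 0 := by
      intro x hx
      obtain ⟨c, rfl⟩ := hyspan x hx
      exact Finset.sum_empty
    obtain ⟨hd, htop, hne⟩ := case_zero hpos m hm hmsp hstd hA1 I
    rw [hd] at hr
    have : (0 : ℕ) = 1 := by exact_mod_cast hr
    omega
  · have hsurj := phi_surjective y hk hpos hstd hyspan
    have hdimP : ringKrullDim (MvPolynomial (Fin (t' + 1)) k) =
        ((t' + 1 : ℕ) : WithBot ℕ∞) := dim_poly _ _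
    haveI : IsRegularRing R := IsRegularRing.of_ringEquiv e.symm.toRingEquiv
    haveI := hmax
    haveI hmp : m.toIdeal.IsPrime := hmax.isPrime
    haveI : IsRegularLocalRing (Localization.AtPrime m.toIdeal) :=
      IsRegularRing.isRegularLocalRing_localization m.toIdeal
    obtain ⟨g, hg, hgen⟩ := exists_gens_of_regular m.toIdeal 1 hht
    have h1 : t' + 1 ≤ 1 := hmin 1 g hg hgen
    obtain rfl : t' = 0 := by omega
    have hinj : Function.Injective (phi (k := k) y) :=
      injective_of_dim_eq (phi (k := k) y) hsurj 1 hdimP hr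
    have hy1 : ∀ x ∈ 𝒜 1, ∃ c : k, x = algebraMap k R c * y 0 := by
      intro x hx
      obtain ⟨c, rfl⟩ := hyspan x hx
      exact ⟨c 0, by rw [Fin.sum_univ_one]⟩
    have hyn : ∀ n : ℕ, ∀ x ∈ 𝒜 (n : ℤ), ∃ c : k, x = algebraMap k R c * y 0 ^ n := by
      intro n
      induction n with
      | zero =>
        intro x hx
        obtain ⟨a, rfl⟩ := (hk x).1 hx
        exact ⟨a, by rw [pow_zero, mul_one]⟩
      | succ n ih =>
        intro x hx
        have hx' : x ∈ 𝒜 ((n : ℤ) + 1) := by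
          have e : ((n + 1 : ℕ) : ℤ) = (n : ℤ) + 1 := by push_cast; ring
          rwa [e] at hx
        have h1 := Groth.Agent.Lib.Helper11.GrStd.mem_prodGrp_one 𝒜 hstd (n : ℤ)
          (Int.natCast_nonneg n) hx'
        have key : ∀ w ∈ AddSubgroup.closure (Set.image2 (· * ·)
            ((𝒜 (n : ℤ) : AddSubgroup R) : Set R) ((𝒜 1 : AddSubgroup R) : Set R)),
            ∃ c : k, w = algebraMap k R c * y 0 ^ (n + 1) := by
          intro w hw
          induction hw using AddSubgroup.closure_induction with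
          | mem w hw =>
            obtain ⟨p, hp, q, hq, rfl⟩ := hw
            obtain ⟨c, rfl⟩ := ih p hp
            obtain ⟨c', rfl⟩ := hy1 q hq
            refine ⟨c * c', ?_⟩
            change algebraMap k R c * y 0 ^ n * (algebraMap k R c' * y 0) = _
            rw [map_mul, pow_succ]
            ring
          | zero => exact ⟨0, by rw [map_zero, zero_mul]⟩
          | add a b _ _ ha hb =>
            obtain ⟨c, rfl⟩ := ha
            obtain ⟨c', rfl⟩ := hb
            exact ⟨c + c', by rw [map_add, add_mul]⟩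
          | neg a _ ha =>
            obtain ⟨c, rfl⟩ := ha
            exact ⟨-c, by rw [map_neg, neg_mul]⟩
        exact key x h1
    let e' : MvPolynomial (Fin 1) k ≃ₐ[k] R :=
      AlgEquiv.ofBijective (MvPolynomial.aeval y) ⟨hinj, hsurj⟩
    refine ⟨y 0, hy 0, hyn,
      (MvPolynomial.aeval (fun _ : Fin 1 => (1 : k))).comp e'.symm.toAlgHom, ?_⟩
    have h2 : e'.symm (y 0) = X 0 := by
      rw [AlgEquiv.symm_apply_eq]
      change y 0 = MvPolynomial.aeval y (X 0)
      rw [MvPolynomial.aeval_X]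
    change MvPolynomial.aeval (fun _ : Fin 1 => (1 : k)) (e'.symm (y 0)) = 1
    rw [h2, MvPolynomial.aeval_X]

end Gen

section Equiv

variable {k : Type u} [Field k] {R S T : Type u} [CommRing R] [CommRing S] [CommRing T]
  [Algebra k R] [Algebra k S] [Algebra k T]
variable {𝒜 : ℤ → AddSubgroup R} [GradedRing 𝒜] {ℬ : ℤ → AddSubgroup S} [GradedRing ℬ]
  [IsKAlgGr k 𝒜] [IsKAlgGr k ℬ]
variable {𝒯 : ℤ → AddSubgroup T} [GradedRing 𝒯] {ψ : T →ₐ[k] R ⊗[k] S}

/-- the Segre product of `R` with a polynomial ring in one (linear) variable is isomorphic to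
`R`. -/
theorem exists_ringEquiv_of_linear_gen (h : IsSeg 𝒜 ℬ 𝒯 ψ)
    (hposA : ∀ n : ℤ, n < 0 → 𝒜 n = ⊥) (hposT : ∀ n : ℤ, n < 0 → 𝒯 n = ⊥)
    (y : S) (hy : y ∈ ℬ 1)
    (hspan : ∀ n : ℕ, ∀ x ∈ ℬ (n : ℤ), ∃ c : k, x = algebraMap k S c * y ^ n)
    (ε : S →ₐ[k] k) (hε : ε y = 1) : Nonempty (T ≃+* R) := by
  classical
  let L : R ⊗[k] S →ₐ[k] R :=
    (Algebra.TensorProduct.rid k k R).toAlgHom.comp (Algebra.TensorProduct.map (AlgHom.id k R) ε)
  have hL : ∀ (a : R) (b : S), L (a ⊗ₜ[k] b) = ε b • a := by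
    intro a b
    change Algebra.TensorProduct.rid k k R (Algebra.TensorProduct.map (AlgHom.id k R) ε
      (a ⊗ₜ[k] b)) = _
    rw [Algebra.TensorProduct.map_tmul, Algebra.TensorProduct.rid_tmul]
    rfl
  have hypow : ∀ N : ℕ, y ^ N ∈ ℬ (N : ℤ) := by
    intro N
    have := SetLike.pow_mem_graded (A := ℬ) N hy
    rwa [nsmul_eq_mul, mul_one] at this
  have hksm : ∀ (c : k) (j : ℤ) (a : R), a ∈ 𝒜 j → c • a ∈ 𝒜 j := by
    intro c j a ha
    rw [Algebra.smul_def]
    have := SetLike.GradedMul.mul_mem (A := 𝒜) (IsKAlgGr.algebraMap_mem (𝒜 := 𝒜) c) ha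
    rwa [zero_add] at this
  -- the structure of the diagonal pieces
  have key : ∀ (N : ℕ) (z : R ⊗[k] S), z ∈ biGr (k := k) 𝒜 ℬ ((N : ℤ), (N : ℤ)) →
      z = L z ⊗ₜ[k] (y ^ N) ∧ L z ∈ 𝒜 (N : ℤ) := by
    intro N z hz
    have hz' : z ∈ biSub (k := k) 𝒜 ℬ ((N : ℤ), (N : ℤ)) := hz
    induction hz' using Submodule.span_induction with
    | mem z hz0 =>
      obtain ⟨a, ha, b, hb, rfl⟩ := hz0
      obtain ⟨c, rfl⟩ := hspan N b hb
      have hεb : ε (algebraMap k S c * y ^ N) = c := by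
        rw [map_mul, map_pow, hε, one_pow, mul_one, AlgHom.commutes]
        rfl
      rw [hL, hεb]
      refine ⟨?_, hksm c _ a ha⟩
      rw [← Algebra.smul_def, TensorProduct.tmul_smul, TensorProduct.smul_tmul']
    | zero =>
      rw [map_zero, TensorProduct.zero_tmul]
      exact ⟨rfl, zero_mem _⟩
    | add z z' hz1 hz2 ih1 ih2 =>
      obtain ⟨e1, m1⟩ := ih1 hz1
      obtain ⟨e2, m2⟩ := ih2 hz2
      rw [map_add, TensorProduct.add_tmul, ← e1, ← e2]
      exact ⟨rfl, add_mem m1 m2⟩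
    | smul c z hz1 ih =>
      obtain ⟨e1, m1⟩ := ih hz1
      rw [map_smul, ← TensorProduct.smul_tmul', ← e1]
      exact ⟨rfl, hksm c _ _ m1⟩
  let θ : T →+* R := (L.comp ψ : T →ₐ[k] R)
  have hθ : ∀ t, θ t = L (ψ t) := fun t => rfl
  have hgr : IsGrRingHom 𝒜 𝒯 θ := by
    intro j t ht
    by_cases hj : 0 ≤ j
    · obtain ⟨N, rfl⟩ := Int.eq_ofNat_of_zero_le hj
      exact (key N (ψ t) (h.map_mem ht)).2
    · rw [hposT j (by omega), AddSubgroup.mem_bot] at ht
      rw [ht, map_zero]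
      exact zero_mem _
  have hinj : Function.Injective θ := by
    rw [injective_iff_map_eq_zero]
    intro t ht
    rw [← DirectSum.sum_support_decompose 𝒯 t]
    apply Finset.sum_eq_zero
    intro j _
    have h1 := decompose_map_ring hgr t j
    rw [ht, decompose_zero, DirectSum.zero_apply, ZeroMemClass.coe_zero] at h1
    by_cases hj : 0 ≤ j
    · obtain ⟨N, rfl⟩ := Int.eq_ofNat_of_zero_le hj
      have h2 := (key N (ψ (decompose 𝒯 t (N : ℤ) : T)) (h.map_mem (SetLike.coe_mem _))).1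
      rw [← hθ, ← h1, TensorProduct.zero_tmul] at h2
      exact h.inj (h2.trans (map_zero ψ).symm)
    · have h3 : ((decompose 𝒯 t j : 𝒯 j) : T) ∈ (⊥ : AddSubgroup T) :=
        hposT j (by omega) ▸ SetLike.coe_mem _
      exact (AddSubgroup.mem_bot).mp h3
  have hsurj : Function.Surjective θ := by
    intro r
    have hr : r ∈ (θ.range : Subring R) := by
      rw [← DirectSum.sum_support_decompose 𝒜 r]
      refine Subring.sum_mem _ fun j _ => ?_
      by_cases hj : 0 ≤ j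
      · obtain ⟨N, rfl⟩ := Int.eq_ofNat_of_zero_le hj
        have hmem : ((decompose 𝒜 r (N : ℤ) : 𝒜 (N : ℤ)) : R) ⊗ₜ[k] (y ^ N) ∈
            biGr (k := k) 𝒜 ℬ ((N : ℤ), (N : ℤ)) :=
          tmul_mem_biGr 𝒜 ℬ (SetLike.coe_mem _) (hypow N)
        obtain ⟨t, ht, hψt⟩ := h.exists_of_mem hmem
        refine ⟨t, ?_⟩
        rw [hθ, hψt, hL, map_pow, hε, one_pow, one_smul]
      · have h3 : ((decompose 𝒜 r j : 𝒜 j) : R) ∈ (⊥ : AddSubgroup R) :=
          hposA j (by omega) ▸ SetLike.coe_mem _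
        rw [(AddSubgroup.mem_bot).mp h3]
        exact zero_mem _
    exact hr
  exact ⟨RingEquiv.ofBijective θ ⟨hinj, hsurj⟩⟩

end Equiv

end Groth.Agent.Lib.Helper11.Seg
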