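import Groth.Agent.Lib.Helper11.GrSegOneA
import Groth.Agent.Lib.Helper11.GrSegOneB
import Groth.Agent.Lib.Helper11.GrSegOneC
import Groth.Agent.Lib.Helper11.GrSegInvD
import Groth.Agent.Lib27.GrFin5

/-!
# A Gorenstein Segre product of one-dimensional standard graded Cohen–Macaulay rings
-/

set_option autoImplicit false
set_option linter.unusedSectionVars false
set_option linter.unusedVariables false
set_option linter.style.haveILetI false
set_option maxHeartbeats 1000000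
universe u

open scoped TensorProduct

namespace Groth.Agent.Lib.Helper11.Seg

open DirectSum GrLC GrSeg Groth.Agent.Lib.Helper11.GrLCLib Groth.Agent.Lib.Helper11.GrLes
  Groth.Agent.Lib.Helper11.GrComp Groth.Agent.Lib.Helper11.GrVer Groth.Agent.Lib.Helper11.GrMV
  Groth.Agent.Lib.Helper11.GrConv Groth.Agent.Lib.Helper11.GrCan
  Groth.Agent.Lib.Helper11.GrField

attribute [local instance] convGradedRing

section Top

variable {k : Type u} [Field k] (R : Type u) [CommRing R] [Algebra k R]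
  [LocCoh.IsCohenMacaulayRing R] (𝒜 : ℤ → AddSubgroup R) [GradedRing 𝒜]

/-- a one-dimensional standard graded Cohen–Macaulay `k`-algebra which is not a polynomial ring
has nonnegative `a`-invariant. -/
theorem exists_top_degree_of_not_poly (hk : IsBase 𝒜 k) (hpos : ∀ n : ℤ, n < 0 → 𝒜 n = ⊥)
    (m : HomogeneousIdeal 𝒜) (hm : GrLC.IsStarLocal 𝒜 m)
    (hmsp : m.toIdeal = Ideal.span (⋃ n ∈ Set.Ioi (0 : ℤ), (𝒜 n : Set R)))
    (hstd : Ideal.span (⋃ n ∈ Set.Ioi (0 : ℤ), (𝒜 n : Set R)) =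
      Ideal.span ((𝒜 1 : AddSubgroup R) : Set R))
    (hr : ringKrullDim R = ((1 : ℕ) : WithBot ℕ∞)) (I : StarInjRes 𝒜 𝒜)
    (hnp : IsEmpty (R ≃ₐ[k] MvPolynomial (Fin 1) k)) :
    ∃ α : ℤ, 0 ≤ α ∧ I.Hcomp m 1 α ≠ ⊥ ∧ ∀ e : ℤ, 0 < e → I.Hcomp m 1 (α + e) = ⊥ := by
  have h1 := main_k R 𝒜 hk hpos m hm hmsp hstd 1 le_rfl hr I
  have h2 : ¬ ∀ j : ℤ, -((1 : ℕ) : ℤ) < j → I.Hgr m 1 j = ⊥ := by
    intro h
    exact hnp.false (h1.mp h).some
  push_neg at h2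
  obtain ⟨j, hj, hjne⟩ := h2
  obtain ⟨N, hN⟩ := Groth.Agent.Lib27.GrFin.exists_Hcomp_eq_bot 𝒜 hpos m hmsp I
  have hP : ∃ ub : ℤ, I.Hcomp m 1 ub ≠ ⊥ ∧ ∀ z : ℤ, I.Hcomp m 1 z ≠ ⊥ → z ≤ ub := by
    apply Int.exists_greatest_of_bdd
    · refine ⟨N, fun z hz => ?_⟩
      by_contra hlt
      exact hz (hN 1 z (by omega))
    · refine ⟨j, ?_⟩
      rwa [Ne, Groth.Agent.Lib.Helper11.Seg.Hcomp_eq_bot_iff_Hgr]
  obtain ⟨α, hα, hmaxα⟩ := hP
  refine ⟨α, ?_, hα, ?_⟩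
  · have hjα : j ≤ α := hmaxα j (by
      rwa [Ne, Groth.Agent.Lib.Helper11.Seg.Hcomp_eq_bot_iff_Hgr])
    push_cast at hj
    omega
  · intro e he
    by_contra hne
    have := hmaxα (α + e) hne
    omega

end Top

/-- **A Gorenstein Segre product of one-dimensional standard graded Cohen–Macaulay rings**, one of
which is not a polynomial ring. -/
theorem segre_gorenstein_dim_one (k : Type u) [Field k] (R : Type u) [CommRing R] [Algebra k R]
    (𝒜 : ℤ → Submodule k R) [GradedAlgebra 𝒜] (hposR : ∀ n : ℤ, n < 0 → 𝒜 n = ⊥)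
    (h0R : 𝒜 0 = Submodule.span k {(1 : R)}) [Algebra.FiniteType k R]
    (S : Type u) [CommRing S] [Algebra k S] (ℬ : ℤ → Submodule k S) [GradedAlgebra ℬ]
    (hposS : ∀ n : ℤ, n < 0 → ℬ n = ⊥) (h0S : ℬ 0 = Submodule.span k {(1 : S)})
    [Algebra.FiniteType k S]
    (T : Type u) [CommRing T] [Algebra k T] (𝒯 : ℤ → Submodule k T) [GradedAlgebra 𝒯]
    (ψ : T →ₐ[k] R ⊗[k] S) (hψ : Function.Injective ψ)
    (hdegT : ∀ n : ℤ, (𝒯 n).map ψ.toLinearMap =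
      Submodule.span k {x : R ⊗[k] S | ∃ a ∈ 𝒜 n, ∃ b ∈ ℬ n, x = a ⊗ₜ[k] b})
    [LocCoh.IsCohenMacaulayRing R] [LocCoh.IsCohenMacaulayRing S]
    (hstdR : Ideal.span (⋃ n ∈ Set.Ioi (0 : ℤ), (𝒜 n : Set R)) =
      Ideal.span ((𝒜 1 : Submodule k R) : Set R))
    (hstdS : Ideal.span (⋃ n ∈ Set.Ioi (0 : ℤ), (ℬ n : Set S)) =
      Ideal.span ((ℬ 1 : Submodule k S) : Set S))
    (hr : ringKrullDim R = 1) (hs : ringKrullDim S = 1)
    (hR : IsEmpty (R ≃ₐ[k] Polynomial k)) [LocCoh.IsGorensteinRing T] :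
    Nonempty (S ≃ₐ[k] Polynomial k) ∧ LocCoh.IsGorensteinRing R := by
  have hr' : ringKrullDim R = ((1 : ℕ) : WithBot ℕ∞) := hr.trans Nat.cast_one.symm
  have hs' : ringKrullDim S = ((1 : ℕ) : WithBot ℕ∞) := hs.trans Nat.cast_one.symm
  haveI : IsNoetherianRing R := Algebra.FiniteType.isNoetherianRing k R
  haveI : IsNoetherianRing S := Algebra.FiniteType.isNoetherianRing k S
  haveI : IsNoetherianRing (R ⊗[k] S) := noetherian_tensor (k := k) (R := R) (S := S)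
  haveI : Nontrivial R := nontrivial_of_ringKrullDim 1 hr'
  haveI : Nontrivial S := nontrivial_of_ringKrullDim 1 hs'
  haveI : IsKAlgGr k (conv 𝒜) := isKAlgGr_conv 𝒜
  haveI : IsKAlgGr k (conv ℬ) := isKAlgGr_conv ℬ
  haveI : IsKAlgGr k (conv 𝒯) := isKAlgGr_conv 𝒯
  have hseg : IsSeg (conv 𝒜) (conv ℬ) (conv 𝒯) ψ := isSeg_conv hψ hdegT
  haveI : IsNoetherianRing T := hseg.isVerRing.isNoetherianRing
  have hdimT := Groth.Agent.Lib.Helper20.SegreDim.ringKrullDim_segre 𝒜 ℬ 𝒯 ψ hψ hdegT hposR h0R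
    hposS h0S 1 1 hr' hs' (by omega) (by omega)
  haveI : Nontrivial T := nontrivial_of_ringKrullDim (1 + 1 - 1) hdimT
  have hposT := Groth.Agent.Lib.Helper20.SegreDim.hposT 𝒜 ℬ 𝒯 ψ hψ hdegT hposR
  have h0T := Groth.Agent.Lib.Helper20.SegreDim.h0T 𝒜 ℬ 𝒯 ψ hψ hdegT h0R h0S
  let mA : HomogeneousIdeal (conv 𝒜) := Groth.Agent.Lib.Helper11.GrField.irrelevant (conv 𝒜)
  let mB : HomogeneousIdeal (conv ℬ) := Groth.Agent.Lib.Helper11.GrField.irrelevant (conv ℬ)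
  let mC : HomogeneousIdeal (conv 𝒯) := Groth.Agent.Lib.Helper11.GrField.irrelevant (conv 𝒯)
  have hlocR : IsStarLocal (conv 𝒜) mA := isStarLocal_conv_irr 𝒜 hposR h0R mA rfl
  have hlocS : IsStarLocal (conv ℬ) mB := isStarLocal_conv_irr ℬ hposS h0S mB rfl
  have hlocT : IsStarLocal (conv 𝒯) mC := isStarLocal_conv_irr 𝒯 hposT h0T mC rfl
  by_cases hSpoly : Nonempty (S ≃ₐ[k] Polynomial k)
  · refine ⟨hSpoly, ?_⟩
    obtain ⟨e⟩ := hSpoly
    obtain ⟨y, hy, hspan, ε, hε⟩ := exists_linear_gen S (conv ℬ) (isBase_conv ℬ h0S)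
      (hpos_conv ℬ hposS) mB hlocS rfl hstdS hs' (e.trans (MvPolynomial.uniqueAlgEquiv k (Fin 1)).symm)
    obtain ⟨θ⟩ := exists_ringEquiv_of_linear_gen hseg (hpos_conv 𝒜 hposR) (hpos_conv 𝒯 hposT)
      y hy hspan ε hε
    exact isGorensteinRing_of_ringEquiv θ
  · exfalso
    obtain ⟨I'⟩ := nonempty_starInjRes (conv 𝒜) (conv 𝒜)
    obtain ⟨J'⟩ := nonempty_starInjRes (conv ℬ) (conv ℬ)
    obtain ⟨IT'⟩ := nonempty_starInjRes (conv 𝒯) (conv 𝒯)
    have hI : ∀ i, i ≠ 1 → Subsingleton (I'.H mA i) := fun i hi =>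
      Groth.Agent.Lib.Helper11.GrCMGlob.subsingleton_H_of_ne_dim (conv 𝒜) (hpos_conv 𝒜 hposR) mA
        hlocR 1 hr' I' i hi
    have hJ : ∀ j, j ≠ 1 → Subsingleton (J'.H mB j) := fun j hj =>
      Groth.Agent.Lib.Helper11.GrCMGlob.subsingleton_H_of_ne_dim (conv ℬ) (hpos_conv ℬ hposS) mB
        hlocS 1 hs' J' j hj
    have hhtT : mC.toIdeal.height = ((1 : ℕ) : ℕ∞) := by
      have := ringKrullDim_eq_height (conv 𝒯) (hpos_conv 𝒯 hposT) hlocT
      rw [hdimT] at this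
      exact_mod_cast this.symm
    obtain ⟨α, hα0, hα, hα'⟩ := exists_top_degree_of_not_poly R (conv 𝒜) (isBase_conv 𝒜 h0R)
      (hpos_conv 𝒜 hposR) mA hlocR rfl hstdR hr' I'
      ⟨fun e => hR.false (e.trans (MvPolynomial.uniqueAlgEquiv k (Fin 1)))⟩
    obtain ⟨γ, hγ0, hγ, hγ'⟩ := exists_top_degree_of_not_poly S (conv ℬ) (isBase_conv ℬ h0S)
      (hpos_conv ℬ hposS) mB hlocS rfl hstdS hs' J'
      ⟨fun e => hSpoly ⟨e.trans (MvPolynomial.uniqueAlgEquiv k (Fin 1))⟩⟩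
    have hBα : conv ℬ α ≠ ⊥ := by
      have := piece_ne_bot_of_std ℬ hposS h0S hstdS 1 hs' le_rfl α hα0
      obtain ⟨u, hu, hu0⟩ := Submodule.exists_mem_ne_zero_of_ne_bot this
      intro hbot
      have hu' : u ∈ conv ℬ α := hu
      rw [hbot, AddSubgroup.mem_bot] at hu'
      exact hu0 hu'
    have hAγ : conv 𝒜 γ ≠ ⊥ := by
      have := piece_ne_bot_of_std 𝒜 hposR h0R hstdR 1 hr' le_rfl γ hγ0
      obtain ⟨u, hu, hu0⟩ := Submodule.exists_mem_ne_zero_of_ne_bot this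
      intro hbot
      have hu' : u ∈ conv 𝒜 γ := hu
      rw [hbot, AddSubgroup.mem_bot] at hu'
      exact hu0 hu'
    obtain ⟨w₁, w₂, hw₁, hw₂, hind⟩ := exists_two_socle hseg mA mB mC rfl rfl rfl
      hseg.isSegreMod_self I' J' IT' 1 1 hI hJ 1 (by omega) α hα hα' hBα γ hγ hγ' hAγ
    letI : Module k (IT'.H mC 1) := Module.compHom _ (algebraMap k T)
    haveI : IsScalarTower k T (IT'.H mC 1) := IsScalarTower.of_algebraMap_smul (fun r x => rfl)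
    obtain ⟨c, hc, βT, hβT⟩ := exists_gdual_top_of_gorenstein (isBase_conv 𝒯 h0T)
      (hpos_conv 𝒯 hposT) mC rfl hlocT 1 hhtT IT'
    letI dT : DirectSum.Decomposition (IT'.Hgr mC 1) :=
      (Hgr_isInternal (conv 𝒯) (conv 𝒯) IT' mC 1).chooseDecomposition
    letI : DirectSum.Decomposition (shiftGr (IT'.Hgr mC 1) c) := shiftDecomposition _ c
    have hβ := hβT inferInstance
    obtain ⟨c₁, c₂, hne, hdep⟩ := socle_dependent (isBase_conv 𝒯 h0T) (hpos_conv 𝒯 hposT) hβ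
      w₁ w₂ hw₁ hw₂
    obtain ⟨e1, e2⟩ := hind c₁ c₂ hdep
    rcases hne with h | h
    · exact h e1
    · exact h e2

end Groth.Agent.Lib.Helper11.Seg
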