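import Groth.Agent.Lib.Helper11.GrSegRowA
import Groth.Agent.Lib.Helper11.GrConvC

/-!
# Auxiliary existence statements for the Segre rows
-/

set_option autoImplicit false
set_option linter.unusedSectionVars false
set_option linter.unusedVariables false
set_option linter.style.haveILetI false
universe u

open scoped TensorProduct

namespace Groth.Agent.Lib.Helper11.Seg

open DirectSum GrLC Groth.Agent.Lib.Helper11.GrLCLib Groth.Agent.Lib.Helper11.GrConv

attribute [local instance] convGradedRing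

/-- the irrelevant ideal and a *injective resolution of a graded `k`-algebra. -/
theorem exists_irr_res {k : Type u} [Field k] {S : Type u} [CommRing S] [Algebra k S]
    (ℬ : ℤ → Submodule k S) [GradedAlgebra ℬ] :
    ∃ (mS : HomogeneousIdeal ℬ) (_ : GrLC.StarInjRes ℬ ℬ),
      mS.toIdeal = Ideal.span (⋃ n ∈ Set.Ioi (0 : ℤ), (ℬ n : Set S)) := by
  obtain ⟨J0⟩ := nonempty_starInjRes (conv ℬ) (conv ℬ)
  refine ⟨⟨Ideal.span (⋃ n ∈ Set.Ioi (0 : ℤ), (ℬ n : Set S)), ?_⟩, resUnconv ℬ ℬ J0, rfl⟩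
  apply Ideal.homogeneous_span
  intro x hx
  simp only [Set.mem_iUnion] at hx
  obtain ⟨n, -, hx⟩ := hx
  exact ⟨n, hx⟩

lemma Hcomp_eq_bot_of_subsingleton {ι : Type} [DecidableEq ι] [AddCommGroup ι]
    {R : Type u} [CommRing R] {σ : Type u} [SetLike σ R] [AddSubgroupClass σ R]
    {𝒜 : ι → σ} [GradedRing 𝒜] {M : Type u} [AddCommGroup M] [Module R M] {τ : Type u}
    [SetLike τ M] [AddSubgroupClass τ M] {ℳ : ι → τ} [DirectSum.Decomposition ℳ]
    [SetLike.GradedSMul 𝒜 ℳ] (E : StarInjRes 𝒜 ℳ) (a : HomogeneousIdeal 𝒜) (q : ℕ) (d : ι)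
    (h : Subsingleton (E.H a q)) : E.Hcomp a q d = ⊥ :=
  eq_bot_iff.mpr (fun x _ => (Submodule.mem_bot _).mpr (Subsingleton.elim x 0))

end Groth.Agent.Lib.Helper11.Seg
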