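import Groth.Agent.Lib.Helper11.GrSegRowB
import Groth.Agent.Lib.Helper11.GrSegStd

/-!
# More auxiliary statements for the Segre rows
-/

set_option autoImplicit false
set_option linter.unusedSectionVars false
set_option linter.unusedVariables false
set_option linter.style.haveILetI false
universe u

namespace Groth.Agent.Lib.Helper11.Seg

open DirectSum GrLC

lemma Hgr_eq_bot_iff {ι : Type} [DecidableEq ι] [AddCommGroup ι]
    {R : Type u} [CommRing R] {σ : Type u} [SetLike σ R] [AddSubgroupClass σ R]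
    {𝒜 : ι → σ} [GradedRing 𝒜] {M : Type u} [AddCommGroup M] [Module R M] {τ : Type u}
    [SetLike τ M] [AddSubgroupClass τ M] {ℳ : ι → τ} [DirectSum.Decomposition ℳ]
    [SetLike.GradedSMul 𝒜 ℳ] (E : StarInjRes 𝒜 ℳ) (a : HomogeneousIdeal 𝒜) (q : ℕ) (d : ι) :
    E.Hgr a q d = ⊥ ↔ E.Hcomp a q d = ⊥ := by
  rw [Submodule.eq_bot_iff, AddSubgroup.eq_bot_iff_forall]
  exact Iff.rfl

/-- for a standard graded ring `R` of positive dimension: `R_n = 0 ∨ X_n = 0` for all `n` iff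
`X` vanishes in nonnegative degrees. -/
theorem forall_piece_or_iff {k : Type u} [Field k] {R : Type u} [CommRing R] [Algebra k R]
    (𝒜 : ℤ → Submodule k R) [GradedAlgebra 𝒜] (hposR : ∀ n : ℤ, n < 0 → 𝒜 n = ⊥)
    (h0R : 𝒜 0 = Submodule.span k {(1 : R)})
    (hstdR : Ideal.span (⋃ n ∈ Set.Ioi (0 : ℤ), (𝒜 n : Set R)) =
      Ideal.span ((𝒜 1 : Submodule k R) : Set R))
    (r : ℕ) (hr : ringKrullDim R = r) (h1r : 1 ≤ r) (P : ℤ → Prop) :
    (∀ n : ℤ, 𝒜 n = ⊥ ∨ P n) ↔ ∀ n : ℤ, 0 ≤ n → P n := by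
  constructor
  · intro h n hn
    rcases h n with h1 | h1
    · exact absurd h1 (piece_ne_bot_of_std 𝒜 hposR h0R hstdR r hr h1r n hn)
    · exact h1
  · intro h n
    by_cases hn : 0 ≤ n
    · exact Or.inr (h n hn)
    · exact Or.inl (hposR n (not_le.mp hn))

end Groth.Agent.Lib.Helper11.Seg
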