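import Groth.Agent.Lib27.StdPoly5
import Groth.Agent.Lib.Helper11.GrSegRowC
import Groth.Agent.Lib.Helper11.GrSegRowB

/-!
# `a(R) < 1 - dim R` characterises polynomial `k`-algebras (version over an explicit base field)
-/

set_option autoImplicit false
set_option linter.unusedSectionVars false
set_option linter.unusedVariables false
set_option linter.style.haveILetI false
set_option maxHeartbeats 1000000
universe u

namespace Groth.Agent.Lib.Helper11.Seg

open GrLC DirectSum MvPolynomial Groth.Agent.Lib.Helper11.GrField Groth.Agent.Lib.Helper11.GrCan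
  Groth.Agent.Lib.Helper11.GrLes Groth.Agent.Lib.Helper11.GrLCLib Groth.Agent.Lib27.LD
  Groth.Agent.Lib27.RS Groth.Agent.Lib.Helper11.GrConv Groth.Agent.Lib.Helper11.GrShift
  Groth.Agent.Lib27.StdPoly

/-- a nontrivial algebra of finite type over a field has finite Krull dimension. -/
theorem exists_nat_dim (k : Type u) [Field k] (S : Type u) [CommRing S] [Algebra k S]
    [Algebra.FiniteType k S] [Nontrivial S] : ∃ s : ℕ, ringKrullDim S = s := by
  obtain ⟨n, f, hf⟩ := (Algebra.FiniteType.iff_quotient_mvPolynomial'' (R := k) (S := S)).mp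
    inferInstance
  have h1 : ringKrullDim S ≤ (n : WithBot ℕ∞) := by
    have := ringKrullDim_le_of_surjective f.toRingHom hf
    rwa [dim_poly] at this
  have h0 : ringKrullDim S ≠ ⊥ := by
    intro h
    have := ringKrullDim_nonneg_of_nontrivial (R := S)
    rw [h] at this
    exact absurd this (by simp)
  obtain ⟨d, hd⟩ := WithBot.ne_bot_iff_exists.mp h0
  rw [← hd] at h1
  have h2 : d ≤ (n : ℕ∞) := by exact_mod_cast h1
  have h3 : d ≠ ⊤ := ne_top_of_le_ne_top (ENat.natCast_ne_top n) h2
  obtain ⟨s, hs⟩ := ENat.ne_top_iff_exists.mp h3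
  exact ⟨s, by rw [← hd, ← hs]; rfl⟩

section Main

variable {k : Type u} [Field k] (R : Type u) [CommRing R] [Algebra k R]
  [LocCoh.IsCohenMacaulayRing R] (𝒜 : ℤ → AddSubgroup R) [GradedRing 𝒜]

theorem main_k (hk : IsBase 𝒜 k) (hpos : ∀ n : ℤ, n < 0 → 𝒜 n = ⊥)
    (m : HomogeneousIdeal 𝒜) (hm : GrLC.IsStarLocal 𝒜 m)
    (hmsp : m.toIdeal = Ideal.span (⋃ n ∈ Set.Ioi (0 : ℤ), (𝒜 n : Set R)))
    (hstd : Ideal.span (⋃ n ∈ Set.Ioi (0 : ℤ), (𝒜 n : Set R)) =
      Ideal.span ((𝒜 1 : AddSubgroup R) : Set R))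
    (r : ℕ) (hr1 : 1 ≤ r) (hr : ringKrullDim R = r) (I : StarInjRes 𝒜 𝒜) :
    (∀ j : ℤ, -(r : ℤ) < j → I.Hgr m r j = ⊥) ↔
      Nonempty (R ≃ₐ[k] MvPolynomial (Fin r) k) := by
  classical
  haveI : Nontrivial R := nontrivial_of_ringKrullDim r hr
  have hinj0 : Function.Injective (algebraMap k R) := (algebraMap k R).injective
  have hmax := isMaximal_of_isCoatom 𝒜 hpos hm.1
  have hm1 : (1 : R) ∉ m.toIdeal := fun h => hmax.ne_top ((Ideal.eq_top_iff_one _).2 h)
  have hht : m.toIdeal.height = r := by
    have := ringKrullDim_eq_height 𝒜 hpos hm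
    rw [hr] at this
    exact_mod_cast this.symm
  obtain ⟨t, y, hy, hyspan, hyind, hmin⟩ := exists_linear_basis hk hpos m hm1 hmsp hstd
  rcases t with _ | t'
  · -- no linear forms: `R` is a field
    exfalso
    have hA1 : ∀ x ∈ 𝒜 1, x = 0 := by
      intro x hx
      obtain ⟨c, rfl⟩ := hyspan x hx
      exact Finset.sum_empty
    obtain ⟨hd, htop, hne⟩ := case_zero hpos m hm hmsp hstd hA1 I
    have hr0 : r = 0 := by
      rw [hd] at hr
      exact_mod_cast hr.symm
    omega
  · have hsurj := phi_surjective y hk hpos hstd hyspan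
    have hdimP : ringKrullDim (MvPolynomial (Fin (t' + 1)) k) =
        ((t' + 1 : ℕ) : WithBot ℕ∞) := dim_poly _ _
    have hphi : ∀ p, phi (k := k) y p = MvPolynomial.aeval y p := fun p => rfl
    constructor
    · intro ha
      have hvanR : ∀ (i : ℕ) (j : ℤ), 0 < j + i → ∀ x, x ∈ I.Hgr m i j → x = 0 := by
        intro i j hij x hx
        rcases lt_trichotomy i r with h | h | h
        · haveI := subsingleton_H_of_lt_height 𝒜 m hmax I r (le_of_eq hht.symm) i h
          exact Subsingleton.elim _ _
        · subst h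
          have hb := ha j (by omega)
          rw [hb] at hx
          exact (AddSubgroup.mem_bot).1 hx
        · haveI := Groth.Agent.Lib.Helper11.GrVan.subsingleton_H_of_height_lt hm.1 I r hht i h
          exact Subsingleton.elim _ _
      have hinj := phi_injective_of_vanish y hk hpos hstd m hmsp hy hyspan hinj0 hyind I hvanR
      let e : MvPolynomial (Fin (t' + 1)) k ≃ₐ[k] R :=
        AlgEquiv.ofBijective (MvPolynomial.aeval y) ⟨hinj, hsurj⟩
      have hrt : r = t' + 1 := by
        have h1 := ringKrullDim_eq_of_ringEquiv e.toRingEquiv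
        rw [hdimP, hr] at h1
        exact_mod_cast h1.symm
      subst hrt
      exact ⟨e.symm⟩
    · rintro ⟨e⟩
      haveI : IsRegularRing R := IsRegularRing.of_ringEquiv e.symm.toRingEquiv
      haveI := hmax
      haveI hmp : m.toIdeal.IsPrime := hmax.isPrime
      haveI : IsRegularLocalRing (Localization.AtPrime m.toIdeal) :=
        IsRegularRing.isRegularLocalRing_localization m.toIdeal
      obtain ⟨g, hg, hgen⟩ := exists_gens_of_regular m.toIdeal r hht
      have h1 : t' + 1 ≤ r := hmin r g hg hgen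
      have h2 : r ≤ t' + 1 := by
        have := ringKrullDim_le_of_surjective _ hsurj
        rw [hdimP, hr] at this
        exact_mod_cast this
      obtain rfl : r = t' + 1 := le_antisymm h2 h1
      have hinj : Function.Injective (phi (k := k) y) :=
        injective_of_dim_eq (phi (k := k) y) hsurj (t' + 1) hdimP hr
      let gφ : MvPolynomial (Fin (t' + 1)) k →ₛₗ[phi (k := k) y] R :=
        { toFun := phi (k := k) y
          map_add' := map_add _
          map_smul' := fun p q => by rw [smul_eq_mul, map_mul, smul_eq_mul] }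
      have hφ : IsGrRingHom 𝒜 (stdC k t') (phi (k := k) y) :=
        fun j p hp => phi_mem y hk hy j p hp
      have hV : IsRS (phi (k := k) y) 𝒜 (stdC k t') gφ :=
        ⟨⟨hinj, hsurj⟩, fun j x => ⟨fun hx => hφ j x hx, fun hx => mem_of_map_mem_ring hφ hinj hx⟩⟩
      obtain ⟨F⟩ := nonempty_starInjRes (stdC k t') (stdC k t')
      have hcmp := fun j => vanish_iff hφ m (irrC k t') (Groth.Agent.Lib27.StdPoly.map_irr_le y hk hy m hmsp)
        ⟨1, by rw [pow_one]; exact le_map_irr y m hmsp hstd hyspan⟩ hV I F (t' + 1) j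
      obtain ⟨-, hFtop⟩ := height_and_top k t' F
      intro j hj
      rw [AddSubgroup.eq_bot_iff_forall]
      apply (hcmp j).1
      intro x hx
      rw [hFtop.2 j hj] at hx
      exact (AddSubgroup.mem_bot).1 hx

end Main

end Groth.Agent.Lib.Helper11.Seg
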