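import Groth.Agent.Lib.Helper11.GrSegCM

/-!
# The top local cohomology of a Segre product: `H^{r+s-1}_{T_+}(M # N) = H^r_m(M) # H^s_n(N)`
(when the local cohomologies of `M` and `N` are concentrated in degrees `r, s ≥ 2`)
-/

set_option autoImplicit false
set_option linter.unusedSectionVars false
set_option linter.unusedVariables false
set_option linter.style.haveILetI false
set_option maxHeartbeats 1000000
universe u

open scoped TensorProduct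

namespace Groth.Agent.Lib.Helper11.Seg

open DirectSum GrLC Groth.Agent.Lib.Helper11.GrLCLib Groth.Agent.Lib.Helper11.GrVer
  Groth.Agent.Lib.Helper11.GrMV

section Top

variable {k : Type u} [Field k] {R S T : Type u} [CommRing R] [CommRing S] [CommRing T]
  [Algebra k R] [Algebra k S] [Algebra k T]
variable {𝒜 : ℤ → AddSubgroup R} [GradedRing 𝒜] {ℬ : ℤ → AddSubgroup S} [GradedRing ℬ]
  [IsKAlgGr k 𝒜] [IsKAlgGr k ℬ]
variable {𝒯 : ℤ → AddSubgroup T} [GradedRing 𝒯] {ψ : T →ₐ[k] R ⊗[k] S}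
variable [IsNoetherianRing R] [IsNoetherianRing S] [IsNoetherianRing (R ⊗[k] S)]
variable {M N P : Type u} [AddCommGroup M] [Module R M] [Module k M] [IsScalarTower k R M]
  [AddCommGroup N] [Module S N] [Module k N] [IsScalarTower k S N]
  [AddCommGroup P] [Module T P] [Module k P] [IsScalarTower k T P]
variable {ℳ : ℤ → AddSubgroup M} [DirectSum.Decomposition ℳ] [SetLike.GradedSMul 𝒜 ℳ] [IsKGr k ℳ]
  {𝒩 : ℤ → AddSubgroup N} [DirectSum.Decomposition 𝒩] [SetLike.GradedSMul ℬ 𝒩] [IsKGr k 𝒩]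
  {𝒬 : ℤ → AddSubgroup P} [DirectSum.Decomposition 𝒬] [SetLike.GradedSMul 𝒯 𝒬]

/-- **Top local cohomology of a Segre product** (concentrated case). -/
theorem top_cmp (h : IsSeg 𝒜 ℬ 𝒯 ψ) (m : HomogeneousIdeal 𝒜)
    (n : HomogeneousIdeal ℬ) (mT : HomogeneousIdeal 𝒯) (hm : m.toIdeal = irrI 𝒜)
    (hn : n.toIdeal = irrI ℬ) (hmT : mT.toIdeal = irrI 𝒯)
    {φ : P →ₗ[k] M ⊗[k] N} (hP : GrSeg.IsSegreMod ψ ℳ 𝒩 𝒬 φ)
    (EM : StarInjRes 𝒜 ℳ) (EN : StarInjRes ℬ 𝒩) (EP : StarInjRes 𝒯 𝒬) (r s : ℕ)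
    (h2r : 2 ≤ r) (h2s : 2 ≤ s)
    (hM : ∀ i, i ≠ r → Subsingleton (EM.H m i)) (hN : ∀ j, j ≠ s → Subsingleton (EN.H n j))
    [Module k (EM.H m r)] [IsScalarTower k R (EM.H m r)]
    [Module k (EN.H n s)] [IsScalarTower k S (EN.H n s)]
    (q : ℕ) (hq : q + 1 = r + s) :
    ∃ Λ : EP.H mT q →ₛₗ[(ψ : T →+* R ⊗[k] S)] (EM.H m r) ⊗[k] (EN.H n s),
      Function.Injective Λ ∧
      (∀ d x, x ∈ EP.Hcomp mT q d →
        Λ x ∈ biGr (k := k) (EM.Hgr m r) (EN.Hgr n s) (d, d)) ∧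
      (∀ d y, y ∈ biGr (k := k) (EM.Hgr m r) (EN.Hgr n s) (d, d) →
        ∃ x ∈ EP.Hcomp mT q d, Λ x = y) := by
  obtain ⟨EX⟩ := nonempty_starInjRes (biGr (k := k) 𝒜 ℬ) (biGr (k := k) ℳ 𝒩)
  obtain ⟨hsup, hΘ⟩ := kunneth_sup m n EM EN EX r s hM hN
  have key : ∀ t, t = r + s →
      ∃ Θ : EX.H (extL (k := k) 𝒜 ℬ m ⊔ extR (k := k) 𝒜 ℬ n) t ≃ₗ[R ⊗[k] S]
        (EM.H m r) ⊗[k] (EN.H n s),
      (∀ p x, x ∈ EX.Hcomp (extL (k := k) 𝒜 ℬ m ⊔ extR (k := k) 𝒜 ℬ n) t p →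
        Θ x ∈ biGr (k := k) (EM.Hgr m r) (EN.Hgr n s) p) ∧
      (∀ p y, y ∈ biGr (k := k) (EM.Hgr m r) (EN.Hgr n s) p →
        Θ.symm y ∈ EX.Hcomp (extL (k := k) 𝒜 ℬ m ⊔ extR (k := k) 𝒜 ℬ n) t p) := by
    rintro t rfl
    exact hΘ
  obtain ⟨Θ, hΘ1, hΘ2⟩ := key (q + 1) hq
  obtain ⟨Ψ, hΨi, hΨ, hΨ'⟩ := diag_cmp h m n mT hm hn hmT hP EX EP q
  have ha : Subsingleton (EX.H (extL (k := k) 𝒜 ℬ m) q) :=
    subsingleton_H_extL_of m EM EX q (hM q (by omega))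
  have hb : Subsingleton (EX.H (extR (k := k) 𝒜 ℬ n) q) :=
    subsingleton_H_extR_of n EN EX q (hN q (by omega))
  have ha' : Subsingleton (EX.H (extL (k := k) 𝒜 ℬ m) (q + 1)) :=
    subsingleton_H_extL_of m EM EX (q + 1) (hM (q + 1) (by omega))
  have hb' : Subsingleton (EX.H (extR (k := k) 𝒜 ℬ n) (q + 1)) :=
    subsingleton_H_extR_of n EN EX (q + 1) (hN (q + 1) (by omega))
  obtain ⟨e, he, he'⟩ := exists_equiv_delta EX (extL (k := k) 𝒜 ℬ m) (extR (k := k) 𝒜 ℬ n) q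
    ha hb ha' hb'
  let Λ : EP.H mT q →ₛₗ[(ψ : T →+* R ⊗[k] S)] (EM.H m r) ⊗[k] (EN.H n s) :=
    { toFun := fun x => Θ (e (Ψ x))
      map_add' := fun x y => by rw [map_add, map_add, map_add]
      map_smul' := fun t x => by
        rw [map_smulₛₗ, map_smul, map_smul] }
  refine ⟨Λ, ?_, ?_, ?_⟩
  · intro x y hxy
    exact hΨi (e.injective (Θ.injective hxy))
  · intro d x hx
    have h1 := hΨ d x hx
    rw [diagHom_apply] at h1
    exact hΘ1 _ _ (he _ _ h1)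
  · intro d y hy
    have h1 := he' _ _ (hΘ2 _ y hy)
    obtain ⟨x, hx, hxe⟩ := hΨ' d _ (by rw [diagHom_apply]; exact h1)
    refine ⟨x, hx, ?_⟩
    change Θ (e (Ψ x)) = y
    rw [hxe, LinearEquiv.apply_symm_apply, LinearEquiv.apply_symm_apply]

end Top

end Groth.Agent.Lib.Helper11.Seg
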