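import Groth.Agent.Lib.Helper11.GrVerB

/-!
# Existence of Veronese-type submodules
-/

set_option autoImplicit false
set_option linter.unusedSectionVars false
set_option linter.unusedVariables false
set_option linter.style.haveILetI false
universe u

namespace Groth.Agent.Lib.Helper11.GrVer

open DirectSum GrLC Groth.Agent.Lib.Helper11.GrLCLib Groth.Agent.Lib.Helper11.GrLes

variable {ι ι' : Type} [DecidableEq ι] [AddCommGroup ι] [DecidableEq ι'] [AddCommGroup ι']

section Grp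

variable (ψ : ι' →+ ι)
variable {N : Type u} [AddCommGroup N] (𝒩 : ι → AddSubgroup N) [DirectSum.Decomposition 𝒩]

/-- elements with components only in degrees in the range of `ψ`. -/
noncomputable def verSub : AddSubgroup N := (vproj 𝒩 (Set.range ψ)).eqLocus (AddMonoidHom.id N)

lemma mem_verSub {x : N} : x ∈ verSub ψ 𝒩 ↔ vproj 𝒩 (Set.range ψ) x = x := Iff.rfl

lemma mem_verSub_of_mem {j : ι'} {x : N} (hx : x ∈ 𝒩 (ψ j)) : x ∈ verSub ψ 𝒩 :=
  vproj_of_mem_pos 𝒩 _ hx ⟨j, rfl⟩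

/-- the grading of the Veronese-type submodule. -/
noncomputable def verGr (j : ι') : AddSubgroup ↥(verSub ψ 𝒩) := (𝒩 (ψ j)).comap (verSub ψ 𝒩).subtype

lemma mem_verGr {j : ι'} {x : ↥(verSub ψ 𝒩)} : x ∈ verGr ψ 𝒩 j ↔ (x : N) ∈ 𝒩 (ψ j) := Iff.rfl

/-- component maps. -/
noncomputable def verProj (j : ι') : ↥(verSub ψ 𝒩) →+ ↥(verSub ψ 𝒩) :=
  ((compHom 𝒩 (ψ j)).comp (verSub ψ 𝒩).subtype).codRestrict (verSub ψ 𝒩)
    (fun x => mem_verSub_of_mem ψ 𝒩 (SetLike.coe_mem _))

lemma verProj_coe (j : ι') (x : ↥(verSub ψ 𝒩)) :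
    ((verProj ψ 𝒩 j x : ↥(verSub ψ 𝒩)) : N) = (decompose 𝒩 (x : N) (ψ j) : N) := rfl

theorem verGr_isInternal (hψ : Function.Injective ψ) : DirectSum.IsInternal (verGr ψ 𝒩) := by
  classical
  refine isInternal_of_proj (verGr ψ 𝒩) (verProj ψ 𝒩) ?_ ?_ ?_ ?_
  · intro j x
    rw [mem_verGr, verProj_coe]
    exact SetLike.coe_mem _
  · intro j x hx
    apply Subtype.ext
    rw [verProj_coe]
    exact decompose_of_mem_same 𝒩 ((mem_verGr ψ 𝒩).mp hx)
  · intro j j' x hx hne
    apply Subtype.ext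
    rw [verProj_coe]
    have : ψ j ≠ ψ j' := fun e => hne (hψ e).symm
    rw [decompose_of_mem_ne 𝒩 ((mem_verGr ψ 𝒩).mp hx) this]
    rfl
  · intro x
    refine ⟨(DFinsupp.support (decompose 𝒩 (x : N))).preimage ψ hψ.injOn, ?_⟩
    apply Subtype.ext
    rw [AddSubgroup.val_finset_sum]
    simp only [verProj_coe]
    rw [Finset.sum_preimage ψ (DFinsupp.support (decompose 𝒩 (x : N))) hψ.injOn
      (fun i => (decompose 𝒩 (x : N) i : N))]
    · exact DirectSum.sum_support_decompose 𝒩 (x : N)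
    · intro i _ hi
      exact (vproj_eq_self_iff 𝒩 _ (x : N)).mp x.2 i hi

/-- the decomposition of the Veronese-type submodule. -/
noncomputable def verDecomposition (hψ : Function.Injective ψ) :
    DirectSum.Decomposition (verGr ψ 𝒩) :=
  (verGr_isInternal ψ 𝒩 hψ).chooseDecomposition

end Grp

section Mod

variable {R : Type u} [CommRing R] {𝒜 : ι → AddSubgroup R} [GradedRing 𝒜]
variable {R' : Type u} [CommRing R'] {𝒜' : ι' → AddSubgroup R'} [GradedRing 𝒜']
variable {φ : R' →+* R} {ψ : ι' →+ ι}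
variable {N : Type u} [AddCommGroup N] [Module R N] (𝒩 : ι → AddSubgroup N)
  [DirectSum.Decomposition 𝒩] [SetLike.GradedSMul 𝒜 𝒩]

/-- Every graded module has a Veronese-type submodule. -/
theorem exists_ver (hR : IsVerRing 𝒜 𝒜' φ ψ) :
    ∃ (N' : Type u) (_ : AddCommGroup N') (_ : Module R' N') (𝒩' : ι' → AddSubgroup N')
      (_ : DirectSum.Decomposition 𝒩') (_ : SetLike.GradedSMul 𝒜' 𝒩') (g : N' →ₛₗ[φ] N),
      IsVer φ ψ 𝒩 𝒩' g := by
  have hmem : ∀ (r : R') (x : ↥(verSub ψ 𝒩)), φ r • (x : N) ∈ verSub ψ 𝒩 := by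
    intro r x
    rw [mem_verSub, hR.vproj_smul_map]
    congr 1
    exact x.2
  letI mod : Module R' ↥(verSub ψ 𝒩) :=
    { smul := fun r x => ⟨φ r • (x : N), hmem r x⟩
      one_smul := fun x => Subtype.ext (by
        change φ 1 • (x : N) = x
        rw [map_one, one_smul])
      mul_smul := fun r s x => Subtype.ext (by
        change φ (r * s) • (x : N) = φ r • φ s • (x : N)
        rw [map_mul, mul_smul])
      smul_zero := fun r => Subtype.ext (smul_zero _)
      smul_add := fun r x y => Subtype.ext (smul_add _ _ _)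
      add_smul := fun r s x => Subtype.ext (by
        change φ (r + s) • (x : N) = φ r • (x : N) + φ s • (x : N)
        rw [map_add, add_smul])
      zero_smul := fun x => Subtype.ext (by
        change φ 0 • (x : N) = 0
        rw [map_zero, zero_smul]) }
  letI dec := verDecomposition ψ 𝒩 hR.ψinj
  let g : ↥(verSub ψ 𝒩) →ₛₗ[φ] N :=
    { toFun := Subtype.val, map_add' := fun _ _ => rfl, map_smul' := fun _ _ => rfl }
  have hgs : SetLike.GradedSMul 𝒜' (verGr ψ 𝒩) := by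
    refine ⟨fun {j k} r x hr hx => ?_⟩
    rw [mem_verGr]
    change φ r • (x : N) ∈ 𝒩 (ψ (j + k))
    rw [map_add]
    have := SetLike.GradedSMul.smul_mem (A := 𝒜) (B := 𝒩) (hR.map_mem hr) ((mem_verGr ψ 𝒩).mp hx)
    rwa [vadd_eq_add] at this
  refine ⟨↥(verSub ψ 𝒩), inferInstance, mod, verGr ψ 𝒩, dec, hgs, g, ⟨Subtype.val_injective, ?_⟩⟩
  intro j
  ext y
  constructor
  · rintro ⟨x, hx, rfl⟩
    exact hx
  · intro hy
    exact ⟨⟨y, mem_verSub_of_mem ψ 𝒩 hy⟩, hy, rfl⟩

end Mod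

end Groth.Agent.Lib.Helper11.GrVer
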