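import Groth.Agent.Lib.Helper11.GrSegCanB
import Groth.Agent.Lib.Helper11.GrResA
import Groth.Agent.Lib.Helper11.GrLocD
import Groth.Agent.Lib.Helper11.GrVerC

/-!
# Existence of Segre modules, and the type of a Segre product of Gorenstein rings
-/

set_option autoImplicit false
set_option linter.unusedSectionVars false
set_option linter.unusedVariables false
set_option linter.style.haveILetI false
set_option maxHeartbeats 1000000
universe u

open scoped TensorProduct

namespace Groth.Agent.Lib.Helper11.Seg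

open DirectSum GrLC GrSeg Groth.Agent.Lib.Helper11.GrLCLib Groth.Agent.Lib.Helper11.GrLes
  Groth.Agent.Lib.Helper11.GrComp Groth.Agent.Lib.Helper11.GrVer Groth.Agent.Lib.Helper11.GrMV
  Groth.Agent.Lib.Helper11.GrConv

section Exists

variable {k : Type u} [Field k] {R S T : Type u} [CommRing R] [CommRing S] [CommRing T]
  [Algebra k R] [Algebra k S] [Algebra k T]
variable {𝒜 : ℤ → AddSubgroup R} [GradedRing 𝒜] {ℬ : ℤ → AddSubgroup S} [GradedRing ℬ]
  [IsKAlgGr k 𝒜] [IsKAlgGr k ℬ]
variable {𝒯 : ℤ → AddSubgroup T} [GradedRing 𝒯] {ψ : T →ₐ[k] R ⊗[k] S}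
variable {M N : Type u} [AddCommGroup M] [Module R M] [Module k M] [IsScalarTower k R M]
  [AddCommGroup N] [Module S N] [Module k N] [IsScalarTower k S N]
variable (ℳ : ℤ → AddSubgroup M) [DirectSum.Decomposition ℳ] [SetLike.GradedSMul 𝒜 ℳ] [IsKGr k ℳ]
  (𝒩 : ℤ → AddSubgroup N) [DirectSum.Decomposition 𝒩] [SetLike.GradedSMul ℬ 𝒩] [IsKGr k 𝒩]

/-- **Existence of Segre products of graded modules.** -/
theorem exists_segreMod (h : IsSeg 𝒜 ℬ 𝒯 ψ) :
    ∃ (P : Type u) (_ : AddCommGroup P) (_ : Module T P) (_ : Module k P)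
      (_ : IsScalarTower k T P) (𝒬 : ℤ → AddSubgroup P) (_ : DirectSum.Decomposition 𝒬)
      (_ : SetLike.GradedSMul 𝒯 𝒬) (φ : P →ₗ[k] M ⊗[k] N), GrSeg.IsSegreMod ψ ℳ 𝒩 𝒬 φ := by
  obtain ⟨P, iacg, imod, 𝒬, idec, igs, g, hV⟩ := exists_ver (biGr (k := k) ℳ 𝒩) h.isVerRing
  letI : Module k P := Module.compHom P (algebraMap k T)
  haveI : IsScalarTower k T P := IsScalarTower.of_algebraMap_smul (fun r x => rfl)
  let φ : P →ₗ[k] M ⊗[k] N :=
    { toFun := fun p => g p
      map_add' := g.map_add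
      map_smul' := fun c p => by
        change g (algebraMap k T c • p) = c • g p
        rw [map_smulₛₗ]
        change ψ (algebraMap k T c) • g p = _
        rw [AlgHom.commutes, algebraMap_smul] }
  refine ⟨P, iacg, imod, inferInstance, inferInstance, 𝒬, idec, igs, φ, hV.inj, ?_, ?_⟩
  · intro n
    ext x
    have hdeg := hV.deg n
    constructor
    · rintro ⟨p, hp, rfl⟩
      have h1 : g p ∈ (𝒬 n).map (g : P →+ M ⊗[k] N) := ⟨p, hp, rfl⟩
      rw [hdeg] at h1
      exact h1
    · intro hx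
      have h1 : x ∈ biGr (k := k) ℳ 𝒩 (diagHom n) := hx
      rw [← hdeg] at h1
      obtain ⟨p, hp, rfl⟩ := h1
      exact ⟨p, hp, rfl⟩
  · intro t p
    change g (t • p) = _
    rw [map_smulₛₗ]
    rfl

end Exists

section Unshift

variable {k : Type u} [Field k] (R : Type u) [CommRing R] [Algebra k R]
variable {M D : Type u} [AddCommGroup M] [Module R M] [Module k M] [IsScalarTower k R M]
  [AddCommGroup D] [Module R D] [Module k D] [IsScalarTower k R D]
variable {ℳ : ℤ → AddSubgroup M} [DirectSum.Decomposition ℳ]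
  {𝒟 : ℤ → AddSubgroup D} [DirectSum.Decomposition 𝒟]
  {β : D →ₗ[k] M →ₗ[k] k}

/-- moving a shift from the dual to the module. -/
lemma isGDual_unshift (c : ℤ) [DirectSum.Decomposition (shiftGr ℳ c)]
    [DirectSum.Decomposition (shiftGr 𝒟 c)] (h : IsGDual R ℳ (shiftGr 𝒟 c) β) :
    IsGDual R (shiftGr ℳ c) 𝒟 β where
  map_smul := h.map_smul
  vanish n d hd m hm x hx := by
    have hd' : d ∈ shiftGr 𝒟 c (n - c) := by
      change d ∈ 𝒟 (n - c + c)
      rwa [sub_add_cancel]
    exact h.vanish (n - c) d hd' (m + c) (fun e => hm (by omega)) x hx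
  eq_zero n d hd hx := by
    have hd' : d ∈ shiftGr 𝒟 c (n - c) := by
      change d ∈ 𝒟 (n - c + c)
      rwa [sub_add_cancel]
    apply h.eq_zero (n - c) d hd'
    intro x hx'
    apply hx x
    change x ∈ ℳ (-n + c)
    have e : -(n - c) = -n + c := by ring
    rwa [e] at hx'
  exists_eq n g := by
    obtain ⟨d, hd, hdx⟩ := h.exists_eq (n - c) g
    refine ⟨d, ?_, ?_⟩
    · have hd' : d ∈ 𝒟 (n - c + c) := hd
      rwa [sub_add_cancel] at hd'
    · intro x hx
      apply hdx x
      have e : -(n - c) = -n + c := by ring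
      rw [e]
      exact hx

end Unshift

section Residue

open Groth.Agent.Lib.Helper11.GrField

variable {R : Type u} [CommRing R] {𝒜 : ℤ → AddSubgroup R} [GradedRing 𝒜] [Nontrivial R]
variable {k : Type u} [Field k] [Algebra k R] (hk : IsBase 𝒜 k)
variable (M : Type u) [AddCommGroup M] [Module R M] [Module k M] [IsScalarTower k R M]

include hk in
/-- `dim_{R/m} (R/m ⊗ M) = dim_k M/mM`. -/
theorem finrank_residue_tensor_eq_quot (hpos : ∀ n : ℤ, n < 0 → 𝒜 n = ⊥)
    (m : HomogeneousIdeal 𝒜)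
    (hmsp : m.toIdeal = Ideal.span (⋃ n ∈ Set.Ioi (0 : ℤ), (𝒜 n : Set R))) :
    Module.finrank (R ⧸ m.toIdeal) ((R ⧸ m.toIdeal) ⊗[R] M) =
      Module.finrank k (M ⧸ (m.toIdeal • (⊤ : Submodule R M))) := by
  classical
  let i : k → R ⧸ m.toIdeal := fun c => Ideal.Quotient.mk m.toIdeal (algebraMap k R c)
  have hi : Function.Bijective i := by
    constructor
    · intro c d hcd
      have h1 : algebraMap k R c - algebraMap k R d ∈ m.toIdeal := Ideal.Quotient.eq.mp hcd
      rw [mem_irrelevant_iff' hk hpos m hmsp] at h1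
      have h2 : algebraMap k R c - algebraMap k R d ∈ 𝒜 0 :=
        sub_mem (hk.algebraMap_mem c) (hk.algebraMap_mem d)
      rw [decompose_of_mem_same 𝒜 h2] at h1
      exact (algebraMap k R).injective (sub_eq_zero.mp h1)
    · intro y
      obtain ⟨x, rfl⟩ := Ideal.Quotient.mk_surjective y
      obtain ⟨c, hc⟩ := (hk _).mp (SetLike.coe_mem (decompose 𝒜 x 0))
      refine ⟨c, ?_⟩
      apply Ideal.Quotient.eq.mpr
      rw [hc, mem_irrelevant_iff' hk hpos m hmsp, decompose_sub, DirectSum.sub_apply,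
        AddSubgroupClass.coe_sub, decompose_coe, DirectSum.of_eq_same, sub_self]
  let e := (TensorProduct.quotTensorEquivQuotSMul M m.toIdeal).symm
  have he : ∀ x : M, e (Submodule.Quotient.mk x) = (1 : R ⧸ m.toIdeal) ⊗ₜ[R] x := fun x => rfl
  have hrank := rank_eq_of_equiv_equiv i e.toAddEquiv hi (by
    intro c y
    obtain ⟨x, rfl⟩ := Submodule.Quotient.mk_surjective _ y
    change e (c • Submodule.Quotient.mk x) = i c • e (Submodule.Quotient.mk x)
    rw [← Submodule.Quotient.mk_smul, he, he, TensorProduct.smul_tmul', ← algebraMap_smul R c x,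
      ← TensorProduct.smul_tmul]
    congr 1)
  unfold Module.finrank
  rw [hrank]

end Residue

end Groth.Agent.Lib.Helper11.Seg
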