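import Groth.Agent.Lib.Helper11.GrSegTypeA

/-!
# The type of a Segre product of standard graded Gorenstein rings (statement level)
-/

set_option autoImplicit false
set_option linter.unusedSectionVars false
set_option linter.unusedVariables false
set_option linter.style.haveILetI false
set_option maxHeartbeats 1000000
universe u

open scoped TensorProduct

namespace Groth.Agent.Lib.Helper11.Seg

open DirectSum GrLC GrSeg Groth.Agent.Lib.Helper11.GrLCLib Groth.Agent.Lib.Helper11.GrLes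
  Groth.Agent.Lib.Helper11.GrComp Groth.Agent.Lib.Helper11.GrVer Groth.Agent.Lib.Helper11.GrMV
  Groth.Agent.Lib.Helper11.GrConv

attribute [local instance] convGradedRing

/-- **The type of a Cohen–Macaulay Segre product of standard graded Gorenstein rings.** -/
theorem segre_type (k : Type u) [Field k] (R : Type u) [CommRing R] [Algebra k R]
    (𝒜 : ℤ → Submodule k R) [GradedAlgebra 𝒜] (hposR : ∀ n : ℤ, n < 0 → 𝒜 n = ⊥)
    (h0R : 𝒜 0 = Submodule.span k {(1 : R)}) [Algebra.FiniteType k R]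
    (S : Type u) [CommRing S] [Algebra k S] (ℬ : ℤ → Submodule k S) [GradedAlgebra ℬ]
    (hposS : ∀ n : ℤ, n < 0 → ℬ n = ⊥) (h0S : ℬ 0 = Submodule.span k {(1 : S)})
    [Algebra.FiniteType k S]
    (T : Type u) [CommRing T] [Algebra k T] (𝒯 : ℤ → Submodule k T) [GradedAlgebra 𝒯]
    (ψ : T →ₐ[k] R ⊗[k] S) (hψ : Function.Injective ψ)
    (hdegT : ∀ n : ℤ, (𝒯 n).map ψ.toLinearMap =
      Submodule.span k {x : R ⊗[k] S | ∃ a ∈ 𝒜 n, ∃ b ∈ ℬ n, x = a ⊗ₜ[k] b})
    [LocCoh.IsGorensteinRing R] [LocCoh.IsGorensteinRing S]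
    (mR : HomogeneousIdeal 𝒜)
    (hmR : mR.toIdeal = Ideal.span (⋃ n ∈ Set.Ioi (0 : ℤ), (𝒜 n : Set R)))
    (hstdR : Ideal.span (⋃ n ∈ Set.Ioi (0 : ℤ), (𝒜 n : Set R)) =
      Ideal.span ((𝒜 1 : Submodule k R) : Set R))
    (I : GrLC.StarInjRes 𝒜 𝒜) (mS : HomogeneousIdeal ℬ)
    (hmS : mS.toIdeal = Ideal.span (⋃ n ∈ Set.Ioi (0 : ℤ), (ℬ n : Set S)))
    (hstdS : Ideal.span (⋃ n ∈ Set.Ioi (0 : ℤ), (ℬ n : Set S)) =
      Ideal.span ((ℬ 1 : Submodule k S) : Set S))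
    (J : GrLC.StarInjRes ℬ ℬ) (r s : ℕ) (hr : ringKrullDim R = r) (hs : ringKrullDim S = s)
    (h2r : 2 ≤ r) (h2s : 2 ≤ s) (a b : ℤ)
    (ha : GrLC.endDeg (I.Hgr mR r) = ((a : WithTop ℤ) : WithBot (WithTop ℤ)))
    (hb : GrLC.endDeg (J.Hgr mS s) = ((b : WithTop ℤ) : WithBot (WithTop ℤ))) (hab : b ≤ a)
    [LocCoh.IsCohenMacaulayRing T] (mT : HomogeneousIdeal 𝒯) [hmaxT : mT.toIdeal.IsMaximal]
    (hmT : mT.toIdeal = Ideal.span (⋃ n ∈ Set.Ioi (0 : ℤ), (𝒯 n : Set T))) :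
    GrLC.bassNum mT.toIdeal T (r + s - 1) = (Module.finrank k (𝒜 (a - b)) : ℕ∞) := by
  haveI : IsNoetherianRing R := Algebra.FiniteType.isNoetherianRing k R
  haveI : IsNoetherianRing S := Algebra.FiniteType.isNoetherianRing k S
  haveI : IsNoetherianRing (R ⊗[k] S) := noetherian_tensor (k := k) (R := R) (S := S)
  haveI : Nontrivial R := nontrivial_of_ringKrullDim r hr
  haveI : Nontrivial S := nontrivial_of_ringKrullDim s hs
  haveI : IsKAlgGr k (conv 𝒜) := isKAlgGr_conv 𝒜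
  haveI : IsKAlgGr k (conv ℬ) := isKAlgGr_conv ℬ
  haveI : IsKAlgGr k (conv 𝒯) := isKAlgGr_conv 𝒯
  have hseg : IsSeg (conv 𝒜) (conv ℬ) (conv 𝒯) ψ := isSeg_conv hψ hdegT
  haveI : IsNoetherianRing T := hseg.isVerRing.isNoetherianRing
  have hdimT := Groth.Agent.Lib.Helper20.SegreDim.ringKrullDim_segre 𝒜 ℬ 𝒯 ψ hψ hdegT hposR h0R
    hposS h0S r s hr hs (by omega) (by omega)
  haveI : Nontrivial T := nontrivial_of_ringKrullDim (r + s - 1) hdimT
  have hposT := Groth.Agent.Lib.Helper20.SegreDim.hposT 𝒜 ℬ 𝒯 ψ hψ hdegT hposR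
  have h0T := Groth.Agent.Lib.Helper20.SegreDim.h0T 𝒜 ℬ 𝒯 ψ hψ hdegT h0R h0S
  -- conversions
  let mA := hidealConv 𝒜 mR
  let mB := hidealConv ℬ mS
  let mC := hidealConv 𝒯 mT
  haveI : mC.toIdeal.IsMaximal := hmaxT
  have hlocR : IsStarLocal (conv 𝒜) mA := isStarLocal_conv_irr 𝒜 hposR h0R mA hmR
  have hlocS : IsStarLocal (conv ℬ) mB := isStarLocal_conv_irr ℬ hposS h0S mB hmS
  have hlocT : IsStarLocal (conv 𝒯) mC := isStarLocal_conv_irr 𝒯 hposT h0T mC hmT
  let I' := resConv 𝒜 𝒜 I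
  let J' := resConv ℬ ℬ J
  obtain ⟨IT'⟩ := nonempty_starInjRes (conv 𝒯) (conv 𝒯)
  -- systems of parameters
  obtain ⟨NR, θR, hNR, hθR, hradR⟩ :=
    Groth.Agent.Lib.Helper20.GradedNN.exists_hsop 𝒜 hposR h0R r hr.le
  obtain ⟨NS, θS, hNS, hθS, hradS⟩ :=
    Groth.Agent.Lib.Helper20.GradedNN.exists_hsop ℬ hposS h0S s hs.le
  have hθa : ∀ j, θR j ∈ mA.toIdeal := by
    intro j
    change θR j ∈ mR.toIdeal
    rw [hmR]
    exact Ideal.subset_span (Set.mem_biUnion (Set.mem_Ioi.mpr (by exact_mod_cast hNR)) (hθR j))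
  have hθb : ∀ j, θS j ∈ mB.toIdeal := by
    intro j
    change θS j ∈ mS.toIdeal
    rw [hmS]
    exact Ideal.subset_span (Set.mem_biUnion (Set.mem_Ioi.mpr (by exact_mod_cast hNS)) (hθS j))
  have hrada : mA.toIdeal ≤ (Ideal.span (Set.range θR)).radical := by
    change mR.toIdeal ≤ _
    rw [hmR]
    exact hradR
  have hradb : mB.toIdeal ≤ (Ideal.span (Set.range θS)).radical := by
    change mS.toIdeal ≤ _
    rw [hmS]
    exact hradS
  have hcdL : CdLE (extL (k := k) (conv 𝒜) (conv ℬ) mA) r :=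
    cdLE_extL (conv 𝒜) (conv ℬ) mA θR hθa hrada
  have hM : ∀ i, r < i → Subsingleton (I'.H mA i) := fun i hi =>
    cdLE_of_fin mA θR hθa hrada R (conv 𝒜) I' i hi
  have hN : ∀ j, s < j → Subsingleton (J'.H mB j) := fun j hj =>
    cdLE_of_fin mB θS hθb hradb S (conv ℬ) J' j hj
  -- heights
  have hhtR : mA.toIdeal.height = r := by
    have := ringKrullDim_eq_height (conv 𝒜) (hpos_conv 𝒜 hposR) hlocR
    rw [hr] at this
    exact_mod_cast this.symm
  have hhtS : mB.toIdeal.height = s := by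
    have := ringKrullDim_eq_height (conv ℬ) (hpos_conv ℬ hposS) hlocS
    rw [hs] at this
    exact_mod_cast this.symm
  -- the module structures
  letI : Module k (I'.H mA r) := Module.compHom _ (algebraMap k R)
  haveI : IsScalarTower k R (I'.H mA r) := IsScalarTower.of_algebraMap_smul (fun r x => rfl)
  letI : Module k (J'.H mB s) := Module.compHom _ (algebraMap k S)
  haveI : IsScalarTower k S (J'.H mB s) := IsScalarTower.of_algebraMap_smul (fun r x => rfl)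
  letI : Module k (IT'.H mC (r + s - 1)) := Module.compHom _ (algebraMap k T)
  haveI : IsScalarTower k T (IT'.H mC (r + s - 1)) :=
    IsScalarTower.of_algebraMap_smul (fun r x => rfl)
  -- the pairings
  obtain ⟨c, hc, βR, hβR⟩ := exists_gdual_top_of_gorenstein (isBase_conv 𝒜 h0R)
    (hpos_conv 𝒜 hposR) mA hmR hlocR r hhtR I'
  obtain ⟨c', hc', βS, hβS⟩ := exists_gdual_top_of_gorenstein (isBase_conv ℬ h0S)
    (hpos_conv ℬ hposS) mB hmS hlocS s hhtS J'
  have hca : c = a := by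
    have h1 : cc c = ((a : WithTop ℤ) : WithBot (WithTop ℤ)) := by
      rw [← hc]
      exact ha
    have h2 : ((c : WithTop ℤ) : WithBot (WithTop ℤ)) = ((a : WithTop ℤ) : WithBot (WithTop ℤ)) :=
      h1
    exact_mod_cast h2
  have hcb : c' = b := by
    have h1 : cc c' = ((b : WithTop ℤ) : WithBot (WithTop ℤ)) := by
      rw [← hc']
      exact hb
    have h2 : ((c' : WithTop ℤ) : WithBot (WithTop ℤ)) = ((b : WithTop ℤ) : WithBot (WithTop ℤ)) :=
      h1
    exact_mod_cast h2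
  subst hca
  subst hcb
  letI dR : DirectSum.Decomposition (I'.Hgr mA r) :=
    (Hgr_isInternal (conv 𝒜) (conv 𝒜) I' mA r).chooseDecomposition
  letI dS : DirectSum.Decomposition (J'.Hgr mB s) :=
    (Hgr_isInternal (conv ℬ) (conv ℬ) J' mB s).chooseDecomposition
  letI dT : DirectSum.Decomposition (IT'.Hgr mC (r + s - 1)) :=
    (Hgr_isInternal (conv 𝒯) (conv 𝒯) IT' mC (r + s - 1)).chooseDecomposition
  letI : DirectSum.Decomposition (shiftGr (I'.Hgr mA r) c) := shiftDecomposition _ c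
  letI : DirectSum.Decomposition (shiftGr (J'.Hgr mB s) c') := shiftDecomposition _ c'
  letI : DirectSum.Decomposition (shiftGr (conv 𝒜) c) := shiftDecomposition _ c
  letI : DirectSum.Decomposition (shiftGr (conv ℬ) c') := shiftDecomposition _ c'
  have hDM : IsGDual R (shiftGr (conv 𝒜) c) (I'.Hgr mA r) βR := isGDual_unshift R c (hβR _)
  have hDN : IsGDual S (shiftGr (conv ℬ) c') (J'.Hgr mB s) βS := isGDual_unshift S c' (hβS _)
  haveI : IsKGr k (shiftGr (conv 𝒜) c) := isKGr_of_gradedSMul (conv 𝒜) _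
  haveI : IsKGr k (shiftGr (conv ℬ) c') := isKGr_of_gradedSMul (conv ℬ) _
  haveI : SetLike.GradedSMul (conv 𝒜) (I'.Hgr mA r) := Hgr_gradedSMul I' mA r
  haveI : SetLike.GradedSMul (conv ℬ) (J'.Hgr mB s) := Hgr_gradedSMul J' mB s
  haveI : IsKGr k (I'.Hgr mA r) := isKGr_of_gradedSMul (conv 𝒜) _
  haveI : IsKGr k (J'.Hgr mB s) := isKGr_of_gradedSMul (conv ℬ) _
  -- the Segre module `R(a) # S(b)`
  obtain ⟨P, _, _, _, _, 𝒬, _, _, φ, hP⟩ :=
    exists_segreMod (shiftGr (conv 𝒜) c) (shiftGr (conv ℬ) c') hseg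
  -- the top local cohomology of `T`
  obtain ⟨φ', hφ'⟩ := exists_isSegreMod_top0 hseg mA mB mC hmR hmS hmT hseg.isSegreMod_self
    I' J' IT' r s h2r h2s hcdL hM hN (r + s - 1) (by omega)
  have hfM : ∀ n, Module.Finite k (subK k (shiftGr (conv 𝒜) c) n) := by
    intro n
    haveI := finite_piece_conv 𝒜 hposR h0R (n + c)
    have heq : subK k (conv 𝒜) (n + c) = subK k (shiftGr (conv 𝒜) c) n :=
      Submodule.ext (fun x => Iff.rfl)
    exact Module.Finite.equiv (LinearEquiv.ofEq _ _ heq)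
  have hfN : ∀ n, Module.Finite k (subK k (shiftGr (conv ℬ) c') n) := by
    intro n
    haveI := finite_piece_conv ℬ hposS h0S (n + c')
    have heq : subK k (conv ℬ) (n + c') = subK k (shiftGr (conv ℬ) c') n :=
      Submodule.ext (fun x => Iff.rfl)
    exact Module.Finite.equiv (LinearEquiv.ofEq _ _ heq)
  have hdual := isGDual_segre hDM hDN hfM hfN hP hφ'
  -- the hull
  obtain ⟨X, e, he⟩ := exists_hull_quot (conv 𝒯) mC
  letI : Module k X.carrier := Module.compHom _ (algebraMap k T)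
  haveI : IsScalarTower k T X.carrier := IsScalarTower.of_algebraMap_smul (fun r x => rfl)
  -- finiteness
  haveI : SetLike.GradedSMul 𝒜 (shiftGr (conv 𝒜) c) := unconvGradedSMul_left 𝒜 _
  haveI : SetLike.GradedSMul ℬ (shiftGr (conv ℬ) c') := unconvGradedSMul_left ℬ _
  haveI : IsNoetherian T P :=
    Groth.Agent.Lib.Helper20.SegreMod.isNoetherian_segre (𝒜 := 𝒜) (ℬ := ℬ) (𝒯 := 𝒯)
      ⟨hψ, hdegT⟩ hP
  haveI : Module.Finite T P := inferInstance
  have hC := Groth.Agent.Lib.Helper11.GrCan.isStarCanonical_of_isGDual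
    (isBase_conv 𝒯 h0T) X.gr 𝒬 (hpos_conv 𝒯 hposT) mC hmT e he (r + s - 1) IT' hdual
  -- the type
  haveI : LocCoh.IsCohenMacaulayLocalRing (Localization.AtPrime mC.toIdeal) :=
    LocCoh.IsCohenMacaulayRing.isCohenMacaulayLocalRing_localization mT.toIdeal
  have hnA : ringKrullDim (Localization.AtPrime mC.toIdeal) = ((r + s - 1 : ℕ) : WithBot ℕ∞) := by
    rw [IsLocalization.AtPrime.ringKrullDim_eq_height mC.toIdeal,
      ← ringKrullDim_eq_height (conv 𝒯) (hpos_conv 𝒯 hposT) hlocT, hdimT]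
  have h1 := Groth.Agent.Lib.Helper11.GrLoc.canonical_type' (conv 𝒯) X.gr 𝒬 (r + s - 1) hnA IT' he
    hC
  rw [finrank_residue_tensor_eq_quot (isBase_conv 𝒯 h0T) P (hpos_conv 𝒯 hposT) mC hmT] at h1
  have hP' : GrSeg.IsSegreMod ψ (fun n : ℤ => 𝒜 (n + c)) (fun n : ℤ => ℬ (n + c')) 𝒬 φ :=
    ⟨hP.injective, hP.image_piece, hP.map_smul⟩
  have hs1 : 1 ≤ ringKrullDim S := by
    rw [hs]
    exact_mod_cast (by omega : 1 ≤ s)
  have h2 := Groth.Agent.Lib.Helper20.SegreMod.finrank_quotient_eq hposS h0S ⟨hψ, hdegT⟩ hstdR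
    hstdS hs1 mT hmT hab hP'
  change GrLC.bassNum mT.toIdeal T (r + s - 1) = _ at h1
  rw [h1]
  congr 1

end Groth.Agent.Lib.Helper11.Seg
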