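import Groth.Agent.Lib.Helper11.GrDiagB
import Groth.Agent.Lib.Helper11.GrMVD
import Groth.Agent.Lib.Helper16.LocCohXSeqBase

/-!
# `H^q_{T_+}(M # N) ≅ H^q_m(M) # N` when a homogeneous element of positive degree of `S` acts
bijectively on `N`
-/

set_option autoImplicit false
set_option linter.unusedSectionVars false
set_option linter.unusedVariables false
set_option linter.style.haveILetI false
set_option maxHeartbeats 1000000
universe u

open scoped TensorProduct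

namespace Groth.Agent.Lib.Helper11.Seg

open DirectSum GrLC Groth.Agent.Lib.Helper11.GrLCLib Groth.Agent.Lib.Helper11.GrVer
  Groth.Agent.Lib.Helper11.GrMV

section Unit

variable {k : Type u} [Field k] {R S : Type u} [CommRing R] [CommRing S] [Algebra k R] [Algebra k S]
variable {M N : Type u} [AddCommGroup M] [Module R M] [Module k M] [IsScalarTower k R M]
  [AddCommGroup N] [Module S N] [Module k N] [IsScalarTower k S N]

lemma one_tmul_smul (s : S) (x : M ⊗[k] N) :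
    ((1 : R) ⊗ₜ[k] s : R ⊗[k] S) • x =
      LinearMap.lTensor M ((LinearMap.lsmul S N s).restrictScalars k) x := by
  induction x using TensorProduct.induction_on with
  | zero => rw [smul_zero, map_zero]
  | tmul m n => rw [tmul_smul_tmul, one_smul]; rfl
  | add x y hx hy => rw [smul_add, hx, hy, map_add]

lemma one_tmul_smul_bijective (s : S) (hs : Function.Bijective (fun y : N => s • y)) :
    Function.Bijective (fun x : M ⊗[k] N => ((1 : R) ⊗ₜ[k] s : R ⊗[k] S) • x) := by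
  let e : N ≃ₗ[k] N := LinearEquiv.ofBijective ((LinearMap.lsmul S N s).restrictScalars k) hs
  have h : (fun x : M ⊗[k] N => ((1 : R) ⊗ₜ[k] s : R ⊗[k] S) • x) = LinearEquiv.lTensor M e := by
    funext x
    rw [one_tmul_smul]
    rfl
  rw [h]
  exact (LinearEquiv.lTensor M e).bijective

lemma pow_smul_bijective {A X : Type*} [CommRing A] [AddCommGroup X] [Module A X] (u : A)
    (hu : Function.Bijective (fun x : X => u • x)) (j : ℕ) :
    Function.Bijective (fun x : X => u ^ j • x) := by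
  induction j with
  | zero =>
    have : (fun x : X => u ^ 0 • x) = id := by funext x; rw [pow_zero, one_smul]; rfl
    rw [this]; exact Function.bijective_id
  | succ j ih =>
    have : (fun x : X => u ^ (j + 1) • x) = (fun x : X => u ^ j • x) ∘ (fun x : X => u • x) := by
      funext x
      rw [pow_succ, mul_smul]; rfl
    rw [this]
    exact ih.comp hu

end Unit

section Main

variable {k : Type u} [Field k] {R S T : Type u} [CommRing R] [CommRing S] [CommRing T]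
  [Algebra k R] [Algebra k S] [Algebra k T]
variable {𝒜 : ℤ → AddSubgroup R} [GradedRing 𝒜] {ℬ : ℤ → AddSubgroup S} [GradedRing ℬ]
  [IsKAlgGr k 𝒜] [IsKAlgGr k ℬ]
variable {𝒯 : ℤ → AddSubgroup T} [GradedRing 𝒯] {ψ : T →ₐ[k] R ⊗[k] S}
variable {M N P : Type u} [AddCommGroup M] [Module R M] [Module k M] [IsScalarTower k R M]
  [AddCommGroup N] [Module S N] [Module k N] [IsScalarTower k S N]
  [AddCommGroup P] [Module T P] [Module k P] [IsScalarTower k T P]
variable {ℳ : ℤ → AddSubgroup M} [DirectSum.Decomposition ℳ] [SetLike.GradedSMul 𝒜 ℳ] [IsKGr k ℳ]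
  {𝒩 : ℤ → AddSubgroup N} [DirectSum.Decomposition 𝒩] [SetLike.GradedSMul ℬ 𝒩] [IsKGr k 𝒩]
  {𝒬 : ℤ → AddSubgroup P} [DirectSum.Decomposition 𝒬] [SetLike.GradedSMul 𝒯 𝒬]

/-- vanishing of `H^p_c(M ⊗ N)` when `c ∋ 1 ⊗ g` with `g` acting bijectively on `N`. -/
theorem subsingleton_H_of_unit [IsNoetherianRing (R ⊗[k] S)]
    (EX : StarInjRes (biGr (k := k) 𝒜 ℬ) (biGr (k := k) ℳ 𝒩))
    (c : HomogeneousIdeal (biGr (k := k) 𝒜 ℬ)) (g : S)
    (hgc : ((1 : R) ⊗ₜ[k] g : R ⊗[k] S) ∈ c.toIdeal)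
    (hgN : Function.Bijective (fun y : N => g • y)) (p : ℕ) : Subsingleton (EX.H c p) := by
  obtain ⟨e⟩ := Groth.Agent.Lib.Helper11.GrLCOrd.nonempty_H_equiv EX c p
  have h1 : Subsingleton (LocCoh.H c.toIdeal p (M ⊗[k] N)) :=
    Groth.Agent.Lib.Helper16.LC.subsingleton_H_of_mem_of_smul_bijective c.toIdeal _ hgc (M ⊗[k] N)
      (fun j => pow_smul_bijective _ (one_tmul_smul_bijective (R := R) (M := M) g hgN) j) p
  exact e.toEquiv.subsingleton

/-- **Local cohomology of a Segre product with a factor on which a homogeneous element of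
positive degree acts bijectively.** -/
theorem exists_isSegreMod_H_of_unit [IsNoetherianRing R] [IsNoetherianRing (R ⊗[k] S)]
    (h : IsSeg 𝒜 ℬ 𝒯 ψ) (m : HomogeneousIdeal 𝒜)
    (n : HomogeneousIdeal ℬ) (mT : HomogeneousIdeal 𝒯) (hm : m.toIdeal = irrI 𝒜)
    (hn : n.toIdeal = irrI ℬ) (hmT : mT.toIdeal = irrI 𝒯)
    {φ : P →ₗ[k] M ⊗[k] N} (hP : GrSeg.IsSegreMod ψ ℳ 𝒩 𝒬 φ)
    (EM : StarInjRes 𝒜 ℳ) (EP : StarInjRes 𝒯 𝒬)
    (e : ℤ) (he : 0 < e) (g : S) (hg : g ∈ ℬ e) (hgN : Function.Bijective (fun y : N => g • y))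
    (q : ℕ) [Module k (EM.H m q)] [IsScalarTower k R (EM.H m q)]
    [Module k (EP.H mT q)] [IsScalarTower k T (EP.H mT q)]
    [DirectSum.Decomposition (EP.Hgr mT q)] :
    ∃ φ' : EP.H mT q →ₗ[k] (EM.H m q) ⊗[k] N,
      GrSeg.IsSegreMod ψ (EM.Hgr m q) 𝒩 (EP.Hgr mT q) φ' := by
  obtain ⟨EX⟩ := nonempty_starInjRes (biGr (k := k) 𝒜 ℬ) (biGr (k := k) ℳ 𝒩)
  set 𝔞 := extL (k := k) 𝒜 ℬ m with h𝔞
  set 𝔟 := extR (k := k) 𝒜 ℬ n with h𝔟
  have hgn : g ∈ n.toIdeal := hn ▸ mem_irrI ℬ he hg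
  have hu𝔟 : ((1 : R) ⊗ₜ[k] g : R ⊗[k] S) ∈ 𝔟.toIdeal := one_tmul_mem_extIdealR hgn
  have hu𝔐 : ((1 : R) ⊗ₜ[k] g : R ⊗[k] S) ∈ (𝔞 ⊔ 𝔟).toIdeal := by
    rw [HomogeneousIdeal.toIdeal_sup]
    exact Ideal.mem_sup_right hu𝔟
  have hb : ∀ p, Subsingleton (EX.H 𝔟 p) := fun p => subsingleton_H_of_unit EX 𝔟 g hu𝔟 hgN p
  have hs : ∀ p, Subsingleton (EX.H (𝔞 ⊔ 𝔟) p) :=
    fun p => subsingleton_H_of_unit EX (𝔞 ⊔ 𝔟) g hu𝔐 hgN p
  obtain ⟨e1, he1, he1'⟩ := exists_equiv_inf_left EX 𝔞 𝔟 q (hb q) (hs q) (hs (q + 1))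
  obtain ⟨Φ, hΦ, hΦ'⟩ := bc_all (k := k) 𝒜 ℬ 𝒩 m q M ℳ EM EX
  obtain ⟨Ψ, hΨi, hΨ, hΨ'⟩ := diag_cmp h m n mT hm hn hmT hP EX EP q
  -- the composite
  let f : EP.H mT q → (EM.H m q) ⊗[k] N := fun x => Φ.symm (e1.symm (Ψ x))
  have hfadd : ∀ x y, f (x + y) = f x + f y := fun x y => by
    simp only [f, map_add]
  have hfsmul : ∀ (t : T) (x : EP.H mT q), f (t • x) = ψ t • f x := fun t x => by
    simp only [f]
    rw [map_smulₛₗ, map_smul, map_smul]
    rfl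
  let φ' : EP.H mT q →ₗ[k] (EM.H m q) ⊗[k] N :=
    { toFun := f
      map_add' := hfadd
      map_smul' := fun c x => by
        rw [← algebraMap_smul T c x, hfsmul, AlgHom.commutes, algebraMap_smul]
        rfl }
  refine ⟨φ', ?_, ?_, ?_⟩
  · intro x y hxy
    exact hΨi (e1.symm.injective (Φ.symm.injective hxy))
  · intro d
    ext w
    constructor
    · rintro ⟨x, hx, rfl⟩
      have h1 : Ψ x ∈ EX.Hcomp (𝔞 ⊓ 𝔟) q (d, d) := hΨ d x hx
      have h2 : e1.symm (Ψ x) ∈ EX.Hcomp 𝔞 q (d, d) := he1' _ _ h1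
      obtain ⟨w', hw', hw'e⟩ := hΦ' (d, d) _ h2
      have : φ' x = w' := by
        change Φ.symm (e1.symm (Ψ x)) = w'
        rw [← hw'e, LinearEquiv.symm_apply_apply]
      rw [this]
      exact hw'
    · intro hw
      have hw' : w ∈ biGr (k := k) (EM.Hgr m q) 𝒩 (d, d) := hw
      have h1 : Φ w ∈ EX.Hcomp 𝔞 q (d, d) := hΦ (d, d) w hw'
      have h2 : e1 (Φ w) ∈ EX.Hcomp (𝔞 ⊓ 𝔟) q (d, d) := he1 _ _ h1
      obtain ⟨x, hx, hxe⟩ := hΨ' d _ h2
      refine ⟨x, hx, ?_⟩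
      change Φ.symm (e1.symm (Ψ x)) = w
      rw [hxe, LinearEquiv.symm_apply_apply, LinearEquiv.symm_apply_apply]
  · intro t p
    exact hfsmul t p

end Main

end Groth.Agent.Lib.Helper11.Seg
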