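import Groth.Agent.Lib.Helper11.GrDiagA

/-!
# Swapping the two factors of `R ⊗[k] S`
-/

set_option autoImplicit false
set_option linter.unusedSectionVars false
set_option linter.unusedVariables false
set_option linter.style.haveILetI false
universe u

open scoped TensorProduct

namespace Groth.Agent.Lib.Helper11.Seg

open DirectSum GrLC Groth.Agent.Lib.Helper11.GrLCLib Groth.Agent.Lib.Helper11.GrVer

/-- the swap of bidegrees. -/
def swapHom : ℤ × ℤ →+ ℤ × ℤ := (AddMonoidHom.snd ℤ ℤ).prod (AddMonoidHom.fst ℤ ℤ)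

lemma swapHom_apply (p : ℤ × ℤ) : swapHom p = (p.2, p.1) := rfl

lemma swapHom_injective : Function.Injective swapHom := by
  rintro ⟨a, b⟩ ⟨c, d⟩ h
  have h1 : b = d := congrArg Prod.fst h
  have h2 : a = c := congrArg Prod.snd h
  rw [h1, h2]

section Swap

variable {k : Type u} [Field k]
variable {M N : Type u} [AddCommGroup M] [Module k M] [AddCommGroup N] [Module k N]
variable (ℳ : ℤ → AddSubgroup M) (𝒩 : ℤ → AddSubgroup N)

lemma comm_mem_biGr {p : ℤ × ℤ} {y : N ⊗[k] M} (hy : y ∈ biGr (k := k) 𝒩 ℳ p) :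
    TensorProduct.comm k N M y ∈ biGr (k := k) ℳ 𝒩 (swapHom p) := by
  induction hy using Submodule.span_induction with
  | mem x h =>
    obtain ⟨b, hb, a, ha, rfl⟩ := h
    rw [TensorProduct.comm_tmul]
    exact tmul_mem_biGr ℳ 𝒩 ha hb
  | zero => rw [map_zero]; exact zero_mem _
  | add x y _ _ hx hy => rw [map_add]; exact add_mem hx hy
  | smul c x _ hx =>
    rw [map_smul]
    exact (biSub (k := k) ℳ 𝒩 _).smul_mem c hx

lemma map_comm_biGr (p : ℤ × ℤ) :
    (biGr (k := k) 𝒩 ℳ p).map ((TensorProduct.comm k N M : N ⊗[k] M →ₗ[k] M ⊗[k] N) :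
      N ⊗[k] M →+ M ⊗[k] N) = biGr (k := k) ℳ 𝒩 (swapHom p) := by
  ext x
  constructor
  · rintro ⟨y, hy, rfl⟩
    exact comm_mem_biGr ℳ 𝒩 hy
  · intro hx
    refine ⟨TensorProduct.comm k M N x, ?_, ?_⟩
    · have := comm_mem_biGr 𝒩 ℳ hx
      rwa [swapHom_apply, swapHom_apply] at this
    · change TensorProduct.comm k N M (TensorProduct.comm k M N x) = x
      rw [← TensorProduct.comm_symm, LinearEquiv.symm_apply_apply]

end Swap

section Ring

variable {k : Type u} [Field k] {R S : Type u} [CommRing R] [CommRing S] [Algebra k R]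
  [Algebra k S]
variable (𝒜 : ℤ → AddSubgroup R) [GradedRing 𝒜] (ℬ : ℤ → AddSubgroup S) [GradedRing ℬ]
  [IsKAlgGr k 𝒜] [IsKAlgGr k ℬ]

/-- the swap `S ⊗ R → R ⊗ S` as a ring homomorphism. -/
noncomputable def swapRing : S ⊗[k] R →+* R ⊗[k] S :=
  ((Algebra.TensorProduct.comm k S R : S ⊗[k] R →ₐ[k] R ⊗[k] S) : S ⊗[k] R →+* R ⊗[k] S)

lemma swapRing_apply (y : S ⊗[k] R) :
    swapRing (k := k) (R := R) (S := S) y = TensorProduct.comm k S R y := rfl

lemma swapRing_tmul (s : S) (r : R) :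
    swapRing (k := k) (R := R) (S := S) (s ⊗ₜ[k] r) = r ⊗ₜ[k] s := rfl

lemma swapRing_injective : Function.Injective (swapRing (k := k) (R := R) (S := S)) :=
  (Algebra.TensorProduct.comm k S R).injective

lemma isVerRing_swap :
    IsVerRing (biGr (k := k) 𝒜 ℬ) (biGr (k := k) ℬ 𝒜) (swapRing (k := k) (R := R) (S := S))
      swapHom :=
  ⟨swapRing_injective, swapHom_injective, fun p => map_comm_biGr 𝒜 ℬ p⟩

lemma map_swapRing_extIdeal (n : Ideal S) :
    (extIdeal (k := k) (S := R) n).map (swapRing (k := k) (R := R) (S := S)) =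
      extIdealR (k := k) (R := R) n := by
  unfold extIdeal extIdealR
  rw [Ideal.map_map]
  rfl

end Ring

section Mod

variable {k : Type u} [Field k] {R S : Type u} [CommRing R] [CommRing S] [Algebra k R]
  [Algebra k S]
variable {M N : Type u} [AddCommGroup M] [Module R M] [Module k M] [IsScalarTower k R M]
  [AddCommGroup N] [Module S N] [Module k N] [IsScalarTower k S N]

lemma comm_smul (a : S ⊗[k] R) (y : N ⊗[k] M) :
    TensorProduct.comm k N M (a • y) =
      swapRing (k := k) (R := R) (S := S) a • TensorProduct.comm k N M y := by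
  induction a using TensorProduct.induction_on with
  | zero => rw [zero_smul, map_zero, map_zero, zero_smul]
  | tmul s r =>
    induction y using TensorProduct.induction_on with
    | zero => rw [smul_zero, map_zero, smul_zero]
    | tmul n m =>
      rw [tmul_smul_tmul, TensorProduct.comm_tmul, TensorProduct.comm_tmul, swapRing_tmul,
        tmul_smul_tmul]
    | add x y hx hy => rw [smul_add, map_add, hx, hy, map_add, smul_add]
  | add a b ha hb => rw [add_smul, map_add, ha, hb, map_add, add_smul]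

/-- the swap `N ⊗ M → M ⊗ N` as a semilinear map. -/
noncomputable def swapSL : N ⊗[k] M →ₛₗ[swapRing (k := k) (R := R) (S := S)] M ⊗[k] N where
  toFun := TensorProduct.comm k N M
  map_add' := map_add _
  map_smul' a y := comm_smul a y

lemma swapSL_apply (y : N ⊗[k] M) :
    swapSL (k := k) (R := R) (S := S) y = TensorProduct.comm k N M y := rfl

variable (𝒜 : ℤ → AddSubgroup R) [GradedRing 𝒜] (ℬ : ℤ → AddSubgroup S) [GradedRing ℬ]
  [IsKAlgGr k 𝒜] [IsKAlgGr k ℬ]
variable (ℳ : ℤ → AddSubgroup M) [DirectSum.Decomposition ℳ] [SetLike.GradedSMul 𝒜 ℳ] [IsKGr k ℳ]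
  (𝒩 : ℤ → AddSubgroup N) [DirectSum.Decomposition 𝒩] [SetLike.GradedSMul ℬ 𝒩] [IsKGr k 𝒩]

lemma isVer_swap :
    IsVer (swapRing (k := k) (R := R) (S := S)) swapHom (biGr (k := k) ℳ 𝒩) (biGr (k := k) 𝒩 ℳ)
      (swapSL (k := k) (R := R) (S := S) (M := M) (N := N)) :=
  ⟨(TensorProduct.comm k N M).injective, fun p => map_comm_biGr ℳ 𝒩 p⟩

end Mod

end Groth.Agent.Lib.Helper11.Seg
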