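import Groth.Agent.Lib.Helper11.GrFunA
import Groth.Agent.Lib.Helper11.GrFreeA
import Groth.Agent.Lib.Helper11.GrLesD
import Groth.Agent.Lib.Helper11.GrLCRes
import Groth.Agent.Lib.Helper11.GrLCH

/-!
# The top graded local cohomology functor is right exact: generators and relations for `H^q_a(M)`
-/

set_option autoImplicit false
set_option linter.unusedSectionVars false
set_option linter.unusedVariables false
set_option linter.style.haveILetI false
universe u

namespace Groth.Agent.Lib.Helper11.GrTop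

open DirectSum GrLC Groth.Agent.Lib.Helper11.GrLCLib Groth.Agent.Lib.Helper11.GrFun
  Groth.Agent.Lib.Helper11.GrFree Groth.Agent.Lib.Helper11.GrLes

variable {ι : Type} [DecidableEq ι] [AddCommGroup ι]
variable {R : Type u} [CommRing R] {𝒜 : ι → AddSubgroup R} [GradedRing 𝒜]

attribute [local instance] Groth.Agent.Lib.Helper11.GrFree.freeDecomposition

section Gens

variable {M : Type u} [AddCommGroup M] [Module R M] (ℳ : ι → AddSubgroup M)
  [DirectSum.Decomposition ℳ]

/-- a finitely generated graded module has a finite family of homogeneous generators. -/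
theorem exists_homogeneous_family [Module.Finite R M] :
    ∃ (t : ℕ) (d : Fin t → ι) (x : Fin t → M), (∀ i, x i ∈ ℳ (d i)) ∧
      Submodule.span R (Set.range x) = ⊤ := by
  classical
  obtain ⟨S, hS⟩ := (Module.finite_def (R := R) (M := M)).mp inferInstance
  let T : Finset M :=
    S.biUnion (fun s => (decompose ℳ s).support.image (fun i => (decompose ℳ s i : M)))
  have hT : ∀ y ∈ T, ∃ g, y ∈ ℳ g := by
    intro y hy
    rw [Finset.mem_biUnion] at hy
    obtain ⟨s, _, hy⟩ := hy
    rw [Finset.mem_image] at hy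
    obtain ⟨i, _, rfl⟩ := hy
    exact ⟨i, SetLike.coe_mem _⟩
  have hTspan : Submodule.span R (T : Set M) = ⊤ := by
    rw [eq_top_iff, ← hS]
    apply Submodule.span_le.mpr
    intro s hs
    rw [SetLike.mem_coe, ← DirectSum.sum_support_decompose ℳ s]
    apply Submodule.sum_mem
    intro i hi
    apply Submodule.subset_span
    rw [Finset.mem_coe, Finset.mem_biUnion]
    exact ⟨s, hs, Finset.mem_image.mpr ⟨i, hi, rfl⟩⟩
  choose! deg hdeg using hT
  let e := T.equivFin
  refine ⟨T.card, fun i => deg (e.symm i : M), fun i => (e.symm i : M),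
    fun i => hdeg _ (e.symm i).2, ?_⟩
  rw [eq_top_iff, ← hTspan]
  apply Submodule.span_mono
  intro y hy
  exact ⟨e ⟨y, hy⟩, by simp⟩

end Gens

section Main

variable [IsNoetherianRing R]
variable (I : StarInjRes 𝒜 𝒜) (a : HomogeneousIdeal 𝒜) (q : ℕ)

/-- the vanishing hypothesis: `H^{q+1}_a` vanishes on finitely generated graded modules. -/
def VanHyp : Prop :=
  ∀ N : GMod.{u} 𝒜, Module.Finite R N.carrier → ∀ EN : StarInjRes 𝒜 N.gr,
    Subsingleton (EN.H a (q + 1))

variable {M : Type u} [AddCommGroup M] [Module R M] {ℳ : ι → AddSubgroup M}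
  [DirectSum.Decomposition ℳ] [SetLike.GradedSMul 𝒜 ℳ] (EM : StarInjRes 𝒜 ℳ)

/-- multiplication by a homogeneous element `x ∈ M_g`, on local cohomology. -/
noncomputable def theta {g : ι} {x : M} (hx : x ∈ ℳ g) : I.H a q →ₗ[R] EM.H a q :=
  Hn I EM a q (LinearMap.toSpanSingleton R M x) g (isGrHomDeg_toSpanSingleton ℳ 𝒜 hx)

lemma theta_mem {g : ι} {x : M} (hx : x ∈ ℳ g) {j : ι} {h : I.H a q} (hh : h ∈ I.Hcomp a q j) :
    theta I a q EM hx h ∈ EM.Hcomp a q (j + g) :=
  Hn_mem a q _ hh

variable {t : ℕ} (d : Fin t → ι) (x : Fin t → M)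

lemma pres_surjective (hspan : Submodule.span R (Set.range x) = ⊤) :
    Function.Surjective (Fintype.linearCombination R x) := by
  rw [← LinearMap.range_eq_top, Fintype.range_linearCombination, hspan]

/-- decomposition of the identity on the cohomology of a free module. -/
lemma free_decomp (EG : StarInjRes 𝒜 (freeGr 𝒜 d)) (g' : EG.H a q) :
    g' = ∑ i, Hn I EG a q (LinearMap.single R (fun _ : Fin t => R) i) (d i)
        (single_isGrHomDeg 𝒜 d i)
      (Hn EG I a q (LinearMap.proj i) (-d i) (proj_isGrHomDeg 𝒜 d i) g') := by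
  classical
  have hid : IsGrHomDeg (freeGr 𝒜 d) (freeGr 𝒜 d)
      (LinearMap.id : (Fin t → R) →ₗ[R] (Fin t → R)) 0 :=
    isGrHomDeg_id_zero
  have hcomp : ∀ i, IsGrHomDeg (freeGr 𝒜 d) (freeGr 𝒜 d)
      ((LinearMap.single R (fun _ : Fin t => R) i) ∘ₗ (LinearMap.proj i :
        (Fin t → R) →ₗ[R] R)) 0 := by
    intro i
    have := isGrHomDeg_comp (proj_isGrHomDeg 𝒜 d i) (single_isGrHomDeg 𝒜 d i)
    rwa [neg_add_cancel] at this
  have hsum : (LinearMap.id : (Fin t → R) →ₗ[R] (Fin t → R)) =
      ∑ i, (LinearMap.single R (fun _ : Fin t => R) i) ∘ₗ (LinearMap.proj i :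
        (Fin t → R) →ₗ[R] R) := by
    apply LinearMap.ext
    intro g
    rw [LinearMap.sum_apply]
    simp only [LinearMap.comp_apply, LinearMap.proj_apply, LinearMap.single_apply,
      LinearMap.id_apply]
    exact (Finset.univ_sum_single g).symm
  have hS : IsGrHomDeg (freeGr 𝒜 d) (freeGr 𝒜 d)
      (∑ i, (LinearMap.single R (fun _ : Fin t => R) i) ∘ₗ (LinearMap.proj i :
        (Fin t → R) →ₗ[R] R)) 0 := isGrHomDeg_sum _ (fun i _ => hcomp i)
  have h1 : Hn EG EG a q LinearMap.id 0 hid = LinearMap.id := Hn_id a q hid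
  have h2 := Hn_congr (E := EG) (E' := EG) a q hid hsum hS
  have h3 := Hn_sum (E := EG) (E' := EG) a q Finset.univ hcomp hS
  have h4 : g' = (∑ i, Hn EG EG a q _ 0 (hcomp i)) g' := by
    rw [← h3, ← h2, h1]
    rfl
  rw [LinearMap.sum_apply] at h4
  conv_lhs => rw [h4]
  refine Finset.sum_congr rfl (fun i _ => ?_)
  exact (Hn_comp_apply a q (proj_isGrHomDeg 𝒜 d i) (single_isGrHomDeg 𝒜 d i) (hcomp i)
    (neg_add_cancel (d i)) rfl g').symm

end Main

end Groth.Agent.Lib.Helper11.GrTop
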