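import Groth.Agent.Lib.Helper11.GrTopA

/-!
# Generators and relations for the top graded local cohomology
-/

set_option autoImplicit false
set_option linter.unusedSectionVars false
set_option linter.unusedVariables false
set_option linter.style.haveILetI false
universe u

namespace Groth.Agent.Lib.Helper11.GrTop

open DirectSum GrLC Groth.Agent.Lib.Helper11.GrLCLib Groth.Agent.Lib.Helper11.GrFun
  Groth.Agent.Lib.Helper11.GrFree Groth.Agent.Lib.Helper11.GrLes

variable {ι : Type} [DecidableEq ι] [AddCommGroup ι]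
variable {R : Type u} [CommRing R] {𝒜 : ι → AddSubgroup R} [GradedRing 𝒜]

attribute [local instance] Groth.Agent.Lib.Helper11.GrFree.freeDecomposition

variable [IsNoetherianRing R]
variable (I : StarInjRes 𝒜 𝒜) (a : HomogeneousIdeal 𝒜) (q : ℕ)
variable {M : Type u} [AddCommGroup M] [Module R M] {ℳ : ι → AddSubgroup M}
  [DirectSum.Decomposition ℳ] [SetLike.GradedSMul 𝒜 ℳ] (EM : StarInjRes 𝒜 ℳ)
variable {t : ℕ} (d : Fin t → ι) (x : Fin t → M) (hx : ∀ i, x i ∈ ℳ (d i))

/-- the data of the long exact sequence attached to a presentation. -/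
theorem exists_pres_les (hspan : Submodule.span R (Set.range x) = ⊤)
    (EG : StarInjRes 𝒜 (freeGr 𝒜 d))
    [DirectSum.Decomposition (subGr (freeGr 𝒜 d) (LinearMap.ker (Fintype.linearCombination R x)))]
    (ES : StarInjRes 𝒜 (subGr (freeGr 𝒜 d) (LinearMap.ker (Fintype.linearCombination R x))))
    (hvanS : Subsingleton (ES.H a (q + 1))) :
    Function.Surjective (Hn EG EM a q (Fintype.linearCombination R x) 0
      ((isGrHomDeg_zero_iff _ _).mpr (linearCombination_isGrHom 𝒜 d ℳ x hx))) ∧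
    Function.Exact
      (Hn ES EG a q (LinearMap.ker (Fintype.linearCombination R x)).subtype 0
        ((isGrHomDeg_zero_iff _ _).mpr (subtype_isGrHom (freeGr 𝒜 d) _)))
      (Hn EG EM a q (Fintype.linearCombination R x) 0
        ((isGrHomDeg_zero_iff _ _).mpr (linearCombination_isGrHom 𝒜 d ℳ x hx))) := by
  have hπ := linearCombination_isGrHom 𝒜 d ℳ x hx
  have hπ0 := (isGrHomDeg_zero_iff (freeGr 𝒜 d) ℳ).mpr hπ
  have hu := subtype_isGrHom (freeGr 𝒜 d) (LinearMap.ker (Fintype.linearCombination R x))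
  have hu0 := (isGrHomDeg_zero_iff _ _).mpr hu
  obtain ⟨cu, hcu, hlu⟩ := exists_cmap ES EG _ 0 hu0
  obtain ⟨cv, hcv, hlv⟩ := exists_cmap EG EM _ 0 hπ0
  obtain ⟨γ, hγ, hex1, hex2, hex3, hinj⟩ := exists_les ES EG EM
    (LinearMap.ker (Fintype.linearCombination R x)).subtype (Fintype.linearCombination R x)
    hu hπ (Submodule.injective_subtype _) (pres_surjective x hspan)
    (by rw [Submodule.range_subtype]) a cu hcu hlu cv hcv hlv
  rw [Hn_eq a q hπ0 cv hcv hlv, Hn_eq a q hu0 cu hcu hlu]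
  refine ⟨?_, hex1 q⟩
  intro y
  have : γ q y = 0 := hvanS.elim _ _
  exact (hex2 q y).mp this


/-- **Generators**: `H^q_a(M)` is generated by the images of multiplication by the generators of
`M`. -/
theorem exists_theta_sum (hvan : VanHyp (𝒜 := 𝒜) a q)
    (hspan : Submodule.span R (Set.range x) = ⊤) (y : EM.H a q) :
    ∃ h : Fin t → I.H a q, y = ∑ i, theta I a q EM (hx i) (h i) := by
  classical
  have hπ := linearCombination_isGrHom 𝒜 d ℳ x hx
  have hP : (LinearMap.ker (Fintype.linearCombination R x)).IsHomogeneous (freeGr 𝒜 d) :=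
    ker_isHomogeneous (freeGr 𝒜 d) ℳ hπ
  letI := subDecomposition (freeGr 𝒜 d) (LinearMap.ker (Fintype.linearCombination R x)) hP
  obtain ⟨EG⟩ := nonempty_starInjRes 𝒜 (freeGr 𝒜 d)
  obtain ⟨ES⟩ := nonempty_starInjRes 𝒜
    (subGr (freeGr 𝒜 d) (LinearMap.ker (Fintype.linearCombination R x)))
  have hvanS : Subsingleton (ES.H a (q + 1)) :=
    hvan (subGMod 𝒜 (freeGr 𝒜 d) (LinearMap.ker (Fintype.linearCombination R x)) hP)
      (inferInstanceAs (Module.Finite R ↥(LinearMap.ker (Fintype.linearCombination R x)))) ES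
  obtain ⟨hsurj, _⟩ := exists_pres_les a q EM d x hx hspan EG ES hvanS
  obtain ⟨g', rfl⟩ := hsurj y
  refine ⟨fun i => Hn EG I a q (LinearMap.proj i) (-d i) (proj_isGrHomDeg 𝒜 d i) g', ?_⟩
  conv_lhs => rw [free_decomp I a q d EG g']
  rw [map_sum]
  refine Finset.sum_congr rfl (fun i _ => ?_)
  refine Hn_comp_apply a q (single_isGrHomDeg 𝒜 d i) _
    (isGrHomDeg_toSpanSingleton ℳ 𝒜 (hx i)) (add_zero (d i)) ?_ _
  apply LinearMap.ext
  intro r
  rw [LinearMap.toSpanSingleton_apply, LinearMap.comp_apply, LinearMap.single_apply,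
    Fintype.linearCombination_apply_single]

omit [IsNoetherianRing R] in
/-- **Relations** (homogeneous case). -/
theorem theta_relation_homogeneous {j : ι} (g : Fin t → R) (hgj : g ∈ freeGr 𝒜 d j)
    (hg : Fintype.linearCombination R x g = 0) (h : I.H a q) :
    ∑ i, theta I a q EM (hx i) (g i • h) = 0 := by
  classical
  have hdeg : ∀ i, IsGrHomDeg 𝒜 ℳ
      (LinearMap.toSpanSingleton R M (x i) ∘ₗ LinearMap.lsmul R R (g i)) j := by
    intro i
    have := isGrHomDeg_comp (isGrHomDeg_lsmul 𝒜 𝒜 (hgj i))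
      (isGrHomDeg_toSpanSingleton ℳ 𝒜 (hx i))
    rwa [sub_add_cancel] at this
  have h1 : ∀ i, theta I a q EM (hx i) (g i • h) =
      Hn I EM a q (LinearMap.toSpanSingleton R M (x i) ∘ₗ LinearMap.lsmul R R (g i)) j (hdeg i) h := by
    intro i
    rw [← Hn_lsmul (E := I) a q (hgj i) (isGrHomDeg_lsmul 𝒜 𝒜 (hgj i)) h]
    exact Hn_comp_apply a q _ _ (hdeg i) (sub_add_cancel j (d i)) rfl h
  have hS : IsGrHomDeg 𝒜 ℳ
      (∑ i, LinearMap.toSpanSingleton R M (x i) ∘ₗ LinearMap.lsmul R R (g i)) j :=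
    isGrHomDeg_sum _ (fun i _ => hdeg i)
  have hzero : (∑ i, LinearMap.toSpanSingleton R M (x i) ∘ₗ LinearMap.lsmul R R (g i)) = 0 := by
    apply LinearMap.ext
    intro r
    rw [LinearMap.sum_apply, LinearMap.zero_apply]
    simp only [LinearMap.comp_apply, LinearMap.lsmul_apply, LinearMap.toSpanSingleton_apply]
    rw [Fintype.linearCombination_apply] at hg
    have : ∑ i, (g i • r) • x i = r • ∑ i, g i • x i := by
      rw [Finset.smul_sum]
      refine Finset.sum_congr rfl (fun i _ => ?_)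
      rw [smul_eq_mul, mul_comm, mul_smul]
    rw [this, hg, smul_zero]
  simp only [h1]
  rw [← LinearMap.sum_apply, ← Hn_sum (E := I) (E' := EM) a q Finset.univ hdeg hS,
    Hn_congr a q hS hzero (isGrHomDeg_zero j), Hn_zero, LinearMap.zero_apply]

omit [IsNoetherianRing R] in
/-- **Relations**. -/
theorem theta_relation (g : Fin t → R) (hg : Fintype.linearCombination R x g = 0) (h : I.H a q) :
    ∑ i, theta I a q EM (hx i) (g i • h) = 0 := by
  classical
  have hπ := linearCombination_isGrHom 𝒜 d ℳ x hx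
  have hP : (LinearMap.ker (Fintype.linearCombination R x)).IsHomogeneous (freeGr 𝒜 d) :=
    ker_isHomogeneous (freeGr 𝒜 d) ℳ hπ
  -- additivity in `g`
  let Ξ : (Fin t → R) →+ EM.H a q :=
    { toFun := fun g => ∑ i, theta I a q EM (hx i) (g i • h)
      map_zero' := by simp
      map_add' := fun g g' => by
        simp only [Pi.add_apply, add_smul, map_add]
        exact Finset.sum_add_distrib }
  show Ξ g = 0
  rw [← DirectSum.sum_support_decompose (freeGr 𝒜 d) g, map_sum]
  apply Finset.sum_eq_zero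
  intro j _
  exact theta_relation_homogeneous I a q EM d x hx _ (SetLike.coe_mem _)
    (LinearMap.mem_ker.mp (hP j (LinearMap.mem_ker.mpr hg))) h


/-- **Kernel**: every relation among the `θ_{x_i}(h_i)` comes from syzygies of the generators. -/
theorem exists_relation_of_sum_eq_zero (hvan : VanHyp (𝒜 := 𝒜) a q)
    (hspan : Submodule.span R (Set.range x) = ⊤) (h : Fin t → I.H a q)
    (hsum : ∑ i, theta I a q EM (hx i) (h i) = 0) :
    ∃ (t' : ℕ) (y : Fin t' → (Fin t → R)) (h' : Fin t' → I.H a q),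
      (∀ l, Fintype.linearCombination R x (y l) = 0) ∧ ∀ i, h i = ∑ l, y l i • h' l := by
  classical
  have hπ := linearCombination_isGrHom 𝒜 d ℳ x hx
  have hP : (LinearMap.ker (Fintype.linearCombination R x)).IsHomogeneous (freeGr 𝒜 d) :=
    ker_isHomogeneous (freeGr 𝒜 d) ℳ hπ
  letI := subDecomposition (freeGr 𝒜 d) (LinearMap.ker (Fintype.linearCombination R x)) hP
  obtain ⟨EG⟩ := nonempty_starInjRes 𝒜 (freeGr 𝒜 d)
  obtain ⟨ES⟩ := nonempty_starInjRes 𝒜
    (subGr (freeGr 𝒜 d) (LinearMap.ker (Fintype.linearCombination R x)))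
  haveI hSfin : Module.Finite R ↥(LinearMap.ker (Fintype.linearCombination R x)) := inferInstance
  have hvanS : Subsingleton (ES.H a (q + 1)) :=
    hvan (subGMod 𝒜 (freeGr 𝒜 d) (LinearMap.ker (Fintype.linearCombination R x)) hP) hSfin ES
  obtain ⟨_, hexact⟩ := exists_pres_les a q EM d x hx hspan EG ES hvanS
  -- the element of `H^q(G)` attached to `h`
  set g' : EG.H a q := ∑ i, Hn I EG a q (LinearMap.single R (fun _ : Fin t => R) i) (d i)
    (single_isGrHomDeg 𝒜 d i) (h i) with hg'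
  have hπg' : Hn EG EM a q (Fintype.linearCombination R x) 0
      ((isGrHomDeg_zero_iff _ _).mpr hπ) g' = 0 := by
    rw [hg', map_sum, ← hsum]
    refine Finset.sum_congr rfl (fun i _ => ?_)
    refine Hn_comp_apply a q (single_isGrHomDeg 𝒜 d i) _
      (isGrHomDeg_toSpanSingleton ℳ 𝒜 (hx i)) (add_zero (d i)) ?_ _
    apply LinearMap.ext
    intro r
    rw [LinearMap.toSpanSingleton_apply, LinearMap.comp_apply, LinearMap.single_apply,
      Fintype.linearCombination_apply_single]
  obtain ⟨s, hs⟩ := (hexact g').mp hπg'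
  -- generators of the syzygy module
  obtain ⟨t', b, ys, hys, hysspan⟩ := exists_homogeneous_family (R := R)
    (subGr (freeGr 𝒜 d) (LinearMap.ker (Fintype.linearCombination R x)))
  obtain ⟨h', hh'⟩ := exists_theta_sum I a q ES b ys hys hvan hysspan s
  refine ⟨t', fun l => (ys l : Fin t → R), h', fun l => LinearMap.mem_ker.mp (ys l).2, fun i => ?_⟩
  -- compute `Hn (proj i) g'` in two ways
  have h1 : Hn EG I a q (LinearMap.proj i) (-d i) (proj_isGrHomDeg 𝒜 d i) g' = h i := by
    rw [hg', map_sum, Finset.sum_eq_single i]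
    · have hid : IsGrHomDeg 𝒜 𝒜 (LinearMap.id : R →ₗ[R] R) 0 := isGrHomDeg_id_zero
      rw [Hn_comp_apply a q (single_isGrHomDeg 𝒜 d i) (proj_isGrHomDeg 𝒜 d i) hid
        (add_neg_cancel (d i)) (LinearMap.proj_comp_single_same R (fun _ : Fin t => R) i).symm,
        Hn_id]
      rfl
    · intro i' _ hne
      rw [Hn_comp_apply a q (single_isGrHomDeg 𝒜 d i') (proj_isGrHomDeg 𝒜 d i)
        (isGrHomDeg_zero (d i' + -d i)) rfl
        (LinearMap.proj_comp_single_ne R (fun _ : Fin t => R) i i' (Ne.symm hne)).symm,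
        Hn_zero, LinearMap.zero_apply]
    · intro hni
      exact absurd (Finset.mem_univ i) hni
  rw [← h1, ← hs, hh', map_sum, map_sum]
  refine Finset.sum_congr rfl (fun l _ => ?_)
  have hyl : (ys l : Fin t → R) i ∈ 𝒜 (b l - d i) := hys l i
  have hls : IsGrHomDeg 𝒜 𝒜 (LinearMap.lsmul R R ((ys l : Fin t → R) i)) (b l - d i) :=
    isGrHomDeg_lsmul 𝒜 𝒜 hyl
  rw [← Hn_lsmul (E := I) a q hyl hls (h' l)]
  have hmid : IsGrHomDeg 𝒜 (freeGr 𝒜 d)
      ((LinearMap.ker (Fintype.linearCombination R x)).subtype ∘ₗ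
        LinearMap.toSpanSingleton R _ (ys l)) (b l) := by
    have := isGrHomDeg_comp (isGrHomDeg_toSpanSingleton
      (subGr (freeGr 𝒜 d) (LinearMap.ker (Fintype.linearCombination R x))) 𝒜 (hys l))
      ((isGrHomDeg_zero_iff _ _).mpr (subtype_isGrHom (freeGr 𝒜 d)
        (LinearMap.ker (Fintype.linearCombination R x))))
    rwa [add_zero] at this
  show Hn EG I a q (LinearMap.proj i) (-d i) (proj_isGrHomDeg 𝒜 d i)
    (Hn ES EG a q _ 0 _ (theta I a q ES (hys l) (h' l))) = _
  rw [theta, Hn_comp_apply a q _ _ hmid (add_zero (b l)) rfl,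
    Hn_comp_apply a q hmid (proj_isGrHomDeg 𝒜 d i) hls (sub_eq_add_neg (b l) (d i)).symm ?_]
  apply LinearMap.ext
  intro r
  simp only [LinearMap.lsmul_apply, LinearMap.comp_apply, LinearMap.toSpanSingleton_apply,
    Submodule.subtype_apply, LinearMap.proj_apply, Submodule.coe_smul, Pi.smul_apply, smul_eq_mul]
  exact mul_comm _ _

end Groth.Agent.Lib.Helper11.GrTop
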