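import Groth.Agent.Lib.Helper11.GrTopB
import Groth.Agent.Lib.Helper11.GrDualA

/-!
# Graded local duality for the top local cohomology: `(H^n_m(M))^* ≅ Hom_R(M, (H^n_m(R))^*)`
-/

set_option autoImplicit false
set_option linter.unusedSectionVars false
set_option linter.unusedVariables false
set_option linter.style.haveILetI false
universe u

namespace Groth.Agent.Lib.Helper11.GrTop

open DirectSum GrLC GrSeg Groth.Agent.Lib.Helper11.GrLCLib Groth.Agent.Lib.Helper11.GrFun
  Groth.Agent.Lib.Helper11.GrFree Groth.Agent.Lib.Helper11.GrLes Groth.Agent.Lib.Helper11.GrDual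

/-- factor a linear map through a surjection. -/
lemma exists_factor {S : Type*} [Ring S] {A B C : Type*} [AddCommGroup A] [Module S A]
    [AddCommGroup B] [Module S B] [AddCommGroup C] [Module S C] (f : A →ₗ[S] B)
    (hf : Function.Surjective f) (g : A →ₗ[S] C) (h : LinearMap.ker f ≤ LinearMap.ker g) :
    ∃ u : B →ₗ[S] C, ∀ a, u (f a) = g a := by
  let e := f.quotKerEquivOfSurjective hf
  refine ⟨(Submodule.liftQ _ g h) ∘ₗ e.symm.toLinearMap, fun a => ?_⟩
  have : e.symm (f a) = Submodule.Quotient.mk a := by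
    rw [LinearEquiv.symm_apply_eq]
    rfl
  rw [LinearMap.comp_apply, LinearEquiv.coe_coe, this]
  rfl

section Fin

variable {k : Type u} [Field k] {M : Type u} [AddCommGroup M] [Module k M]
  {ℳ : ℤ → AddSubgroup M} [DirectSum.Decomposition ℳ]
variable {R : Type u} [CommRing R] [Algebra k R] [Module R M] [IsScalarTower k R M]
variable {D : Type u} [AddCommGroup D] [Module R D] [Module k D] [IsScalarTower k R D]
  {𝒟 : ℤ → AddSubgroup D} [DirectSum.Decomposition 𝒟] {β : D →ₗ[k] M →ₗ[k] k}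

/-- a functional vanishing on almost all pieces is represented by an element of the graded dual. -/
lemma exists_of_finite_support (hD : IsGDual R ℳ 𝒟 β) (l : M →ₗ[k] k) (s : Finset ℤ)
    (hs : ∀ j, j ∉ s → ∀ y ∈ ℳ j, l y = 0) : ∃ δ : D, ∀ y, β δ y = l y := by
  classical
  have hex : ∀ j : ℤ, ∃ δ : D, δ ∈ 𝒟 (-j) ∧ ∀ y ∈ ℳ j, β δ y = l y := by
    intro j
    obtain ⟨δ, hδ, hδy⟩ := hD.exists_eq (-j) l
    exact ⟨δ, hδ, fun y hy => hδy y (by rw [neg_neg]; exact hy)⟩
  choose δ hδ hδy using hex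
  refine ⟨∑ j ∈ s, δ j, fun y => ?_⟩
  refine eq_of_forall_homogeneous ℳ (β (∑ j ∈ s, δ j)).toAddMonoidHom l.toAddMonoidHom ?_ y
  intro m y hy
  show β (∑ j ∈ s, δ j) y = l y
  rw [map_sum, LinearMap.sum_apply]
  by_cases hm : m ∈ s
  · rw [Finset.sum_eq_single m]
    · exact hδy m y hy
    · intro j _ hj
      exact hD.vanish (-j) (δ j) (hδ j) m (fun e => hj (by rw [e, neg_neg])) y hy
    · intro h
      exact absurd hm h
  · rw [hs m hm y hy]
    apply Finset.sum_eq_zero
    intro j hj
    exact hD.vanish (-j) (δ j) (hδ j) m (fun e => hm (by rw [e, neg_neg]; exact hj)) y hy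

end Fin

end Groth.Agent.Lib.Helper11.GrTop
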