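import Groth.Agent.Lib.Helper11.GrTopC

/-!
# Graded local duality for the top local cohomology (main theorem)
-/

set_option autoImplicit false
set_option linter.unusedSectionVars false
set_option linter.unusedVariables false
set_option linter.style.haveILetI false
set_option maxHeartbeats 800000
universe u

namespace Groth.Agent.Lib.Helper11.GrTop

open DirectSum GrLC GrSeg Groth.Agent.Lib.Helper11.GrLCLib Groth.Agent.Lib.Helper11.GrFun
  Groth.Agent.Lib.Helper11.GrFree Groth.Agent.Lib.Helper11.GrLes Groth.Agent.Lib.Helper11.GrDual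

attribute [local instance] Groth.Agent.Lib.Helper11.GrFree.freeDecomposition

variable {k : Type u} [Field k] {R : Type u} [CommRing R] [Algebra k R] [IsNoetherianRing R]
  {𝒜 : ℤ → AddSubgroup R} [GradedRing 𝒜]

theorem exists_dual_equiv_hom (a : HomogeneousIdeal 𝒜) (n : ℕ) (hvan : VanHyp (𝒜 := 𝒜) a n)
    (I : StarInjRes 𝒜 𝒜) [Module k (I.H a n)] [IsScalarTower k R (I.H a n)]
    [DirectSum.Decomposition (I.Hgr a n)]
    {K : Type u} [AddCommGroup K] [Module R K] [Module k K] [IsScalarTower k R K]
    (𝒦 : ℤ → AddSubgroup K) [DirectSum.Decomposition 𝒦] [SetLike.GradedSMul 𝒜 𝒦]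
    (βK : K →ₗ[k] I.H a n →ₗ[k] k) (hK : IsGDual R (I.Hgr a n) 𝒦 βK)
    {M : Type u} [AddCommGroup M] [Module R M]
    (ℳ : ℤ → AddSubgroup M) [DirectSum.Decomposition ℳ] [SetLike.GradedSMul 𝒜 ℳ]
    [Module.Finite R M] (EM : StarInjRes 𝒜 ℳ) [Module k (EM.H a n)]
    [IsScalarTower k R (EM.H a n)] [DirectSum.Decomposition (EM.Hgr a n)]
    {D : Type u} [AddCommGroup D] [Module R D] [Module k D] [IsScalarTower k R D]
    (𝒟 : ℤ → AddSubgroup D) [DirectSum.Decomposition 𝒟]
    (βD : D →ₗ[k] EM.H a n →ₗ[k] k) (hD : IsGDual R (EM.Hgr a n) 𝒟 βD) :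
    ∃ ε : D ≃ₗ[R] (M →ₗ[R] K), ∀ (j : ℤ) (δ : D), δ ∈ 𝒟 j → IsGrHomDeg ℳ 𝒦 (ε δ) j := by
  classical
  obtain ⟨t, d, x, hx, hspan⟩ := exists_homogeneous_family (R := R) ℳ
  have hπ := linearCombination_isGrHom 𝒜 d ℳ x hx
  have hπs := pres_surjective x hspan
  -- the transposes of the multiplication maps
  have hT : ∀ i : Fin t, ∃ T : D →ₗ[R] K, (∀ δ h, βK (T δ) h = βD δ (theta I a n EM (hx i) h)) ∧
      ∀ (j : ℤ) (δ : D), δ ∈ 𝒟 j → T δ ∈ 𝒦 (j + d i) := by
    intro i
    exact exists_transpose (ℳ := I.Hgr a n) (𝒟 := 𝒦) (β := βK)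
      (ℳ' := fun j => EM.Hgr a n (j + d i)) (𝒟' := 𝒟) (β' := βD) hK hD.map_smul (d i)
      (fun j δ hδ m hm y hy => hD.vanish j δ hδ (m + d i) (fun e => hm (by omega)) y hy)
      (theta I a n EM (hx i)) (fun j h hh => theta_mem I a n EM (hx i) hh)
  choose T hTβ hTdeg using hT
  -- the map on the free module
  let A : D → ((Fin t → R) →ₗ[R] K) := fun δ => Fintype.linearCombination R (fun i => T i δ)
  have hA : ∀ δ g, A δ g = ∑ i, g i • T i δ := fun δ g => Fintype.linearCombination_apply R _ g
  have hAker : ∀ δ, LinearMap.ker (Fintype.linearCombination R x) ≤ LinearMap.ker (A δ) := by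
    intro δ g hg
    rw [LinearMap.mem_ker] at hg ⊢
    apply eq_zero_of_forall hK
    intro h
    rw [hA, map_sum, LinearMap.sum_apply]
    have : ∀ i, βK (g i • T i δ) h = βD δ (theta I a n EM (hx i) (g i • h)) := by
      intro i
      rw [hK.map_smul, hTβ]
    simp only [this]
    rw [← map_sum, theta_relation I a n EM d x hx g hg h, map_zero]
  have hε : ∀ δ, ∃ u : M →ₗ[R] K, ∀ g, u (Fintype.linearCombination R x g) = A δ g :=
    fun δ => exists_factor _ hπs (A δ) (hAker δ)
  choose ε₀ hε₀ using hε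
  have hε₀x : ∀ δ i, ε₀ δ (x i) = T i δ := by
    intro δ i
    have := hε₀ δ (Pi.single i 1)
    rw [Fintype.linearCombination_apply_single, one_smul, hA] at this
    rw [this, Finset.sum_eq_single i]
    · rw [Pi.single_eq_same, one_smul]
    · intro i' _ hne
      rw [Pi.single_eq_of_ne hne, zero_smul]
    · intro h
      exact absurd (Finset.mem_univ i) h
  let ε : D →ₗ[R] (M →ₗ[R] K) :=
    { toFun := ε₀
      map_add' := by
        intro δ δ'
        apply LinearMap.ext
        intro m
        obtain ⟨g, rfl⟩ := hπs m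
        rw [LinearMap.add_apply, hε₀, hε₀, hε₀, hA, hA, hA, ← Finset.sum_add_distrib]
        refine Finset.sum_congr rfl (fun i _ => ?_)
        rw [map_add, smul_add]
      map_smul' := by
        intro r δ
        apply LinearMap.ext
        intro m
        obtain ⟨g, rfl⟩ := hπs m
        rw [RingHom.id_apply, LinearMap.smul_apply, hε₀, hε₀, hA, hA, Finset.smul_sum]
        refine Finset.sum_congr rfl (fun i _ => ?_)
        rw [map_smul, smul_comm] }
  have hεapp : ∀ δ, ε δ = ε₀ δ := fun δ => rfl
  -- injectivity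
  have hinj : Function.Injective ε := by
    rw [injective_iff_map_eq_zero]
    intro δ hδ
    apply eq_zero_of_forall hD
    intro y
    obtain ⟨h, rfl⟩ := exists_theta_sum I a n EM d x hx hvan hspan y
    rw [map_sum]
    apply Finset.sum_eq_zero
    intro i _
    rw [← hTβ, ← hε₀x, ← hεapp, hδ, LinearMap.zero_apply, map_zero, LinearMap.zero_apply]
  -- surjectivity
  have hsurj : Function.Surjective ε := by
    intro ψ
    -- the functional on `H^n(M)` attached to `ψ`
    let Θ : (Fin t → I.H a n) →ₗ[R] EM.H a n :=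
      ∑ i, (theta I a n EM (hx i)) ∘ₗ (LinearMap.proj i)
    have hΘ : ∀ h, Θ h = ∑ i, theta I a n EM (hx i) (h i) := by
      intro h
      simp only [Θ, LinearMap.sum_apply, LinearMap.comp_apply, LinearMap.proj_apply]
    let Θk : (Fin t → I.H a n) →ₗ[k] EM.H a n := Θ.restrictScalars k
    have hΘs : Function.Surjective Θk := by
      intro y
      obtain ⟨h, rfl⟩ := exists_theta_sum I a n EM d x hx hvan hspan y
      exact ⟨h, hΘ h⟩
    let Λ' : (Fin t → I.H a n) →ₗ[k] k :=
      ∑ i, (βK (ψ (x i))) ∘ₗ (LinearMap.proj i)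
    have hΛ' : ∀ h, Λ' h = ∑ i, βK (ψ (x i)) (h i) := by
      intro h
      simp only [Λ', LinearMap.sum_apply, LinearMap.comp_apply, LinearMap.proj_apply]
    have hle : LinearMap.ker Θk ≤ LinearMap.ker Λ' := by
      intro h hh
      rw [LinearMap.mem_ker] at hh ⊢
      have hh' : ∑ i, theta I a n EM (hx i) (h i) = 0 := by rw [← hΘ]; exact hh
      obtain ⟨t', y, h', hy, hhy⟩ := exists_relation_of_sum_eq_zero I a n EM d x hx hvan hspan h hh'
      rw [hΛ']
      have h1 : ∀ i, βK (ψ (x i)) (h i) = ∑ l, βK (y l i • ψ (x i)) (h' l) := by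
        intro i
        rw [hhy i, map_sum]
        refine Finset.sum_congr rfl (fun l _ => ?_)
        rw [hK.map_smul]
      simp only [h1]
      rw [Finset.sum_comm]
      apply Finset.sum_eq_zero
      intro l _
      rw [← LinearMap.sum_apply, ← map_sum]
      have : ∑ i, y l i • ψ (x i) = ψ (Fintype.linearCombination R x (y l)) := by
        rw [Fintype.linearCombination_apply, map_sum]
        refine Finset.sum_congr rfl (fun i _ => ?_)
        rw [map_smul]
      rw [this, hy l, map_zero, map_zero, LinearMap.zero_apply]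
    obtain ⟨lam, hlam⟩ := exists_factor Θk hΘs Λ' hle
    -- `lam` has finite support
    let s : Finset ℤ := Finset.univ.biUnion
      (fun i => (decompose 𝒦 (ψ (x i))).support.image (fun c => d i - c))
    have hs : ∀ j, j ∉ s → ∀ y ∈ EM.Hgr a n j, lam y = 0 := by
      intro j hj y hy
      obtain ⟨h, rfl⟩ := exists_theta_sum I a n EM d x hx hvan hspan y
      -- replace `h i` by its component of degree `j - d i`
      have hcomp : ∑ i, theta I a n EM (hx i) (h i) =
          ∑ i, theta I a n EM (hx i) ((decompose (I.Hgr a n) (h i) (j - d i) : I.H a n)) := by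
        have h1 : ∀ i, (decompose (EM.Hgr a n) (theta I a n EM (hx i) (h i)) j : EM.H a n) =
            theta I a n EM (hx i) ((decompose (I.Hgr a n) (h i) (j - d i) : I.H a n)) := by
          intro i
          have := decompose_map_deg (I.Hgr a n) (EM.Hgr a n)
            (f := theta I a n EM (hx i)) (d := d i)
            (fun g z hz => theta_mem I a n EM (hx i) hz) (h i) (j - d i)
          rwa [sub_add_cancel] at this
        rw [← decompose_of_mem_same (EM.Hgr a n) hy, decompose_sum, DFinsupp.finsetSum_apply,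
          AddSubgroup.val_finsetSum]
        exact Finset.sum_congr rfl (fun i _ => h1 i)
      rw [hcomp]
      have := hlam (fun i => (decompose (I.Hgr a n) (h i) (j - d i) : I.H a n))
      rw [show Θk _ = Θ _ from rfl, hΘ] at this
      rw [this, hΛ']
      apply Finset.sum_eq_zero
      intro i _
      -- `ψ (x i)` has no component of degree `d i - j`
      have hz : (decompose 𝒦 (ψ (x i)) (-(j - d i)) : K) = 0 := by
        by_contra hne
        apply hj
        rw [Finset.mem_biUnion]
        refine ⟨i, Finset.mem_univ i, Finset.mem_image.mpr ⟨-(j - d i), ?_, by ring⟩⟩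
        rw [DFinsupp.mem_support_toFun]
        intro h0
        exact hne (by rw [h0]; rfl)
      rw [apply_eq_component hK (ψ (x i)) (n := -(j - d i))
        (x := (decompose (I.Hgr a n) (h i) (j - d i) : I.H a n))
        (by rw [neg_neg]; exact SetLike.coe_mem _), hz, map_zero, LinearMap.zero_apply]
    obtain ⟨δ, hδ⟩ := exists_of_finite_support hD lam s hs
    refine ⟨δ, ?_⟩
    apply LinearMap.ext_on_range hspan
    intro i
    rw [hεapp, hε₀x]
    apply (injective_of_isGDual hK)
    apply LinearMap.ext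
    intro h
    rw [hTβ, hδ]
    have := hlam (Pi.single i h)
    rw [show Θk _ = Θ _ from rfl, hΘ, hΛ'] at this
    rw [Finset.sum_eq_single i, Finset.sum_eq_single i, Pi.single_eq_same] at this
    · exact this
    · intro i' _ hne
      rw [Pi.single_eq_of_ne hne, map_zero]
    · intro h0
      exact absurd (Finset.mem_univ i) h0
    · intro i' _ hne
      rw [Pi.single_eq_of_ne hne, map_zero]
    · intro h0
      exact absurd (Finset.mem_univ i) h0
  refine ⟨LinearEquiv.ofBijective ε ⟨hinj, hsurj⟩, ?_⟩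
  intro j δ hδ g m hm
  show ε₀ δ m ∈ 𝒦 (g + j)
  -- a homogeneous preimage of `m`
  obtain ⟨γ', hγ'⟩ := hπs m
  have hγ : Fintype.linearCombination R x ((decompose (freeGr 𝒜 d) γ' g : Fin t → R)) = m := by
    rw [← decompose_map (freeGr 𝒜 d) ℳ hπ, hγ', decompose_of_mem_same ℳ hm]
  rw [← hγ, hε₀, hA]
  apply sum_mem
  intro i _
  have h1 : (decompose (freeGr 𝒜 d) γ' g : Fin t → R) i ∈ 𝒜 (g - d i) :=
    (SetLike.coe_mem (decompose (freeGr 𝒜 d) γ' g)) i
  have := SetLike.GradedSMul.smul_mem (A := 𝒜) (B := 𝒦) h1 (hTdeg i j δ hδ)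
  rw [vadd_eq_add] at this
  have e : g - d i + (j + d i) = g + j := by ring
  rwa [e] at this

end Groth.Agent.Lib.Helper11.GrTop
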