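import Mathlib

/-!
# ℤ-graded rings with a homogeneous unit of positive degree: basic lemmas (helper11)

* `inv_mem_of_isUnit` : the inverse of a homogeneous unit is homogeneous.
* `zpow_mem` : integer powers of a homogeneous unit.
* `decomp_mem_of_lt`, `decomp_mem_of_gt`, `mem_of_sub_one_mul_mem` : `t - 1` is a nonzerodivisor
  modulo every homogeneous ideal (`t` homogeneous of positive degree).
* `not_isUnit_sub_one`.
-/

set_option autoImplicit false
universe u

open DirectSum

namespace Groth.Agent.Lib.Helper11.GrUnit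

variable {R : Type u} [CommRing R] (𝒜 : ℤ → AddSubgroup R) [GradedRing 𝒜]

theorem inv_mem_of_isUnit {n : ℤ} (u : Rˣ) (hu : (u : R) ∈ 𝒜 n) : ((u⁻¹ : Rˣ) : R) ∈ 𝒜 (-n) := by
  set w : R := ((u⁻¹ : Rˣ) : R) with hw
  have h1 : (u : R) * w = 1 := by rw [hw]; exact u.mul_inv
  have h2 : (decompose 𝒜 ((u : R) * w) (n + -n) : R) = (u : R) * decompose 𝒜 w (-n) :=
    coe_decompose_mul_add_of_left_mem 𝒜 hu
  rw [h1, add_neg_cancel, decompose_of_mem_same 𝒜 SetLike.GradedOne.one_mem] at h2
  have h3 : w = (decompose 𝒜 w (-n) : R) := by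
    calc w = w * 1 := (mul_one w).symm
      _ = w * ((u : R) * decompose 𝒜 w (-n)) := by rw [← h2]
      _ = (w * (u : R)) * decompose 𝒜 w (-n) := by ring
      _ = (decompose 𝒜 w (-n) : R) := by rw [hw, u.inv_mul, one_mul]
  rw [h3]
  exact (decompose 𝒜 w (-n)).2

theorem zpow_mem {N : ℤ} (τ : Rˣ) (hτ : (τ : R) ∈ 𝒜 N) (k : ℤ) :
    ((τ ^ k : Rˣ) : R) ∈ 𝒜 (k * N) := by
  obtain ⟨m, rfl | rfl⟩ := Int.eq_nat_or_neg k
  · rw [zpow_natCast, Units.val_pow_eq_pow_val]
    have := SetLike.pow_mem_graded m hτ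
    rwa [nsmul_eq_mul] at this
  · rw [zpow_neg, zpow_natCast, ← inv_pow, Units.val_pow_eq_pow_val]
    have := SetLike.pow_mem_graded m (inv_mem_of_isUnit 𝒜 τ hτ)
    rw [nsmul_eq_mul] at this
    convert this using 2
    ring

variable {𝒜}

/-- the component formula for `(t - 1) * x`. -/
theorem decompose_sub_one_mul {N : ℤ} {t : R} (ht : t ∈ 𝒜 N) (x : R) (n : ℤ) :
    (decompose 𝒜 ((t - 1) * x) n : R) = t * decompose 𝒜 x (n - N) - decompose 𝒜 x n := by
  have h1 : (decompose 𝒜 (t * x) (N + (n - N)) : R) = t * decompose 𝒜 x (n - N) :=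
    coe_decompose_mul_add_of_left_mem 𝒜 ht
  rw [show N + (n - N) = n by ring] at h1
  rw [sub_mul, one_mul, decompose_sub, DirectSum.sub_apply, AddSubgroupClass.coe_sub, h1]

theorem exists_lower_bound (x : R) : ∃ n₀ : ℤ, ∀ n < n₀, (decompose 𝒜 x n : R) = 0 := by
  classical
  by_cases hne : (decompose 𝒜 x).support.Nonempty
  · refine ⟨(decompose 𝒜 x).support.min' hne, fun n hn => ?_⟩
    by_contra h
    have hmem : n ∈ (decompose 𝒜 x).support := by
      rw [DFinsupp.mem_support_toFun]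
      intro h0
      exact h (by rw [h0]; rfl)
    exact absurd (Finset.min'_le _ n hmem) (not_le.mpr hn)
  · refine ⟨0, fun n _ => ?_⟩
    rw [Finset.not_nonempty_iff_eq_empty] at hne
    have : n ∉ (decompose 𝒜 x).support := by rw [hne]; exact Finset.notMem_empty n
    rw [DFinsupp.mem_support_toFun, not_not] at this
    rw [this]; rfl

theorem exists_upper_bound (x : R) : ∃ n₀ : ℤ, ∀ n > n₀, (decompose 𝒜 x n : R) = 0 := by
  classical
  by_cases hne : (decompose 𝒜 x).support.Nonempty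
  · refine ⟨(decompose 𝒜 x).support.max' hne, fun n hn => ?_⟩
    by_contra h
    have hmem : n ∈ (decompose 𝒜 x).support := by
      rw [DFinsupp.mem_support_toFun]
      intro h0
      exact h (by rw [h0]; rfl)
    exact absurd (Finset.le_max' _ n hmem) (not_le.mpr hn)
  · refine ⟨0, fun n _ => ?_⟩
    rw [Finset.not_nonempty_iff_eq_empty] at hne
    have : n ∉ (decompose 𝒜 x).support := by rw [hne]; exact Finset.notMem_empty n
    rw [DFinsupp.mem_support_toFun, not_not] at this
    rw [this]; rfl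

/-- upward induction: if the components of `(t-1)x` below `n₁` lie in the ideal `I`, so do those
of `x`. -/
theorem decomp_mem_of_lt (I : Ideal R) {N : ℤ} (hN : 0 < N) {t : R} (ht : t ∈ 𝒜 N) (x : R) (n₁ : ℤ)
    (h : ∀ n < n₁, (decompose 𝒜 ((t - 1) * x) n : R) ∈ I) :
    ∀ n < n₁, (decompose 𝒜 x n : R) ∈ I := by
  obtain ⟨n₀, hn₀⟩ := exists_lower_bound (𝒜 := 𝒜) x
  have key : ∀ n ≥ n₀ - 1, ∀ m ≤ n, m < n₁ → (decompose 𝒜 x m : R) ∈ I := by
    intro n hn
    induction n, hn using Int.le_induction with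
    | base =>
      intro m hm _
      rw [hn₀ m (by omega)]
      exact I.zero_mem
    | succ n _ ih =>
      intro m hm hm1
      rcases (show m ≤ n ∨ m = n + 1 by omega) with hle | rfl
      · exact ih m hle hm1
      · have h1 := h (n + 1) hm1
        rw [decompose_sub_one_mul ht] at h1
        have h2 : (decompose 𝒜 x (n + 1 - N) : R) ∈ I := ih _ (by omega) (by omega)
        have h3 : (decompose 𝒜 x (n + 1) : R) =
            t * decompose 𝒜 x (n + 1 - N) -
              (t * decompose 𝒜 x (n + 1 - N) - decompose 𝒜 x (n + 1)) := by ring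
        rw [h3]
        exact I.sub_mem (I.mul_mem_left _ h2) h1
  intro n hn
  rcases le_or_gt (n₀ - 1) n with h1 | h1
  · exact key n h1 n le_rfl hn
  · rw [hn₀ n (by omega)]
    exact I.zero_mem

/-- downward induction (needs `t` invertible): if the components of `(t-1)x` above `n₁` lie in
`I`, so do the components of `x` above `n₁ - N`. -/
theorem decomp_mem_of_gt (I : Ideal R) {N : ℤ} (hN : 0 < N) {t : R} (ht : t ∈ 𝒜 N) (htu : IsUnit t)
    (x : R) (n₁ : ℤ) (h : ∀ n > n₁, (decompose 𝒜 ((t - 1) * x) n : R) ∈ I) :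
    ∀ m > n₁ - N, (decompose 𝒜 x m : R) ∈ I := by
  obtain ⟨n₀, hn₀⟩ := exists_upper_bound (𝒜 := 𝒜) x
  obtain ⟨w, hw⟩ := htu.exists_left_inv
  -- statement by induction on the distance from the top
  have key : ∀ k : ℕ, ∀ m ≥ n₀ + 1 - k, m > n₁ - N → (decompose 𝒜 x m : R) ∈ I := by
    intro k
    induction k with
    | zero =>
      intro m hm _
      rw [hn₀ m (by push_cast at hm; omega)]
      exact I.zero_mem
    | succ k ih =>
      intro m hm hm1
      have h1 := h (m + N) (by omega)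
      rw [decompose_sub_one_mul ht, show m + N - N = m by ring] at h1
      have h2 : (decompose 𝒜 x (m + N) : R) ∈ I := ih _ (by push_cast at hm ⊢; omega) (by omega)
      have h3 : (decompose 𝒜 x m : R) =
          w * ((t * decompose 𝒜 x m - decompose 𝒜 x (m + N)) + decompose 𝒜 x (m + N)) := by
        calc (decompose 𝒜 x m : R) = (w * t) * decompose 𝒜 x m := by rw [hw, one_mul]
          _ = _ := by ring
      rw [h3]
      exact I.mul_mem_left _ (I.add_mem h1 h2)
  intro m hm
  rcases le_or_gt m n₀ with h1 | h1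
  · exact key (n₀ + 1 - m).toNat m (by omega) hm
  · rw [hn₀ m h1]
    exact I.zero_mem

/-- `t - 1` is a nonzerodivisor modulo every homogeneous ideal. -/
theorem mem_of_sub_one_mul_mem (I : Ideal R) (hI : I.IsHomogeneous 𝒜) {N : ℤ} (hN : 0 < N) {t : R}
    (ht : t ∈ 𝒜 N) {x : R} (h : (t - 1) * x ∈ I) : x ∈ I := by
  classical
  rw [← DirectSum.sum_support_decompose 𝒜 x]
  refine I.sum_mem fun n _ => ?_
  exact decomp_mem_of_lt I hN ht x (n + 1) (fun m _ => hI m h) n (by omega)

theorem not_isUnit_sub_one [Nontrivial R] {N : ℤ} (hN : 0 < N) {t : R} (ht : t ∈ 𝒜 N)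
    (htu : IsUnit t) : ¬ IsUnit (t - 1) := by
  intro hu
  obtain ⟨y, hy⟩ := hu.exists_right_inv
  have hcomp : ∀ n : ℤ, n ≠ 0 → (decompose 𝒜 ((t - 1) * y) n : R) ∈ (⊥ : Ideal R) := by
    intro n hn
    rw [hy, decompose_of_mem_ne 𝒜 SetLike.GradedOne.one_mem (Ne.symm hn)]
    exact Ideal.zero_mem _
  have h1 := decomp_mem_of_lt ⊥ hN ht y 0 (fun n hn => hcomp n (by omega)) (-N) (by omega)
  have h2 := decomp_mem_of_gt ⊥ hN ht htu y 0 (fun n hn => hcomp n (by omega)) 0 (by omega)
  rw [Ideal.mem_bot] at h1 h2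
  have h3 := decompose_sub_one_mul ht y 0
  rw [hy, decompose_of_mem_same 𝒜 SetLike.GradedOne.one_mem, zero_sub, h1, h2, mul_zero,
    sub_zero] at h3
  exact one_ne_zero h3

end Groth.Agent.Lib.Helper11.GrUnit
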