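import Groth.Agent.Lib.Helper11.GrUnitA
import Groth.Prelude.Def_GrLC

/-!
# ℤ-graded rings with local degree-zero part and a homogeneous unit of minimal positive degree

`R` ℤ-graded, `R₀` local, `t ∈ R_N` a unit with `N > 0` minimal.  Then `C = R/(t-1)` is a local
ring whose maximal ideal is the image of the ideal `starMax` generated by the homogeneous
non-units (`isLocalRing_quot`, `maximalIdeal_quot`).
-/

set_option autoImplicit false
set_option linter.style.haveILetI false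
set_option linter.unusedSectionVars false
universe u

open DirectSum IsLocalRing

namespace Groth.Agent.Lib.Helper11.GrUnit

variable {R : Type u} [CommRing R] (𝒜 : ℤ → AddSubgroup R) [GradedRing 𝒜]

/-- the ideal generated by the homogeneous non-units. -/
def starMax : Ideal R := Ideal.span {a | SetLike.IsHomogeneousElem 𝒜 a ∧ ¬ IsUnit a}

theorem starMax_isHomogeneous : (starMax 𝒜).IsHomogeneous 𝒜 :=
  Ideal.homogeneous_span 𝒜 _ fun _ hx => hx.1

variable {𝒜}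

theorem mem_starMax_of_mem {a : R} {n : ℤ} (ha : a ∈ 𝒜 n) (hu : ¬ IsUnit a) : a ∈ starMax 𝒜 :=
  Ideal.subset_span ⟨⟨n, ha⟩, hu⟩

theorem isUnit_deg0_iff (u : GrLC.deg0 𝒜) : IsUnit u ↔ IsUnit (u : R) := by
  constructor
  · intro h
    exact h.map (GrLC.deg0 𝒜).subtype
  · intro h
    obtain ⟨τ, hτ⟩ := h
    have h1 : ((τ⁻¹ : Rˣ) : R) ∈ 𝒜 (-0) := inv_mem_of_isUnit 𝒜 τ (by rw [hτ]; exact u.2)
    rw [neg_zero] at h1
    refine IsUnit.of_mul_eq_one (⟨_, h1⟩ : GrLC.deg0 𝒜) ?_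
    apply Subtype.ext
    change (u : R) * ((τ⁻¹ : Rˣ) : R) = 1
    rw [← hτ]
    exact τ.mul_inv

/-- hypotheses: `t` is a homogeneous unit of minimal positive degree `N`. -/
structure Data (𝒜 : ℤ → AddSubgroup R) (N : ℕ) (t : R) : Prop where
  hN : 0 < N
  ht : t ∈ 𝒜 (N : ℤ)
  htu : IsUnit t
  hmin : ∀ n : ℤ, 0 < n → n < (N : ℤ) → ∀ s ∈ 𝒜 n, ¬ IsUnit s

variable {N : ℕ} {t : R}

theorem Data.exists_eq_mul (D : Data 𝒜 N t) {n : ℤ} {a : R} (ha : a ∈ 𝒜 n) (hu : IsUnit a) :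
    ∃ q : ℤ, n = q * N := by
  obtain ⟨τ, hτ⟩ := D.htu
  have hNpos : (0 : ℤ) < N := by exact_mod_cast D.hN
  have hτmem : (τ : R) ∈ 𝒜 (N : ℤ) := by rw [hτ]; exact D.ht
  set q : ℤ := n / N with hq
  set r : ℤ := n % N with hr
  have hr0 : 0 ≤ r := Int.emod_nonneg n hNpos.ne'
  have hrN : r < N := Int.emod_lt_of_pos n hNpos
  have hn : n = q * N + r := by
    rw [hq, hr, mul_comm]; exact (Int.mul_ediv_add_emod n N).symm
  have h1 : a * ((τ ^ (-q) : Rˣ) : R) ∈ 𝒜 (n + -q * N) :=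
    SetLike.mul_mem_graded ha (zpow_mem 𝒜 τ hτmem (-q))
  rw [show n + -q * N = r by rw [hn]; ring] at h1
  have h2 : IsUnit (a * ((τ ^ (-q) : Rˣ) : R)) := hu.mul (Units.isUnit _)
  rcases hr0.eq_or_lt with h0 | hpos
  · exact ⟨q, by rw [hn, ← h0, add_zero]⟩
  · exact absurd h2 (D.hmin r hpos hrN _ h1)

section quot

/-- the quotient map `R → C = R/(t-1)`. -/
noncomputable abbrev qπ (t : R) : R →+* R ⧸ Ideal.span {t - 1} := Ideal.Quotient.mk _

theorem qπ_t : qπ t t = 1 := by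
  rw [← sub_eq_zero, ← map_one (qπ t), ← map_sub]
  exact Ideal.Quotient.eq_zero_iff_mem.mpr (Ideal.mem_span_singleton_self _)

theorem qπ_zpow (τ : Rˣ) (hτ : (τ : R) = t) (k : ℤ) : qπ t ((τ ^ k : Rˣ) : R) = 1 := by
  have h1 : Units.map ((qπ t).toMonoidHom) τ = 1 := by
    apply Units.ext
    rw [Units.coe_map, Units.val_one]
    change qπ t (τ : R) = 1
    rw [hτ, qπ_t]
  have h2 : Units.map ((qπ t).toMonoidHom) (τ ^ k) = 1 := by rw [map_zpow, h1, one_zpow]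
  have := congrArg Units.val h2
  rw [Units.coe_map, Units.val_one] at this
  exact this

variable [IsLocalRing (GrLC.deg0 𝒜)]

/-- every element of `R` is congruent to a degree zero element modulo `starMax + (t-1)`. -/
theorem Data.exists_deg0 (D : Data 𝒜 N t) (a : R) :
    ∃ u : GrLC.deg0 𝒜, qπ t a - qπ t (u : R) ∈ (starMax 𝒜).map (qπ t) := by
  induction a using DirectSum.Decomposition.inductionOn 𝒜 with
  | zero => exact ⟨0, by simp⟩
  | @homogeneous n a =>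
    by_cases hu : IsUnit (a : R)
    · obtain ⟨q, hq⟩ := D.exists_eq_mul a.2 hu
      obtain ⟨τ, hτ⟩ := D.htu
      have hτmem : (τ : R) ∈ 𝒜 (N : ℤ) := by rw [hτ]; exact D.ht
      have h1 : (a : R) * ((τ ^ (-q) : Rˣ) : R) ∈ 𝒜 (n + -q * N) :=
        SetLike.mul_mem_graded a.2 (zpow_mem 𝒜 τ hτmem (-q))
      rw [show n + -q * N = 0 by rw [hq]; ring] at h1
      refine ⟨⟨_, h1⟩, ?_⟩
      change qπ t (a : R) - qπ t ((a : R) * ((τ ^ (-q) : Rˣ) : R)) ∈ _
      rw [map_mul, qπ_zpow τ hτ, mul_one, sub_self]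
      exact Ideal.zero_mem _
    · refine ⟨0, ?_⟩
      rw [ZeroMemClass.coe_zero, map_zero, sub_zero]
      exact Ideal.mem_map_of_mem _ (mem_starMax_of_mem a.2 hu)
  | add a b ha hb =>
    obtain ⟨u, hu⟩ := ha
    obtain ⟨v, hv⟩ := hb
    refine ⟨u + v, ?_⟩
    have : qπ t (a + b) - qπ t ((u + v : GrLC.deg0 𝒜) : R) =
        (qπ t a - qπ t (u : R)) + (qπ t b - qπ t (v : R)) := by
      rw [map_add, Subring.coe_add, map_add]; ring
    rw [this]
    exact Ideal.add_mem _ hu hv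

/-- the image of a non-unit of `R₀` lies in every maximal ideal of `C` (integrality of `C` over
`R₀`). -/
theorem Data.map_deg0_mem (D : Data 𝒜 N t) (𝔫 : Ideal (R ⧸ Ideal.span {t - 1})) [𝔫.IsMaximal]
    (v : GrLC.deg0 𝒜) (hv : ¬ IsUnit v) : qπ t (v : R) ∈ 𝔫 := by
  classical
  set f : GrLC.deg0 𝒜 →+* R ⧸ Ideal.span {t - 1} := (qπ t).comp (GrLC.deg0 𝒜).subtype with hf
  obtain ⟨τ, hτ⟩ := D.htu
  have hτmem : (τ : R) ∈ 𝒜 (N : ℤ) := by rw [hτ]; exact D.ht
  have hint : f.IsIntegral := by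
    letI : Algebra (GrLC.deg0 𝒜) (R ⧸ Ideal.span {t - 1}) := f.toAlgebra
    change ∀ c : R ⧸ Ideal.span {t - 1}, IsIntegral (GrLC.deg0 𝒜) c
    intro c
    obtain ⟨a, rfl⟩ := Ideal.Quotient.mk_surjective c
    rw [← DirectSum.sum_support_decompose 𝒜 a, map_sum]
    refine IsIntegral.sum _ fun n _ => ?_
    apply IsIntegral.of_pow D.hN
    have h1 : (decompose 𝒜 a n : R) ^ N * ((τ ^ (-n) : Rˣ) : R) ∈ 𝒜 (N • n + -n * N) :=
      SetLike.mul_mem_graded (SetLike.pow_mem_graded N (decompose 𝒜 a n).2)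
        (zpow_mem 𝒜 τ hτmem (-n))
    rw [show N • n + -n * (N : ℤ) = 0 by rw [nsmul_eq_mul]; ring] at h1
    have h2 : (Ideal.Quotient.mk (Ideal.span {t - 1})) (decompose 𝒜 a n : R) ^ N =
        algebraMap (GrLC.deg0 𝒜) (R ⧸ Ideal.span {t - 1}) ⟨_, h1⟩ := by
      change _ = qπ t ((decompose 𝒜 a n : R) ^ N * ((τ ^ (-n) : Rˣ) : R))
      rw [map_mul, qπ_zpow τ hτ, mul_one, map_pow]
    rw [h2]
    exact isIntegral_algebraMap
  have hmax : (𝔫.comap f).IsMaximal := Ideal.isMaximal_comap_of_isIntegral_of_isMaximal' f hint 𝔫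
  have heq : 𝔫.comap f = maximalIdeal (GrLC.deg0 𝒜) := IsLocalRing.eq_maximalIdeal hmax
  have hvm : v ∈ 𝔫.comap f := by
    rw [heq]
    exact hv
  exact hvm

/-- the image of `starMax` lies in every maximal ideal of `C`. -/
theorem Data.map_starMax_le (D : Data 𝒜 N t) (𝔫 : Ideal (R ⧸ Ideal.span {t - 1})) [h𝔫 : 𝔫.IsMaximal] :
    (starMax 𝒜).map (qπ t) ≤ 𝔫 := by
  rw [Ideal.map_le_iff_le_comap, starMax, Ideal.span_le]
  rintro a ⟨⟨n, ha⟩, hu⟩
  change qπ t a ∈ 𝔫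
  obtain ⟨τ, hτ⟩ := D.htu
  have hτmem : (τ : R) ∈ 𝒜 (N : ℤ) := by rw [hτ]; exact D.ht
  have h1 : a ^ N * ((τ ^ (-n) : Rˣ) : R) ∈ 𝒜 (N • n + -n * N) :=
    SetLike.mul_mem_graded (SetLike.pow_mem_graded N ha) (zpow_mem 𝒜 τ hτmem (-n))
  rw [show N • n + -n * (N : ℤ) = 0 by rw [nsmul_eq_mul]; ring] at h1
  have hnu : ¬ IsUnit (⟨_, h1⟩ : GrLC.deg0 𝒜) := by
    rw [isUnit_deg0_iff]
    intro h
    have h2 : IsUnit (a ^ N) := by
      have := h.mul (Units.isUnit (τ ^ n))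
      have heq : a ^ N * ((τ ^ (-n) : Rˣ) : R) * ((τ ^ n : Rˣ) : R) = a ^ N := by
        rw [mul_assoc, ← Units.val_mul, ← zpow_add, neg_add_cancel, zpow_zero, Units.val_one,
          mul_one]
      rwa [heq] at this
    exact hu ((isUnit_pow_iff D.hN.ne').mp h2)
  have h3 := D.map_deg0_mem 𝔫 ⟨_, h1⟩ hnu
  change qπ t (a ^ N * ((τ ^ (-n) : Rˣ) : R)) ∈ 𝔫 at h3
  rw [map_mul, qπ_zpow τ hτ, mul_one, map_pow] at h3
  exact h𝔫.isPrime.mem_of_pow_mem N h3

theorem Data.nontrivial_quot [Nontrivial R] (D : Data 𝒜 N t) :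
    Nontrivial (R ⧸ Ideal.span {t - 1}) := by
  rw [Ideal.Quotient.nontrivial_iff, Ne, Ideal.span_singleton_eq_top]
  exact not_isUnit_sub_one (by exact_mod_cast D.hN) D.ht D.htu

theorem Data.map_starMax_ne_top [Nontrivial R] (D : Data 𝒜 N t) :
    (starMax 𝒜).map (qπ t) ≠ ⊤ := by
  haveI := D.nontrivial_quot
  obtain ⟨𝔫, h𝔫⟩ := Ideal.exists_maximal (R ⧸ Ideal.span {t - 1})
  intro htop
  have := D.map_starMax_le 𝔫
  rw [htop] at this
  exact h𝔫.ne_top (top_le_iff.mp this)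

/-- every element of `C` lies in the image of `starMax` or is a unit. -/
theorem Data.mem_or_isUnit (D : Data 𝒜 N t) (c : R ⧸ Ideal.span {t - 1}) :
    c ∈ (starMax 𝒜).map (qπ t) ∨ IsUnit c := by
  obtain ⟨a, rfl⟩ := Ideal.Quotient.mk_surjective c
  obtain ⟨u, hu⟩ := D.exists_deg0 a
  by_cases huu : IsUnit u
  · right
    have h1 : IsUnit (qπ t (u : R)) := ((isUnit_deg0_iff u).mp huu).map (qπ t)
    by_contra hnu
    obtain ⟨𝔫, h𝔫, hmem⟩ := exists_max_ideal_of_mem_nonunits (show qπ t a ∈ nonunits _ from hnu)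
    have h2 := D.map_starMax_le 𝔫 hu
    have h3 : qπ t (u : R) ∈ 𝔫 := by
      have := 𝔫.sub_mem hmem h2
      rwa [sub_sub_cancel] at this
    exact h𝔫.ne_top (Ideal.eq_top_of_isUnit_mem _ h3 h1)
  · left
    have h1 : (u : R) ∈ starMax 𝒜 :=
      mem_starMax_of_mem u.2 (fun h => huu ((isUnit_deg0_iff u).mpr h))
    have h2 : qπ t (u : R) ∈ (starMax 𝒜).map (qπ t) := Ideal.mem_map_of_mem _ h1
    have := Ideal.add_mem _ hu h2
    rwa [sub_add_cancel] at this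

theorem Data.isLocalRing_quot [Nontrivial R] (D : Data 𝒜 N t) :
    IsLocalRing (R ⧸ Ideal.span {t - 1}) := by
  haveI := D.nontrivial_quot
  apply IsLocalRing.of_nonunits_add
  intro a b ha hb
  have ha' := (D.mem_or_isUnit a).resolve_right ha
  have hb' := (D.mem_or_isUnit b).resolve_right hb
  intro hu
  exact D.map_starMax_ne_top (Ideal.eq_top_of_isUnit_mem _ (Ideal.add_mem _ ha' hb') hu)

theorem Data.maximalIdeal_quot [Nontrivial R] (D : Data 𝒜 N t)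
    [IsLocalRing (R ⧸ Ideal.span {t - 1})] :
    maximalIdeal (R ⧸ Ideal.span {t - 1}) = (starMax 𝒜).map (qπ t) := by
  apply le_antisymm
  · intro c hc
    exact (D.mem_or_isUnit c).resolve_right hc
  · exact le_maximalIdeal D.map_starMax_ne_top

end quot

end Groth.Agent.Lib.Helper11.GrUnit
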