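import Groth.Agent.Lib.Helper11.GrUnitB
import Groth.Agent.Lib.Helper12.RegularQuot
import Groth.Agent.Lib.Helper18.SkLift

/-!
# `R/(t-1)` is a regular local ring (helper11)

`R` Noetherian ℤ-graded regular, `R₀` local, `t ∈ R_N` a unit with `N > 0` minimal.  Then
`C = R/(t-1)` is a regular local ring (`Data.isRegularLocalRing_quot`).
-/

set_option autoImplicit false
set_option linter.style.haveILetI false
set_option linter.unusedSectionVars false
universe u

open DirectSum IsLocalRing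

namespace Groth.Agent.Lib.Helper11.GrUnit

/-- a local ring is isomorphic to its localization at the maximal ideal. -/
theorem nonempty_ringEquiv_localization_of_eq_maximalIdeal {C : Type u} [CommRing C] [IsLocalRing C]
    (P : Ideal C) [P.IsPrime] (hP : P = maximalIdeal C) :
    Nonempty (C ≃+* Localization.AtPrime P) := by
  subst hP
  refine ⟨(IsLocalization.atUnits C (maximalIdeal C).primeCompl ?_ :
    C ≃ₐ[C] Localization.AtPrime (maximalIdeal C)).toRingEquiv⟩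
  intro x hx
  by_contra hnu
  exact hx hnu

variable {R : Type u} [CommRing R] {𝒜 : ℤ → AddSubgroup R} [GradedRing 𝒜] {N : ℕ} {t : R}

theorem sq_sup_le (I : Ideal R) (x : R) :
    (I ⊔ Ideal.span {x}) ^ 2 ≤ I ⊔ Ideal.span {x ^ 2} := by
  rw [pow_two, Ideal.mul_le]
  intro a ha b hb
  obtain ⟨i, hi, s, hs, rfl⟩ := Submodule.mem_sup.mp ha
  obtain ⟨i', hi', s', hs', rfl⟩ := Submodule.mem_sup.mp hb
  obtain ⟨w, rfl⟩ := Ideal.mem_span_singleton'.mp hs
  obtain ⟨w', rfl⟩ := Ideal.mem_span_singleton'.mp hs'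
  have : (i + w * x) * (i' + w' * x) = (i * (i' + w' * x) + w * x * i') + (w * w') * x ^ 2 := by
    ring
  rw [this]
  exact Ideal.add_mem _ (Ideal.mem_sup_left (I.add_mem (I.mul_mem_right _ hi)
    (I.mul_mem_left _ hi'))) (Ideal.mem_sup_right (Ideal.mul_mem_left _ _
    (Ideal.mem_span_singleton_self _)))

variable [IsLocalRing (GrLC.deg0 𝒜)]

theorem nontrivial_of_deg0 (𝒜 : ℤ → AddSubgroup R) [GradedRing 𝒜] [IsLocalRing (GrLC.deg0 𝒜)] :
    Nontrivial R := by
  obtain ⟨a, b, hab⟩ := exists_pair_ne (GrLC.deg0 𝒜)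
  exact ⟨⟨a, b, fun h => hab (Subtype.ext h)⟩⟩

theorem Data.comap_maximalIdeal_quot [Nontrivial R] (D : Data 𝒜 N t)
    [IsLocalRing (R ⧸ Ideal.span {t - 1})] :
    (maximalIdeal (R ⧸ Ideal.span {t - 1})).comap (qπ t) = starMax 𝒜 ⊔ Ideal.span {t - 1} := by
  rw [D.maximalIdeal_quot, Ideal.comap_map_of_surjective _ Ideal.Quotient.mk_surjective,
    ← RingHom.ker_eq_comap_bot, Ideal.mk_ker]

theorem Data.isRegularLocalRing_quot [IsNoetherianRing R] (D : Data 𝒜 N t)
    (hreg : ∀ (p : Ideal R) [p.IsPrime], IsRegularLocalRing (Localization.AtPrime p)) :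
    IsRegularLocalRing (R ⧸ Ideal.span {t - 1}) := by
  haveI : Nontrivial R := nontrivial_of_deg0 𝒜
  haveI hloc : IsLocalRing (R ⧸ Ideal.span {t - 1}) := D.isLocalRing_quot
  set 𝔑 : Ideal R := (maximalIdeal (R ⧸ Ideal.span {t - 1})).comap (qπ t) with h𝔑def
  have h𝔑 : 𝔑 = starMax 𝒜 ⊔ Ideal.span {t - 1} := D.comap_maximalIdeal_quot
  haveI h𝔑p : 𝔑.IsPrime := Ideal.comap_isPrime _ _
  have ht𝔑 : t - 1 ∈ 𝔑 := by
    rw [h𝔑]
    exact Ideal.mem_sup_right (Ideal.mem_span_singleton_self _)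
  haveI hL : IsRegularLocalRing (Localization.AtPrime 𝔑) := hreg 𝔑
  set x : Localization.AtPrime 𝔑 := algebraMap R (Localization.AtPrime 𝔑) (t - 1) with hx
  have hxm : x ∈ maximalIdeal (Localization.AtPrime 𝔑) :=
    (IsLocalization.AtPrime.to_map_mem_maximal_iff (Localization.AtPrime 𝔑) 𝔑 (t - 1)).mpr ht𝔑
  have hx2 : x ∉ maximalIdeal (Localization.AtPrime 𝔑) ^ 2 := by
    intro hmem
    rw [← Localization.AtPrime.map_eq_maximalIdeal, ← Ideal.map_pow,
      IsLocalization.mem_map_algebraMap_iff 𝔑.primeCompl] at hmem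
    obtain ⟨⟨⟨y, hy⟩, ⟨s, hs⟩⟩, h1⟩ := hmem
    simp only at h1
    rw [hx, ← map_mul, IsLocalization.eq_iff_exists 𝔑.primeCompl] at h1
    obtain ⟨⟨c, hc⟩, h2⟩ := h1
    simp only at h2
    have h3 : (t - 1) * (c * s) ∈ 𝔑 ^ 2 := by
      have : (t - 1) * (c * s) = c * y := by rw [← h2]; ring
      rw [this]
      exact Ideal.mul_mem_left _ _ hy
    have hcs : c * s ∉ 𝔑 := fun h => (h𝔑p.mem_or_mem h).elim hc hs
    rw [h𝔑] at h3
    have h4 := sq_sup_le (starMax 𝒜) (t - 1) h3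
    obtain ⟨μ, hμ, z, hz, h5⟩ := Submodule.mem_sup.mp h4
    obtain ⟨w, rfl⟩ := Ideal.mem_span_singleton'.mp hz
    have h6 : (t - 1) * (c * s - w * (t - 1)) ∈ starMax 𝒜 := by
      have : (t - 1) * (c * s - w * (t - 1)) = μ := by
        have h7 : μ = (t - 1) * (c * s) - w * (t - 1) ^ 2 := by rw [← h5]; ring
        rw [h7]; ring
      rw [this]
      exact hμ
    have h7 := mem_of_sub_one_mul_mem (starMax 𝒜) (starMax_isHomogeneous 𝒜)
      (by exact_mod_cast D.hN : (0 : ℤ) < N) D.ht h6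
    apply hcs
    rw [h𝔑]
    have : c * s = (c * s - w * (t - 1)) + w * (t - 1) := by ring
    rw [this]
    exact Ideal.add_mem _ (Ideal.mem_sup_left h7)
      (Ideal.mem_sup_right (Ideal.mul_mem_left _ _ (Ideal.mem_span_singleton_self _)))
  have hRL : IsRegularLocalRing (Localization.AtPrime 𝔑 ⧸ Ideal.span {x}) :=
    Groth.Agent.Lib.Helper12.isRegularLocalRing_quotient_singleton hxm hx2
  haveI hp' : (𝔑.map (Ideal.Quotient.mk (Ideal.span {t - 1}))).IsPrime :=
    Groth.Agent.Lib.Helper18.SkLift.isPrime_map_mk (t - 1) 𝔑 ht𝔑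
  obtain ⟨e₁⟩ := Groth.Agent.Lib.Helper18.SkLift.nonempty_ringEquiv_quotient_localization
    (t - 1) 𝔑 ht𝔑
  have hmap : 𝔑.map (Ideal.Quotient.mk (Ideal.span {t - 1})) =
      maximalIdeal (R ⧸ Ideal.span {t - 1}) := by
    rw [h𝔑def]
    exact Ideal.map_comap_of_surjective _ Ideal.Quotient.mk_surjective _
  obtain ⟨e₂⟩ := nonempty_ringEquiv_localization_of_eq_maximalIdeal
    (𝔑.map (Ideal.Quotient.mk (Ideal.span {t - 1}))) hmap
  exact IsRegularLocalRing.of_ringEquiv (e₂.trans e₁).symm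

end Groth.Agent.Lib.Helper11.GrUnit
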