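import Groth.Agent.Lib.Helper11.GrUnitC
import Groth.Agent.Lib.Helper16.RegularRingFacts
import Groth.Agent.Lib.Helper25.RegularSmooth

/-!
# `R[U]/(U^N - t) ≅ (R/(t-1))[T,T⁻¹]` for a ℤ-graded ring with a homogeneous unit `t` (helper11)

* `coact 𝒜 : R →+* R[T;T⁻¹]`, `a ↦ Σ aₙ Tⁿ` (the coaction of `𝔾ₘ` given by the grading).
* `adjoinRootEquiv` : `AdjoinRoot (X^N - C t) ≃+* (R ⧸ (t-1))[T;T⁻¹]`.
* `isRegularRing_laurent`.
-/

set_option autoImplicit false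
set_option linter.style.haveILetI false
set_option linter.unusedSectionVars false
universe u

open DirectSum LaurentPolynomial

namespace Groth.Agent.Lib.Helper11.GrUnit

variable {R : Type u} [CommRing R] (𝒜 : ℤ → AddSubgroup R) [GradedRing 𝒜]

/-- the coaction `R → R[T,T⁻¹]`, `a ↦ Σ aₙ Tⁿ`. -/
noncomputable def coact : R →+* R[T;T⁻¹] :=
  (DirectSum.toSemiring (A := fun n => 𝒜 n)
    (fun n => (AddMonoidAlgebra.singleAddHom n).comp (𝒜 n).subtype)
    (by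
      change AddMonoidAlgebra.single (0 : ℤ) ((1 : R)) = 1
      rfl)
    (by
      intro i j ai aj
      change AddMonoidAlgebra.single (i + j) ((ai : R) * (aj : R)) =
        AddMonoidAlgebra.single i (ai : R) * AddMonoidAlgebra.single j (aj : R)
      rw [AddMonoidAlgebra.single_mul_single])).comp
  (DirectSum.decomposeRingEquiv 𝒜).toRingHom

theorem coact_of_mem {a : R} {n : ℤ} (ha : a ∈ 𝒜 n) : coact 𝒜 a = C a * T n := by
  rw [← single_eq_C_mul_T]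
  unfold coact
  rw [RingHom.comp_apply]
  have : (DirectSum.decomposeRingEquiv 𝒜).toRingHom a =
      DirectSum.of (fun n => 𝒜 n) n ⟨a, ha⟩ := DirectSum.decompose_of_mem 𝒜 ha
  rw [this, DirectSum.toSemiring_of]
  rfl

variable {𝒜} in
/-- ring homs out of a graded ring agreeing on homogeneous elements are equal. -/
theorem ringHom_ext_homogeneous {S : Type*} [Semiring S] {g₁ g₂ : R →+* S}
    (h : ∀ (n : ℤ) (a : R), a ∈ 𝒜 n → g₁ a = g₂ a) : g₁ = g₂ := by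
  ext a
  induction a using DirectSum.Decomposition.inductionOn 𝒜 with
  | zero => simp
  | @homogeneous n a => exact h n a a.2
  | add a b ha hb => rw [map_add, map_add, ha, hb]

/-- `T` as a unit of the Laurent polynomial ring. -/
noncomputable def Tu (S : Type*) [CommRing S] : (S[T;T⁻¹])ˣ :=
  ⟨T 1, T (-1), by rw [← T_add]; simp, by rw [← T_add]; simp⟩

theorem Tu_zpow (S : Type*) [CommRing S] (k : ℤ) : ((Tu S ^ k : (S[T;T⁻¹])ˣ) : S[T;T⁻¹]) = T k := by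
  induction k using Int.induction_on with
  | zero => simp
  | succ k ih =>
    rw [zpow_add_one, Units.val_mul, ih, T_add]
    rfl
  | pred k ih =>
    rw [zpow_sub_one, Units.val_mul, ih, T_sub]
    rfl

section iso

open Polynomial in
/-- the Kummer polynomial `X^N - t`. -/
noncomputable abbrev kp (N : ℕ) (t : R) : Polynomial R := Polynomial.X ^ N - Polynomial.C t

variable {N : ℕ} {t : R}

theorem root_pow : (AdjoinRoot.root (kp N t)) ^ N = AdjoinRoot.of (kp N t) t := by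
  have h := AdjoinRoot.eval₂_root (kp N t)
  rw [Polynomial.eval₂_sub, Polynomial.eval₂_pow, Polynomial.eval₂_X, Polynomial.eval₂_C,
    sub_eq_zero] at h
  exact h

/-- the root `U` as a unit of `R[U]/(U^N - t)`. -/
noncomputable def rootUnit (hN : 0 < N) (τ : Rˣ) (hτ : (τ : R) = t) : (AdjoinRoot (kp N t))ˣ :=
  ⟨AdjoinRoot.root (kp N t),
    (AdjoinRoot.root (kp N t)) ^ (N - 1) * AdjoinRoot.of (kp N t) ((τ⁻¹ : Rˣ) : R),
    by
      rw [← mul_assoc, ← pow_succ', Nat.sub_add_cancel hN, root_pow, ← map_mul, ← hτ, Units.mul_inv,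
        map_one],
    by
      rw [mul_comm, ← mul_assoc, ← pow_succ', Nat.sub_add_cancel hN, root_pow, ← map_mul, ← hτ,
        Units.mul_inv, map_one]⟩

variable (hN : 0 < N) (τ : Rˣ) (hτ : (τ : R) = t)

theorem rootUnit_val : ((rootUnit hN τ hτ : (AdjoinRoot (kp N t))ˣ) : AdjoinRoot (kp N t)) =
    AdjoinRoot.root (kp N t) := rfl

theorem rootUnit_pow : ((rootUnit hN τ hτ ^ (N : ℤ) : (AdjoinRoot (kp N t))ˣ) :
    AdjoinRoot (kp N t)) = AdjoinRoot.of (kp N t) t := by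
  rw [zpow_natCast, Units.val_pow_eq_pow_val, rootUnit_val, root_pow]

/-- `R → R[U]/(U^N - t)`, `a ↦ a U^{-deg a}`. -/
noncomputable def twist : R →+* AdjoinRoot (kp N t) :=
  (LaurentPolynomial.eval₂ (AdjoinRoot.of (kp N t)) (rootUnit hN τ hτ)⁻¹).comp (coact 𝒜)

theorem twist_of_mem {a : R} {n : ℤ} (ha : a ∈ 𝒜 n) :
    twist 𝒜 hN τ hτ a = AdjoinRoot.of (kp N t) a *
      ((rootUnit hN τ hτ ^ (-n) : (AdjoinRoot (kp N t))ˣ) : AdjoinRoot (kp N t)) := by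
  unfold twist
  rw [RingHom.comp_apply, coact_of_mem 𝒜 ha, eval₂_C_mul_T, inv_zpow, zpow_neg]

theorem twist_t (ht : t ∈ 𝒜 (N : ℤ)) : twist 𝒜 hN τ hτ t = 1 := by
  rw [twist_of_mem 𝒜 hN τ hτ ht, ← rootUnit_pow hN τ hτ, ← Units.val_mul, ← zpow_add,
    add_neg_cancel, zpow_zero, Units.val_one]

/-- `R/(t-1) → R[U]/(U^N - t)`. -/
noncomputable def psi0 (ht : t ∈ 𝒜 (N : ℤ)) : (R ⧸ Ideal.span {t - 1}) →+* AdjoinRoot (kp N t) :=
  Ideal.Quotient.lift (Ideal.span {t - 1}) (twist 𝒜 hN τ hτ) (by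
    intro a ha
    obtain ⟨b, rfl⟩ := Ideal.mem_span_singleton'.mp ha
    rw [map_mul, map_sub, twist_t 𝒜 hN τ hτ ht, map_one, sub_self, mul_zero])

theorem psi0_mk (ht : t ∈ 𝒜 (N : ℤ)) (a : R) :
    psi0 𝒜 hN τ hτ ht (Ideal.Quotient.mk _ a) = twist 𝒜 hN τ hτ a := by
  simp [psi0]

/-- `(R/(t-1))[T,T⁻¹] → R[U]/(U^N - t)`. -/
noncomputable def Psi (ht : t ∈ 𝒜 (N : ℤ)) :
    (R ⧸ Ideal.span {t - 1})[T;T⁻¹] →+* AdjoinRoot (kp N t) :=
  LaurentPolynomial.eval₂ (psi0 𝒜 hN τ hτ ht) (rootUnit hN τ hτ)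

/-- `R → (R/(t-1))[T,T⁻¹]`. -/
noncomputable def fmap (t : R) : R →+* (R ⧸ Ideal.span {t - 1})[T;T⁻¹] :=
  (AddMonoidAlgebra.mapRingHom ℤ (qπ t)).comp (coact 𝒜)

theorem fmap_of_mem {a : R} {n : ℤ} (ha : a ∈ 𝒜 n) :
    fmap 𝒜 t a = C (qπ t a) * T n := by
  unfold fmap
  rw [RingHom.comp_apply, coact_of_mem 𝒜 ha, ← single_eq_C_mul_T, ← single_eq_C_mul_T,
    AddMonoidAlgebra.mapRingHom_single]

/-- `R[U]/(U^N - t) → (R/(t-1))[T,T⁻¹]`. -/
noncomputable def Phi (ht : t ∈ 𝒜 (N : ℤ)) :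
    AdjoinRoot (kp N t) →+* (R ⧸ Ideal.span {t - 1})[T;T⁻¹] :=
  AdjoinRoot.lift (fmap 𝒜 t) (T 1) (by
    rw [Polynomial.eval₂_sub, Polynomial.eval₂_pow, Polynomial.eval₂_X, Polynomial.eval₂_C,
      fmap_of_mem 𝒜 ht, qπ_t, map_one, one_mul, T_pow, mul_one, sub_self])

theorem Phi_of (ht : t ∈ 𝒜 (N : ℤ)) (a : R) :
    Phi 𝒜 ht (AdjoinRoot.of (kp N t) a) = fmap 𝒜 t a := by
  simp [Phi]

theorem Phi_root (ht : t ∈ 𝒜 (N : ℤ)) :
    Phi 𝒜 ht (AdjoinRoot.root (kp N t)) = T 1 := by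
  simp [Phi]

theorem Phi_rootUnit_zpow (ht : t ∈ 𝒜 (N : ℤ)) (k : ℤ) :
    Phi 𝒜 ht ((rootUnit hN τ hτ ^ k : (AdjoinRoot (kp N t))ˣ) : AdjoinRoot (kp N t)) = T k := by
  have h1 : Units.map (Phi 𝒜 ht).toMonoidHom (rootUnit hN τ hτ) = Tu _ := by
    apply Units.ext
    rw [Units.coe_map]
    change Phi 𝒜 ht (AdjoinRoot.root (kp N t)) = T 1
    exact Phi_root 𝒜 ht
  have h2 : Units.map (Phi 𝒜 ht).toMonoidHom (rootUnit hN τ hτ ^ k) = Tu _ ^ k := by
    rw [map_zpow, h1]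
  have h3 := congrArg Units.val h2
  rw [Units.coe_map, Tu_zpow] at h3
  exact h3

theorem Phi_comp_Psi (ht : t ∈ 𝒜 (N : ℤ)) :
    (Phi 𝒜 ht).comp (Psi 𝒜 hN τ hτ ht) = RingHom.id _ := by
  apply AddMonoidAlgebra.ringHom_ext
  · intro c
    change Phi 𝒜 ht (Psi 𝒜 hN τ hτ ht (C c)) = C c
    unfold Psi
    rw [eval₂_C]
    -- reduce to homogeneous representatives
    have key : ((Phi 𝒜 ht).comp ((psi0 𝒜 hN τ hτ ht).comp (qπ t))) =
        (C : (R ⧸ Ideal.span {t - 1}) →+* _).comp (qπ t) := by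
      apply ringHom_ext_homogeneous (𝒜 := 𝒜)
      intro n a ha
      simp only [RingHom.comp_apply]
      rw [psi0_mk, twist_of_mem 𝒜 hN τ hτ ha, map_mul, Phi_of, fmap_of_mem 𝒜 ha,
        Phi_rootUnit_zpow, mul_assoc, ← T_add, add_neg_cancel, T_zero, mul_one]
    obtain ⟨a, rfl⟩ := Ideal.Quotient.mk_surjective c
    exact RingHom.congr_fun key a
  · intro m
    change Phi 𝒜 ht (Psi 𝒜 hN τ hτ ht (T m)) = T m
    unfold Psi
    rw [eval₂_T, Phi_rootUnit_zpow]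

theorem Psi_comp_Phi (ht : t ∈ 𝒜 (N : ℤ)) :
    (Psi 𝒜 hN τ hτ ht).comp (Phi 𝒜 ht) = RingHom.id _ := by
  have h1 : ((Psi 𝒜 hN τ hτ ht).comp (Phi 𝒜 ht)).comp (AdjoinRoot.mk (kp N t)) =
      (RingHom.id _).comp (AdjoinRoot.mk (kp N t)) := by
    apply Polynomial.ringHom_ext
    · intro a
      simp only [RingHom.comp_apply, RingHom.id_apply]
      rw [AdjoinRoot.mk_C]
      have key : ((Psi 𝒜 hN τ hτ ht).comp (Phi 𝒜 ht)).comp (AdjoinRoot.of (kp N t)) =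
          AdjoinRoot.of (kp N t) := by
        apply ringHom_ext_homogeneous (𝒜 := 𝒜)
        intro n a ha
        simp only [RingHom.comp_apply]
        rw [Phi_of, fmap_of_mem 𝒜 ha]
        unfold Psi
        rw [eval₂_C_mul_T, psi0_mk, twist_of_mem 𝒜 hN τ hτ ha, mul_assoc, ← Units.val_mul,
          ← zpow_add, neg_add_cancel, zpow_zero, Units.val_one, mul_one]
      exact RingHom.congr_fun key a
    · simp only [RingHom.comp_apply, RingHom.id_apply]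
      rw [AdjoinRoot.mk_X, Phi_root]
      unfold Psi
      rw [eval₂_T, zpow_one, rootUnit_val]
  apply RingHom.ext
  intro x
  obtain ⟨p, rfl⟩ := AdjoinRoot.mk_surjective x
  exact RingHom.congr_fun h1 p

/-- `R[U]/(U^N - t) ≅ (R/(t-1))[T,T⁻¹]`. -/
noncomputable def adjoinRootEquiv (ht : t ∈ 𝒜 (N : ℤ)) :
    AdjoinRoot (kp N t) ≃+* (R ⧸ Ideal.span {t - 1})[T;T⁻¹] :=
  RingEquiv.ofRingHom (Phi 𝒜 ht) (Psi 𝒜 hN τ hτ ht) (Phi_comp_Psi 𝒜 hN τ hτ ht)
    (Psi_comp_Phi 𝒜 hN τ hτ ht)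

end iso

/-- Laurent polynomials over a regular ring form a regular ring. -/
theorem isRegularRing_laurent (S : Type u) [CommRing S] [IsRegularRing S] :
    IsRegularRing S[T;T⁻¹] := by
  haveI : IsRegularRing (Localization (Submonoid.powers (Polynomial.X : Polynomial S))) :=
    Groth.Agent.Lib.Helper16.PDR.isRegularRing_localization _ _
  exact IsRegularRing.of_ringEquiv (IsLocalization.algEquiv
    (Submonoid.powers (Polynomial.X : Polynomial S))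
    (Localization (Submonoid.powers (Polynomial.X : Polynomial S))) S[T;T⁻¹]).toRingEquiv

end Groth.Agent.Lib.Helper11.GrUnit
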