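import Groth.Agent.Lib.Helper11.GrShiftA

/-!
# Veronese-type pairs `(N, N', g)` along `φ : R' → R`, `ψ : ι' → ι`: projection, retraction,
induced maps and exactness
-/

set_option autoImplicit false
set_option linter.unusedSectionVars false
set_option linter.unusedVariables false
set_option linter.style.haveILetI false
universe u

namespace Groth.Agent.Lib.Helper11.GrVer

open DirectSum GrLC Groth.Agent.Lib.Helper11.GrLCLib Groth.Agent.Lib.Helper11.GrLes

section Proj

variable {ι : Type} [DecidableEq ι]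
variable {N : Type u} [AddCommGroup N] (𝒩 : ι → AddSubgroup N) [DirectSum.Decomposition 𝒩]
variable (S : Set ι)

open Classical in
/-- The projection onto the components with degrees in `S`. -/
noncomputable def vproj : N →+ N :=
  (DirectSum.toAddMonoid (fun i : ι => if i ∈ S then (𝒩 i).subtype else 0)).comp
    (DirectSum.decomposeAddEquiv 𝒩).toAddMonoidHom

open Classical in
lemma vproj_of_mem {i : ι} {x : N} (hx : x ∈ 𝒩 i) :
    vproj 𝒩 S x = if i ∈ S then x else 0 := by
  unfold vproj
  rw [AddMonoidHom.comp_apply]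
  change DirectSum.toAddMonoid _ (decompose 𝒩 x) = _
  rw [decompose_of_mem 𝒩 hx, DirectSum.toAddMonoid_of]
  split_ifs <;> rfl

lemma vproj_of_mem_pos {i : ι} {x : N} (hx : x ∈ 𝒩 i) (hi : i ∈ S) : vproj 𝒩 S x = x := by
  classical
  rw [vproj_of_mem 𝒩 S hx, if_pos hi]

lemma vproj_of_mem_neg {i : ι} {x : N} (hx : x ∈ 𝒩 i) (hi : i ∉ S) : vproj 𝒩 S x = 0 := by
  classical
  rw [vproj_of_mem 𝒩 S hx, if_neg hi]

lemma addHom_ext_homogeneous {P : Type*} [AddCommGroup P] {f f' : N →+ P}
    (h : ∀ i, ∀ x ∈ 𝒩 i, f x = f' x) : f = f' := by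
  ext x
  induction x using DirectSum.Decomposition.inductionOn 𝒩 with
  | zero => rw [map_zero, map_zero]
  | homogeneous x => exact h _ _ x.2
  | add x y hx hy => rw [map_add, map_add, hx, hy]

lemma vproj_idem (x : N) : vproj 𝒩 S (vproj 𝒩 S x) = vproj 𝒩 S x := by
  classical
  have : (vproj 𝒩 S).comp (vproj 𝒩 S) = vproj 𝒩 S := by
    apply addHom_ext_homogeneous 𝒩
    intro i x hx
    rw [AddMonoidHom.comp_apply, vproj_of_mem 𝒩 S hx]
    split_ifs with h
    · rw [vproj_of_mem 𝒩 S hx, if_pos h]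
    · rw [map_zero]
  exact DFunLike.congr_fun this x

open Classical in
lemma decompose_vproj (x : N) (i : ι) :
    (decompose 𝒩 (vproj 𝒩 S x) i : N) = if i ∈ S then (decompose 𝒩 x i : N) else 0 := by
  induction x using DirectSum.Decomposition.inductionOn 𝒩 with
  | zero => simp
  | @homogeneous k x =>
    rw [vproj_of_mem 𝒩 S x.2]
    by_cases hk : k ∈ S
    · rw [if_pos hk]
      by_cases hki : i = k
      · subst hki
        rw [if_pos hk]
      · rw [decompose_of_mem_ne 𝒩 x.2 (Ne.symm hki)]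
        split_ifs <;> rfl
    · rw [if_neg hk, decompose_zero, DirectSum.zero_apply, ZeroMemClass.coe_zero]
      by_cases hki : i = k
      · subst hki
        rw [if_neg hk]
      · rw [decompose_of_mem_ne 𝒩 x.2 (Ne.symm hki)]
        split_ifs <;> rfl
  | add x y hx hy =>
    rw [map_add, decompose_add, DirectSum.add_apply, AddSubgroup.coe_add, hx, hy,
      decompose_add, DirectSum.add_apply, AddSubgroup.coe_add]
    split_ifs
    · rfl
    · rw [add_zero]

/-- `vproj x = x` iff all components outside `S` vanish. -/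
lemma vproj_eq_self_iff (x : N) :
    vproj 𝒩 S x = x ↔ ∀ i, i ∉ S → (decompose 𝒩 x i : N) = 0 := by
  classical
  constructor
  · intro h i hi
    rw [← h, decompose_vproj, if_neg hi]
  · intro h
    have : decompose 𝒩 (vproj 𝒩 S x) = decompose 𝒩 x := by
      ext i
      rw [decompose_vproj]
      split_ifs with hi
      · rfl
      · exact (h i hi).symm
    exact (decompose 𝒩).injective this

end Proj

section ProjMod

variable {ι : Type} [DecidableEq ι] [AddCommGroup ι]
variable {R : Type u} [CommRing R] (𝒜 : ι → AddSubgroup R) [GradedRing 𝒜]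
variable {N : Type u} [AddCommGroup N] [Module R N] (𝒩 : ι → AddSubgroup N)
  [DirectSum.Decomposition 𝒩] [SetLike.GradedSMul 𝒜 𝒩]
variable {A : Type u} [AddCommGroup A] [Module R A] (𝒳 : ι → AddSubgroup A)
  [DirectSum.Decomposition 𝒳] [SetLike.GradedSMul 𝒜 𝒳]
variable (S : Set ι)

lemma vproj_map {f : N →ₗ[R] A} (hf : IsGrHom 𝒩 𝒳 f) (x : N) :
    vproj 𝒳 S (f x) = f (vproj 𝒩 S x) := by
  classical
  have : (vproj 𝒳 S).comp f.toAddMonoidHom = f.toAddMonoidHom.comp (vproj 𝒩 S) := by
    apply addHom_ext_homogeneous 𝒩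
    intro i x hx
    rw [AddMonoidHom.comp_apply, AddMonoidHom.comp_apply, vproj_of_mem 𝒩 S hx]
    change vproj 𝒳 S (f x) = f _
    rw [vproj_of_mem 𝒳 S (hf i x hx)]
    split_ifs
    · rfl
    · rw [map_zero]
  exact DFunLike.congr_fun this x

lemma vproj_smul_of_mem {s : ι} (hS : ∀ i, s + i ∈ S ↔ i ∈ S) {r : R} (hr : r ∈ 𝒜 s) (x : N) :
    vproj 𝒩 S (r • x) = r • vproj 𝒩 S x := by
  classical
  have : (vproj 𝒩 S).comp (DistribSMul.toAddMonoidHom N r) =
      (DistribSMul.toAddMonoidHom N r).comp (vproj 𝒩 S) := by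
    apply addHom_ext_homogeneous 𝒩
    intro i x hx
    rw [AddMonoidHom.comp_apply, AddMonoidHom.comp_apply, vproj_of_mem 𝒩 S hx]
    change vproj 𝒩 S (r • x) = r • _
    have h1 : r • x ∈ 𝒩 (s + i) := by
      have := SetLike.GradedSMul.smul_mem (A := 𝒜) (B := 𝒩) hr hx
      rwa [vadd_eq_add] at this
    rw [vproj_of_mem 𝒩 S h1]
    by_cases hi : i ∈ S
    · rw [if_pos hi, if_pos ((hS i).mpr hi)]
    · rw [if_neg hi, if_neg (fun h => hi ((hS i).mp h)), smul_zero]
  exact DFunLike.congr_fun this x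

end ProjMod

end Groth.Agent.Lib.Helper11.GrVer
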