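import Groth.Agent.Lib.Helper11.GrVerA

/-!
# Veronese-type pairs: retraction, induced maps, exactness
-/

set_option autoImplicit false
set_option linter.unusedSectionVars false
set_option linter.unusedVariables false
set_option linter.style.haveILetI false
universe u

namespace Groth.Agent.Lib.Helper11.GrVer

open DirectSum GrLC Groth.Agent.Lib.Helper11.GrLCLib Groth.Agent.Lib.Helper11.GrLes

variable {ι ι' : Type} [DecidableEq ι] [AddCommGroup ι] [DecidableEq ι'] [AddCommGroup ι']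
variable {R : Type u} [CommRing R] (𝒜 : ι → AddSubgroup R) [GradedRing 𝒜]
variable {R' : Type u} [CommRing R'] (𝒜' : ι' → AddSubgroup R') [GradedRing 𝒜']
variable (φ : R' →+* R) (ψ : ι' →+ ι)

/-- `R'` (graded by `ι'`) is the Veronese-type subring of `R` along `ψ`. -/
structure IsVerRing : Prop where
  inj : Function.Injective φ
  ψinj : Function.Injective ψ
  deg : ∀ j, (𝒜' j).map (φ : R' →+ R) = 𝒜 (ψ j)

variable {N : Type u} [AddCommGroup N] [Module R N] (𝒩 : ι → AddSubgroup N)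
  [DirectSum.Decomposition 𝒩] [SetLike.GradedSMul 𝒜 𝒩]
variable {N' : Type u} [AddCommGroup N'] [Module R' N'] (𝒩' : ι' → AddSubgroup N')
  [DirectSum.Decomposition 𝒩'] [SetLike.GradedSMul 𝒜' 𝒩']

/-- `N'` (graded by `ι'`) is the Veronese-type submodule of `N` along `ψ`. -/
structure IsVer (g : N' →ₛₗ[φ] N) : Prop where
  inj : Function.Injective g
  deg : ∀ j, (𝒩' j).map (g : N' →+ N) = 𝒩 (ψ j)

variable {𝒜 𝒜' φ ψ 𝒩 𝒩'}

lemma IsVerRing.map_mem (hR : IsVerRing 𝒜 𝒜' φ ψ) {j : ι'} {r : R'} (hr : r ∈ 𝒜' j) :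
    φ r ∈ 𝒜 (ψ j) := by
  rw [← hR.deg j]; exact ⟨r, hr, rfl⟩

lemma range_add_iff (ψ : ι' →+ ι) (j : ι') (i : ι) :
    ψ j + i ∈ Set.range ψ ↔ i ∈ Set.range ψ := by
  constructor
  · rintro ⟨k, hk⟩
    refine ⟨k - j, ?_⟩
    rw [map_sub, hk]; abel
  · rintro ⟨k, rfl⟩
    exact ⟨j + k, map_add _ _ _⟩

lemma IsVerRing.vproj_smul_map (hR : IsVerRing 𝒜 𝒜' φ ψ) (r : R') (y : N) :
    vproj 𝒩 (Set.range ψ) (φ r • y) = φ r • vproj 𝒩 (Set.range ψ) y := by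
  induction r using DirectSum.Decomposition.inductionOn 𝒜' with
  | zero => simp
  | @homogeneous j r =>
    exact vproj_smul_of_mem 𝒜 𝒩 _ (range_add_iff ψ j) (hR.map_mem r.2) y
  | add r s hr hs => rw [map_add, add_smul, map_add, hr, hs, add_smul]

namespace IsVer

variable {g : N' →ₛₗ[φ] N} (hV : IsVer φ ψ 𝒩 𝒩' g)
include hV

lemma map_mem {j : ι'} {x : N'} (hx : x ∈ 𝒩' j) : g x ∈ 𝒩 (ψ j) := by
  rw [← hV.deg j]; exact ⟨x, hx, rfl⟩

lemma exists_of_mem {j : ι'} {y : N} (hy : y ∈ 𝒩 (ψ j)) : ∃ x ∈ 𝒩' j, g x = y := by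
  rw [← hV.deg j] at hy
  obtain ⟨x, hx, rfl⟩ := hy
  exact ⟨x, hx, rfl⟩

lemma vproj_g (x : N') : vproj 𝒩 (Set.range ψ) (g x) = g x := by
  induction x using DirectSum.Decomposition.inductionOn 𝒩' with
  | zero => simp
  | @homogeneous j x => exact vproj_of_mem_pos 𝒩 _ (hV.map_mem x.2) ⟨j, rfl⟩
  | add x y hx hy => rw [map_add, map_add, hx, hy]

lemma exists_eq_vproj (y : N) : ∃ x : N', g x = vproj 𝒩 (Set.range ψ) y := by
  induction y using DirectSum.Decomposition.inductionOn 𝒩 with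
  | zero => exact ⟨0, by simp⟩
  | @homogeneous i y =>
    by_cases hi : i ∈ Set.range ψ
    · obtain ⟨j, rfl⟩ := hi
      obtain ⟨x, hx, hxy⟩ := hV.exists_of_mem y.2
      have hj : ψ j ∈ Set.range ψ := ⟨j, rfl⟩
      exact ⟨x, by rw [hxy, vproj_of_mem_pos 𝒩 _ y.2 hj]⟩
    · exact ⟨0, by rw [map_zero, vproj_of_mem_neg 𝒩 _ y.2 hi]⟩
  | add y z hy hz =>
    obtain ⟨x₁, h₁⟩ := hy
    obtain ⟨x₂, h₂⟩ := hz
    exact ⟨x₁ + x₂, by rw [map_add, map_add, h₁, h₂]⟩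

/-- The retraction `N → N'` (projection onto the degrees in the range of `ψ`). -/
noncomputable def retr : N →+ N' where
  toFun y := (hV.exists_eq_vproj y).choose
  map_zero' := hV.inj ((hV.exists_eq_vproj 0).choose_spec.trans
    ((map_zero _).trans (map_zero g).symm))
  map_add' y z := hV.inj (by
    have h := (hV.exists_eq_vproj (y + z)).choose_spec
    have h1 := (hV.exists_eq_vproj y).choose_spec
    have h2 := (hV.exists_eq_vproj z).choose_spec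
    refine h.trans ?_
    rw [map_add g, h1, h2, map_add])

lemma g_retr (y : N) : g (hV.retr y) = vproj 𝒩 (Set.range ψ) y :=
  (hV.exists_eq_vproj y).choose_spec

lemma retr_g (x : N') : hV.retr (g x) = x :=
  hV.inj (by rw [hV.g_retr, hV.vproj_g])

lemma retr_smul (hR : IsVerRing 𝒜 𝒜' φ ψ) (r : R') (y : N) :
    hV.retr (φ r • y) = r • hV.retr y :=
  hV.inj (by rw [hV.g_retr, hR.vproj_smul_map, map_smulₛₗ, hV.g_retr])

lemma decompose_g (hψ : Function.Injective ψ) (x : N') (j : ι') :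
    (decompose 𝒩 (g x) (ψ j) : N) = g (decompose 𝒩' x j : N') := by
  induction x using DirectSum.Decomposition.inductionOn 𝒩' with
  | zero => simp
  | @homogeneous k x =>
    by_cases hkj : k = j
    · subst hkj
      rw [decompose_of_mem_same 𝒩 (hV.map_mem x.2), decompose_of_mem_same 𝒩' x.2]
    · have hne : ψ k ≠ ψ j := fun e => hkj (hψ e)
      rw [decompose_of_mem_ne 𝒩 (hV.map_mem x.2) hne, decompose_of_mem_ne 𝒩' x.2 hkj, map_zero]
  | add x y hx hy =>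
    rw [map_add, decompose_add, DirectSum.add_apply, AddSubgroup.coe_add, hx, hy, decompose_add,
      DirectSum.add_apply, AddSubgroup.coe_add, map_add]

lemma mem_of_map_mem (hψ : Function.Injective ψ) {x : N'} {j : ι'} (hx : g x ∈ 𝒩 (ψ j)) :
    x ∈ 𝒩' j := by
  have h1 := hV.decompose_g hψ x j
  rw [decompose_of_mem_same 𝒩 hx] at h1
  have h2 : x = (decompose 𝒩' x j : N') := hV.inj h1
  rw [h2]
  exact SetLike.coe_mem _

end IsVer

section Maps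

variable {A : Type u} [AddCommGroup A] [Module R A] {𝒳 : ι → AddSubgroup A}
  [DirectSum.Decomposition 𝒳] [SetLike.GradedSMul 𝒜 𝒳]
variable {A' : Type u} [AddCommGroup A'] [Module R' A'] {𝒳' : ι' → AddSubgroup A'}
  [DirectSum.Decomposition 𝒳'] [SetLike.GradedSMul 𝒜' 𝒳']
variable {Z : Type u} [AddCommGroup Z] [Module R Z] {𝒵 : ι → AddSubgroup Z}
  [DirectSum.Decomposition 𝒵] [SetLike.GradedSMul 𝒜 𝒵]
variable {Z' : Type u} [AddCommGroup Z'] [Module R' Z'] {𝒵' : ι' → AddSubgroup Z'}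
  [DirectSum.Decomposition 𝒵'] [SetLike.GradedSMul 𝒜' 𝒵']
variable {gN : N' →ₛₗ[φ] N} {gA : A' →ₛₗ[φ] A} {gZ : Z' →ₛₗ[φ] Z}

/-- the map induced on Veronese-type submodules by a homogeneous map. -/
noncomputable def verMap (hR : IsVerRing 𝒜 𝒜' φ ψ) (hVA : IsVer φ ψ 𝒳 𝒳' gA) (gN : N' →ₛₗ[φ] N)
    (f : N →ₗ[R] A) : N' →ₗ[R'] A' where
  toFun x := hVA.retr (f (gN x))
  map_add' x y := by rw [map_add, map_add, map_add]
  map_smul' r x := by
    rw [map_smulₛₗ, map_smul, hVA.retr_smul hR]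
    rfl

lemma verMap_apply (hR : IsVerRing 𝒜 𝒜' φ ψ) (hVA : IsVer φ ψ 𝒳 𝒳' gA) (gN : N' →ₛₗ[φ] N)
    (f : N →ₗ[R] A) (x : N') : verMap hR hVA gN f x = hVA.retr (f (gN x)) := rfl

lemma g_verMap (hR : IsVerRing 𝒜 𝒜' φ ψ) (hVN : IsVer φ ψ 𝒩 𝒩' gN) (hVA : IsVer φ ψ 𝒳 𝒳' gA)
    {f : N →ₗ[R] A} (hf : IsGrHom 𝒩 𝒳 f) (x : N') : gA (verMap hR hVA gN f x) = f (gN x) := by
  rw [verMap_apply, hVA.g_retr, vproj_map 𝒩 𝒳 _ hf, hVN.vproj_g]

lemma verMap_isGrHom (hR : IsVerRing 𝒜 𝒜' φ ψ) (hVN : IsVer φ ψ 𝒩 𝒩' gN)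
    (hVA : IsVer φ ψ 𝒳 𝒳' gA) {f : N →ₗ[R] A} (hf : IsGrHom 𝒩 𝒳 f) :
    IsGrHom 𝒩' 𝒳' (verMap hR hVA gN f) := by
  intro j x hx
  apply hVA.mem_of_map_mem hR.ψinj
  rw [g_verMap hR hVN hVA hf]
  exact hf _ _ (hVN.map_mem hx)

lemma verMap_injective (hR : IsVerRing 𝒜 𝒜' φ ψ) (hVN : IsVer φ ψ 𝒩 𝒩' gN)
    (hVA : IsVer φ ψ 𝒳 𝒳' gA) {f : N →ₗ[R] A} (hf : IsGrHom 𝒩 𝒳 f)
    (hfi : Function.Injective f) : Function.Injective (verMap hR hVA gN f) := by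
  intro x y hxy
  apply hVN.inj
  apply hfi
  rw [← g_verMap hR hVN hVA hf, ← g_verMap hR hVN hVA hf, hxy]

lemma verMap_surjective (hR : IsVerRing 𝒜 𝒜' φ ψ) (hVN : IsVer φ ψ 𝒩 𝒩' gN)
    (hVA : IsVer φ ψ 𝒳 𝒳' gA) {f : N →ₗ[R] A} (hf : IsGrHom 𝒩 𝒳 f)
    (hfs : Function.Surjective f) : Function.Surjective (verMap hR hVA gN f) := by
  intro a
  obtain ⟨n, hn⟩ := hfs (gA a)
  refine ⟨hVN.retr n, ?_⟩
  apply hVA.inj
  rw [g_verMap hR hVN hVA hf, hVN.g_retr, ← vproj_map 𝒩 𝒳 _ hf, hn, hVA.vproj_g]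

lemma verMap_exact (hR : IsVerRing 𝒜 𝒜' φ ψ) (hVN : IsVer φ ψ 𝒩 𝒩' gN)
    (hVA : IsVer φ ψ 𝒳 𝒳' gA) (hVZ : IsVer φ ψ 𝒵 𝒵' gZ) {u : N →ₗ[R] A} {v : A →ₗ[R] Z}
    (hu : IsGrHom 𝒩 𝒳 u) (hv : IsGrHom 𝒳 𝒵 v) (hex : LinearMap.ker v = LinearMap.range u) :
    LinearMap.ker (verMap hR hVZ gA v) = LinearMap.range (verMap hR hVA gN u) := by
  ext a
  rw [LinearMap.mem_ker, LinearMap.mem_range]
  constructor
  · intro ha
    have h1 : v (gA a) = 0 := by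
      rw [← g_verMap hR hVA hVZ hv, ha, map_zero]
    have h2 : gA a ∈ LinearMap.range u := by
      rw [← hex]; exact LinearMap.mem_ker.mpr h1
    obtain ⟨n, hn⟩ := h2
    refine ⟨hVN.retr n, ?_⟩
    apply hVA.inj
    rw [g_verMap hR hVN hVA hu, hVN.g_retr, ← vproj_map 𝒩 𝒳 _ hu, hn, hVA.vproj_g]
  · rintro ⟨x, rfl⟩
    apply hVZ.inj
    rw [g_verMap hR hVA hVZ hv, g_verMap hR hVN hVA hu, map_zero]
    have : u (gN x) ∈ LinearMap.ker v := by rw [hex]; exact ⟨_, rfl⟩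
    exact LinearMap.mem_ker.mp this

end Maps

end Groth.Agent.Lib.Helper11.GrVer
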