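import Groth.Agent.Lib.Helper11.GrVerC
import Groth.Agent.Lib.Helper11.GrLCOrdB
import Groth.Agent.Lib.Helper16.LocCohIndepBase

/-!
# Veronese-type pairs: torsion, Noetherian descent, acyclicity of Veronese submodules of *injectives
-/

set_option autoImplicit false
set_option linter.unusedSectionVars false
set_option linter.unusedVariables false
set_option linter.style.haveILetI false
universe u

namespace Groth.Agent.Lib.Helper11.GrVer

open DirectSum GrLC Groth.Agent.Lib.Helper11.GrLCLib Groth.Agent.Lib.Helper11.GrLes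
open CategoryTheory

variable {ι ι' : Type} [DecidableEq ι] [AddCommGroup ι] [DecidableEq ι'] [AddCommGroup ι']
variable {R : Type u} [CommRing R] {𝒜 : ι → AddSubgroup R} [GradedRing 𝒜]
variable {R' : Type u} [CommRing R'] {𝒜' : ι' → AddSubgroup R'} [GradedRing 𝒜']
variable {φ : R' →+* R} {ψ : ι' →+ ι}

section Torsion

variable {N : Type u} [AddCommGroup N] [Module R N] {N' : Type u} [AddCommGroup N'] [Module R' N']

lemma mem_gam_of_map_mem (g : N' →ₛₗ[φ] N) (hg : Function.Injective g) (b' : Ideal R')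
    (b : Ideal R) (h1 : b'.map φ ≤ b) {x : N'} (hx : g x ∈ gam b N) : x ∈ gam b' N' := by
  obtain ⟨n, hn⟩ := hx
  refine ⟨n, fun r hr => ?_⟩
  apply hg
  rw [map_smulₛₗ, map_zero]
  apply hn
  have h2 : φ r ∈ (b' ^ n).map φ := Ideal.mem_map_of_mem φ hr
  rw [Ideal.map_pow] at h2
  exact Ideal.pow_right_mono h1 n h2

lemma map_mem_gam' (g : N' →ₛₗ[φ] N) (b' : Ideal R') (b : Ideal R)
    (h2 : ∃ K, b ^ K ≤ b'.map φ) {x : N'} (hx : x ∈ gam b' N') : g x ∈ gam b N := by
  obtain ⟨n, hn⟩ := hx
  obtain ⟨K, hK⟩ := h2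
  refine ⟨K * n, fun r hr => ?_⟩
  have h3 : r ∈ (b' ^ n).map φ := by
    rw [Ideal.map_pow]
    rw [pow_mul] at hr
    exact Ideal.pow_right_mono hK n hr
  revert h3
  generalize r = r
  intro h3
  refine Submodule.span_induction (p := fun r _ => r • g x = 0) ?_ ?_ ?_ ?_ h3
  · rintro _ ⟨c, hc, rfl⟩
    rw [← map_smulₛₗ, hn c hc, map_zero]
  · exact zero_smul _ _
  · intro y z _ _ hy hz
    rw [add_smul, hy, hz, add_zero]
  · intro a y _ hy
    rw [smul_eq_mul, mul_smul, hy, smul_zero]

end Torsion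

section Noeth

/-- The ring map as a semilinear map. -/
def ringSL (φ : R' →+* R) : R' →ₛₗ[φ] R where
  toFun := φ
  map_add' := map_add φ
  map_smul' r x := by
    change φ (r * x) = φ r * φ x
    exact map_mul φ r x

lemma IsVerRing.isVer (hR : IsVerRing 𝒜 𝒜' φ ψ) : IsVer φ ψ 𝒜 𝒜' (ringSL φ) :=
  ⟨hR.inj, hR.deg⟩

lemma IsVerRing.comap_map (hR : IsVerRing 𝒜 𝒜' φ ψ) (J : Ideal R') :
    (J.map φ).comap φ = J := by
  apply le_antisymm _ Ideal.le_comap_map
  intro x hx
  rw [Ideal.mem_comap] at hx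
  have hV := hR.isVer
  have key : ∀ y ∈ J.map φ, ∀ a : R, hV.retr (a * y) ∈ J := by
    intro y hy
    refine Submodule.span_induction (p := fun y _ => ∀ a : R, hV.retr (a * y) ∈ J) ?_ ?_ ?_ ?_ hy
    · rintro _ ⟨c, hc, rfl⟩ a
      have : a * φ c = φ c • a := by rw [smul_eq_mul, mul_comm]
      rw [this, hV.retr_smul hR]
      exact J.mul_mem_right _ hc
    · intro a
      rw [mul_zero, map_zero]
      exact zero_mem _
    · intro y z _ _ hy hz a
      rw [mul_add, map_add]
      exact add_mem (hy a) (hz a)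
    · intro c y _ hy a
      rw [smul_eq_mul, ← mul_assoc]
      exact hy (a * c)
  have h1 := key _ hx 1
  rw [one_mul] at h1
  have h2 : hV.retr (φ x) = x := hV.retr_g x
  rwa [h2] at h1

theorem IsVerRing.isNoetherianRing (hR : IsVerRing 𝒜 𝒜' φ ψ) [IsNoetherianRing R] :
    IsNoetherianRing R' := by
  have hinj : Function.Injective (fun J : Ideal R' => J.map φ) := by
    intro J K hJK
    have : (J.map φ).comap φ = (K.map φ).comap φ := by
      change J.map φ = K.map φ at hJK
      rw [hJK]
    rwa [hR.comap_map, hR.comap_map] at this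
  have hmono : Monotone (fun J : Ideal R' => J.map φ) := fun J K h => Ideal.map_mono h
  have hs : StrictMono (fun J : Ideal R' => J.map φ) := hmono.strictMono_of_injective hinj
  have hw : WellFoundedGT (Ideal R) := (isNoetherian_iff' (R := R) (M := R)).mp inferInstance
  have : WellFoundedGT (Ideal R') := hs.wellFoundedGT
  exact (isNoetherian_iff' (R := R') (M := R')).mpr this

end Noeth

end Groth.Agent.Lib.Helper11.GrVer
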