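import Groth.Agent.Lib.Helper11.GrVerD

/-!
# Acyclicity of Veronese-type submodules of *injective modules
-/

set_option autoImplicit false
set_option linter.unusedSectionVars false
set_option linter.unusedVariables false
set_option linter.style.haveILetI false
universe u

namespace Groth.Agent.Lib.Helper11.GrVer

open DirectSum GrLC Groth.Agent.Lib.Helper11.GrLCLib Groth.Agent.Lib.Helper11.GrLes
open CategoryTheory

variable {ι ι' : Type} [DecidableEq ι] [AddCommGroup ι] [DecidableEq ι'] [AddCommGroup ι']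
variable {R : Type u} [CommRing R] {𝒜 : ι → AddSubgroup R} [GradedRing 𝒜]
variable {R' : Type u} [CommRing R'] {𝒜' : ι' → AddSubgroup R'} [GradedRing 𝒜']
variable {φ : R' →+* R} {ψ : ι' →+ ι}

lemma IsVerRing.map_isHomogeneous (hR : IsVerRing 𝒜 𝒜' φ ψ) (b' : HomogeneousIdeal 𝒜') :
    (b'.toIdeal.map φ).IsHomogeneous 𝒜 := by
  obtain ⟨S, hS⟩ := (Ideal.IsHomogeneous.iff_exists (𝒜 := 𝒜') (I := b'.toIdeal)).mp b'.isHomogeneous
  rw [hS, Ideal.map_span]
  apply Ideal.homogeneous_span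
  rintro _ ⟨_, ⟨s, hs, rfl⟩, rfl⟩
  obtain ⟨j, hj⟩ := s.2
  exact ⟨ψ j, hR.map_mem hj⟩

/-- the extension of a homogeneous ideal of `R'` to `R`. -/
def IsVerRing.mapIdeal (hR : IsVerRing 𝒜 𝒜' φ ψ) (b' : HomogeneousIdeal 𝒜') : HomogeneousIdeal 𝒜 :=
  ⟨b'.toIdeal.map φ, hR.map_isHomogeneous b'⟩

variable {A : Type u} [AddCommGroup A] [Module R A] {𝒳 : ι → AddSubgroup A}
  [DirectSum.Decomposition 𝒳] [SetLike.GradedSMul 𝒜 𝒳]
variable {A' : Type u} [AddCommGroup A'] [Module R' A'] {𝒳' : ι' → AddSubgroup A'}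
  [DirectSum.Decomposition 𝒳'] [SetLike.GradedSMul 𝒜' 𝒳']
variable {gA : A' →ₛₗ[φ] A}

/-- ungraded local cohomology of a Veronese-type submodule of a *injective module vanishes. -/
theorem subsingleton_locCoh_ver [IsNoetherianRing R] (hR : IsVerRing 𝒜 𝒜' φ ψ)
    (hVA : IsVer φ ψ 𝒳 𝒳' gA) (hA : IsStarInj 𝒜 𝒳) (b' : HomogeneousIdeal 𝒜') (p : ℕ) :
    Subsingleton (LocCoh.H b'.toIdeal (p + 1) A') := by
  haveI : IsNoetherianRing R' := hR.isNoetherianRing
  letI : Algebra R' R := φ.toAlgebra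
  letI : Module R' A := Module.compHom A φ
  haveI : IsScalarTower R' R A := IsScalarTower.of_algebraMap_smul (fun r x => rfl)
  have h7 : Subsingleton (LocCoh.H (b'.toIdeal.map φ) (p + 1) A) :=
    Groth.Agent.Lib.Helper11.GrLCOrd.subsingleton_H_of_isStarInj 𝒳 hA (hR.mapIdeal b') p
  obtain ⟨θ, -⟩ := Groth.Agent.Lib.Helper16.DTL.semiIso_H (R := R') (R' := R) b'.toIdeal (p + 1) A
  have h6 : Subsingleton (LocCoh.H b'.toIdeal (p + 1) A) := by
    have : Subsingleton (LocCoh.H (b'.toIdeal.map (algebraMap R' R)) (p + 1) A) := h7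
    exact θ.symm.toEquiv.subsingleton
  let s : A' →ₗ[R'] A :=
    { toFun := gA, map_add' := map_add gA, map_smul' := fun r x => gA.map_smulₛₗ r x }
  let t : A →ₗ[R'] A' :=
    { toFun := hVA.retr, map_add' := map_add _, map_smul' := fun r y => hVA.retr_smul hR r y }
  have hts : t ∘ₗ s = LinearMap.id := by
    apply LinearMap.ext
    intro x
    exact hVA.retr_g x
  let F := localCohomology b'.toIdeal (p + 1)
  have hF : F.map (ModuleCat.ofHom s) ≫ F.map (ModuleCat.ofHom t) = 𝟙 _ := by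
    rw [← F.map_comp, ← ModuleCat.ofHom_comp, hts]
    exact F.map_id _
  refine ⟨fun x y => ?_⟩
  have hx : ∀ x : F.obj (ModuleCat.of R' A'), x = 0 := by
    intro x
    have h1 : (F.map (ModuleCat.ofHom s) ≫ F.map (ModuleCat.ofHom t)).hom x = x := by
      rw [hF]; rfl
    rw [ModuleCat.hom_comp, LinearMap.comp_apply] at h1
    have h2 : (F.map (ModuleCat.ofHom s)).hom x = 0 := h6.elim _ _
    rw [h2, map_zero] at h1
    exact h1.symm
  rw [hx x, hx y]

/-- graded local cohomology of a Veronese-type submodule of a *injective module vanishes. -/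
theorem subsingleton_H_ver [IsNoetherianRing R] (hR : IsVerRing 𝒜 𝒜' φ ψ)
    (hVA : IsVer φ ψ 𝒳 𝒳' gA) (hA : IsStarInj 𝒜 𝒳) (b' : HomogeneousIdeal 𝒜')
    (FA : StarInjRes 𝒜' 𝒳') (p : ℕ) : Subsingleton (FA.H b' (p + 1)) := by
  haveI : IsNoetherianRing R' := hR.isNoetherianRing
  obtain ⟨e⟩ := Groth.Agent.Lib.Helper11.GrLCOrd.nonempty_H_equiv FA b' (p + 1)
  have := subsingleton_locCoh_ver hR hVA hA b' p
  exact e.toEquiv.subsingleton

end Groth.Agent.Lib.Helper11.GrVer
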