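import Groth.Agent.Lib.Helper11.GrVerE
import Groth.Agent.Lib.Helper11.GrLCRes

/-!
# Graded local cohomology of Veronese-type submodules: the comparison in degree zero
-/

set_option autoImplicit false
set_option linter.unusedSectionVars false
set_option linter.unusedVariables false
set_option linter.style.haveILetI false
universe u

namespace Groth.Agent.Lib.Helper11.GrVer

open DirectSum GrLC Groth.Agent.Lib.Helper11.GrLCLib Groth.Agent.Lib.Helper11.GrLes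
  Groth.Agent.Lib.Helper11.GrShift

variable {ι ι' : Type} [DecidableEq ι] [AddCommGroup ι] [DecidableEq ι'] [AddCommGroup ι']
variable {R : Type u} [CommRing R] {𝒜 : ι → AddSubgroup R} [GradedRing 𝒜]
variable {R' : Type u} [CommRing R'] {𝒜' : ι' → AddSubgroup R'} [GradedRing 𝒜']
variable {φ : R' →+* R} {ψ : ι' →+ ι}

lemma vproj_mem_of_isHomogeneous {N : Type u} [AddCommGroup N] [Module R N]
    (𝒩 : ι → AddSubgroup N) [DirectSum.Decomposition 𝒩] (S : Set ι) (P : Submodule R N)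
    (hP : P.IsHomogeneous 𝒩) {x : N} (hx : x ∈ P) : vproj 𝒩 S x ∈ P := by
  classical
  have h1 : vproj 𝒩 S x = vproj 𝒩 S (∑ i ∈ DFinsupp.support (decompose 𝒩 x),
      (decompose 𝒩 x i : N)) := by
    rw [DirectSum.sum_support_decompose 𝒩 x]
  rw [h1, map_sum]
  refine sum_mem fun i _ => ?_
  rw [vproj_of_mem 𝒩 S (SetLike.coe_mem _)]
  split_ifs
  · exact hP i hx
  · exact zero_mem _

section Cmp

variable {N : Type u} [AddCommGroup N] [Module R N] {𝒩 : ι → AddSubgroup N}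
  [DirectSum.Decomposition 𝒩] [SetLike.GradedSMul 𝒜 𝒩]
variable {N' : Type u} [AddCommGroup N'] [Module R' N'] {𝒩' : ι' → AddSubgroup N'}
  [DirectSum.Decomposition 𝒩'] [SetLike.GradedSMul 𝒜' 𝒩']

/-- The comparison statement in cohomological degree `p` for given resolutions. -/
def Cmp (φ : R' →+* R) (ψ : ι' →+ ι) (b : HomogeneousIdeal 𝒜) (b' : HomogeneousIdeal 𝒜')
    (E : StarInjRes 𝒜 𝒩) (F : StarInjRes 𝒜' 𝒩') (p : ℕ) : Prop :=
  ∃ Φ : F.H b' p →ₛₗ[φ] E.H b p, Function.Injective Φ ∧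
    (∀ j x, x ∈ F.Hcomp b' p j → Φ x ∈ E.Hcomp b p (ψ j)) ∧
    (∀ j y, y ∈ E.Hcomp b p (ψ j) → ∃ x ∈ F.Hcomp b' p j, Φ x = y)

/-- restriction of `g` to the torsion submodules. -/
noncomputable def gamMap (g : N' →ₛₗ[φ] N) (b : Ideal R) (b' : Ideal R')
    (h2 : ∃ K, b ^ K ≤ b'.map φ) : ↥(gam b' N') →ₛₗ[φ] ↥(gam b N) :=
  LinearMap.codRestrict (gam b N) (g.domRestrict (gam b' N'))
    (fun x => map_mem_gam' g b' b h2 x.2)

lemma gamMap_coe (g : N' →ₛₗ[φ] N) (b : Ideal R) (b' : Ideal R')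
    (h2 : ∃ K, b ^ K ≤ b'.map φ) (x : ↥(gam b' N')) :
    ((gamMap g b b' h2 x : ↥(gam b N)) : N) = g (x : N') := rfl

theorem cmp_zero (hR : IsVerRing 𝒜 𝒜' φ ψ) (b : HomogeneousIdeal 𝒜) (b' : HomogeneousIdeal 𝒜')
    (h1 : b'.toIdeal.map φ ≤ b.toIdeal) (h2 : ∃ K, b.toIdeal ^ K ≤ b'.toIdeal.map φ)
    {g : N' →ₛₗ[φ] N} (hV : IsVer φ ψ 𝒩 𝒩' g) (E : StarInjRes 𝒜 𝒩) (F : StarInjRes 𝒜' 𝒩') :
    Cmp φ ψ b b' E F 0 := by
  let e0 : ↥(gam b'.toIdeal N') ≃ₗ[R'] F.H b' 0 :=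
    LinearEquiv.ofBijective (h0 F b') ⟨h0_injective F b', h0_surjective F b'⟩
  let θ := gamMap g b.toIdeal b'.toIdeal h2
  let Φ₁ : F.H b' 0 →ₛₗ[φ] ↥(gam b.toIdeal N) := θ.comp e0.symm.toLinearMap
  let Φ : F.H b' 0 →ₛₗ[φ] E.H b 0 := (h0 E b).comp Φ₁
  have hΦ : ∀ z : ↥(gam b'.toIdeal N'), Φ (h0 F b' z) = h0 E b (θ z) := by
    intro z
    change h0 E b (θ (e0.symm (e0 z))) = _
    rw [e0.symm_apply_apply]
  refine ⟨Φ, ?_, ?_, ?_⟩
  · intro x y hxy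
    obtain ⟨z, rfl⟩ := h0_surjective F b' x
    obtain ⟨w, rfl⟩ := h0_surjective F b' y
    rw [hΦ, hΦ] at hxy
    have h3 := h0_injective E b hxy
    have h4 : g (z : N') = g (w : N') := congrArg Subtype.val h3
    rw [Subtype.ext (hV.inj h4)]
  · intro j x hx
    obtain ⟨z, hz, rfl⟩ := exists_h0_eq F b' hx
    rw [hΦ]
    exact h0_mem E b _ (hV.map_mem hz)
  · intro j y hy
    obtain ⟨w, hw, rfl⟩ := exists_h0_eq E b hy
    obtain ⟨z, hz, hzw⟩ := hV.exists_of_mem hw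
    have hzg : z ∈ gam b'.toIdeal N' :=
      mem_gam_of_map_mem g hV.inj b'.toIdeal b.toIdeal h1 (by rw [hzw]; exact w.2)
    refine ⟨h0 F b' ⟨z, hzg⟩, h0_mem F b' _ hz, ?_⟩
    rw [hΦ]
    congr 1
    exact Subtype.ext hzw

end Cmp

end Groth.Agent.Lib.Helper11.GrVer
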