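import Groth.Agent.Lib.Helper11.GrVerF

/-!
# Graded local cohomology of Veronese-type submodules: the inductive step and the main theorem
-/

set_option autoImplicit false
set_option linter.unusedSectionVars false
set_option linter.unusedVariables false
set_option linter.style.haveILetI false
universe u

namespace Groth.Agent.Lib.Helper11.GrVer

open DirectSum GrLC Groth.Agent.Lib.Helper11.GrLCLib Groth.Agent.Lib.Helper11.GrLes
  Groth.Agent.Lib.Helper11.GrShift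

variable {ι ι' : Type} [DecidableEq ι] [AddCommGroup ι] [DecidableEq ι'] [AddCommGroup ι']
variable {R : Type u} [CommRing R] {𝒜 : ι → AddSubgroup R} [GradedRing 𝒜]
variable {R' : Type u} [CommRing R'] {𝒜' : ι' → AddSubgroup R'} [GradedRing 𝒜']

/-- The comparison statement in cohomological degree `p`, for all modules and resolutions. -/
def Claim (φ : R' →+* R) (ψ : ι' →+ ι) (b : HomogeneousIdeal 𝒜) (b' : HomogeneousIdeal 𝒜')
    (p : ℕ) : Prop :=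
  ∀ (N : Type u) [AddCommGroup N] [Module R N] (𝒩 : ι → AddSubgroup N)
    [DirectSum.Decomposition 𝒩] [SetLike.GradedSMul 𝒜 𝒩]
    (N' : Type u) [AddCommGroup N'] [Module R' N'] (𝒩' : ι' → AddSubgroup N')
    [DirectSum.Decomposition 𝒩'] [SetLike.GradedSMul 𝒜' 𝒩']
    (g : N' →ₛₗ[φ] N) (_ : IsVer φ ψ 𝒩 𝒩' g) (E : StarInjRes 𝒜 𝒩) (F : StarInjRes 𝒜' 𝒩'),
    Cmp φ ψ b b' E F p

variable {φ : R' →+* R} {ψ : ι' →+ ι}
variable {N : Type u} [AddCommGroup N] [Module R N] {𝒩 : ι → AddSubgroup N}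
  [DirectSum.Decomposition 𝒩] [SetLike.GradedSMul 𝒜 𝒩]
variable {N' : Type u} [AddCommGroup N'] [Module R' N'] {𝒩' : ι' → AddSubgroup N'}
  [DirectSum.Decomposition 𝒩'] [SetLike.GradedSMul 𝒜' 𝒩']

theorem cmp_step_aux [IsNoetherianRing R] (hR : IsVerRing 𝒜 𝒜' φ ψ) (b : HomogeneousIdeal 𝒜)
    (b' : HomogeneousIdeal 𝒜')
    (h1 : b'.toIdeal.map φ ≤ b.toIdeal) (h2 : ∃ K, b.toIdeal ^ K ≤ b'.toIdeal.map φ)
    {g : N' →ₛₗ[φ] N} (hV : IsVer φ ψ 𝒩 𝒩' g) (E : StarInjRes 𝒜 𝒩) (F : StarInjRes 𝒜' 𝒩')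
    {Z : Type u} [AddCommGroup Z] [Module R Z] (𝒵 : ι → AddSubgroup Z)
    [DirectSum.Decomposition 𝒵] [SetLike.GradedSMul 𝒜 𝒵]
    (v : (E.X 0).carrier →ₗ[R] Z) (hv : IsGrHom (E.X 0).gr 𝒵 v) (hvs : Function.Surjective v)
    (hex : LinearMap.ker v = LinearMap.range E.ε) :
    Cmp φ ψ b b' E F 1 ∧ ∀ p, Claim φ ψ b b' (p + 1) → Cmp φ ψ b b' E F (p + 2) := by
  obtain ⟨A', _, _, 𝒳', _, _, gA, hVA⟩ := exists_ver (𝒜' := 𝒜') (E.X 0).gr hR
  obtain ⟨Z', _, _, 𝒵', _, _, gZ, hVZ⟩ := exists_ver (𝒜' := 𝒜') 𝒵 hR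
  have hu' : IsGrHom 𝒩' 𝒳' (verMap hR hVA g E.ε) := verMap_isGrHom hR hV hVA E.ε_grHom
  have hv' : IsGrHom 𝒳' 𝒵' (verMap hR hVZ gA v) := verMap_isGrHom hR hVA hVZ hv
  have hui' := verMap_injective hR hV hVA E.ε_grHom E.ε_injective
  have hvs' := verMap_surjective hR hVA hVZ hv hvs
  have hex' := verMap_exact hR hV hVA hVZ E.ε_grHom hv hex
  obtain ⟨EA⟩ := nonempty_starInjRes 𝒜 (E.X 0).gr
  obtain ⟨EZ⟩ := nonempty_starInjRes 𝒜 𝒵
  obtain ⟨FA⟩ := nonempty_starInjRes 𝒜' 𝒳'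
  obtain ⟨FZ⟩ := nonempty_starInjRes 𝒜' 𝒵'
  have hacE : ∀ p, Subsingleton (EA.H b (p + 1)) := fun p => by
    obtain ⟨e⟩ := Groth.Agent.Lib.Helper11.GrLCOrd.nonempty_H_equiv EA b (p + 1)
    have := Groth.Agent.Lib.Helper11.GrLCOrd.subsingleton_H_of_isStarInj (E.X 0).gr
      (E.starInj 0) b p
    exact e.toEquiv.subsingleton
  have hacF : ∀ p, Subsingleton (FA.H b' (p + 1)) :=
    fun p => subsingleton_H_ver hR hVA (E.starInj 0) b' FA p
  obtain ⟨shE, σE, hσEs, hσEk, hσEd, hσEd'⟩ :=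
    exists_shift E EA EZ E.ε v E.ε_grHom hv E.ε_injective hvs hex b hacE
  obtain ⟨shF, σF, hσFs, hσFk, hσFd, hσFd'⟩ :=
    exists_shift F FA FZ (verMap hR hVA g E.ε) (verMap hR hVZ gA v) hu' hv' hui' hvs' hex' b' hacF
  constructor
  · let θZ := gamMap gZ b.toIdeal b'.toIdeal h2
    let Ψ : ↥(gam b'.toIdeal Z') →ₛₗ[φ] E.H b 1 := σE.comp θZ
    have hle : LinearMap.ker σF ≤ LinearMap.ker Ψ := by
      intro z hz
      rw [LinearMap.mem_ker] at hz ⊢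
      obtain ⟨x, hx⟩ := (hσFk z).mp hz
      change σE (θZ z) = 0
      apply (hσEk _).mpr
      refine ⟨⟨gA (x : A'), map_mem_gam' gA b'.toIdeal b.toIdeal h2 x.2⟩, ?_⟩
      change v (gA (x : A')) = gZ (z : Z')
      rw [← g_verMap hR hVA hVZ hv, hx]
    let qe := σF.quotKerEquivOfSurjective hσFs
    let Φ : F.H b' 1 →ₛₗ[φ] E.H b 1 :=
      ((LinearMap.ker σF).liftQ Ψ hle).comp qe.symm.toLinearMap
    have hΦ : ∀ z, Φ (σF z) = σE (θZ z) := by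
      intro z
      have h3 : qe.symm (σF z) = Submodule.Quotient.mk z := by
        rw [LinearEquiv.symm_apply_eq]
        rfl
      change (LinearMap.ker σF).liftQ Ψ hle (qe.symm (σF z)) = _
      rw [h3]
      rfl
    refine ⟨Φ, ?_, ?_, ?_⟩
    · rw [injective_iff_map_eq_zero]
      intro x hx
      obtain ⟨z, rfl⟩ := hσFs x
      rw [hΦ] at hx
      obtain ⟨a, ha⟩ := (hσEk _).mp hx
      have ha2 : v (a : (E.X 0).carrier) = gZ (z : Z') := ha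
      have hpa : vproj (E.X 0).gr (Set.range ψ) (a : (E.X 0).carrier) ∈
          gam b.toIdeal (E.X 0).carrier :=
        vproj_mem_of_isHomogeneous _ _ _ (gam_isHomogeneous 𝒜 (E.X 0).gr b) a.2
      have hga' : gA (hVA.retr (a : (E.X 0).carrier)) ∈ gam b.toIdeal (E.X 0).carrier := by
        rw [hVA.g_retr]; exact hpa
      have ha'g : hVA.retr (a : (E.X 0).carrier) ∈ gam b'.toIdeal A' :=
        mem_gam_of_map_mem gA hVA.inj b'.toIdeal b.toIdeal h1 hga'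
      apply (hσFk z).mpr
      refine ⟨⟨hVA.retr (a : (E.X 0).carrier), ha'g⟩, ?_⟩
      apply hVZ.inj
      change gZ (verMap hR hVZ gA v (hVA.retr (a : (E.X 0).carrier))) = gZ (z : Z')
      rw [g_verMap hR hVA hVZ hv, hVA.g_retr, ← vproj_map (E.X 0).gr 𝒵 _ hv, ha2]
      exact hVZ.vproj_g _
    · intro j x hx
      obtain ⟨z, hz, rfl⟩ := hσFd' j x hx
      rw [hΦ]
      exact hσEd (ψ j) _ (hVZ.map_mem hz)
    · intro j y hy
      obtain ⟨w, hw, rfl⟩ := hσEd' (ψ j) y hy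
      obtain ⟨z, hz, hzw⟩ := hVZ.exists_of_mem hw
      have hzg : z ∈ gam b'.toIdeal Z' :=
        mem_gam_of_map_mem gZ hVZ.inj b'.toIdeal b.toIdeal h1 (by rw [hzw]; exact w.2)
      refine ⟨σF ⟨z, hzg⟩, hσFd j _ hz, ?_⟩
      rw [hΦ]
      congr 1
      exact Subtype.ext hzw
  · intro p ih
    obtain ⟨ΦZ, hinj, hd, hd'⟩ := ih Z 𝒵 Z' 𝒵' gZ hVZ EZ FZ
    obtain ⟨eE, heE, heE'⟩ := shE p
    obtain ⟨eF, heF, heF'⟩ := shF p
    let Φ₁ : F.H b' (p + 2) →ₛₗ[φ] EZ.H b (p + 1) := ΦZ.comp eF.symm.toLinearMap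
    let Φ : F.H b' (p + 2) →ₛₗ[φ] E.H b (p + 2) := eE.toLinearMap.comp Φ₁
    refine ⟨Φ, ?_, ?_, ?_⟩
    · exact eE.injective.comp (hinj.comp eF.symm.injective)
    · intro j x hx
      exact heE _ _ (hd j _ (heF' j x hx))
    · intro j y hy
      obtain ⟨x, hx, hxy⟩ := hd' j _ (heE' _ y hy)
      refine ⟨eF x, heF j x hx, ?_⟩
      change eE (ΦZ (eF.symm (eF x))) = y
      rw [eF.symm_apply_apply, hxy, eE.apply_symm_apply]

end Groth.Agent.Lib.Helper11.GrVer
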