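import Groth.Agent.Lib.Helper11.GrVerH
import Groth.Agent.Lib.Helper11.GrFieldC

/-!
# Graded duals of Veronese-type submodules: transposing the comparison map
-/

set_option autoImplicit false
set_option linter.unusedSectionVars false
set_option linter.unusedVariables false
set_option linter.style.haveILetI false
universe u

namespace Groth.Agent.Lib.Helper11.GrVer

open DirectSum GrLC GrSeg Groth.Agent.Lib.Helper11.GrLCLib Groth.Agent.Lib.Helper11.GrDual

variable {k : Type u} [Field k]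
variable {R : Type u} [CommRing R] [Algebra k R] {𝒜 : ℤ → AddSubgroup R} [GradedRing 𝒜]
variable {R' : Type u} [CommRing R'] [Algebra k R'] {𝒜' : ℤ → AddSubgroup R'} [GradedRing 𝒜']
variable {φ : R' →+* R} {ψ : ℤ →+ ℤ}
variable {H : Type u} [AddCommGroup H] [Module R H] [Module k H] [IsScalarTower k R H]
  {ℋ : ℤ → AddSubgroup H} [DirectSum.Decomposition ℋ] [SetLike.GradedSMul 𝒜 ℋ]
variable {C : Type u} [AddCommGroup C] [Module R C] [Module k C] [IsScalarTower k R C]
  {𝒞 : ℤ → AddSubgroup C} [DirectSum.Decomposition 𝒞]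
variable {H' : Type u} [AddCommGroup H'] [Module R' H'] [Module k H'] [IsScalarTower k R' H']
  {ℋ' : ℤ → AddSubgroup H'} [DirectSum.Decomposition ℋ'] [SetLike.GradedSMul 𝒜' ℋ']
variable {C' : Type u} [AddCommGroup C'] [Module R' C'] [Module k C'] [IsScalarTower k R' C']
  {𝒞' : ℤ → AddSubgroup C'} [DirectSum.Decomposition 𝒞']
variable {β : C →ₗ[k] H →ₗ[k] k} {β' : C' →ₗ[k] H' →ₗ[k] k} {Φ : H' →ₛₗ[φ] H}

/-- the retraction is `k`-linear. -/
lemma retr_ksmul (hR : IsVerRing 𝒜 𝒜' φ ψ) (hφk : ∀ c : k, φ (algebraMap k R' c) = algebraMap k R c)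
    (hΦ : IsVer φ ψ ℋ ℋ' Φ) (a : k) (h : H) : hΦ.retr (a • h) = a • hΦ.retr h := by
  rw [← algebraMap_smul R a h, ← hφk a, hΦ.retr_smul hR, algebraMap_smul]

lemma Φ_ksmul (hφk : ∀ c : k, φ (algebraMap k R' c) = algebraMap k R c) (a : k) (h' : H') :
    Φ (a • h') = a • Φ h' := by
  rw [← algebraMap_smul R' a h', map_smulₛₗ, hφk, algebraMap_smul]

/-- the retraction as a `k`-linear map. -/
noncomputable def retrK (hR : IsVerRing 𝒜 𝒜' φ ψ)
    (hφk : ∀ c : k, φ (algebraMap k R' c) = algebraMap k R c) (hΦ : IsVer φ ψ ℋ ℋ' Φ) :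
    H →ₗ[k] H' where
  toFun := hΦ.retr
  map_add' := map_add _
  map_smul' := retr_ksmul hR hφk hΦ

/-- `Φ` as a `k`-linear map. -/
noncomputable def ΦK (Φ : H' →ₛₗ[φ] H) (hφk : ∀ c : k, φ (algebraMap k R' c) = algebraMap k R c) :
    H' →ₗ[k] H where
  toFun := Φ
  map_add' := map_add _
  map_smul' := Φ_ksmul hφk

/-- the retraction kills the degrees outside the range of `ψ` and lowers the others. -/
lemma retr_mem (hψ : Function.Injective ψ) (hΦ : IsVer φ ψ ℋ ℋ' Φ) {j : ℤ} {h : H}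
    (hh : h ∈ ℋ (ψ j)) : hΦ.retr h ∈ ℋ' j := by
  apply hΦ.mem_of_map_mem hψ
  rw [hΦ.g_retr, vproj_of_mem_pos ℋ _ hh (Set.mem_range_self j)]
  exact hh

lemma retr_eq_zero (hΦ : IsVer φ ψ ℋ ℋ' Φ) {i : ℤ} {h : H}
    (hh : h ∈ ℋ i) (hi : i ∉ Set.range ψ) : hΦ.retr h = 0 := by
  apply hΦ.inj
  rw [hΦ.g_retr, vproj_of_mem_neg ℋ _ hh hi, map_zero]

/-- the key compatibility: agreement on the relevant piece gives agreement everywhere. -/
lemma pairing_compat (hψ : Function.Injective ψ) (hD : IsGDual R ℋ 𝒞 β)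
    (hD' : IsGDual R' ℋ' 𝒞' β') (hΦ : IsVer φ ψ ℋ ℋ' Φ) {j : ℤ} {c : C} (hc : c ∈ 𝒞 (ψ j))
    {c' : C'} (hc' : c' ∈ 𝒞' j) (hcc : ∀ h' ∈ ℋ' (-j), β' c' h' = β c (Φ h')) (h : H) :
    β c h = β' c' (hΦ.retr h) := by
  refine eq_of_forall_homogeneous ℋ (β c).toAddMonoidHom
    ((β' c').toAddMonoidHom.comp hΦ.retr) ?_ h
  intro i x hx
  change β c x = β' c' (hΦ.retr x)
  by_cases hi : i = -(ψ j)
  · subst hi
    have hx' : x ∈ ℋ (ψ (-j)) := by rw [map_neg]; exact hx
    obtain ⟨y, hy, rfl⟩ := hΦ.exists_of_mem hx'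
    rw [hΦ.retr_g, hcc y hy]
  · rw [hD.vanish (ψ j) c hc i hi x hx]
    by_cases hir : i ∈ Set.range ψ
    · obtain ⟨i', rfl⟩ := hir
      have hi' : i' ≠ -j := by
        intro e
        apply hi
        rw [e, map_neg]
      rw [hD'.vanish j c' hc' i' hi' _ (retr_mem hψ hΦ hx)]
    · rw [retr_eq_zero hΦ hx hir, map_zero]

/-- existence of the transposed element. -/
lemma exists_transposed (hR : IsVerRing 𝒜 𝒜' φ ψ)
    (hφk : ∀ c : k, φ (algebraMap k R' c) = algebraMap k R c) (hD : IsGDual R ℋ 𝒞 β)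
    (hD' : IsGDual R' ℋ' 𝒞' β') (hΦ : IsVer φ ψ ℋ ℋ' Φ) (c' : C') :
    ∃ c : C, ∀ h, β c h = β' c' (hΦ.retr h) := by
  induction c' using DirectSum.Decomposition.inductionOn 𝒞' with
  | zero => exact ⟨0, fun h => by simp⟩
  | @homogeneous j c' =>
    obtain ⟨c, hc, hcc⟩ := hD.exists_eq (ψ j) ((β' (c' : C')).comp (retrK hR hφk hΦ))
    refine ⟨c, pairing_compat hR.ψinj hD hD' hΦ hc c'.2 ?_⟩
    intro h' hh'
    have h1 : Φ h' ∈ ℋ (-(ψ j)) := by
      have := hΦ.map_mem hh'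
      rwa [map_neg] at this
    rw [hcc _ h1]
    change β' (c' : C') h' = β' (c' : C') (hΦ.retr (Φ h'))
    rw [hΦ.retr_g]
  | add x y hx hy =>
    obtain ⟨c₁, h₁⟩ := hx
    obtain ⟨c₂, h₂⟩ := hy
    exact ⟨c₁ + c₂, fun h => by
      rw [map_add, map_add, LinearMap.add_apply, LinearMap.add_apply, h₁, h₂]⟩

/-- **Transposing the comparison**: if `C`, `C'` are graded duals of `H`, `H'` and `H'` is the
Veronese-type submodule of `H`, then `C'` is the Veronese-type submodule of `C`. -/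
theorem exists_isVer_dual (hR : IsVerRing 𝒜 𝒜' φ ψ)
    (hφk : ∀ c : k, φ (algebraMap k R' c) = algebraMap k R c) (hD : IsGDual R ℋ 𝒞 β)
    (hD' : IsGDual R' ℋ' 𝒞' β') (hΦ : IsVer φ ψ ℋ ℋ' Φ) :
    ∃ g : C' →ₛₗ[φ] C, Function.Injective g ∧ ∀ j : ℤ, (𝒞' j).map (g : C' →+ C) = 𝒞 (ψ j) := by
  have hβ := injective_of_isGDual hD
  have hβ' := injective_of_isGDual hD'
  have huniq : ∀ c₁ c₂ : C, (∀ h, β c₁ h = β c₂ h) → c₁ = c₂ := fun c₁ c₂ h =>
    hβ (LinearMap.ext h)
  have hex := exists_transposed hR hφk hD hD' hΦ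
  have hspec : ∀ c' h, β (hex c').choose h = β' c' (hΦ.retr h) := fun c' => (hex c').choose_spec
  let g : C' →ₛₗ[φ] C :=
    { toFun := fun c' => (hex c').choose
      map_add' := fun x y => huniq _ _ (fun h => by
        have e1 : β ((hex x).choose + (hex y).choose) h =
            β (hex x).choose h + β (hex y).choose h := by
          rw [map_add, LinearMap.add_apply]
        rw [e1, hspec, hspec, hspec, map_add, LinearMap.add_apply])
      map_smul' := fun r x => huniq _ _ (fun h => by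
        rw [hspec, hD.map_smul, hspec, hD'.map_smul, hΦ.retr_smul hR]) }
  have hg : ∀ c' h, β (g c') h = β' c' (hΦ.retr h) := hspec
  refine ⟨g, ?_, ?_⟩
  · rw [injective_iff_map_eq_zero]
    intro c' hc'
    apply hβ'
    apply LinearMap.ext
    intro h'
    have := hg c' (Φ h')
    rw [hc', map_zero, LinearMap.zero_apply, hΦ.retr_g] at this
    rw [map_zero, LinearMap.zero_apply, ← this]
  · intro j
    ext c
    constructor
    · rintro ⟨c', hc', rfl⟩
      change g c' ∈ 𝒞 (ψ j)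
      apply mem_of_vanish hD
      intro i hi x hx
      rw [hg]
      by_cases hir : i ∈ Set.range ψ
      · obtain ⟨i', rfl⟩ := hir
        have hi' : i' ≠ -j := by
          intro e
          apply hi
          rw [e, map_neg]
        rw [hD'.vanish j c' hc' i' hi' _ (retr_mem hR.ψinj hΦ hx)]
      · rw [retr_eq_zero hΦ hx hir, map_zero]
    · intro hc
      obtain ⟨c', hc', hcc⟩ := hD'.exists_eq j ((β c).comp (ΦK Φ hφk))
      refine ⟨c', hc', ?_⟩
      apply huniq
      intro h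
      change β (g c') h = β c h
      rw [hg]
      exact (pairing_compat hR.ψinj hD hD' hΦ hc hc' hcc h).symm

end Groth.Agent.Lib.Helper11.GrVer
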