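import Groth.Agent.Lib.Helper11.GrVerI

/-!
# The *canonical module of a Veronese-type subring
-/

set_option autoImplicit false
set_option linter.unusedSectionVars false
set_option linter.unusedVariables false
set_option linter.style.haveILetI false
universe u

namespace Groth.Agent.Lib.Helper11.GrVer

open DirectSum GrLC GrSeg Groth.Agent.Lib.Helper11.GrLCLib Groth.Agent.Lib.Helper11.GrDual
  Groth.Agent.Lib.Helper11.GrField

variable {k : Type u} [Field k]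
variable {R : Type u} [CommRing R] [Algebra k R] {𝒜 : ℤ → AddSubgroup R} [GradedRing 𝒜]
variable {R' : Type u} [CommRing R'] [Algebra k R'] {𝒜' : ℤ → AddSubgroup R'} [GradedRing 𝒜']
variable {φ : R' →+* R} {ψ : ℤ →+ ℤ}

/-- the comparison map on `*H^p` as an `IsVer` structure. -/
theorem exists_isVer_H [IsNoetherianRing R] (hR : IsVerRing 𝒜 𝒜' φ ψ) (b : HomogeneousIdeal 𝒜)
    (b' : HomogeneousIdeal 𝒜')
    (h1 : b'.toIdeal.map φ ≤ b.toIdeal) (h2 : ∃ K, b.toIdeal ^ K ≤ b'.toIdeal.map φ)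
    {N : Type u} [AddCommGroup N] [Module R N] {𝒩 : ℤ → AddSubgroup N}
    [DirectSum.Decomposition 𝒩] [SetLike.GradedSMul 𝒜 𝒩]
    {N' : Type u} [AddCommGroup N'] [Module R' N'] {𝒩' : ℤ → AddSubgroup N'}
    [DirectSum.Decomposition 𝒩'] [SetLike.GradedSMul 𝒜' 𝒩']
    {g : N' →ₛₗ[φ] N} (hV : IsVer φ ψ 𝒩 𝒩' g) (E : StarInjRes 𝒜 𝒩) (F : StarInjRes 𝒜' 𝒩')
    (p : ℕ) [DirectSum.Decomposition (E.Hgr b p)] [DirectSum.Decomposition (F.Hgr b' p)] :
    ∃ Φ : F.H b' p →ₛₗ[φ] E.H b p, IsVer φ ψ (E.Hgr b p) (F.Hgr b' p) Φ := by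
  obtain ⟨Φ, hinj, hd, hd'⟩ := claim_all hR b b' h1 h2 p N 𝒩 N' 𝒩' g hV E F
  refine ⟨Φ, hinj, fun j => ?_⟩
  ext y
  constructor
  · rintro ⟨x, hx, rfl⟩
    exact hd j x hx
  · intro hy
    obtain ⟨x, hx, hxy⟩ := hd' j y hy
    exact ⟨x, hx, hxy⟩

/-- **The *canonical module of a Veronese-type subring** is the Veronese-type submodule of the
*canonical module. -/
theorem exists_isVer_canonical [IsNoetherianRing R] [Nontrivial R] [Nontrivial R']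
    (hk : IsBase 𝒜 k) (hk' : IsBase 𝒜' k) (hR : IsVerRing 𝒜 𝒜' φ ψ)
    (hφk : ∀ c : k, φ (algebraMap k R' c) = algebraMap k R c)
    (hpos : ∀ n : ℤ, n < 0 → 𝒜 n = ⊥) (hpos' : ∀ n : ℤ, n < 0 → 𝒜' n = ⊥)
    (m : HomogeneousIdeal 𝒜)
    (hmsp : m.toIdeal = Ideal.span (⋃ n ∈ Set.Ioi (0 : ℤ), (𝒜 n : Set R)))
    (m' : HomogeneousIdeal 𝒜')
    (hm'sp : m'.toIdeal = Ideal.span (⋃ n ∈ Set.Ioi (0 : ℤ), (𝒜' n : Set R')))
    (h1 : m'.toIdeal.map φ ≤ m.toIdeal) (h2 : ∃ K, m.toIdeal ^ K ≤ m'.toIdeal.map φ)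
    (n : ℕ) (I : StarInjRes 𝒜 𝒜) (I' : StarInjRes 𝒜' 𝒜')
    {E' : Type u} [AddCommGroup E'] [Module R E'] (𝓔 : ℤ → AddSubgroup E')
    [DirectSum.Decomposition 𝓔] [SetLike.GradedSMul 𝒜 𝓔]
    (e : (R ⧸ m.toIdeal) →ₗ[R] E') (he : IsStarInjHull 𝒜 (quotGr 𝒜 m) 𝓔 e)
    {C : Type u} [AddCommGroup C] [Module R C] (𝒞 : ℤ → AddSubgroup C)
    [DirectSum.Decomposition 𝒞] [SetLike.GradedSMul 𝒜 𝒞] (hC : IsStarCanonical 𝒜 𝒞 𝓔 m n I)
    {E'' : Type u} [AddCommGroup E''] [Module R' E''] (𝓔'' : ℤ → AddSubgroup E'')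
    [DirectSum.Decomposition 𝓔''] [SetLike.GradedSMul 𝒜' 𝓔'']
    (e' : (R' ⧸ m'.toIdeal) →ₗ[R'] E'') (he' : IsStarInjHull 𝒜' (quotGr 𝒜' m') 𝓔'' e')
    {C' : Type u} [AddCommGroup C'] [Module R' C'] (𝒞' : ℤ → AddSubgroup C')
    [DirectSum.Decomposition 𝒞'] [SetLike.GradedSMul 𝒜' 𝒞']
    (hC' : IsStarCanonical 𝒜' 𝒞' 𝓔'' m' n I') :
    ∃ g : C' →ₛₗ[φ] C, Function.Injective g ∧ ∀ j : ℤ, (𝒞' j).map (g : C' →+ C) = 𝒞 (ψ j) := by
  haveI : IsNoetherianRing R' := hR.isNoetherianRing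
  letI : Module k E' := Module.compHom E' (algebraMap k R)
  haveI : IsScalarTower k R E' := IsScalarTower.of_algebraMap_smul (fun r x => rfl)
  letI : Module k C := Module.compHom C (algebraMap k R)
  haveI : IsScalarTower k R C := IsScalarTower.of_algebraMap_smul (fun r x => rfl)
  letI : Module k (I.H m n) := Module.compHom (I.H m n) (algebraMap k R)
  haveI : IsScalarTower k R (I.H m n) := IsScalarTower.of_algebraMap_smul (fun r x => rfl)
  letI : Module k E'' := Module.compHom E'' (algebraMap k R')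
  haveI : IsScalarTower k R' E'' := IsScalarTower.of_algebraMap_smul (fun r x => rfl)
  letI : Module k C' := Module.compHom C' (algebraMap k R')
  haveI : IsScalarTower k R' C' := IsScalarTower.of_algebraMap_smul (fun r x => rfl)
  letI : Module k (I'.H m' n) := Module.compHom (I'.H m' n) (algebraMap k R')
  haveI : IsScalarTower k R' (I'.H m' n) := IsScalarTower.of_algebraMap_smul (fun r x => rfl)
  letI : DirectSum.Decomposition (I.Hgr m n) := (Hgr_isInternal 𝒜 𝒜 I m n).chooseDecomposition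
  letI : DirectSum.Decomposition (I'.Hgr m' n) :=
    (Hgr_isInternal 𝒜' 𝒜' I' m' n).chooseDecomposition
  haveI : SetLike.GradedSMul 𝒜 (I.Hgr m n) := Hgr_gradedSMul I m n
  haveI : SetLike.GradedSMul 𝒜' (I'.Hgr m' n) := Hgr_gradedSMul I' m' n
  obtain ⟨β, hD⟩ := exists_pairing_canonical hk 𝓔 𝒞 hpos m hmsp e he n I hC
  obtain ⟨β', hD'⟩ := exists_pairing_canonical hk' 𝓔'' 𝒞' hpos' m' hm'sp e' he' n I' hC'
  obtain ⟨Φ, hΦ⟩ := exists_isVer_H hR m m' h1 h2 hR.isVer I I' n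
  exact exists_isVer_dual hR hφk hD hD' hΦ

end Groth.Agent.Lib.Helper11.GrVer
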