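import Groth.Agent.Lib.Helper11.GrVerJ
import Groth.Agent.Lib.Helper11.GrCanB

/-!
# The Veronese-type submodule of the *injective hull of the residue field is *injective
-/

set_option autoImplicit false
set_option linter.unusedSectionVars false
set_option linter.unusedVariables false
set_option linter.style.haveILetI false
universe u

namespace Groth.Agent.Lib.Helper11.GrVer

open DirectSum GrLC GrSeg Groth.Agent.Lib.Helper11.GrLCLib Groth.Agent.Lib.Helper11.GrDual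
  Groth.Agent.Lib.Helper11.GrField

variable {k : Type u} [Field k]
variable {R : Type u} [CommRing R] [Algebra k R] {𝒜 : ℤ → AddSubgroup R} [GradedRing 𝒜]
variable {R' : Type u} [CommRing R'] [Algebra k R'] {𝒜' : ℤ → AddSubgroup R'} [GradedRing 𝒜']
variable {φ : R' →+* R} {ψ : ℤ →+ ℤ}

attribute [local instance] subKGradedAlgebra

section Dual

variable {E' : Type u} [AddCommGroup E'] [Module R E'] [Module k E'] [IsScalarTower k R E']
  {𝓔 : ℤ → AddSubgroup E'} [DirectSum.Decomposition 𝓔] [SetLike.GradedSMul 𝒜 𝓔]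
variable {V : Type u} [AddCommGroup V] [Module R' V] [Module k V] [IsScalarTower k R' V]
  {𝒱 : ℤ → AddSubgroup V} [DirectSum.Decomposition 𝒱] [SetLike.GradedSMul 𝒜' 𝒱]
variable {gV : V →ₛₗ[φ] E'}

lemma gV_ksmul (hφk : ∀ c : k, φ (algebraMap k R' c) = algebraMap k R c) (gV : V →ₛₗ[φ] E')
    (c : k) (v : V) : gV (c • v) = c • gV v := by
  rw [← algebraMap_smul R' c v, map_smulₛₗ, hφk, algebraMap_smul]

lemma φ_ksmul (hφk : ∀ c : k, φ (algebraMap k R' c) = algebraMap k R c) (c : k) (r : R') :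
    φ (c • r) = c • φ r := by
  rw [Algebra.smul_def, map_mul, hφk, ← Algebra.smul_def]

/-- The Veronese-type submodule of a graded dual of `R` is a graded dual of `R'`. -/
theorem exists_pairing_ver (hk : IsBase 𝒜 k) (hk' : IsBase 𝒜' k) (hR : IsVerRing 𝒜 𝒜' φ ψ)
    (hφk : ∀ c : k, φ (algebraMap k R' c) = algebraMap k R c)
    {βE : E' →ₗ[k] R →ₗ[k] k} (hE : IsGDual R (subK hk) 𝓔 βE) (hV : IsVer φ ψ 𝓔 𝒱 gV) :
    ∃ β'' : V →ₗ[k] R' →ₗ[k] k, IsGDual R' (subK hk') 𝒱 β'' := by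
  let β'' : V →ₗ[k] R' →ₗ[k] k := LinearMap.mk₂ k (fun v r => βE (gV v) (φ r))
    (fun v v' r => by rw [map_add, map_add, LinearMap.add_apply])
    (fun c v r => by rw [gV_ksmul hφk, map_smul, LinearMap.smul_apply])
    (fun v r r' => by rw [map_add, map_add])
    (fun c v r => by rw [φ_ksmul hφk, map_smul])
  have hβ : ∀ v r, β'' v r = βE (gV v) (φ r) := fun v r => rfl
  have hVR := hR.isVer
  refine ⟨β'', ?_, ?_, ?_, ?_⟩
  · intro r v s
    rw [hβ, hβ, map_smulₛₗ, hE.map_smul, smul_eq_mul, smul_eq_mul, map_mul φ]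
  · intro n v hv i hi s hs
    rw [hβ]
    refine hE.vanish (ψ n) (gV v) (hV.map_mem hv) (ψ i) ?_ (φ s) (hR.map_mem ((mem_subK hk').mp hs))
    intro e
    apply hi
    apply hR.ψinj
    rw [e, map_neg]
  · intro n v hv h
    apply hV.inj
    rw [map_zero]
    apply hE.eq_zero (ψ n) (gV v) (hV.map_mem hv)
    intro s hs
    have hs' : s ∈ 𝒜 (ψ (-n)) := by rw [map_neg]; exact (mem_subK hk).mp hs
    obtain ⟨s', hs'm, rfl⟩ := hVR.exists_of_mem hs'
    exact h s' hs'm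
  · intro n l
    obtain ⟨d, hd, hdl⟩ := hE.exists_eq (ψ n) (l.comp (retrK hR hφk hVR))
    obtain ⟨v, hv, rfl⟩ := hV.exists_of_mem hd
    refine ⟨v, hv, fun s hs => ?_⟩
    rw [hβ]
    have hs' : φ s ∈ subK hk (-(ψ n)) := by
      have := hR.map_mem ((mem_subK hk').mp hs)
      rwa [map_neg] at this
    rw [hdl (φ s) hs']
    change l (hVR.retr (ringSL φ s)) = l s
    rw [hVR.retr_g]

/-- The Veronese-type submodule of the *injective hull of `R/R_+` is *injective over `R'`. -/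
theorem isStarInj_ver_hull [Nontrivial R] (hk : IsBase 𝒜 k) (hk' : IsBase 𝒜' k)
    (hR : IsVerRing 𝒜 𝒜' φ ψ) (hφk : ∀ c : k, φ (algebraMap k R' c) = algebraMap k R c)
    (hpos : ∀ n : ℤ, n < 0 → 𝒜 n = ⊥) (m : HomogeneousIdeal 𝒜)
    (hmsp : m.toIdeal = Ideal.span (⋃ n ∈ Set.Ioi (0 : ℤ), (𝒜 n : Set R)))
    (e : (R ⧸ m.toIdeal) →ₗ[R] E') (he : IsStarInjHull 𝒜 (quotGr 𝒜 m) 𝓔 e)
    (hV : IsVer φ ψ 𝓔 𝒱 gV) : IsStarInj 𝒜' 𝒱 := by
  obtain ⟨βE, hE⟩ := exists_pairing_hull hk 𝓔 hpos m hmsp e he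
  obtain ⟨β'', hD⟩ := exists_pairing_ver hk hk' hR hφk hE hV
  haveI : SetLike.GradedSMul (subK hk') 𝒱 := gradedSMul_K hk' 𝒱
  exact isStarInj_unK hk' 𝒱 (isStarInj_gdual (subK hk') 𝒱 β'' hD)

end Dual

section Iso

variable {H : Type u} [AddCommGroup H] [Module R H] {ℋ : ℤ → AddSubgroup H}
  [DirectSum.Decomposition ℋ] [SetLike.GradedSMul 𝒜 ℋ]
variable {H' : Type u} [AddCommGroup H'] [Module R' H'] {ℋ' : ℤ → AddSubgroup H'}
  [DirectSum.Decomposition ℋ'] [SetLike.GradedSMul 𝒜' ℋ']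
variable {E' : Type u} [AddCommGroup E'] [Module R E'] {𝓔 : ℤ → AddSubgroup E'}
  [DirectSum.Decomposition 𝓔] [SetLike.GradedSMul 𝒜 𝓔]
variable {V : Type u} [AddCommGroup V] [Module R' V] {𝒱 : ℤ → AddSubgroup V}
  [DirectSum.Decomposition 𝒱] [SetLike.GradedSMul 𝒜' 𝒱]
variable {Φ : H' →ₛₗ[φ] H} {gV : V →ₛₗ[φ] E'}

/-- A homogeneous isomorphism (of a degree in the range of `ψ`) induces a homogeneous isomorphism
of Veronese-type submodules. -/
theorem exists_ver_equiv (hR : IsVerRing 𝒜 𝒜' φ ψ) (hΦ : IsVer φ ψ ℋ ℋ' Φ)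
    (hV : IsVer φ ψ 𝓔 𝒱 gV) (θ : H ≃ₗ[R] E') (g' : ℤ)
    (hθ : IsGrHomDeg ℋ 𝓔 θ.toLinearMap (ψ g')) :
    ∃ χ : H' ≃ₗ[R'] V, ∀ j x, x ∈ ℋ' j → χ x ∈ 𝒱 (j + g') := by
  have hθs := Groth.Agent.Lib.Helper11.GrCan.isGrHomDeg_symm θ hθ
  let χ₀ : H' →ₗ[R'] V :=
    { toFun := fun x => hV.retr (θ (Φ x))
      map_add' := fun x y => by rw [map_add, map_add, map_add]
      map_smul' := fun r x => by
        rw [map_smulₛₗ, map_smul, hV.retr_smul hR]
        rfl }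
  have hχ₀ : ∀ x, χ₀ x = hV.retr (θ (Φ x)) := fun x => rfl
  have hmem : ∀ j x, x ∈ ℋ' j → θ (Φ x) ∈ 𝓔 (ψ (j + g')) := by
    intro j x hx
    rw [map_add]
    exact hθ (ψ j) _ (hΦ.map_mem hx)
  have hg : ∀ x, gV (χ₀ x) = θ (Φ x) := by
    intro x
    rw [hχ₀, hV.g_retr]
    induction x using DirectSum.Decomposition.inductionOn ℋ' with
    | zero => simp
    | @homogeneous j x =>
      exact vproj_of_mem_pos 𝓔 _ (hmem j x x.2) (Set.mem_range_self _)
    | add x y hx hy => rw [map_add, map_add, map_add, hx, hy]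
  have hinj : Function.Injective χ₀ := by
    intro x y hxy
    apply hΦ.inj
    apply θ.injective
    rw [← hg, ← hg, hxy]
  have hsurj : Function.Surjective χ₀ := by
    intro v
    induction v using DirectSum.Decomposition.inductionOn 𝒱 with
    | zero => exact ⟨0, map_zero _⟩
    | @homogeneous i v =>
      have h1 : θ.symm (gV (v : V)) ∈ ℋ (ψ (i + -g')) := by
        have := hθs (ψ i) _ (hV.map_mem v.2)
        rwa [map_add, map_neg]
      obtain ⟨x, hx, hxe⟩ := hΦ.exists_of_mem h1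
      refine ⟨x, ?_⟩
      apply hV.inj
      rw [hg, hxe, θ.apply_symm_apply]
    | add v w hv hw =>
      obtain ⟨x, hx⟩ := hv
      obtain ⟨y, hy⟩ := hw
      exact ⟨x + y, by rw [map_add, hx, hy]⟩
  refine ⟨LinearEquiv.ofBijective χ₀ ⟨hinj, hsurj⟩, ?_⟩
  intro j x hx
  apply hV.mem_of_map_mem hR.ψinj
  change gV (χ₀ x) ∈ 𝓔 (ψ (j + g'))
  rw [hg]
  exact hmem j x hx

end Iso

end Groth.Agent.Lib.Helper11.GrVer
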