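import Groth.Agent.Lib.Helper11.GrVerL
import Groth.Agent.Lib.Helper12.IntegralDim

/-!
# Dimension of Veronese-type subrings
-/

set_option autoImplicit false
set_option linter.unusedSectionVars false
set_option linter.unusedVariables false
set_option linter.style.haveILetI false
universe u

namespace Groth.Agent.Lib.Helper11.GrVer

open DirectSum GrLC

variable {ι ι' : Type} [AddCommGroup ι] [DecidableEq ι] [AddCommGroup ι'] [DecidableEq ι']
variable {R : Type u} [CommRing R] {𝒜 : ι → AddSubgroup R} [GradedRing 𝒜]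
variable {R' : Type u} [CommRing R'] {𝒜' : ι' → AddSubgroup R'} [GradedRing 𝒜']
variable {φ : R' →+* R} {ψ : ι' →+ ι}

/-- If some power of every homogeneous element of `R` lies in the image of `R'`, the dimensions
agree. -/
theorem ringKrullDim_eq_of_pow_mem (hR : IsVerRing 𝒜 𝒜' φ ψ)
    (hpow : ∀ (i : ι) (x : R), x ∈ 𝒜 i → ∃ N : ℕ, 0 < N ∧ x ^ N ∈ Set.range φ) :
    ringKrullDim R' = ringKrullDim R := by
  classical
  letI : Algebra R' R := φ.toAlgebra
  have hint : Algebra.IsIntegral R' R := by
    refine ⟨fun x => ?_⟩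
    rw [← DirectSum.sum_support_decompose 𝒜 x]
    apply IsIntegral.sum
    intro i _
    obtain ⟨N, hN, r, hr⟩ := hpow i _ (SetLike.coe_mem (decompose 𝒜 x i))
    apply IsIntegral.of_pow hN
    rw [← hr]
    exact isIntegral_algebraMap
  exact Groth.Agent.Lib.Helper12.ringKrullDim_eq_of_isIntegral_of_injective R' R hR.inj

end Groth.Agent.Lib.Helper11.GrVer
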