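import Groth.Agent.Lib.Helper11.GrVerN
import Groth.Agent.Lib.Helper11.GrCanF
import Groth.Agent.Lib.Helper11.GrStdB
import Groth.Agent.Lib.Helper11.GrLesD

/-!
# A Cohen–Macaulay standard graded ring of dimension `≥ 2` with a Gorenstein Veronese subring is
Gorenstein
-/

set_option autoImplicit false
set_option linter.unusedSectionVars false
set_option linter.unusedVariables false
set_option linter.style.haveILetI false
set_option maxHeartbeats 1600000
universe u

namespace Groth.Agent.Lib.Helper11.GrVer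

open DirectSum GrLC GrSeg Groth.Agent.Lib.Helper11.GrLCLib Groth.Agent.Lib.Helper11.GrDual
  Groth.Agent.Lib.Helper11.GrField Groth.Agent.Lib.Helper11.GrCan Groth.Agent.Lib.Helper11.GrLes
  TensorProduct

variable {k : Type u} [Field k]
variable {R : Type u} [CommRing R] [Algebra k R] {𝒜 : ℤ → AddSubgroup R} [GradedRing 𝒜]
variable {R' : Type u} [CommRing R'] [Algebra k R'] {𝒜' : ℤ → AddSubgroup R'} [GradedRing 𝒜']
variable {φ : R' →+* R}

/-- degree bookkeeping: for every `d` there is `N ≥ 0` with `N + d` a multiple of `q`. -/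
lemma exists_nat_add_eq_mul (q : ℕ) (hq : 0 < q) (d : ℤ) :
    ∃ (N : ℕ) (j : ℤ), (N : ℤ) + d = j * q := by
  have hq' : (0 : ℤ) < q := by exact_mod_cast hq
  refine ⟨((-d) % (q : ℤ)).toNat, -((-d) / (q : ℤ)), ?_⟩
  have h1 : 0 ≤ (-d) % (q : ℤ) := Int.emod_nonneg _ hq'.ne'
  rw [Int.toNat_of_nonneg h1]
  have h2 := Int.emod_add_mul_ediv (-d) (q : ℤ)
  linarith [mul_comm ((-d) / (q : ℤ)) (q : ℤ)]

theorem isGorensteinRing_of_veronese_gorenstein [hCM : LocCoh.IsCohenMacaulayRing R]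
    [hG' : LocCoh.IsGorensteinRing R'] [Nontrivial R] [Nontrivial R']
    (hk : IsBase 𝒜 k) (hk' : IsBase 𝒜' k) (q : ℕ) (hq : 0 < q)
    (hR : IsVerRing 𝒜 𝒜' φ (AddMonoidHom.mulRight (q : ℤ)))
    (hφk : ∀ c : k, φ (algebraMap k R' c) = algebraMap k R c)
    (hpos : ∀ n : ℤ, n < 0 → 𝒜 n = ⊥) (hpos' : ∀ n : ℤ, n < 0 → 𝒜' n = ⊥)
    (m : HomogeneousIdeal 𝒜) (hm : IsStarLocal 𝒜 m)
    (hmsp : m.toIdeal = Ideal.span (⋃ n ∈ Set.Ioi (0 : ℤ), (𝒜 n : Set R)))
    (hstd : Ideal.span (⋃ n ∈ Set.Ioi (0 : ℤ), (𝒜 n : Set R)) =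
      Ideal.span ((𝒜 1 : AddSubgroup R) : Set R))
    (n : ℕ) (hn : ringKrullDim R = n) (h2n : 2 ≤ n) (I : StarInjRes 𝒜 𝒜)
    (m' : HomogeneousIdeal 𝒜')
    (hm'sp : m'.toIdeal = Ideal.span (⋃ n ∈ Set.Ioi (0 : ℤ), (𝒜' n : Set R')))
    (h1 : m'.toIdeal.map φ ≤ m.toIdeal) (h2 : ∃ K, m.toIdeal ^ K ≤ m'.toIdeal.map φ) :
    LocCoh.IsGorensteinRing R ∧ ∃ a' : ℤ, IsTopDeg (I.Hgr m n) (a' * q) := by
  classical
  haveI : IsNoetherianRing R := hCM.toIsNoetherian
  haveI : IsNoetherianRing R' := hR.isNoetherianRing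
  haveI hmax := Groth.Agent.Lib.Helper11.GrLes.isMaximal_of_isCoatom 𝒜 hpos hm.1
  have hht := Groth.Agent.Lib.Helper11.GrLes.ringKrullDim_eq_height 𝒜 hpos hm
  rw [hn] at hht
  have hht' : m.toIdeal.height = (n : ℕ∞) := by
    have : ((m.toIdeal.height : ℕ∞) : WithBot ℕ∞) = ((n : ℕ∞) : WithBot ℕ∞) := hht.symm
    exact_mod_cast this
  have hlowR : ∀ i, i < n → Subsingleton (I.H m i) := fun i hi =>
    Groth.Agent.Lib.Helper11.GrLes.subsingleton_H_of_lt_height 𝒜 m hmax I n hht'.ge i hi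
  have hm' : IsStarLocal 𝒜' m' := isStarLocal_irrelevant hk' hpos' m' hm'sp
  haveI hmax' := Groth.Agent.Lib.Helper11.GrLes.isMaximal_of_isCoatom 𝒜' hpos' hm'.1
  have hdim' : ringKrullDim R' = n := by rw [ringKrullDim_veronese q hq hR, hn]
  have hht2 := Groth.Agent.Lib.Helper11.GrLes.ringKrullDim_eq_height 𝒜' hpos' hm'
  rw [hdim'] at hht2
  have hht2' : m'.toIdeal.height = (n : ℕ∞) := by
    have : ((m'.toIdeal.height : ℕ∞) : WithBot ℕ∞) = ((n : ℕ∞) : WithBot ℕ∞) := hht2.symm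
    exact_mod_cast this
  obtain ⟨I'⟩ := nonempty_starInjRes 𝒜' 𝒜'
  -- the hulls
  letI := quotDecomposition 𝒜 (m.toIdeal : Submodule R R) m.isHomogeneous
  obtain ⟨Xh, e, he⟩ := exists_isStarInjHull 𝒜 (quotGrM 𝒜 (m.toIdeal : Submodule R R))
  rw [← Groth.Agent.Lib.Helper11.GrGor.quotGr_eq_quotGrM 𝒜 m] at he
  letI := quotDecomposition 𝒜' (m'.toIdeal : Submodule R' R') m'.isHomogeneous
  obtain ⟨Xh', e', he'⟩ := exists_isStarInjHull 𝒜' (quotGrM 𝒜' (m'.toIdeal : Submodule R' R'))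
  rw [← Groth.Agent.Lib.Helper11.GrGor.quotGr_eq_quotGrM 𝒜' m'] at he'
  letI : Module k Xh.carrier := Module.compHom Xh.carrier (algebraMap k R)
  haveI : IsScalarTower k R Xh.carrier := IsScalarTower.of_algebraMap_smul (fun r x => rfl)
  letI : Module k Xh'.carrier := Module.compHom Xh'.carrier (algebraMap k R')
  haveI : IsScalarTower k R' Xh'.carrier := IsScalarTower.of_algebraMap_smul (fun r x => rfl)
  -- the canonical modules
  obtain ⟨X, hC⟩ := exists_isStarCanonical hk Xh.gr hpos m hmsp e he n I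
  obtain ⟨X', hC'⟩ := exists_isStarCanonical hk' Xh'.gr hpos' m' hm'sp e' he' n I'
  obtain ⟨g, hg, hgdeg⟩ := exists_isVer_canonical hk hk' hR hφk hpos hpos' m hmsp m' hm'sp h1 h2 n I
    I' Xh.gr e he X.gr hC Xh'.gr e' he' X'.gr hC'
  obtain ⟨a', ha'⟩ := exists_isTopDeg_of_gorenstein 𝒜' hpos' m' hm' n hht2' I'
  obtain ⟨f', hf', hf'deg⟩ := exists_bijective_of_gorenstein 𝒜' Xh'.gr X'.gr hpos' m' hm' n hht2' I'
    e' he' hC' a' ha'
  -- the generator
  have hgmem : ∀ (j : ℤ) (x : X'.carrier), x ∈ X'.gr j → g x ∈ X.gr (j * q) := by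
    intro j x hx
    have : g x ∈ (X'.gr j).map (g : X'.carrier →+ X.carrier) := ⟨x, hx, rfl⟩
    rw [hgdeg j] at this
    exact this
  have hf1 : f' 1 ∈ X'.gr (-a') := by
    have := hf'deg 0 1 SetLike.GradedOne.one_mem
    rwa [zero_add] at this
  set w : X.carrier := g (f' 1) with hwdef
  have hw : w ∈ X.gr (-a' * q) := hgmem (-a') _ hf1
  let F : R →ₗ[R] X.carrier := LinearMap.toSpanSingleton R X.carrier w
  have hFapply : ∀ r, F r = r • w := fun r => LinearMap.toSpanSingleton_apply R X.carrier w r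
  have hFφ : ∀ r' : R', F (φ r') = g (f' r') := by
    intro r'
    rw [hFapply, hwdef, ← map_smulₛₗ g, ← map_smul f', smul_eq_mul, mul_one]
  have hFdeg : IsGrHomDeg 𝒜 X.gr F (-a' * q) := isGrHomDeg_toSpanSingleton X.gr 𝒜 hw
  have hgf'inj : ∀ r' : R', g (f' r') = 0 → r' = 0 := by
    intro r' h
    have h3 : f' r' = 0 := hg (by rw [h, map_zero])
    exact hf'.1 (by rw [h3, map_zero])
  -- elements in Veronese degrees are in the range
  have hver : ∀ (j : ℤ) (x : X.carrier), x ∈ X.gr (j * q) → ∃ r' : R', F (φ r') = x := by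
    intro j x hx
    have hx' : x ∈ (X'.gr j).map (g : X'.carrier →+ X.carrier) := by
      rw [hgdeg j]; exact hx
    obtain ⟨x', -, hx'x⟩ := hx'
    obtain ⟨r', hr'⟩ := hf'.2 x'
    refine ⟨r', ?_⟩
    rw [hFφ, hr']
    exact hx'x
  have hAver : ∀ (j : ℤ) (y : R), y ∈ 𝒜 (j * q) → ∃ r' : R', φ r' = y := by
    intro j y hy
    have hy' : y ∈ (𝒜' j).map (φ : R' →+ R) := by
      rw [hR.deg j]; exact hy
    obtain ⟨r', -, hr'⟩ := hy'
    exact ⟨r', hr'⟩
  -- `Γ_m(R) = 0`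
  have hgamR : ∀ r : R, r ∈ gam m.toIdeal R → r = 0 := by
    intro r hr
    have hsub := hlowR 0 (by omega)
    have := Groth.Agent.Lib.Helper11.GrShift.h0_injective I m
      (hsub.elim (Groth.Agent.Lib.Helper11.GrShift.h0 I m ⟨r, hr⟩)
        (Groth.Agent.Lib.Helper11.GrShift.h0 I m 0))
    exact congrArg Subtype.val this
  -- injectivity
  have hFinj : Function.Injective F := by
    rw [injective_iff_map_eq_zero]
    intro r hr
    have hker := ker_isHomogeneous_deg 𝒜 X.gr hFdeg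
    have hcomp : ∀ d, (decompose 𝒜 r d : R) = 0 := by
      intro d
      have hrd : (decompose 𝒜 r d : R) ∈ LinearMap.ker F := hker d (LinearMap.mem_ker.mpr hr)
      rw [LinearMap.mem_ker] at hrd
      obtain ⟨N, j, hNj⟩ := exists_nat_add_eq_mul q hq d
      apply hgamR
      apply Groth.Agent.Lib.Helper11.GrStd.mem_gam_of_piece_smul_eq_zero 𝒜 hstd m hmsp N
      intro y hy
      have hyr : y * (decompose 𝒜 r d : R) ∈ 𝒜 (j * q) := by
        rw [← hNj]
        exact SetLike.GradedMul.mul_mem hy (SetLike.coe_mem _)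
      obtain ⟨r', hr'⟩ := hAver j _ hyr
      have h3 : F (φ r') = 0 := by
        rw [hr', ← smul_eq_mul, map_smul, hrd, smul_zero]
      rw [hFφ] at h3
      rw [smul_eq_mul, ← hr', hgf'inj r' h3, map_zero]
    rw [← DirectSum.sum_support_decompose 𝒜 r]
    exact Finset.sum_eq_zero (fun d _ => hcomp d)
  -- `Γ_m(X) = 0`
  letI : Module k X.carrier := Module.compHom X.carrier (algebraMap k R)
  haveI : IsScalarTower k R X.carrier := IsScalarTower.of_algebraMap_smul (fun r x => rfl)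
  have hgamX := gam_canonical_eq_bot hk Xh.gr X.gr hpos m hmsp e he n hn (by omega) I hC
  have hgamX' : ∀ z : X.carrier, z ∈ gam m.toIdeal X.carrier → z = 0 := by
    intro z hz
    rw [hgamX] at hz
    exact (Submodule.mem_bot R).mp hz
  -- the cokernel
  letI dXs : DirectSum.Decomposition (shiftGr X.gr (-a' * q)) := shiftDecomposition X.gr (-a' * q)
  have hFgr : IsGrHom 𝒜 (shiftGr X.gr (-a' * q)) F := fun j r hr => hFdeg j r hr
  have hrange : (LinearMap.range F).IsHomogeneous (shiftGr X.gr (-a' * q)) :=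
    range_isHomogeneous 𝒜 (shiftGr X.gr (-a' * q)) hFgr
  letI dT : DirectSum.Decomposition (quotGrM (shiftGr X.gr (-a' * q)) (LinearMap.range F)) :=
    quotDecomposition (shiftGr X.gr (-a' * q)) (LinearMap.range F) hrange
  obtain ⟨EX⟩ := nonempty_starInjRes 𝒜 (shiftGr X.gr (-a' * q))
  obtain ⟨ET⟩ := nonempty_starInjRes 𝒜 (quotGrM (shiftGr X.gr (-a' * q)) (LinearMap.range F))
  have hmkQgr := mkQ_isGrHom (shiftGr X.gr (-a' * q)) (LinearMap.range F)
  obtain ⟨cu, hcu, hlu⟩ := exists_cmap I EX F 0 ((isGrHomDeg_zero_iff _ _).mpr hFgr)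
  obtain ⟨cv, hcv, hlv⟩ := exists_cmap EX ET (LinearMap.range F).mkQ 0
    ((isGrHomDeg_zero_iff _ _).mpr hmkQgr)
  obtain ⟨γ, -, -, hex2, -, -⟩ := exists_les I EX ET F (LinearMap.range F).mkQ hFgr hmkQgr hFinj
    (Submodule.mkQ_surjective _) (Submodule.ker_mkQ _) m cu hcu hlu cv hcv hlv
  have hEX0 : Subsingleton (EX.H m 0) := by
    refine ⟨fun x y => ?_⟩
    obtain ⟨x', rfl⟩ := Groth.Agent.Lib.Helper11.GrShift.h0_surjective EX m x
    obtain ⟨y', rfl⟩ := Groth.Agent.Lib.Helper11.GrShift.h0_surjective EX m y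
    have hx' : (x' : X.carrier) = 0 := hgamX' _ x'.2
    have hy' : (y' : X.carrier) = 0 := hgamX' _ y'.2
    have : x' = y' := Subtype.ext (hx'.trans hy'.symm)
    rw [this]
  have hET0 : Subsingleton (ET.H m 0) := by
    refine ⟨fun x y => ?_⟩
    have hI1 := hlowR 1 (by omega)
    have key : ∀ z : ET.H m 0, z = 0 := by
      intro z
      have : γ 0 z = 0 := hI1.elim _ _
      obtain ⟨z', hz'⟩ := (hex2 0 z).mp this
      rw [← hz', hEX0.elim z' 0, map_zero]
    rw [key x, key y]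
  have hgamT : ∀ t : X.carrier ⧸ LinearMap.range F, t ∈ gam m.toIdeal _ → t = 0 := by
    intro t ht
    have := Groth.Agent.Lib.Helper11.GrShift.h0_injective ET m
      (hET0.elim (Groth.Agent.Lib.Helper11.GrShift.h0 ET m ⟨t, ht⟩)
        (Groth.Agent.Lib.Helper11.GrShift.h0 ET m 0))
    exact congrArg Subtype.val this
  -- surjectivity
  have hFsurj : Function.Surjective F := by
    rw [← LinearMap.range_eq_top, eq_top_iff]
    intro x _
    rw [← Submodule.Quotient.mk_eq_zero]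
    have hcomp : ∀ d, (Submodule.Quotient.mk (decompose X.gr x d : X.carrier) :
        X.carrier ⧸ LinearMap.range F) = 0 := by
      intro d
      obtain ⟨N, j, hNj⟩ := exists_nat_add_eq_mul q hq d
      apply hgamT
      apply Groth.Agent.Lib.Helper11.GrStd.mem_gam_of_piece_smul_eq_zero 𝒜 hstd m hmsp N
      intro y hy
      have hyx : y • (decompose X.gr x d : X.carrier) ∈ X.gr (j * q) := by
        rw [← hNj]
        exact SetLike.GradedSMul.smul_mem (A := 𝒜) (B := X.gr) hy (SetLike.coe_mem _)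
      obtain ⟨r', hr'⟩ := hver j _ hyx
      rw [← Submodule.Quotient.mk_smul, Submodule.Quotient.mk_eq_zero]
      exact ⟨φ r', hr'⟩
    rw [← DirectSum.sum_support_decompose X.gr x]
    have : (Submodule.Quotient.mk (∑ d ∈ (decompose X.gr x).support,
        (decompose X.gr x d : X.carrier)) : X.carrier ⧸ LinearMap.range F) =
        ∑ d ∈ (decompose X.gr x).support, Submodule.Quotient.mk (decompose X.gr x d : X.carrier) :=
      map_sum (LinearMap.range F).mkQ _ _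
    rw [this]
    exact Finset.sum_eq_zero (fun d _ => hcomp d)
  have hFbij : Function.Bijective F := ⟨hFinj, hFsurj⟩
  have hGR : LocCoh.IsGorensteinRing R :=
    isGorensteinRing_of_canonical_free 𝒜 Xh.gr X.gr m hm n hht' I he.starInj hC (-a' * q) F hFbij
      hFdeg
  refine ⟨hGR, -(-a'), ?_⟩
  -- the a-invariant
  haveI := hGR
  obtain ⟨a, ha⟩ := exists_isTopDeg_of_gorenstein 𝒜 hpos m hm n hht' I
  obtain ⟨f, hf, hfdeg⟩ := exists_bijective_of_gorenstein 𝒜 Xh.gr X.gr hpos m hm n hht' I e he hC a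
    ha
  let fe : R ≃ₗ[R] X.carrier := LinearEquiv.ofBijective f hf
  have hfe : IsGrHomDeg 𝒜 X.gr fe.toLinearMap (-a) := hfdeg
  have hfes := isGrHomDeg_symm fe hfe
  rw [neg_neg] at hfes
  let Fe : R ≃ₗ[R] X.carrier := LinearEquiv.ofBijective F hFbij
  have hFe : IsGrHomDeg 𝒜 X.gr Fe.toLinearMap (-a' * q) := hFdeg
  have hFes := isGrHomDeg_symm Fe hFe
  have h1R : (1 : R) ∈ 𝒜 0 := SetLike.GradedOne.one_mem
  have hu : fe.symm (Fe 1) ∈ 𝒜 (0 + -a' * q + a) := hfes _ _ (hFe 0 1 h1R)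
  have hu0 : fe.symm (Fe 1) ≠ 0 := by
    intro h
    have h3 : Fe 1 = 0 := fe.symm.map_eq_zero_iff.mp h
    exact one_ne_zero (Fe.map_eq_zero_iff.mp h3)
  have hv : Fe.symm (fe 1) ∈ 𝒜 (0 + -a + -(-a' * q)) := hFes _ _ (hfe 0 1 h1R)
  have hv0 : Fe.symm (fe 1) ≠ 0 := by
    intro h
    have h3 : fe 1 = 0 := Fe.symm.map_eq_zero_iff.mp h
    exact one_ne_zero (fe.map_eq_zero_iff.mp h3)
  have hge1 : ¬ (0 + -a' * q + a < 0) := fun hlt => by
    rw [hpos _ hlt, AddSubgroup.mem_bot] at hu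
    exact hu0 hu
  have hge2 : ¬ (0 + -a + -(-a' * q) < 0) := fun hlt => by
    rw [hpos _ hlt, AddSubgroup.mem_bot] at hv
    exact hv0 hv
  have hea : a = - -a' * q := by
    push Not at hge1 hge2
    linarith
  rw [← hea]
  exact ha

end Groth.Agent.Lib.Helper11.GrVer
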