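import Mathlib
import Groth.Prelude.Def_W4c2conddiscmodels

/-!
# Hirzebruch–Jung continued fractions: numerators / denominators and Wronskian identities
-/

set_option autoImplicit false

namespace Groth.Agent.Lib.Helper11.HJ

open HJFrac Finset

/-- Numerator and denominator of the Hirzebruch–Jung fraction `[b₁, …, b_λ]`. -/
def nd : List ℤ → ℤ × ℤ
  | [] => (1, 0)
  | b :: L => (b * (nd L).1 - (nd L).2, (nd L).1)

@[simp] lemma nd_nil : nd [] = (1, 0) := rfl
@[simp] lemma nd_cons (b : ℤ) (L : List ℤ) :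
    nd (b :: L) = (b * (nd L).1 - (nd L).2, (nd L).1) := rfl

lemma nd_pos (L : List ℤ) (h : ∀ c ∈ L, 2 ≤ c) : 0 ≤ (nd L).2 ∧ (nd L).2 < (nd L).1 := by
  induction L with
  | nil => simp
  | cons b L ih =>
    have hb : 2 ≤ b := h b (by simp)
    obtain ⟨h0, h1⟩ := ih (fun c hc => h c (by simp [hc]))
    simp only [nd_cons]
    constructor
    · linarith
    · nlinarith

lemma nd_coprime (L : List ℤ) : IsCoprime (nd L).1 (nd L).2 := by
  induction L with
  | nil => simp [isCoprime_one_left]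
  | cons b L ih =>
    simp only [nd_cons]
    have h1 : IsCoprime (-(nd L).2) (nd L).1 := ih.symm.neg_left
    have h2 := h1.add_mul_right_left b
    have e : b * (nd L).1 - (nd L).2 = -(nd L).2 + b * (nd L).1 := by ring
    rw [e]; exact h2

lemma hjVal_eq (L : List ℤ) (h : ∀ c ∈ L, 2 ≤ c) :
    hjVal L = ((nd L).1 : ℚ) / ((nd L).2 : ℚ) := by
  induction L with
  | nil => simp [hjVal]
  | cons b L ih =>
    obtain ⟨h0, h1⟩ := nd_pos L (fun c hc => h c (by simp [hc]))
    have hne : ((nd L).1 : ℚ) ≠ 0 := by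
      have : (0 : ℤ) < (nd L).1 := by linarith
      exact_mod_cast this.ne'
    simp only [hjVal, nd_cons, ih (fun c hc => h c (by simp [hc])), inv_div]
    push_cast
    field_simp

/-- The Wronskian identity. -/
lemma wronsk (L : List ℤ) : ∀ (x : ℕ → ℤ)
    (_ : ∀ j (hj : j < L.length), L[j] * x (j + 1) = x j + x (j + 2)),
    x 0 * (nd L).2 - x 1 * (nd L).1 = - x (L.length + 1) := by
  induction L with
  | nil => intro x _; simp
  | cons b L ih =>
    intro x hx
    have h0 : b * x 1 = x 0 + x 2 := by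
      have := hx 0 (by simp)
      simpa using this
    have ih' := ih (fun j => x (j + 1)) (fun j hj => by
      have := hx (j + 1) (by simpa using hj)
      simpa using this)
    simp only [nd_cons, List.length_cons]
    simp only [zero_add] at ih'
    have e : L.length + 1 + 1 = L.length + 2 := rfl
    rw [e]
    have e2 : x (L.length + 1 + 1) = x (L.length + 2) := rfl
    rw [e2] at ih'
    linear_combination ih' - (nd L).1 * h0

lemma sum_eq (L : List ℤ) : ∀ (x : ℕ → ℤ)
    (_ : ∀ j (hj : j < L.length), L[j] * x (j + 1) = x j + x (j + 2))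
    (_ : ∀ i, i ≤ L.length + 1 → x i ≠ 0),
    ∑ i ∈ Finset.range (L.length + 1), 1 / ((x i : ℚ) * (x (i + 1) : ℚ)) =
      ((nd L).1 : ℚ) / ((x 0 : ℚ) * (x (L.length + 1) : ℚ)) := by
  induction L with
  | nil => intro x _ _; simp
  | cons b L ih =>
    intro x hx hne
    have h0 : b * x 1 = x 0 + x 2 := by
      have := hx 0 (by simp)
      simpa using this
    have hx' : ∀ j (hj : j < L.length), L[j] * x (j + 1 + 1) = x (j + 1) + x (j + 2 + 1) := by
      intro j hj
      have := hx (j + 1) (by simpa using hj)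
      simpa using this
    have ih' := ih (fun j => x (j + 1)) hx' (fun i hi => hne (i + 1) (by
      simp only [List.length_cons]; omega))
    have hw := wronsk L (fun j => x (j + 1)) hx'
    simp only [zero_add] at ih' hw
    simp only [List.length_cons]
    rw [Finset.sum_range_succ', ih']
    simp only [nd_cons, zero_add]
    have n0 : (x 0 : ℚ) ≠ 0 := by exact_mod_cast hne 0 (by omega)
    have n1 : (x 1 : ℚ) ≠ 0 := by exact_mod_cast hne 1 (by simp)
    have ne : (x (L.length + 1 + 1) : ℚ) ≠ 0 := by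
      exact_mod_cast hne (L.length + 1 + 1) (by simp)
    have h0q : (b : ℚ) * x 1 = x 0 + x 2 := by exact_mod_cast h0
    have hwq : (x 1 : ℚ) * (nd L).2 - x (1 + 1) * (nd L).1 = - x (L.length + 1 + 1) := by
      exact_mod_cast hw
    push_cast
    field_simp
    have e2 : (x (1 + 1) : ℚ) = x 2 := rfl
    rw [e2] at hwq
    linear_combination hwq - ((nd L).1 : ℚ) * h0q

/-- Identification of numerator and denominator. -/
lemma eq_of_div_eq (n r : ℕ) (hr : 0 < r) (hcop : Nat.Coprime r n) (L : List ℤ)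
    (h : ∀ c ∈ L, 2 ≤ c) (hL : L ≠ [])
    (hhj : (n : ℚ) / r = hjVal L) : (nd L).1 = n ∧ (nd L).2 = r := by
  obtain ⟨h0, h1⟩ := nd_pos L h
  have hd : 0 < (nd L).2 := by
    cases L with
    | nil => exact absurd rfl hL
    | cons b L =>
      simp only [nd_cons]
      have := nd_pos L (fun c hc => h c (by simp [hc]))
      linarith
  rw [hjVal_eq L h] at hhj
  have hrq : (r : ℚ) ≠ 0 := by exact_mod_cast hr.ne'
  have hdq : ((nd L).2 : ℚ) ≠ 0 := by exact_mod_cast hd.ne'
  rw [div_eq_div_iff hrq hdq] at hhj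
  have hz : (n : ℤ) * (nd L).2 = (nd L).1 * (r : ℤ) := by exact_mod_cast hhj
  have hc1 : IsCoprime (n : ℤ) (r : ℤ) := (Nat.isCoprime_iff_coprime.mpr hcop).symm
  have hc2 := nd_coprime L
  have d1 : (nd L).1 ∣ (n : ℤ) := by
    apply hc2.dvd_of_dvd_mul_right
    rw [hz]; exact dvd_mul_right _ _
  have d2 : (n : ℤ) ∣ (nd L).1 := by
    apply hc1.dvd_of_dvd_mul_right
    rw [← hz]; exact dvd_mul_right _ _
  have hn : (nd L).1 = n := Int.dvd_antisymm (by linarith) (by positivity) d1 d2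
  refine ⟨hn, ?_⟩
  rw [hn] at hz
  have hn0 : (n : ℤ) ≠ 0 := by rw [← hn]; linarith
  have : (n : ℤ) * (nd L).2 = (n : ℤ) * r := by rw [hz]
  exact mul_left_cancel₀ hn0 this

/-- The list `[b 1, …, b l]`. -/
def lst (b : ℕ → ℤ) (l : ℕ) : List ℤ := (List.range l).map fun i => b (i + 1)

lemma lst_length (b : ℕ → ℤ) (l : ℕ) : (lst b l).length = l := by simp [lst]

lemma lst_getElem (b : ℕ → ℤ) (l : ℕ) (j : ℕ) (hj : j < (lst b l).length) :
    (lst b l)[j] = b (j + 1) := by simp [lst]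

lemma lst_ge (b : ℕ → ℤ) (l : ℕ) (hb : ∀ i, 1 ≤ i → i ≤ l → 2 ≤ b i) :
    ∀ c ∈ lst b l, 2 ≤ c := by
  intro c hc
  simp only [lst, List.mem_map, List.mem_range] at hc
  obtain ⟨i, hi, rfl⟩ := hc
  exact hb (i + 1) (by omega) (by omega)

lemma lst_ne_nil (b : ℕ → ℤ) (l : ℕ) (hl : 1 ≤ l) : lst b l ≠ [] := by
  intro h
  have := lst_length b l
  rw [h] at this
  simp at this
  omega

/-- The key relation `μ₁ n = r m₂ + m₁`, together with `num = n`. -/
lemma key (l : ℕ) (hl : 1 ≤ l) (b : ℕ → ℤ)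
    (hb : ∀ i, 1 ≤ i → i ≤ l → 2 ≤ b i)
    (n r : ℕ) (hr : 0 < r) (hcop : Nat.Coprime r n)
    (hhj : (n : ℚ) / r = HJFrac.hjVal ((List.range l).map fun i => b (i + 1)))
    (μ : ℕ → ℤ)
    (hsys : ∀ i, 1 ≤ i → i ≤ l → b i * μ i = μ (i - 1) + μ (i + 1)) :
    (nd (lst b l)).1 = n ∧ (nd (lst b l)).2 = r ∧
      (∀ j (hj : j < (lst b l).length), (lst b l)[j] * μ (j + 1) = μ j + μ (j + 2)) ∧
      μ 1 * n = r * μ 0 + μ (l + 1) := by
  obtain ⟨e1, e2⟩ := eq_of_div_eq n r hr hcop (lst b l) (lst_ge b l hb) (lst_ne_nil b l hl) hhj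
  have hx : ∀ j (hj : j < (lst b l).length), (lst b l)[j] * μ (j + 1) = μ j + μ (j + 2) := by
    intro j hj
    rw [lst_getElem]
    rw [lst_length] at hj
    have := hsys (j + 1) (by omega) (by omega)
    simpa using this
  refine ⟨e1, e2, hx, ?_⟩
  have hw := wronsk (lst b l) μ hx
  rw [e1, e2, lst_length] at hw
  linarith

end Groth.Agent.Lib.Helper11.HJ
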