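import Mathlib
import Groth.Agent.Lib.Helper11.HSReg
import Groth.Agent.Lib.Helper11.HSLim

/-!
# Length bounds for ideals generated by `r` elements; multiplicity bound (helper11, HS project)
-/

set_option autoImplicit false
set_option linter.unusedSectionVars false
universe u
open Polynomial Pointwise

namespace Groth.Agent.Lib.Helper11.HS

section Sop

variable {A : Type u} [CommRing A] {r : ℕ} (x : Fin r → A) (I : Ideal A)
  (k : Type u) [CommRing k] [Algebra A k]

theorem Vn_eq_supported' (n : ℕ) :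
    (MvPolynomial.homogeneousSubmodule (Fin r) k n).restrictScalars A =
      AddMonoidAlgebra.supported A k {d : Fin r →₀ ℕ | d.degree = n} := by
  ext P
  rw [Submodule.restrictScalars_mem, MvPolynomial.homogeneousSubmodule_eq_finsupp_supported]
  rfl

theorem length_Vn_general (n : ℕ) :
    Module.length A (Vn A r k n) = ((r + n - 1).choose n : ℕ∞) * Module.length A k := by
  unfold Vn
  rw [Vn_eq_supported', (AddMonoidAlgebra.supportedEquivFinsupp (R := A) (S := k)
    {d : Fin r →₀ ℕ | d.degree = n}).length_eq, Module.length_finsupp, card_monomials]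

variable (hk : Function.Surjective (algebraMap A k)) (hker : ∀ a : A, algebraMap A k a = 0 → a ∈ I)
  (hI : I = Ideal.span (Set.range x))
include hI hk hker

theorem length_range_θmap_le_general (n : ℕ) :
    Module.length A (LinearMap.range (θmap I A n)) ≤
      ((r + n - 1).choose n : ℕ∞) * Module.length A k := by
  rw [← range_Ψres x I k hk hker hI n, ← length_Vn_general (A := A) (r := r) k n]
  exact Module.length_le_of_surjective (Ψres x I k hk hker hI n).rangeRestrict
    (LinearMap.surjective_rangeRestrict _)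

theorem length_Sq_le_Bmon_mul (N : ℕ) :
    Module.length A (Sq I A N) ≤ (Bmon r N : ℕ∞) * Module.length A k := by
  induction N with
  | zero =>
    have : Subsingleton (Sq I A 0) := by
      rw [Submodule.Quotient.subsingleton_iff, pow_zero, Ideal.one_eq_top, Submodule.top_smul]
    rw [Module.length_eq_zero_iff.2 this]
    exact zero_le
  | succ N ih =>
    rw [length_succ, Bmon_succ', add_comm]
    push_cast
    rw [add_mul]
    exact add_le_add ih (length_range_θmap_le_general x I k hk hker hI N)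

end Sop

section Sop2

variable {A : Type u} [CommRing A] {r : ℕ} (x : Fin r → A)

/-- `length (A/Iᴺ) ≤ B(N) · length (A/I)` for `I` generated by `r` elements. -/
theorem length_quot_pow_le (N : ℕ) :
    Module.length A (A ⧸ Ideal.span (Set.range x) ^ N) ≤
      (Bmon r N : ℕ∞) * Module.length A (A ⧸ Ideal.span (Set.range x)) := by
  have e : (Ideal.span (Set.range x) ^ N • ⊤ : Submodule A A) = Ideal.span (Set.range x) ^ N := by
    rw [smul_eq_mul, Ideal.mul_top]
  rw [← (Submodule.quotEquivOfEq _ _ e).length_eq]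
  exact length_Sq_le_Bmon_mul x (Ideal.span (Set.range x)) (A ⧸ Ideal.span (Set.range x))
    Ideal.Quotient.mk_surjective (fun a ha => Ideal.Quotient.eq_zero_iff_mem.1 ha) rfl N

end Sop2

end Groth.Agent.Lib.Helper11.HS

namespace Groth.Agent.Lib.Helper11.HS
open Filter Topology

/-- `((t + c)/t)^d → 1` -/
theorem tendsto_add_ratio (c d : ℕ) :
    Tendsto (fun t : ℕ => (((t : ℝ) + (c : ℝ)) / (t : ℝ)) ^ d) atTop (𝓝 1) := by
  have h1 : Tendsto (fun t : ℕ => (1 : ℝ) + (c : ℝ) / (t : ℝ)) atTop (𝓝 (1 + 0)) :=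
    tendsto_const_nhds.add (tendsto_const_div_atTop_nhds_zero_nat (c : ℝ))
  have h2 : Tendsto (fun t : ℕ => ((1 : ℝ) + (c : ℝ) / (t : ℝ)) ^ d) atTop (𝓝 ((1 + 0) ^ d)) :=
    h1.pow d
  rw [add_zero, one_pow] at h2
  refine h2.congr' ?_
  filter_upwards [eventually_ge_atTop 1] with t ht
  have ht0 : (t : ℝ) ≠ 0 := by
    have : 0 < t := by omega
    exact_mod_cast this.ne'
  congr 1
  field_simp

theorem factorial_mul_Bmon_le (d n : ℕ) (hn : 1 ≤ n) : d.factorial * Bmon d n ≤ (n + d) ^ d := by
  obtain ⟨N, rfl⟩ : ∃ N, n = N + 1 := ⟨n - 1, by omega⟩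
  rw [Bmon_succ, ← Nat.ascFactorial_eq_factorial_mul_choose]
  exact le_trans (Nat.ascFactorial_le_pow_add N d) (Nat.pow_le_pow_left (by omega) d)

/-- multiplicity bound: if `d! · a(n) / n^d → e` and `a(n) ≤ B_d(n) · L` then `e ≤ L`. -/
theorem limit_le_of_le_Bmon (a : ℕ → ℕ) (d L : ℕ) (e : ℝ)
    (ha : ∀ n, a n ≤ Bmon d n * L)
    (he : Tendsto (fun n : ℕ => (d.factorial : ℝ) * (a n : ℝ) / (n : ℝ) ^ d) atTop (𝓝 e)) :
    e ≤ L := by
  have hlim : Tendsto (fun t : ℕ => (L : ℝ) * (((t : ℝ) + (d : ℝ)) / (t : ℝ)) ^ d) atTop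
      (𝓝 ((L : ℝ) * 1)) := (tendsto_add_ratio d d).const_mul _
  rw [mul_one] at hlim
  refine le_of_tendsto_of_tendsto he hlim ?_
  filter_upwards [eventually_ge_atTop 1] with n hn
  have hn0 : (0 : ℝ) < (n : ℝ) ^ d := by
    have : (0 : ℝ) < n := by exact_mod_cast hn
    positivity
  rw [div_pow, ← mul_div_assoc, div_le_div_iff_of_pos_right hn0]
  have h1 : d.factorial * a n ≤ L * (n + d) ^ d := by
    calc d.factorial * a n ≤ d.factorial * (Bmon d n * L) := Nat.mul_le_mul_left _ (ha n)
      _ = L * (d.factorial * Bmon d n) := by ring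
      _ ≤ L * (n + d) ^ d := Nat.mul_le_mul_left _ (factorial_mul_Bmon_le d n hn)
  exact_mod_cast h1

end Groth.Agent.Lib.Helper11.HS
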