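import Groth.Agent.Lib.Helper11.Henselian
import Mathlib.Algebra.Group.Pi.Units

set_option autoImplicit false
universe u

namespace Groth.Agent.Lib.Helper11

open Polynomial

section Pi

variable {J : Type u} {A : J → Type u} [∀ j, CommRing (A j)]

/-- Assemble a family of polynomials of degree `≤ n` into a polynomial over the product ring. -/
noncomputable def piPoly (p : ∀ k, (A k)[X]) (n : ℕ) : (∀ k, A k)[X] :=
  ∑ i ∈ Finset.range (n + 1), monomial i (fun k => (p k).coeff i)

theorem map_piPoly (p : ∀ k, (A k)[X]) (n : ℕ) (k : J) (h : (p k).natDegree ≤ n) :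
    (piPoly p n).map (Pi.evalRingHom A k) = p k := by
  simp only [piPoly, Polynomial.map_sum, Polynomial.map_monomial, Pi.evalRingHom_apply]
  exact ((p k).as_sum_range' (n + 1) (Nat.lt_succ_of_le h)).symm

theorem piPoly_monic (p : ∀ k, (A k)[X]) (n : ℕ)
    (h1 : ∀ k, (p k).coeff n = 1) : (piPoly p n).Monic := by
  apply Polynomial.monic_of_natDegree_le_of_coeff_eq_one n
  · apply Polynomial.natDegree_sum_le_of_forall_le
    intro i hi
    exact (Polynomial.natDegree_monomial_le _).trans (Nat.lt_succ_iff.1 (Finset.mem_range.1 hi))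
  · simp only [piPoly, Polynomial.finsetSum_coeff, Polynomial.coeff_monomial]
    rw [Finset.sum_ite_eq' _ n]
    simp only [Finset.mem_range, Nat.lt_succ_self, if_true]
    funext k
    exact h1 k

theorem eval_apply_eq (F : (∀ k, A k)[X]) (a : ∀ k, A k) (k : J) :
    (F.eval a) k = (F.map (Pi.evalRingHom A k)).eval (a k) := by
  rw [Polynomial.eval_map]
  exact (Polynomial.eval₂_at_apply (Pi.evalRingHom A k) a).symm

theorem mem_iInf_comap_eval_iff (I : ∀ j, Ideal (A j)) (x : ∀ k, A k) :
    x ∈ (⨅ j, Ideal.comap (Pi.evalRingHom A j) (I j)) ↔ ∀ j, x j ∈ I j := by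
  simp [Ideal.mem_comap]

theorem henselianRing_pi (I : ∀ j, Ideal (A j)) (h : ∀ j, HenselianRing (A j) (I j)) :
    HenselianRing (∀ j, A j) (⨅ j, Ideal.comap (Pi.evalRingHom A j) (I j)) := by
  have hjac : (⨅ j, Ideal.comap (Pi.evalRingHom A j) (I j)) ≤ Ideal.jacobson ⊥ := by
    intro x hx
    rw [mem_iInf_comap_eval_iff] at hx
    rw [Ideal.mem_jacobson_bot]
    intro y
    rw [Pi.isUnit_iff]
    intro k
    exact Ideal.mem_jacobson_bot.1 ((h k).jac (hx k)) (y k)
  refine ⟨hjac, ?_⟩
  intro f hf a₀ h₁ h₂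
  have hu : IsUnit (f.derivative.eval a₀) := isUnit_of_isUnit_mk _ hjac h₂
  rw [mem_iInf_comap_eval_iff] at h₁
  rw [Pi.isUnit_iff] at hu
  have key : ∀ k, ∃ a : A k, (f.map (Pi.evalRingHom A k)).IsRoot a ∧ a - a₀ k ∈ I k := by
    intro k
    apply (h k).is_henselian _ (hf.map _) (a₀ k)
    · rw [← eval_apply_eq]; exact h₁ k
    · rw [Polynomial.derivative_map, ← eval_apply_eq]; exact (hu k).map _
  choose a ha ha' using key
  refine ⟨a, ?_, ?_⟩
  · rw [Polynomial.IsRoot.def]
    funext k
    rw [eval_apply_eq]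
    exact ha k
  · rw [mem_iInf_comap_eval_iff]
    intro k
    exact ha' k

theorem henselianRing_of_pi [DecidableEq J] (I : ∀ j, Ideal (A j))
    (h : HenselianRing (∀ j, A j) (⨅ j, Ideal.comap (Pi.evalRingHom A j) (I j))) (j : J) :
    HenselianRing (A j) (I j) := by
  have hjac : I j ≤ Ideal.jacobson ⊥ := by
    intro x hx
    rw [Ideal.mem_jacobson_bot]
    intro y
    have hX : Pi.single j x ∈ (⨅ j, Ideal.comap (Pi.evalRingHom A j) (I j)) := by
      rw [mem_iInf_comap_eval_iff]
      intro k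
      by_cases hk : k = j
      · subst hk; simpa using hx
      · rw [Pi.single_eq_of_ne hk]; exact Ideal.zero_mem _
    have := Ideal.mem_jacobson_bot.1 (h.jac hX) (Pi.single j y)
    rw [Pi.isUnit_iff] at this
    simpa using this j
  refine ⟨hjac, ?_⟩
  intro f hf a₀ h₁ h₂
  have hu : IsUnit (f.derivative.eval a₀) := isUnit_of_isUnit_mk _ hjac h₂
  rcases Nat.eq_zero_or_pos f.natDegree with hn | hn
  · -- degenerate case: `f = 1`, so the ring is trivial
    have hf1 : f = 1 := hf.natDegree_eq_zero.1 hn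
    subst hf1
    rw [Polynomial.eval_one] at h₁
    have h0 := Ideal.mem_jacobson_bot.1 (hjac h₁) (-1)
    have : Subsingleton (A j) := by
      have h00 : IsUnit (0 : A j) := by simpa using h0
      exact subsingleton_of_zero_eq_one (isUnit_zero_iff.1 h00)
    exact ⟨a₀, Subsingleton.elim _ _, by simp⟩
  set n := f.natDegree with hn_def
  let p : ∀ k, (A k)[X] := Function.update (fun k => X ^ n - X ^ (n - 1)) j f
  have hpj : p j = f := Function.update_self ..
  have hpk : ∀ k, k ≠ j → p k = X ^ n - X ^ (n - 1) := fun k hk =>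
    Function.update_of_ne hk ..
  have hdeg : ∀ k, (p k).natDegree ≤ n := by
    intro k
    by_cases hk : k = j
    · subst hk; rw [hpj]
    · rw [hpk k hk]
      refine (Polynomial.natDegree_sub_le _ _).trans ?_
      rw [max_le_iff]
      exact ⟨Polynomial.natDegree_X_pow_le _,
        (Polynomial.natDegree_X_pow_le _).trans (Nat.sub_le _ _)⟩
  have hcoeff : ∀ k, (p k).coeff n = 1 := by
    intro k
    by_cases hk : k = j
    · subst hk; rw [hpj]; exact hf
    · rw [hpk k hk, Polynomial.coeff_sub, Polynomial.coeff_X_pow, Polynomial.coeff_X_pow]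
      have : n ≠ n - 1 := by omega
      simp [this]
  set F := piPoly p n with hF
  have hFm : F.Monic := piPoly_monic p n hcoeff
  have hFmap : ∀ k, F.map (Pi.evalRingHom A k) = p k := fun k => map_piPoly p n k (hdeg k)
  let A₀ : ∀ k, A k := Function.update (fun _ => 1) j a₀
  have hA₀j : A₀ j = a₀ := Function.update_self ..
  have hA₀k : ∀ k, k ≠ j → A₀ k = 1 := fun k hk => Function.update_of_ne hk ..
  have hev : F.eval A₀ ∈ (⨅ j, Ideal.comap (Pi.evalRingHom A j) (I j)) := by
    rw [mem_iInf_comap_eval_iff]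
    intro k
    rw [eval_apply_eq, hFmap]
    by_cases hk : k = j
    · subst hk; rw [hpj, hA₀j]; exact h₁
    · rw [hpk k hk, hA₀k k hk]; simp
  have hder : IsUnit (F.derivative.eval A₀) := by
    rw [Pi.isUnit_iff]
    intro k
    rw [eval_apply_eq, ← Polynomial.derivative_map, hFmap]
    by_cases hk : k = j
    · subst hk; rw [hpj, hA₀j]; exact hu
    · rw [hpk k hk, hA₀k k hk]
      have : ((n : A k) - ((n - 1 : ℕ) : A k)) = 1 := by
        rw [Nat.cast_sub hn]; simp
      simp [Polynomial.derivative_X_pow, this]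
  obtain ⟨a, ha, ha'⟩ := h.is_henselian F hFm A₀ hev (hder.map _)
  refine ⟨a j, ?_, ?_⟩
  · rw [Polynomial.IsRoot.def] at ha ⊢
    have := eval_apply_eq F a j
    rw [ha, hFmap, hpj] at this
    exact this.symm
  · rw [mem_iInf_comap_eval_iff] at ha'
    have := ha' j
    rwa [Pi.sub_apply, hA₀j] at this

theorem henselianRing_pi_iff (I : ∀ j, Ideal (A j)) :
    HenselianRing (∀ j, A j) (⨅ j, Ideal.comap (Pi.evalRingHom A j) (I j)) ↔
      ∀ j, HenselianRing (A j) (I j) := by
  classical
  exact ⟨fun h j => henselianRing_of_pi I h j, fun h => henselianRing_pi I h⟩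

end Pi

end Groth.Agent.Lib.Helper11
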