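import Groth.Agent.Lib.Helper11.Gabber
import Mathlib.RingTheory.Spectrum.Prime.Topology

set_option autoImplicit false
universe u

namespace Groth.Agent.Lib.Helper11

open Polynomial

/-- The Henselian property passes to arbitrary quotients (via Gabber's criterion). -/
theorem henselianRing_quotient {A : Type u} [CommRing A] (I K : Ideal A)
    (h : HenselianRing A I) :
    HenselianRing (A ⧸ K) (Ideal.map (Ideal.Quotient.mk K) I) := by
  rw [henselianRing_iff_gabberCrit] at h ⊢
  obtain ⟨hjac, hG⟩ := h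
  refine ⟨?_, ?_⟩
  · intro x hx
    obtain ⟨y, hy, rfl⟩ := (Ideal.mem_map_iff_of_surjective _ Ideal.Quotient.mk_surjective).1 hx
    rw [Ideal.mem_jacobson_bot]
    intro z
    obtain ⟨z, rfl⟩ := Ideal.Quotient.mk_surjective z
    have := (Ideal.mem_jacobson_bot.1 (hjac hy)) z
    simpa using this.map (Ideal.Quotient.mk K)
  · intro n hn p hp hpI
    have : ∀ i, ∃ y ∈ I, Ideal.Quotient.mk K y = p.coeff i := fun i =>
      (Ideal.mem_map_iff_of_surjective _ Ideal.Quotient.mk_surjective).1 (hpI i)
    choose y hyI hy using this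
    set P : A[X] := ∑ i ∈ Finset.range (n + 1), monomial i (y i) with hP
    have hPmap : P.map (Ideal.Quotient.mk K) = p := by
      simp only [hP, Polynomial.map_sum, Polynomial.map_monomial, hy]
      exact (p.as_sum_range' (n + 1) (Nat.lt_succ_of_le hp)).symm
    have hPdeg : P.natDegree ≤ n := by
      apply Polynomial.natDegree_sum_le_of_forall_le
      intro i hi
      exact (Polynomial.natDegree_monomial_le _).trans
        (Nat.lt_succ_iff.1 (Finset.mem_range.1 hi))
    have hPI : ∀ i, P.coeff i ∈ I := by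
      intro j
      rw [hP, Polynomial.finsetSum_coeff]
      apply Ideal.sum_mem
      intro i _
      rw [Polynomial.coeff_monomial]
      split_ifs
      · exact hyI i
      · exact I.zero_mem
    obtain ⟨α, hα, hα'⟩ := hG n hn P hPdeg hPI
    refine ⟨Ideal.Quotient.mk K α, ?_, ?_⟩
    · rw [← map_one (Ideal.Quotient.mk K), ← map_sub]; exact Ideal.mem_map_of_mem _ hα
    · have e1 : (X ^ n * (X - 1) + p : (A ⧸ K)[X]) =
          (X ^ n * (X - 1) + P : A[X]).map (Ideal.Quotient.mk K) := by
        simp [hPmap]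
      rw [Polynomial.IsRoot.def, e1, mk_eval_map, hα', map_zero]

/-- Idempotents lift along a Henselian pair. -/
theorem exists_idempotent_lift {A : Type u} [CommRing A] (I : Ideal A) (h : HenselianRing A I)
    (e₀ : A) (he₀ : e₀ ^ 2 - e₀ ∈ I) : ∃ e, IsIdempotentElem e ∧ e - e₀ ∈ I := by
  rcases subsingleton_or_nontrivial A with hs | hs
  · exact ⟨0, Subsingleton.elim _ _, by rw [Subsingleton.elim (0 - e₀) 0]; exact I.zero_mem⟩
  set f : A[X] := X ^ 2 - X with hf
  have hfm : f.Monic := by
    apply Polynomial.monic_X_pow_sub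
    rw [Polynomial.degree_X]; norm_num
  have h1 : f.eval e₀ ∈ I := by simpa [hf] using he₀
  have h2 : IsUnit (Ideal.Quotient.mk I (f.derivative.eval e₀)) := by
    have : f.derivative.eval e₀ = 2 * e₀ - 1 := by simp [hf, one_add_one_eq_two]
    rw [this]
    apply IsUnit.of_mul_eq_one (Ideal.Quotient.mk I (2 * e₀ - 1))
    rw [← map_mul, ← map_one (Ideal.Quotient.mk I), Ideal.Quotient.eq]
    have : (2 * e₀ - 1) * (2 * e₀ - 1) - 1 = 4 * (e₀ ^ 2 - e₀) := by ring
    rw [this]; exact I.mul_mem_left _ he₀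
  obtain ⟨e, he, he'⟩ := h.is_henselian f hfm e₀ h1 h2
  refine ⟨e, ?_, he'⟩
  have : e ^ 2 - e = 0 := by simpa [hf] using he
  unfold IsIdempotentElem
  linear_combination this

theorem connectedSpace_primeSpectrum_of_idempotents {C : Type u} [CommRing C] [Nontrivial C]
    (h : ∀ c : C, IsIdempotentElem c → c = 0 ∨ c = 1) : ConnectedSpace (PrimeSpectrum C) := by
  rw [connectedSpace_iff_clopen]
  refine ⟨inferInstance, ?_⟩
  intro s hs
  obtain ⟨e, he, rfl⟩ := PrimeSpectrum.isClopen_iff.1 hs
  rcases h e he with rfl | rfl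
  · left; simp
  · right; simp

theorem connectedSpace_zeroLocus_of_henselianRing (A : Type u) [CommRing A] (I : Ideal A)
    [hI : HenselianRing A I] (p : Ideal A) [p.IsPrime] :
    ConnectedSpace (PrimeSpectrum (A ⧸ p ⊔ I)) := by
  have hne : p ⊔ I ≠ ⊤ := by
    intro htop
    have h1 : (1 : A) ∈ p ⊔ I := by rw [htop]; trivial
    obtain ⟨x, hx, i, hi, hxi⟩ := Submodule.mem_sup.1 h1
    have hu : IsUnit x := by
      have := Ideal.mem_jacobson_bot.1 (hI.jac hi) (-1)
      have e : i * -1 + 1 = x := by linear_combination -hxi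
      rwa [e] at this
    exact (Ideal.IsPrime.ne_top ‹p.IsPrime›) (Ideal.eq_top_of_isUnit_mem _ hx hu)
  have : Nontrivial (A ⧸ p ⊔ I) := Ideal.Quotient.nontrivial_iff.2 hne
  have hB := henselianRing_quotient I p hI
  apply connectedSpace_primeSpectrum_of_idempotents
  intro c hc
  let φ := DoubleQuot.quotQuotEquivQuotSup p I
  have hc' : IsIdempotentElem (φ.symm c) := hc.map φ.symm
  have key : φ.symm c = 0 ∨ φ.symm c = 1 := by
    obtain ⟨e₀, he₀⟩ := Ideal.Quotient.mk_surjective (φ.symm c)
    have h0 : e₀ ^ 2 - e₀ ∈ Ideal.map (Ideal.Quotient.mk p) I := by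
      rw [← Ideal.Quotient.eq_zero_iff_mem, map_sub, map_pow, he₀, sub_eq_zero, pow_two]
      exact hc'
    obtain ⟨e, he, he'⟩ := exists_idempotent_lift _ hB e₀ h0
    have : Ideal.Quotient.mk _ e = φ.symm c := by
      rw [← he₀, Ideal.Quotient.eq]; exact he'
    rw [← this]
    rcases (IsIdempotentElem.iff_eq_zero_or_one).1 he with rfl | rfl
    · left; simp
    · right; simp
  rcases key with h | h
  · left; simpa using congrArg φ h
  · right; simpa using congrArg φ h

end Groth.Agent.Lib.Helper11
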