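import Mathlib
import Groth.Agent.Lib.Helper11.HSDecomp
import Groth.Agent.Lib.Helper11.HSNum

/-!
# Hilbert function of a quotient of a polynomial ring by a nonzero homogeneous ideal (helper11)
-/

set_option autoImplicit false
set_option linter.unusedSectionVars false
set_option linter.style.haveILetI false
universe u v w

attribute [local instance] MvPolynomial.gradedAlgebra

namespace Groth.Agent.Lib.Helper11.HilbQuot

open Groth.Agent.Lib.Helper11.HS Polynomial

section Restrict

variable {A : Type u} [CommRing A] {R : Type v} [CommRing R] [Algebra A R]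
  {s : ℕ} {x : Fin s → R} {G : Type w} [AddCommGroup G] [Module A G] [Module R G]
  [IsScalarTower A R G] (P : GrProj (A := A) x G) (N : Submodule R G)
  (hN : ∀ (n : ℕ) (v : G), v ∈ N → P.π n v ∈ N)

/-- the induced grading on a graded submodule -/
noncomputable def restrictGr : GrProj (A := A) x N where
  π n :=
    { toFun := fun v => ⟨P.π n v, hN n v v.2⟩
      map_add' := fun _ _ => by ext; simp
      map_smul' := fun _ _ => by ext; simp }
  π_same n v := by ext; exact P.π_same n v
  π_ne m n v h := by ext; exact P.π_ne m n v h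
  fin v := by
    obtain ⟨M, h1, h2⟩ := P.fin (v : G)
    refine ⟨M, fun n hn => ?_, ?_⟩
    · ext; exact h1 n hn
    · ext
      simp only [Submodule.coe_sum, LinearMap.coe_mk, AddHom.coe_mk]
      exact h2
  smul i n v := by ext; exact P.smul i n v

theorem restrictGr_π_coe (n : ℕ) (v : N) :
    (((restrictGr P N hN).π n v : N) : G) = P.π n (v : G) := rfl

theorem map_piece (n : ℕ) :
    ((restrictGr P N hN).piece n).map (N.subtype.restrictScalars A) =
      N.restrictScalars A ⊓ P.piece n := by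
  ext v
  rw [Submodule.mem_map, Submodule.mem_inf]
  constructor
  · rintro ⟨w, hw, rfl⟩
    rw [GrProj.mem_piece_iff] at hw
    refine ⟨w.2, ?_⟩
    rw [GrProj.mem_piece_iff]
    exact congrArg Subtype.val hw
  · rintro ⟨hv1, hv2⟩
    rw [GrProj.mem_piece_iff] at hv2
    refine ⟨⟨v, hv1⟩, ?_, rfl⟩
    rw [GrProj.mem_piece_iff]
    exact Subtype.ext hv2

/-- the pieces of the restricted grading -/
noncomputable def pieceEquiv (n : ℕ) :
    (restrictGr P N hN).piece n ≃ₗ[A] ↥(N.restrictScalars A ⊓ P.piece n) :=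
  (Submodule.equivMapOfInjective (N.subtype.restrictScalars A)
    (fun _ _ h => Subtype.ext h) ((restrictGr P N hN).piece n)).trans
    (LinearEquiv.ofEq _ _ (map_piece P N hN n))

end Restrict

section Main

variable {k : Type u} [Field k] (d : ℕ)


/-- the standard grading of the polynomial ring, as a `GrProj` -/
noncomputable def P₀ : GrProj (A := k) (R := (MvPolynomial (Fin d) k)) (fun i : Fin d => MvPolynomial.X i) (MvPolynomial (Fin d) k) :=
  grProjOfDecomp (s := d) (A := k) (M := (MvPolynomial (Fin d) k)) (MvPolynomial.homogeneousSubmodule (Fin d) k)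

theorem P₀_piece (n : ℕ) : (P₀ (k := k) d).piece n = (MvPolynomial.homogeneousSubmodule (Fin d) k) n := grProjOfDecomp_piece _ n

theorem hadj : Algebra.adjoin k (Set.range (fun i : Fin d => (MvPolynomial.X i : (MvPolynomial (Fin d) k)))) = ⊤ :=
  MvPolynomial.adjoin_range_X

theorem finite_Hd (n : ℕ) : Module.Finite k ↥((MvPolynomial.homogeneousSubmodule (Fin d) k) n) := by
  have := finite_piece (hadj (k := k) d) d le_rfl (MvPolynomial (Fin d) k) (P₀ d)
    (fun i hi => absurd i.2 (not_lt.2 hi)) n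
  rwa [P₀_piece] at this

theorem isFiniteLength_of_finite (V : Type u) [AddCommGroup V] [Module k V] [Module.Finite k V] :
    IsFiniteLength k V := by
  rw [← Module.length_ne_top_iff, Module.length_eq_finrank]
  exact ENat.natCast_ne_top _

theorem len_eq_finrank {G : Type u} [AddCommGroup G] [Module k G] [Module (MvPolynomial (Fin d) k) G]
    [IsScalarTower k (MvPolynomial (Fin d) k) G] (P : GrProj (A := k) (fun i : Fin d => (MvPolynomial.X i : (MvPolynomial (Fin d) k))) G)
    (n : ℕ) [Module.Finite k (P.piece n)] :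
    P.len n = (Module.finrank k (P.piece n) : ℤ) := by
  unfold GrProj.len
  rw [Module.length_eq_finrank, ENat.toNat_natCast]

variable (I : HomogeneousIdeal (MvPolynomial.homogeneousSubmodule (Fin d) k))

theorem hN (n : ℕ) (v : (MvPolynomial (Fin d) k)) (hv : v ∈ I.toIdeal) : (P₀ (k := k) d).π n v ∈ I.toIdeal := by
  show projL (MvPolynomial.homogeneousSubmodule (Fin d) k) n v ∈ I.toIdeal
  rw [projL_apply]
  exact I.isHomogeneous n hv

/-- the grading of the ideal -/
noncomputable def P₁ : GrProj (A := k) (R := (MvPolynomial (Fin d) k)) (fun i : Fin d => MvPolynomial.X i) I.toIdeal :=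
  restrictGr (P₀ d) I.toIdeal (hN d I)

instance finite_ideal : Module.Finite (MvPolynomial (Fin d) k) I.toIdeal :=
  Module.Finite.iff_fg.2 (IsNoetherian.noetherian _)

theorem finite_P₁_piece (n : ℕ) : Module.Finite k ((P₁ d I).piece n) :=
  finite_piece (hadj (k := k) d) d le_rfl _ (P₁ d I) (fun i hi => absurd i.2 (not_lt.2 hi)) n

theorem finite_inf (n : ℕ) : Module.Finite k ↥(I.toIdeal.restrictScalars k ⊓ (MvPolynomial.homogeneousSubmodule (Fin d) k) n) := by
  haveI : Module.Finite k ((restrictGr (P₀ (k := k) d) I.toIdeal (hN d I)).piece n) :=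
    finite_P₁_piece d I n
  have e := pieceEquiv (P₀ (k := k) d) I.toIdeal (hN d I) n
  rw [P₀_piece] at e
  exact Module.Finite.equiv e

theorem P₁_len (n : ℕ) :
    (P₁ d I).len n = (Module.finrank k ↥(I.toIdeal.restrictScalars k ⊓ (MvPolynomial.homogeneousSubmodule (Fin d) k) n) : ℤ) := by
  haveI := finite_P₁_piece d I n
  rw [len_eq_finrank]
  have e := pieceEquiv (P₀ (k := k) d) I.toIdeal (hN d I) n
  rw [P₀_piece] at e
  exact congrArg (fun z : ℕ => (z : ℤ)) e.finrank_eq

theorem P₀_len (n : ℕ) : (P₀ (k := k) d).len n = (Module.finrank k ↥((MvPolynomial.homogeneousSubmodule (Fin d) k) n) : ℤ) := by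
  haveI : Module.Finite k ((P₀ (k := k) d).piece n) := by rw [P₀_piece]; exact finite_Hd d n
  rw [len_eq_finrank]
  rw [P₀_piece]

/-- a nonzero homogeneous ideal contains a nonzero homogeneous element -/
theorem exists_homogeneous (hI : I ≠ ⊥) : ∃ (e : ℕ) (F : (MvPolynomial (Fin d) k)), F ∈ I.toIdeal ∧ F ∈ (MvPolynomial.homogeneousSubmodule (Fin d) k) e ∧ F ≠ 0 := by
  classical
  have h1 : I.toIdeal ≠ ⊥ := by
    intro h
    apply hI
    apply HomogeneousIdeal.toIdeal_injective
    rw [h]
    rfl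
  obtain ⟨v, hv, hv0⟩ := Submodule.exists_mem_ne_zero_of_ne_bot h1
  have h2 : ∃ e, (DirectSum.decompose (MvPolynomial.homogeneousSubmodule (Fin d) k) v e : (MvPolynomial (Fin d) k)) ≠ 0 := by
    by_contra hcon
    push Not at hcon
    apply hv0
    rw [← DirectSum.sum_support_decompose (MvPolynomial.homogeneousSubmodule (Fin d) k) v]
    exact Finset.sum_eq_zero (fun i _ => hcon i)
  obtain ⟨e, he⟩ := h2
  exact ⟨e, _, I.isHomogeneous e hv, (DirectSum.decompose (MvPolynomial.homogeneousSubmodule (Fin d) k) v e).2, he⟩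

theorem finrank_le (e m : ℕ) (F : (MvPolynomial (Fin d) k)) (hFI : F ∈ I.toIdeal) (hF : F ∈ (MvPolynomial.homogeneousSubmodule (Fin d) k) e) (hF0 : F ≠ 0) :
    Module.finrank k ↥((MvPolynomial.homogeneousSubmodule (Fin d) k) m) ≤ Module.finrank k ↥(I.toIdeal.restrictScalars k ⊓ (MvPolynomial.homogeneousSubmodule (Fin d) k) (e + m)) := by
  haveI := finite_inf d I (e + m)
  let g : ↥((MvPolynomial.homogeneousSubmodule (Fin d) k) m) →ₗ[k] ↥(I.toIdeal.restrictScalars k ⊓ (MvPolynomial.homogeneousSubmodule (Fin d) k) (e + m)) :=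
    (LinearMap.mulLeft k F).restrict (fun G hG =>
      ⟨I.toIdeal.mul_mem_right _ hFI, MvPolynomial.IsHomogeneous.mul hF hG⟩)
  have hg : Function.Injective g := by
    intro G₁ G₂ h
    have h' : F * G₁.1 = F * G₂.1 := congrArg Subtype.val h
    exact Subtype.ext (mul_left_cancel₀ hF0 h')
  exact LinearMap.finrank_le_finrank_of_injective hg

theorem main (hd : 0 < d) (hI : I ≠ ⊥) :
    ∃ P : Polynomial ℚ, P.degree < ((d - 1 : ℕ) : WithBot ℕ) ∧ ∃ N : ℕ, ∀ n : ℕ, N ≤ n →
      ((Module.finrank k ↥((MvPolynomial.homogeneousSubmodule (Fin d) k) n) : ℚ) -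
        (Module.finrank k ↥(I.toIdeal.restrictScalars k ⊓ (MvPolynomial.homogeneousSubmodule (Fin d) k) n) : ℚ)) = P.eval (n : ℚ) := by
  obtain ⟨e, F, hFI, hF, hF0⟩ := exists_homogeneous d I hI
  have hfl0 : ∀ n, IsFiniteLength k ((P₀ (k := k) d).piece n) := fun n => by
    haveI : Module.Finite k ((P₀ (k := k) d).piece n) := by rw [P₀_piece]; exact finite_Hd d n
    exact isFiniteLength_of_finite _
  have hfl1 : ∀ n, IsFiniteLength k ((P₁ d I).piece n) := fun n => by
    haveI := finite_P₁_piece d I n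
    exact isFiniteLength_of_finite _
  obtain ⟨Q₀, hQ₀, N₀, hN₀⟩ := hilbertSerre (hadj (k := k) d) d le_rfl (MvPolynomial (Fin d) k) (P₀ d)
    (fun i hi => absurd i.2 (not_lt.2 hi)) hfl0
  obtain ⟨Q₁, hQ₁, N₁, hN₁⟩ := hilbertSerre (hadj (k := k) d) d le_rfl _ (P₁ d I)
    (fun i hi => absurd i.2 (not_lt.2 hi)) hfl1
  have hval : ∀ n, max N₀ N₁ ≤ n → ((Module.finrank k ↥((MvPolynomial.homogeneousSubmodule (Fin d) k) n) : ℚ) -
      (Module.finrank k ↥(I.toIdeal.restrictScalars k ⊓ (MvPolynomial.homogeneousSubmodule (Fin d) k) n) : ℚ)) = (Q₀ - Q₁).eval (n : ℚ) := by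
    intro n hn
    have h0 := hN₀ n (le_trans (le_max_left _ _) hn)
    have h1 := hN₁ n (le_trans (le_max_right _ _) hn)
    rw [P₀_len] at h0
    rw [P₁_len] at h1
    rw [eval_sub, ← h0, ← h1]
    push_cast
    rfl
  -- the bounding polynomial
  obtain ⟨t, ht⟩ : ∃ t, d = t + 1 := ⟨d - 1, by omega⟩
  have hQ₀' : Q₀.degree < ((t + 1 : ℕ) : WithBot ℕ) := by rw [← ht]; exact hQ₀
  have hB := degree_comp_add_sub_lt Q₀ (-(e : ℚ)) t hQ₀'
  have hB' : (-(Q₀.comp (X + C (-(e : ℚ))) - Q₀)).degree < (t : WithBot ℕ) := by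
    rw [degree_neg]; exact hB
  refine ⟨Q₀ - Q₁, ?_, max N₀ N₁, hval⟩
  have ht' : d - 1 = t := by omega
  rw [ht']
  refine lt_of_le_of_lt ?_ hB'
  apply degree_le_of_eventually_le
  refine ⟨max N₀ N₁ + e, fun n hn => ?_⟩
  have hn' : max N₀ N₁ ≤ n := le_trans (Nat.le_add_right _ _) hn
  rw [← hval n hn']
  obtain ⟨m, rfl⟩ : ∃ m, n = e + m := ⟨n - e, by omega⟩
  have hm : N₀ ≤ m := by
    have : max N₀ N₁ + e ≤ e + m := hn
    have := le_max_left N₀ N₁
    omega
  constructor
  · have : Module.finrank k ↥(I.toIdeal.restrictScalars k ⊓ (MvPolynomial.homogeneousSubmodule (Fin d) k) (e + m)) ≤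
        Module.finrank k ↥((MvPolynomial.homogeneousSubmodule (Fin d) k) (e + m)) := by
      haveI := finite_Hd (k := k) d (e + m)
      exact LinearMap.finrank_le_finrank_of_injective
        (f := Submodule.inclusion (inf_le_right : I.toIdeal.restrictScalars k ⊓ (MvPolynomial.homogeneousSubmodule (Fin d) k) (e + m) ≤ (MvPolynomial.homogeneousSubmodule (Fin d) k) (e + m)))
        (Submodule.inclusion_injective _)
    have : (Module.finrank k ↥(I.toIdeal.restrictScalars k ⊓ (MvPolynomial.homogeneousSubmodule (Fin d) k) (e + m)) : ℚ) ≤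
        (Module.finrank k ↥((MvPolynomial.homogeneousSubmodule (Fin d) k) (e + m)) : ℚ) := by exact_mod_cast this
    linarith
  · have h2 := finrank_le d I e m F hFI hF hF0
    have h0 := hN₀ (e + m) (le_trans hm (Nat.le_add_left _ _))
    have h0' := hN₀ m hm
    rw [P₀_len] at h0 h0'
    rw [eval_neg, eval_sub, eval_comp, eval_add, eval_X, eval_C]
    have e1 : ((e + m : ℕ) : ℚ) + -(e : ℚ) = (m : ℚ) := by push_cast; ring
    rw [e1, ← h0, ← h0']
    have : (Module.finrank k ↥((MvPolynomial.homogeneousSubmodule (Fin d) k) m) : ℚ) ≤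
        (Module.finrank k ↥(I.toIdeal.restrictScalars k ⊓ (MvPolynomial.homogeneousSubmodule (Fin d) k) (e + m)) : ℚ) := by exact_mod_cast h2
    push_cast
    linarith

end Main

end Groth.Agent.Lib.Helper11.HilbQuot
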