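import Mathlib

/-!
# Horrocks data (helper11)

A "vector bundle on the projective line over `A`", presented by its two standard charts:
finitely generated projective `A[X]`-modules `M` and `N`, their localisations `VM`, `VN` at `X`
(modules over the Laurent polynomial ring) and an additive bijection `e : VM ≃+ VN` which is
semilinear for the involution `T ↦ T⁻¹`.

This file: the structure, basic lemmas, and the Birkhoff–Grothendieck splitting over a field.
-/

set_option autoImplicit false
set_option linter.unusedSectionVars false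
set_option linter.unusedVariables false
set_option linter.style.haveILetI false

open Polynomial LaurentPolynomial

universe u

namespace Groth.Agent.Lib.Helper11.Hk

/-- Horrocks data over a commutative ring `A`. -/
structure HData (A : Type u) [CommRing A] where
  M : Type u
  N : Type u
  VM : Type u
  VN : Type u
  [acgM : AddCommGroup M]
  [modM : Module A[X] M]
  [finM : Module.Finite A[X] M]
  [projM : Module.Projective A[X] M]
  [acgN : AddCommGroup N]
  [modN : Module A[X] N]
  [finN : Module.Finite A[X] N]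
  [projN : Module.Projective A[X] N]
  [acgVM : AddCommGroup VM]
  [modLVM : Module A[T;T⁻¹] VM]
  [modVM : Module A[X] VM]
  [towVM : IsScalarTower A[X] A[T;T⁻¹] VM]
  [acgVN : AddCommGroup VN]
  [modLVN : Module A[T;T⁻¹] VN]
  [modVN : Module A[X] VN]
  [towVN : IsScalarTower A[X] A[T;T⁻¹] VN]
  fM : M →ₗ[A[X]] VM
  fN : N →ₗ[A[X]] VN
  [locM : IsLocalizedModule (Submonoid.powers (X : A[X])) fM]
  [locN : IsLocalizedModule (Submonoid.powers (X : A[X])) fN]
  e : VM ≃+ VN
  he : ∀ (a : A[T;T⁻¹]) (v : VM), e (a • v) = LaurentPolynomial.invert a • e v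

attribute [instance] HData.acgM HData.modM HData.finM HData.projM HData.acgN HData.modN
  HData.finN HData.projN HData.acgVM HData.modLVM HData.modVM HData.towVM HData.acgVN
  HData.modLVN HData.modVN HData.towVN HData.locM HData.locN

namespace HData

variable {A : Type u} [CommRing A] (D : HData A)

lemma smul_VM (p : A[X]) (v : D.VM) : p • v = (toLaurent p : A[T;T⁻¹]) • v := by
  rw [← algebraMap_eq_toLaurent, algebraMap_smul]

lemma smul_VN (p : A[X]) (v : D.VN) : p • v = (toLaurent p : A[T;T⁻¹]) • v := by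
  rw [← algebraMap_eq_toLaurent, algebraMap_smul]

lemma toLaurent_smul_fM (p : A[X]) (x : D.M) :
    (toLaurent p : A[T;T⁻¹]) • D.fM x = D.fM (p • x) := by
  rw [map_smul, smul_VM]

lemma toLaurent_smul_fN (p : A[X]) (x : D.N) :
    (toLaurent p : A[T;T⁻¹]) • D.fN x = D.fN (p • x) := by
  rw [map_smul, smul_VN]

lemma T_smul_fM (c : ℕ) (x : D.M) : (T (c : ℤ) : A[T;T⁻¹]) • D.fM x = D.fM ((X : A[X]) ^ c • x) := by
  rw [← toLaurent_smul_fM, toLaurent_X_pow]

lemma T_smul_fN (c : ℕ) (x : D.N) : (T (c : ℤ) : A[T;T⁻¹]) • D.fN x = D.fN ((X : A[X]) ^ c • x) := by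
  rw [← toLaurent_smul_fN, toLaurent_X_pow]

lemma surjM (v : D.VM) : ∃ (c : ℕ) (x : D.M), (T (c : ℤ) : A[T;T⁻¹]) • v = D.fM x := by
  obtain ⟨⟨x, ⟨_, c, rfl⟩⟩, h⟩ := IsLocalizedModule.surj (Submonoid.powers (X : A[X])) D.fM v
  refine ⟨c, x, ?_⟩
  rw [← h, Submonoid.smul_def, smul_VM, toLaurent_X_pow]

lemma surjN (v : D.VN) : ∃ (c : ℕ) (x : D.N), (T (c : ℤ) : A[T;T⁻¹]) • v = D.fN x := by
  obtain ⟨⟨x, ⟨_, c, rfl⟩⟩, h⟩ := IsLocalizedModule.surj (Submonoid.powers (X : A[X])) D.fN v
  refine ⟨c, x, ?_⟩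
  rw [← h, Submonoid.smul_def, smul_VN, toLaurent_X_pow]

lemma X_regular : IsRegular (X : A[X]) :=
  ⟨(Polynomial.monic_X).isRegular.left, (Polynomial.monic_X).isRegular.right⟩

lemma X_pow_smul_eq_zero_M {c : ℕ} {x : D.M} (h : (X : A[X]) ^ c • x = 0) : x = 0 := by
  have : IsSMulRegular D.M ((X : A[X]) ^ c) :=
    Module.Flat.isSMulRegular_of_isRegular (X_regular.pow c)
  exact this (by simpa using h)

lemma X_pow_smul_eq_zero_N {c : ℕ} {x : D.N} (h : (X : A[X]) ^ c • x = 0) : x = 0 := by
  have : IsSMulRegular D.N ((X : A[X]) ^ c) :=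
    Module.Flat.isSMulRegular_of_isRegular (X_regular.pow c)
  exact this (by simpa using h)

lemma fM_injective : Function.Injective D.fM := by
  rw [injective_iff_map_eq_zero]
  intro x hx
  obtain ⟨⟨_, c, rfl⟩, hc⟩ :=
    (IsLocalizedModule.eq_zero_iff (Submonoid.powers (X : A[X])) D.fM).mp hx
  exact D.X_pow_smul_eq_zero_M (by simpa [Submonoid.smul_def] using hc)

lemma fN_injective : Function.Injective D.fN := by
  rw [injective_iff_map_eq_zero]
  intro x hx
  obtain ⟨⟨_, c, rfl⟩, hc⟩ :=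
    (IsLocalizedModule.eq_zero_iff (Submonoid.powers (X : A[X])) D.fN).mp hx
  exact D.X_pow_smul_eq_zero_N (by simpa [Submonoid.smul_def] using hc)

lemma he_symm (a : A[T;T⁻¹]) (w : D.VN) :
    D.e.symm (a • w) = LaurentPolynomial.invert a • D.e.symm w := by
  apply D.e.injective
  rw [D.he, AddEquiv.apply_symm_apply, AddEquiv.apply_symm_apply,
    LaurentPolynomial.involutive_invert a]

lemma e_sum {ι : Type*} (s : Finset ι) (a : ι → A[T;T⁻¹]) (v : ι → D.VM) :
    D.e (∑ i ∈ s, a i • v i) = ∑ i ∈ s, LaurentPolynomial.invert (a i) • D.e (v i) := by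
  rw [map_sum]
  exact Finset.sum_congr rfl fun i _ => D.he _ _

lemma e_symm_sum {ι : Type*} (s : Finset ι) (a : ι → A[T;T⁻¹]) (v : ι → D.VN) :
    D.e.symm (∑ i ∈ s, a i • v i) =
      ∑ i ∈ s, LaurentPolynomial.invert (a i) • D.e.symm (v i) := by
  rw [map_sum]
  exact Finset.sum_congr rfl fun i _ => D.he_symm _ _

end HData

end Groth.Agent.Lib.Helper11.Hk
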