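import Mathlib
import Groth.Agent.Lib.Helper11.HkA

/-!
# Birkhoff–Grothendieck splitting over a field (helper11)
-/

set_option autoImplicit false
set_option linter.unusedSectionVars false
set_option linter.unusedVariables false
set_option linter.style.haveILetI false

open Polynomial LaurentPolynomial Module

universe u

namespace Groth.Agent.Lib.Helper11.Hk

namespace HData

section general

variable {A : Type u} [CommRing A] (D : HData A)

/-- The `L`-basis of `VM` coming from a basis of `M`. -/
noncomputable def basisVM {n : ℕ} (b : Basis (Fin n) A[X] D.M) : Basis (Fin n) A[T;T⁻¹] D.VM :=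
  b.ofIsLocalizedModule A[T;T⁻¹] (Submonoid.powers (X : A[X])) D.fM

@[simp] lemma basisVM_apply {n : ℕ} (b : Basis (Fin n) A[X] D.M) (i : Fin n) :
    D.basisVM b i = D.fM (b i) := by
  simp [basisVM]

/-- A frame: a basis of `M`, twists, and elements of `N` matching under `e`. -/
structure Frame (n : ℕ) where
  b : Basis (Fin n) A[X] D.M
  d : Fin n → ℤ
  y : Fin n → D.N
  h : ∀ i, D.e (D.fM (b i)) = (T (d i) : A[T;T⁻¹]) • D.fN (y i)

variable {D}

/-- The submodule of `N` spanned by a frame. -/
noncomputable def Frame.K {n : ℕ} (F : D.Frame n) : Submodule A[X] D.N := Submodule.span A[X] (Set.range F.y)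

lemma Frame.fN_y {n : ℕ} (F : D.Frame n) (i : Fin n) :
    D.fN (F.y i) = (T (-F.d i) : A[T;T⁻¹]) • D.e (D.fM (F.b i)) := by
  rw [F.h, smul_smul, ← T_add]; simp

lemma Frame.indep {n : ℕ} (F : D.Frame n) : LinearIndependent A[X] F.y := by
  rw [Fintype.linearIndependent_iff]
  intro p hp i
  have h1 : D.fN (∑ i, p i • F.y i) = 0 := by rw [hp, map_zero]
  rw [map_sum] at h1
  simp_rw [map_smul, smul_VN, F.fN_y, smul_smul] at h1
  have h2 := congrArg D.e.symm h1
  rw [D.e_symm_sum, map_zero] at h2
  simp_rw [AddEquiv.symm_apply_apply, ← basisVM_apply D F.b] at h2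
  have h3 := (Fintype.linearIndependent_iff.mp (D.basisVM F.b).linearIndependent) _ h2 i
  have h4 : toLaurent (p i) * T (-F.d i) = 0 := by
    have := congrArg LaurentPolynomial.invert h3
    rwa [LaurentPolynomial.involutive_invert, map_zero] at this
  have h5 : toLaurent (p i) = 0 := (isUnit_T (-F.d i)).mul_left_eq_zero.mp h4
  exact Polynomial.toLaurent_injective (by simpa using h5)

/-- Every element of `N` is, up to a power of `X`, in the span of a frame. -/
lemma Frame.exists_pow_mem {n : ℕ} (F : D.Frame n) (z : D.N) :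
    ∃ c : ℕ, (X : A[X]) ^ c • z ∈ F.K := by
  -- expand `e.symm (fN z)` in the basis of `VM`
  set v := D.e.symm (D.fN z) with hv
  have h1 : v = ∑ i, (D.basisVM F.b).repr v i • D.fM (F.b i) := by
    conv_lhs => rw [← (D.basisVM F.b).sum_repr v]
    simp
  have h2 : D.fN z = ∑ i, (LaurentPolynomial.invert ((D.basisVM F.b).repr v i) * T (F.d i)) •
      D.fN (F.y i) := by
    have : D.fN z = D.e v := by rw [hv, AddEquiv.apply_symm_apply]
    have h1' : D.e v = ∑ i, LaurentPolynomial.invert ((D.basisVM F.b).repr v i) •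
        D.e (D.fM (F.b i)) := by
      conv_lhs => rw [h1]
      exact D.e_sum _ _ _
    rw [this, h1']
    refine Finset.sum_congr rfl fun i _ => ?_
    rw [F.h, smul_smul]
  -- clear denominators
  have h3 : ∀ i, ∃ (c : ℕ) (q : A[X]), toLaurent q =
      (LaurentPolynomial.invert ((D.basisVM F.b).repr v i) * T (F.d i)) * T c := fun i =>
    LaurentPolynomial.exists_T_pow _
  choose c q hq using h3
  set c₀ := ∑ i, c i with hc₀
  refine ⟨c₀, ?_⟩
  have h4 : (X : A[X]) ^ c₀ • z = ∑ i, ((X : A[X]) ^ (c₀ - c i) * q i) • F.y i := by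
    apply D.fN_injective
    rw [← T_smul_fN, h2, Finset.smul_sum, map_sum]
    refine Finset.sum_congr rfl fun i _ => ?_
    rw [← toLaurent_smul_fN, map_mul, hq, toLaurent_X_pow, smul_smul]
    congr 1
    have hle : c i ≤ c₀ := Finset.single_le_sum (f := c) (fun _ _ => Nat.zero_le _) (Finset.mem_univ i)
    have : ((c₀ - c i : ℕ) : ℤ) = (c₀ : ℤ) - c i := by omega
    rw [this, mul_comm (T ((c₀ : ℤ) - c i)), mul_assoc, ← T_add, mul_comm]
    congr 2
    ring
  rw [h4]
  exact Submodule.sum_mem _ fun i _ => Submodule.smul_mem _ _ (Submodule.subset_span ⟨i, rfl⟩)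

end general


section exchange

variable {A : Type u} [CommRing A] {D : HData A}

/-- Replacing one basis vector by a combination whose own coefficient is a unit. -/
lemma exists_basis_update {R : Type*} {M : Type*} [CommRing R] [AddCommGroup M] [Module R M]
    {n : ℕ} (b : Basis (Fin n) R M) (i₀ : Fin n) (a : Fin n → R) (ha : IsUnit (a i₀)) :
    ∃ b' : Basis (Fin n) R M, (∀ i, i ≠ i₀ → b' i = b i) ∧ b' i₀ = ∑ i, a i • b i := by
  classical
  set v : Fin n → M := Function.update b i₀ (∑ i, a i • b i) with hv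
  have hvi : ∀ i, i ≠ i₀ → v i = b i := fun i hi => by simp [hv, hi]
  have hv0 : v i₀ = ∑ i, a i • b i := by simp [hv]
  -- the span of `v` is everything
  have hspan : Submodule.span R (Set.range v) = ⊤ := by
    rw [eq_top_iff, ← b.span_eq, Submodule.span_le]
    rintro _ ⟨i, rfl⟩
    by_cases hi : i = i₀
    · subst hi
      obtain ⟨u, hu⟩ := ha
      have h1 : b i = (↑u⁻¹ : R) • (v i - ∑ j ∈ Finset.univ.erase i, a j • v j) := by
        have h2 : v i = a i • b i + ∑ j ∈ Finset.univ.erase i, a j • b j := by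
          rw [hv0, ← Finset.add_sum_erase _ _ (Finset.mem_univ i)]
        have h3 : ∑ j ∈ Finset.univ.erase i, a j • v j = ∑ j ∈ Finset.univ.erase i, a j • b j :=
          Finset.sum_congr rfl fun j hj => by rw [hvi j (Finset.ne_of_mem_erase hj)]
        rw [h3, h2, add_sub_cancel_right, smul_smul, ← hu, Units.inv_mul, one_smul]
      rw [h1]
      refine Submodule.smul_mem _ _ (Submodule.sub_mem _ (Submodule.subset_span ⟨i, rfl⟩) ?_)
      exact Submodule.sum_mem _ fun j _ =>
        Submodule.smul_mem _ _ (Submodule.subset_span ⟨j, rfl⟩)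
    · rw [← hvi i hi]
      exact Submodule.subset_span ⟨i, rfl⟩
  -- the linear map `(Fin n → R) → M` attached to `v` is surjective, hence bijective
  set φ : (Fin n → R) →ₗ[R] M := Fintype.linearCombination R v with hφ
  have hφs : Function.Surjective φ := by
    rw [← LinearMap.range_eq_top, hφ, Fintype.range_linearCombination, hspan]
  have hψ : Function.Injective (b.equivFun.toLinearMap ∘ₗ φ) :=
    OrzechProperty.injective_of_surjective_endomorphism _
      (b.equivFun.surjective.comp hφs)
  have hφi : Function.Injective φ := fun x y hxy => hψ (by simp [hxy])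
  let E : (Fin n → R) ≃ₗ[R] M := LinearEquiv.ofBijective φ ⟨hφi, hφs⟩
  refine ⟨Basis.ofEquivFun E.symm, ?_, ?_⟩
  · intro i hi
    rw [Basis.coe_ofEquivFun]
    show E (Pi.single i 1) = b i
    simp [E, hφ, Fintype.linearCombination_apply_single, hvi i hi]
  · rw [Basis.coe_ofEquivFun]
    show E (Pi.single i₀ 1) = _
    simp [E, hφ, Fintype.linearCombination_apply_single, hv0]

end exchange


section field

variable {k : Type u} [Field k] {D : HData k}

/-- Exchange step: a nontrivial relation modulo `X` allows to enlarge the span of a frame. -/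
lemma Frame.exists_bigger {n : ℕ} (F : D.Frame n) (c : Fin n → k) (w : D.N)
    (hw : (X : k[X]) • w = ∑ i, (Polynomial.C (c i) : k[X]) • F.y i) (hc : ∃ i, c i ≠ 0) :
    ∃ F' : D.Frame n, F.K ≤ F'.K ∧ w ∈ F'.K := by
  classical
  -- choose `i₀` with `c i₀ ≠ 0` and `d i₀` minimal
  have hne : (Finset.univ.filter fun i => c i ≠ 0).Nonempty := by
    obtain ⟨i, hi⟩ := hc
    exact ⟨i, by simp [hi]⟩
  obtain ⟨i₀, hi₀, hmin⟩ := Finset.exists_min_image _ F.d hne
  have hci₀ : c i₀ ≠ 0 := (Finset.mem_filter.mp hi₀).2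
  have hmin' : ∀ i, c i ≠ 0 → F.d i₀ ≤ F.d i := fun i hi => hmin i (by simp [hi])
  set a : Fin n → k[X] := fun i => Polynomial.C (c i) * X ^ (F.d i - F.d i₀).toNat with ha
  have hau : IsUnit (a i₀) := by
    simp only [ha, sub_self, Int.toNat_zero, pow_zero, mul_one]
    exact (isUnit_iff_ne_zero.mpr hci₀).map Polynomial.C
  obtain ⟨b', hb'1, hb'2⟩ := exists_basis_update F.b i₀ a hau
  -- the new frame
  have key : D.e (D.fM (b' i₀)) = (T (F.d i₀ + 1) : k[T;T⁻¹]) • D.fN w := by
    rw [hb'2, map_sum]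
    simp_rw [map_smul, smul_VM]
    rw [D.e_sum]
    have h1 : ∀ i, LaurentPolynomial.invert (toLaurent (a i)) • D.e (D.fM (F.b i)) =
        (T (F.d i₀) : k[T;T⁻¹]) • ((toLaurent (Polynomial.C (c i) : k[X])) • D.fN (F.y i)) := by
      intro i
      by_cases hi : c i = 0
      · simp [ha, hi]
      · have hle := hmin' i hi
        have hnat : ((F.d i - F.d i₀).toNat : ℤ) = F.d i - F.d i₀ := Int.toNat_of_nonneg (by omega)
        rw [F.h, smul_smul, smul_smul, ha]
        simp only [map_mul, Polynomial.toLaurent_C, invert_C, Polynomial.toLaurent_X_pow, invert_T,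
          hnat]
        congr 1
        rw [mul_assoc, ← T_add, mul_comm]
        congr 2
        ring
    simp_rw [h1]
    rw [← Finset.smul_sum]
    simp_rw [toLaurent_smul_fN]
    rw [← map_sum, ← hw, ← toLaurent_smul_fN, Polynomial.toLaurent_X, smul_smul, ← T_add]
  let F' : D.Frame n :=
    { b := b'
      d := Function.update F.d i₀ (F.d i₀ + 1)
      y := Function.update F.y i₀ w
      h := by
        intro i
        by_cases hi : i = i₀
        · subst hi
          simp only [Function.update_self]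
          exact key
        · simp only [Function.update_of_ne hi]
          rw [hb'1 i hi]
          exact F.h i }
  have hy' : ∀ i, i ≠ i₀ → F'.y i = F.y i := fun i hi => by simp [F', Function.update_of_ne hi]
  have hy'0 : F'.y i₀ = w := by simp [F']
  have hwK : w ∈ F'.K := by
    rw [← hy'0]; exact Submodule.subset_span ⟨i₀, rfl⟩
  refine ⟨F', ?_, hwK⟩
  rw [Frame.K, Submodule.span_le]
  rintro _ ⟨i, rfl⟩
  by_cases hi : i = i₀
  · subst hi
    -- `y i = (c i)⁻¹ • (X • w - ∑_{j ≠ i} c j • y j)`
    have h2 : (Polynomial.C (c i) : k[X]) • F.y i =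
        (X : k[X]) • w - ∑ j ∈ Finset.univ.erase i, (Polynomial.C (c j) : k[X]) • F.y j := by
      rw [hw, ← Finset.add_sum_erase _ _ (Finset.mem_univ i), add_sub_cancel_right]
    have h3 : F.y i = (Polynomial.C (c i)⁻¹ : k[X]) • ((Polynomial.C (c i) : k[X]) • F.y i) := by
      rw [smul_smul, ← Polynomial.C_mul, inv_mul_cancel₀ hci₀, Polynomial.C_1, one_smul]
    rw [h3, h2]
    refine Submodule.smul_mem _ _ (Submodule.sub_mem _ (Submodule.smul_mem _ _ hwK) ?_)
    refine Submodule.sum_mem _ fun j hj => Submodule.smul_mem _ _ ?_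
    rw [← hy' j (Finset.ne_of_mem_erase hj)]
    exact Submodule.subset_span ⟨j, rfl⟩
  · rw [← hy' i hi]
    exact Submodule.subset_span ⟨i, rfl⟩

/-- Existence of a frame for a given basis. -/
lemma exists_frame {n : ℕ} (b : Basis (Fin n) k[X] D.M) : Nonempty (D.Frame n) := by
  have h : ∀ i, ∃ (c : ℕ) (y : D.N), (T (c : ℤ) : k[T;T⁻¹]) • D.e (D.fM (b i)) = D.fN y :=
    fun i => D.surjN _
  choose c y hy using h
  refine ⟨⟨b, fun i => -(c i : ℤ), y, fun i => ?_⟩⟩
  rw [← hy, smul_smul, ← T_add]; simp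

/-- **Birkhoff–Grothendieck**: over a field, the data splits as a sum of line bundles. -/
theorem exists_splitting (D : HData k) :
    ∃ (n : ℕ) (bM : Basis (Fin n) k[X] D.M) (bN : Basis (Fin n) k[X] D.N) (d : Fin n → ℤ),
      ∀ i, D.e (D.fM (bM i)) = (T (d i) : k[T;T⁻¹]) • D.fN (bN i) := by
  classical
  haveI : Module.Free k[X] D.M := inferInstance
  set n := Module.finrank k[X] D.M with hn
  let b₀ : Basis (Fin n) k[X] D.M := Module.finBasis k[X] D.M
  haveI : IsNoetherian k[X] D.N := inferInstance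
  -- pick a frame with maximal span
  obtain ⟨K, ⟨F, rfl⟩, hmax⟩ := (set_has_maximal_iff_noetherian (R := k[X]) (M := D.N)).mpr
    inferInstance {K | ∃ F : D.Frame n, F.K = K} (by
      obtain ⟨F⟩ := exists_frame (D := D) b₀
      exact ⟨F.K, F, rfl⟩)
  have htop : F.K = ⊤ := by
    by_contra hK
    obtain ⟨z, hz⟩ : ∃ z, z ∉ F.K := by
      by_contra h
      push Not at h
      exact hK (eq_top_iff.mpr fun z _ => h z)
    obtain ⟨c, hc⟩ := F.exists_pow_mem z
    -- minimal such `c`
    have hex : ∃ c, (X : k[X]) ^ c • z ∈ F.K := ⟨c, hc⟩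
    set c₁ := Nat.find hex with hc₁
    have hc₁mem : (X : k[X]) ^ c₁ • z ∈ F.K := Nat.find_spec hex
    have hc₁pos : c₁ ≠ 0 := by
      intro h0
      rw [h0, pow_zero, one_smul] at hc₁mem
      exact hz hc₁mem
    obtain ⟨c₂, hc₂⟩ := Nat.exists_eq_succ_of_ne_zero hc₁pos
    set w₀ := (X : k[X]) ^ c₂ • z with hw₀
    have hw₀n : w₀ ∉ F.K := Nat.find_min hex (by omega)
    have hXw₀ : (X : k[X]) • w₀ ∈ F.K := by
      rw [hw₀, smul_smul, ← pow_succ', ← Nat.succ_eq_add_one, ← hc₂]; exact hc₁mem
    obtain ⟨p, hp⟩ := (Submodule.mem_span_range_iff_exists_fun k[X]).mp hXw₀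
    set w := w₀ - ∑ i, (p i).divX • F.y i with hw
    have hsumK : ∑ i, (p i).divX • F.y i ∈ F.K :=
      Submodule.sum_mem _ fun i _ => Submodule.smul_mem _ _ (Submodule.subset_span ⟨i, rfl⟩)
    have hwn : w ∉ F.K := fun h => hw₀n (by
      have := Submodule.add_mem _ h hsumK
      rwa [hw, sub_add_cancel] at this)
    have hXw : (X : k[X]) • w = ∑ i, (Polynomial.C ((p i).coeff 0) : k[X]) • F.y i := by
      rw [hw, smul_sub, ← hp, Finset.smul_sum, ← Finset.sum_sub_distrib]
      refine Finset.sum_congr rfl fun i _ => ?_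
      rw [smul_smul, ← sub_smul]
      congr 1
      have := Polynomial.X_mul_divX_add (p i)
      linear_combination (-1 : k[X]) * this
    have hcne : ∃ i, (p i).coeff 0 ≠ 0 := by
      by_contra h
      push Not at h
      have h0 : (X : k[X]) • w = 0 := by
        rw [hXw]
        exact Finset.sum_eq_zero fun i _ => by rw [h i, Polynomial.C_0, zero_smul]
      have : w = 0 := D.X_pow_smul_eq_zero_N (c := 1) (by simpa using h0)
      exact hwn (this ▸ Submodule.zero_mem _)
    obtain ⟨F', hle, hwF'⟩ := F.exists_bigger _ w hXw hcne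
    exact hmax F'.K ⟨F', rfl⟩ (lt_of_le_of_ne hle fun h => hwn (h ▸ hwF'))
  refine ⟨n, F.b, Basis.mk F.indep (by rw [← htop]; exact le_refl _), F.d, fun i => ?_⟩
  rw [Basis.coe_mk]
  exact F.h i

end field

end HData

end Groth.Agent.Lib.Helper11.Hk
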