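import Mathlib
import Groth.Agent.Lib.Helper11.HkA

/-!
# Base change of Horrocks data (helper11)
-/

set_option autoImplicit false
set_option linter.unusedSectionVars false
set_option linter.unusedVariables false
set_option linter.style.haveILetI false

open Polynomial LaurentPolynomial Module TensorProduct

universe u

namespace Groth.Agent.Lib.Helper11.Hk

section ringmaps

variable (A B : Type u) [CommRing A] [CommRing B] [Algebra A B]

/-- The map of Laurent polynomial rings induced by `A → B`. -/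
noncomputable def mapL : A[T;T⁻¹] →+* B[T;T⁻¹] :=
  AddMonoidAlgebra.mapRingHom ℤ (algebraMap A B)

@[simp] lemma mapL_T (n : ℤ) : mapL A B (T n) = T n := by
  unfold mapL T
  rw [AddMonoidAlgebra.mapRingHom_single, map_one]

@[simp] lemma mapL_C (a : A) : mapL A B (LaurentPolynomial.C a) =
    LaurentPolynomial.C (algebraMap A B a) := by
  rw [← LaurentPolynomial.single_eq_C, ← LaurentPolynomial.single_eq_C]
  unfold mapL
  rw [AddMonoidAlgebra.mapRingHom_single]

lemma mapL_toLaurent (p : A[X]) :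
    mapL A B (toLaurent p) = toLaurent (p.map (algebraMap A B)) := by
  induction p using Polynomial.induction_on' with
  | add p q hp hq => simp [hp, hq]
  | monomial n a =>
    rw [Polynomial.map_monomial, Polynomial.toLaurent_C_mul_T, Polynomial.toLaurent_C_mul_T,
      map_mul, mapL_C, mapL_T]

lemma mapL_invert (l : A[T;T⁻¹]) :
    mapL A B (LaurentPolynomial.invert l) = LaurentPolynomial.invert (mapL A B l) := by
  induction l using LaurentPolynomial.induction_on' with
  | add p q hp hq => simp [hp, hq]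
  | C_mul_T n a => simp

lemma laurent_eq_sum (l : A[T;T⁻¹]) :
    l = ∑ n ∈ l.coeff.support, LaurentPolynomial.C (l.coeff n) * T n := by
  ext a
  simp_rw [← LaurentPolynomial.single_eq_C_mul_T]
  simp only [AddMonoidAlgebra.coeff_sum, AddMonoidAlgebra.coeff_single]
  rw [Finset.sum_apply', Finset.sum_eq_single a, Finsupp.single_eq_same]
  · intro b _ hb
    rw [Finsupp.single_eq_of_ne' hb]
  · intro ha
    rw [Finsupp.single_eq_same, Finsupp.notMem_support_iff.mp ha]

lemma ker_mapL :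
    RingHom.ker (mapL A B) = (RingHom.ker (algebraMap A B)).map (LaurentPolynomial.C) := by
  apply le_antisymm
  · intro l hl
    rw [RingHom.mem_ker] at hl
    have hcoef : ∀ n, l.coeff n ∈ RingHom.ker (algebraMap A B) := by
      intro n
      rw [RingHom.mem_ker]
      have := congrArg (fun x => x.coeff n) hl
      simpa [mapL] using this
    rw [laurent_eq_sum A l]
    refine Ideal.sum_mem _ fun n _ => Ideal.mul_mem_right _ _ (Ideal.mem_map_of_mem _ (hcoef n))
  · rw [Ideal.map_le_iff_le_comap]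
    intro a ha
    rw [RingHom.mem_ker] at ha
    rw [Ideal.mem_comap, RingHom.mem_ker, mapL_C, ha, map_zero]

lemma mapL_surjective (hs : Function.Surjective (algebraMap A B)) :
    Function.Surjective (mapL A B) := by
  intro b
  induction b using LaurentPolynomial.induction_on' with
  | add p q hp hq =>
    obtain ⟨p', rfl⟩ := hp
    obtain ⟨q', rfl⟩ := hq
    exact ⟨p' + q', map_add _ _ _⟩
  | C_mul_T n b =>
    obtain ⟨a, rfl⟩ := hs b
    exact ⟨LaurentPolynomial.C a * T n, by simp⟩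

/-- The algebra structure `A[T;T⁻¹] → B[T;T⁻¹]`. -/
@[reducible] noncomputable def laurentAlgebra : Algebra A[T;T⁻¹] B[T;T⁻¹] :=
  (mapL A B).toAlgebra

end ringmaps


section kernel

theorem one_tmul_eq_zero_quot {R : Type u} [CommRing R] (I : Ideal R) (Q : Type u)
    [AddCommGroup Q] [Module R Q] (z : Q) :
    ((1 : R ⧸ I) ⊗ₜ[R] z : (R ⧸ I) ⊗[R] Q) = 0 ↔ z ∈ (I • ⊤ : Submodule R Q) := by
  rw [← (TensorProduct.quotTensorEquivQuotSMul Q I).map_eq_zero_iff]
  have : (TensorProduct.quotTensorEquivQuotSMul Q I) ((1 : R ⧸ I) ⊗ₜ[R] z) =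
      Submodule.Quotient.mk z := by
    have := TensorProduct.quotTensorEquivQuotSMul_mk_tmul (M := Q) I (1 : R) z
    rw [one_smul] at this
    exact this
  rw [this, Submodule.Quotient.mk_eq_zero]

theorem one_tmul_eq_zero_of_surjective {R R' : Type u} [CommRing R] [CommRing R'] [Algebra R R']
    (hs : Function.Surjective (algebraMap R R')) {Q : Type u} [AddCommGroup Q] [Module R Q]
    (x : Q) (h : ((1 : R') ⊗ₜ[R] x : R' ⊗[R] Q) = 0) :
    x ∈ (RingHom.ker (algebraMap R R')) • (⊤ : Submodule R Q) := by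
  have hs' : Function.Surjective (Algebra.ofId R R') := hs
  let φ := Ideal.quotientKerAlgEquivOfSurjective hs'
  let ψ : ((R ⧸ RingHom.ker (Algebra.ofId R R')) ⊗[R] Q) ≃ₗ[R] (R' ⊗[R] Q) :=
    LinearEquiv.rTensor Q φ.toLinearEquiv
  have h1 : ψ ((1 : R ⧸ RingHom.ker (Algebra.ofId R R')) ⊗ₜ[R] x) = (1 : R') ⊗ₜ[R] x := by
    simp [ψ]
  have h2 : ((1 : R ⧸ RingHom.ker (Algebra.ofId R R')) ⊗ₜ[R] x :
      (R ⧸ RingHom.ker (Algebra.ofId R R')) ⊗[R] Q) = 0 := by
    apply ψ.injective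
    rw [h1, h, map_zero]
  exact (one_tmul_eq_zero_quot _ Q x).mp h2

end kernel

section bc

variable {A : Type u} [CommRing A] (B : Type u) [CommRing B] [Algebra A B]

attribute [local instance] Polynomial.algebra laurentAlgebra

lemma algebraMap_laurent (l : A[T;T⁻¹]) : algebraMap A[T;T⁻¹] B[T;T⁻¹] l = mapL A B l := rfl

lemma smul_laurent (l : A[T;T⁻¹]) (b : B[T;T⁻¹]) : l • b = mapL A B l * b := by
  rw [Algebra.smul_def]; rfl

/-- The two actions on `B[T;T⁻¹]` commute. -/
instance smulCommLB : SMulCommClass A[T;T⁻¹] B[X] B[T;T⁻¹] :=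
  ⟨fun l q b => by
    rw [smul_laurent, smul_laurent, Algebra.smul_def, Algebra.smul_def]
    ring⟩

lemma bc_smul_tmul {V : Type u} [AddCommGroup V] [Module A[T;T⁻¹] V]
    (q : B[X]) (b : B[T;T⁻¹]) (v : V) :
    q • (b ⊗ₜ[A[T;T⁻¹]] v) = ((toLaurent q : B[T;T⁻¹]) * b) ⊗ₜ[A[T;T⁻¹]] v := by
  rw [TensorProduct.smul_tmul', Algebra.smul_def]; rfl

lemma bc_smul_def {V : Type u} [AddCommGroup V] [Module A[T;T⁻¹] V]
    (q : B[X]) (t : B[T;T⁻¹] ⊗[A[T;T⁻¹]] V) :
    q • t = (toLaurent q : B[T;T⁻¹]) • t := by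
  rw [← algebraMap_eq_toLaurent, algebraMap_smul]



section semilin

variable {V W : Type u} [AddCommGroup V] [Module A[T;T⁻¹] V] [AddCommGroup W]
  [Module A[T;T⁻¹] W]

/-- Base change of an `invert`-semilinear additive map. -/
noncomputable def bcSemi (f : V →+ W)
    (hf : ∀ (a : A[T;T⁻¹]) (v : V), f (a • v) = LaurentPolynomial.invert a • f v) :
    (B[T;T⁻¹] ⊗[A[T;T⁻¹]] V) →+ (B[T;T⁻¹] ⊗[A[T;T⁻¹]] W) :=
  TensorProduct.liftAddHom
    { toFun := fun b =>
        { toFun := fun v => (LaurentPolynomial.invert b) ⊗ₜ[A[T;T⁻¹]] f v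
          map_zero' := by simp
          map_add' := fun v w => by simp [TensorProduct.tmul_add] }
      map_zero' := by ext v; simp
      map_add' := fun b c => by ext v; simp [TensorProduct.add_tmul] }
    (by
      intro r b v
      simp only [AddMonoidHom.coe_mk, ZeroHom.coe_mk]
      rw [hf, smul_laurent, map_mul, ← mapL_invert, ← smul_laurent, TensorProduct.smul_tmul])

@[simp] lemma bcSemi_tmul (f : V →+ W)
    (hf : ∀ (a : A[T;T⁻¹]) (v : V), f (a • v) = LaurentPolynomial.invert a • f v)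
    (b : B[T;T⁻¹]) (v : V) :
    bcSemi B f hf (b ⊗ₜ v) = (LaurentPolynomial.invert b) ⊗ₜ[A[T;T⁻¹]] f v := rfl

lemma bcSemi_smul (f : V →+ W)
    (hf : ∀ (a : A[T;T⁻¹]) (v : V), f (a • v) = LaurentPolynomial.invert a • f v)
    (a : B[T;T⁻¹]) (t : B[T;T⁻¹] ⊗[A[T;T⁻¹]] V) :
    bcSemi B f hf (a • t) = LaurentPolynomial.invert a • bcSemi B f hf t := by
  induction t using TensorProduct.induction_on with
  | zero => simp
  | tmul b v => simp [TensorProduct.smul_tmul', smul_eq_mul]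
  | add x y hx hy => simp [hx, hy]

/-- Base change of an `invert`-semilinear additive equivalence. -/
noncomputable def bcSemiEquiv (e : V ≃+ W)
    (he : ∀ (a : A[T;T⁻¹]) (v : V), e (a • v) = LaurentPolynomial.invert a • e v) :
    (B[T;T⁻¹] ⊗[A[T;T⁻¹]] V) ≃+ (B[T;T⁻¹] ⊗[A[T;T⁻¹]] W) :=
  have he' : ∀ (a : A[T;T⁻¹]) (w : W), e.symm (a • w) = LaurentPolynomial.invert a • e.symm w := by
    intro a w
    apply e.injective
    rw [he, AddEquiv.apply_symm_apply, AddEquiv.apply_symm_apply,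
      LaurentPolynomial.involutive_invert a]
  { toFun := bcSemi B e.toAddMonoidHom he
    invFun := bcSemi B e.symm.toAddMonoidHom he'
    left_inv := by
      intro t
      induction t using TensorProduct.induction_on with
      | zero => simp
      | tmul b v => simp [LaurentPolynomial.involutive_invert b]
      | add x y hx hy => rw [map_add, map_add, hx, hy]
    right_inv := by
      intro t
      induction t using TensorProduct.induction_on with
      | zero => simp
      | tmul b v => simp [LaurentPolynomial.involutive_invert b]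
      | add x y hx hy => rw [map_add, map_add, hx, hy]
    map_add' := map_add _ }

@[simp] lemma bcSemiEquiv_tmul (e : V ≃+ W)
    (he : ∀ (a : A[T;T⁻¹]) (v : V), e (a • v) = LaurentPolynomial.invert a • e v)
    (b : B[T;T⁻¹]) (v : V) :
    bcSemiEquiv B e he (b ⊗ₜ v) = (LaurentPolynomial.invert b) ⊗ₜ[A[T;T⁻¹]] e v := rfl

lemma bcSemiEquiv_smul (e : V ≃+ W)
    (he : ∀ (a : A[T;T⁻¹]) (v : V), e (a • v) = LaurentPolynomial.invert a • e v)
    (a : B[T;T⁻¹]) (t : B[T;T⁻¹] ⊗[A[T;T⁻¹]] V) :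
    bcSemiEquiv B e he (a • t) = LaurentPolynomial.invert a • bcSemiEquiv B e he t :=
  bcSemi_smul B e.toAddMonoidHom he a t

end semilin


section loc

variable {M V : Type u} [AddCommGroup M] [Module A[X] M] [AddCommGroup V]
  [Module A[T;T⁻¹] V] [Module A[X] V] [IsScalarTower A[X] A[T;T⁻¹] V]
  (f : M →ₗ[A[X]] V)

lemma smul_poly (p : A[X]) (q : B[X]) : p • q = p.map (algebraMap A B) * q := by
  rw [Algebra.smul_def]; rfl

/-- Base change of the localisation map. -/
noncomputable def bcMap : (B[X] ⊗[A[X]] M) →ₗ[B[X]] (B[T;T⁻¹] ⊗[A[T;T⁻¹]] V) where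
  toFun := TensorProduct.liftAddHom
    { toFun := fun q =>
        { toFun := fun x => (toLaurent q : B[T;T⁻¹]) ⊗ₜ[A[T;T⁻¹]] f x
          map_zero' := by simp
          map_add' := fun v w => by simp [TensorProduct.tmul_add] }
      map_zero' := by ext v; simp
      map_add' := fun b c => by ext v; simp [TensorProduct.add_tmul] }
    (by
      intro p q x
      simp only [AddMonoidHom.coe_mk, ZeroHom.coe_mk]
      have h1 : (toLaurent p : A[T;T⁻¹]) • f x = p • f x := by
        rw [← algebraMap_eq_toLaurent, algebraMap_smul]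
      rw [smul_poly, map_mul, ← mapL_toLaurent, ← smul_laurent, TensorProduct.smul_tmul,
        map_smul, h1])
  map_add' := map_add _
  map_smul' := by
    intro q t
    simp only [RingHom.id_apply]
    induction t using TensorProduct.induction_on with
    | zero => simp
    | tmul b v =>
      rw [TensorProduct.smul_tmul', smul_eq_mul]
      simp only [TensorProduct.liftAddHom_tmul, AddMonoidHom.coe_mk, ZeroHom.coe_mk, map_mul]
      rw [bc_smul_tmul]
    | add x y hx hy => rw [smul_add, map_add, map_add, hx, hy, smul_add]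

@[simp] lemma bcMap_tmul (q : B[X]) (x : M) :
    bcMap B f (q ⊗ₜ x) = (toLaurent q : B[T;T⁻¹]) ⊗ₜ[A[T;T⁻¹]] f x := rfl


/-- The composite algebra structure `A[X] → B[T;T⁻¹]`. -/
@[reducible] noncomputable def algAXLB : Algebra A[X] B[T;T⁻¹] :=
  ((algebraMap B[X] B[T;T⁻¹]).comp (algebraMap A[X] B[X])).toAlgebra

theorem bcMap_isLocalizedModule [IsLocalizedModule (Submonoid.powers (X : A[X])) f] :
    IsLocalizedModule (Submonoid.powers (X : B[X])) (bcMap B f) := by
  letI := algAXLB (A := A) B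
  haveI t1 : IsScalarTower A[X] B[X] B[T;T⁻¹] := IsScalarTower.of_algebraMap_eq (fun _ => rfl)
  haveI t2 : IsScalarTower A[X] A[T;T⁻¹] B[T;T⁻¹] := IsScalarTower.of_algebraMap_eq (fun p => by
    show toLaurent (p.map (algebraMap A B)) = mapL A B (toLaurent p)
    rw [mapL_toLaurent])
  haveI : SMulCommClass A[T;T⁻¹] A[X] B[T;T⁻¹] := IsScalarTower.to_smulCommClass'
  have hf : IsBaseChange A[T;T⁻¹] f :=
    (isLocalizedModule_iff_isBaseChange (Submonoid.powers (X : A[X])) A[T;T⁻¹] f).mp inferInstance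
  have hg : IsBaseChange B[T;T⁻¹] (TensorProduct.mk A[T;T⁻¹] B[T;T⁻¹] V 1) :=
    TensorProduct.isBaseChange _ _ _
  have h3 := hf.comp hg
  have h4 : IsBaseChange B[X] (TensorProduct.mk A[X] B[X] M 1) :=
    TensorProduct.isBaseChange _ _ _
  have hcomp : ((bcMap B f).restrictScalars A[X]) ∘ₗ (TensorProduct.mk A[X] B[X] M 1) =
      ((TensorProduct.mk A[T;T⁻¹] B[T;T⁻¹] V 1).restrictScalars A[X]) ∘ₗ f := by
    ext x
    simp
  have h5 : IsBaseChange B[T;T⁻¹] (bcMap B f) := IsBaseChange.of_comp h4 (by rw [hcomp]; exact h3)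
  exact (isLocalizedModule_iff_isBaseChange (Submonoid.powers (X : B[X])) B[T;T⁻¹]
    (bcMap B f)).mpr h5

end loc


lemma one_tmul_smul_poly {M : Type u} [AddCommGroup M] [Module A[X] M] (p : A[X]) (x : M) :
    ((1 : B[X]) ⊗ₜ[A[X]] (p • x) : B[X] ⊗[A[X]] M) =
      (p.map (algebraMap A B)) • ((1 : B[X]) ⊗ₜ[A[X]] x) := by
  rw [TensorProduct.smul_tmul', ← TensorProduct.smul_tmul, smul_poly, smul_eq_mul]

lemma one_tmul_smul_laurent {V : Type u} [AddCommGroup V] [Module A[T;T⁻¹] V] (l : A[T;T⁻¹])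
    (v : V) :
    ((1 : B[T;T⁻¹]) ⊗ₜ[A[T;T⁻¹]] (l • v) : B[T;T⁻¹] ⊗[A[T;T⁻¹]] V) =
      (mapL A B l) • ((1 : B[T;T⁻¹]) ⊗ₜ[A[T;T⁻¹]] v) := by
  rw [TensorProduct.smul_tmul', ← TensorProduct.smul_tmul, smul_laurent, smul_eq_mul]

namespace HData

variable (D : HData A)

/-- Base change of Horrocks data along `A → B`. -/
noncomputable def bc : HData B where
  M := B[X] ⊗[A[X]] D.M
  N := B[X] ⊗[A[X]] D.N
  VM := B[T;T⁻¹] ⊗[A[T;T⁻¹]] D.VM
  VN := B[T;T⁻¹] ⊗[A[T;T⁻¹]] D.VN
  fM := bcMap B D.fM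
  fN := bcMap B D.fN
  locM := bcMap_isLocalizedModule B D.fM
  locN := bcMap_isLocalizedModule B D.fN
  e := bcSemiEquiv B D.e D.he
  he := bcSemiEquiv_smul B D.e D.he

/-- The canonical map `M → M_B`. -/
noncomputable def πM (x : D.M) : (D.bc B).M := ((1 : B[X]) ⊗ₜ[A[X]] x : B[X] ⊗[A[X]] D.M)
/-- The canonical map `N → N_B`. -/
noncomputable def πN (x : D.N) : (D.bc B).N := ((1 : B[X]) ⊗ₜ[A[X]] x : B[X] ⊗[A[X]] D.N)
/-- The canonical map `VM → VM_B`. -/
noncomputable def πVM (v : D.VM) : (D.bc B).VM :=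
  ((1 : B[T;T⁻¹]) ⊗ₜ[A[T;T⁻¹]] v : B[T;T⁻¹] ⊗[A[T;T⁻¹]] D.VM)
/-- The canonical map `VN → VN_B`. -/
noncomputable def πVN (v : D.VN) : (D.bc B).VN :=
  ((1 : B[T;T⁻¹]) ⊗ₜ[A[T;T⁻¹]] v : B[T;T⁻¹] ⊗[A[T;T⁻¹]] D.VN)

lemma πM_add (x y : D.M) : D.πM B (x + y) = D.πM B x + D.πM B y := TensorProduct.tmul_add _ _ _
lemma πN_add (x y : D.N) : D.πN B (x + y) = D.πN B x + D.πN B y := TensorProduct.tmul_add _ _ _
lemma πVM_add (x y : D.VM) : D.πVM B (x + y) = D.πVM B x + D.πVM B y :=
  TensorProduct.tmul_add _ _ _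
lemma πVN_add (x y : D.VN) : D.πVN B (x + y) = D.πVN B x + D.πVN B y :=
  TensorProduct.tmul_add _ _ _

lemma πM_smul (p : A[X]) (x : D.M) :
    D.πM B (p • x) = (p.map (algebraMap A B)) • D.πM B x :=
  one_tmul_smul_poly B p x

lemma πN_smul (p : A[X]) (x : D.N) :
    D.πN B (p • x) = (p.map (algebraMap A B)) • D.πN B x :=
  one_tmul_smul_poly B p x

lemma πVM_smul (l : A[T;T⁻¹]) (v : D.VM) : D.πVM B (l • v) = (mapL A B l) • D.πVM B v :=
  one_tmul_smul_laurent B l v

lemma πVN_smul (l : A[T;T⁻¹]) (v : D.VN) : D.πVN B (l • v) = (mapL A B l) • D.πVN B v :=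
  one_tmul_smul_laurent B l v

lemma bc_fM (x : D.M) : (D.bc B).fM (D.πM B x) = D.πVM B (D.fM x) := by
  show bcMap B D.fM ((1 : B[X]) ⊗ₜ[A[X]] x) = _
  rw [bcMap_tmul, Polynomial.toLaurent_one]; rfl

lemma bc_fN (x : D.N) : (D.bc B).fN (D.πN B x) = D.πVN B (D.fN x) := by
  show bcMap B D.fN ((1 : B[X]) ⊗ₜ[A[X]] x) = _
  rw [bcMap_tmul, Polynomial.toLaurent_one]; rfl

lemma bc_e (v : D.VM) : (D.bc B).e (D.πVM B v) = D.πVN B (D.e v) := by
  show bcSemiEquiv B D.e D.he ((1 : B[T;T⁻¹]) ⊗ₜ[A[T;T⁻¹]] v) = _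
  rw [bcSemiEquiv_tmul, map_one]; rfl


section surj

variable (hs : Function.Surjective (algebraMap A B))
include hs

lemma πM_surjective : Function.Surjective (D.πM B) :=
  TensorProduct.mk_surjective A[X] D.M B[X] (Polynomial.map_surjective _ hs)

lemma πN_surjective : Function.Surjective (D.πN B) :=
  TensorProduct.mk_surjective A[X] D.N B[X] (Polynomial.map_surjective _ hs)

lemma πVM_surjective : Function.Surjective (D.πVM B) :=
  TensorProduct.mk_surjective A[T;T⁻¹] D.VM B[T;T⁻¹] (mapL_surjective A B hs)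

lemma πVN_surjective : Function.Surjective (D.πVN B) :=
  TensorProduct.mk_surjective A[T;T⁻¹] D.VN B[T;T⁻¹] (mapL_surjective A B hs)

lemma πM_eq_zero {x : D.M} (h : D.πM B x = 0) :
    x ∈ ((RingHom.ker (algebraMap A B)).map (Polynomial.C : A →+* A[X])) •
      (⊤ : Submodule A[X] D.M) := by
  have := one_tmul_eq_zero_of_surjective (R := A[X]) (R' := B[X])
    (Polynomial.map_surjective _ hs) x h
  rwa [Polynomial.algebraMap_def, Polynomial.ker_mapRingHom] at this

lemma πN_eq_zero {x : D.N} (h : D.πN B x = 0) :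
    x ∈ ((RingHom.ker (algebraMap A B)).map (Polynomial.C : A →+* A[X])) •
      (⊤ : Submodule A[X] D.N) := by
  have := one_tmul_eq_zero_of_surjective (R := A[X]) (R' := B[X])
    (Polynomial.map_surjective _ hs) x h
  rwa [Polynomial.algebraMap_def, Polynomial.ker_mapRingHom] at this

lemma πVM_eq_zero {v : D.VM} (h : D.πVM B v = 0) :
    v ∈ ((RingHom.ker (algebraMap A B)).map (LaurentPolynomial.C : A →+* A[T;T⁻¹])) •
      (⊤ : Submodule A[T;T⁻¹] D.VM) := by
  have := one_tmul_eq_zero_of_surjective (R := A[T;T⁻¹]) (R' := B[T;T⁻¹])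
    (mapL_surjective A B hs) v h
  rwa [show algebraMap A[T;T⁻¹] B[T;T⁻¹] = mapL A B from rfl, ker_mapL] at this

lemma πVN_eq_zero {v : D.VN} (h : D.πVN B v = 0) :
    v ∈ ((RingHom.ker (algebraMap A B)).map (LaurentPolynomial.C : A →+* A[T;T⁻¹])) •
      (⊤ : Submodule A[T;T⁻¹] D.VN) := by
  have := one_tmul_eq_zero_of_surjective (R := A[T;T⁻¹]) (R' := B[T;T⁻¹])
    (mapL_surjective A B hs) v h
  rwa [show algebraMap A[T;T⁻¹] B[T;T⁻¹] = mapL A B from rfl, ker_mapL] at this

end surj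

end HData

end bc

end Groth.Agent.Lib.Helper11.Hk
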