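import Mathlib
import Groth.Agent.Lib.Helper11.HkA
import Groth.Agent.Lib.Helper11.HkB
import Groth.Agent.Lib.Helper11.HkC

/-!
# Local Horrocks: utilities (helper11)
-/

set_option autoImplicit false
set_option linter.unusedSectionVars false
set_option linter.unusedVariables false
set_option linter.style.haveILetI false

open Polynomial LaurentPolynomial Module TensorProduct

universe u

namespace Groth.Agent.Lib.Helper11.Hk

section util

variable {A : Type u} [CommRing A]

/-- A polynomial with unit constant coefficient is a non-zero-divisor. -/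
lemma isRegular_of_isUnit_coeff_zero {r : A[X]} (h : IsUnit (r.coeff 0)) : IsRegular r := by
  have hu : IsUnit (r : PowerSeries A) := by
    rw [PowerSeries.isUnit_iff_constantCoeff, Polynomial.constantCoeff_coe]
    exact h
  have hl : IsLeftRegular r := by
    intro p q hpq
    apply Polynomial.coe_injective
    have : (r : PowerSeries A) * p = r * q := by
      rw [← Polynomial.coe_mul, ← Polynomial.coe_mul]
      exact congrArg _ hpq
    exact hu.mul_right_injective this
  exact ⟨hl, hl.right_of_commute (fun _ => mul_comm _ _)⟩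

variable [IsLocalRing A]

/-- **Lemma U**: over a local ring, an ideal of `A[X]` containing a monic polynomial and
comaximal with `𝔪[X]` is the unit ideal. -/
lemma ideal_eq_top_of_monic_mem (O : Ideal A[X]) {G : A[X]} (hG : G.Monic) (hGO : G ∈ O)
    (hsup : O ⊔ (IsLocalRing.maximalIdeal A).map (Polynomial.C : A →+* A[X]) = ⊤) : O = ⊤ := by
  set m := IsLocalRing.maximalIdeal A with hm
  -- `A[X] ⧸ O` is a finite `A`-module
  haveI : Module.Finite A (A[X] ⧸ Ideal.span {G}) := hG.finite_quotient
  have hle : Ideal.span {G} ≤ O := (Ideal.span_singleton_le_iff_mem _).mpr hGO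
  haveI : Module.Finite A (A[X] ⧸ O) :=
    Module.Finite.of_surjective (Ideal.Quotient.factorₐ A hle).toLinearMap
      (Ideal.Quotient.factor_surjective hle)
  -- `⊤ ≤ m • ⊤`
  have htop : (⊤ : Submodule A (A[X] ⧸ O)) ≤ m • ⊤ := by
    intro z _
    obtain ⟨p, rfl⟩ := Ideal.Quotient.mk_surjective z
    have h1 : (1 : A[X]) ∈ O ⊔ m.map (Polynomial.C : A →+* A[X]) := by rw [hsup]; trivial
    obtain ⟨o, ho, q, hq, hoq⟩ := Submodule.mem_sup.mp h1
    have h2 : Ideal.Quotient.mk O p = Ideal.Quotient.mk O (p * q) := by
      rw [← sub_eq_zero, ← map_sub, Ideal.Quotient.eq_zero_iff_mem]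
      have : p - p * q = p * o := by linear_combination (-p) * hoq
      rw [this]
      exact O.mul_mem_left _ ho
    rw [h2]
    have h3 : p * q ∈ m.map (Polynomial.C : A →+* A[X]) := Ideal.mul_mem_left _ _ hq
    have h4 : p * q ∈ (m • (⊤ : Submodule A A[X])) := by
      rw [Ideal.smul_top_eq_map]
      exact h3
    have h5 : (Ideal.Quotient.mkₐ A O).toLinearMap (p * q) ∈
        (m • (⊤ : Submodule A A[X])).map (Ideal.Quotient.mkₐ A O).toLinearMap :=
      Submodule.mem_map_of_mem h4
    rw [Submodule.map_smul''] at h5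
    exact Submodule.smul_mono (le_refl m) le_top h5
  have hbot := Submodule.eq_bot_of_le_smul_of_le_jacobson_bot m (⊤ : Submodule A (A[X] ⧸ O))
    (Module.Finite.fg_top) htop (IsLocalRing.maximalIdeal_le_jacobson _)
  rw [Ideal.eq_top_iff_one, ← Ideal.Quotient.eq_zero_iff_mem]
  have : (Ideal.Quotient.mk O 1 : A[X] ⧸ O) ∈ (⊤ : Submodule A (A[X] ⧸ O)) := trivial
  rw [hbot] at this
  exact this

end util


namespace HData

variable {A : Type u} [CommRing A] (D : HData A)

/-- Twisting by `O(j)`: replace `e` by `T^j • e`. -/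
noncomputable def twist (j : ℤ) : HData A where
  M := D.M
  N := D.N
  VM := D.VM
  VN := D.VN
  fM := D.fM
  fN := D.fN
  e :=
    { toFun := fun v => (T j : A[T;T⁻¹]) • D.e v
      invFun := fun w => D.e.symm ((T (-j) : A[T;T⁻¹]) • w)
      left_inv := fun v => by
        simp only [smul_smul, ← T_add, neg_add_cancel, T_zero, one_smul,
          AddEquiv.symm_apply_apply]
      right_inv := fun w => by
        simp only [AddEquiv.apply_symm_apply, smul_smul, ← T_add, add_neg_cancel, T_zero,
          one_smul]
      map_add' := fun v w => by simp only [map_add, smul_add] }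
  he := fun a v => by
    show (T j : A[T;T⁻¹]) • D.e (a • v) = LaurentPolynomial.invert a • ((T j : A[T;T⁻¹]) • D.e v)
    rw [D.he, smul_smul, smul_smul, mul_comm]

@[simp] lemma twist_e (j : ℤ) (v : D.VM) : (D.twist j).e v = (T j : A[T;T⁻¹]) • D.e v := rfl

/-- Swapping the two charts. -/
noncomputable def swap : HData A where
  M := D.N
  N := D.M
  VM := D.VN
  VN := D.VM
  fM := D.fN
  fN := D.fM
  e := D.e.symm
  he := D.he_symm

end HData

end Groth.Agent.Lib.Helper11.Hk
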