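import Mathlib
import Groth.Agent.Lib.Helper11.HkA
import Groth.Agent.Lib.Helper11.HkB
import Groth.Agent.Lib.Helper11.HkC
import Groth.Agent.Lib.Helper11.HkD

/-!
# Local Horrocks: vanishing of `H¹(E(-1))` and lifting of sections (helper11)
-/

set_option autoImplicit false
set_option linter.unusedSectionVars false
set_option linter.unusedVariables false
set_option linter.style.haveILetI false

open Polynomial LaurentPolynomial Module TensorProduct

universe u

namespace Groth.Agent.Lib.Helper11.Hk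

attribute [local instance] Polynomial.algebra laurentAlgebra

namespace HData

section amod

variable {A : Type u} [CommRing A] (D : HData A)

/-- The `A`-module structure on `VN`. -/
noncomputable instance modAVN : Module A D.VN := Module.compHom D.VN (algebraMap A A[T;T⁻¹])
/-- The `A`-module structure on `VM`. -/
noncomputable instance modAVM : Module A D.VM := Module.compHom D.VM (algebraMap A A[T;T⁻¹])

instance towAVN : IsScalarTower A A[T;T⁻¹] D.VN := IsScalarTower.of_algebraMap_smul fun _ _ => rfl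
instance towAVM : IsScalarTower A A[T;T⁻¹] D.VM := IsScalarTower.of_algebraMap_smul fun _ _ => rfl

lemma smulA_VN (a : A) (v : D.VN) : a • v = (LaurentPolynomial.C a : A[T;T⁻¹]) • v := rfl
lemma smulA_VM (a : A) (v : D.VM) : a • v = (LaurentPolynomial.C a : A[T;T⁻¹]) • v := rfl

lemma e_smulA (a : A) (v : D.VM) : D.e (a • v) = a • D.e v := by
  rw [smulA_VM, D.he, invert_C, ← smulA_VN]

lemma fM_C_smul (a : A) (x : D.M) : D.fM ((Polynomial.C a : A[X]) • x) = a • D.fM x := by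
  rw [map_smul, smul_VM, Polynomial.toLaurent_C, ← smulA_VM]

lemma fN_C_smul (a : A) (x : D.N) : D.fN ((Polynomial.C a : A[X]) • x) = a • D.fN x := by
  rw [map_smul, smul_VN, Polynomial.toLaurent_C, ← smulA_VN]

end amod


section decomp

variable {A : Type u} [CommRing A]

lemma laurent_decomp (d : ℤ) (hd : 0 ≤ d) (l : A[T;T⁻¹]) :
    ∃ p q : A[X], l = T d * LaurentPolynomial.invert (toLaurent p) + T 1 * toLaurent q := by
  induction l using LaurentPolynomial.induction_on' with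
  | add l₁ l₂ h₁ h₂ =>
    obtain ⟨p₁, q₁, rfl⟩ := h₁
    obtain ⟨p₂, q₂, rfl⟩ := h₂
    exact ⟨p₁ + p₂, q₁ + q₂, by simp only [map_add]; ring⟩
  | C_mul_T n a =>
    by_cases hn : n ≤ d
    · refine ⟨Polynomial.C a * X ^ (d - n).toNat, 0, ?_⟩
      rw [Polynomial.toLaurent_C_mul_X_pow, map_mul, invert_C, invert_T, map_zero, mul_zero,
        add_zero, mul_left_comm, ← T_add, Int.toNat_of_nonneg (by omega)]
      congr 2
      ring
    · refine ⟨0, Polynomial.C a * X ^ (n - 1).toNat, ?_⟩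
      rw [Polynomial.toLaurent_C_mul_X_pow, map_zero, map_zero, mul_zero, zero_add, mul_left_comm,
        ← T_add, Int.toNat_of_nonneg (by omega)]
      congr 2
      ring

end decomp

section B1

variable {A : Type u} [CommRing A] (D : HData A)

/-- "`H¹(E(-1)) = 0`" for a split bundle with nonnegative twists. -/
lemma B1 {n : ℕ} (bM : Basis (Fin n) A[X] D.M) (bN : Basis (Fin n) A[X] D.N) (d : Fin n → ℤ)
    (h : ∀ i, D.e (D.fM (bM i)) = (T (d i) : A[T;T⁻¹]) • D.fN (bN i)) (hd : ∀ i, 0 ≤ d i)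
    (t : D.VN) : ∃ x y, t = D.e (D.fM x) + D.fN ((X : A[X]) • y) := by
  let bV : Basis (Fin n) A[T;T⁻¹] D.VN := D.swap.basisVM bN
  have hbV : ∀ i, bV i = D.fN (bN i) := fun i => D.swap.basisVM_apply bN i
  rw [← bV.sum_repr t]
  refine Finset.sum_induction _ (fun t => ∃ x y, t = D.e (D.fM x) + D.fN ((X : A[X]) • y))
    ?_ ⟨0, 0, by simp⟩ ?_
  · rintro _ _ ⟨x₁, y₁, rfl⟩ ⟨x₂, y₂, rfl⟩
    exact ⟨x₁ + x₂, y₁ + y₂, by simp only [map_add, smul_add]; abel⟩
  · intro i _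
    obtain ⟨p, q, hpq⟩ := laurent_decomp (d i) (hd i) (bV.repr t i)
    refine ⟨p • bM i, q • bN i, ?_⟩
    rw [hpq, hbV, add_smul, mul_comm (T (d i)), mul_smul, ← h i, ← D.he, D.toLaurent_smul_fM,
      mul_smul, D.toLaurent_smul_fN]
    congr 1
    have := D.T_smul_fN 1 (q • bN i)
    rw [pow_one] at this
    rw [← this]
    simp

end B1

section loc

variable {A : Type u} [CommRing A] [IsLocalRing A] (D : HData A)

local notation "𝔪" => IsLocalRing.maximalIdeal A
local notation "k" => IsLocalRing.ResidueField A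

lemma residue_surj : Function.Surjective (algebraMap A k) := IsLocalRing.residue_surjective

lemma ker_algebraMap_residue : RingHom.ker (algebraMap A k) = 𝔪 := IsLocalRing.ker_residue

lemma mem_smul_top_of_πVN_eq_zero {v : D.VN} (h : D.πVN k v = 0) :
    v ∈ 𝔪 • (⊤ : Submodule A D.VN) := by
  have h1 := D.πVN_eq_zero k residue_surj h
  rw [ker_algebraMap_residue] at h1
  have h2 : v ∈ (((IsLocalRing.maximalIdeal A).map (algebraMap A A[T;T⁻¹])) • (⊤ : Submodule A[T;T⁻¹] D.VN)).restrictScalars A :=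
    h1
  rwa [Ideal.smul_restrictScalars, Submodule.restrictScalars_top] at h2

/-- Sections over the chart `M`, viewed in `VN`. -/
noncomputable def S1 : Submodule A D.VN where
  carrier := {v | ∃ x, D.e (D.fM x) = v}
  add_mem' := by rintro _ _ ⟨x, rfl⟩ ⟨y, rfl⟩; exact ⟨x + y, by simp⟩
  zero_mem' := ⟨0, by simp⟩
  smul_mem' := by rintro a _ ⟨x, rfl⟩; exact ⟨Polynomial.C a • x, by rw [fM_C_smul, e_smulA]⟩

/-- Sections over the chart `N` vanishing at infinity, viewed in `VN`. -/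
noncomputable def S2 : Submodule A D.VN where
  carrier := {v | ∃ y, D.fN ((X : A[X]) • y) = v}
  add_mem' := by rintro _ _ ⟨x, rfl⟩ ⟨y, rfl⟩; exact ⟨x + y, by simp⟩
  zero_mem' := ⟨0, by simp⟩
  smul_mem' := by rintro a _ ⟨y, rfl⟩; exact ⟨Polynomial.C a • y, by rw [smul_comm, fN_C_smul]⟩

lemma L2_claim1
    (hB1 : ∀ t : (D.bc k).VN, ∃ x y,
      t = (D.bc k).e ((D.bc k).fM x) + (D.bc k).fN ((X : k[X]) • y))
    (v : D.VN) : v ∈ (D.S1 ⊔ D.S2) ⊔ 𝔪 • (⊤ : Submodule A D.VN) := by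
  obtain ⟨x', y', hxy⟩ := hB1 (D.πVN k v)
  obtain ⟨x, rfl⟩ := D.πM_surjective k residue_surj x'
  obtain ⟨y, rfl⟩ := D.πN_surjective k residue_surj y'
  have hsub : ∀ a b : D.VN, D.πVN k (a - b) = D.πVN k a - D.πVN k b :=
    fun a b => TensorProduct.tmul_sub _ _ _
  have h0 : D.πVN k (v - (D.e (D.fM x) + D.fN ((X : A[X]) • y))) = 0 := by
    rw [hsub, πVN_add, ← bc_e, ← bc_fM, ← bc_fN, πN_smul, Polynomial.map_X, ← hxy, sub_self]
  have h1 := D.mem_smul_top_of_πVN_eq_zero h0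
  have : v = (D.e (D.fM x) + D.fN ((X : A[X]) • y)) +
      (v - (D.e (D.fM x) + D.fN ((X : A[X]) • y))) := by abel
  rw [this]
  exact Submodule.add_mem_sup (Submodule.add_mem_sup ⟨x, rfl⟩ ⟨y, rfl⟩) h1

lemma L2_fg : ∃ F : Submodule A D.VN, F.FG ∧ (D.S1 ⊔ D.S2) ⊔ F = ⊤ := by
  classical
  obtain ⟨G, hG⟩ := (Module.Finite.fg_top : (⊤ : Submodule A[X] D.N).FG)
  have hc : ∀ y : D.N, ∃ (c : ℕ) (x : D.M),
      D.e (D.fM x) = (T (-(c : ℤ)) : A[T;T⁻¹]) • D.fN y := by
    intro y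
    obtain ⟨c, x, hx⟩ := D.surjM (D.e.symm (D.fN y))
    refine ⟨c, x, ?_⟩
    rw [← hx, D.he, invert_T, AddEquiv.apply_symm_apply]
  choose c x hx using hc
  let F : Submodule A D.VN := Submodule.span A
    (↑((G.sigma (fun y => Finset.Icc (-(c y : ℤ)) 0)).image
      (fun p => (T p.2 : A[T;T⁻¹]) • D.fN p.1)) : Set D.VN)
  refine ⟨F, ⟨_, rfl⟩, ?_⟩
  set S' := (D.S1 ⊔ D.S2) ⊔ F with hS'
  have key : ∀ y ∈ G, ∀ n : ℤ, (T n : A[T;T⁻¹]) • D.fN y ∈ S' := by
    intro y hy n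
    rcases le_or_gt 1 n with h1 | h1
    · apply Submodule.mem_sup_left; apply Submodule.mem_sup_right
      refine ⟨(X : A[X]) ^ (n - 1).toNat • y, ?_⟩
      rw [smul_smul, ← pow_succ', ← D.T_smul_fN]
      congr 2
      push_cast
      rw [Int.toNat_of_nonneg (by omega)]
      ring
    · rcases le_or_gt (-(c y : ℤ)) n with h2 | h2
      · apply Submodule.mem_sup_right; apply Submodule.subset_span
        exact Finset.mem_coe.mpr (Finset.mem_image.mpr ⟨⟨y, n⟩,
          Finset.mem_sigma.mpr ⟨hy, Finset.mem_Icc.mpr ⟨h2, by show n ≤ 0; omega⟩⟩, rfl⟩)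
      · apply Submodule.mem_sup_left; apply Submodule.mem_sup_left
        refine ⟨(X : A[X]) ^ (-(c y : ℤ) - n).toNat • x y, ?_⟩
        rw [← D.T_smul_fM, D.he, invert_T, hx, smul_smul, ← T_add]
        congr 2
        rw [Int.toNat_of_nonneg (by omega)]
        ring
  have key2 : ∀ y ∈ G, ∀ l : A[T;T⁻¹], l • D.fN y ∈ S' := by
    intro y hy l
    induction l using LaurentPolynomial.induction_on' with
    | add p q hp hq => rw [add_smul]; exact Submodule.add_mem _ hp hq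
    | C_mul_T n a =>
      rw [mul_smul, ← smulA_VN]
      exact Submodule.smul_mem _ _ (key y hy n)
  have key3 : ∀ y : D.N, ∀ l : A[T;T⁻¹], l • D.fN y ∈ S' := by
    intro y
    have hy : y ∈ Submodule.span A[X] (G : Set D.N) := by rw [hG]; trivial
    induction hy using Submodule.span_induction with
    | mem y hy => exact key2 y hy
    | zero => intro l; simp
    | add y z _ _ hy hz => intro l; rw [map_add, smul_add]; exact Submodule.add_mem _ (hy l) (hz l)
    | smul p y _ hy => intro l; rw [← D.toLaurent_smul_fN, smul_smul]; exact hy _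
  rw [eq_top_iff]
  intro v _
  obtain ⟨c', y', hy'⟩ := D.surjN v
  have : v = (T (-(c' : ℤ)) : A[T;T⁻¹]) • D.fN y' := by
    rw [← hy', smul_smul, ← T_add]; simp
  rw [this]
  exact key3 y' _

/-- (L2) `H¹(E(-1)) = 0` over the local ring, from the residue field, by Nakayama. -/
lemma L2
    (hB1 : ∀ t : (D.bc k).VN, ∃ x y,
      t = (D.bc k).e ((D.bc k).fM x) + (D.bc k).fN ((X : k[X]) • y))
    (v : D.VN) : ∃ x y, v = D.e (D.fM x) + D.fN ((X : A[X]) • y) := by
  obtain ⟨F, hF, htop⟩ := D.L2_fg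
  set S := D.S1 ⊔ D.S2 with hS
  have h1 : ∀ v, v ∈ S ⊔ 𝔪 • (⊤ : Submodule A D.VN) := D.L2_claim1 hB1
  have hFle : F ≤ S ⊔ 𝔪 • F := by
    intro f _
    have := h1 f
    rw [← htop, Submodule.smul_sup] at this
    have hle : S ⊔ (𝔪 • S ⊔ 𝔪 • F) ≤ S ⊔ 𝔪 • F :=
      sup_le le_sup_left (sup_le (le_trans Submodule.smul_le_right le_sup_left) le_sup_right)
    exact hle this
  have hFS : F ≤ S := Submodule.le_of_le_smul_of_le_jacobson_bot hF
    (IsLocalRing.maximalIdeal_le_jacobson _) hFle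
  have hSt : S = ⊤ := by rw [← htop]; exact (sup_eq_left.mpr hFS).symm
  have hv : v ∈ S := by rw [hSt]; trivial
  obtain ⟨s1, ⟨x, rfl⟩, s2, ⟨y, rfl⟩, rfl⟩ := Submodule.mem_sup.mp hv
  exact ⟨x, y, rfl⟩

lemma πM_C_smul_of_mem {a : A} (ha : a ∈ 𝔪) (x : D.M) :
    D.πM k ((Polynomial.C a : A[X]) • x) = 0 := by
  have h0 : algebraMap A k a = 0 := by
    rw [← RingHom.mem_ker, ker_algebraMap_residue]; exact ha
  rw [πM_smul, Polynomial.map_C, h0, Polynomial.C_0, zero_smul]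

lemma πN_C_smul_of_mem {a : A} (ha : a ∈ 𝔪) (x : D.N) :
    D.πN k ((Polynomial.C a : A[X]) • x) = 0 := by
  have h0 : algebraMap A k a = 0 := by
    rw [← RingHom.mem_ker, ker_algebraMap_residue]; exact ha
  rw [πN_smul, Polynomial.map_C, h0, Polynomial.C_0, zero_smul]

/-- (L3) lifting a section from the residue field. -/
lemma L3 (hL2 : ∀ v : D.VN, ∃ x y, v = D.e (D.fM x) + D.fN ((X : A[X]) • y))
    (x₀ : D.M) (y₀ : D.N) (h₀ : D.πVN k (D.e (D.fM x₀)) = D.πVN k (D.fN y₀)) :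
    ∃ (γM : D.M) (γN : D.N), D.e (D.fM γM) = D.fN γN ∧ D.πM k γM = D.πM k x₀ ∧
      D.πN k γN = D.πN k y₀ := by
  have claim : ∀ w ∈ 𝔪 • (⊤ : Submodule A D.VN), ∃ μ ν, w = D.e (D.fM μ) + D.fN ν ∧
      D.πM k μ = 0 ∧ D.πN k ν = 0 := by
    intro w hw
    refine Submodule.smul_induction_on hw ?_ ?_
    · intro a ha v _
      obtain ⟨x, y, rfl⟩ := hL2 v
      refine ⟨(Polynomial.C a : A[X]) • x, (Polynomial.C a : A[X]) • ((X : A[X]) • y), ?_,
        D.πM_C_smul_of_mem ha x, D.πN_C_smul_of_mem ha _⟩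
      rw [smul_add, fM_C_smul, e_smulA, fN_C_smul]
    · rintro _ _ ⟨μ₁, ν₁, rfl, h1, h2⟩ ⟨μ₂, ν₂, rfl, h3, h4⟩
      refine ⟨μ₁ + μ₂, ν₁ + ν₂, ?_, ?_, ?_⟩
      · simp only [map_add]; abel
      · rw [πM_add, h1, h3, add_zero]
      · rw [πN_add, h2, h4, add_zero]
  have hsub : ∀ a b : D.VN, D.πVN k (a - b) = D.πVN k a - D.πVN k b :=
    fun a b => TensorProduct.tmul_sub _ _ _
  have hw0 : D.πVN k (D.e (D.fM x₀) - D.fN y₀) = 0 := by rw [hsub, h₀, sub_self]
  obtain ⟨μ, ν, hw, hμ, hν⟩ := claim _ (D.mem_smul_top_of_πVN_eq_zero hw0)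
  refine ⟨x₀ - μ, y₀ + ν, ?_, ?_, ?_⟩
  · rw [map_sub, map_sub, map_add, sub_eq_iff_eq_add]
    rw [sub_eq_iff_eq_add] at hw
    rw [hw]; abel
  · have : D.πM k (x₀ - μ) = D.πM k x₀ - D.πM k μ := TensorProduct.tmul_sub _ _ _
    rw [this, hμ, sub_zero]
  · rw [πN_add, hν, add_zero]

end loc

end HData

end Groth.Agent.Lib.Helper11.Hk
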