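import Mathlib
import Groth.Agent.Lib.Helper11.HkA
import Groth.Agent.Lib.Helper11.HkB
import Groth.Agent.Lib.Helper11.HkC
import Groth.Agent.Lib.Helper11.HkD
import Groth.Agent.Lib.Helper11.HkE

/-!
# Local Horrocks: unimodularity of the lifted section (helper11)
-/

set_option autoImplicit false
set_option linter.unusedSectionVars false
set_option linter.unusedVariables false
set_option linter.style.haveILetI false

open Polynomial LaurentPolynomial Module TensorProduct

universe u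

namespace Groth.Agent.Lib.Helper11.Hk

attribute [local instance] Polynomial.algebra laurentAlgebra

namespace HData

section loc

variable {A : Type u} [CommRing A] [IsLocalRing A] (D : HData A)

local notation "𝔪" => IsLocalRing.maximalIdeal A
local notation "k" => IsLocalRing.ResidueField A

/-- Lifting a coordinate functional from the residue field. -/
lemma exists_dual_lift {n : ℕ} (b : Basis (Fin n) k[X] (D.bc k).M) (i : Fin n) :
    ∃ φ₀ : D.M →ₗ[A[X]] A[X], ∀ x, (φ₀ x).map (algebraMap A k) = b.coord i (D.πM k x) := by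
  let g : D.M →ₗ[A[X]] k[X] :=
    { toFun := fun x => b.coord i (D.πM k x)
      map_add' := fun x y => by rw [πM_add, map_add]
      map_smul' := fun p x => by
        rw [πM_smul, map_smul, smul_eq_mul, RingHom.id_apply, smul_poly] }
  have hf : Function.Surjective (Algebra.linearMap A[X] k[X]) := by
    intro q
    obtain ⟨p, hp⟩ := Polynomial.map_surjective _ residue_surj q
    exact ⟨p, hp⟩
  obtain ⟨h, hh⟩ := Module.projective_lifting_property (Algebra.linearMap A[X] k[X]) g hf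
  refine ⟨h, fun x => ?_⟩
  have := LinearMap.congr_fun hh x
  exact this

/-- The `L`-linear extension of a functional on `N`. -/
lemma exists_extend_dual (ψ₀ : D.N →ₗ[A[X]] A[X]) :
    ∃ ψL : D.VN →ₗ[A[T;T⁻¹]] A[T;T⁻¹], ∀ y, ψL (D.fN y) = toLaurent (ψ₀ y) := by
  have hunit : ∀ x : Submonoid.powers (X : A[X]),
      IsUnit (algebraMap A[X] (Module.End A[X] A[T;T⁻¹]) x) :=
    IsLocalizedModule.map_units (Algebra.linearMap A[X] A[T;T⁻¹])
  let ψ1 : D.VN →ₗ[A[X]] A[T;T⁻¹] := IsLocalizedModule.lift (Submonoid.powers (X : A[X])) D.fN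
    ((Algebra.linearMap A[X] A[T;T⁻¹]) ∘ₗ ψ₀) hunit
  refine ⟨ψ1.extendScalarsOfIsLocalization (Submonoid.powers (X : A[X])) A[T;T⁻¹], fun y => ?_⟩
  show ψ1 (D.fN y) = _
  rw [IsLocalizedModule.lift_apply]
  simp [algebraMap_eq_toLaurent]

/-- (L4) the lifted section is unimodular. -/
lemma exists_dual_eq_one (γM : D.M) (γN : D.N) (hγ : D.e (D.fM γM) = D.fN γN)
    (φ₀ : D.M →ₗ[A[X]] A[X]) (ψ₀ : D.N →ₗ[A[X]] A[X])
    (hφ : φ₀ γM - 1 ∈ (𝔪).map (Polynomial.C : A →+* A[X]))
    (hψ : ψ₀ γN - 1 ∈ (𝔪).map (Polynomial.C : A →+* A[X])) :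
    ∃ φ : D.M →ₗ[A[X]] A[X], φ γM = 1 := by
  classical
  obtain ⟨ψL, hψL⟩ := D.exists_extend_dual ψ₀
  -- the transported functional, valued in Laurent polynomials
  let Φ : D.M →ₗ[A[X]] A[T;T⁻¹] :=
    { toFun := fun x => LaurentPolynomial.invert (ψL (D.e (D.fM x)))
      map_add' := fun x y => by simp only [map_add]
      map_smul' := fun p x => by
        rw [← D.toLaurent_smul_fM, D.he, map_smul, smul_eq_mul, map_mul,
          LaurentPolynomial.involutive_invert, RingHom.id_apply, ← algebraMap_eq_toLaurent,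
          Algebra.smul_def] }
  have hΦ : ∀ x, Φ x = LaurentPolynomial.invert (ψL (D.e (D.fM x))) := fun x => rfl
  set g := ψ₀ γN with hg
  have hΦγ : Φ γM = LaurentPolynomial.invert (toLaurent g) := by rw [hΦ, hγ, hψL]
  -- a uniform power of `T` clearing denominators
  let R₀ : Submodule A[X] A[T;T⁻¹] := LinearMap.range (Algebra.linearMap A[X] A[T;T⁻¹])
  have hc : ∃ c : ℕ, ∀ x, (T (c : ℤ) : A[T;T⁻¹]) * Φ x ∈ R₀ := by
    obtain ⟨G, hG⟩ := (Module.Finite.fg_top : (⊤ : Submodule A[X] D.M).FG)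
    have h1 : ∀ x : D.M, ∃ c : ℕ, (T (c : ℤ) : A[T;T⁻¹]) * Φ x ∈ R₀ := by
      intro x
      obtain ⟨c, q, hq⟩ := LaurentPolynomial.exists_T_pow (Φ x)
      exact ⟨c, q, by rw [Algebra.linearMap_apply, algebraMap_eq_toLaurent, hq, mul_comm]⟩
    choose c hc using h1
    refine ⟨G.sup c, fun x => ?_⟩
    have hx : x ∈ Submodule.span A[X] (G : Set D.M) := by rw [hG]; trivial
    induction hx using Submodule.span_induction with
    | mem y hy =>
      have hle : c y ≤ G.sup c := Finset.le_sup hy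
      obtain ⟨m, hm⟩ := Nat.exists_eq_add_of_le hle
      rw [hm, Nat.cast_add, add_comm, T_add, mul_assoc]
      have := R₀.smul_mem ((X : A[X]) ^ m) (hc y)
      rwa [Algebra.smul_def, algebraMap_eq_toLaurent, Polynomial.toLaurent_X_pow] at this
    | zero => rw [map_zero, mul_zero]; exact R₀.zero_mem
    | add y z _ _ hy hz => rw [map_add, mul_add]; exact R₀.add_mem hy hz
    | smul p y _ hy =>
      rw [map_smul, Algebra.smul_def, mul_left_comm, ← Algebra.smul_def]
      exact R₀.smul_mem p hy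
  obtain ⟨c₀, hc₀⟩ := hc
  set c := c₀ + g.natDegree with hcdef
  have hcR : ∀ x, (T (c : ℤ) : A[T;T⁻¹]) * Φ x ∈ R₀ := by
    intro x
    rw [hcdef, Nat.cast_add, add_comm, T_add, mul_assoc]
    have := R₀.smul_mem ((X : A[X]) ^ g.natDegree) (hc₀ x)
    rwa [Algebra.smul_def, algebraMap_eq_toLaurent, Polynomial.toLaurent_X_pow] at this
  -- the polynomial-valued functional
  have hinj : Function.Injective (Algebra.linearMap A[X] A[T;T⁻¹]) := by
    intro p q hpq
    exact Polynomial.toLaurent_injective hpq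
  let Φ' : D.M →ₗ[A[X]] A[T;T⁻¹] := (T (c : ℤ) : A[T;T⁻¹]) • Φ
  have hΦ' : ∀ x, Φ' x = (T (c : ℤ) : A[T;T⁻¹]) * Φ x := fun x => rfl
  let φ₁ : D.M →ₗ[A[X]] A[X] :=
    (LinearEquiv.ofInjective (Algebra.linearMap A[X] A[T;T⁻¹]) hinj).symm.toLinearMap ∘ₗ
      (LinearMap.codRestrict R₀ Φ' (fun x => by rw [hΦ']; exact hcR x))
  have hφ₁ : ∀ x, toLaurent (φ₁ x) = (T (c : ℤ) : A[T;T⁻¹]) * Φ x := by
    intro x
    have h1 := (LinearEquiv.ofInjective (Algebra.linearMap A[X] A[T;T⁻¹]) hinj).apply_symm_apply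
      (LinearMap.codRestrict R₀ Φ' (fun x => by rw [hΦ']; exact hcR x) x)
    have h2 := congrArg Subtype.val h1
    rw [LinearEquiv.ofInjective_apply] at h2
    exact h2
  -- value at `γM`
  have hval : φ₁ γM = (X : A[X]) ^ c₀ * g.reverse := by
    apply Polynomial.toLaurent_injective
    rw [hφ₁, hΦγ, map_mul, Polynomial.toLaurent_X_pow, LaurentPolynomial.toLaurent_reverse,
      hcdef, Nat.cast_add, T_add]
    ring
  -- `g 0` is a unit
  have hg0 : IsUnit (g.coeff 0) := by
    rw [← IsLocalRing.notMem_maximalIdeal]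
    intro hmem
    have h1 := (Ideal.mem_map_C_iff.mp hψ) 0
    rw [Polynomial.coeff_sub, Polynomial.coeff_one_zero] at h1
    have h2 : (1 : A) ∈ 𝔪 := by
      have := (𝔪).sub_mem hmem h1
      rwa [sub_sub_cancel] at this
    exact (Ideal.ne_top_iff_one _).mp (IsLocalRing.maximalIdeal.isMaximal A).ne_top h2
  obtain ⟨u, hu⟩ := hg0
  have hne : g.coeff 0 ≠ 0 := by
    rw [← hu]; exact u.ne_zero
  have hlead : (↑u⁻¹ : A) * g.reverse.leadingCoeff = 1 := by
    rw [Polynomial.reverse_leadingCoeff, Polynomial.trailingCoeff_eq_coeff_zero hne, ← hu]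
    exact u.inv_mul
  have hmonic : ((X : A[X]) ^ c₀ * (Polynomial.C (↑u⁻¹ : A) * g.reverse)).Monic :=
    (Polynomial.monic_X_pow c₀).mul (Polynomial.monic_C_mul_of_mul_leadingCoeff_eq_one hlead)
  -- the order ideal
  let O : Ideal A[X] := LinearMap.range (LinearMap.applyₗ γM : (D.M →ₗ[A[X]] A[X]) →ₗ[A[X]] A[X])
  have hGO : (X : A[X]) ^ c₀ * (Polynomial.C (↑u⁻¹ : A) * g.reverse) ∈ O := by
    refine ⟨(Polynomial.C (↑u⁻¹ : A) : A[X]) • φ₁, ?_⟩
    rw [LinearMap.applyₗ_apply_apply, LinearMap.smul_apply, hval, smul_eq_mul]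
    ring
  have hsup : O ⊔ (𝔪).map (Polynomial.C : A →+* A[X]) = ⊤ := by
    rw [Ideal.eq_top_iff_one]
    have h1 : φ₀ γM ∈ O := ⟨φ₀, rfl⟩
    have h2 : (1 : A[X]) = φ₀ γM + -(φ₀ γM - 1) := by ring
    rw [h2]
    exact Submodule.add_mem_sup h1 (Ideal.neg_mem_iff _ |>.mpr hφ)
  have hO := ideal_eq_top_of_monic_mem O hmonic hGO hsup
  have h1O : (1 : A[X]) ∈ O := by rw [hO]; trivial
  obtain ⟨φ, hφ1⟩ := h1O
  exact ⟨φ, hφ1⟩

end loc

end HData

end Groth.Agent.Lib.Helper11.Hk
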