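import Mathlib
import Groth.Agent.Lib.Helper11.HkA
import Groth.Agent.Lib.Helper11.HkB
import Groth.Agent.Lib.Helper11.HkC
import Groth.Agent.Lib.Helper11.HkD
import Groth.Agent.Lib.Helper11.HkE
import Groth.Agent.Lib.Helper11.HkF

/-!
# Local Horrocks: splitting off a trivial line sub-bundle (helper11)
-/

set_option autoImplicit false
set_option linter.unusedSectionVars false
set_option linter.unusedVariables false
set_option linter.style.haveILetI false

open Polynomial LaurentPolynomial Module TensorProduct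

universe u

namespace Groth.Agent.Lib.Helper11.Hk

attribute [local instance] Polynomial.algebra laurentAlgebra

section split

variable {R : Type*} [CommRing R] {M : Type*} [AddCommGroup M] [Module R M] (γ : M)
  (φ : M →ₗ[R] R) (hφ : φ γ = 1)

/-- The section of `M → M ⧸ Rγ` attached to a functional with `φ γ = 1`. -/
noncomputable def quotSec : (M ⧸ Submodule.span R {γ}) →ₗ[R] M :=
  Submodule.liftQ _ (LinearMap.id - (LinearMap.toSpanSingleton R M γ) ∘ₗ φ) (by
    rw [Submodule.span_le]
    rintro _ rfl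
    simp [hφ])

@[simp] lemma quotSec_mk (x : M) :
    quotSec γ φ hφ (Submodule.Quotient.mk x) = x - φ x • γ := by
  simp [quotSec]

lemma mk_quotSec (z : M ⧸ Submodule.span R {γ}) :
    Submodule.Quotient.mk (quotSec γ φ hφ z) = z := by
  induction z using Submodule.Quotient.induction_on with
  | H x =>
    rw [quotSec_mk, Submodule.Quotient.mk_sub, Submodule.Quotient.mk_smul]
    have : (Submodule.Quotient.mk γ : M ⧸ Submodule.span R {γ}) = 0 :=
      (Submodule.Quotient.mk_eq_zero _).mpr (Submodule.mem_span_singleton_self γ)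
    rw [this, smul_zero, sub_zero]

include φ hφ in
lemma projective_quot [Module.Projective R M] :
    Module.Projective R (M ⧸ Submodule.span R {γ}) :=
  Module.Projective.of_split (quotSec γ φ hφ) (Submodule.mkQ _)
    (LinearMap.ext fun z => mk_quotSec γ φ hφ z)

/-- `M ≃ R × M ⧸ Rγ`. -/
noncomputable def splitEquiv : M ≃ₗ[R] R × (M ⧸ Submodule.span R {γ}) where
  toFun x := (φ x, Submodule.Quotient.mk x)
  map_add' x y := by simp
  map_smul' r x := by simp
  invFun p := p.1 • γ + quotSec γ φ hφ p.2
  left_inv x := by simp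
  right_inv := by
    rintro ⟨p, z⟩
    induction z using Submodule.Quotient.induction_on with
    | H y =>
      have h0 : (Submodule.Quotient.mk γ : M ⧸ Submodule.span R {γ}) = 0 :=
        (Submodule.Quotient.mk_eq_zero _).mpr (Submodule.mem_span_singleton_self γ)
      ext
      · simp [hφ]
      · simp [Submodule.Quotient.mk_sub, Submodule.Quotient.mk_smul, Submodule.Quotient.mk_add, h0]

end split

section locquot

variable {R S M N : Type*} [CommRing R] [CommRing S] [AddCommGroup M] [AddCommGroup N]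
variable [Module R M] [Module R N] [Algebra R S] [Module S N] [IsScalarTower R S N]
variable (p : Submonoid R) [IsLocalization p S] (f : M →ₗ[R] N) [IsLocalizedModule p f]

/-- The localization map of a quotient, with the localized submodule replaced by an equal one. -/
def mapQ' (M' : Submodule R M) (q : Submodule S N) (h : M' ≤ (q.restrictScalars R).comap f) :
    M ⧸ M' →ₗ[R] N ⧸ q :=
  Submodule.mapQ M' (q.restrictScalars R) f h

@[simp] lemma mapQ'_mk (M' : Submodule R M) (q : Submodule S N)
    (h : M' ≤ (q.restrictScalars R).comap f) (x : M) :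
    mapQ' f M' q h (Submodule.Quotient.mk x) = Submodule.Quotient.mk (f x) := rfl

lemma isLocalizedModule_mapQ' (M' : Submodule R M) (q : Submodule S N)
    (hq : M'.localized' S p f = q) (h : M' ≤ (q.restrictScalars R).comap f) :
    IsLocalizedModule p (mapQ' f M' q h) := by
  subst hq
  exact IsLocalizedModule.toLocalizedQuotient' S p f M'

end locquot

namespace HData

section quot

variable {A : Type u} [CommRing A] (D : HData A)

/-- `e` as a semilinear map. -/
noncomputable def eS :
    D.VM →ₛₗ[((LaurentPolynomial.invert (R := A)).toAlgHom.toRingHom)] D.VN where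
  toFun := D.e
  map_add' := map_add D.e
  map_smul' := D.he

/-- `e.symm` as a semilinear map. -/
noncomputable def eS' :
    D.VN →ₛₗ[((LaurentPolynomial.invert (R := A)).toAlgHom.toRingHom)] D.VM where
  toFun := D.e.symm
  map_add' := map_add D.e.symm
  map_smul' := D.he_symm

@[simp] lemma eS_apply (v : D.VM) : D.eS v = D.e v := rfl
@[simp] lemma eS'_apply (v : D.VN) : D.eS' v = D.e.symm v := rfl

variable (γM : D.M) (γN : D.N) (hγ : D.e (D.fM γM) = D.fN γN)
  (φ : D.M →ₗ[A[X]] A[X]) (ψ : D.N →ₗ[A[X]] A[X]) (hφ : φ γM = 1) (hψ : ψ γN = 1)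

include hγ in
lemma span_le_comap_eS : Submodule.span A[T;T⁻¹] {D.fM γM} ≤
    (Submodule.span A[T;T⁻¹] {D.fN γN}).comap D.eS := by
  rw [Submodule.span_le]
  rintro _ rfl
  show D.e (D.fM γM) ∈ Submodule.span A[T;T⁻¹] {D.fN γN}
  rw [hγ]
  exact Submodule.mem_span_singleton_self _

include hγ in
lemma span_le_comap_eS' : Submodule.span A[T;T⁻¹] {D.fN γN} ≤
    (Submodule.span A[T;T⁻¹] {D.fM γM}).comap D.eS' := by
  rw [Submodule.span_le]
  rintro _ rfl
  show D.e.symm (D.fN γN) ∈ Submodule.span A[T;T⁻¹] {D.fM γM}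
  rw [← hγ, AddEquiv.symm_apply_apply]
  exact Submodule.mem_span_singleton_self _

/-- The induced map on quotients. -/
noncomputable def quotE :
    (D.VM ⧸ Submodule.span A[T;T⁻¹] {D.fM γM}) ≃+ (D.VN ⧸ Submodule.span A[T;T⁻¹] {D.fN γN}) where
  toFun := Submodule.mapQ _ _ D.eS (D.span_le_comap_eS γM γN hγ)
  invFun := Submodule.mapQ _ _ D.eS' (D.span_le_comap_eS' γM γN hγ)
  left_inv z := by
    induction z using Submodule.Quotient.induction_on with
    | H v =>
      show Submodule.Quotient.mk (D.e.symm (D.e v)) = _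
      rw [AddEquiv.symm_apply_apply]
  right_inv z := by
    induction z using Submodule.Quotient.induction_on with
    | H v =>
      show Submodule.Quotient.mk (D.e (D.e.symm v)) = _
      rw [AddEquiv.apply_symm_apply]
  map_add' := map_add _

lemma quotE_mk (v : D.VM) :
    D.quotE γM γN hγ (Submodule.Quotient.mk v) = Submodule.Quotient.mk (D.e v) := rfl

lemma quotE_smul (a : A[T;T⁻¹]) (z : D.VM ⧸ Submodule.span A[T;T⁻¹] {D.fM γM}) :
    D.quotE γM γN hγ (a • z) = LaurentPolynomial.invert a • D.quotE γM γN hγ z :=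
  (Submodule.mapQ _ _ D.eS (D.span_le_comap_eS γM γN hγ)).map_smulₛₗ a z

lemma span_le_comap_fM : Submodule.span A[X] {γM} ≤
    ((Submodule.span A[T;T⁻¹] {D.fM γM}).restrictScalars A[X]).comap D.fM := by
  rw [Submodule.span_le]
  rintro _ rfl
  exact Submodule.mem_span_singleton_self _

lemma span_le_comap_fN : Submodule.span A[X] {γN} ≤
    ((Submodule.span A[T;T⁻¹] {D.fN γN}).restrictScalars A[X]).comap D.fN := by
  rw [Submodule.span_le]
  rintro _ rfl
  exact Submodule.mem_span_singleton_self _

/-- The quotient data by a nowhere vanishing section. -/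
noncomputable def quot : HData A where
  M := D.M ⧸ Submodule.span A[X] {γM}
  N := D.N ⧸ Submodule.span A[X] {γN}
  VM := D.VM ⧸ Submodule.span A[T;T⁻¹] {D.fM γM}
  VN := D.VN ⧸ Submodule.span A[T;T⁻¹] {D.fN γN}
  projM := projective_quot γM φ hφ
  projN := projective_quot γN ψ hψ
  fM := mapQ' D.fM _ _ (D.span_le_comap_fM γM)
  fN := mapQ' D.fN _ _ (D.span_le_comap_fN γN)
  locM := isLocalizedModule_mapQ' (Submonoid.powers (X : A[X])) D.fM _ _
    (by rw [Submodule.localized'_span, Set.image_singleton]) _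
  locN := isLocalizedModule_mapQ' (Submonoid.powers (X : A[X])) D.fN _ _
    (by rw [Submodule.localized'_span, Set.image_singleton]) _
  e := D.quotE γM γN hγ
  he := D.quotE_smul γM γN hγ

/-- `M ≃ A[X] × M''`. -/
noncomputable def quotSplit :
    D.M ≃ₗ[A[X]] A[X] × (D.quot γM γN hγ φ ψ hφ hψ).M :=
  splitEquiv γM φ hφ

lemma finrank_bc_quot (K : Type u) [Field K] [Algebra A K] :
    Module.finrank K[X] (D.bc K).M =
      1 + Module.finrank K[X] ((D.quot γM γN hγ φ ψ hφ hψ).bc K).M := by
  let E : (K[X] ⊗[A[X]] D.M) ≃ₗ[K[X]]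
      K[X] × (K[X] ⊗[A[X]] (D.quot γM γN hγ φ ψ hφ hψ).M) :=
    (TensorProduct.AlgebraTensorModule.congr (LinearEquiv.refl K[X] K[X])
      (D.quotSplit γM γN hγ φ ψ hφ hψ)) ≪≫ₗ
    (TensorProduct.prodRight A[X] K[X] K[X] A[X] (D.quot γM γN hγ φ ψ hφ hψ).M) ≪≫ₗ
    (LinearEquiv.prodCongr (TensorProduct.AlgebraTensorModule.rid A[X] K[X] K[X])
      (LinearEquiv.refl K[X] _))
  haveI : Module.Free K[X] ((D.quot γM γN hγ φ ψ hφ hψ).bc K).M := inferInstance
  have h := E.finrank_eq
  have h2 : Module.finrank K[X] (K[X] × (K[X] ⊗[A[X]] (D.quot γM γN hγ φ ψ hφ hψ).M)) =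
      1 + Module.finrank K[X] ((D.quot γM γN hγ φ ψ hφ hψ).bc K).M := by
    have := Module.finrank_prod (R := K[X]) (M := K[X]) (M' := ((D.quot γM γN hγ φ ψ hφ hψ).bc K).M)
    rw [Module.finrank_self] at this
    exact this
  rw [← h2]
  exact h

end quot

end HData

end Groth.Agent.Lib.Helper11.Hk
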