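import Mathlib
import Groth.Agent.Lib.Helper11.HkA
import Groth.Agent.Lib.Helper11.HkB
import Groth.Agent.Lib.Helper11.HkC
import Groth.Agent.Lib.Helper11.HkD
import Groth.Agent.Lib.Helper11.HkE
import Groth.Agent.Lib.Helper11.HkF
import Groth.Agent.Lib.Helper11.HkG

/-!
# Local Horrocks theorem (helper11)

Over a local ring `A`, the `A[X]`-module `M` of Horrocks data is free.
-/

set_option autoImplicit false
set_option linter.unusedSectionVars false
set_option linter.unusedVariables false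
set_option linter.style.haveILetI false

open Polynomial LaurentPolynomial Module TensorProduct

universe u

namespace Groth.Agent.Lib.Helper11.Hk

attribute [local instance] Polynomial.algebra laurentAlgebra

section twistbc

variable {A : Type u} [CommRing A] (B : Type u) [CommRing B] [Algebra A B]

lemma bcSemiEquiv_twist {V W : Type u} [AddCommGroup V] [Module A[T;T⁻¹] V] [AddCommGroup W]
    [Module A[T;T⁻¹] W] (e e' : V ≃+ W)
    (he : ∀ (a : A[T;T⁻¹]) (v : V), e (a • v) = LaurentPolynomial.invert a • e v)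
    (he' : ∀ (a : A[T;T⁻¹]) (v : V), e' (a • v) = LaurentPolynomial.invert a • e' v)
    (j : ℤ) (hee' : ∀ v, e' v = (T j : A[T;T⁻¹]) • e v) (t : B[T;T⁻¹] ⊗[A[T;T⁻¹]] V) :
    bcSemiEquiv B e' he' t = (T j : B[T;T⁻¹]) • bcSemiEquiv B e he t := by
  induction t using TensorProduct.induction_on with
  | zero => simp
  | tmul b v =>
    rw [bcSemiEquiv_tmul, bcSemiEquiv_tmul, hee', TensorProduct.tmul_smul,
      TensorProduct.smul_tmul', TensorProduct.smul_tmul', smul_laurent, mapL_T, smul_eq_mul]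
  | add x y hx hy => rw [map_add, map_add, hx, hy, smul_add]

lemma HData.bc_twist_e (D : HData A) (j : ℤ) (v : (D.bc B).VM) :
    ((D.twist j).bc B).e v = (T j : B[T;T⁻¹]) • (D.bc B).e v :=
  bcSemiEquiv_twist B D.e (D.twist j).e D.he (D.twist j).he j (fun _ => rfl) v

end twistbc

namespace HData

section loc

variable {A : Type u} [CommRing A] [IsLocalRing A] (D : HData A)

local notation "𝔪" => IsLocalRing.maximalIdeal A
local notation "k" => IsLocalRing.ResidueField A

lemma isUnit_coeff_zero_of_sub_one_mem {r : A[X]}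
    (hr : r - 1 ∈ (𝔪).map (Polynomial.C : A →+* A[X])) : IsUnit (r.coeff 0) := by
  rw [← IsLocalRing.notMem_maximalIdeal]
  intro hmem
  have h1 := (Ideal.mem_map_C_iff.mp hr) 0
  rw [Polynomial.coeff_sub, Polynomial.coeff_one_zero] at h1
  have h2 : (1 : A) ∈ 𝔪 := by
    have := (𝔪).sub_mem hmem h1
    rwa [sub_sub_cancel] at this
  exact (Ideal.ne_top_iff_one _).mp (IsLocalRing.maximalIdeal.isMaximal A).ne_top h2

/-- Base case: rank zero on the closed fibre forces `M = 0`. -/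
lemma subsingleton_of_finrank_zero (h : Module.finrank k[X] (D.bc k).M = 0) :
    Subsingleton D.M := by
  haveI : Module.Free k[X] (D.bc k).M := inferInstance
  haveI : Subsingleton (D.bc k).M := (Module.finrank_eq_zero_iff_of_free k[X] _).mp h
  have htop : (⊤ : Submodule A[X] D.M) ≤
      ((𝔪).map (Polynomial.C : A →+* A[X])) • (⊤ : Submodule A[X] D.M) := by
    intro x _
    have := D.πM_eq_zero k residue_surj (x := x) (Subsingleton.elim _ _)
    rwa [ker_algebraMap_residue] at this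
  obtain ⟨r, hr, hr0⟩ := Submodule.exists_sub_one_mem_and_smul_eq_zero_of_fg_of_le_smul _
    (⊤ : Submodule A[X] D.M) Module.Finite.fg_top htop
  have hreg := isRegular_of_isUnit_coeff_zero (isUnit_coeff_zero_of_sub_one_mem hr)
  have hsm : IsSMulRegular D.M r := Module.Flat.isSMulRegular_of_isRegular hreg
  refine ⟨fun x y => hsm ?_⟩
  show r • x = r • y
  rw [hr0 x trivial, hr0 y trivial]

lemma sub_one_mem_of_map_eq_one {p : A[X]} (h : p.map (algebraMap A k) = 1) :
    p - 1 ∈ (𝔪).map (Polynomial.C : A →+* A[X]) := by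
  rw [← ker_algebraMap_residue (A := A), ← Polynomial.ker_mapRingHom, RingHom.mem_ker, map_sub,
    map_one, Polynomial.coe_mapRingHom, h, sub_self]

/-- The inductive step: a nowhere vanishing section with its splittings. -/
lemma step {n : ℕ} (bM : Basis (Fin (n + 1)) k[X] (D.bc k).M)
    (bN : Basis (Fin (n + 1)) k[X] (D.bc k).N) (d : Fin (n + 1) → ℤ)
    (hd : ∀ i, (D.bc k).e ((D.bc k).fM (bM i)) = (T (d i) : k[T;T⁻¹]) • (D.bc k).fN (bN i))
    (i₁ : Fin (n + 1)) (hi₁ : d i₁ = 0) (hpos : ∀ i, 0 ≤ d i) :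
    ∃ (γM : D.M) (γN : D.N) (_ : D.e (D.fM γM) = D.fN γN) (φ : D.M →ₗ[A[X]] A[X])
      (ψ : D.N →ₗ[A[X]] A[X]), φ γM = 1 ∧ ψ γN = 1 := by
  have hB1 := (D.bc k).B1 bM bN d hd hpos
  have hL2 := D.L2 hB1
  obtain ⟨x₀, hx₀⟩ := D.πM_surjective k residue_surj (bM i₁)
  obtain ⟨y₀, hy₀⟩ := D.πN_surjective k residue_surj (bN i₁)
  have h₀ : D.πVN k (D.e (D.fM x₀)) = D.πVN k (D.fN y₀) := by
    rw [← bc_e, ← bc_fM, ← bc_fN, hx₀, hy₀, hd i₁, hi₁, T_zero, one_smul]
  obtain ⟨γM, γN, hγ, hγM, hγN⟩ := D.L3 hL2 x₀ y₀ h₀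
  obtain ⟨φ₀, hφ₀⟩ := D.exists_dual_lift bM i₁
  obtain ⟨ψ₀, hψ₀⟩ := D.swap.exists_dual_lift bN i₁
  have hφ₀' : φ₀ γM - 1 ∈ (𝔪).map (Polynomial.C : A →+* A[X]) := by
    apply sub_one_mem_of_map_eq_one
    rw [hφ₀, hγM, hx₀, Basis.coord_apply, Basis.repr_self, Finsupp.single_eq_same]
  have hψ₀' : ψ₀ γN - 1 ∈ (𝔪).map (Polynomial.C : A →+* A[X]) := by
    apply sub_one_mem_of_map_eq_one
    have h1 : Polynomial.map (algebraMap A k) (ψ₀ γN) = bN.coord i₁ (D.πN k γN) := hψ₀ γN
    rw [h1, hγN, hy₀, Basis.coord_apply, Basis.repr_self, Finsupp.single_eq_same]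
  obtain ⟨φ, hφ⟩ := D.exists_dual_eq_one γM γN hγ φ₀ ψ₀ hφ₀' hψ₀'
  have hγ' : D.swap.e (D.swap.fM γN) = D.swap.fN γM := by
    show D.e.symm (D.fN γN) = D.fM γM
    rw [← hγ, AddEquiv.symm_apply_apply]
  obtain ⟨ψ, hψ⟩ := D.swap.exists_dual_eq_one γN γM hγ' ψ₀ φ₀ hψ₀' hφ₀'
  exact ⟨γM, γN, hγ, φ, ψ, hφ, hψ⟩

end loc

end HData

section main

variable {A : Type u} [CommRing A] [IsLocalRing A]

local notation "k" => IsLocalRing.ResidueField A

/-- **Local Horrocks**: over a local ring, a vector bundle on the affine line which extends to the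
projective line is free. -/
theorem HData.free_of_isLocalRing_aux :
    ∀ (n : ℕ) (D : HData A), Module.finrank k[X] (D.bc k).M = n → Module.Free A[X] D.M := by
  intro n
  induction n with
  | zero =>
    intro D hD
    haveI := D.subsingleton_of_finrank_zero hD
    exact Module.Free.of_subsingleton A[X] D.M
  | succ n ih =>
    intro D hD
    obtain ⟨n', bM, bN, d, hd⟩ := (D.bc k).exists_splitting
    have hn' : n' = n + 1 := by
      rw [← hD, Module.finrank_eq_card_basis bM, Fintype.card_fin]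
    subst hn'
    obtain ⟨i₁, -, hi₁⟩ := Finset.exists_min_image Finset.univ d ⟨0, Finset.mem_univ _⟩
    have hd' : ∀ i, ((D.twist (-(d i₁))).bc k).e (((D.twist (-(d i₁))).bc k).fM (bM i)) =
        (T (d i - d i₁) : k[T;T⁻¹]) • ((D.twist (-(d i₁))).bc k).fN (bN i) := by
      intro i
      refine (HData.bc_twist_e k D (-(d i₁)) ((D.bc k).fM (bM i))).trans ?_
      show (T (-(d i₁)) : k[T;T⁻¹]) • (D.bc k).e ((D.bc k).fM (bM i)) =
        (T (d i - d i₁) : k[T;T⁻¹]) • (D.bc k).fN (bN i)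
      rw [hd i, smul_smul, ← T_add]
      congr 2
      ring
    obtain ⟨γM, γN, hγ, φ, ψ, hφ, hψ⟩ := (D.twist (-(d i₁))).step bM bN (fun i => d i - d i₁) hd' i₁
      (sub_self _) (fun i => sub_nonneg.mpr (hi₁ i (Finset.mem_univ i)))
    have hrank := (D.twist (-(d i₁))).finrank_bc_quot γM γN hγ φ ψ hφ hψ k
    have hD' : Module.finrank k[X] ((D.twist (-(d i₁))).bc k).M = n + 1 := hD
    rw [hD'] at hrank
    haveI := ih ((D.twist (-(d i₁))).quot γM γN hγ φ ψ hφ hψ) (by omega)
    have : Module.Free A[X] (D.twist (-(d i₁))).M :=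
      Module.Free.of_equiv ((D.twist (-(d i₁))).quotSplit γM γN hγ φ ψ hφ hψ).symm
    exact this

theorem HData.free_of_isLocalRing (D : HData A) : Module.Free A[X] D.M :=
  HData.free_of_isLocalRing_aux _ D rfl

end main

end Groth.Agent.Lib.Helper11.Hk
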