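import Mathlib

/-!
# Idempotent matrices and their images (helper11)

`MEquiv e e'`: the idempotent matrices `e`, `e'` have isomorphic images (`e = βα`, `e' = αβ`).
`IsImage e M`: the module `M` is (isomorphic to) the image of the idempotent matrix `e`.
-/

set_option autoImplicit false
set_option linter.unusedSectionVars false
set_option linter.unusedVariables false
set_option linter.style.haveILetI false

open Module TensorProduct

universe u v

namespace Groth.Agent.Lib.Helper11.Hk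

section mequiv

variable {R : Type*} [CommRing R]

/-- Two idempotent matrices with isomorphic images. -/
def MEquiv {m n : ℕ} (e : Matrix (Fin m) (Fin m) R) (e' : Matrix (Fin n) (Fin n) R) : Prop :=
  ∃ (α : Matrix (Fin n) (Fin m) R) (β : Matrix (Fin m) (Fin n) R), α * β = e' ∧ β * α = e

lemma MEquiv.refl {m : ℕ} {e : Matrix (Fin m) (Fin m) R} (he : e * e = e) : MEquiv e e :=
  ⟨e, e, he, he⟩

lemma MEquiv.symm {m n : ℕ} {e : Matrix (Fin m) (Fin m) R} {e' : Matrix (Fin n) (Fin n) R}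
    (h : MEquiv e e') : MEquiv e' e := by
  obtain ⟨α, β, h1, h2⟩ := h
  exact ⟨β, α, h2, h1⟩

lemma MEquiv.trans {m n p : ℕ} {e : Matrix (Fin m) (Fin m) R} {e' : Matrix (Fin n) (Fin n) R}
    {e'' : Matrix (Fin p) (Fin p) R} (he : e * e = e) (he'' : e'' * e'' = e'')
    (h : MEquiv e e') (h' : MEquiv e' e'') : MEquiv e e'' := by
  obtain ⟨α₁, β₁, h1, h2⟩ := h
  obtain ⟨α₂, β₂, h3, h4⟩ := h'
  refine ⟨α₂ * α₁, β₁ * β₂, ?_, ?_⟩
  · calc α₂ * α₁ * (β₁ * β₂) = α₂ * (α₁ * β₁) * β₂ := by simp only [Matrix.mul_assoc]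
      _ = α₂ * (β₂ * α₂) * β₂ := by rw [h1, h4]
      _ = (α₂ * β₂) * (α₂ * β₂) := by simp only [Matrix.mul_assoc]
      _ = e'' := by rw [h3, he'']
  · calc β₁ * β₂ * (α₂ * α₁) = β₁ * (β₂ * α₂) * α₁ := by simp only [Matrix.mul_assoc]
      _ = β₁ * (α₁ * β₁) * α₁ := by rw [h4, h1]
      _ = (β₁ * α₁) * (β₁ * α₁) := by simp only [Matrix.mul_assoc]
      _ = e := by rw [h2, he]

lemma MEquiv.map {R' : Type*} [CommRing R'] (f : R →+* R') {m n : ℕ}
    {e : Matrix (Fin m) (Fin m) R} {e' : Matrix (Fin n) (Fin n) R} (h : MEquiv e e') :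
    MEquiv (e.map f) (e'.map f) := by
  obtain ⟨α, β, h1, h2⟩ := h
  exact ⟨α.map f, β.map f, by rw [← Matrix.map_mul, h1], by rw [← Matrix.map_mul, h2]⟩

end mequiv

section image

variable {R : Type u} [CommRing R]

/-- `M` is the image of the idempotent matrix `e`. -/
def IsImage {n : ℕ} (e : Matrix (Fin n) (Fin n) R) (M : Type v) [AddCommGroup M] [Module R M] :
    Prop :=
  ∃ (i : M →ₗ[R] (Fin n → R)) (s : (Fin n → R) →ₗ[R] M),
    s ∘ₗ i = LinearMap.id ∧ i ∘ₗ s = Matrix.toLin' e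

variable {M : Type v} [AddCommGroup M] [Module R M]

lemma IsImage.idem {n : ℕ} {e : Matrix (Fin n) (Fin n) R} (h : IsImage e M) : e * e = e := by
  obtain ⟨i, s, h1, h2⟩ := h
  apply Matrix.toLin'.injective
  rw [Matrix.toLin'_mul, ← h2]
  calc (i ∘ₗ s) ∘ₗ (i ∘ₗ s) = i ∘ₗ (s ∘ₗ i) ∘ₗ s := by simp only [LinearMap.comp_assoc]
    _ = i ∘ₗ s := by rw [h1, LinearMap.id_comp]

variable (R M) in
lemma exists_isImage [Module.Finite R M] [Module.Projective R M] :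
    ∃ (n : ℕ) (e : Matrix (Fin n) (Fin n) R), IsImage e M := by
  obtain ⟨n, f, g, -, -, hfg⟩ := Module.Finite.exists_comp_eq_id_of_projective R M
  exact ⟨n, LinearMap.toMatrix' (g ∘ₗ f), g, f, hfg, (Matrix.toLin'_toMatrix' _).symm⟩

lemma IsImage.equiv {M' : Type*} [AddCommGroup M'] [Module R M'] {n : ℕ}
    {e : Matrix (Fin n) (Fin n) R} (h : IsImage e M) (h' : IsImage e M') :
    Nonempty (M ≃ₗ[R] M') := by
  obtain ⟨i, s, h1, h2⟩ := h
  obtain ⟨i', s', h1', h2'⟩ := h'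
  refine ⟨LinearEquiv.ofLinearMap (s' ∘ₗ i) (s ∘ₗ i') ?_ ?_⟩
  · calc (s' ∘ₗ i) ∘ₗ (s ∘ₗ i') = s' ∘ₗ (i ∘ₗ s) ∘ₗ i' := by simp only [LinearMap.comp_assoc]
      _ = s' ∘ₗ (i' ∘ₗ s') ∘ₗ i' := by rw [h2, h2']
      _ = (s' ∘ₗ i') ∘ₗ (s' ∘ₗ i') := by simp only [LinearMap.comp_assoc]
      _ = LinearMap.id := by rw [h1', LinearMap.id_comp]
  · calc (s ∘ₗ i') ∘ₗ (s' ∘ₗ i) = s ∘ₗ (i' ∘ₗ s') ∘ₗ i := by simp only [LinearMap.comp_assoc]
      _ = s ∘ₗ (i ∘ₗ s) ∘ₗ i := by rw [h2', h2]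
      _ = (s ∘ₗ i) ∘ₗ (s ∘ₗ i) := by simp only [LinearMap.comp_assoc]
      _ = LinearMap.id := by rw [h1, LinearMap.id_comp]

lemma IsImage.of_mequiv {m n : ℕ} {e : Matrix (Fin m) (Fin m) R} {e' : Matrix (Fin n) (Fin n) R}
    (h : IsImage e M) (hee' : MEquiv e e') (he' : e' * e' = e') : IsImage e' M := by
  obtain ⟨i, s, h1, h2⟩ := h
  obtain ⟨α, β, h3, h4⟩ := hee'
  refine ⟨Matrix.toLin' α ∘ₗ i, s ∘ₗ Matrix.toLin' β, ?_, ?_⟩
  · calc (s ∘ₗ Matrix.toLin' β) ∘ₗ (Matrix.toLin' α ∘ₗ i)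
        = s ∘ₗ (Matrix.toLin' β ∘ₗ Matrix.toLin' α) ∘ₗ i := by simp only [LinearMap.comp_assoc]
      _ = s ∘ₗ (i ∘ₗ s) ∘ₗ i := by rw [← Matrix.toLin'_mul, h4, h2]
      _ = (s ∘ₗ i) ∘ₗ (s ∘ₗ i) := by simp only [LinearMap.comp_assoc]
      _ = LinearMap.id := by rw [h1, LinearMap.id_comp]
  · calc (Matrix.toLin' α ∘ₗ i) ∘ₗ (s ∘ₗ Matrix.toLin' β)
        = Matrix.toLin' α ∘ₗ (i ∘ₗ s) ∘ₗ Matrix.toLin' β := by simp only [LinearMap.comp_assoc]
      _ = Matrix.toLin' (α * (β * α) * β) := by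
          rw [h2, ← h4]
          simp only [Matrix.toLin'_mul, LinearMap.comp_assoc]
      _ = Matrix.toLin' ((α * β) * (α * β)) := by simp only [Matrix.mul_assoc]
      _ = Matrix.toLin' e' := by rw [h3, he']

lemma IsImage.mequiv {m n : ℕ} {e : Matrix (Fin m) (Fin m) R} {e' : Matrix (Fin n) (Fin n) R}
    (h : IsImage e M) (h' : IsImage e' M) : MEquiv e e' := by
  obtain ⟨i, s, h1, h2⟩ := h
  obtain ⟨i', s', h1', h2'⟩ := h'
  refine ⟨LinearMap.toMatrix' (i' ∘ₗ s), LinearMap.toMatrix' (i ∘ₗ s'), ?_, ?_⟩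
  · rw [← LinearMap.toMatrix'_comp]
    have : (i' ∘ₗ s) ∘ₗ (i ∘ₗ s') = i' ∘ₗ s' := by
      calc (i' ∘ₗ s) ∘ₗ (i ∘ₗ s') = i' ∘ₗ (s ∘ₗ i) ∘ₗ s' := by simp only [LinearMap.comp_assoc]
        _ = i' ∘ₗ s' := by rw [h1, LinearMap.id_comp]
    rw [this, h2', LinearMap.toMatrix'_toLin']
  · rw [← LinearMap.toMatrix'_comp]
    have : (i ∘ₗ s') ∘ₗ (i' ∘ₗ s) = i ∘ₗ s := by
      calc (i ∘ₗ s') ∘ₗ (i' ∘ₗ s) = i ∘ₗ (s' ∘ₗ i') ∘ₗ s := by simp only [LinearMap.comp_assoc]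
        _ = i ∘ₗ s := by rw [h1', LinearMap.id_comp]
    rw [this, h2, LinearMap.toMatrix'_toLin']

lemma IsImage.of_equiv {M' : Type*} [AddCommGroup M'] [Module R M'] {n : ℕ}
    {e : Matrix (Fin n) (Fin n) R} (h : IsImage e M) (f : M ≃ₗ[R] M') : IsImage e M' := by
  obtain ⟨i, s, h1, h2⟩ := h
  refine ⟨i ∘ₗ f.symm.toLinearMap, f.toLinearMap ∘ₗ s, ?_, ?_⟩
  · ext x
    have := LinearMap.congr_fun h1 (f.symm x)
    simp only [LinearMap.comp_apply, LinearMap.id_apply, LinearEquiv.coe_coe] at this ⊢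
    rw [this, LinearEquiv.apply_symm_apply]
  · rw [← h2]
    ext x
    simp

lemma isImage_one_of_equiv {r : ℕ} (f : M ≃ₗ[R] (Fin r → R)) :
    IsImage (1 : Matrix (Fin r) (Fin r) R) M :=
  ⟨f.toLinearMap, f.symm.toLinearMap, by ext x; simp, by rw [Matrix.toLin'_one]; ext x; simp⟩

lemma IsImage.equiv_of_one {r : ℕ} (h : IsImage (1 : Matrix (Fin r) (Fin r) R) M) :
    Nonempty (M ≃ₗ[R] (Fin r → R)) :=
  h.equiv (isImage_one_of_equiv (LinearEquiv.refl R (Fin r → R)))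

lemma exists_isImage_one_of_free [Module.Finite R M] [Module.Free R M] [Nontrivial R] :
    ∃ r : ℕ, IsImage (1 : Matrix (Fin r) (Fin r) R) M :=
  ⟨_, isImage_one_of_equiv (Module.finBasis R M).equivFun⟩

lemma IsImage.free_of_one {r : ℕ} (h : IsImage (1 : Matrix (Fin r) (Fin r) R) M) :
    Module.Free R M := by
  obtain ⟨f⟩ := h.equiv_of_one
  exact Module.Free.of_equiv f.symm

lemma IsImage.projective {n : ℕ} {e : Matrix (Fin n) (Fin n) R} (h : IsImage e M) :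
    Module.Projective R M := by
  obtain ⟨i, s, h1, h2⟩ := h
  exact Module.Projective.of_split i s h1

lemma IsImage.finite {n : ℕ} {e : Matrix (Fin n) (Fin n) R} (h : IsImage e M) :
    Module.Finite R M := by
  obtain ⟨i, s, h1, h2⟩ := h
  exact Module.Finite.of_surjective s (LinearMap.surjective_of_comp_eq_id _ _ h1)

lemma IsImage.baseChange (R' : Type*) [CommRing R'] [Algebra R R'] {n : ℕ}
    {e : Matrix (Fin n) (Fin n) R} (h : IsImage e M) :
    IsImage (e.map (algebraMap R R')) (R' ⊗[R] M) := by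
  obtain ⟨i, s, h1, h2⟩ := h
  refine ⟨(TensorProduct.piScalarRight R R' R' (Fin n)).toLinearMap ∘ₗ i.baseChange R',
    s.baseChange R' ∘ₗ (TensorProduct.piScalarRight R R' R' (Fin n)).symm.toLinearMap, ?_, ?_⟩
  · have : (s.baseChange R' ∘ₗ (TensorProduct.piScalarRight R R' R' (Fin n)).symm.toLinearMap) ∘ₗ
        ((TensorProduct.piScalarRight R R' R' (Fin n)).toLinearMap ∘ₗ i.baseChange R') =
        s.baseChange R' ∘ₗ i.baseChange R' :=
      LinearMap.ext fun t => by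
        simp only [LinearMap.comp_apply, LinearEquiv.coe_coe, LinearEquiv.symm_apply_apply]
    rw [this, ← LinearMap.baseChange_comp, h1, LinearMap.baseChange_id]
  · apply LinearMap.toMatrix'.injective
    ext a b
    rw [LinearMap.toMatrix'_toLin', LinearMap.toMatrix'_apply]
    have h3 : i (s (Pi.single b 1)) = Matrix.toLin' e (Pi.single b 1) := by
      rw [← h2]; rfl
    simp only [LinearMap.comp_apply, LinearEquiv.coe_coe, TensorProduct.piScalarRight_symm_single,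
      LinearMap.baseChange_tmul, h3, TensorProduct.piScalarRight_apply,
      TensorProduct.piScalarRightHom_tmul, Matrix.toLin'_apply, Matrix.mulVec_single_one,
      Matrix.map_apply, Algebra.algebraMap_eq_smul_one]
    rfl

end image

end Groth.Agent.Lib.Helper11.Hk
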