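import Mathlib
import Groth.Agent.Lib.Helper11.HkI

/-!
# The dilation lemma for idempotent matrices (helper11)
-/

set_option autoImplicit false
set_option linter.unusedSectionVars false
set_option linter.unusedVariables false
set_option linter.style.haveILetI false

open Polynomial Module

universe u v

namespace Groth.Agent.Lib.Helper11.Hk

section tau

variable {W : Type*} [CommRing W]

/-- The substitution `X ↦ tX`. -/
noncomputable def τ (t : W) : W[X] →+* W[X] := Polynomial.compRingHom (C t * X)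

lemma τ_apply (t : W) (p : W[X]) : τ t p = p.comp (C t * X) := rfl

@[simp] lemma τ_C (t w : W) : τ t (C w) = C w := by rw [τ_apply, C_comp]

@[simp] lemma τ_X (t : W) : τ t X = C t * X := by rw [τ_apply, X_comp]

lemma τ_τ (s t : W) (p : W[X]) : τ s (τ t p) = τ (t * s) p := by
  rw [τ_apply, τ_apply, τ_apply, comp_assoc]
  congr 1
  rw [mul_comp, C_comp, X_comp, C_mul, mul_assoc]

lemma τ_zero (p : W[X]) : τ 0 p = C (p.coeff 0) := by
  rw [τ_apply, C_0, zero_mul, comp_zero, coeff_zero_eq_eval_zero]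

lemma τ_one (p : W[X]) : τ 1 p = p := by
  rw [τ_apply, C_1, one_mul, comp_X]

lemma map_τ {W' : Type*} [CommRing W'] (f : W →+* W') (t : W) (p : W[X]) :
    (τ t p).map f = τ (f t) (p.map f) := by
  rw [τ_apply, τ_apply, map_comp, Polynomial.map_mul, map_C, map_X]

lemma eq_X_mul_divX_of_τ_zero {p : W[X]} (h : τ 0 p = 0) : p = X * divX p := by
  have := X_mul_divX_add p
  rw [τ_zero] at h
  rw [h, add_zero] at this
  exact this.symm

lemma τ_X_mul (t : W) (q : W[X]) : τ t (X * q) = X * τ t (C t * q) := by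
  rw [map_mul, map_mul, τ_X, τ_C]; ring

lemma exists_common_mul_eq_zero {P : Type*} [CommRing P] (T : Submonoid P) {ι : Type*} [Finite ι]
    (f : ι → P) (h : ∀ i, ∃ t ∈ T, t * f i = 0) : ∃ t ∈ T, ∀ i, t * f i = 0 := by
  classical
  cases nonempty_fintype ι
  choose t ht h0 using h
  refine ⟨∏ i, t i, Submonoid.prod_mem _ fun i _ => ht i, fun i => ?_⟩
  rw [← Finset.mul_prod_erase Finset.univ t (Finset.mem_univ i), mul_comm (t i), mul_assoc, h0,
    mul_zero]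

end tau

section DL

variable {W W' : Type*} [CommRing W] [CommRing W'] [Algebra W W'] (S : Submonoid W)
  [IsLocalization S W']

attribute [local instance] Polynomial.algebra

lemma lift_family {ι : Type*} [Finite ι] (p : ι → W'[X]) (hp : ∀ i, τ 0 (p i) = 0) :
    ∃ s ∈ S, ∃ q : ι → W[X], (∀ i, τ 0 (q i) = 0) ∧
      ∀ i, (q i).map (algebraMap W W') = τ (algebraMap W W' s) (p i) := by
  haveI := Polynomial.isLocalization S W'
  obtain ⟨⟨b, s, hs, rfl⟩, hb⟩ :=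
    IsLocalization.exist_integer_multiples_of_finite (S.map (C : W →+* W[X])) (fun i => divX (p i))
  choose q₁ hq₁ using hb
  refine ⟨s, hs, fun i => X * τ s (q₁ i), fun i => ?_, fun i => ?_⟩
  · rw [map_mul, τ_X, C_0, zero_mul, zero_mul]
  · have h1 : (q₁ i).map (algebraMap W W') = C (algebraMap W W' s) * divX (p i) := by
      have := hq₁ i
      simp only [Algebra.smul_def, Polynomial.algebraMap_def, coe_mapRingHom, map_C] at this
      exact this
    rw [Polynomial.map_mul, map_X, map_τ, h1]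
    conv_rhs => rw [eq_X_mul_divX_of_τ_zero (hp i), τ_X_mul]

lemma kill_family {ι : Type*} [Finite ι] (δ : ι → W[X]) (h0 : ∀ i, τ 0 (δ i) = 0)
    (hφ : ∀ i, (δ i).map (algebraMap W W') = 0) : ∃ s ∈ S, ∀ i, τ s (δ i) = 0 := by
  haveI := Polynomial.isLocalization S W'
  have h1 : ∀ i, ∃ t ∈ S.map (C : W →+* W[X]), t * divX (δ i) = 0 := by
    intro i
    have h2 : (divX (δ i)).map (algebraMap W W') = 0 := by
      have h3 := hφ i
      rw [eq_X_mul_divX_of_τ_zero (h0 i), Polynomial.map_mul, map_X] at h3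
      ext n
      have := congrArg (fun r => r.coeff (n + 1)) h3
      simpa [coeff_X_mul] using this
    have h4 : algebraMap W[X] W'[X] (divX (δ i)) = 0 := h2
    obtain ⟨⟨t, ht⟩, h5⟩ := (IsLocalization.map_eq_zero_iff (S.map (C : W →+* W[X])) W'[X] _).mp h4
    exact ⟨t, ht, h5⟩
  obtain ⟨_, ⟨s, hs, rfl⟩, h6⟩ := exists_common_mul_eq_zero _ _ h1
  refine ⟨s, hs, fun i => ?_⟩
  rw [eq_X_mul_divX_of_τ_zero (h0 i), τ_X_mul, h6, map_zero, mul_zero]

/-- **Dilation lemma**, abstract form. -/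
theorem dilation_abstract {n : ℕ} (E₀ : Matrix (Fin n) (Fin n) W)
    (E₁ : Matrix (Fin n) (Fin n) W[X])
    (hE₀ : E₀ * E₀ = E₀) (hE₁ : E₁.map (τ (0 : W)) = E₀.map C)
    (α' β' : Matrix (Fin n) (Fin n) W'[X])
    (h1 : α' * β' = (E₀.map C).map (Polynomial.mapRingHom (algebraMap W W')))
    (h2 : β' * α' = E₁.map (Polynomial.mapRingHom (algebraMap W W')))
    (h3 : α'.map (τ (0 : W')) = (E₀.map C).map (Polynomial.mapRingHom (algebraMap W W')))
    (h4 : β'.map (τ (0 : W')) = (E₀.map C).map (Polynomial.mapRingHom (algebraMap W W'))) :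
    ∃ s ∈ S, ∃ α'' β'' : Matrix (Fin n) (Fin n) W[X],
      α'' * β'' = E₀.map C ∧ β'' * α'' = E₁.map (τ s) := by
  classical
  set φ := algebraMap W W' with hφ
  set Φ := Polynomial.mapRingHom φ with hΦ
  -- matrix ring homs
  set ΦM := Φ.mapMatrix (m := Fin n) with hΦM
  let T : W → (Matrix (Fin n) (Fin n) W[X] →+* Matrix (Fin n) (Fin n) W[X]) :=
    fun t => (τ t).mapMatrix
  let T' : W' → (Matrix (Fin n) (Fin n) W'[X] →+* Matrix (Fin n) (Fin n) W'[X]) :=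
    fun t => (τ t).mapMatrix
  have hT_apply : ∀ t (M : Matrix (Fin n) (Fin n) W[X]) i j, T t M i j = τ t (M i j) :=
    fun t M i j => rfl
  have hT'_apply : ∀ t (M : Matrix (Fin n) (Fin n) W'[X]) i j, T' t M i j = τ t (M i j) :=
    fun t M i j => rfl
  have hΦM_apply : ∀ (M : Matrix (Fin n) (Fin n) W[X]) i j, ΦM M i j = (M i j).map φ :=
    fun M i j => rfl
  have hΦT : ∀ t M, ΦM (T t M) = T' (φ t) (ΦM M) := by
    intro t M; refine Matrix.ext fun i j => ?_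
    rw [hΦM_apply, hT_apply, hT'_apply, hΦM_apply, map_τ]
  have hTT : ∀ s t M, T s (T t M) = T (t * s) M := by
    intro s t M; refine Matrix.ext fun i j => ?_
    rw [hT_apply, hT_apply, hT_apply, τ_τ]
  set Ē : Matrix (Fin n) (Fin n) W[X] := E₀.map C with hĒ
  have hĒĒ : Ē * Ē = Ē := by
    rw [hĒ, ← Matrix.map_mul, hE₀]
  have hTĒ : ∀ t, T t Ē = Ē := by
    intro t; refine Matrix.ext fun i j => ?_
    rw [hT_apply, hĒ, Matrix.map_apply, τ_C]
  have hT'ΦĒ : ∀ t, T' t (ΦM Ē) = ΦM Ē := by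
    intro t; refine Matrix.ext fun i j => ?_
    rw [hT'_apply, hΦM_apply, hĒ, Matrix.map_apply, map_C, τ_C]
  have h1' : α' * β' = ΦM Ē := h1
  have h2' : β' * α' = ΦM E₁ := h2
  have h3' : T' 0 α' = ΦM Ē := h3
  have h4' : T' 0 β' = ΦM Ē := h4
  have hE₁' : T 0 E₁ = Ē := hE₁
  -- lift `α'`, `β'`
  let Pα := α' - ΦM Ē
  let Pβ := β' - ΦM Ē
  have hPα : T' 0 Pα = 0 := by rw [map_sub, h3', hT'ΦĒ, sub_self]
  have hPβ : T' 0 Pβ = 0 := by rw [map_sub, h4', hT'ΦĒ, sub_self]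
  let p : (Fin n × Fin n) ⊕ (Fin n × Fin n) → W'[X] :=
    fun x => Sum.elim (fun ij => Pα ij.1 ij.2) (fun ij => Pβ ij.1 ij.2) x
  have hp : ∀ x, τ 0 (p x) = 0 := by
    rintro (⟨i, j⟩ | ⟨i, j⟩)
    · have := congrFun (congrFun hPα i) j
      exact this
    · have := congrFun (congrFun hPβ i) j
      exact this
  obtain ⟨s₁, hs₁, q, hq0, hq⟩ := lift_family S p hp
  let Qα : Matrix (Fin n) (Fin n) W[X] := Matrix.of fun i j => q (Sum.inl (i, j))
  let Qβ : Matrix (Fin n) (Fin n) W[X] := Matrix.of fun i j => q (Sum.inr (i, j))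
  have hQα0 : T 0 Qα = 0 := by
    refine Matrix.ext fun i j => ?_
    exact hq0 (Sum.inl (i, j))
  have hQβ0 : T 0 Qβ = 0 := by
    refine Matrix.ext fun i j => ?_
    exact hq0 (Sum.inr (i, j))
  have hQα : ΦM Qα = T' (φ s₁) Pα := by
    refine Matrix.ext fun i j => ?_
    exact hq (Sum.inl (i, j))
  have hQβ : ΦM Qβ = T' (φ s₁) Pβ := by
    refine Matrix.ext fun i j => ?_
    exact hq (Sum.inr (i, j))
  set α₀ := Ē + Qα with hα₀
  set β₀ := Ē + Qβ with hβ₀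
  have hΦα₀ : ΦM α₀ = T' (φ s₁) α' := by
    rw [hα₀, map_add, hQα, map_sub, hT'ΦĒ, add_sub_cancel]
  have hΦβ₀ : ΦM β₀ = T' (φ s₁) β' := by
    rw [hβ₀, map_add, hQβ, map_sub, hT'ΦĒ, add_sub_cancel]
  have hTα₀ : T 0 α₀ = Ē := by rw [hα₀, map_add, hTĒ, hQα0, add_zero]
  have hTβ₀ : T 0 β₀ = Ē := by rw [hβ₀, map_add, hTĒ, hQβ0, add_zero]
  -- the two defects
  set Δ₁ := α₀ * β₀ - Ē with hΔ₁
  set Δ₂ := β₀ * α₀ - T s₁ E₁ with hΔ₂
  have hΦΔ₁ : ΦM Δ₁ = 0 := by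
    rw [hΔ₁, map_sub, map_mul, hΦα₀, hΦβ₀, ← map_mul, h1', hT'ΦĒ, sub_self]
  have hΦΔ₂ : ΦM Δ₂ = 0 := by
    rw [hΔ₂, map_sub, map_mul, hΦα₀, hΦβ₀, ← map_mul, h2', hΦT, sub_self]
  have hTΔ₁ : T 0 Δ₁ = 0 := by
    rw [hΔ₁, map_sub, map_mul, hTα₀, hTβ₀, hTĒ, hĒĒ, sub_self]
  have hTΔ₂ : T 0 Δ₂ = 0 := by
    rw [hΔ₂, map_sub, map_mul, hTα₀, hTβ₀, hTT, mul_zero, hE₁', hĒĒ, sub_self]
  let δ : (Fin n × Fin n) ⊕ (Fin n × Fin n) → W[X] :=
    fun x => Sum.elim (fun ij => Δ₁ ij.1 ij.2) (fun ij => Δ₂ ij.1 ij.2) x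
  have hδ0 : ∀ x, τ 0 (δ x) = 0 := by
    rintro (⟨i, j⟩ | ⟨i, j⟩)
    · exact congrFun (congrFun hTΔ₁ i) j
    · exact congrFun (congrFun hTΔ₂ i) j
  have hδφ : ∀ x, (δ x).map φ = 0 := by
    rintro (⟨i, j⟩ | ⟨i, j⟩)
    · exact congrFun (congrFun hΦΔ₁ i) j
    · exact congrFun (congrFun hΦΔ₂ i) j
  obtain ⟨s₂, hs₂, hkill⟩ := kill_family S δ hδ0 hδφ
  have hk₁ : T s₂ Δ₁ = 0 := by
    refine Matrix.ext fun i j => ?_
    exact hkill (Sum.inl (i, j))
  have hk₂ : T s₂ Δ₂ = 0 := by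
    refine Matrix.ext fun i j => ?_
    exact hkill (Sum.inr (i, j))
  refine ⟨s₁ * s₂, S.mul_mem hs₁ hs₂, T s₂ α₀, T s₂ β₀, ?_, ?_⟩
  · rw [← map_mul]
    have : α₀ * β₀ = Δ₁ + Ē := by rw [hΔ₁, sub_add_cancel]
    rw [this, map_add, hk₁, hTĒ, zero_add]
  · rw [← map_mul]
    have : β₀ * α₀ = Δ₂ + T s₁ E₁ := by rw [hΔ₂, sub_add_cancel]
    rw [this, map_add, hk₂, hTT, zero_add]
    rfl

end DL

end Groth.Agent.Lib.Helper11.Hk
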