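import Mathlib
import Groth.Agent.Lib.Helper11.HkI
import Groth.Agent.Lib.Helper11.HkJ

/-!
# Dilation over a localization, and Quillen patching for idempotent matrices (helper11)
-/

set_option autoImplicit false
set_option linter.unusedSectionVars false
set_option linter.unusedVariables false
set_option linter.style.haveILetI false

open Polynomial Module

universe u v

namespace Groth.Agent.Lib.Helper11.Hk

section homs

variable (R : Type*) [CommRing R]

/-- `X ↦ XY`. -/
noncomputable def ρ₀ : R[X] →+* R[X][X] :=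
  Polynomial.eval₂RingHom ((C : R[X] →+* R[X][X]).comp (C : R →+* R[X]))
    ((C (X : R[X]) : R[X][X]) * (X : R[X][X]))

/-- `X ↦ X(Y+Z)`. -/
noncomputable def ρ₁ : R[X] →+* R[X][X][X] :=
  Polynomial.eval₂RingHom
    ((C : R[X][X] →+* R[X][X][X]).comp ((C : R[X] →+* R[X][X]).comp (C : R →+* R[X])))
    ((C (C (X : R[X])) : R[X][X][X]) * (C (X : R[X][X]) + (X : R[X][X][X])))

@[simp] lemma ρ₀_C (a : R) : ρ₀ R (C a) = C (C a) := by simp [ρ₀]
@[simp] lemma ρ₀_X : ρ₀ R X = C X * X := by simp [ρ₀]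
@[simp] lemma ρ₁_C (a : R) : ρ₁ R (C a) = C (C (C a)) := by simp [ρ₁]
@[simp] lemma ρ₁_X : ρ₁ R X = C (C X) * (C X + X) := by simp [ρ₁]

lemma τ_zero_comp_ρ₁ :
    (τ (0 : R[X][X])).comp (ρ₁ R) = (C : R[X][X] →+* R[X][X][X]).comp (ρ₀ R) := by
  apply Polynomial.ringHom_ext
  · intro a; simp
  · simp

lemma τ_comp_C {W : Type*} [CommRing W] (t : W) : (τ t).comp (C : W →+* W[X]) = C := by
  ext w : 1
  simp

variable {R}

/-- Evaluation `Y ↦ b`, `Z ↦ z`. -/
noncomputable def ev (b z : R) : R[X][X][X] →+* R[X] :=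
  (Polynomial.evalRingHom (C b : R[X])).comp (Polynomial.evalRingHom (C (C z) : R[X][X]))

lemma ev_comp_C_ρ₀ (b z : R) :
    (ev b z).comp ((C : R[X][X] →+* R[X][X][X]).comp (ρ₀ R)) = τ b := by
  apply Polynomial.ringHom_ext
  · intro a; simp [ev]
  · simp [ev]

lemma ev_comp_τ_ρ₁ (b z s : R) :
    (ev b z).comp ((τ (C (C s) : R[X][X])).comp (ρ₁ R)) = τ (b + s * z) := by
  apply Polynomial.ringHom_ext
  · intro a; simp [ev]
  · simp [ev]; ring

end homs

section maps

variable {A : Type*} [CommRing A] {B : Type*} [CommRing B] (φ : A →+* B)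

lemma map₃_comp_ρ₁ :
    (mapRingHom (mapRingHom (mapRingHom φ))).comp (ρ₁ A) = (ρ₁ B).comp (mapRingHom φ) := by
  apply Polynomial.ringHom_ext
  · intro a; simp
  · simp

lemma map₃_comp_C_ρ₀ :
    (mapRingHom (mapRingHom (mapRingHom φ))).comp ((C : A[X][X] →+* A[X][X][X]).comp (ρ₀ A)) =
      ((C : B[X][X] →+* B[X][X][X]).comp (ρ₀ B)).comp (mapRingHom φ) := by
  apply Polynomial.ringHom_ext
  · intro a; simp
  · simp

end maps

lemma matrix_map_map {R S T : Type*} [NonAssocSemiring R] [NonAssocSemiring S]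
    [NonAssocSemiring T] {m n : Type*}
    (M : Matrix m n R) (f : R →+* S) (g : S →+* T) : (M.map f).map g = M.map (g.comp f) := by
  ext i j; rfl

lemma matrix_map_congr {R S : Type*} {m n : Type*} (M : Matrix m n R) {f g : R → S}
    (h : ∀ x, f x = g x) : M.map f = M.map g := by
  ext i j; exact h _

section applied

variable {R : Type*} [CommRing R]

lemma τ_zero_ρ₁ (x : R[X]) : τ (0 : R[X][X]) (ρ₁ R x) = C (ρ₀ R x) :=
  RingHom.congr_fun (τ_zero_comp_ρ₁ R) x

lemma ev_C_ρ₀ (b z : R) (x : R[X]) : ev b z (C (ρ₀ R x)) = τ b x :=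
  RingHom.congr_fun (ev_comp_C_ρ₀ b z) x

lemma ev_τ_ρ₁ (b z s : R) (x : R[X]) :
    ev b z (τ (C (C s) : R[X][X]) (ρ₁ R x)) = τ (b + s * z) x :=
  RingHom.congr_fun (ev_comp_τ_ρ₁ b z s) x

variable {B : Type*} [CommRing B] (φ : R →+* B)

lemma map₃_ρ₁ (x : R[X]) :
    mapRingHom (mapRingHom (mapRingHom φ)) (ρ₁ R x) = ρ₁ B (mapRingHom φ x) :=
  RingHom.congr_fun (map₃_comp_ρ₁ φ) x

lemma map₃_C_ρ₀ (x : R[X]) :
    mapRingHom (mapRingHom (mapRingHom φ)) (C (ρ₀ R x)) = C (ρ₀ B (mapRingHom φ x)) :=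
  RingHom.congr_fun (map₃_comp_C_ρ₀ φ) x

end applied

section dilation

variable {A : Type*} [CommRing A] {B : Type*} [CommRing B] [Algebra A B] (S : Submonoid A)
  [IsLocalization S B]

attribute [local instance] Polynomial.algebra

/-- **Dilation lemma** over a localization `A → B = S⁻¹A`. -/
theorem dilation {n r : ℕ} (e : Matrix (Fin n) (Fin n) A[X]) (he : e * e = e)
    (h : MEquiv (e.map (Polynomial.mapRingHom (algebraMap A B)))
      (1 : Matrix (Fin r) (Fin r) B[X])) :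
    ∃ s ∈ S, ∀ b z : A, MEquiv (e.map (τ (b + s * z))) (e.map (τ b)) := by
  classical
  obtain ⟨α, β, hαβ, hβα⟩ := h
  haveI h1loc : IsLocalization (S.map (C : A →+* A[X])) B[X] := Polynomial.isLocalization S B
  haveI h2loc : IsLocalization ((S.map (C : A →+* A[X])).map (C : A[X] →+* A[X][X])) B[X][X] :=
    Polynomial.isLocalization _ B[X]
  set φ₁ := Polynomial.mapRingHom (algebraMap A B) with hφ₁
  set Φ₃ : A[X][X][X] →+* B[X][X][X] := mapRingHom (mapRingHom φ₁) with hΦ₃
  set c₀ : B[X] →+* B[X][X][X] := (C : B[X][X] →+* B[X][X][X]).comp (ρ₀ B) with hc₀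
  set α₁ := α.map (ρ₁ B) with hα₁
  set β₁ := β.map (ρ₁ B) with hβ₁
  set α₀ := α.map c₀ with hα₀
  set β₀ := β.map c₀ with hβ₀
  have h11 : α₁ * β₁ = 1 := by
    rw [hα₁, hβ₁, ← Matrix.map_mul, hαβ, Matrix.map_one _ (map_zero _) (map_one _)]
  have h00 : α₀ * β₀ = 1 := by
    rw [hα₀, hβ₀, ← Matrix.map_mul, hαβ, Matrix.map_one _ (map_zero _) (map_one _)]
  have hb1 : β₁ * α₁ = (e.map (ρ₁ A)).map Φ₃ := by
    rw [hα₁, hβ₁, ← Matrix.map_mul, hβα]
    refine Matrix.ext fun i j => ?_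
    simp only [Matrix.map_apply]
    exact (map₃_ρ₁ (algebraMap A B) (e i j)).symm
  have hb0 : β₀ * α₀ = ((e.map (ρ₀ A)).map C).map Φ₃ := by
    rw [hα₀, hβ₀, ← Matrix.map_mul, hβα]
    refine Matrix.ext fun i j => ?_
    simp only [Matrix.map_apply]
    exact (map₃_C_ρ₀ (algebraMap A B) (e i j)).symm
  have hτα₁ : α₁.map (τ (0 : B[X][X])) = α₀ := by
    rw [hα₁, hα₀]
    refine Matrix.ext fun i j => ?_
    simp only [Matrix.map_apply]
    exact τ_zero_ρ₁ _
  have hτβ₁ : β₁.map (τ (0 : B[X][X])) = β₀ := by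
    rw [hβ₁, hβ₀]
    refine Matrix.ext fun i j => ?_
    simp only [Matrix.map_apply]
    exact τ_zero_ρ₁ _
  have hτα₀ : α₀.map (τ (0 : B[X][X])) = α₀ := by
    rw [hα₀]
    refine Matrix.ext fun i j => ?_
    simp only [Matrix.map_apply, hc₀, RingHom.comp_apply, τ_C]
  have hτβ₀ : β₀.map (τ (0 : B[X][X])) = β₀ := by
    rw [hβ₀]
    refine Matrix.ext fun i j => ?_
    simp only [Matrix.map_apply, hc₀, RingHom.comp_apply, τ_C]
  obtain ⟨s', hs', α'', β'', hαβ'', hβα''⟩ := dilation_abstract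
    ((S.map (C : A →+* A[X])).map (C : A[X] →+* A[X][X]))
    (e.map (ρ₀ A)) (e.map (ρ₁ A))
    (by rw [← Matrix.map_mul, he])
    (by
      refine Matrix.ext fun i j => ?_
      simp only [Matrix.map_apply]
      exact τ_zero_ρ₁ _)
    (β₀ * α₁) (β₁ * α₀)
    (by
      calc β₀ * α₁ * (β₁ * α₀) = β₀ * (α₁ * β₁) * α₀ := by simp only [Matrix.mul_assoc]
        _ = β₀ * α₀ := by rw [h11, Matrix.mul_one]
        _ = _ := hb0)
    (by
      calc β₁ * α₀ * (β₀ * α₁) = β₁ * (α₀ * β₀) * α₁ := by simp only [Matrix.mul_assoc]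
        _ = β₁ * α₁ := by rw [h00, Matrix.mul_one]
        _ = _ := hb1)
    (by rw [Matrix.map_mul, hτβ₀, hτα₁, hb0]; rfl)
    (by rw [Matrix.map_mul, hτβ₁, hτα₀, hb0]; rfl)
  obtain ⟨s'', ⟨s, hs, rfl⟩, rfl⟩ := hs'
  refine ⟨s, hs, fun b z => ⟨α''.map (ev b z), β''.map (ev b z), ?_, ?_⟩⟩
  · rw [← Matrix.map_mul, hαβ'']
    refine Matrix.ext fun i j => ?_
    simp only [Matrix.map_apply]
    exact ev_C_ρ₀ b z _
  · rw [← Matrix.map_mul, hβα'']
    refine Matrix.ext fun i j => ?_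
    simp only [Matrix.map_apply]
    exact ev_τ_ρ₁ b z s _

end dilation

section patching

variable {A : Type*} [CommRing A]

/-- **Quillen patching** for idempotent matrices over `A[X]`: if the image of `e` becomes free
over `A_𝔪[X]` for every maximal ideal `𝔪`, then `e` is equivalent to its constant term. -/
theorem patching {n : ℕ} (e : Matrix (Fin n) (Fin n) A[X]) (he : e * e = e)
    (h : ∀ (m : Ideal A) [m.IsMaximal], ∃ r : ℕ,
      MEquiv (e.map (Polynomial.mapRingHom (algebraMap A (Localization.AtPrime m))))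
        (1 : Matrix (Fin r) (Fin r) (Localization.AtPrime m)[X])) :
    MEquiv e (e.map (τ (0 : A))) := by
  have hidem : ∀ b : A, e.map (τ b) * e.map (τ b) = e.map (τ b) := by
    intro b; rw [← Matrix.map_mul, he]
  let J : Ideal A :=
    { carrier := {s | ∀ b z : A, MEquiv (e.map (τ (b + s * z))) (e.map (τ b))}
      add_mem' := by
        intro s s' hs hs' b z
        have h1 := hs' (b + s * z) z
        have h2 := hs b z
        have h3 : b + (s + s') * z = b + s * z + s' * z := by ring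
        rw [h3]
        exact MEquiv.trans (hidem _) (hidem _) h1 h2
      zero_mem' := by
        intro b z
        rw [zero_mul, add_zero]
        exact MEquiv.refl (hidem b)
      smul_mem' := by
        intro c s hs b z
        have h1 := hs b (c * z)
        have h3 : b + c • s * z = b + s * (c * z) := by rw [smul_eq_mul]; ring
        rw [h3]
        exact h1 }
  have hJ : J = ⊤ := by
    by_contra hne
    obtain ⟨m, hm, hJm⟩ := Ideal.exists_le_maximal J hne
    haveI := hm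
    obtain ⟨r, hr⟩ := h m
    obtain ⟨s, hs, hsJ⟩ := dilation m.primeCompl e he hr
    exact hs (hJm hsJ)
  have h1 : (1 : A) ∈ J := by rw [hJ]; trivial
  have h2 := h1 0 1
  rw [one_mul, zero_add] at h2
  have h3 : e.map (τ (1 : A)) = e := by
    refine Matrix.ext fun i j => ?_
    rw [Matrix.map_apply, τ_one]
  rwa [h3] at h2

end patching

end Groth.Agent.Lib.Helper11.Hk
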