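import Mathlib
import Groth.Agent.Lib.Helper11.HkA
import Groth.Agent.Lib.Helper11.HkB
import Groth.Agent.Lib.Helper11.HkC
import Groth.Agent.Lib.Helper11.HkD
import Groth.Agent.Lib.Helper11.HkE
import Groth.Agent.Lib.Helper11.HkF
import Groth.Agent.Lib.Helper11.HkG
import Groth.Agent.Lib.Helper11.HkH
import Groth.Agent.Lib.Helper11.HkI
import Groth.Agent.Lib.Helper11.HkJ
import Groth.Agent.Lib.Helper11.HkK

/-!
# Global Horrocks theorem (helper11)

A finitely generated projective `A[X]`-module which extends to a vector bundle on the projective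
line over `A` is extended from `A`.
-/

set_option autoImplicit false
set_option linter.unusedSectionVars false
set_option linter.unusedVariables false
set_option linter.style.haveILetI false

open Polynomial LaurentPolynomial Module TensorProduct

universe u

namespace Groth.Agent.Lib.Helper11.Hk

attribute [local instance] Polynomial.algebra laurentAlgebra

section global

variable {A : Type u} [CommRing A]

/-- **Horrocks' theorem**, matrix form: `M` is the image of a constant idempotent matrix. -/
theorem HData.exists_const_idem (D : HData A) :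
    ∃ (n : ℕ) (e0 : Matrix (Fin n) (Fin n) A), e0 * e0 = e0 ∧
      IsImage (e0.map (Polynomial.C : A →+* A[X])) D.M := by
  obtain ⟨n, e, hI⟩ := exists_isImage A[X] D.M
  have he := hI.idem
  have hloc : ∀ (m : Ideal A) [m.IsMaximal], ∃ r : ℕ,
      MEquiv (e.map (Polynomial.mapRingHom (algebraMap A (Localization.AtPrime m))))
        (1 : Matrix (Fin r) (Fin r) (Localization.AtPrime m)[X]) := by
    intro m hm
    haveI : Module.Free (Localization.AtPrime m)[X] ((Localization.AtPrime m)[X] ⊗[A[X]] D.M) :=
      (D.bc (Localization.AtPrime m)).free_of_isLocalRing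
    have hI' : IsImage (e.map (Polynomial.mapRingHom (algebraMap A (Localization.AtPrime m))))
        ((Localization.AtPrime m)[X] ⊗[A[X]] D.M) := hI.baseChange (Localization.AtPrime m)[X]
    obtain ⟨r, hr⟩ := exists_isImage_one_of_free (R := (Localization.AtPrime m)[X])
      (M := (Localization.AtPrime m)[X] ⊗[A[X]] D.M)
    exact ⟨r, hI'.mequiv hr⟩
  have hp := patching e he hloc
  refine ⟨n, e.map (Polynomial.constantCoeff : A[X] →+* A), ?_, ?_⟩
  · rw [← Matrix.map_mul, he]
  · have h1 : (e.map (Polynomial.constantCoeff : A[X] →+* A)).map (Polynomial.C : A →+* A[X]) =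
        e.map (τ (0 : A)) := by
      refine Matrix.ext fun i j => ?_
      simp only [Matrix.map_apply, τ_zero, Polynomial.constantCoeff_apply]
    rw [h1]
    refine hI.of_mequiv hp ?_
    rw [← Matrix.map_mul, he]

/-- **Horrocks' theorem**: `M` is extended from a finitely generated projective `A`-module. -/
theorem HData.exists_extended (D : HData A) :
    ∃ (P : Type u) (_ : AddCommGroup P) (_ : Module A P), Module.Finite A P ∧
      Module.Projective A P ∧ Nonempty (D.M ≃ₗ[A[X]] (A[X] ⊗[A] P)) := by
  obtain ⟨n, e0, he0, hI⟩ := D.exists_const_idem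
  -- the image of `e0`
  let P : Submodule A (Fin n → A) := LinearMap.range (Matrix.toLin' e0)
  have hP : IsImage e0 P := by
    refine ⟨P.subtype, (Matrix.toLin' e0).rangeRestrict, ?_, ?_⟩
    · ext ⟨x, y, rfl⟩ : 2
      simp only [LinearMap.comp_apply, Submodule.subtype_apply, LinearMap.id_apply]
      show (Matrix.toLin' e0) ((Matrix.toLin' e0) y) = (Matrix.toLin' e0) y
      rw [← LinearMap.comp_apply, ← Matrix.toLin'_mul, he0]
    · ext x : 1
      rfl
  refine ⟨P, inferInstance, inferInstance, hP.finite, hP.projective, ?_⟩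
  have hPX : IsImage (e0.map (algebraMap A A[X])) (A[X] ⊗[A] P) := hP.baseChange A[X]
  exact hI.equiv hPX

end global

section canonical

variable {A : Type u} [CommRing A]
variable (M : Type u) [AddCommGroup M] [Module A[X] M] [Module.Finite A[X] M]
  [Module.Projective A[X] M]
variable (N : Type u) [AddCommGroup N] [Module A[X] N] [Module.Finite A[X] N]
  [Module.Projective A[X] N]

lemma isLocalizedModule_mk (M : Type u) [AddCommGroup M] [Module A[X] M] :
    IsLocalizedModule (Submonoid.powers (X : A[X]))
      (TensorProduct.mk A[X] A[T;T⁻¹] M 1) :=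
  (isLocalizedModule_iff_isBaseChange (Submonoid.powers (X : A[X])) A[T;T⁻¹] _).mpr
    (TensorProduct.isBaseChange A[X] M A[T;T⁻¹])

/-- The Horrocks data attached to a glueing isomorphism. -/
noncomputable def HData.ofEquiv (e : (A[T;T⁻¹] ⊗[A[X]] M) ≃+ (A[T;T⁻¹] ⊗[A[X]] N))
    (he : ∀ (a : A[T;T⁻¹]) (v : A[T;T⁻¹] ⊗[A[X]] M),
      e (a • v) = LaurentPolynomial.invert a • e v) : HData A where
  M := M
  N := N
  VM := A[T;T⁻¹] ⊗[A[X]] M
  VN := A[T;T⁻¹] ⊗[A[X]] N
  fM := TensorProduct.mk A[X] A[T;T⁻¹] M 1
  fN := TensorProduct.mk A[X] A[T;T⁻¹] N 1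
  locM := isLocalizedModule_mk M
  locN := isLocalizedModule_mk N
  e := e
  he := he

/-- **Horrocks**: a module glueing to a bundle on the projective line is extended. -/
theorem exists_extended_of_equiv (e : (A[T;T⁻¹] ⊗[A[X]] M) ≃+ (A[T;T⁻¹] ⊗[A[X]] N))
    (he : ∀ (a : A[T;T⁻¹]) (v : A[T;T⁻¹] ⊗[A[X]] M),
      e (a • v) = LaurentPolynomial.invert a • e v) :
    ∃ (P : Type u) (_ : AddCommGroup P) (_ : Module A P), Module.Finite A P ∧
      Module.Projective A P ∧ Nonempty (M ≃ₗ[A[X]] (A[X] ⊗[A] P)) :=
  (HData.ofEquiv M N e he).exists_extended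

end canonical

end Groth.Agent.Lib.Helper11.Hk
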