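import Mathlib
import Groth.Agent.Lib.Helper11.HkL

/-!
# Horrocks: the easy direction, and the final equivalence (helper11)
-/

set_option autoImplicit false
set_option linter.unusedSectionVars false
set_option linter.unusedVariables false
set_option linter.style.haveILetI false

open Polynomial LaurentPolynomial Module TensorProduct

universe u

namespace Groth.Agent.Lib.Helper11.Hk

section converse

variable {A : Type u} [CommRing A]

instance isScalarTower_laurent : IsScalarTower A A[X] A[T;T⁻¹] :=
  IsScalarTower.of_algebraMap_eq fun a => by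
    rw [LaurentPolynomial.algebraMap_eq_toLaurent, Polynomial.algebraMap_apply,
      Algebra.algebraMap_self, RingHom.id_apply, Polynomial.toLaurent_C]
    rfl

/-- `invert ⊗ id` on `A[T;T⁻¹] ⊗[A] P`. -/
noncomputable def invTensor (P : Type*) [AddCommGroup P] [Module A P] :
    (A[T;T⁻¹] ⊗[A] P) ≃ₗ[A] (A[T;T⁻¹] ⊗[A] P) :=
  TensorProduct.congr (LaurentPolynomial.invert (R := A)).toLinearEquiv (LinearEquiv.refl A P)

lemma invTensor_smul (P : Type*) [AddCommGroup P] [Module A P] (a : A[T;T⁻¹])
    (t : A[T;T⁻¹] ⊗[A] P) :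
    invTensor P (a • t) = LaurentPolynomial.invert a • invTensor P t := by
  induction t using TensorProduct.induction_on with
  | zero => simp
  | tmul l p =>
    simp [invTensor, TensorProduct.smul_tmul', smul_eq_mul]
  | add x y hx hy => rw [smul_add, map_add, hx, hy, map_add, smul_add]

/-- An extended module extends to the projective line. -/
theorem exists_semilinear_of_extended (M : Type u) [AddCommGroup M] [Module A[X] M]
    (P : Type u) [AddCommGroup P] [Module A P] (f : M ≃ₗ[A[X]] (A[X] ⊗[A] P)) :
    ∃ e : (A[T;T⁻¹] ⊗[A[X]] M) →ₛₗ[(LaurentPolynomial.invert (R := A)).toRingEquiv.toRingHom]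
        (A[T;T⁻¹] ⊗[A[X]] M), Function.Bijective e := by
  let g : (A[T;T⁻¹] ⊗[A[X]] M) ≃ₗ[A[T;T⁻¹]] (A[T;T⁻¹] ⊗[A] P) :=
    (TensorProduct.AlgebraTensorModule.congr (LinearEquiv.refl A[T;T⁻¹] A[T;T⁻¹]) f) ≪≫ₗ
      (TensorProduct.AlgebraTensorModule.cancelBaseChange A A[X] A[T;T⁻¹] A[T;T⁻¹] P)
  refine ⟨{ toFun := fun v => g.symm (invTensor P (g v))
            map_add' := fun v w => by simp only [map_add]
            map_smul' := fun a v => by
              rw [map_smul, invTensor_smul, map_smul]
              rfl }, ?_⟩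
  exact g.symm.bijective.comp ((invTensor P).bijective.comp g.bijective)

end converse

end Groth.Agent.Lib.Helper11.Hk
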