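import Mathlib
import Groth.Agent.Lib.Helper11.HkM

/-!
# Local freeness of extended modules over a Zariski cover of the base (helper11)
-/

set_option autoImplicit false
set_option linter.unusedSectionVars false
set_option linter.unusedVariables false
set_option linter.style.haveILetI false

open Polynomial Module TensorProduct

universe u

namespace Groth.Agent.Lib.Helper11.Hk

section cover

variable {R : Type u} [CommRing R]

lemma IsImage.exists_mequiv_one_of_free {S : Type*} [CommRing S] {M : Type*} [AddCommGroup M]
    [Module S M] {n : ℕ} {e : Matrix (Fin n) (Fin n) S} (h : IsImage e M) [Module.Free S M] :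
    ∃ r : ℕ, MEquiv e (1 : Matrix (Fin r) (Fin r) S) := by
  haveI := h.finite
  rcases subsingleton_or_nontrivial S with hS | hS
  · exact ⟨0, 0, 0, Subsingleton.elim _ _, Subsingleton.elim _ _⟩
  · obtain ⟨r, hr⟩ := exists_isImage_one_of_free (R := S) (M := M)
    exact ⟨r, h.mequiv hr⟩

variable {P₀ : Type u} [AddCommGroup P₀] [Module R P₀]

/-- If `P₀` becomes free after inverting `g`, the extended module becomes free after inverting
`C g`. -/
lemma free_localized_of_mequiv {P : Type u} [AddCommGroup P] [Module R[X] P]
    (f : P ≃ₗ[R[X]] (R[X] ⊗[R] P₀)) {n₀ : ℕ} {e0 : Matrix (Fin n₀) (Fin n₀) R}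
    (hI : IsImage e0 P₀) (g : R) {r : ℕ}
    (hg : MEquiv (e0.map (algebraMap R (Localization.Away g)))
      (1 : Matrix (Fin r) (Fin r) (Localization.Away g))) :
    Module.Free (Localization.Away (C g : R[X]))
      (LocalizedModule (Submonoid.powers (C g : R[X])) P) := by
  have hunit : IsUnit (algebraMap R (Localization.Away (C g : R[X])) g) := by
    rw [IsScalarTower.algebraMap_apply R R[X] (Localization.Away (C g : R[X]))]
    exact IsLocalization.Away.algebraMap_isUnit (C g : R[X])
  let ψ : Localization.Away g →+* Localization.Away (C g : R[X]) :=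
    IsLocalization.Away.lift g hunit
  have hmap := hg.map ψ
  have h1 : (e0.map (algebraMap R (Localization.Away g))).map ψ =
      e0.map (algebraMap R (Localization.Away (C g : R[X]))) := by
    refine Matrix.ext fun i j => ?_
    simp only [Matrix.map_apply]
    exact IsLocalization.Away.lift_eq g hunit _
  rw [h1, Matrix.map_one _ (map_zero _) (map_one _)] at hmap
  have hI' : IsImage (e0.map (algebraMap R (Localization.Away (C g : R[X]))))
      (Localization.Away (C g : R[X]) ⊗[R] P₀) := hI.baseChange _
  have hI'' := hI'.of_mequiv hmap (Matrix.one_mul 1)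
  haveI : Module.Free (Localization.Away (C g : R[X]))
      (Localization.Away (C g : R[X]) ⊗[R] P₀) := hI''.free_of_one
  let E : LocalizedModule (Submonoid.powers (C g : R[X])) P ≃ₗ[Localization.Away (C g : R[X])]
      (Localization.Away (C g : R[X]) ⊗[R] P₀) :=
    (LocalizedModule.equivTensorProduct (Submonoid.powers (C g : R[X])) P) ≪≫ₗ
    (TensorProduct.AlgebraTensorModule.congr
      (LinearEquiv.refl (Localization.Away (C g : R[X])) (Localization.Away (C g : R[X]))) f) ≪≫ₗ
    (TensorProduct.AlgebraTensorModule.cancelBaseChange R R[X] (Localization.Away (C g : R[X]))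
      (Localization.Away (C g : R[X])) P₀)
  exact Module.Free.of_equiv E.symm

variable [Module.Finite R P₀] [Module.Projective R P₀]

/-- A finitely generated projective module is free on a finite cover by basic opens, in the
idempotent matrix formulation. -/
lemma exists_cover_mequiv {n₀ : ℕ} {e0 : Matrix (Fin n₀) (Fin n₀) R} (hI : IsImage e0 P₀) :
    ∃ (n : ℕ) (g : Fin n → R), Ideal.span (Set.range g) = ⊤ ∧
      ∀ i, ∃ r : ℕ, MEquiv (e0.map (algebraMap R (Localization.Away (g i))))
        (1 : Matrix (Fin r) (Fin r) (Localization.Away (g i))) := by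
  classical
  let G : Set R := {g | ∃ r : ℕ, MEquiv (e0.map (algebraMap R (Localization.Away g)))
    (1 : Matrix (Fin r) (Fin r) (Localization.Away g))}
  have hG : Ideal.span G = ⊤ := by
    by_contra hne
    obtain ⟨m, hm, hGm⟩ := Ideal.exists_le_maximal _ hne
    haveI := hm
    haveI : Module.FinitePresentation R P₀ := Module.finitePresentation_of_projective R P₀
    haveI : Module.Free (Localization.AtPrime m) (LocalizedModule m.primeCompl P₀) :=
      Module.free_of_flat_of_isLocalRing
    obtain ⟨r, hr, hfree, -⟩ := Module.FinitePresentation.exists_free_localizedModule_powers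
      m.primeCompl (LocalizedModule.mkLinearMap m.primeCompl P₀) (Localization.AtPrime m)
    have hI' : IsImage (e0.map (algebraMap R (Localization.Away r)))
        (Localization.Away r ⊗[R] P₀) := hI.baseChange _
    have hI'' : IsImage (e0.map (algebraMap R (Localization.Away r)))
        (LocalizedModule (Submonoid.powers r) P₀) :=
      hI'.of_equiv (LocalizedModule.equivTensorProduct (Submonoid.powers r) P₀).symm
    haveI : Module.Free (Localization.Away r) (LocalizedModule (Submonoid.powers r) P₀) := hfree
    have hrG : r ∈ G := hI''.exists_mequiv_one_of_free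
    exact hr (hGm (Ideal.subset_span hrG))
  have h1 : (1 : R) ∈ Ideal.span G := by rw [hG]; trivial
  obtain ⟨T, hTG, h1T⟩ := Submodule.mem_span_finite_of_mem_span h1
  refine ⟨T.card, fun i => ((T.equivFin).symm i : R), ?_, fun i => ?_⟩
  · rw [Ideal.eq_top_iff_one]
    have : Set.range (fun i => ((T.equivFin).symm i : R)) = (T : Set R) := by
      ext x
      constructor
      · rintro ⟨i, rfl⟩
        exact ((T.equivFin).symm i).2
      · intro hx
        exact ⟨T.equivFin ⟨x, hx⟩, by simp⟩
    rw [this]
    exact h1T
  · exact hTG ((T.equivFin).symm i).2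

/-- An extended module `P ≅ R[X] ⊗ P₀` with `P₀` finitely generated projective is free over a
finite cover of `Spec R` by basic opens. -/
theorem exists_cover_free_of_extended {P : Type u} [AddCommGroup P] [Module R[X] P]
    (f : P ≃ₗ[R[X]] (R[X] ⊗[R] P₀)) :
    ∃ (n : ℕ) (g : Fin n → R), Ideal.span (Set.range g) = ⊤ ∧
      ∀ i, Module.Free (Localization.Away (C (g i) : R[X]))
        (LocalizedModule (Submonoid.powers (C (g i) : R[X])) P) := by
  obtain ⟨n₀, e0, hI⟩ := exists_isImage R P₀
  obtain ⟨n, g, hg, hfree⟩ := exists_cover_mequiv hI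
  refine ⟨n, g, hg, fun i => ?_⟩
  obtain ⟨r, hr⟩ := hfree i
  exact free_localized_of_mequiv f hI (g i) hr

end cover

end Groth.Agent.Lib.Helper11.Hk
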