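import Mathlib

/-!
# Zariski gluing of modules over two comaximal basic opens (helper11)
-/

set_option autoImplicit false
set_option linter.unusedSectionVars false
set_option linter.unusedVariables false
set_option linter.style.haveILetI false

open Module

universe u

namespace Groth.Agent.Lib.Helper11.Hk

section glue

variable {R : Type*} [CommRing R]
variable {N₁ N₂ N₁₂ : Type*} [AddCommGroup N₁] [Module R N₁] [AddCommGroup N₂] [Module R N₂]
  [AddCommGroup N₁₂] [Module R N₁₂]
variable (u₁ : N₁ →ₗ[R] N₁₂) (u₂ : N₂ →ₗ[R] N₁₂)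

/-- The glued module: the fibre product of `N₁` and `N₂` over `N₁₂`. -/
def Glue : Submodule R (N₁ × N₂) :=
  LinearMap.eqLocus (u₁ ∘ₗ LinearMap.fst R N₁ N₂) (u₂ ∘ₗ LinearMap.snd R N₁ N₂)

lemma mem_glue {p : N₁ × N₂} : p ∈ Glue u₁ u₂ ↔ u₁ p.1 = u₂ p.2 := Iff.rfl

/-- First projection. -/
def gluePr₁ : Glue u₁ u₂ →ₗ[R] N₁ := LinearMap.fst R N₁ N₂ ∘ₗ (Glue u₁ u₂).subtype
/-- Second projection. -/
def gluePr₂ : Glue u₁ u₂ →ₗ[R] N₂ := LinearMap.snd R N₁ N₂ ∘ₗ (Glue u₁ u₂).subtype

@[simp] lemma gluePr₁_apply (p : Glue u₁ u₂) : gluePr₁ u₁ u₂ p = p.1.1 := rfl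
@[simp] lemma gluePr₂_apply (p : Glue u₁ u₂) : gluePr₂ u₁ u₂ p = p.1.2 := rfl

/-- The first projection is a localization where `N₂ → N₁₂` is. -/
theorem isLocalizedModule_gluePr₁ (S : Submonoid R)
    (hS : ∀ s : S, IsUnit (algebraMap R (Module.End R N₁) s)) [IsLocalizedModule S u₂] :
    IsLocalizedModule S (gluePr₁ u₁ u₂) where
  map_units := hS
  surj x := by
    obtain ⟨⟨y, s⟩, hy⟩ := IsLocalizedModule.surj S u₂ (u₁ x)
    refine ⟨⟨⟨(s • x, y), ?_⟩, s⟩, rfl⟩
    rw [mem_glue]
    simp only
    rw [← hy, Submonoid.smul_def, Submonoid.smul_def, map_smul]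
  exists_of_eq := by
    rintro ⟨⟨x, y⟩, hxy⟩ ⟨⟨x', y'⟩, hxy'⟩ h
    rw [mem_glue] at hxy hxy'
    simp only at hxy hxy'
    have hx : x = x' := h
    subst hx
    obtain ⟨c, hc⟩ := IsLocalizedModule.exists_of_eq (S := S) (f := u₂) (hxy.symm.trans hxy')
    refine ⟨c, ?_⟩
    apply Subtype.ext
    show (c • (x, y) : N₁ × N₂) = c • (x, y')
    rw [Prod.smul_mk, Prod.smul_mk, hc]

/-- The second projection is a localization where `N₁ → N₁₂` is. -/
theorem isLocalizedModule_gluePr₂ (S : Submonoid R)
    (hS : ∀ s : S, IsUnit (algebraMap R (Module.End R N₂) s)) [IsLocalizedModule S u₁] :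
    IsLocalizedModule S (gluePr₂ u₁ u₂) where
  map_units := hS
  surj y := by
    obtain ⟨⟨x, s⟩, hx⟩ := IsLocalizedModule.surj S u₁ (u₂ y)
    refine ⟨⟨⟨(x, s • y), ?_⟩, s⟩, rfl⟩
    rw [mem_glue]
    simp only
    rw [← hx, Submonoid.smul_def, Submonoid.smul_def, map_smul]
  exists_of_eq := by
    rintro ⟨⟨x, y⟩, hxy⟩ ⟨⟨x', y'⟩, hxy'⟩ h
    rw [mem_glue] at hxy hxy'
    simp only at hxy hxy'
    have hy : y = y' := h
    subst hy
    obtain ⟨c, hc⟩ := IsLocalizedModule.exists_of_eq (S := S) (f := u₁) (hxy.trans hxy'.symm)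
    refine ⟨c, ?_⟩
    apply Subtype.ext
    show (c • (x, y) : N₁ × N₂) = c • (x', y)
    rw [Prod.smul_mk, Prod.smul_mk, hc]

end glue

section projective

variable {R : Type u} [CommRing R] (a b : R) (hab : Ideal.span ({a, b} : Set R) = ⊤)
variable {M : Type u} [AddCommGroup M] [Module R M]
variable {M₁ : Type u} [AddCommGroup M₁] [Module R M₁] [Module (Localization.Away a) M₁]
  [IsScalarTower R (Localization.Away a) M₁]
variable {M₂ : Type u} [AddCommGroup M₂] [Module R M₂] [Module (Localization.Away b) M₂]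
  [IsScalarTower R (Localization.Away b) M₂]
variable (g₁ : M →ₗ[R] M₁) [IsLocalizedModule (Submonoid.powers a) g₁]
variable (g₂ : M →ₗ[R] M₂) [IsLocalizedModule (Submonoid.powers b) g₂]

include hab g₁ g₂ in
/-- A module which is finitely presented and flat on two comaximal basic opens is finitely
generated projective. -/
theorem finite_projective_of_cover
    [Module.FinitePresentation (Localization.Away a) M₁] [Module.Flat R M₁]
    [Module.FinitePresentation (Localization.Away b) M₂] [Module.Flat R M₂] :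
    Module.Finite R M ∧ Module.Projective R M := by
  -- the canonical localizations agree with `M₁`, `M₂`
  let E₁ : LocalizedModule (Submonoid.powers a) M ≃ₗ[R] M₁ :=
    IsLocalizedModule.linearEquiv (Submonoid.powers a)
      (LocalizedModule.mkLinearMap (Submonoid.powers a) M) g₁
  let E₂ : LocalizedModule (Submonoid.powers b) M ≃ₗ[R] M₂ :=
    IsLocalizedModule.linearEquiv (Submonoid.powers b)
      (LocalizedModule.mkLinearMap (Submonoid.powers b) M) g₂
  have hfp : Module.FinitePresentation R M := by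
    refine Module.FinitePresentation.of_localizationSpan ({a, b} : Set R) hab ?_
    rintro ⟨g, hg⟩
    rcases hg with rfl | hg
    · exact Module.FinitePresentation.of_equiv
        (E₁.extendScalarsOfIsLocalization (Submonoid.powers g) (Localization.Away g)).symm
    · have hg' : g = b := hg
      subst hg'
      exact Module.FinitePresentation.of_equiv
        (E₂.extendScalarsOfIsLocalization (Submonoid.powers g) (Localization.Away g)).symm
  have hflat : Module.Flat R M := by
    refine Module.flat_of_localized_span R M ({a, b} : Set R) hab ?_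
    rintro ⟨g, hg⟩
    rcases hg with rfl | hg
    · exact Module.Flat.of_linearEquiv E₁
    · have hg' : g = b := hg
      subst hg'
      exact Module.Flat.of_linearEquiv E₂
  exact ⟨inferInstance, Module.Flat.projective_of_finitePresentation⟩

end projective

end Groth.Agent.Lib.Helper11.Hk
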