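import Mathlib
import Groth.Agent.Lib.Helper11.HkP

/-!
# Gluing a bundle near infinity with a bundle on the punctured line (helper11)
-/

set_option autoImplicit false
set_option linter.unusedSectionVars false
set_option linter.unusedVariables false
set_option linter.style.haveILetI false

open Polynomial Module TensorProduct

universe u

namespace Groth.Agent.Lib.Helper11.Hk

section bc

variable (A : Type*) [CommRing A] (B C' : Type*) [CommRing B] [CommRing C'] [Algebra A B]
  [Algebra A C'] [Algebra B C'] [IsScalarTower A B C'] (Q : Type*) [AddCommGroup Q] [Module A Q]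

/-- `B ⊗ Q → C' ⊗ Q`. -/
noncomputable def tmap : (B ⊗[A] Q) →ₗ[B] (C' ⊗[A] Q) :=
  TensorProduct.AlgebraTensorModule.map (Algebra.linearMap B C') (LinearMap.id : Q →ₗ[A] Q)

@[simp] lemma tmap_tmul (b : B) (q : Q) : tmap A B C' Q (b ⊗ₜ q) = (algebraMap B C' b) ⊗ₜ q := rfl

lemma tmap_isBaseChange : IsBaseChange C' (tmap A B C' Q) := by
  have h1 : IsBaseChange B (TensorProduct.mk A B Q 1) := TensorProduct.isBaseChange _ _ _
  have h2 : IsBaseChange C' (TensorProduct.mk A C' Q 1) := TensorProduct.isBaseChange _ _ _
  have hcomp : ((tmap A B C' Q).restrictScalars A) ∘ₗ (TensorProduct.mk A B Q 1) =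
      TensorProduct.mk A C' Q 1 := by
    ext x
    simp
  exact IsBaseChange.of_comp h1 (by rw [hcomp]; exact h2)

lemma tmap_isLocalizedModule (t : B) [IsLocalization.Away t C'] :
    IsLocalizedModule (Submonoid.powers t) (tmap A B C' Q) :=
  (isLocalizedModule_iff_isBaseChange (Submonoid.powers t) C' _).mpr (tmap_isBaseChange A B C' Q)

end bc

end Groth.Agent.Lib.Helper11.Hk
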