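import Mathlib
import Groth.Agent.Lib.Helper11.HkP
import Groth.Agent.Lib.Helper11.HkM

set_option autoImplicit false
set_option linter.unusedSectionVars false
set_option linter.unusedVariables false
set_option linter.style.haveILetI false

open Polynomial LaurentPolynomial Module TensorProduct

universe u

namespace Groth.Agent.Lib.Helper11.Hk

section rings

variable {A : Type u} [CommRing A] (g : A[X])

/-- `A[X]_g`. -/
abbrev B₁ : Type u := Localization.Away g
/-- `A[X]_X`. -/
abbrev B₂ (A : Type u) [CommRing A] : Type u := Localization.Away (X : A[X])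
/-- `A[X]_{gX}`. -/
abbrev Cc : Type u := Localization.Away (algebraMap A[X] (B₁ g) X)

lemma isUnit_X_Cc : IsUnit (algebraMap A[X] (Cc g) X) := by
  rw [IsScalarTower.algebraMap_apply A[X] (B₁ g) (Cc g)]
  exact IsLocalization.Away.algebraMap_isUnit _

lemma isUnit_g_Cc : IsUnit (algebraMap A[X] (Cc g) g) := by
  rw [IsScalarTower.algebraMap_apply A[X] (B₁ g) (Cc g)]
  exact (IsLocalization.Away.algebraMap_isUnit g).map _

/-- `A[X]_X → A[X]_{gX}`. -/
noncomputable def b₂ToCc : B₂ A →+* Cc g := IsLocalization.Away.lift (X : A[X]) (isUnit_X_Cc g)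

noncomputable instance algB₂Cc : Algebra (B₂ A) (Cc g) := (b₂ToCc g).toAlgebra

instance towB₂Cc : IsScalarTower A[X] (B₂ A) (Cc g) :=
  IsScalarTower.of_algebraMap_eq fun x => by
    show _ = b₂ToCc g _
    rw [b₂ToCc, IsLocalization.Away.lift_eq]

instance towAB₂Cc : IsScalarTower A (B₂ A) (Cc g) :=
  IsScalarTower.of_algebraMap_eq fun x => by
    rw [IsScalarTower.algebraMap_apply A A[X] (Cc g), IsScalarTower.algebraMap_apply A A[X] (B₂ A),
      ← IsScalarTower.algebraMap_apply A[X] (B₂ A) (Cc g)]

instance awayB₂Cc : IsLocalization.Away (algebraMap A[X] (B₂ A) g) (Cc g) :=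
  IsLocalization.Away.commutes (B₂ A) (B₁ g) (Cc g) X g

end rings

end Groth.Agent.Lib.Helper11.Hk
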