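import Mathlib
import Groth.Agent.Lib.Helper11.HkP
import Groth.Agent.Lib.Helper11.HkM
import Groth.Agent.Lib.Helper11.HkQ1
import Groth.Agent.Lib.Helper11.HkQ0

set_option autoImplicit false
set_option linter.unusedSectionVars false
set_option linter.unusedVariables false
set_option linter.style.haveILetI false

open Polynomial LaurentPolynomial Module TensorProduct

universe u

namespace Groth.Agent.Lib.Helper11.Hk

section modules

variable {A : Type u} [CommRing A] (g : A[X])
variable (P P' : Type u) [AddCommGroup P] [Module A P] [AddCommGroup P'] [Module A P']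


/-- `N₁ → N₁₂`. -/
noncomputable def u₁ : (B₁ g ⊗[A] P') →ₗ[A[X]] (Cc g ⊗[A] P') :=
  (tmap A (B₁ g) (Cc g) P').restrictScalars A[X]

instance u₁_loc : IsLocalizedModule (Submonoid.powers (X : A[X])) (u₁ g P') := by
  haveI := tmap_isLocalizedModule A (B₁ g) (Cc g) P' (algebraMap A[X] (B₁ g) X)
  exact IsLocalizedModule.restrictScalars_powers (X : A[X]) (tmap A (B₁ g) (Cc g) P')

variable (Θ : (Cc g ⊗[A] P) ≃ₗ[Cc g] (Cc g ⊗[A] P'))

/-- `N₂ → N₁₂`. -/
noncomputable def u₂ : (B₂ A ⊗[A] P) →ₗ[A[X]] (Cc g ⊗[A] P') :=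
  ((Θ.restrictScalars (B₂ A)).toLinearMap ∘ₗ (tmap A (B₂ A) (Cc g) P)).restrictScalars A[X]

instance u₂_loc : IsLocalizedModule (Submonoid.powers g) (u₂ g P P' Θ) := by
  haveI := tmap_isLocalizedModule A (B₂ A) (Cc g) P (algebraMap A[X] (B₂ A) g)
  haveI : IsLocalizedModule (Submonoid.powers (algebraMap A[X] (B₂ A) g))
      ((Θ.restrictScalars (B₂ A)).toLinearMap ∘ₗ (tmap A (B₂ A) (Cc g) P)) :=
    IsLocalizedModule.of_linearEquiv _ _ _
  exact IsLocalizedModule.restrictScalars_powers g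
    ((Θ.restrictScalars (B₂ A)).toLinearMap ∘ₗ (tmap A (B₂ A) (Cc g) P))

end modules

end Groth.Agent.Lib.Helper11.Hk
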