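import Mathlib
import Groth.Agent.Lib.Helper11.HkQ2

set_option autoImplicit false
set_option linter.unusedSectionVars false
set_option linter.unusedVariables false
set_option linter.style.haveILetI false

open Polynomial LaurentPolynomial Module TensorProduct

universe u

namespace Groth.Agent.Lib.Helper11.Hk

section glued

variable {A : Type u} [CommRing A] (g : A[X]) (hg : g.coeff 0 = 1)
variable (P P' : Type u) [AddCommGroup P] [Module A P] [AddCommGroup P'] [Module A P']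
variable (Θ : (Cc g ⊗[A] P) ≃ₗ[Cc g] (Cc g ⊗[A] P'))

include hg in
lemma span_g_X : Ideal.span ({g, X} : Set A[X]) = ⊤ := by
  rw [Ideal.eq_top_iff_one]
  have h : (1 : A[X]) = g - X * divX g := by
    conv_rhs => lhs; rw [← Polynomial.divX_mul_X_add g]
    rw [hg]; simp [mul_comm]
  rw [h]
  refine Ideal.sub_mem _ (Ideal.subset_span (by simp)) (Ideal.mul_mem_right _ _ (Ideal.subset_span (by simp)))

/-- The glued module on the affine line near infinity, as a submodule. -/
noncomputable def GNsub : Submodule A[X] ((B₁ g ⊗[A] P') × (B₂ A ⊗[A] P)) :=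
  Glue (R := A[X]) (N₁ := B₁ g ⊗[A] P') (N₂ := B₂ A ⊗[A] P) (N₁₂ := Cc g ⊗[A] P')
    (u₁ g P') (u₂ g P P' Θ)

/-- The glued module on the affine line near infinity. -/
abbrev GN : Type u := GNsub g P P' Θ

/-- Restriction to `D(g)`. -/
noncomputable def pr₁ : GN g P P' Θ →ₗ[A[X]] (B₁ g ⊗[A] P') :=
  gluePr₁ (R := A[X]) (N₁ := B₁ g ⊗[A] P') (N₂ := B₂ A ⊗[A] P) (N₁₂ := Cc g ⊗[A] P')
    (u₁ g P') (u₂ g P P' Θ)

/-- Restriction to `D(X)`. -/
noncomputable def pr₂ : GN g P P' Θ →ₗ[A[X]] (B₂ A ⊗[A] P) :=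
  gluePr₂ (R := A[X]) (N₁ := B₁ g ⊗[A] P') (N₂ := B₂ A ⊗[A] P) (N₁₂ := Cc g ⊗[A] P')
    (u₁ g P') (u₂ g P P' Θ)

lemma isUnit_smul_of_isUnit {R S M : Type*} [CommRing R] [CommRing S] [Algebra R S]
    [AddCommGroup M] [Module R M] [Module S M] [IsScalarTower R S M] (r : R)
    (h : IsUnit (algebraMap R S r)) : IsUnit (algebraMap R (Module.End R M) r) := by
  rw [Module.End.isUnit_iff]
  obtain ⟨v, hv⟩ := h
  have h1 : ∀ m : M, r • m = (v : S) • m := fun m => by rw [hv, algebraMap_smul]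
  refine ⟨fun x y hxy => ?_, fun y => ⟨(↑(v⁻¹) : S) • y, ?_⟩⟩
  · simp only [Module.algebraMap_end_apply, h1] at hxy
    have := congrArg (fun z => (↑(v⁻¹) : S) • z) hxy
    simpa [smul_smul] using this
  · simp only [Module.algebraMap_end_apply, h1, smul_smul]
    simp

instance pr₁_loc : IsLocalizedModule (Submonoid.powers g) (pr₁ g P P' Θ) := by
  refine isLocalizedModule_gluePr₁ (R := A[X]) (N₁ := B₁ g ⊗[A] P') (N₂ := B₂ A ⊗[A] P)
    (N₁₂ := Cc g ⊗[A] P') (u₁ g P') (u₂ g P P' Θ) (Submonoid.powers g) ?_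
  rintro ⟨_, n, rfl⟩
  refine isUnit_smul_of_isUnit (S := B₁ g) _ ?_
  rw [map_pow]
  exact (IsLocalization.Away.algebraMap_isUnit g).pow n

instance pr₂_loc : IsLocalizedModule (Submonoid.powers (X : A[X]))
    (pr₂ g P P' Θ) := by
  refine isLocalizedModule_gluePr₂ (R := A[X]) (N₁ := B₁ g ⊗[A] P') (N₂ := B₂ A ⊗[A] P)
    (N₁₂ := Cc g ⊗[A] P') (u₁ g P') (u₂ g P P' Θ) (Submonoid.powers (X : A[X])) ?_
  rintro ⟨_, n, rfl⟩
  refine isUnit_smul_of_isUnit (S := B₂ A) _ ?_
  rw [map_pow]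
  exact (IsLocalization.Away.algebraMap_isUnit (X : A[X])).pow n

variable [Module.Finite A P] [Module.Projective A P] [Module.Finite A P'] [Module.Projective A P']

include hg in
lemma GN_finite_projective :
    Module.Finite A[X] (GN g P P' Θ) ∧ Module.Projective A[X] (GN g P P' Θ) := by
  haveI : Module.FinitePresentation A P := Module.finitePresentation_of_projective A P
  haveI : Module.FinitePresentation A P' := Module.finitePresentation_of_projective A P'
  haveI : Module.Flat A[X] (B₁ g) := IsLocalization.flat (B₁ g) (Submonoid.powers g)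
  haveI : Module.Flat A[X] (B₂ A) := IsLocalization.flat (B₂ A) (Submonoid.powers (X : A[X]))
  haveI : Module.Flat A[X] (B₁ g ⊗[A] P') := Module.Flat.trans A[X] (B₁ g) _
  haveI : Module.Flat A[X] (B₂ A ⊗[A] P) := Module.Flat.trans A[X] (B₂ A) _
  exact finite_projective_of_cover (R := A[X]) (M := GN g P P' Θ) (M₁ := B₁ g ⊗[A] P')
    (M₂ := B₂ A ⊗[A] P) g X (span_g_X g hg) (pr₁ g P P' Θ) (pr₂ g P P' Θ)

end glued

end Groth.Agent.Lib.Helper11.Hk
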