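import Mathlib
import Groth.Agent.Lib.Helper11.HkQ3

set_option autoImplicit false
set_option linter.unusedSectionVars false
set_option linter.unusedVariables false
set_option linter.style.haveILetI false

open Polynomial LaurentPolynomial Module TensorProduct

universe u

namespace Groth.Agent.Lib.Helper11.Hk

section horrocks

variable {A : Type u} [CommRing A] (g : A[X]) (hg : g.coeff 0 = 1)
variable (P P' : Type u) [AddCommGroup P] [Module A P] [AddCommGroup P'] [Module A P']
variable (Θ : (Cc g ⊗[A] P) ≃ₗ[Cc g] (Cc g ⊗[A] P'))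

/-- `A[X]_X ≃ A[T;T⁻¹]`. -/
noncomputable def b₂Equiv (A : Type u) [CommRing A] : B₂ A ≃ₐ[A[X]] A[T;T⁻¹] :=
  IsLocalization.algEquiv (Submonoid.powers (X : A[X])) (B₂ A) A[T;T⁻¹]

/-- Restriction to the punctured line, with values in Laurent polynomials. -/
noncomputable def fM : GN g P P' Θ →ₗ[A[X]] (A[T;T⁻¹] ⊗[A] P) :=
  (TensorProduct.AlgebraTensorModule.congr (b₂Equiv A).toLinearEquiv
    (LinearEquiv.refl A P)).toLinearMap ∘ₗ pr₂ g P P' Θ

instance fM_loc : IsLocalizedModule (Submonoid.powers (X : A[X])) (fM g P P' Θ) :=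
  IsLocalizedModule.of_linearEquiv _ _ _

variable [Module.Finite A P] [Module.Projective A P] [Module.Finite A P'] [Module.Projective A P']

/-- The Horrocks data: the glued module near infinity and the extended module `P[X]`. -/
noncomputable def hdata : HData A :=
  haveI := (GN_finite_projective g hg P P' Θ).1
  haveI := (GN_finite_projective g hg P P' Θ).2
  haveI := tmap_isLocalizedModule A A[X] A[T;T⁻¹] P (X : A[X])
  { M := GN g P P' Θ
    N := A[X] ⊗[A] P
    VM := A[T;T⁻¹] ⊗[A] P
    VN := A[T;T⁻¹] ⊗[A] P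
    fM := fM g P P' Θ
    fN := tmap A A[X] A[T;T⁻¹] P
    e := (invTensor P).toAddEquiv
    he := invTensor_smul P }

end horrocks

end Groth.Agent.Lib.Helper11.Hk
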