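import Mathlib
import Groth.Agent.Lib.Helper11.HkQ4

set_option autoImplicit false
set_option linter.unusedSectionVars false
set_option linter.unusedVariables false
set_option linter.style.haveILetI false

open Polynomial LaurentPolynomial Module TensorProduct

universe u

namespace Groth.Agent.Lib.Helper11.Hk

section retract

variable {A : Type u} [CommRing A]

lemma mequiv_of_retract {S : Type u} [CommRing S] [Algebra A[X] S] [Algebra A S]
    [IsScalarTower A A[X] S] (ρ : S →+* A) (hρ : ∀ a, ρ (algebraMap A S a) = a)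
    {N : Type u} [AddCommGroup N] [Module A[X] N] {Q : Type u} [AddCommGroup Q] [Module A Q]
    (f : N →ₗ[A[X]] (S ⊗[A] Q)) (hf : IsBaseChange S f)
    {n m : ℕ} {e0 : Matrix (Fin n) (Fin n) A} {e₁ : Matrix (Fin m) (Fin m) A}
    (hI : IsImage (e0.map (Polynomial.C : A →+* A[X])) N) (hQ : IsImage e₁ Q) : MEquiv e0 e₁ := by
  have h1 : IsImage ((e0.map (Polynomial.C : A →+* A[X])).map (algebraMap A[X] S)) (S ⊗[A[X]] N) :=
    hI.baseChange S
  have h2 : IsImage ((e0.map (Polynomial.C : A →+* A[X])).map (algebraMap A[X] S)) (S ⊗[A] Q) :=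
    h1.of_equiv hf.equiv
  have h3 : IsImage (e₁.map (algebraMap A S)) (S ⊗[A] Q) := hQ.baseChange S
  have h4 := (h2.mequiv h3).map ρ
  have e1 : ((e0.map (Polynomial.C : A →+* A[X])).map (algebraMap A[X] S)).map ρ = e0 := by
    refine Matrix.ext fun i j => ?_
    simp only [Matrix.map_apply]
    rw [Polynomial.C_eq_algebraMap, ← IsScalarTower.algebraMap_apply A A[X] S, hρ]
  have e2 : (e₁.map (algebraMap A S)).map ρ = e₁ := by
    refine Matrix.ext fun i j => ?_
    simp only [Matrix.map_apply, hρ]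
  rwa [e1, e2] at h4

end retract

section main

variable {A : Type u} [CommRing A] (g : A[X]) (hg : g.coeff 0 = 1)
variable (P P' : Type u) [AddCommGroup P] [Module A P] [AddCommGroup P'] [Module A P']
variable (Θ : (Cc g ⊗[A] P) ≃ₗ[Cc g] (Cc g ⊗[A] P'))
variable [Module.Finite A P] [Module.Projective A P] [Module.Finite A P'] [Module.Projective A P']

/-- Evaluation at `1` on `A[X]_X`. -/
noncomputable def ev₁ (A : Type u) [CommRing A] : B₂ A →+* A :=
  IsLocalization.Away.lift (X : A[X]) (g := Polynomial.evalRingHom (1 : A)) (by simp)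

lemma ev₁_algebraMap (a : A) : ev₁ A (algebraMap A (B₂ A) a) = a := by
  rw [IsScalarTower.algebraMap_apply A A[X] (B₂ A), ev₁, IsLocalization.Away.lift_eq]
  simp

include hg in
lemma isUnit_eval_zero : IsUnit (Polynomial.evalRingHom (0 : A) g) := by
  rw [Polynomial.coe_evalRingHom, ← Polynomial.coeff_zero_eq_eval_zero, hg]
  exact isUnit_one

/-- Evaluation at `0` on `A[X]_g`. -/
noncomputable def ev₀ : B₁ g →+* A :=
  IsLocalization.Away.lift g (g := Polynomial.evalRingHom (0 : A)) (isUnit_eval_zero g hg)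

lemma ev₀_algebraMap (a : A) : ev₀ g hg (algebraMap A (B₁ g) a) = a := by
  rw [IsScalarTower.algebraMap_apply A A[X] (B₁ g), ev₀, IsLocalization.Away.lift_eq]
  simp

include hg Θ in
/-- **Key theorem**: finite projective modules which become isomorphic over `A[X]_{gX}`, where
`g(0) = 1`, are isomorphic. -/
theorem nonempty_equiv_of_glue : Nonempty (P ≃ₗ[A] P') := by
  obtain ⟨n₁, e₁, hI₁⟩ := exists_isImage A P
  obtain ⟨n₂, e₂, hI₂⟩ := exists_isImage A P'
  obtain ⟨n, e0, he0, hI⟩ := (hdata g hg P P' Θ).exists_const_idem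
  have hI' : IsImage (e0.map (Polynomial.C : A →+* A[X])) (GN g P P' Θ) := hI
  have hb₂ : IsBaseChange (B₂ A) (pr₂ g P P' Θ) :=
    IsLocalizedModule.isBaseChange (Submonoid.powers (X : A[X])) (B₂ A) (pr₂ g P P' Θ)
  have hb₁ : IsBaseChange (B₁ g) (pr₁ g P P' Θ) :=
    IsLocalizedModule.isBaseChange (Submonoid.powers g) (B₁ g) (pr₁ g P P' Θ)
  have m₁ : MEquiv e0 e₁ := mequiv_of_retract (ev₁ A) ev₁_algebraMap (pr₂ g P P' Θ) hb₂ hI' hI₁
  have m₂ : MEquiv e0 e₂ := mequiv_of_retract (ev₀ g hg) (ev₀_algebraMap g hg) (pr₁ g P P' Θ) hb₁ hI' hI₂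
  have m₁₂ : MEquiv e₁ e₂ := m₁.symm.trans hI₁.idem hI₂.idem m₂
  exact (hI₁.of_mequiv m₁₂ hI₂.idem).equiv hI₂

end main

end Groth.Agent.Lib.Helper11.Hk
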