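import Mathlib
import Groth.Agent.Lib.Helper11.HkQ5

set_option autoImplicit false
set_option linter.unusedSectionVars false
set_option linter.unusedVariables false
set_option linter.style.haveILetI false

open Polynomial Module TensorProduct

universe u v

namespace Groth.Agent.Lib.Helper11.Hk

section descend

/-- An equivalence of idempotent matrices over a localization descends to a localization at one
element (in the universal form: to every ring where this element becomes invertible). -/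
lemma mequiv_descend {R : Type*} [CommRing R] (S : Submonoid R) (At : Type*) [CommRing At]
    [Algebra R At] [IsLocalization S At] {n₁ n₂ : ℕ}
    (e₁ : Matrix (Fin n₁) (Fin n₁) R) (e₂ : Matrix (Fin n₂) (Fin n₂) R)
    (h : MEquiv (e₁.map (algebraMap R At)) (e₂.map (algebraMap R At))) :
    ∃ m ∈ S, ∀ (C' : Type v) [CommRing C'] (ι : R →+* C'), IsUnit (ι m) →
      MEquiv (e₁.map ι) (e₂.map ι) := by
  obtain ⟨α, β, h1, h2⟩ := h
  obtain ⟨bα, hbα⟩ := IsLocalization.exist_integer_multiples_of_finite S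
    (fun p : Fin n₂ × Fin n₁ => α p.1 p.2)
  obtain ⟨bβ, hbβ⟩ := IsLocalization.exist_integer_multiples_of_finite S
    (fun p : Fin n₁ × Fin n₂ => β p.1 p.2)
  choose α' hα' using hbα
  choose β' hβ' using hbβ
  let α₁ : Matrix (Fin n₂) (Fin n₁) R := Matrix.of fun i j => α' (i, j)
  let β₁ : Matrix (Fin n₁) (Fin n₂) R := Matrix.of fun i j => β' (i, j)
  have hα₁ : α₁.map (algebraMap R At) = (bα : R) • α := by
    refine Matrix.ext fun i j => ?_
    simp only [Matrix.map_apply, Matrix.smul_apply, α₁, Matrix.of_apply]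
    exact hα' (i, j)
  have hβ₁ : β₁.map (algebraMap R At) = (bβ : R) • β := by
    refine Matrix.ext fun i j => ?_
    simp only [Matrix.map_apply, Matrix.smul_apply, β₁, Matrix.of_apply]
    exact hβ' (i, j)
  set b : R := (bα : R) * (bβ : R) with hb
  have hbS : b ∈ S := S.mul_mem bα.2 bβ.2
  have k1 : ∀ p : Fin n₂ × Fin n₂, ∃ t ∈ S, t * ((α₁ * β₁) p.1 p.2 - b * e₂ p.1 p.2) = 0 := by
    rintro ⟨i, j⟩
    have : algebraMap R At ((α₁ * β₁) i j - b * e₂ i j) = 0 := by
      have e : algebraMap R At ((α₁ * β₁) i j) = ((α₁ * β₁).map (algebraMap R At)) i j := rfl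
      rw [map_sub, e, Matrix.map_mul, hα₁, hβ₁, Matrix.smul_mul, Matrix.mul_smul, h1, smul_smul,
        sub_eq_zero]
      simp only [Matrix.smul_apply, Matrix.map_apply, Algebra.smul_def, map_mul, hb]
    obtain ⟨t, ht⟩ := (IsLocalization.map_eq_zero_iff S At _).mp this
    exact ⟨t, t.2, ht⟩
  have k2 : ∀ p : Fin n₁ × Fin n₁, ∃ t ∈ S, t * ((β₁ * α₁) p.1 p.2 - b * e₁ p.1 p.2) = 0 := by
    rintro ⟨i, j⟩
    have : algebraMap R At ((β₁ * α₁) i j - b * e₁ i j) = 0 := by
      have e : algebraMap R At ((β₁ * α₁) i j) = ((β₁ * α₁).map (algebraMap R At)) i j := rfl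
      rw [map_sub, e, Matrix.map_mul, hα₁, hβ₁, Matrix.smul_mul, Matrix.mul_smul, h2, smul_smul,
        sub_eq_zero]
      simp only [Matrix.smul_apply, Matrix.map_apply, Algebra.smul_def, map_mul, hb]
      ring
    obtain ⟨t, ht⟩ := (IsLocalization.map_eq_zero_iff S At _).mp this
    exact ⟨t, t.2, ht⟩
  obtain ⟨c₁, hc₁S, hc₁⟩ := exists_common_mul_eq_zero S _ k1
  obtain ⟨c₂, hc₂S, hc₂⟩ := exists_common_mul_eq_zero S _ k2
  refine ⟨b * c₁ * c₂, S.mul_mem (S.mul_mem hbS hc₁S) hc₂S, ?_⟩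
  intro C' _ ι hu
  rw [map_mul, map_mul, IsUnit.mul_iff, IsUnit.mul_iff] at hu
  obtain ⟨⟨hub, huc₁⟩, huc₂⟩ := hu
  obtain ⟨ub, hub'⟩ := hub
  have l1 : ∀ i j, ι ((α₁ * β₁) i j) = ι b * ι (e₂ i j) := by
    intro i j
    have := congrArg ι (hc₁ (i, j))
    rw [map_mul, map_zero, huc₁.mul_right_eq_zero, map_sub, sub_eq_zero, map_mul] at this
    exact this
  have l2 : ∀ i j, ι ((β₁ * α₁) i j) = ι b * ι (e₁ i j) := by
    intro i j
    have := congrArg ι (hc₂ (i, j))
    rw [map_mul, map_zero, huc₂.mul_right_eq_zero, map_sub, sub_eq_zero, map_mul] at this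
    exact this
  refine ⟨α₁.map ι, (↑(ub⁻¹) : C') • β₁.map ι, ?_, ?_⟩
  · rw [Matrix.mul_smul, ← Matrix.map_mul]
    refine Matrix.ext fun i j => ?_
    simp only [Matrix.smul_apply, Matrix.map_apply, smul_eq_mul]
    rw [l1, ← hub', ← mul_assoc, Units.inv_mul, one_mul]
  · rw [Matrix.smul_mul, ← Matrix.map_mul]
    refine Matrix.ext fun i j => ?_
    simp only [Matrix.smul_apply, Matrix.map_apply, smul_eq_mul]
    rw [l2, ← hub', ← mul_assoc, Units.inv_mul, one_mul]

end descend

end Groth.Agent.Lib.Helper11.Hk
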