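import Mathlib
import Groth.Agent.Lib.Helper11.HkR

set_option autoImplicit false
set_option linter.unusedSectionVars false
set_option linter.unusedVariables false
set_option linter.style.haveILetI false

open Polynomial Module TensorProduct

universe u v

namespace Groth.Agent.Lib.Helper11.Hk

section monic

variable {A : Type u} [CommRing A]

/-- Modules whose idempotent matrices become equivalent over `S` become isomorphic over `S`. -/
lemma nonempty_equiv_of_mequiv_map (S : Type u) [CommRing S] [Algebra A S]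
    {P P' : Type u} [AddCommGroup P] [Module A P] [AddCommGroup P'] [Module A P']
    {n₁ n₂ : ℕ} {e₁ : Matrix (Fin n₁) (Fin n₁) A} {e₂ : Matrix (Fin n₂) (Fin n₂) A}
    (hI₁ : IsImage e₁ P) (hI₂ : IsImage e₂ P')
    (h : MEquiv (e₁.map (algebraMap A S)) (e₂.map (algebraMap A S))) :
    Nonempty ((S ⊗[A] P) ≃ₗ[S] (S ⊗[A] P')) :=
  ((hI₁.baseChange S).of_mequiv h (hI₂.baseChange S).idem).equiv (hI₂.baseChange S)

/-- Conversely. -/
lemma mequiv_map_of_nonempty_equiv (S : Type u) [CommRing S] [Algebra A S]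
    {P P' : Type u} [AddCommGroup P] [Module A P] [AddCommGroup P'] [Module A P']
    {n₁ n₂ : ℕ} {e₁ : Matrix (Fin n₁) (Fin n₁) A} {e₂ : Matrix (Fin n₂) (Fin n₂) A}
    (hI₁ : IsImage e₁ P) (hI₂ : IsImage e₂ P')
    (h : Nonempty ((S ⊗[A] P) ≃ₗ[S] (S ⊗[A] P'))) :
    MEquiv (e₁.map (algebraMap A S)) (e₂.map (algebraMap A S)) :=
  ((hI₁.baseChange S).of_equiv h.some).mequiv (hI₂.baseChange S)

variable (m : A[X]) (hm : m.Monic)

include hm in
lemma coeff_zero_reverse_of_monic : m.reverse.coeff 0 = 1 := by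
  rw [Polynomial.coeff_zero_reverse, hm.leadingCoeff]

/-- The inverse of `X` in `A[X]_{gX}`. -/
noncomputable def xUnit (g : A[X]) : (Cc g)ˣ := (isUnit_X_Cc g).unit

/-- `A[X] → A[X]_{gX}`, `X ↦ X⁻¹`. -/
noncomputable def invHom (g : A[X]) : A[X] →+* Cc g :=
  Polynomial.eval₂RingHom (algebraMap A (Cc g)) (↑(xUnit g)⁻¹ : Cc g)

lemma invHom_C (g : A[X]) (a : A) : invHom g (Polynomial.C a) = algebraMap A (Cc g) a := by
  simp [invHom]

lemma isUnit_invHom_reverse : IsUnit (invHom m.reverse m) := by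
  set g := m.reverse with hgdef
  letI : Invertible ((↑(xUnit g)⁻¹ : (Cc g)ˣ) : Cc g) := Units.invertible _
  have h := Polynomial.eval₂_reverse_mul_pow (algebraMap A (Cc g)) ((↑(xUnit g)⁻¹ : (Cc g)ˣ) : Cc g) m
  rw [invOf_units, inv_inv] at h
  have h2 : Polynomial.eval₂ (algebraMap A (Cc g)) (↑(xUnit g) : Cc g) g = algebraMap A[X] (Cc g) g := by
    have : (↑(xUnit g) : Cc g) = algebraMap A[X] (Cc g) X := (isUnit_X_Cc g).unit_spec
    rw [this, ← Polynomial.aeval_def, Polynomial.aeval_algebraMap_apply, Polynomial.aeval_X_left]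
    rfl
  have h3 : invHom g m = algebraMap A[X] (Cc g) g * (↑(xUnit g)⁻¹ : Cc g) ^ m.natDegree := by
    rw [← h2, ← hgdef] at *
    exact h.symm
  rw [h3]
  exact (isUnit_g_Cc g).mul ((Units.isUnit _).pow _)

end monic

section final

/-- **Non-isomorphic finite projective modules stay non-isomorphic over `A(t)`.** -/
theorem nonempty_equiv_of_monicLocalization
    (A : Type u) [CommRing A] (M : Submonoid A[X]) (hM : ∀ f : A[X], f ∈ M ↔ f.Monic)
    (At : Type u) [CommRing At] [Algebra A[X] At] [IsLocalization M At]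
    [Algebra A At] [IsScalarTower A A[X] At]
    (P P' : Type u) [AddCommGroup P] [Module A P] [Module.Finite A P] [Module.Projective A P]
    [AddCommGroup P'] [Module A P'] [Module.Finite A P'] [Module.Projective A P']
    (h : Nonempty ((At ⊗[A] P) ≃ₗ[At] (At ⊗[A] P'))) :
    Nonempty (P ≃ₗ[A] P') := by
  obtain ⟨n₁, e₁, hI₁⟩ := exists_isImage A P
  obtain ⟨n₂, e₂, hI₂⟩ := exists_isImage A P'
  have h1 := mequiv_map_of_nonempty_equiv At hI₁ hI₂ h
  have r1 : ∀ {n : ℕ} (e : Matrix (Fin n) (Fin n) A),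
      e.map (algebraMap A At) = (e.map (Polynomial.C : A →+* A[X])).map (algebraMap A[X] At) := by
    intro n e
    refine Matrix.ext fun i j => ?_
    simp only [Matrix.map_apply]
    rw [Polynomial.C_eq_algebraMap, ← IsScalarTower.algebraMap_apply A A[X] At]
  rw [r1, r1] at h1
  obtain ⟨m, hmM, hm⟩ := mequiv_descend.{_, _, u} M At _ _ h1
  have hmon : m.Monic := (hM m).mp hmM
  have h2 := hm (Cc m.reverse) (invHom m.reverse) (isUnit_invHom_reverse m)
  have r2 : ∀ {n : ℕ} (e : Matrix (Fin n) (Fin n) A),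
      (e.map (Polynomial.C : A →+* A[X])).map (invHom m.reverse) =
        e.map (algebraMap A (Cc m.reverse)) := by
    intro n e
    refine Matrix.ext fun i j => ?_
    simp only [Matrix.map_apply, invHom_C]
  rw [r2, r2] at h2
  obtain ⟨Θ⟩ := nonempty_equiv_of_mequiv_map (Cc m.reverse) hI₁ hI₂ h2
  exact nonempty_equiv_of_glue m.reverse (coeff_zero_reverse_of_monic m hmon) P P' Θ

end final

end Groth.Agent.Lib.Helper11.Hk
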