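import Mathlib
import Groth.Agent.Lib.Helper11.HkS

set_option autoImplicit false
set_option linter.unusedSectionVars false
set_option linter.unusedVariables false
set_option linter.style.haveILetI false

open Module TensorProduct

universe u v

namespace Groth.Agent.Lib.Helper11.Hk

section matrixalg

variable {S : Type*} [CommRing S] {n₁ n₂ : ℕ}
  {e₁ : Matrix (Fin n₁) (Fin n₁) S} {e₂ : Matrix (Fin n₂) (Fin n₂) S}

/-- An equivalence of idempotent matrices can be normalized. -/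
lemma MEquiv.exists_normalized (he₁ : e₁ * e₁ = e₁) (he₂ : e₂ * e₂ = e₂) (h : MEquiv e₁ e₂) :
    ∃ (α : Matrix (Fin n₂) (Fin n₁) S) (β : Matrix (Fin n₁) (Fin n₂) S),
      α * β = e₂ ∧ β * α = e₁ ∧ e₂ * α = α ∧ α * e₁ = α ∧ e₁ * β = β ∧ β * e₂ = β := by
  obtain ⟨α, β, h1, h2⟩ := h
  have hα : α * e₁ = e₂ * α := by rw [← h2, ← h1, Matrix.mul_assoc]
  have hβ : β * e₂ = e₁ * β := by rw [← h2, ← h1, Matrix.mul_assoc]
  refine ⟨α * e₁, β * e₂, ?_, ?_, ?_, ?_, ?_, ?_⟩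
  · calc α * e₁ * (β * e₂) = α * (e₁ * β) * e₂ := by simp only [Matrix.mul_assoc]
      _ = α * (β * e₂) * e₂ := by rw [hβ]
      _ = (α * β) * (e₂ * e₂) := by simp only [Matrix.mul_assoc]
      _ = e₂ := by rw [h1, he₂, he₂]
  · calc β * e₂ * (α * e₁) = β * (e₂ * α) * e₁ := by simp only [Matrix.mul_assoc]
      _ = β * (α * e₁) * e₁ := by rw [hα]
      _ = (β * α) * (e₁ * e₁) := by simp only [Matrix.mul_assoc]
      _ = e₁ := by rw [h2, he₁, he₁]
  · rw [hα, ← Matrix.mul_assoc, he₂]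
  · rw [Matrix.mul_assoc, he₁]
  · rw [hβ, ← Matrix.mul_assoc, he₁]
  · rw [Matrix.mul_assoc, he₂]

/-- An approximate equivalence whose defects are invertible gives an equivalence. -/
lemma mequiv_of_approx (he₁ : e₁ * e₁ = e₁) (he₂ : e₂ * e₂ = e₂)
    (α : Matrix (Fin n₂) (Fin n₁) S) (β : Matrix (Fin n₁) (Fin n₂) S)
    (h1 : e₂ * α = α) (h2 : α * e₁ = α) (h3 : e₁ * β = β) (h4 : β * e₂ = β)
    (hW : IsUnit (1 - e₂ + α * β).det) (hV : IsUnit (1 - e₁ + β * α).det) : MEquiv e₁ e₂ := by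
  set W := 1 - e₂ + α * β with hWdef
  set V := 1 - e₁ + β * α with hVdef
  have hW1 : e₂ * W = α * β := by
    rw [hWdef, Matrix.mul_add, Matrix.mul_sub, Matrix.mul_one, he₂, sub_self, zero_add,
      ← Matrix.mul_assoc, h1]
  have hW2 : W * e₂ = α * β := by
    rw [hWdef, Matrix.add_mul, Matrix.sub_mul, Matrix.one_mul, he₂, sub_self, zero_add,
      Matrix.mul_assoc, h4]
  have hV1 : e₁ * V = β * α := by
    rw [hVdef, Matrix.mul_add, Matrix.mul_sub, Matrix.mul_one, he₁, sub_self, zero_add,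
      ← Matrix.mul_assoc, h3]
  have hWu : IsUnit W := (Matrix.isUnit_iff_isUnit_det W).mpr hW
  have hVu : IsUnit V := (Matrix.isUnit_iff_isUnit_det V).mpr hV
  obtain ⟨uW, huW⟩ := hWu
  obtain ⟨uV, huV⟩ := hVu
  set W' : Matrix (Fin n₂) (Fin n₂) S := ↑(uW⁻¹) with hW'def
  set V' : Matrix (Fin n₁) (Fin n₁) S := ↑(uV⁻¹) with hV'def
  have hWW' : W * W' = 1 := by rw [← huW]; exact uW.mul_inv
  have hW'W : W' * W = 1 := by rw [← huW]; exact uW.inv_mul
  have hVV' : V * V' = 1 := by rw [← huV]; exact uV.mul_inv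
  have p1 : α * (β * W') = e₂ := by
    rw [← Matrix.mul_assoc, ← hW1, Matrix.mul_assoc, hWW', Matrix.mul_one]
  have p2 : (β * W' * α) * β = β := by
    rw [Matrix.mul_assoc, ← hW2, ← Matrix.mul_assoc, Matrix.mul_assoc β, hW'W, Matrix.mul_one, h4]
  have p3 : (e₁ - β * W' * α) * e₁ = 0 := by
    have : (e₁ - β * W' * α) * e₁ * V = 0 := by
      rw [Matrix.mul_assoc, hV1, ← Matrix.mul_assoc, Matrix.sub_mul, h3, p2, sub_self,
        Matrix.zero_mul]
    have h' := congrArg (· * V') this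
    simp only [Matrix.mul_assoc, hVV', Matrix.mul_one, Matrix.zero_mul] at h'
    simpa [Matrix.mul_assoc] using h'
  have p4 : β * W' * α = e₁ := by
    rw [Matrix.sub_mul, he₁, Matrix.mul_assoc, h2, sub_eq_zero] at p3
    exact p3.symm
  exact ⟨α, β * W', p1, p4⟩

end matrixalg

end Groth.Agent.Lib.Helper11.Hk
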