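import Mathlib
import Groth.Agent.Lib.Helper11.HkT1

set_option autoImplicit false
set_option linter.unusedSectionVars false
set_option linter.unusedVariables false
set_option linter.style.haveILetI false

open Module TensorProduct Polynomial

universe u v

namespace Groth.Agent.Lib.Helper11.Hk

section polydata

variable {R : Type u} [CommRing R] {n₁ n₂ : ℕ}

/-- The polynomial whose invertibility makes the approximate equivalence exact. -/
noncomputable def defectPoly (γ : Matrix (Fin n₂) (Fin n₂) R[X])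
    (δ : Matrix (Fin n₁) (Fin n₁) R[X]) : R[X] :=
  (1 + (X : R[X]) • γ).det * (1 + (X : R[X]) • δ).det

lemma coeff_zero_det_one_add_X_smul {n : ℕ} (γ : Matrix (Fin n) (Fin n) R[X]) :
    ((1 + (X : R[X]) • γ).det).coeff 0 = 1 := by
  rw [Polynomial.coeff_zero_eq_eval_zero, ← Polynomial.coe_evalRingHom, RingHom.map_det]
  have : (Polynomial.evalRingHom (0 : R)).mapMatrix (1 + (X : R[X]) • γ) = 1 := by
    rw [map_add, map_one, add_eq_left]
    refine Matrix.ext fun i j => ?_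
    simp
  rw [this, Matrix.det_one]

lemma defectPoly_coeff_zero (γ : Matrix (Fin n₂) (Fin n₂) R[X])
    (δ : Matrix (Fin n₁) (Fin n₁) R[X]) : (defectPoly γ δ).coeff 0 = 1 := by
  rw [defectPoly, Polynomial.mul_coeff_zero, coeff_zero_det_one_add_X_smul,
    coeff_zero_det_one_add_X_smul, one_mul]

lemma map_map_C {S : Type*} [CommRing S] [Algebra R[X] S] [Algebra R S] [IsScalarTower R R[X] S]
    {n : ℕ} (e : Matrix (Fin n) (Fin n) R) :
    (e.map (Polynomial.C : R →+* R[X])).map (algebraMap R[X] S) = e.map (algebraMap R S) := by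
  refine Matrix.ext fun i j => ?_
  simp only [Matrix.map_apply]
  rw [Polynomial.C_eq_algebraMap, ← IsScalarTower.algebraMap_apply R R[X] S]

variable (e₁ : Matrix (Fin n₁) (Fin n₁) R[X]) (e₂ : Matrix (Fin n₂) (Fin n₂) R[X])
  (he₁ : e₁ * e₁ = e₁) (he₂ : e₂ * e₂ = e₂)

include he₁ he₂ in
theorem mequiv_of_polydata {C' : Type*} [CommRing C'] (j : R[X] →+* C')
    (α₁ : Matrix (Fin n₂) (Fin n₁) R[X]) (β₁ : Matrix (Fin n₁) (Fin n₂) R[X])
    (c : ℕ) (γ : Matrix (Fin n₂) (Fin n₂) R[X]) (δ : Matrix (Fin n₁) (Fin n₁) R[X])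
    (hX : IsUnit (j X)) (hgu : IsUnit (j (defectPoly γ δ)))
    (h1 : e₂ * α₁ = α₁) (h2 : α₁ * e₁ = α₁) (h3 : e₁ * β₁ = β₁) (h4 : β₁ * e₂ = β₁)
    (h5 : α₁ * β₁ = (X : R[X]) ^ c • (e₂ + (X : R[X]) • γ))
    (h6 : β₁ * α₁ = (X : R[X]) ^ c • (e₁ + (X : R[X]) • δ)) :
    MEquiv (e₁.map j) (e₂.map j) := by
  obtain ⟨x, hx⟩ := hX
  have hE₁ : e₁.map j * e₁.map j = e₁.map j := by rw [← Matrix.map_mul, he₁]
  have hE₂ : e₂.map j * e₂.map j = e₂.map j := by rw [← Matrix.map_mul, he₂]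
  have hg2 : j (defectPoly γ δ) = j (1 + (X : R[X]) • γ).det * j (1 + (X : R[X]) • δ).det := by
    rw [← map_mul]; rfl
  have hu1 : IsUnit (j (1 + (X : R[X]) • γ).det) := by
    rw [hg2] at hgu; exact isUnit_of_mul_isUnit_left hgu
  have hu2 : IsUnit (j (1 + (X : R[X]) • δ).det) := by
    rw [hg2] at hgu; exact isUnit_of_mul_isUnit_right hgu
  have hxc : (↑(x⁻¹) : C') ^ c * j ((X : R[X]) ^ c) = 1 := by
    rw [map_pow, ← hx, ← mul_pow, Units.inv_mul, one_pow]
  refine mequiv_of_approx hE₁ hE₂ (α₁.map j) ((↑(x⁻¹) : C') ^ c • β₁.map j) ?_ ?_ ?_ ?_ ?_ ?_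
  · rw [← Matrix.map_mul, h1]
  · rw [← Matrix.map_mul, h2]
  · rw [Matrix.mul_smul, ← Matrix.map_mul, h3]
  · rw [Matrix.smul_mul, ← Matrix.map_mul, h4]
  · have : 1 - e₂.map j + α₁.map j * ((↑(x⁻¹) : C') ^ c • β₁.map j) =
        j.mapMatrix (1 + (X : R[X]) • γ) := by
      rw [Matrix.mul_smul, ← Matrix.map_mul, h5]
      refine Matrix.ext fun i k => ?_
      simp only [Matrix.add_apply, Matrix.sub_apply, Matrix.smul_apply, Matrix.map_apply,
        RingHom.mapMatrix_apply, smul_eq_mul, map_add, map_mul]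
      rw [← mul_assoc, hxc, one_mul]
      rw [Matrix.one_apply, Matrix.one_apply]
      split_ifs <;> simp <;> ring
    rw [this, ← RingHom.map_det]
    exact hu1
  · have : 1 - e₁.map j + ((↑(x⁻¹) : C') ^ c • β₁.map j) * α₁.map j =
        j.mapMatrix (1 + (X : R[X]) • δ) := by
      rw [Matrix.smul_mul, ← Matrix.map_mul, h6]
      refine Matrix.ext fun i k => ?_
      simp only [Matrix.add_apply, Matrix.sub_apply, Matrix.smul_apply, Matrix.map_apply,
        RingHom.mapMatrix_apply, smul_eq_mul, map_add, map_mul]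
      rw [← mul_assoc, hxc, one_mul]
      rw [Matrix.one_apply, Matrix.one_apply]
      split_ifs <;> simp <;> ring
    rw [this, ← RingHom.map_det]
    exact hu2

end polydata

end Groth.Agent.Lib.Helper11.Hk
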