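import Mathlib
import Groth.Agent.Lib.Helper11.HkT2

set_option autoImplicit false
set_option linter.unusedSectionVars false
set_option linter.unusedVariables false
set_option linter.style.haveILetI false

open Module TensorProduct

universe u v

namespace Groth.Agent.Lib.Helper11.Hk

section locdescent

variable {B : Type*} [CommRing B] (x : B) (K' : Type*) [CommRing K'] [Algebra B K']
  [IsLocalization.Away x K'] (hinj : Function.Injective (algebraMap B K'))
  {n₁ n₂ : ℕ} (E₁ : Matrix (Fin n₁) (Fin n₁) B) (E₂ : Matrix (Fin n₂) (Fin n₂) B)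

lemma matrix_map_smul' {l m : Type*} {B K' : Type*} [CommRing B] [CommRing K'] (ι : B →+* K')
    (b : B) (M : Matrix l m B) : (b • M).map ι = ι b • M.map ι := by
  refine Matrix.ext fun i j => ?_
  simp only [Matrix.map_apply, Matrix.smul_apply, smul_eq_mul, map_mul]

lemma exists_integer_matrix {l m : Type*} [Finite l] [Finite m] (α : Matrix l m K') :
    ∃ (a : ℕ) (α₀ : Matrix l m B), α₀.map (algebraMap B K') = algebraMap B K' (x ^ a) • α := by
  obtain ⟨⟨_, a, rfl⟩, hb⟩ := IsLocalization.exist_integer_multiples_of_finite (Submonoid.powers x)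
    (fun p : l × m => α p.1 p.2)
  choose α' hα' using hb
  refine ⟨a, Matrix.of fun i j => α' (i, j), ?_⟩
  refine Matrix.ext fun i j => ?_
  simp only [Matrix.map_apply, Matrix.smul_apply, Matrix.of_apply]
  rw [hα' (i, j), Algebra.smul_def, smul_eq_mul]

include hinj in
/-- A normalized equivalence over the localization `B[1/x]` comes from an "equivalence up to a
power of `x`" over `B`. -/
theorem exists_integral_equiv
    (α : Matrix (Fin n₂) (Fin n₁) K') (β : Matrix (Fin n₁) (Fin n₂) K')
    (h5 : α * β = E₂.map (algebraMap B K')) (h6 : β * α = E₁.map (algebraMap B K'))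
    (h1 : E₂.map (algebraMap B K') * α = α) (h2 : α * E₁.map (algebraMap B K') = α)
    (h3 : E₁.map (algebraMap B K') * β = β) (h4 : β * E₂.map (algebraMap B K') = β) :
    ∃ (c : ℕ) (α₀ : Matrix (Fin n₂) (Fin n₁) B) (β₀ : Matrix (Fin n₁) (Fin n₂) B),
      α₀ * β₀ = x ^ c • E₂ ∧ β₀ * α₀ = x ^ c • E₁ ∧ E₂ * α₀ = α₀ ∧ α₀ * E₁ = α₀ ∧
        E₁ * β₀ = β₀ ∧ β₀ * E₂ = β₀ := by
  obtain ⟨a, α₀, hα₀⟩ := exists_integer_matrix x K' α
  obtain ⟨b, β₀, hβ₀⟩ := exists_integer_matrix x K' β
  have hinj' : ∀ {l m : Type} , Function.Injective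
      (fun M : Matrix l m B => M.map (algebraMap B K')) := fun {l m} => Matrix.map_injective hinj
  refine ⟨a + b, α₀, β₀, ?_, ?_, ?_, ?_, ?_, ?_⟩
  · apply hinj'
    show (α₀ * β₀).map (algebraMap B K') = (x ^ (a + b) • E₂).map (algebraMap B K')
    rw [Matrix.map_mul, hα₀, hβ₀, matrix_map_smul', Matrix.smul_mul, Matrix.mul_smul, h5, smul_smul,
      pow_add, map_mul]
  · apply hinj'
    show (β₀ * α₀).map (algebraMap B K') = (x ^ (a + b) • E₁).map (algebraMap B K')
    rw [Matrix.map_mul, hα₀, hβ₀, matrix_map_smul', Matrix.smul_mul, Matrix.mul_smul, h6, smul_smul,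
      pow_add, map_mul, mul_comm]
  · apply hinj'
    show (E₂ * α₀).map (algebraMap B K') = α₀.map (algebraMap B K')
    rw [Matrix.map_mul, hα₀, Matrix.mul_smul, h1]
  · apply hinj'
    show (α₀ * E₁).map (algebraMap B K') = α₀.map (algebraMap B K')
    rw [Matrix.map_mul, hα₀, Matrix.smul_mul, h2]
  · apply hinj'
    show (E₁ * β₀).map (algebraMap B K') = β₀.map (algebraMap B K')
    rw [Matrix.map_mul, hβ₀, Matrix.mul_smul, h3]
  · apply hinj'
    show (β₀ * E₂).map (algebraMap B K') = β₀.map (algebraMap B K')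
    rw [Matrix.map_mul, hβ₀, Matrix.smul_mul, h4]

end locdescent

end Groth.Agent.Lib.Helper11.Hk
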