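import Mathlib
import Groth.Agent.Lib.Helper11.HkT3

set_option autoImplicit false
set_option linter.unusedSectionVars false
set_option linter.unusedVariables false
set_option linter.style.haveILetI false

open Module TensorProduct

universe u v

namespace Groth.Agent.Lib.Helper11.Hk

section truncation

variable {R : Type*} [CommRing R]

/-- Entrywise truncation of a matrix of power series. -/
noncomputable def mtrunc {l m : Type*} (N : ℕ) (M : Matrix l m (PowerSeries R)) :
    Matrix l m (Polynomial R) := M.map (PowerSeries.trunc N)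

lemma mtrunc_C_mul {l m n : Type*} [Fintype m] (N : ℕ) (E : Matrix l m R)
    (M : Matrix m n (PowerSeries R)) :
    mtrunc N (E.map (PowerSeries.C : R →+* PowerSeries R) * M) =
      E.map (Polynomial.C : R →+* Polynomial R) * mtrunc N M := by
  refine Matrix.ext fun i j => ?_
  simp only [mtrunc, Matrix.map_apply, Matrix.mul_apply, map_sum, PowerSeries.trunc_C_mul]

lemma mtrunc_mul_C {l m n : Type*} [Fintype m] (N : ℕ) (M : Matrix l m (PowerSeries R))
    (E : Matrix m n R) :
    mtrunc N (M * E.map (PowerSeries.C : R →+* PowerSeries R)) =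
      mtrunc N M * E.map (Polynomial.C : R →+* Polynomial R) := by
  refine Matrix.ext fun i j => ?_
  simp only [mtrunc, Matrix.map_apply, Matrix.mul_apply, map_sum, PowerSeries.trunc_mul_C]

lemma coeff_mtrunc_mul {l m n : Type*} [Fintype m] (N : ℕ) (M : Matrix l m (PowerSeries R))
    (M' : Matrix m n (PowerSeries R)) (i : l) (j : n) (d : ℕ) (hd : d < N) :
    ((mtrunc N M * mtrunc N M') i j).coeff d = PowerSeries.coeff d ((M * M') i j) := by
  simp only [mtrunc, Matrix.map_apply, Matrix.mul_apply, map_sum, Polynomial.finsetSum_coeff]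
  refine Finset.sum_congr rfl fun k _ => ?_
  rw [PowerSeries.coeff_mul_eq_coeff_trunc_mul_trunc _ _ hd, ← Polynomial.coe_mul,
    Polynomial.coeff_coe]

/-- A polynomial matrix agreeing with `X^c E` up to order `c` is `X^c (E + X γ)`. -/
lemma exists_gamma {n : ℕ} (c : ℕ) (E : Matrix (Fin n) (Fin n) R)
    (D : Matrix (Fin n) (Fin n) (Polynomial R))
    (h : ∀ i j d, d < c + 1 → (D i j).coeff d = if d = c then E i j else 0) :
    ∃ γ : Matrix (Fin n) (Fin n) (Polynomial R),
      D = (Polynomial.X : Polynomial R) ^ c •
        (E.map (Polynomial.C : R →+* Polynomial R) + (Polynomial.X : Polynomial R) • γ) := by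
  have hdvd : ∀ i j, (Polynomial.X : Polynomial R) ^ (c + 1) ∣
      D i j - Polynomial.X ^ c * Polynomial.C (E i j) := by
    intro i j
    rw [Polynomial.X_pow_dvd_iff]
    intro d hd
    rw [Polynomial.coeff_sub, h i j d hd, Polynomial.coeff_X_pow_mul']
    split_ifs with h1 h2 h2
    · subst h1; simp
    · omega
    · omega
    · simp
  choose γ hγ using hdvd
  refine ⟨Matrix.of fun i j => γ i j, ?_⟩
  refine Matrix.ext fun i j => ?_
  simp only [Matrix.smul_apply, Matrix.add_apply, Matrix.map_apply, Matrix.of_apply, smul_eq_mul]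
  have := hγ i j
  rw [sub_eq_iff_eq_add] at this
  rw [this]
  ring

end truncation

end Groth.Agent.Lib.Helper11.Hk
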