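import Mathlib
import Groth.Agent.Lib.Helper11.HkT4

set_option autoImplicit false
set_option linter.unusedSectionVars false
set_option linter.unusedVariables false
set_option linter.style.haveILetI false

open Module TensorProduct

universe u v

namespace Groth.Agent.Lib.Helper11.Hk

section laurent

variable {R : Type u} [CommRing R] {n₁ n₂ : ℕ}
  (e₁ : Matrix (Fin n₁) (Fin n₁) R) (e₂ : Matrix (Fin n₂) (Fin n₂) R)
  (he₁ : e₁ * e₁ = e₁) (he₂ : e₂ * e₂ = e₂)

lemma map_C_map_laurent {n : ℕ} (e : Matrix (Fin n) (Fin n) R) :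
    (e.map (PowerSeries.C : R →+* PowerSeries R)).map
      (algebraMap (PowerSeries R) (LaurentSeries R)) = e.map (algebraMap R (LaurentSeries R)) := by
  refine Matrix.ext fun i j => ?_
  rfl

include he₁ he₂ in
/-- An equivalence over Laurent series gives polynomial approximation data. -/
theorem exists_polydata_of_laurent
    (h : MEquiv (e₁.map (algebraMap R (LaurentSeries R))) (e₂.map (algebraMap R (LaurentSeries R)))) :
    ∃ (α₁ : Matrix (Fin n₂) (Fin n₁) (Polynomial R)) (β₁ : Matrix (Fin n₁) (Fin n₂) (Polynomial R))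
      (c : ℕ) (γ : Matrix (Fin n₂) (Fin n₂) (Polynomial R))
      (δ : Matrix (Fin n₁) (Fin n₁) (Polynomial R)),
      e₂.map (Polynomial.C : R →+* Polynomial R) * α₁ = α₁ ∧
      α₁ * e₁.map (Polynomial.C : R →+* Polynomial R) = α₁ ∧
      e₁.map (Polynomial.C : R →+* Polynomial R) * β₁ = β₁ ∧
      β₁ * e₂.map (Polynomial.C : R →+* Polynomial R) = β₁ ∧
      α₁ * β₁ = (Polynomial.X : Polynomial R) ^ c •
        (e₂.map (Polynomial.C : R →+* Polynomial R) + (Polynomial.X : Polynomial R) • γ) ∧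
      β₁ * α₁ = (Polynomial.X : Polynomial R) ^ c •
        (e₁.map (Polynomial.C : R →+* Polynomial R) + (Polynomial.X : Polynomial R) • δ) := by
  have hK₁ : e₁.map (algebraMap R (LaurentSeries R)) * e₁.map (algebraMap R (LaurentSeries R)) =
      e₁.map (algebraMap R (LaurentSeries R)) := by rw [← Matrix.map_mul, he₁]
  have hK₂ : e₂.map (algebraMap R (LaurentSeries R)) * e₂.map (algebraMap R (LaurentSeries R)) =
      e₂.map (algebraMap R (LaurentSeries R)) := by rw [← Matrix.map_mul, he₂]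
  obtain ⟨α, β, k5, k6, k1, k2, k3, k4⟩ := h.exists_normalized hK₁ hK₂
  rw [← map_C_map_laurent] at k1 k2 k3 k4 k5 k6
  have hinj : Function.Injective (algebraMap (PowerSeries R) (LaurentSeries R)) := by
    rw [LaurentSeries.coe_algebraMap]
    exact HahnSeries.ofPowerSeries_injective
  obtain ⟨c, α₀, β₀, l5, l6, l1, l2, l3, l4⟩ := exists_integral_equiv (PowerSeries.X : PowerSeries R)
    (LaurentSeries R) hinj _ _ α β k5 k6 k1 k2 k3 k4
  have hcoef : ∀ {n : ℕ} (E : Matrix (Fin n) (Fin n) R) (i j : Fin n) (d : ℕ), d < c + 1 →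
      PowerSeries.coeff d (((PowerSeries.X : PowerSeries R) ^ c •
        E.map (PowerSeries.C : R →+* PowerSeries R)) i j) = if d = c then E i j else 0 := by
    intro n E i j d hd
    simp only [Matrix.smul_apply, Matrix.map_apply, smul_eq_mul]
    rw [PowerSeries.coeff_X_pow_mul']
    split_ifs with h1 h2 h2
    · subst h2; simp
    · omega
    · omega
    · rfl
  obtain ⟨γ, hγ⟩ := exists_gamma c e₂ (mtrunc (c + 1) α₀ * mtrunc (c + 1) β₀) (fun i j d hd => by
    rw [coeff_mtrunc_mul _ _ _ _ _ _ hd, l5, hcoef e₂ i j d hd])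
  obtain ⟨δ, hδ⟩ := exists_gamma c e₁ (mtrunc (c + 1) β₀ * mtrunc (c + 1) α₀) (fun i j d hd => by
    rw [coeff_mtrunc_mul _ _ _ _ _ _ hd, l6, hcoef e₁ i j d hd])
  refine ⟨mtrunc (c + 1) α₀, mtrunc (c + 1) β₀, c, γ, δ, ?_, ?_, ?_, ?_, hγ, hδ⟩
  · rw [← mtrunc_C_mul, l1]
  · rw [← mtrunc_mul_C, l2]
  · rw [← mtrunc_C_mul, l3]
  · rw [← mtrunc_mul_C, l4]

end laurent

section final

open Polynomial in
/-- **Non-isomorphic finite projective modules stay non-isomorphic over `R((t))`.** -/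
theorem nonempty_equiv_of_laurentSeries (R : Type u) [CommRing R]
    (L : Type u) [CommRing L] [Algebra R L] (eL : L ≃ₐ[R] LaurentSeries R)
    (M N : Type u) [AddCommGroup M] [Module R M] [Module.Finite R M] [Module.Projective R M]
    [AddCommGroup N] [Module R N] [Module.Finite R N] [Module.Projective R N]
    (e : L ⊗[R] M ≃ₗ[L] L ⊗[R] N) :
    Nonempty (M ≃ₗ[R] N) := by
  obtain ⟨n₁, e₁, hI₁⟩ := exists_isImage R M
  obtain ⟨n₂, e₂, hI₂⟩ := exists_isImage R N
  have h1 := (mequiv_map_of_nonempty_equiv L hI₁ hI₂ ⟨e⟩).map (eL : L →+* LaurentSeries R)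
  have r1 : ∀ {n : ℕ} (E : Matrix (Fin n) (Fin n) R),
      (E.map (algebraMap R L)).map (eL : L →+* LaurentSeries R) =
        E.map (algebraMap R (LaurentSeries R)) := by
    intro n E
    refine Matrix.ext fun i j => ?_
    simp only [Matrix.map_apply]
    exact eL.commutes _
  rw [r1, r1] at h1
  obtain ⟨α₁, β₁, c, γ, δ, p1, p2, p3, p4, p5, p6⟩ :=
    exists_polydata_of_laurent e₁ e₂ hI₁.idem hI₂.idem h1
  have hC₁ : e₁.map (Polynomial.C : R →+* R[X]) * e₁.map (Polynomial.C : R →+* R[X]) =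
      e₁.map (Polynomial.C : R →+* R[X]) := by rw [← Matrix.map_mul, hI₁.idem]
  have hC₂ : e₂.map (Polynomial.C : R →+* R[X]) * e₂.map (Polynomial.C : R →+* R[X]) =
      e₂.map (Polynomial.C : R →+* R[X]) := by rw [← Matrix.map_mul, hI₂.idem]
  have h2 := mequiv_of_polydata _ _ hC₁ hC₂ (algebraMap R[X] (Cc (defectPoly γ δ))) α₁ β₁ c γ δ
    (isUnit_X_Cc _) (isUnit_g_Cc _) p1 p2 p3 p4 p5 p6
  rw [map_map_C, map_map_C] at h2
  obtain ⟨Θ⟩ := nonempty_equiv_of_mequiv_map (Cc (defectPoly γ δ)) hI₁ hI₂ h2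
  exact nonempty_equiv_of_glue (defectPoly γ δ) (defectPoly_coeff_zero γ δ) M N Θ

end final

end Groth.Agent.Lib.Helper11.Hk
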