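import Mathlib
import Groth.Agent.Lib.Helper11.HkT5

set_option autoImplicit false
set_option linter.unusedSectionVars false
set_option linter.unusedVariables false
set_option linter.style.haveILetI false

open Module TensorProduct

universe u v

namespace Groth.Agent.Lib.Helper11.Hk

section smallness

variable {O K : Type*} [CommRing O] [CommRing K] [Algebra O K] (t : O)

/-- `M` is `t^j` times an integral matrix. -/
def Small {l m : Type*} (j : ℕ) (M : Matrix l m K) : Prop :=
  ∃ M' : Matrix l m O, M = (algebraMap O K t) ^ j • M'.map (algebraMap O K)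

/-- `t^a M` is integral. -/
def Bdd {l m : Type*} (a : ℕ) (M : Matrix l m K) : Prop :=
  ∃ M' : Matrix l m O, (algebraMap O K t) ^ a • M = M'.map (algebraMap O K)

variable {t}
variable {l m n : Type*}

lemma map_smul_pow (j : ℕ) (M' : Matrix l m O) :
    (t ^ j • M').map (algebraMap O K) = (algebraMap O K t) ^ j • M'.map (algebraMap O K) := by
  refine Matrix.ext fun i k => ?_
  simp only [Matrix.map_apply, Matrix.smul_apply, smul_eq_mul, map_mul, map_pow]

lemma map_add' (M₁ M₂ : Matrix l m O) :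
    (M₁ + M₂).map (algebraMap O K) = M₁.map (algebraMap O K) + M₂.map (algebraMap O K) := by
  refine Matrix.ext fun i k => ?_
  simp only [Matrix.map_apply, Matrix.add_apply, map_add]

lemma map_neg' (M₁ : Matrix l m O) :
    (-M₁).map (algebraMap O K) = -M₁.map (algebraMap O K) := by
  refine Matrix.ext fun i k => ?_
  simp only [Matrix.map_apply, Matrix.neg_apply, map_neg]

lemma Small.add {j : ℕ} {M M' : Matrix l m K} (h : Small t j M) (h' : Small t j M') :
    Small t j (M + M') := by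
  obtain ⟨M₁, rfl⟩ := h
  obtain ⟨M₂, rfl⟩ := h'
  exact ⟨M₁ + M₂, by rw [map_add', smul_add]⟩

lemma Small.neg {j : ℕ} {M : Matrix l m K} (h : Small t j M) : Small t j (-M) := by
  obtain ⟨M₁, rfl⟩ := h
  exact ⟨-M₁, by rw [map_neg', smul_neg]⟩

lemma Small.sub {j : ℕ} {M M' : Matrix l m K} (h : Small t j M) (h' : Small t j M') :
    Small t j (M - M') := by
  rw [sub_eq_add_neg]; exact h.add h'.neg

lemma Small.mono {i j : ℕ} (hij : i ≤ j) {M : Matrix l m K} (h : Small t j M) : Small t i M := by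
  obtain ⟨M₁, rfl⟩ := h
  refine ⟨t ^ (j - i) • M₁, ?_⟩
  rw [map_smul_pow, smul_smul, ← pow_add, Nat.add_sub_cancel' hij]

lemma Small.mul [Fintype m] {i j : ℕ} {M : Matrix l m K} {M' : Matrix m n K} (h : Small t i M)
    (h' : Small t j M') : Small t (i + j) (M * M') := by
  obtain ⟨M₁, rfl⟩ := h
  obtain ⟨M₂, rfl⟩ := h'
  refine ⟨M₁ * M₂, ?_⟩
  rw [Matrix.map_mul, Matrix.smul_mul, Matrix.mul_smul, smul_smul, ← pow_add]

lemma Small.mul_bdd [Fintype m] {a j : ℕ} {M : Matrix l m K} {M' : Matrix m n K}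
    (h : Small t (a + j) M) (h' : Bdd t a M') : Small t j (M * M') := by
  obtain ⟨M₁, rfl⟩ := h
  obtain ⟨M₂, h₂⟩ := h'
  refine ⟨M₁ * M₂, ?_⟩
  rw [Matrix.map_mul, ← h₂, Matrix.smul_mul, Matrix.mul_smul, smul_smul, ← pow_add, add_comm j a]

lemma Bdd.mul_small [Fintype m] {a j : ℕ} {M : Matrix l m K} {M' : Matrix m n K}
    (h : Bdd t a M) (h' : Small t (a + j) M') : Small t j (M * M') := by
  obtain ⟨M₁, h₁⟩ := h
  obtain ⟨M₂, rfl⟩ := h'
  refine ⟨M₁ * M₂, ?_⟩
  rw [Matrix.map_mul, ← h₁, Matrix.smul_mul, Matrix.mul_smul, smul_smul, ← pow_add, add_comm j a]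

lemma Bdd.mono {a b : ℕ} (hab : a ≤ b) {M : Matrix l m K} (h : Bdd t a M) : Bdd t b M := by
  obtain ⟨M₁, h₁⟩ := h
  refine ⟨t ^ (b - a) • M₁, ?_⟩
  rw [map_smul_pow, ← h₁, smul_smul, ← pow_add, Nat.sub_add_cancel hab]

lemma exists_bdd [IsLocalization.Away t K] [Finite l] [Finite m] (M : Matrix l m K) :
    ∃ a, Bdd t a M := by
  obtain ⟨a, M₀, h⟩ := exists_integer_matrix t K M
  exact ⟨a, M₀, by rw [h, map_pow]⟩

/-- The determinant of a matrix congruent to `1` modulo `t`. -/
lemma Small.det_eq {n : ℕ} {M : Matrix (Fin n) (Fin n) K} (h : Small t 1 (M - 1)) :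
    ∃ z : O, M.det = algebraMap O K (1 + t * z) := by
  obtain ⟨M₁, h₁⟩ := h
  have hM : M = (1 + t • M₁).map (algebraMap O K) := by
    rw [sub_eq_iff_eq_add, pow_one] at h₁
    rw [h₁]
    refine Matrix.ext fun i k => ?_
    simp only [Matrix.map_apply, Matrix.smul_apply, Matrix.add_apply, smul_eq_mul, map_add, map_mul,
      Matrix.one_apply]
    split_ifs <;> simp [add_comm]
  have hd : ∃ z : O, (1 + t • M₁).det = 1 + t * z := by
    have : Ideal.Quotient.mk (Ideal.span {t}) ((1 + t • M₁).det - 1) = 0 := by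
      rw [map_sub, RingHom.map_det, map_one, sub_eq_zero]
      have : (Ideal.Quotient.mk (Ideal.span {t})).mapMatrix (1 + t • M₁) = 1 := by
        rw [map_add, map_one, add_eq_left]
        refine Matrix.ext fun i k => ?_
        simp only [RingHom.mapMatrix_apply, Matrix.map_apply, Matrix.smul_apply, smul_eq_mul,
          map_mul, Matrix.zero_apply]
        rw [Ideal.Quotient.eq_zero_iff_mem.mpr (Ideal.mem_span_singleton_self t), zero_mul]
      rw [this, Matrix.det_one]
    rw [Ideal.Quotient.eq_zero_iff_mem, Ideal.mem_span_singleton] at this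
    obtain ⟨z, hz⟩ := this
    exact ⟨z, by rw [← hz]; ring⟩
  obtain ⟨z, hz⟩ := hd
  refine ⟨z, ?_⟩
  rw [hM, ← hz, ← RingHom.mapMatrix_apply, ← RingHom.map_det]

end smallness

end Groth.Agent.Lib.Helper11.Hk
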