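import Mathlib
import Groth.Agent.Lib.Helper11.HkU1

set_option autoImplicit false
set_option linter.unusedSectionVars false
set_option linter.unusedVariables false
set_option linter.style.haveILetI false

open Module TensorProduct

universe u v

namespace Groth.Agent.Lib.Helper11.Hk

section approx

variable {O K L : Type*} [CommRing O] [CommRing K] [CommRing L] [Algebra O K] (t : O)
  [IsLocalization.Away t K] (ι : L →+* K) (tL : L) (htL : IsUnit tL)
  (hι : ι tL = algebraMap O K t)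
  (H1 : ∀ (x : O) (N : ℕ), ∃ (y : L) (z : O),
    ι y = algebraMap O K x + algebraMap O K t ^ N * algebraMap O K z)
  (H2 : ∀ (y : L) (z : O), ι y = algebraMap O K (1 + t * z) → IsUnit y)

include htL hι H1 in
lemma exists_approx {l m : Type*} (M : Matrix l m K) {a : ℕ} (hM : Bdd t a M) (j : ℕ) :
    ∃ M' : Matrix l m L, Small t j (M'.map ι - M) := by
  obtain ⟨M₀, h₀⟩ := hM
  choose y z hyz using fun (p : l × m) => H1 (M₀ p.1 p.2) (a + j)
  obtain ⟨u, hu⟩ := htL
  refine ⟨Matrix.of fun i k => (↑(u⁻¹) : L) ^ a * y (i, k), Matrix.of fun i k => z (i, k), ?_⟩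
  refine Matrix.ext fun i k => ?_
  simp only [Matrix.sub_apply, Matrix.map_apply, Matrix.of_apply, Matrix.smul_apply, smul_eq_mul,
    map_mul, map_pow]
  have h1 : ι (↑(u⁻¹) : L) * algebraMap O K t = 1 := by
    rw [← hι, ← hu, ← map_mul, Units.inv_mul, map_one]
  have h2 : algebraMap O K t ^ a * M i k = algebraMap O K (M₀ i k) := by
    have := congrFun (congrFun h₀ i) k
    simpa using this
  rw [hyz (i, k), ← h2]
  have h3 : ι (↑(u⁻¹) : L) ^ a * algebraMap O K t ^ a = 1 := by rw [← mul_pow, h1, one_pow]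
  rw [pow_add]
  linear_combination (M i k + algebraMap O K t ^ j * algebraMap O K (z (i, k))) * h3

include H2 in
lemma isUnit_det_of_small {n : ℕ} (W : Matrix (Fin n) (Fin n) L) (h : Small t 1 (W.map ι - 1)) :
    IsUnit W.det := by
  obtain ⟨z, hz⟩ := h.det_eq
  refine H2 W.det z ?_
  rw [← hz, RingHom.map_det, RingHom.mapMatrix_apply]

variable {n₁ n₂ : ℕ} {e₁ : Matrix (Fin n₁) (Fin n₁) L} {e₂ : Matrix (Fin n₂) (Fin n₂) L}

include htL hι H1 H2 in
/-- **Approximation theorem, injectivity part**: idempotent matrices over `L` which are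
equivalent over `K` are equivalent. -/
theorem mequiv_of_mequiv_map (he₁ : e₁ * e₁ = e₁) (he₂ : e₂ * e₂ = e₂)
    (h : MEquiv (e₁.map ι) (e₂.map ι)) : MEquiv e₁ e₂ := by
  have hE₁ : e₁.map ι * e₁.map ι = e₁.map ι := by rw [← Matrix.map_mul, he₁]
  have hE₂ : e₂.map ι * e₂.map ι = e₂.map ι := by rw [← Matrix.map_mul, he₂]
  obtain ⟨α, β, k5, k6, k1, k2, k3, k4⟩ := h.exists_normalized hE₁ hE₂
  obtain ⟨a₁, b₁⟩ := exists_bdd (t := t) (e₁.map ι)
  obtain ⟨a₂, b₂⟩ := exists_bdd (t := t) (e₂.map ι)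
  obtain ⟨a₃, b₃⟩ := exists_bdd (t := t) α
  obtain ⟨a₄, b₄⟩ := exists_bdd (t := t) β
  set a := a₁ + a₂ + a₃ + a₄ with ha
  have bE₁ : Bdd t a (e₁.map ι) := b₁.mono (by omega)
  have bE₂ : Bdd t a (e₂.map ι) := b₂.mono (by omega)
  have bα : Bdd t a α := b₃.mono (by omega)
  have bβ : Bdd t a β := b₄.mono (by omega)
  obtain ⟨α', hα'⟩ := exists_approx t ι tL htL hι H1 α bα (a + (a + (a + 1)))
  obtain ⟨β', hβ'⟩ := exists_approx t ι tL htL hι H1 β bβ (a + (a + (a + 1)))
  set α₁ := e₂ * α' * e₁ with hα₁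
  set β₁ := e₁ * β' * e₂ with hβ₁
  have dα : Small t (a + 1) (α₁.map ι - α) := by
    have : α₁.map ι - α = e₂.map ι * (α'.map ι - α) * e₁.map ι := by
      rw [hα₁, Matrix.map_mul, Matrix.map_mul, Matrix.mul_sub, Matrix.sub_mul, k1, k2]
    rw [this]
    exact (bE₂.mul_small hα').mul_bdd bE₁
  have dβ : Small t (a + 1) (β₁.map ι - β) := by
    have : β₁.map ι - β = e₁.map ι * (β'.map ι - β) * e₂.map ι := by
      rw [hβ₁, Matrix.map_mul, Matrix.map_mul, Matrix.mul_sub, Matrix.sub_mul, k3, k4]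
    rw [this]
    exact (bE₁.mul_small hβ').mul_bdd bE₂
  have hW : Small t 1 ((1 - e₂ + α₁ * β₁).map ι - 1) := by
    have : (1 - e₂ + α₁ * β₁).map ι - 1 =
        α * (β₁.map ι - β) + (α₁.map ι - α) * β + (α₁.map ι - α) * (β₁.map ι - β) := by
      have e : (1 - e₂ + α₁ * β₁).map ι = 1 - e₂.map ι + α₁.map ι * β₁.map ι := by
        rw [← Matrix.map_mul]
        refine Matrix.ext fun i k => ?_
        simp only [Matrix.map_apply, Matrix.add_apply, Matrix.sub_apply, map_add, map_sub,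
          Matrix.one_apply]
        split_ifs <;> simp
      rw [e, ← k5]
      simp only [Matrix.mul_sub, Matrix.sub_mul]
      abel
    rw [this]
    refine ((bα.mul_small dβ).add (dα.mul_bdd bβ)).add ?_
    exact (dα.mul dβ).mono (by omega)
  have hV : Small t 1 ((1 - e₁ + β₁ * α₁).map ι - 1) := by
    have : (1 - e₁ + β₁ * α₁).map ι - 1 =
        β * (α₁.map ι - α) + (β₁.map ι - β) * α + (β₁.map ι - β) * (α₁.map ι - α) := by
      have e : (1 - e₁ + β₁ * α₁).map ι = 1 - e₁.map ι + β₁.map ι * α₁.map ι := by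
        rw [← Matrix.map_mul]
        refine Matrix.ext fun i k => ?_
        simp only [Matrix.map_apply, Matrix.add_apply, Matrix.sub_apply, map_add, map_sub,
          Matrix.one_apply]
        split_ifs <;> simp
      rw [e, ← k6]
      simp only [Matrix.mul_sub, Matrix.sub_mul]
      abel
    rw [this]
    refine ((bβ.mul_small dα).add (dβ.mul_bdd bα)).add ?_
    exact (dβ.mul dα).mono (by omega)
  refine mequiv_of_approx he₁ he₂ α₁ β₁ ?_ ?_ ?_ ?_ (isUnit_det_of_small t ι H2 _ hW)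
    (isUnit_det_of_small t ι H2 _ hV)
  · rw [hα₁, ← Matrix.mul_assoc, ← Matrix.mul_assoc, he₂]
  · rw [hα₁, Matrix.mul_assoc, he₁]
  · rw [hβ₁, ← Matrix.mul_assoc, ← Matrix.mul_assoc, he₁]
  · rw [hβ₁, Matrix.mul_assoc, he₂]

end approx

end Groth.Agent.Lib.Helper11.Hk
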