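import Mathlib
import Groth.Agent.Lib.Helper11.HkU2

set_option autoImplicit false
set_option linter.unusedSectionVars false
set_option linter.unusedVariables false
set_option linter.style.haveILetI false

open Module TensorProduct

universe u v

namespace Groth.Agent.Lib.Helper11.Hk

section approx

variable {O K L : Type*} [CommRing O] [CommRing K] [CommRing L] [Algebra O K] (t : O)
  [IsLocalization.Away t K] (ι : L →+* K) (tL : L) (htL : IsUnit tL)
  (hι : ι tL = algebraMap O K t)
  (H1 : ∀ (x : O) (N : ℕ), ∃ (y : L) (z : O),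
    ι y = algebraMap O K x + algebraMap O K t ^ N * algebraMap O K z)
  (H2 : ∀ (y : L) (z : O), ι y = algebraMap O K (1 + t * z) → IsUnit y)
  (H3 : ∀ z : O, IsUnit (1 + t * z))

/-- Pure matrix algebra: conjugating the kernel of a split surjection. -/
lemma mequiv_of_conj {S : Type*} [CommRing S] {n m : ℕ}
    (A A' : Matrix (Fin n) (Fin m) S) (B B' : Matrix (Fin m) (Fin n) S)
    (hAB : A * B = 1) (hAB' : A' * B' = 1) (g g' : Matrix (Fin m) (Fin m) S)
    (hgg' : g * g' = 1) (hg'g : g' * g = 1) (hAg : A * g = A') :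
    MEquiv (1 - B' * A') (1 - B * A) := by
  have hA'g' : A' * g' = A := by rw [← hAg, Matrix.mul_assoc, hgg', Matrix.mul_one]
  have hAE : A * (1 - B * A) = 0 := by
    rw [Matrix.mul_sub, Matrix.mul_one, ← Matrix.mul_assoc, hAB, Matrix.one_mul, sub_self]
  have hA'E' : A' * (1 - B' * A') = 0 := by
    rw [Matrix.mul_sub, Matrix.mul_one, ← Matrix.mul_assoc, hAB', Matrix.one_mul, sub_self]
  have hE : (1 - B * A) * (1 - B * A) = 1 - B * A := by
    rw [Matrix.sub_mul, Matrix.one_mul, Matrix.mul_assoc, hAE, Matrix.mul_zero, sub_zero]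
  have hE' : (1 - B' * A') * (1 - B' * A') = 1 - B' * A' := by
    rw [Matrix.sub_mul, Matrix.one_mul, Matrix.mul_assoc, hA'E', Matrix.mul_zero, sub_zero]
  refine ⟨(1 - B * A) * g * (1 - B' * A'), (1 - B' * A') * g' * (1 - B * A), ?_, ?_⟩
  · -- E g E' E' g' E = E
    calc (1 - B * A) * g * (1 - B' * A') * ((1 - B' * A') * g' * (1 - B * A))
        = (1 - B * A) * g * ((1 - B' * A') * (1 - B' * A')) * g' * (1 - B * A) := by
          simp only [Matrix.mul_assoc]
      _ = (1 - B * A) * (g * g' - g * B' * (A' * g')) * (1 - B * A) := by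
          rw [hE']
          simp only [Matrix.mul_sub, Matrix.sub_mul, Matrix.mul_one, Matrix.mul_assoc]
      _ = (1 - B * A) * (1 - B * A) - (1 - B * A) * g * B' * (A * (1 - B * A)) := by
          rw [hgg', hA'g']
          simp only [Matrix.mul_sub, Matrix.sub_mul, Matrix.mul_one, Matrix.mul_assoc]
          abel
      _ = 1 - B * A := by rw [hAE, Matrix.mul_zero, sub_zero, hE]
  · calc (1 - B' * A') * g' * (1 - B * A) * ((1 - B * A) * g * (1 - B' * A'))
        = (1 - B' * A') * g' * ((1 - B * A) * (1 - B * A)) * g * (1 - B' * A') := by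
          simp only [Matrix.mul_assoc]
      _ = (1 - B' * A') * (g' * g - g' * B * (A * g)) * (1 - B' * A') := by
          rw [hE]
          simp only [Matrix.mul_sub, Matrix.sub_mul, Matrix.mul_one, Matrix.mul_assoc]
      _ = (1 - B' * A') * (1 - B' * A') - (1 - B' * A') * g' * B * (A' * (1 - B' * A')) := by
          rw [hg'g, hAg]
          simp only [Matrix.mul_sub, Matrix.sub_mul, Matrix.mul_one, Matrix.mul_assoc]
          abel
      _ = 1 - B' * A' := by rw [hA'E', Matrix.mul_zero, sub_zero, hE']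

include htL hι H1 H2 H3 in
/-- **Approximation theorem, stably free part**: a split surjection `K^m → K^n` is conjugate
to one defined over `L`. -/
theorem exists_stablyFree_descent {n m : ℕ}
    (A : Matrix (Fin n) (Fin m) K) (B : Matrix (Fin m) (Fin n) K) (hAB : A * B = 1) :
    ∃ (A₁ : Matrix (Fin n) (Fin m) L) (B₁ : Matrix (Fin m) (Fin n) L), A₁ * B₁ = 1 ∧
      MEquiv ((1 - B₁ * A₁).map ι) (1 - B * A) := by
  obtain ⟨a₁, b₁⟩ := exists_bdd (t := t) A
  obtain ⟨a₂, b₂⟩ := exists_bdd (t := t) B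
  set a := a₁ + a₂ with ha
  have bA : Bdd t a A := b₁.mono (by omega)
  have bB : Bdd t a B := b₂.mono (by omega)
  obtain ⟨A', hA'⟩ := exists_approx t ι tL htL hι H1 A bA (a + 1)
  obtain ⟨B', hB'⟩ := exists_approx t ι tL htL hι H1 B bB (a + 1)
  have hU : Small t 1 ((A' * B').map ι - 1) := by
    have : (A' * B').map ι - 1 =
        A * (B'.map ι - B) + (A'.map ι - A) * B + (A'.map ι - A) * (B'.map ι - B) := by
      rw [Matrix.map_mul, ← hAB]
      simp only [Matrix.mul_sub, Matrix.sub_mul]
      abel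
    rw [this]
    refine ((bA.mul_small hB').add (hA'.mul_bdd bB)).add ?_
    exact (hA'.mul hB').mono (by omega)
  have hUdet : IsUnit (A' * B').det := isUnit_det_of_small t ι H2 _ hU
  set U := A' * B' with hUdef
  have hUU : U * U⁻¹ = 1 := Matrix.mul_nonsing_inv U hUdet
  refine ⟨A', B' * U⁻¹, by rw [← Matrix.mul_assoc, ← hUdef, hUU], ?_⟩
  -- the conjugating matrix
  set g : Matrix (Fin m) (Fin m) K := 1 + B * (A'.map ι - A) with hg
  have hgs : Small t 1 (g - 1) := by
    rw [hg, add_sub_cancel_left]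
    exact bB.mul_small hA'
  obtain ⟨z, hz⟩ := hgs.det_eq
  have hgdet : IsUnit g.det := by rw [hz]; exact (H3 z).map _
  have hAg : A * g = A'.map ι := by
    rw [hg, Matrix.mul_add, Matrix.mul_one, ← Matrix.mul_assoc, hAB, Matrix.one_mul,
      add_sub_cancel]
  have e1 : (1 - B' * U⁻¹ * A').map ι = 1 - (B' * U⁻¹).map ι * A'.map ι := by
    rw [← Matrix.map_mul]
    refine Matrix.ext fun i k => ?_
    simp only [Matrix.map_apply, Matrix.sub_apply, map_sub, Matrix.one_apply]
    split_ifs <;> simp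
  rw [e1]
  refine mequiv_of_conj A (A'.map ι) B ((B' * U⁻¹).map ι) hAB ?_ g g⁻¹
    (Matrix.mul_nonsing_inv g hgdet) (Matrix.nonsing_inv_mul g hgdet) hAg
  rw [← Matrix.map_mul, ← Matrix.mul_assoc, ← hUdef, hUU]
  refine Matrix.ext fun i k => ?_
  simp only [Matrix.map_apply, Matrix.one_apply]
  split_ifs <;> simp

end approx

end Groth.Agent.Lib.Helper11.Hk
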