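import Mathlib
import Groth.Agent.Lib.Helper11.HkU3

set_option autoImplicit false
set_option linter.unusedSectionVars false
set_option linter.unusedVariables false
set_option linter.style.haveILetI false

open Module TensorProduct

universe u v

namespace Groth.Agent.Lib.Helper11.Hk

section wrappers

variable {S : Type u} [CommRing S]

/-- Complementary idempotents give a direct sum decomposition of the free module. -/
lemma IsImage.prod_equiv {M Q : Type*} [AddCommGroup M] [Module S M] [AddCommGroup Q] [Module S Q]
    {n : ℕ} {e e' : Matrix (Fin n) (Fin n) S} (hM : IsImage e M) (hQ : IsImage e' Q)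
    (hee' : e + e' = 1) : Nonempty ((M × Q) ≃ₗ[S] (Fin n → S)) := by
  obtain ⟨i, s, h1, h2⟩ := hM
  obtain ⟨i', s', h1', h2'⟩ := hQ
  have hi_inj : Function.Injective i := fun x y hxy => by
    have := congrArg s hxy
    have hx := LinearMap.congr_fun h1 x
    have hy := LinearMap.congr_fun h1 y
    simp only [LinearMap.comp_apply, LinearMap.id_apply] at hx hy
    rw [hx, hy] at this
    exact this
  have hi'_inj : Function.Injective i' := fun x y hxy => by
    have := congrArg s' hxy
    have hx := LinearMap.congr_fun h1' x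
    have hy := LinearMap.congr_fun h1' y
    simp only [LinearMap.comp_apply, LinearMap.id_apply] at hx hy
    rw [hx, hy] at this
    exact this
  have hsum : ∀ v, i (s v) + i' (s' v) = v := by
    intro v
    have h2v := LinearMap.congr_fun h2 v
    have h2'v := LinearMap.congr_fun h2' v
    simp only [LinearMap.comp_apply] at h2v h2'v
    rw [h2v, h2'v, ← LinearMap.add_apply, ← map_add, hee', Matrix.toLin'_one, LinearMap.id_apply]
  have hee : e * e = e := (IsImage.idem ⟨i, s, h1, h2⟩)
  have hee'0 : e * e' = 0 := by
    have : e * (e + e') = e := by rw [hee', Matrix.mul_one]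
    rw [Matrix.mul_add, hee, add_eq_left] at this
    exact this
  have he'e0 : e' * e = 0 := by
    have : (e + e') * e = e := by rw [hee', Matrix.one_mul]
    rw [Matrix.add_mul, hee, add_eq_left] at this
    exact this
  -- s ∘ i' = 0 and s' ∘ i = 0
  have hsi' : ∀ y, s (i' y) = 0 := by
    intro y
    apply hi_inj
    have h2v := LinearMap.congr_fun h2 (i' y)
    simp only [LinearMap.comp_apply] at h2v
    rw [h2v, map_zero]
    have hy := LinearMap.congr_fun h1' y
    simp only [LinearMap.comp_apply, LinearMap.id_apply] at hy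
    have h2'v := LinearMap.congr_fun h2' (i' y)
    simp only [LinearMap.comp_apply] at h2'v
    rw [hy] at h2'v
    rw [h2'v, ← LinearMap.comp_apply, ← Matrix.toLin'_mul, hee'0, map_zero, LinearMap.zero_apply]
  have hs'i : ∀ x, s' (i x) = 0 := by
    intro x
    apply hi'_inj
    have h2'v := LinearMap.congr_fun h2' (i x)
    simp only [LinearMap.comp_apply] at h2'v
    rw [h2'v, map_zero]
    have hx := LinearMap.congr_fun h1 x
    simp only [LinearMap.comp_apply, LinearMap.id_apply] at hx
    have h2v := LinearMap.congr_fun h2 (i x)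
    simp only [LinearMap.comp_apply] at h2v
    rw [hx] at h2v
    rw [h2v, ← LinearMap.comp_apply, ← Matrix.toLin'_mul, he'e0, map_zero, LinearMap.zero_apply]
  refine ⟨LinearEquiv.ofLinearMap (i.coprod i') (s.prod s') ?_ ?_⟩
  · refine LinearMap.ext fun v => ?_
    show i (s v) + i' (s' v) = v
    exact hsum v
  · refine LinearMap.ext fun p => ?_
    obtain ⟨x, y⟩ := p
    have hx := LinearMap.congr_fun h1 x
    have hy := LinearMap.congr_fun h1' y
    simp only [LinearMap.comp_apply, LinearMap.id_apply] at hx hy
    show (s (i x + i' y), s' (i x + i' y)) = (x, y)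
    rw [map_add, map_add, hsi', hs'i, hx, hy, add_zero, zero_add]

/-- The range of an idempotent matrix. -/
lemma isImage_range {n : ℕ} {e : Matrix (Fin n) (Fin n) S} (he : e * e = e) :
    IsImage e (LinearMap.range (Matrix.toLin' e)) := by
  refine ⟨(LinearMap.range (Matrix.toLin' e)).subtype, (Matrix.toLin' e).rangeRestrict, ?_, ?_⟩
  · ext ⟨x, y, rfl⟩ : 2
    simp only [LinearMap.comp_apply, Submodule.subtype_apply, LinearMap.id_apply]
    show (Matrix.toLin' e) ((Matrix.toLin' e) y) = (Matrix.toLin' e) y
    rw [← LinearMap.comp_apply, ← Matrix.toLin'_mul, he]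
  · ext x : 1
    rfl

/-- A split surjection presents the free module `S^n` as the image of `B * A`. -/
lemma isImage_of_split {n m : ℕ} (A : Matrix (Fin n) (Fin m) S) (B : Matrix (Fin m) (Fin n) S)
    (hAB : A * B = 1) : IsImage (B * A) (Fin n → S) :=
  ⟨Matrix.toLin' B, Matrix.toLin' A, by rw [← Matrix.toLin'_mul, hAB, Matrix.toLin'_one],
    by rw [← Matrix.toLin'_mul]⟩

/-- A stably free module is the kernel of a split surjection of free modules. -/
lemma exists_split_of_stablyFree {M' : Type*} [AddCommGroup M'] [Module S M'] {n m : ℕ}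
    (φ : (M' × (Fin n → S)) ≃ₗ[S] (Fin m → S)) :
    ∃ (A : Matrix (Fin n) (Fin m) S) (B : Matrix (Fin m) (Fin n) S), A * B = 1 ∧
      IsImage (1 - B * A) M' := by
  refine ⟨LinearMap.toMatrix' (LinearMap.snd S M' (Fin n → S) ∘ₗ φ.symm.toLinearMap),
    LinearMap.toMatrix' (φ.toLinearMap ∘ₗ LinearMap.inr S M' (Fin n → S)), ?_, ?_⟩
  · rw [← LinearMap.toMatrix'_comp, ← LinearMap.toMatrix'_id]
    congr 1
    refine LinearMap.ext fun v => ?_
    simp
  · refine ⟨φ.toLinearMap ∘ₗ LinearMap.inl S M' (Fin n → S),
      LinearMap.fst S M' (Fin n → S) ∘ₗ φ.symm.toLinearMap, ?_, ?_⟩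
    · refine LinearMap.ext fun v => ?_
      simp
    · rw [map_sub, Matrix.toLin'_one, ← LinearMap.toMatrix'_comp, Matrix.toLin'_toMatrix']
      refine LinearMap.ext fun v => ?_
      simp only [LinearMap.comp_apply, LinearEquiv.coe_coe, LinearMap.fst_apply,
        LinearMap.inl_apply, LinearMap.sub_apply, LinearMap.id_apply, LinearMap.snd_apply,
        LinearMap.inr_apply]
      rw [eq_sub_iff_add_eq, ← map_add, Prod.mk_add_mk, add_zero, zero_add,
        LinearEquiv.apply_symm_apply]

end wrappers

end Groth.Agent.Lib.Helper11.Hk
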