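import Mathlib
import Groth.Agent.Lib.Helper11.HkU4

set_option autoImplicit false
set_option linter.unusedSectionVars false
set_option linter.unusedVariables false
set_option linter.style.haveILetI false

open Module TensorProduct

universe u v

namespace Groth.Agent.Lib.Helper11.Hk

section main

variable {O : Type*} {K L L' : Type u} [CommRing O] [CommRing K] [CommRing L] [CommRing L']
  [Algebra O K] (t : O) [IsLocalization.Away t K] [Algebra L L'] (e : L' ≃+* K)
  (tL : L) (htL : IsUnit tL) (hι : e (algebraMap L L' tL) = algebraMap O K t)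
  (H1 : ∀ (x : O) (N : ℕ), ∃ (y : L) (z : O),
    e (algebraMap L L' y) = algebraMap O K x + algebraMap O K t ^ N * algebraMap O K z)
  (H2 : ∀ (y : L) (z : O), e (algebraMap L L' y) = algebraMap O K (1 + t * z) → IsUnit y)
  (H3 : ∀ z : O, IsUnit (1 + t * z))

include htL hι H1 H2 in
/-- Finite projective `L`-modules which become isomorphic over `L' ≅ K` are isomorphic. -/
theorem approx_injective
    (M N : Type u) [AddCommGroup M] [Module L M] [Module.Finite L M] [Module.Projective L M]
    [AddCommGroup N] [Module L N] [Module.Finite L N] [Module.Projective L N]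
    (h : Nonempty (L' ⊗[L] M ≃ₗ[L'] L' ⊗[L] N)) : Nonempty (M ≃ₗ[L] N) := by
  obtain ⟨n₁, e₁, hI₁⟩ := exists_isImage L M
  obtain ⟨n₂, e₂, hI₂⟩ := exists_isImage L N
  have h1 := (mequiv_map_of_nonempty_equiv L' hI₁ hI₂ h).map (e : L' →+* K)
  set ι : L →+* K := (e : L' →+* K).comp (algebraMap L L') with hιdef
  have r1 : ∀ {n : ℕ} (E : Matrix (Fin n) (Fin n) L),
      (E.map (algebraMap L L')).map (e : L' →+* K) = E.map ι := by
    intro n E
    refine Matrix.ext fun i j => ?_
    simp only [Matrix.map_apply]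
    rfl
  rw [r1, r1] at h1
  have m := mequiv_of_mequiv_map t ι tL htL hι H1 H2 hI₁.idem hI₂.idem h1
  exact (hI₁.of_mequiv m hI₂.idem).equiv hI₂

include htL hι H1 H2 H3 in
/-- Stably free `L'`-modules descend to stably free `L`-modules. -/
theorem approx_stablyFree
    (M' : Type u) [AddCommGroup M'] [Module L' M'] [Module.Finite L' M']
    (h : ∃ n m : ℕ, Nonempty ((M' × (Fin n → L')) ≃ₗ[L'] (Fin m → L'))) :
    ∃ (M : Type u) (_ : AddCommGroup M) (_ : Module L M), Module.Finite L M ∧
      (∃ n m : ℕ, Nonempty ((M × (Fin n → L)) ≃ₗ[L] (Fin m → L))) ∧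
      Nonempty (L' ⊗[L] M ≃ₗ[L'] M') := by
  obtain ⟨n, m, ⟨φ⟩⟩ := h
  obtain ⟨A', B', hAB', hI'⟩ := exists_split_of_stablyFree φ
  set ι : L →+* K := (e : L' →+* K).comp (algebraMap L L') with hιdef
  have hAB : A'.map (e : L' →+* K) * B'.map (e : L' →+* K) = 1 := by
    rw [← Matrix.map_mul, hAB']
    refine Matrix.ext fun i k => ?_
    simp only [Matrix.map_apply, Matrix.one_apply]
    split_ifs <;> simp
  obtain ⟨A₁, B₁, hAB₁, hm⟩ := exists_stablyFree_descent t ι tL htL hι H1 H2 H3 _ _ hAB
  have hE₁ : (1 - B₁ * A₁) * (1 - B₁ * A₁) = 1 - B₁ * A₁ := by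
    have hA : A₁ * (1 - B₁ * A₁) = 0 := by
      rw [Matrix.mul_sub, Matrix.mul_one, ← Matrix.mul_assoc, hAB₁, Matrix.one_mul, sub_self]
    rw [Matrix.sub_mul, Matrix.one_mul, Matrix.mul_assoc, hA, Matrix.mul_zero, sub_zero]
  have hM := isImage_range hE₁
  refine ⟨LinearMap.range (Matrix.toLin' (1 - B₁ * A₁)), inferInstance, inferInstance, hM.finite,
    ⟨n, m, hM.prod_equiv (isImage_of_split A₁ B₁ hAB₁) (by abel)⟩, ?_⟩
  -- transport the equivalence back to `L'`
  have hm' := hm.map (e.symm : K →+* L')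
  have r1 : ((1 - B₁ * A₁).map ι).map (e.symm : K →+* L') =
      (1 - B₁ * A₁).map (algebraMap L L') := by
    refine Matrix.ext fun i k => ?_
    simp only [Matrix.map_apply, hιdef, RingHom.comp_apply, RingHom.coe_coe,
      RingEquiv.symm_apply_apply]
  have r2 : (1 - B'.map (e : L' →+* K) * A'.map (e : L' →+* K)).map (e.symm : K →+* L') =
      1 - B' * A' := by
    rw [← Matrix.map_mul]
    refine Matrix.ext fun i k => ?_
    simp only [Matrix.map_apply, Matrix.sub_apply, map_sub, RingHom.coe_coe,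
      RingEquiv.symm_apply_apply, Matrix.one_apply]
    split_ifs <;> simp
  rw [r1, r2] at hm'
  exact ((hM.baseChange L').of_mequiv hm' hI'.idem).equiv hI'

end main

end Groth.Agent.Lib.Helper11.Hk
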