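import Mathlib
import Groth.Agent.Lib.Helper11.HkU5

set_option autoImplicit false
set_option linter.unusedSectionVars false
set_option linter.unusedVariables false
set_option linter.style.haveILetI false

open Module TensorProduct Polynomial

universe u v

namespace Groth.Agent.Lib.Helper11.Hk

section powerseries

variable {R : Type u} [CommRing R]

/-- Elements of the closure of `{f | f(0) = 1} ∪ {X}` are `X^k g` with `g(0) = 1`. -/
lemma exists_eq_X_pow_mul_of_mem_closure {s : R[X]}
    (hs : s ∈ Submonoid.closure ({f : R[X] | f.coeff 0 = 1} ∪ {X})) :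
    ∃ (k : ℕ) (g : R[X]), g.coeff 0 = 1 ∧ s = X ^ k * g := by
  induction hs using Submonoid.closure_induction with
  | mem x hx =>
    rcases hx with hx | hx
    · exact ⟨0, x, hx, by simp⟩
    · rw [Set.mem_singleton_iff] at hx
      exact ⟨1, 1, by simp, by simp [hx]⟩
  | one => exact ⟨0, 1, by simp, by simp⟩
  | mul x y _ _ hx hy =>
    obtain ⟨k, g, hg, rfl⟩ := hx
    obtain ⟨k', g', hg', rfl⟩ := hy
    exact ⟨k + k', g * g', by rw [Polynomial.mul_coeff_zero, hg, hg', one_mul], by ring⟩

lemma X_pow_mul_mem_closure (k : ℕ) {g : R[X]} (hg : g.coeff 0 = 1) :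
    X ^ k * g ∈ Submonoid.closure ({f : R[X] | f.coeff 0 = 1} ∪ {X}) := by
  have hX : (X : R[X]) ∈ Submonoid.closure ({f : R[X] | f.coeff 0 = 1} ∪ {X}) :=
    Submonoid.subset_closure (Or.inr rfl)
  have hg' : g ∈ Submonoid.closure ({f : R[X] | f.coeff 0 = 1} ∪ {X}) :=
    Submonoid.subset_closure (Or.inl hg)
  exact mul_mem (pow_mem hX k) hg'

/-- A polynomial which, as a power series, is `X^k (1 + X z) g` with `g(0) = 1` is `X^k q` with
`q(0) = 1`. -/
lemma exists_eq_X_pow_mul_of_coe_eq {p g : R[X]} (hg : g.coeff 0 = 1) (k : ℕ) (z : PowerSeries R)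
    (h : (p : PowerSeries R) = PowerSeries.X ^ k * ((1 + PowerSeries.X * z) * (g : PowerSeries R))) :
    ∃ q : R[X], q.coeff 0 = 1 ∧ p = X ^ k * q := by
  have hc : ∀ d, p.coeff d = if k ≤ d then
      PowerSeries.coeff (d - k) ((1 + PowerSeries.X * z) * (g : PowerSeries R)) else 0 := by
    intro d
    rw [← Polynomial.coeff_coe, h, PowerSeries.coeff_X_pow_mul']
  have hdvd : X ^ k ∣ p := by
    rw [Polynomial.X_pow_dvd_iff]
    intro d hd
    rw [hc d, if_neg (by omega)]
  obtain ⟨q, rfl⟩ := hdvd
  refine ⟨q, ?_, rfl⟩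
  have := hc k
  rw [if_pos le_rfl, Nat.sub_self, Polynomial.coeff_X_pow_mul', if_pos le_rfl, Nat.sub_self] at this
  rw [this, PowerSeries.coeff_zero_eq_constantCoeff_apply, map_mul, map_add, map_one, map_mul,
    PowerSeries.constantCoeff_X, zero_mul, add_zero, one_mul,
    ← PowerSeries.coeff_zero_eq_constantCoeff_apply, Polynomial.coeff_coe, hg]

/-- **Gabber's lemma for `R(t) → R((t))`**: injectivity on finite projective modules and descent
of stably free modules. -/
theorem laurent_localization_main (L : Type u) [CommRing L] [Algebra R[X] L]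
    [IsLocalization (Submonoid.closure ({f : R[X] | f.coeff 0 = 1} ∪ {X})) L]
    (L' : Type u) [CommRing L'] [Algebra L L'] (e : L' ≃+* LaurentSeries R)
    (he : ∀ p : R[X], e (algebraMap L L' (algebraMap R[X] L p)) =
      HahnSeries.ofPowerSeries ℤ R (Polynomial.coeToPowerSeries.ringHom p)) :
    (∀ (M N : Type u) [AddCommGroup M] [Module L M] [Module.Finite L M] [Module.Projective L M]
        [AddCommGroup N] [Module L N] [Module.Finite L N] [Module.Projective L N],
        Nonempty (L' ⊗[L] M ≃ₗ[L'] L' ⊗[L] N) → Nonempty (M ≃ₗ[L] N)) ∧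
    (∀ (M' : Type u) [AddCommGroup M'] [Module L' M'] [Module.Finite L' M'],
        (∃ n m : ℕ, Nonempty ((M' × (Fin n → L')) ≃ₗ[L'] (Fin m → L'))) →
        ∃ (M : Type u) (_ : AddCommGroup M) (_ : Module L M), Module.Finite L M ∧
          (∃ n m : ℕ, Nonempty ((M × (Fin n → L)) ≃ₗ[L] (Fin m → L))) ∧
          Nonempty (L' ⊗[L] M ≃ₗ[L'] M')) := by
  set S := Submonoid.closure ({f : R[X] | f.coeff 0 = 1} ∪ {X}) with hS
  have he' : ∀ p : R[X], e (algebraMap L L' (algebraMap R[X] L p)) =
      algebraMap (PowerSeries R) (LaurentSeries R) (p : PowerSeries R) := he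
  have hXS : (X : R[X]) ∈ S := Submonoid.subset_closure (Or.inr rfl)
  have htL : IsUnit (algebraMap R[X] L X) := IsLocalization.map_units L ⟨X, hXS⟩
  have hι : e (algebraMap L L' (algebraMap R[X] L X)) =
      algebraMap (PowerSeries R) (LaurentSeries R) PowerSeries.X := by
    rw [he', Polynomial.coe_X]
  have H1 : ∀ (x : PowerSeries R) (N : ℕ), ∃ (y : L) (z : PowerSeries R),
      e (algebraMap L L' y) = algebraMap (PowerSeries R) (LaurentSeries R) x +
        algebraMap (PowerSeries R) (LaurentSeries R) PowerSeries.X ^ N *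
          algebraMap (PowerSeries R) (LaurentSeries R) z := by
    intro x N
    refine ⟨algebraMap R[X] L (PowerSeries.trunc N x),
      -(PowerSeries.mk fun i => PowerSeries.coeff (i + N) x), ?_⟩
    rw [he', ← map_pow, ← map_mul, ← map_add]
    congr 1
    have hx := PowerSeries.eq_X_pow_mul_shift_add_trunc N x
    linear_combination (-1 : PowerSeries R) * hx
  have hinj : Function.Injective (algebraMap (PowerSeries R) (LaurentSeries R)) := by
    rw [LaurentSeries.coe_algebraMap]
    exact HahnSeries.ofPowerSeries_injective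
  have H2 : ∀ (y : L) (z : PowerSeries R), e (algebraMap L L' y) =
      algebraMap (PowerSeries R) (LaurentSeries R) (1 + PowerSeries.X * z) → IsUnit y := by
    intro y z hy
    obtain ⟨⟨p, s⟩, hps⟩ := IsLocalization.surj S y
    simp only at hps
    obtain ⟨k, g, hg, hsg⟩ := exists_eq_X_pow_mul_of_mem_closure s.2
    have h1 := congrArg (fun w => e (algebraMap L L' w)) hps
    simp only [map_mul, he', hy] at h1
    rw [← map_mul] at h1
    have h2 := hinj h1
    rw [hsg, Polynomial.coe_mul, Polynomial.coe_pow, Polynomial.coe_X] at h2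
    obtain ⟨q, hq, hpq⟩ := exists_eq_X_pow_mul_of_coe_eq hg k z (by rw [← h2]; ring)
    have hpS : p ∈ S := by rw [hpq]; exact X_pow_mul_mem_closure k hq
    have hup : IsUnit (algebraMap R[X] L p) := IsLocalization.map_units L ⟨p, hpS⟩
    have hus : IsUnit (algebraMap R[X] L s) := IsLocalization.map_units L s
    rw [← hps] at hup
    exact isUnit_of_mul_isUnit_left hup
  have H3 : ∀ z : PowerSeries R, IsUnit (1 + PowerSeries.X * z) := by
    intro z
    rw [PowerSeries.isUnit_iff_constantCoeff]
    simp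
  exact ⟨fun M N _ _ _ _ _ _ _ _ h =>
      approx_injective (PowerSeries.X : PowerSeries R) e _ htL hι H1 H2 M N h,
    fun M' _ _ _ h =>
      approx_stablyFree (PowerSeries.X : PowerSeries R) e _ htL hι H1 H2 H3 M' h⟩

end powerseries

end Groth.Agent.Lib.Helper11.Hk
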