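import Mathlib
import Groth.Agent.Lib.Helper11.HkU5

set_option autoImplicit false
set_option linter.unusedSectionVars false
set_option linter.unusedVariables false
set_option linter.style.haveILetI false

open Module TensorProduct

universe u v

namespace Groth.Agent.Lib.Helper11.Hk

section adic

variable {A : Type u} [CommRing A] (t : A)

/-- The `t`-adic completion. -/
abbrev Ahat' (A : Type u) [CommRing A] (t : A) : Type u :=
  AdicCompletion (Ideal.span ({t} : Set A)) A

local notation "Ahat" => Ahat' A t

lemma evalₐ_algebraMap (n : ℕ) (a : A) :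
    AdicCompletion.evalₐ (Ideal.span {t}) n (algebraMap A Ahat a) =
      Ideal.Quotient.mk ((Ideal.span {t}) ^ n) a := by
  rw [AdicCompletion.algebraMap_apply, Algebra.algebraMap_self, RingHom.id_apply,
    AdicCompletion.evalₐ_of]

lemma evalₐ_pow_mul (n : ℕ) (z : Ahat) :
    AdicCompletion.evalₐ (Ideal.span {t}) n (algebraMap A Ahat t ^ n * z) = 0 := by
  rw [map_mul, map_pow, evalₐ_algebraMap, ← map_pow,
    Ideal.Quotient.eq_zero_iff_mem.mpr (Ideal.pow_mem_pow (Ideal.mem_span_singleton_self t) n),
    zero_mul]

lemma exists_eq_pow_mul_of_evalₐ_eq_zero (n : ℕ) (x : Ahat)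
    (hx : AdicCompletion.evalₐ (Ideal.span {t}) n x = 0) :
    ∃ z : Ahat, x = algebraMap A Ahat t ^ n * z := by
  have h1 : AdicCompletion.eval (Ideal.span {t}) A n x = 0 := by
    have := AdicCompletion.factor_evalₐ_eq_eval (I := Ideal.span {t}) (n := n) x
      (by simp)
    rw [← this, hx, map_zero]
  have h2 : x ∈ ((Ideal.span {t}) ^ n • ⊤ : Submodule A Ahat) := by
    rw [AdicCompletion.pow_smul_top_eq_ker_eval ⟨{t}, by simp⟩]
    exact h1
  rw [Ideal.span_singleton_pow, Submodule.ideal_span_singleton_smul,
    Submodule.mem_smul_pointwise_iff_exists] at h2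
  obtain ⟨z, -, hz⟩ := h2
  exact ⟨z, by rw [← hz, Algebra.smul_def, map_pow]⟩

/-- **Gabber's lemma for `A[1/t] → Â[1/t]`** (`t` in the Jacobson radical): injectivity on finite
projective modules and descent of stably free modules. -/
theorem adic_away_main (ht : t ∈ (⊥ : Ideal A).jacobson)
    [Algebra (Localization.Away t) (Localization.Away (algebraMap A Ahat t))]
    (halg : algebraMap (Localization.Away t) (Localization.Away (algebraMap A Ahat t)) =
      Localization.awayMap (algebraMap A Ahat) t) :
    (∀ (M N : Type u) [AddCommGroup M] [Module (Localization.Away t) M]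
        [Module.Finite (Localization.Away t) M] [Module.Projective (Localization.Away t) M]
        [AddCommGroup N] [Module (Localization.Away t) N] [Module.Finite (Localization.Away t) N]
        [Module.Projective (Localization.Away t) N],
        Nonempty ((Localization.Away (algebraMap A Ahat t)) ⊗[Localization.Away t] M
          ≃ₗ[Localization.Away (algebraMap A Ahat t)]
          (Localization.Away (algebraMap A Ahat t)) ⊗[Localization.Away t] N) →
        Nonempty (M ≃ₗ[Localization.Away t] N)) ∧
    (∀ (M' : Type u) [AddCommGroup M'] [Module (Localization.Away (algebraMap A Ahat t)) M']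
        [Module.Finite (Localization.Away (algebraMap A Ahat t)) M'],
        (∃ n m : ℕ, Nonempty ((M' × (Fin n → Localization.Away (algebraMap A Ahat t)))
          ≃ₗ[Localization.Away (algebraMap A Ahat t)]
          (Fin m → Localization.Away (algebraMap A Ahat t)))) →
        ∃ (M : Type u) (_ : AddCommGroup M) (_ : Module (Localization.Away t) M),
          Module.Finite (Localization.Away t) M ∧
          (∃ n m : ℕ, Nonempty ((M × (Fin n → Localization.Away t)) ≃ₗ[Localization.Away t]
            (Fin m → Localization.Away t))) ∧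
          Nonempty ((Localization.Away (algebraMap A Ahat t)) ⊗[Localization.Away t] M
            ≃ₗ[Localization.Away (algebraMap A Ahat t)] M')) := by
  have hκ : ∀ a : A, algebraMap (Localization.Away t) (Localization.Away (algebraMap A Ahat t)) (algebraMap A (Localization.Away t) a) = algebraMap Ahat (Localization.Away (algebraMap A Ahat t)) (algebraMap A Ahat a) := by
    intro a
    rw [halg]
    simp [Localization.awayMap, IsLocalization.Away.map, IsLocalization.map_eq]
  have htL : IsUnit (algebraMap A (Localization.Away t) t) := IsLocalization.Away.algebraMap_isUnit t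
  have hι : (RingEquiv.refl (Localization.Away (algebraMap A Ahat t))) (algebraMap (Localization.Away t) (Localization.Away (algebraMap A Ahat t)) (algebraMap A (Localization.Away t) t)) = algebraMap Ahat (Localization.Away (algebraMap A Ahat t)) (algebraMap A Ahat t) := by
    rw [RingEquiv.refl_apply, hκ]
  have H1 : ∀ (x : Ahat) (N : ℕ), ∃ (y : (Localization.Away t)) (z : Ahat),
      (RingEquiv.refl (Localization.Away (algebraMap A Ahat t))) (algebraMap (Localization.Away t) (Localization.Away (algebraMap A Ahat t)) y) =
        algebraMap Ahat (Localization.Away (algebraMap A Ahat t)) x + algebraMap Ahat (Localization.Away (algebraMap A Ahat t)) (algebraMap A Ahat t) ^ N * algebraMap Ahat (Localization.Away (algebraMap A Ahat t)) z := by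
    intro x N
    obtain ⟨a, ha⟩ := Ideal.Quotient.mk_surjective (AdicCompletion.evalₐ (Ideal.span {t}) N x)
    have h0 : AdicCompletion.evalₐ (Ideal.span {t}) N (algebraMap A Ahat a - x) = 0 := by
      rw [map_sub, evalₐ_algebraMap, ha, sub_self]
    obtain ⟨z, hz⟩ := exists_eq_pow_mul_of_evalₐ_eq_zero t N _ h0
    refine ⟨algebraMap A (Localization.Away t) a, z, ?_⟩
    rw [RingEquiv.refl_apply, hκ, ← map_pow, ← map_mul, ← map_add, ← hz]
    congr 1
    ring
  have H2 : ∀ (y : (Localization.Away t)) (z : Ahat), (RingEquiv.refl (Localization.Away (algebraMap A Ahat t))) (algebraMap (Localization.Away t) (Localization.Away (algebraMap A Ahat t)) y) =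
      algebraMap Ahat (Localization.Away (algebraMap A Ahat t)) (1 + (algebraMap A Ahat t) * z) → IsUnit y := by
    intro y z hy
    rw [RingEquiv.refl_apply] at hy
    obtain ⟨m, a, hya⟩ := IsLocalization.Away.surj t y
    have h1 := congrArg (algebraMap (Localization.Away t) (Localization.Away (algebraMap A Ahat t))) hya
    rw [map_mul, map_pow, hκ, hκ, hy, ← map_pow, ← map_mul] at h1
    obtain ⟨j, hj⟩ := IsLocalization.Away.exists_of_eq (algebraMap A Ahat t) h1
    -- evaluate modulo `t^(j+m+1)`
    have h2 := congrArg (AdicCompletion.evalₐ (Ideal.span {t}) (j + m + 1)) hj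
    have h3 : AdicCompletion.evalₐ (Ideal.span {t}) (j + m + 1) ((algebraMap A Ahat t) ^ j * ((1 + (algebraMap A Ahat t) * z) * (algebraMap A Ahat t) ^ m)) =
        AdicCompletion.evalₐ (Ideal.span {t}) (j + m + 1) ((algebraMap A Ahat t) ^ (j + m)) := by
      have : (algebraMap A Ahat t) ^ j * ((1 + (algebraMap A Ahat t) * z) * (algebraMap A Ahat t) ^ m) = (algebraMap A Ahat t) ^ (j + m) + (algebraMap A Ahat t) ^ (j + m + 1) * z := by ring
      rw [this, map_add, evalₐ_pow_mul, add_zero]
    rw [h3, ← map_pow, ← map_pow, ← map_mul, evalₐ_algebraMap, evalₐ_algebraMap,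
      ← sub_eq_zero, ← map_sub, Ideal.Quotient.eq_zero_iff_mem, Ideal.span_singleton_pow,
      Ideal.mem_span_singleton] at h2
    obtain ⟨b, hb⟩ := h2
    -- `t^j * a = t^(j+m) * (1 - t * b)`
    have h4 : t ^ j * a = t ^ (j + m) * (1 + t * (-b)) := by
      linear_combination (-1 : A) * hb
    have h5 := congrArg (algebraMap A (Localization.Away t)) h4
    rw [map_mul, map_mul, map_pow, map_pow, pow_add, mul_assoc] at h5
    have h6 : algebraMap A (Localization.Away t) a = algebraMap A (Localization.Away t) t ^ m * algebraMap A (Localization.Away t) (1 + t * (-b)) :=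
      (htL.pow j).mul_left_cancel h5
    rw [h6, mul_comm] at hya
    have h7 : y = algebraMap A (Localization.Away t) (1 + t * (-b)) := (htL.pow m).mul_left_cancel hya
    rw [h7]
    refine IsUnit.map _ ?_
    have := Ideal.mem_jacobson_bot.mp ht (-b)
    rwa [add_comm] at this
  have H3 : ∀ z : Ahat, IsUnit (1 + (algebraMap A Ahat t) * z) := by
    intro z
    haveI : IsAdicComplete (Ideal.span {t}) Ahat := AdicCompletion.isAdicComplete ⟨{t}, by simp⟩
    haveI : IsAdicComplete ((Ideal.span {t}).map (algebraMap A Ahat)) Ahat :=
      (IsAdicComplete.map_algebraMap_iff (Ideal.span {t}) Ahat).mpr inferInstance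
    have hmem : (algebraMap A Ahat t) ∈ (⊥ : Ideal Ahat).jacobson :=
      IsAdicComplete.le_jacobson_bot ((Ideal.span {t}).map (algebraMap A Ahat))
        (Ideal.mem_map_of_mem _ (Ideal.mem_span_singleton_self t))
    have := Ideal.mem_jacobson_bot.mp hmem z
    rwa [add_comm] at this
  exact ⟨fun M N _ _ _ _ _ _ _ _ h =>
      approx_injective (algebraMap A Ahat t) (RingEquiv.refl (Localization.Away (algebraMap A Ahat t))) _ htL hι H1 H2 M N h,
    fun M' _ _ _ h =>
      approx_stablyFree (algebraMap A Ahat t) (RingEquiv.refl (Localization.Away (algebraMap A Ahat t))) _ htL hι H1 H2 H3 M' h⟩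

end adic

end Groth.Agent.Lib.Helper11.Hk
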