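import Mathlib
import Groth.Agent.Lib.Helper11.HkU7

set_option autoImplicit false
set_option linter.unusedSectionVars false
set_option linter.unusedVariables false
set_option linter.style.haveILetI false

open Module TensorProduct

universe u v

namespace Groth.Agent.Lib.Helper11.Hk

section idem

variable {R : Type*} [CommRing R]

lemma sub_pow_three_of_idem {e f : R} (he : IsIdempotentElem e) (hf : IsIdempotentElem f) :
    (e - f) ^ 3 = e - f := by
  have h1 : e * e = e := he.eq
  have h2 : f * f = f := hf.eq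
  linear_combination (e - 3 * f + 1) * h1 + (3 * e - f - 1) * h2

lemma eq_zero_of_pow_three {d : R} (h3 : d ^ 3 = d) (hu : IsUnit (1 - d ^ 2)) : d = 0 := by
  have : (1 - d ^ 2) * d = 0 := by linear_combination (-1 : R) * h3
  exact (hu.mul_right_eq_zero).mp this

end idem

section adicIdem

variable {A : Type u} [CommRing A] (t : A)

local notation "Ahat" => Ahat' A t

lemma awayMap_algebraMap' (a : A) :
    Localization.awayMap (algebraMap A Ahat) t (algebraMap A (Localization.Away t) a) =
      algebraMap Ahat (Localization.Away (algebraMap A Ahat t)) (algebraMap A Ahat a) := by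
  simp [Localization.awayMap, IsLocalization.Away.map, IsLocalization.map_eq]

lemma isUnit_of_awayMap_eq (ht : t ∈ (⊥ : Ideal A).jacobson) (y : Localization.Away t) (z : Ahat)
    (hy : Localization.awayMap (algebraMap A Ahat) t y =
      algebraMap Ahat (Localization.Away (algebraMap A Ahat t)) (1 + (algebraMap A Ahat t) * z)) :
    IsUnit y := by
  have htL : IsUnit (algebraMap A (Localization.Away t) t) := IsLocalization.Away.algebraMap_isUnit t
  obtain ⟨m, a, hya⟩ := IsLocalization.Away.surj t y
  have h1 := congrArg (Localization.awayMap (algebraMap A Ahat) t) hya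
  rw [map_mul, map_pow, awayMap_algebraMap', awayMap_algebraMap', hy, ← map_pow, ← map_mul] at h1
  obtain ⟨j, hj⟩ := IsLocalization.Away.exists_of_eq (algebraMap A Ahat t) h1
  have h2 := congrArg (AdicCompletion.evalₐ (Ideal.span {t}) (j + m + 1)) hj
  have h3 : AdicCompletion.evalₐ (Ideal.span {t}) (j + m + 1) ((algebraMap A Ahat t) ^ j * ((1 + (algebraMap A Ahat t) * z) * (algebraMap A Ahat t) ^ m)) =
      AdicCompletion.evalₐ (Ideal.span {t}) (j + m + 1) ((algebraMap A Ahat t) ^ (j + m)) := by
    have : (algebraMap A Ahat t) ^ j * ((1 + (algebraMap A Ahat t) * z) * (algebraMap A Ahat t) ^ m) = (algebraMap A Ahat t) ^ (j + m) + (algebraMap A Ahat t) ^ (j + m + 1) * z := by ring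
    rw [this, map_add, evalₐ_pow_mul, add_zero]
  rw [h3, ← map_pow, ← map_pow, ← map_mul, evalₐ_algebraMap, evalₐ_algebraMap,
    ← sub_eq_zero, ← map_sub, Ideal.Quotient.eq_zero_iff_mem, Ideal.span_singleton_pow,
    Ideal.mem_span_singleton] at h2
  obtain ⟨b, hb⟩ := h2
  have h4 : t ^ j * a = t ^ (j + m) * (1 + t * (-b)) := by
    linear_combination (-1 : A) * hb
  have h5 := congrArg (algebraMap A (Localization.Away t)) h4
  rw [map_mul, map_mul, map_pow, map_pow, pow_add, mul_assoc] at h5
  have h6 : algebraMap A (Localization.Away t) a = algebraMap A (Localization.Away t) t ^ m * algebraMap A (Localization.Away t) (1 + t * (-b)) :=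
    (htL.pow j).mul_left_cancel h5
  rw [h6, mul_comm] at hya
  have h7 : y = algebraMap A (Localization.Away t) (1 + t * (-b)) := (htL.pow m).mul_left_cancel hya
  rw [h7]
  refine IsUnit.map _ ?_
  have := Ideal.mem_jacobson_bot.mp ht (-b)
  rwa [add_comm] at this

lemma isUnit_one_add_hat_mul (z : Ahat) : IsUnit (1 + (algebraMap A Ahat t) * z) := by
  haveI : IsAdicComplete (Ideal.span {t}) Ahat := AdicCompletion.isAdicComplete ⟨{t}, by simp⟩
  haveI : IsAdicComplete ((Ideal.span {t}).map (algebraMap A Ahat)) Ahat :=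
    (IsAdicComplete.map_algebraMap_iff (Ideal.span {t}) Ahat).mpr inferInstance
  have hmem : (algebraMap A Ahat t) ∈ (⊥ : Ideal Ahat).jacobson :=
    IsAdicComplete.le_jacobson_bot ((Ideal.span {t}).map (algebraMap A Ahat))
      (Ideal.mem_map_of_mem _ (Ideal.mem_span_singleton_self t))
  have := Ideal.mem_jacobson_bot.mp hmem z
  rwa [add_comm] at this

/-- Lifting an exact root of `T² - t^a T` in `Â` to an exact root in `A`, `t^(a+1)`-close. -/
lemma exists_root_of_hat_root [HenselianRing A (Ideal.span {t})] (a : ℕ) (xh : Ahat)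
    (hxP : xh ^ 2 = algebraMap A Ahat t ^ a * xh) :
    ∃ (x : A) (wh : Ahat), x ^ 2 = t ^ a * x ∧
      algebraMap A Ahat x - xh = algebraMap A Ahat t ^ a * (algebraMap A Ahat t * wh) := by
  have ht : t ∈ (⊥ : Ideal A).jacobson :=
    HenselianRing.jac (I := Ideal.span {t}) (Ideal.mem_span_singleton_self t)
  obtain ⟨x₀, hx₀⟩ := Ideal.Quotient.mk_surjective
    (AdicCompletion.evalₐ (Ideal.span {t}) (3 * a + 1) xh)
  have h0 : AdicCompletion.evalₐ (Ideal.span {t}) (3 * a + 1) (xh - algebraMap A Ahat x₀) = 0 := by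
    rw [map_sub, evalₐ_algebraMap, hx₀, sub_self]
  obtain ⟨zh, hzh⟩ := exists_eq_pow_mul_of_evalₐ_eq_zero t (3 * a + 1) _ h0
  have hx₀' : algebraMap A Ahat x₀ = xh - algebraMap A Ahat t ^ (3 * a + 1) * zh := by
    rw [← hzh]; ring
  have h2 : algebraMap A Ahat (x₀ ^ 2 - t ^ a * x₀) = algebraMap A Ahat t ^ (3 * a + 1) *
      (-2 * xh * zh + algebraMap A Ahat t ^ (3 * a + 1) * zh ^ 2 + algebraMap A Ahat t ^ a * zh) := by
    rw [map_sub, map_pow, map_mul, map_pow, hx₀']
    linear_combination hxP
  obtain ⟨b, hb⟩ : ∃ b, x₀ ^ 2 - t ^ a * x₀ = t ^ (3 * a + 1) * b := by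
    have := congrArg (AdicCompletion.evalₐ (Ideal.span {t}) (3 * a + 1)) h2
    rw [evalₐ_pow_mul, evalₐ_algebraMap, Ideal.Quotient.eq_zero_iff_mem, Ideal.span_singleton_pow,
      Ideal.mem_span_singleton] at this
    obtain ⟨b, hb⟩ := this
    exact ⟨b, hb⟩
  -- the unit `1 + 4 t^(a+1) b`
  have hu : IsUnit (1 + t * (4 * t ^ a * b)) := by
    have := Ideal.mem_jacobson_bot.mp ht (4 * t ^ a * b)
    rwa [add_comm] at this
  obtain ⟨Ui, hUi⟩ := hu.exists_right_inv
  -- Hensel for `Y² + Y + c`
  have hf : (Polynomial.X ^ 2 + Polynomial.X + Polynomial.C (t ^ (a + 1) * b * Ui) :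
      Polynomial A).Monic := by
    monicity!
  have hf0 : (Polynomial.X ^ 2 + Polynomial.X + Polynomial.C (t ^ (a + 1) * b * Ui) :
      Polynomial A).eval 0 ∈ Ideal.span {t} := by
    simp only [Polynomial.eval_add, Polynomial.eval_pow, Polynomial.eval_X, Polynomial.eval_C]
    rw [Ideal.mem_span_singleton]
    exact ⟨t ^ a * b * Ui, by ring⟩
  have hf1 : IsUnit (Ideal.Quotient.mk (Ideal.span {t})
      ((Polynomial.X ^ 2 + Polynomial.X + Polynomial.C (t ^ (a + 1) * b * Ui) :
      Polynomial A).derivative.eval 0)) := by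
    have : (Polynomial.X ^ 2 + Polynomial.X + Polynomial.C (t ^ (a + 1) * b * Ui) :
        Polynomial A).derivative.eval 0 = 1 := by
      rw [Polynomial.derivative_add, Polynomial.derivative_add, Polynomial.derivative_C,
        Polynomial.derivative_X, Polynomial.derivative_X_pow]
      simp
    rw [this, map_one]
    exact isUnit_one
  obtain ⟨y, hy, hy0⟩ := HenselianRing.is_henselian _ hf 0 hf0 hf1
  rw [Polynomial.IsRoot.def] at hy
  simp only [Polynomial.eval_add, Polynomial.eval_pow, Polynomial.eval_X, Polynomial.eval_C] at hy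
  rw [sub_zero, Ideal.mem_span_singleton] at hy0
  obtain ⟨y', hy'⟩ := hy0
  have hv : IsUnit (1 + t * y') := by
    have := Ideal.mem_jacobson_bot.mp ht y'
    rwa [add_comm] at this
  obtain ⟨Vi, hVi⟩ := hv.exists_right_inv
  -- `y = t^(a+1) * w`
  have hyw : y = t ^ (a + 1) * (-b * Ui * Vi) := by
    rw [← hy'] at hVi
    linear_combination (-y) * hVi + Vi * hy
  refine ⟨x₀ + (2 * x₀ - t ^ a) * y,
    algebraMap A Ahat ((2 * x₀ - t ^ a) * (-b * Ui * Vi)) - algebraMap A Ahat t ^ (2 * a) * zh, ?_, ?_⟩
  · linear_combination (1 + 4 * (y ^ 2 + y)) * hb + t ^ (2 * a) * (1 + t * (4 * t ^ a * b)) * hy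
      - t ^ (3 * a + 1) * b * hUi
  · rw [map_add, hx₀']
    conv_lhs => rw [hyw]
    simp only [map_mul, map_sub, map_pow, map_neg, map_ofNat]
    ring

/-- **Idempotents of `Â[1/t]` come from unique idempotents of `A[1/t]`** for a Henselian pair
`(A, tA)`. -/
theorem adic_idempotent_main [HenselianRing A (Ideal.span {t})]
    (e : Localization.Away (algebraMap A Ahat t)) (he : IsIdempotentElem e) :
    ∃! e₀ : Localization.Away t, IsIdempotentElem e₀ ∧
      Localization.awayMap (algebraMap A Ahat) t e₀ = e := by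
  have ht : t ∈ (⊥ : Ideal A).jacobson :=
    HenselianRing.jac (I := Ideal.span {t}) (Ideal.mem_span_singleton_self t)
  have htL : IsUnit (algebraMap A (Localization.Away t) t) := IsLocalization.Away.algebraMap_isUnit t
  -- Step 1: write `e = φ(xh) / t^a` with `xh² = t^a xh` exactly
  obtain ⟨a₁, x₁, hx₁⟩ := IsLocalization.Away.surj (algebraMap A Ahat t) e
  have h1 : algebraMap Ahat (Localization.Away (algebraMap A Ahat t)) (x₁ ^ 2) =
      algebraMap Ahat (Localization.Away (algebraMap A Ahat t)) (algebraMap A Ahat t ^ a₁ * x₁) := by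
    rw [map_pow, map_mul, map_pow, ← hx₁]
    have := he.eq
    linear_combination
      (algebraMap Ahat (Localization.Away (algebraMap A Ahat t)) (algebraMap A Ahat t) ^ a₁) ^ 2 * this
  obtain ⟨j, hj⟩ := IsLocalization.Away.exists_of_eq (algebraMap A Ahat t) h1
  obtain ⟨a, xh, hxe, hxP⟩ : ∃ (a : ℕ) (xh : Ahat),
      e * algebraMap Ahat (Localization.Away (algebraMap A Ahat t)) (algebraMap A Ahat t) ^ a =
        algebraMap Ahat (Localization.Away (algebraMap A Ahat t)) xh ∧
      xh ^ 2 = algebraMap A Ahat t ^ a * xh := by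
    refine ⟨a₁ + j, algebraMap A Ahat t ^ j * x₁, ?_, ?_⟩
    · rw [pow_add, ← mul_assoc, hx₁, map_mul, map_pow]; ring
    · linear_combination (algebraMap A Ahat t ^ j) * hj
  -- Step 2: lift the root
  obtain ⟨x, wh, hx, hxw⟩ := exists_root_of_hat_root t a xh hxP
  obtain ⟨Ti, hTi⟩ := htL.exists_right_inv
  have hpq : algebraMap A (Localization.Away t) t ^ a * Ti ^ a = 1 := by
    rw [← mul_pow, hTi, one_pow]
  have hxL : algebraMap A (Localization.Away t) x ^ 2 =
      algebraMap A (Localization.Away t) t ^ a * algebraMap A (Localization.Away t) x := by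
    rw [← map_pow, ← map_pow, ← map_mul, hx]
  have he₀ : IsIdempotentElem (algebraMap A (Localization.Away t) x * Ti ^ a) := by
    show _ * _ = _
    linear_combination (Ti ^ a) ^ 2 * hxL + algebraMap A (Localization.Away t) x * Ti ^ a * hpq
  have hpq' : algebraMap Ahat (Localization.Away (algebraMap A Ahat t)) (algebraMap A Ahat t) ^ a *
      Localization.awayMap (algebraMap A Ahat) t Ti ^ a = 1 := by
    have := congrArg (Localization.awayMap (algebraMap A Ahat) t) hpq
    rwa [map_mul, map_pow, map_pow, awayMap_algebraMap', map_one] at this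
  have hιe₀ : Localization.awayMap (algebraMap A Ahat) t
      (algebraMap A (Localization.Away t) x * Ti ^ a) = e := by
    have hd : Localization.awayMap (algebraMap A Ahat) t
        (algebraMap A (Localization.Away t) x * Ti ^ a) - e =
        algebraMap Ahat (Localization.Away (algebraMap A Ahat t)) (algebraMap A Ahat t * wh) := by
      have h3 := congrArg (algebraMap Ahat (Localization.Away (algebraMap A Ahat t))) hxw
      rw [map_sub, map_mul, map_pow] at h3
      rw [map_mul, map_pow, awayMap_algebraMap']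
      linear_combination (Localization.awayMap (algebraMap A Ahat) t Ti ^ a) * h3
        - (Localization.awayMap (algebraMap A Ahat) t Ti ^ a) * hxe
        + (algebraMap Ahat (Localization.Away (algebraMap A Ahat t)) (algebraMap A Ahat t * wh) + e) * hpq'
    have h3 : (Localization.awayMap (algebraMap A Ahat) t
        (algebraMap A (Localization.Away t) x * Ti ^ a) - e) ^ 3 = _ :=
      sub_pow_three_of_idem (he₀.map (Localization.awayMap (algebraMap A Ahat) t)) he
    have hu : IsUnit (1 - (Localization.awayMap (algebraMap A Ahat) t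
        (algebraMap A (Localization.Away t) x * Ti ^ a) - e) ^ 2) := by
      rw [hd, ← map_pow, ← map_one (algebraMap Ahat (Localization.Away (algebraMap A Ahat t))),
        ← map_sub]
      refine IsUnit.map _ ?_
      have := isUnit_one_add_hat_mul t (-(algebraMap A Ahat t * wh ^ 2))
      convert this using 1
      ring
    exact sub_eq_zero.mp (eq_zero_of_pow_three h3 hu)
  refine ⟨algebraMap A (Localization.Away t) x * Ti ^ a, ⟨he₀, hιe₀⟩, ?_⟩
  rintro e₁ ⟨he₁, hιe₁⟩
  have h3 := sub_pow_three_of_idem he₁ he₀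
  have hu : IsUnit (1 - (e₁ - algebraMap A (Localization.Away t) x * Ti ^ a) ^ 2) := by
    refine isUnit_of_awayMap_eq t ht _ 0 ?_
    rw [map_sub, map_one, map_pow, map_sub, hιe₁, hιe₀, mul_zero, add_zero, map_one]
    ring
  exact sub_eq_zero.mp (eq_zero_of_pow_three h3 hu)

end adicIdem

end Groth.Agent.Lib.Helper11.Hk
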