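import Mathlib
import Groth.Agent.Lib.Helper11.HkV

/-!
# Abstract form of the idempotent comparison `A[1/t] → Ô[1/t]` for a Henselian pair `(A, tA)`

`φ : A → O` is any ring map which behaves like the map to the `t`-adic completion:
* `P1` every element of `O` is approximated by `A` modulo `t^N`;
* `P2` `φ a ∈ t^N O` implies `a ∈ t^N A`;
* `P3` `1 + t z` is a unit of `O`.
-/

set_option autoImplicit false
set_option linter.unusedSectionVars false
set_option linter.unusedVariables false
set_option linter.style.haveILetI false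

namespace Groth.Agent.Lib.Helper11.HkW

open Groth.Agent.Lib.Helper11.Hk

variable {A O : Type*} [CommRing A] [CommRing O] (t : A) (φ : A →+* O)

lemma awayMap_algebraMap (a : A) :
    Localization.awayMap φ t (algebraMap A (Localization.Away t) a) =
      algebraMap O (Localization.Away (φ t)) (φ a) := by
  simp [Localization.awayMap, IsLocalization.Away.map, IsLocalization.map_eq]

lemma isUnit_of_awayMap_eq
    (P2 : ∀ (a : A) (N : ℕ) (z : O), φ a = φ t ^ N * z → ∃ b : A, a = t ^ N * b)
    (ht : t ∈ (⊥ : Ideal A).jacobson) (y : Localization.Away t) (z : O)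
    (hy : Localization.awayMap φ t y = algebraMap O (Localization.Away (φ t)) (1 + φ t * z)) :
    IsUnit y := by
  have htL : IsUnit (algebraMap A (Localization.Away t) t) := IsLocalization.Away.algebraMap_isUnit t
  obtain ⟨m, a, hya⟩ := IsLocalization.Away.surj t y
  have h1 := congrArg (Localization.awayMap φ t) hya
  rw [map_mul, map_pow, awayMap_algebraMap, awayMap_algebraMap, hy, ← map_pow, ← map_mul] at h1
  obtain ⟨j, hj⟩ := IsLocalization.Away.exists_of_eq (φ t) h1
  have h2 : φ (t ^ j * a - t ^ (j + m)) = φ t ^ (j + m + 1) * z := by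
    rw [map_sub, map_mul, map_pow, map_pow]
    linear_combination (-1 : O) * hj
  obtain ⟨b, hb⟩ := P2 _ _ _ h2
  have h4 : t ^ j * a = t ^ (j + m) * (1 + t * b) := by
    linear_combination hb
  have h5 := congrArg (algebraMap A (Localization.Away t)) h4
  rw [map_mul, map_mul, map_pow, map_pow, pow_add, mul_assoc] at h5
  have h6 : algebraMap A (Localization.Away t) a = algebraMap A (Localization.Away t) t ^ m * algebraMap A (Localization.Away t) (1 + t * b) :=
    (htL.pow j).mul_left_cancel h5
  rw [h6, mul_comm] at hya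
  have h7 : y = algebraMap A (Localization.Away t) (1 + t * b) := (htL.pow m).mul_left_cancel hya
  rw [h7]
  refine IsUnit.map _ ?_
  have := Ideal.mem_jacobson_bot.mp ht b
  rwa [add_comm] at this

/-- Lifting an exact root of `T² - t^a T` in `O` to an exact root in `A`, `t^(a+1)`-close. -/
lemma exists_root_of_hat_root [HenselianRing A (Ideal.span {t})]
    (P1 : ∀ (x : O) (N : ℕ), ∃ (x₀ : A) (z : O), x = φ x₀ + φ t ^ N * z)
    (P2 : ∀ (a : A) (N : ℕ) (z : O), φ a = φ t ^ N * z → ∃ b : A, a = t ^ N * b)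
    (a : ℕ) (xh : O) (hxP : xh ^ 2 = φ t ^ a * xh) :
    ∃ (x : A) (wh : O), x ^ 2 = t ^ a * x ∧ φ x - xh = φ t ^ a * (φ t * wh) := by
  have ht : t ∈ (⊥ : Ideal A).jacobson :=
    HenselianRing.jac (I := Ideal.span {t}) (Ideal.mem_span_singleton_self t)
  obtain ⟨x₀, zh, hzh⟩ := P1 xh (3 * a + 1)
  have hx₀' : φ x₀ = xh - φ t ^ (3 * a + 1) * zh := by
    rw [hzh]; ring
  have h2 : φ (x₀ ^ 2 - t ^ a * x₀) = φ t ^ (3 * a + 1) *
      (-2 * xh * zh + φ t ^ (3 * a + 1) * zh ^ 2 + φ t ^ a * zh) := by
    rw [map_sub, map_pow, map_mul, map_pow, hx₀']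
    linear_combination hxP
  obtain ⟨b, hb⟩ := P2 _ _ _ h2
  -- the unit `1 + 4 t^(a+1) b`
  have hu : IsUnit (1 + t * (4 * t ^ a * b)) := by
    have := Ideal.mem_jacobson_bot.mp ht (4 * t ^ a * b)
    rwa [add_comm] at this
  obtain ⟨Ui, hUi⟩ := hu.exists_right_inv
  -- Hensel for `Y² + Y + c`
  have hf : (Polynomial.X ^ 2 + Polynomial.X + Polynomial.C (t ^ (a + 1) * b * Ui) :
      Polynomial A).Monic := by
    monicity!
  have hf0 : (Polynomial.X ^ 2 + Polynomial.X + Polynomial.C (t ^ (a + 1) * b * Ui) :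
      Polynomial A).eval 0 ∈ Ideal.span {t} := by
    simp only [Polynomial.eval_add, Polynomial.eval_pow, Polynomial.eval_X, Polynomial.eval_C]
    rw [Ideal.mem_span_singleton]
    exact ⟨t ^ a * b * Ui, by ring⟩
  have hf1 : IsUnit (Ideal.Quotient.mk (Ideal.span {t})
      ((Polynomial.X ^ 2 + Polynomial.X + Polynomial.C (t ^ (a + 1) * b * Ui) :
      Polynomial A).derivative.eval 0)) := by
    have : (Polynomial.X ^ 2 + Polynomial.X + Polynomial.C (t ^ (a + 1) * b * Ui) :
        Polynomial A).derivative.eval 0 = 1 := by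
      rw [Polynomial.derivative_add, Polynomial.derivative_add, Polynomial.derivative_C,
        Polynomial.derivative_X, Polynomial.derivative_X_pow]
      simp
    rw [this, map_one]
    exact isUnit_one
  obtain ⟨y, hy, hy0⟩ := HenselianRing.is_henselian _ hf 0 hf0 hf1
  rw [Polynomial.IsRoot.def] at hy
  simp only [Polynomial.eval_add, Polynomial.eval_pow, Polynomial.eval_X, Polynomial.eval_C] at hy
  rw [sub_zero, Ideal.mem_span_singleton] at hy0
  obtain ⟨y', hy'⟩ := hy0
  have hv : IsUnit (1 + t * y') := by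
    have := Ideal.mem_jacobson_bot.mp ht y'
    rwa [add_comm] at this
  obtain ⟨Vi, hVi⟩ := hv.exists_right_inv
  -- `y = t^(a+1) * w`
  have hyw : y = t ^ (a + 1) * (-b * Ui * Vi) := by
    rw [← hy'] at hVi
    linear_combination (-y) * hVi + Vi * hy
  refine ⟨x₀ + (2 * x₀ - t ^ a) * y,
    φ ((2 * x₀ - t ^ a) * (-b * Ui * Vi)) - φ t ^ (2 * a) * zh, ?_, ?_⟩
  · linear_combination (1 + 4 * (y ^ 2 + y)) * hb + t ^ (2 * a) * (1 + t * (4 * t ^ a * b)) * hy
      - t ^ (3 * a + 1) * b * hUi
  · rw [map_add, hx₀']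
    conv_lhs => rw [hyw]
    simp only [map_mul, map_sub, map_pow, map_neg, map_ofNat]
    ring

/-- **Idempotents of `O[1/t]` come from unique idempotents of `A[1/t]`** for a Henselian pair
`(A, tA)` and a completion-like map `φ : A → O`. -/
theorem idempotent_main [HenselianRing A (Ideal.span {t})]
    (P1 : ∀ (x : O) (N : ℕ), ∃ (x₀ : A) (z : O), x = φ x₀ + φ t ^ N * z)
    (P2 : ∀ (a : A) (N : ℕ) (z : O), φ a = φ t ^ N * z → ∃ b : A, a = t ^ N * b)
    (P3 : ∀ z : O, IsUnit (1 + φ t * z))
    (e : Localization.Away (φ t)) (he : IsIdempotentElem e) :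
    ∃! e₀ : Localization.Away t, IsIdempotentElem e₀ ∧ Localization.awayMap φ t e₀ = e := by
  have ht : t ∈ (⊥ : Ideal A).jacobson :=
    HenselianRing.jac (I := Ideal.span {t}) (Ideal.mem_span_singleton_self t)
  have htL : IsUnit (algebraMap A (Localization.Away t) t) := IsLocalization.Away.algebraMap_isUnit t
  -- Step 1: write `e = φ(xh) / t^a` with `xh² = t^a xh` exactly
  obtain ⟨a₁, x₁, hx₁⟩ := IsLocalization.Away.surj (φ t) e
  have h1 : algebraMap O (Localization.Away (φ t)) (x₁ ^ 2) =
      algebraMap O (Localization.Away (φ t)) (φ t ^ a₁ * x₁) := by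
    rw [map_pow, map_mul, map_pow, ← hx₁]
    have := he.eq
    linear_combination
      (algebraMap O (Localization.Away (φ t)) (φ t) ^ a₁) ^ 2 * this
  obtain ⟨j, hj⟩ := IsLocalization.Away.exists_of_eq (φ t) h1
  obtain ⟨a, xh, hxe, hxP⟩ : ∃ (a : ℕ) (xh : O),
      e * algebraMap O (Localization.Away (φ t)) (φ t) ^ a =
        algebraMap O (Localization.Away (φ t)) xh ∧
      xh ^ 2 = φ t ^ a * xh := by
    refine ⟨a₁ + j, φ t ^ j * x₁, ?_, ?_⟩
    · rw [pow_add, ← mul_assoc, hx₁, map_mul, map_pow]; ring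
    · linear_combination (φ t ^ j) * hj
  -- Step 2: lift the root
  obtain ⟨x, wh, hx, hxw⟩ := exists_root_of_hat_root t φ P1 P2 a xh hxP
  obtain ⟨Ti, hTi⟩ := htL.exists_right_inv
  have hpq : algebraMap A (Localization.Away t) t ^ a * Ti ^ a = 1 := by
    rw [← mul_pow, hTi, one_pow]
  have hxL : algebraMap A (Localization.Away t) x ^ 2 =
      algebraMap A (Localization.Away t) t ^ a * algebraMap A (Localization.Away t) x := by
    rw [← map_pow, ← map_pow, ← map_mul, hx]
  have he₀ : IsIdempotentElem (algebraMap A (Localization.Away t) x * Ti ^ a) := by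
    show _ * _ = _
    linear_combination (Ti ^ a) ^ 2 * hxL + algebraMap A (Localization.Away t) x * Ti ^ a * hpq
  have hpq' : algebraMap O (Localization.Away (φ t)) (φ t) ^ a *
      Localization.awayMap φ t Ti ^ a = 1 := by
    have := congrArg (Localization.awayMap φ t) hpq
    rwa [map_mul, map_pow, map_pow, awayMap_algebraMap, map_one] at this
  have hιe₀ : Localization.awayMap φ t
      (algebraMap A (Localization.Away t) x * Ti ^ a) = e := by
    have hd : Localization.awayMap φ t
        (algebraMap A (Localization.Away t) x * Ti ^ a) - e =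
        algebraMap O (Localization.Away (φ t)) (φ t * wh) := by
      have h3 := congrArg (algebraMap O (Localization.Away (φ t))) hxw
      rw [map_sub, map_mul, map_pow] at h3
      rw [map_mul, map_pow, awayMap_algebraMap]
      linear_combination (Localization.awayMap φ t Ti ^ a) * h3
        - (Localization.awayMap φ t Ti ^ a) * hxe
        + (algebraMap O (Localization.Away (φ t)) (φ t * wh) + e) * hpq'
    have h3 : (Localization.awayMap φ t
        (algebraMap A (Localization.Away t) x * Ti ^ a) - e) ^ 3 = _ :=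
      sub_pow_three_of_idem (he₀.map (Localization.awayMap φ t)) he
    have hu : IsUnit (1 - (Localization.awayMap φ t
        (algebraMap A (Localization.Away t) x * Ti ^ a) - e) ^ 2) := by
      rw [hd, ← map_pow, ← map_one (algebraMap O (Localization.Away (φ t))),
        ← map_sub]
      refine IsUnit.map _ ?_
      have := P3 (-(φ t * wh ^ 2))
      convert this using 1
      ring
    exact sub_eq_zero.mp (eq_zero_of_pow_three h3 hu)
  refine ⟨algebraMap A (Localization.Away t) x * Ti ^ a, ⟨he₀, hιe₀⟩, ?_⟩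
  rintro e₁ ⟨he₁, hιe₁⟩
  have h3 := sub_pow_three_of_idem he₁ he₀
  have hu : IsUnit (1 - (e₁ - algebraMap A (Localization.Away t) x * Ti ^ a) ^ 2) := by
    refine isUnit_of_awayMap_eq t φ P2 ht _ 0 ?_
    rw [map_sub, map_one, map_pow, map_sub, hιe₁, hιe₀, mul_zero, add_zero, map_one]
    ring
  exact sub_eq_zero.mp (eq_zero_of_pow_three h3 hu)

end Groth.Agent.Lib.Helper11.HkW
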