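import Mathlib
import Groth.Agent.Lib.Helper11.HkW1

/-!
# Idempotents of `R⟦X⟧[1/X]` are the idempotents of `R`
-/

set_option autoImplicit false
set_option linter.unusedSectionVars false
set_option linter.unusedVariables false
set_option linter.style.haveILetI false

universe u

namespace Groth.Agent.Lib.Helper11.HkW

open Groth.Agent.Lib.Helper11.Hk PowerSeries

/-- elements of `R⟦X⟧` killed by `R⟦X⟧ → (R/c)⟦X⟧` are multiples of `c` -/
lemma exists_eq_C_mul_of_map_eq_zero {R : Type u} [CommRing R] (c : R) (h : R⟦X⟧)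
    (hh : PowerSeries.map (Ideal.Quotient.mk (Ideal.span {c})) h = 0) :
    ∃ s : R⟦X⟧, h = C c * s := by
  have h1 : ∀ n, ∃ sn : R, coeff n h = c * sn := by
    intro n
    have := congrArg (coeff n) hh
    rw [coeff_map, map_zero, Ideal.Quotient.eq_zero_iff_mem, Ideal.mem_span_singleton] at this
    obtain ⟨sn, hsn⟩ := this
    exact ⟨sn, hsn⟩
  choose s hs using h1
  refine ⟨PowerSeries.mk s, ?_⟩
  ext n
  rw [coeff_C_mul, coeff_mk, hs]

theorem idem_ps : ∀ (a : ℕ) (R : Type u) [CommRing R] (g : R⟦X⟧), g ^ 2 = X ^ a * g →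
    ∃ r : R, r * r = r ∧ g = X ^ a * C r := by
  intro a
  induction a with
  | zero =>
    intro R _ g hg
    rw [pow_zero, one_mul] at hg
    have hgi : IsIdempotentElem g := by rw [IsIdempotentElem, ← sq]; exact hg
    set r := constantCoeff g with hr
    have hri : r * r = r := by
      have := congrArg constantCoeff hg
      rw [map_pow, sq] at this
      exact this
    have hCi : IsIdempotentElem (C r : R⟦X⟧) := by
      rw [IsIdempotentElem, ← map_mul, hri]
    refine ⟨r, hri, ?_⟩
    rw [pow_zero, one_mul]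
    have h3 := sub_pow_three_of_idem hgi hCi
    have hu : IsUnit (1 - (g - C r) ^ 2) := by
      rw [PowerSeries.isUnit_iff_constantCoeff]
      simp [hr]
    exact sub_eq_zero.mp (eq_zero_of_pow_three h3 hu)
  | succ a ih =>
    intro R _ g hg
    set c := constantCoeff g with hc
    have hc2 : c * c = 0 := by
      have := congrArg constantCoeff hg
      rw [map_pow, map_mul, map_pow, constantCoeff_X, zero_pow (Nat.succ_ne_zero a), zero_mul,
        sq] at this
      exact this
    let π := Ideal.Quotient.mk (Ideal.span {c})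
    set g' := PowerSeries.map π g with hg'
    have hg'0 : constantCoeff g' = 0 := by
      rw [hg', ← coeff_zero_eq_constantCoeff_apply, coeff_map, coeff_zero_eq_constantCoeff_apply,
        ← hc, Ideal.Quotient.eq_zero_iff_mem]
      exact Ideal.mem_span_singleton_self c
    obtain ⟨g'', hg''⟩ := X_dvd_iff.mpr hg'0
    have hg'sq : g' ^ 2 = X ^ (a + 1) * g' := by
      have := congrArg (PowerSeries.map π) hg
      rwa [map_pow, map_mul, map_pow, map_X] at this
    have hg''sq : g'' ^ 2 = X ^ a * g'' := by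
      apply X_pow_mul_cancel (k := 2)
      rw [hg''] at hg'sq
      linear_combination hg'sq
    obtain ⟨r', hr', hgr'⟩ := ih (R ⧸ Ideal.span {c}) g'' hg''sq
    obtain ⟨ρ, hρ⟩ := Ideal.Quotient.mk_surjective r'
    obtain ⟨δ, hδ⟩ : ∃ δ, ρ * ρ - ρ = c * δ := by
      have : π (ρ * ρ - ρ) = 0 := by
        rw [map_sub, map_mul]
        show Ideal.Quotient.mk _ ρ * Ideal.Quotient.mk _ ρ - Ideal.Quotient.mk _ ρ = 0
        rw [hρ, hr', sub_self]
      rw [Ideal.Quotient.eq_zero_iff_mem, Ideal.mem_span_singleton] at this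
      obtain ⟨δ, hδ⟩ := this
      exact ⟨δ, hδ⟩
    set r := 3 * ρ ^ 2 - 2 * ρ ^ 3 with hr
    have hri : r * r = r := by
      have : r * r - r = (ρ * ρ - ρ) ^ 2 * (4 * ρ ^ 2 - 4 * ρ - 3) := by rw [hr]; ring
      rw [hδ] at this
      have h2 : r * r - r = 0 := by
        rw [this]
        linear_combination δ ^ 2 * (4 * ρ ^ 2 - 4 * ρ - 3) * hc2
      exact sub_eq_zero.mp h2
    have hπr : π r = r' := by
      have : r = ρ - (ρ * ρ - ρ) * (2 * ρ - 1) := by rw [hr]; ring
      rw [this, hδ, map_sub, map_mul, map_mul]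
      have hπc : π c = 0 := by
        rw [Ideal.Quotient.eq_zero_iff_mem]; exact Ideal.mem_span_singleton_self c
      rw [hπc, zero_mul, zero_mul, sub_zero]
      exact hρ
    have hmap : PowerSeries.map π (g - X ^ (a + 1) * C r) = 0 := by
      rw [map_sub, map_mul, map_pow, map_X, map_C, hπr, ← hg', hg'', hgr']
      ring
    obtain ⟨s, hs⟩ := exists_eq_C_mul_of_map_eq_zero c _ hmap
    have hCc2 : (C c : R⟦X⟧) * C c = 0 := by rw [← map_mul, hc2, map_zero]
    have hCr : (C r : R⟦X⟧) * C r = C r := by rw [← map_mul, hri]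
    have hgeq : g = X ^ (a + 1) * C r + C c * s := by rw [← hs]; ring
    have h5 : X ^ (a + 1) * ((2 * C r - 1) * (C c * s)) = X ^ (a + 1) * 0 := by
      have := hg
      rw [hgeq] at this
      rw [mul_zero]
      linear_combination this - (X : R⟦X⟧) ^ (a + 1) * X ^ (a + 1) * hCr - s ^ 2 * hCc2
    have h6 : (2 * C r - 1) * (C c * s) = 0 := X_pow_mul_cancel h5
    have h7 : C c * s = 0 := by
      have : ((2 * C r - 1) * (2 * C r - 1) : R⟦X⟧) = 1 := by linear_combination 4 * hCr
      calc C c * s = ((2 * C r - 1) * (2 * C r - 1)) * (C c * s) := by rw [this, one_mul]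
        _ = (2 * C r - 1) * ((2 * C r - 1) * (C c * s)) := by ring
        _ = 0 := by rw [h6, mul_zero]
    refine ⟨r, hri, ?_⟩
    rw [hgeq, h7, add_zero]

/-- idempotents of `R⟦X⟧[1/X]` come from idempotents of `R` -/
theorem idem_laurent {R : Type u} [CommRing R]
    (ε : Localization.Away (X : R⟦X⟧)) (hε : IsIdempotentElem ε) :
    ∃ r : R, IsIdempotentElem r ∧
      algebraMap R⟦X⟧ (Localization.Away (X : R⟦X⟧)) (C r) = ε := by
  have hXu : IsUnit (algebraMap R⟦X⟧ (Localization.Away (X : R⟦X⟧)) X) :=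
    IsLocalization.Away.algebraMap_isUnit _
  obtain ⟨a, g, hg⟩ := IsLocalization.Away.surj (X : R⟦X⟧) ε
  have h1 : algebraMap R⟦X⟧ (Localization.Away (X : R⟦X⟧)) (g ^ 2) =
      algebraMap R⟦X⟧ (Localization.Away (X : R⟦X⟧)) (X ^ a * g) := by
    rw [map_pow, map_mul, map_pow, ← hg]
    have := hε.eq
    linear_combination (algebraMap R⟦X⟧ (Localization.Away (X : R⟦X⟧)) X ^ a) ^ 2 * this
  obtain ⟨j, hj⟩ := IsLocalization.Away.exists_of_eq (X : R⟦X⟧) h1
  have hg2 : g ^ 2 = X ^ a * g := X_pow_mul_cancel hj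
  obtain ⟨r, hr, hgr⟩ := idem_ps a R g hg2
  refine ⟨r, hr, ?_⟩
  rw [hgr, map_mul, map_pow] at hg
  have := (hXu.pow a).mul_left_cancel (by rw [mul_comm] at hg; exact hg :
    algebraMap R⟦X⟧ (Localization.Away (X : R⟦X⟧)) X ^ a * ε =
      algebraMap R⟦X⟧ (Localization.Away (X : R⟦X⟧)) X ^ a *
        algebraMap R⟦X⟧ (Localization.Away (X : R⟦X⟧)) (C r))
  exact this.symm

theorem C_laurent_injective {R : Type u} [CommRing R] (r r' : R)
    (h : algebraMap R⟦X⟧ (Localization.Away (X : R⟦X⟧)) (C r) =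
      algebraMap R⟦X⟧ (Localization.Away (X : R⟦X⟧)) (C r')) : r = r' := by
  obtain ⟨j, hj⟩ := IsLocalization.Away.exists_of_eq (X : R⟦X⟧) h
  have := X_pow_mul_cancel hj
  exact C_injective this

end Groth.Agent.Lib.Helper11.HkW
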