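import Mathlib
import Groth.Prelude.Def_Hens2
import Groth.Agent.Lib.Helper11.HkW2
import Groth.Agent.Lib.Helper12.HzPairQuot

/-!
# Idempotents of `B[1/t]`, `B` the henselization of `R[t]` along `t`
-/

set_option autoImplicit false
set_option linter.unusedSectionVars false
set_option linter.unusedVariables false
set_option linter.style.haveILetI false

universe u

namespace Groth.Agent.Lib.Helper11.HkW

open Polynomial

theorem mem_span_X_pow_smul_top_iff (R : Type*) [CommRing R] (n : ℕ) (f : PowerSeries R) :
    f ∈ ((Ideal.span ({PowerSeries.X} : Set (PowerSeries R))) ^ n • ⊤ :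
      Submodule (PowerSeries R) (PowerSeries R)) ↔
      ∀ m < n, PowerSeries.coeff m f = 0 := by
  rw [smul_eq_mul, Ideal.mul_top, Ideal.span_singleton_pow, Ideal.mem_span_singleton,
    PowerSeries.X_pow_dvd_iff]

theorem isAdicComplete_span_X (R : Type*) [CommRing R] :
    IsAdicComplete (Ideal.span ({PowerSeries.X} : Set (PowerSeries R))) (PowerSeries R) where
  haus' := by
    intro f hf
    ext m
    have h := hf (m + 1)
    rw [SModEq.zero, mem_span_X_pow_smul_top_iff] at h
    simpa using h m (Nat.lt_succ_self m)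
  prec' := by
    intro f hf
    refine ⟨PowerSeries.mk (fun n => PowerSeries.coeff n (f (n + 1))), fun n => ?_⟩
    rw [SModEq.sub_mem, mem_span_X_pow_smul_top_iff]
    intro m hm
    rw [map_sub, PowerSeries.coeff_mk, sub_eq_zero]
    have h := hf (show m + 1 ≤ n from hm)
    rw [SModEq.sub_mem, mem_span_X_pow_smul_top_iff] at h
    have h2 := h m (Nat.lt_succ_self m)
    rw [map_sub, sub_eq_zero] at h2
    exact h2.symm

theorem idem_laurent' {R : Type u} [CommRing R] (x : PowerSeries R) (hx : x = PowerSeries.X)
    (ε : Localization.Away x) (hε : IsIdempotentElem ε) :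
    ∃ r : R, IsIdempotentElem r ∧
      algebraMap (PowerSeries R) (Localization.Away x) (PowerSeries.C r) = ε := by
  subst hx
  exact idem_laurent ε hε

theorem C_laurent_injective' {R : Type u} [CommRing R] (x : PowerSeries R)
    (hx : x = PowerSeries.X) (r r' : R)
    (h : algebraMap (PowerSeries R) (Localization.Away x) (PowerSeries.C r) =
      algebraMap (PowerSeries R) (Localization.Away x) (PowerSeries.C r')) : r = r' := by
  subst hx
  exact C_laurent_injective r r' h

theorem core (R : Type u) [CommRing R]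
    (B : Type u) [CommRing B] [Algebra R[X] B]
    (hB : Hens2.IsPairHenselization R[X] (Ideal.span {(X : R[X])}) B)
    (t : B) (ht : t = algebraMap R[X] B X)
    (e : Localization.Away t) (he : IsIdempotentElem e) :
    ∃! r : R, IsIdempotentElem r ∧
      algebraMap B (Localization.Away t)
        (algebraMap R[X] B (Polynomial.C r)) = e := by
  have hspan : (Ideal.span {(X : R[X])}).map (algebraMap R[X] B) = Ideal.span {t} := by
    rw [Ideal.map_span, Set.image_singleton, ht]
  haveI hHB : HenselianRing B (Ideal.span {t}) := hspan ▸ hB.1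
  haveI := isAdicComplete_span_X R
  haveI hHO : HenselianRing (PowerSeries R) (Ideal.span {(PowerSeries.X : PowerSeries R)}) :=
    inferInstance
  let f : R[X] →+* PowerSeries R := Polynomial.coeToPowerSeries.ringHom
  have hfX : f X = PowerSeries.X := Polynomial.coe_X
  have hle : (Ideal.span {(X : R[X])}).map f ≤ Ideal.span {(PowerSeries.X : PowerSeries R)} := by
    rw [Ideal.map_span, Set.image_singleton, hfX]
  obtain ⟨φ, hφ, -⟩ := hB.2 (PowerSeries R) (Ideal.span {PowerSeries.X}) f hHO hle
  have hφa : ∀ p : R[X], φ (algebraMap R[X] B p) = (p : PowerSeries R) := fun p =>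
    congrArg (fun ψ => ψ p) hφ
  have hφt : φ t = PowerSeries.X := by rw [ht, hφa, Polynomial.coe_X]
  -- P1
  have P1 : ∀ (x : PowerSeries R) (N : ℕ), ∃ (x₀ : B) (z : PowerSeries R),
      x = φ x₀ + φ t ^ N * z := by
    intro x N
    have hdvd : (PowerSeries.X : PowerSeries R) ^ N ∣ x - ((PowerSeries.trunc N x : R[X]) : PowerSeries R) := by
      rw [PowerSeries.X_pow_dvd_iff]
      intro m hm
      rw [map_sub, Polynomial.coeff_coe, PowerSeries.coeff_trunc, if_pos hm, sub_self]
    obtain ⟨z, hz⟩ := hdvd
    refine ⟨algebraMap R[X] B (PowerSeries.trunc N x), z, ?_⟩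
    rw [hφa, hφt, ← hz]; ring
  -- P2
  have P2 : ∀ (a : B) (N : ℕ) (z : PowerSeries R), φ a = φ t ^ N * z → ∃ b : B, a = t ^ N * b := by
    intro a N z haz
    have hsurj := ((Groth.Agent.Lib.Helper12.HzPair.flat_and_bijective_of_isPairHenselization
      hB).2 N).2
    obtain ⟨pbar, hp⟩ := hsurj (Ideal.Quotient.mk _ a)
    obtain ⟨p, rfl⟩ := Ideal.Quotient.mk_surjective pbar
    rw [Ideal.quotientMap_mk, Ideal.Quotient.eq, Ideal.span_singleton_pow, Ideal.map_span,
      Set.image_singleton, map_pow, ← ht, Ideal.mem_span_singleton] at hp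
    obtain ⟨w, hw⟩ := hp
    -- `p` is divisible by `X^N`
    have h1 : (p : PowerSeries R) = PowerSeries.X ^ N * (φ w + z) := by
      have := congrArg φ hw
      rw [map_sub, hφa, map_mul, map_pow, hφt, haz, hφt] at this
      linear_combination this
    have h2 : (X : R[X]) ^ N ∣ p := by
      rw [Polynomial.X_pow_dvd_iff]
      intro m hm
      have : (PowerSeries.X : PowerSeries R) ^ N ∣ (p : PowerSeries R) := ⟨_, h1⟩
      rw [PowerSeries.X_pow_dvd_iff] at this
      have := this m hm
      rwa [Polynomial.coeff_coe] at this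
    obtain ⟨p', hp'⟩ := h2
    refine ⟨algebraMap R[X] B p' - w, ?_⟩
    have h3 : algebraMap R[X] B p = t ^ N * algebraMap R[X] B p' := by
      rw [hp', map_mul, map_pow, ← ht]
    linear_combination h3 - hw
  -- P3
  have P3 : ∀ z : PowerSeries R, IsUnit (1 + φ t * z) := by
    intro z
    rw [PowerSeries.isUnit_iff_constantCoeff, hφt]
    simp
  -- the comparison
  set ε := Localization.awayMap φ t e with hε
  have hεi : IsIdempotentElem ε := he.map (Localization.awayMap φ t)
  obtain ⟨e₁, -, he₁u⟩ := idempotent_main t φ P1 P2 P3 ε hεi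
  obtain ⟨r, hr, hrε⟩ := idem_laurent' (φ t) hφt ε hεi
  have key : ∀ r : R, Localization.awayMap φ t (algebraMap B (Localization.Away t)
      (algebraMap R[X] B (Polynomial.C r))) =
      algebraMap (PowerSeries R) (Localization.Away (φ t)) (PowerSeries.C r) := by
    intro r
    rw [awayMap_algebraMap, hφa, Polynomial.coe_C]
  have hidem : ∀ r : R, IsIdempotentElem r → IsIdempotentElem (algebraMap B (Localization.Away t)
      (algebraMap R[X] B (Polynomial.C r))) := fun r hr =>
    ((hr.map (Polynomial.C : R →+* R[X])).map (algebraMap R[X] B)).map _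
  refine ⟨r, ⟨hr, ?_⟩, ?_⟩
  · have h1 := he₁u _ ⟨hidem r hr, (key r).trans hrε⟩
    have h2 := he₁u e ⟨he, rfl⟩
    rw [h1, h2]
  · rintro r' ⟨hr', hr'e⟩
    apply C_laurent_injective' (φ t) hφt
    rw [← key, ← key, hr'e]
    have h1 := he₁u _ ⟨hidem r hr, (key r).trans hrε⟩
    have h2 := he₁u e ⟨he, rfl⟩
    rw [h1, h2]

theorem main (R : Type u) [CommRing R]
    (B : Type u) [CommRing B] [Algebra R[X] B]
    (hB : Hens2.IsPairHenselization R[X] (Ideal.span {(X : R[X])}) B)
    (e : Localization.Away (algebraMap R[X] B X)) (he : IsIdempotentElem e) :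
    ∃! r : R, IsIdempotentElem r ∧
      algebraMap B (Localization.Away (algebraMap R[X] B X))
        (algebraMap R[X] B (Polynomial.C r)) = e :=
  core R B hB _ rfl e he

end Groth.Agent.Lib.Helper11.HkW
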