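import Mathlib
import Groth.Agent.Lib.Helper11.HkU5
import Groth.Agent.Lib.Helper4.HenselPairK

/-!
# Henselian approximation of idempotent matrices: algebraic lemmas
-/

set_option autoImplicit false
set_option linter.unusedSectionVars false
set_option linter.unusedVariables false
set_option linter.style.haveILetI false

universe u

namespace Groth.Agent.Lib.Helper11.HkX

open Groth.Agent.Lib.Helper11.Hk

/-- the idempotent produced by the quadratic correction, in a noncommutative ring -/
lemma idem_of_commute {S : Type*} [Ring S] (p y : S) (hc : p * y = y * p)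
    (hrel : (1 + ((p * p - p) + (p * p - p) + (p * p - p) + (p * p - p))) * (y * y + y)
      + (p * p - p) = 0) :
    (p + (p + p - 1) * y) * (p + (p + p - 1) * y) = p + (p + p - 1) * y := by
  set q := p + p - 1 with hq
  have hqy : q * y = y * q := by
    rw [hq, sub_mul, add_mul, mul_sub, mul_add, hc, one_mul, mul_one]
  have hpq : p * q = q * p := by rw [hq]; noncomm_ring
  have hB : (q * y) * p = (p * q) * y := by
    rw [mul_assoc, ← hc, ← mul_assoc, hpq]
  have hC : (q * y) * (q * y) = (q * q) * (y * y) := by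
    rw [mul_assoc, ← mul_assoc y q y, ← hqy, mul_assoc q y y, ← mul_assoc]
  have hqq : q * q = 1 + ((p * p - p) + (p * p - p) + (p * p - p) + (p * p - p)) := by
    rw [hq]; noncomm_ring
  have hpq2 : p * q + p * q - q = q * q := by rw [hq]; noncomm_ring
  have key : (p + q * y) * (p + q * y) - (p + q * y) =
      (q * q) * (y * y + y) + (p * p - p) := by
    rw [add_mul, mul_add, mul_add, hB, hC, ← mul_assoc p q y]
    rw [← hpq2]
    noncomm_ring
  rw [hqq, hrel] at key
  exact sub_eq_zero.mp key

/-- the Hensel step in a commutative ring -/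
lemma exists_hensel_root {Λ : Type*} [CommRing Λ] (s : Λ) [HenselianRing Λ (Ideal.span {s})]
    (b : Λ) (m : ℕ) (hm : 1 ≤ m) :
    ∃ y w : Λ, (1 + 4 * (s ^ m * b)) * (y * y + y) + s ^ m * b = 0 ∧ y = s ^ m * w := by
  have ht : s ∈ (⊥ : Ideal Λ).jacobson :=
    HenselianRing.jac (I := Ideal.span {s}) (Ideal.mem_span_singleton_self s)
  obtain ⟨m', rfl⟩ : ∃ m', m = m' + 1 := ⟨m - 1, by omega⟩
  have hu : IsUnit (1 + s * (4 * s ^ m' * b)) := by
    have := Ideal.mem_jacobson_bot.mp ht (4 * s ^ m' * b)
    rwa [add_comm] at this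
  obtain ⟨Ui, hUi⟩ := hu.exists_right_inv
  have hf : (Polynomial.X ^ 2 + Polynomial.X + Polynomial.C (s ^ (m' + 1) * b * Ui) :
      Polynomial Λ).Monic := by
    monicity!
  have hf0 : (Polynomial.X ^ 2 + Polynomial.X + Polynomial.C (s ^ (m' + 1) * b * Ui) :
      Polynomial Λ).eval 0 ∈ Ideal.span {s} := by
    simp only [Polynomial.eval_add, Polynomial.eval_pow, Polynomial.eval_X, Polynomial.eval_C]
    rw [Ideal.mem_span_singleton]
    exact ⟨s ^ m' * b * Ui, by ring⟩
  have hf1 : IsUnit (Ideal.Quotient.mk (Ideal.span {s})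
      ((Polynomial.X ^ 2 + Polynomial.X + Polynomial.C (s ^ (m' + 1) * b * Ui) :
      Polynomial Λ).derivative.eval 0)) := by
    have : (Polynomial.X ^ 2 + Polynomial.X + Polynomial.C (s ^ (m' + 1) * b * Ui) :
        Polynomial Λ).derivative.eval 0 = 1 := by
      rw [Polynomial.derivative_add, Polynomial.derivative_add, Polynomial.derivative_C,
        Polynomial.derivative_X, Polynomial.derivative_X_pow]
      simp
    rw [this, map_one]
    exact isUnit_one
  obtain ⟨y, hy, hy0⟩ := HenselianRing.is_henselian _ hf 0 hf0 hf1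
  rw [Polynomial.IsRoot.def] at hy
  simp only [Polynomial.eval_add, Polynomial.eval_pow, Polynomial.eval_X, Polynomial.eval_C] at hy
  rw [sub_zero, Ideal.mem_span_singleton] at hy0
  obtain ⟨y', hy'⟩ := hy0
  have hv : IsUnit (1 + s * y') := by
    have := Ideal.mem_jacobson_bot.mp ht y'
    rwa [add_comm] at this
  obtain ⟨Vi, hVi⟩ := hv.exists_right_inv
  have hyw : y = s ^ (m' + 1) * (-b * Ui * Vi) := by
    rw [← hy'] at hVi
    linear_combination (-y) * hVi + Vi * hy
  refine ⟨y, -b * Ui * Vi, ?_, hyw⟩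
  linear_combination (1 + s * (4 * s ^ m' * b)) * hy - s ^ (m' + 1) * b * hUi

end Groth.Agent.Lib.Helper11.HkX
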