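import Mathlib
import Groth.Agent.Lib.Helper11.HkX1

/-!
# Henselian approximation of idempotent matrices: preparation lemmas
-/

set_option autoImplicit false
set_option linter.unusedSectionVars false
set_option linter.unusedVariables false
set_option linter.style.haveILetI false

universe u

namespace Groth.Agent.Lib.Helper11.HkX

open Groth.Agent.Lib.Helper11.Hk Polynomial

section prep

variable {O K : Type*} [CommRing O] [CommRing K] [Algebra O K] (t : O) [IsLocalization.Away t K]

/-- an idempotent matrix over `K = O[1/t]` has an exact integral model -/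
lemma exists_exact_bdd {n : ℕ} (ε : Matrix (Fin n) (Fin n) K) (hε : ε * ε = ε) :
    ∃ (a : ℕ) (X : Matrix (Fin n) (Fin n) O),
      (algebraMap O K t) ^ a • ε = X.map (algebraMap O K) ∧ X * X = t ^ a • X := by
  obtain ⟨a₁, X₁, h₁⟩ := exists_bdd (t := t) ε
  set D := X₁ * X₁ - t ^ a₁ • X₁ with hD
  have hDmap : ∀ i k, algebraMap O K (D i k) = 0 := by
    intro i k
    have : D.map (algebraMap O K) = 0 := by
      have e1 : D.map (algebraMap O K) =
          X₁.map (algebraMap O K) * X₁.map (algebraMap O K) -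
            (algebraMap O K t) ^ a₁ • X₁.map (algebraMap O K) := by
        rw [hD, ← Matrix.map_mul, ← map_smul_pow]
        refine Matrix.ext fun i k => ?_
        simp only [Matrix.map_apply, Matrix.sub_apply, map_sub]
      rw [e1, ← h₁, Matrix.smul_mul, Matrix.mul_smul, hε, sub_self]
    have := congrFun (congrFun this i) k
    simpa using this
  have hj : ∀ p : Fin n × Fin n, ∃ j : ℕ, t ^ j * D p.1 p.2 = 0 := by
    intro p
    obtain ⟨⟨_, j, rfl⟩, hj⟩ :=
      (IsLocalization.map_eq_zero_iff (Submonoid.powers t) K (D p.1 p.2)).mp (hDmap p.1 p.2)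
    exact ⟨j, hj⟩
  choose j hj using hj
  set J := ∑ p, j p with hJ
  have hJD : t ^ J • D = 0 := by
    refine Matrix.ext fun i k => ?_
    have hle : j (i, k) ≤ J := Finset.single_le_sum (f := j) (fun _ _ => Nat.zero_le _)
      (Finset.mem_univ (i, k))
    simp only [Matrix.smul_apply, Matrix.zero_apply, smul_eq_mul]
    rw [← Nat.sub_add_cancel hle, pow_add, mul_assoc, hj (i, k), mul_zero]
  refine ⟨a₁ + J, t ^ J • X₁, ?_, ?_⟩
  · rw [map_smul_pow, ← h₁, smul_smul, ← pow_add, add_comm]
  · have : (t ^ J • X₁) * (t ^ J • X₁) - t ^ (a₁ + J) • (t ^ J • X₁) = t ^ J • (t ^ J • D) := by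
      rw [hD, Matrix.smul_mul, Matrix.mul_smul, smul_sub, smul_sub, smul_smul, smul_smul,
        smul_smul, smul_smul]
      congr 2
      ring
    rw [hJD, smul_zero] at this
    exact sub_eq_zero.mp this

end prep

section approx

variable {O : Type*} [CommRing O] (t : O) {A : Type*} [CommRing A] (s : A) (φ : A →+* O)

lemma exists_matrix_approx
    (P1 : ∀ (x : O) (N : ℕ), ∃ (x₀ : A) (z : O), x = φ x₀ + t ^ N * z)
    {n : ℕ} (X : Matrix (Fin n) (Fin n) O) (N : ℕ) :
    ∃ (X₀ : Matrix (Fin n) (Fin n) A) (Z : Matrix (Fin n) (Fin n) O),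
      X = X₀.map φ + t ^ N • Z := by
  choose x₀ z h using fun p : Fin n × Fin n => P1 (X p.1 p.2) N
  refine ⟨Matrix.of fun i k => x₀ (i, k), Matrix.of fun i k => z (i, k), ?_⟩
  refine Matrix.ext fun i k => ?_
  simp only [Matrix.add_apply, Matrix.map_apply, Matrix.of_apply, Matrix.smul_apply, smul_eq_mul]
  exact h (i, k)

lemma exists_matrix_div
    (P2 : ∀ (a : A) (N : ℕ) (z : O), φ a = t ^ N * z → ∃ b : A, a = s ^ N * b)
    {n : ℕ} (M : Matrix (Fin n) (Fin n) A) (N : ℕ) (W : Matrix (Fin n) (Fin n) O)
    (h : M.map φ = t ^ N • W) : ∃ b : Matrix (Fin n) (Fin n) A, M = s ^ N • b := by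
  have h' : ∀ p : Fin n × Fin n, ∃ b : A, M p.1 p.2 = s ^ N * b := by
    intro p
    apply P2 _ _ (W p.1 p.2)
    have := congrFun (congrFun h p.1) p.2
    simpa using this
  choose b hb using h'
  refine ⟨Matrix.of fun i k => b (i, k), ?_⟩
  refine Matrix.ext fun i k => ?_
  simp only [Matrix.smul_apply, Matrix.of_apply, smul_eq_mul]
  exact hb (i, k)

end approx

section commute

variable {R S : Type*} [CommRing R] [Ring S] [Algebra R S]

lemma commute_aeval {x z : S} (h : Commute x z) (p : R[X]) : Commute (aeval x p) z := by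
  induction p using Polynomial.induction_on' with
  | add p q hp hq => rw [map_add]; exact hp.add_left hq
  | monomial n a =>
    rw [aeval_monomial]
    exact (Algebra.commute_algebraMap_left a z).mul_left (h.pow_left n)

end commute

end Groth.Agent.Lib.Helper11.HkX
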