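import Mathlib
import Groth.Agent.Lib.Helper11.HkX2

/-!
# Henselian approximation of idempotent matrices: the main construction
-/

set_option autoImplicit false
set_option linter.unusedSectionVars false
set_option linter.unusedVariables false
set_option linter.style.haveILetI false

universe u

namespace Groth.Agent.Lib.Helper11.HkX

open Groth.Agent.Lib.Helper11.Hk Polynomial

lemma mapMatrix_smul {R S : Type*} [CommRing R] [CommRing S] (f : R →+* S) {n : ℕ} (c : R)
    (M : Matrix (Fin n) (Fin n) R) : f.mapMatrix (c • M) = f c • f.mapMatrix M := by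
  refine Matrix.ext fun i k => ?_
  simp only [RingHom.mapMatrix_apply, Matrix.map_apply, Matrix.smul_apply, smul_eq_mul, map_mul]

lemma smul_cancel_of_isUnit {S M : Type*} [CommRing S] [AddCommGroup M] [Module S M] {c : S}
    (hc : IsUnit c) {x y : M} (h : c • x = c • y) : x = y := by
  obtain ⟨u, rfl⟩ := hc
  have := congrArg (fun z => (↑u⁻¹ : S) • z) h
  simpa [smul_smul] using this

section main

variable {O K L : Type*} [CommRing O] [CommRing K] [CommRing L] [Algebra O K] (t : O)
  [IsLocalization.Away t K] (ι : L →+* K)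
  {A : Type u} [CommRing A] (s : A) [HenselianRing A (Ideal.span {s})] (φ : A →+* O)
  (hφs : φ s = t) [Algebra A L]
  (hsL : IsUnit (algebraMap A L s))
  (P1 : ∀ (x : O) (N : ℕ), ∃ (x₀ : A) (z : O), x = φ x₀ + t ^ N * z)
  (P2 : ∀ (a : A) (N : ℕ) (z : O), φ a = t ^ N * z → ∃ b : A, a = s ^ N * b)

include hφs hsL P2 in
/-- the algebraic heart: from an approximate root of `T² - s^a T` produce an exact idempotent
over `L` -/
theorem exists_idem_of_approx {n : ℕ} (a : ℕ) (Xh Z : Matrix (Fin n) (Fin n) O)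
    (X₀ : Matrix (Fin n) (Fin n) A) (hXX : Xh * Xh = t ^ a • Xh)
    (hXZ : Xh = X₀.map φ + t ^ (5 * a + 1) • Z) :
    ∃ (e : Matrix (Fin n) (Fin n) L) (wA : Matrix (Fin n) (Fin n) A), e * e = e ∧
      (algebraMap A L s) ^ a • e = (algebraMap A L).mapMatrix X₀ +
        (((algebraMap A L).mapMatrix X₀ + (algebraMap A L).mapMatrix X₀
            - (algebraMap A L s) ^ a • 1) *
          ((algebraMap A L s) ^ (3 * a + 1) • (algebraMap A L).mapMatrix wA)) := by
  classical
  set N := 5 * a + 1 with hN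
  have hY : φ.mapMatrix X₀ = Xh - t ^ N • Z := by
    rw [RingHom.mapMatrix_apply, hXZ]; abel
  have hP : (X₀ * X₀ - s ^ a • X₀).map φ =
      t ^ N • (t ^ N • (Z * Z) + t ^ a • Z - Xh * Z - Z * Xh) := by
    have : (X₀ * X₀ - s ^ a • X₀).map φ =
        φ.mapMatrix X₀ * φ.mapMatrix X₀ - t ^ a • φ.mapMatrix X₀ := by
      rw [← RingHom.mapMatrix_apply, map_sub, map_mul, mapMatrix_smul, map_pow, hφs]
    rw [this, hY]
    simp only [Matrix.sub_mul, Matrix.mul_sub, Matrix.smul_mul, Matrix.mul_smul, smul_sub,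
      smul_smul, hXX]
    module
  obtain ⟨b, hb⟩ := exists_matrix_div t s φ P2 _ N _ hP
  -- the commutative Henselian ring `A[T]/(χ_b)`
  set χ := b.charpoly with hχdef
  have hχ : χ.Monic := Matrix.charpoly_monic b
  haveI : Module.Finite A (AdjoinRoot χ) := hχ.finite_adjoinRoot
  haveI : Algebra.IsIntegral A (AdjoinRoot χ) := Algebra.IsIntegral.of_finite A _
  have hH := Groth.Agent.Lib.Helper4.HenselPair.henselianRing_map_of_isIntegral A
    (Ideal.span {s}) (AdjoinRoot χ)
  rw [Ideal.map_span, Set.image_singleton] at hH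
  haveI := hH
  obtain ⟨y, w, hrel, hyw⟩ := exists_hensel_root (algebraMap A (AdjoinRoot χ) s)
    (AdjoinRoot.root χ) (3 * a + 1) (by omega)
  -- evaluation at `b`
  let ev : AdjoinRoot χ →ₐ[A] Matrix (Fin n) (Fin n) A :=
    Ideal.Quotient.liftₐ (Ideal.span {χ}) (aeval b) (by
      intro p hp
      obtain ⟨q, rfl⟩ := Ideal.mem_span_singleton.mp hp
      rw [map_mul, Matrix.aeval_self_charpoly, zero_mul])
  have hev_mk : ∀ p : A[X], ev (AdjoinRoot.mk χ p) = aeval b p := fun p => rfl
  have hev_root : ev (AdjoinRoot.root χ) = b := by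
    rw [← AdjoinRoot.mk_X, hev_mk, aeval_X]
  have hev_s : ∀ k : ℕ, ev (algebraMap A (AdjoinRoot χ) s ^ k * AdjoinRoot.root χ) = s ^ k • b := by
    intro k
    rw [map_mul, map_pow, AlgHom.commutes, hev_root, ← map_pow, Algebra.smul_def]
  obtain ⟨py, rfl⟩ := AdjoinRoot.mk_surjective y
  set yA := aeval b py with hyA
  have hrelA : (1 + 4 * (s ^ (3 * a + 1) • b)) * (yA * yA + yA) + s ^ (3 * a + 1) • b = 0 := by
    have := congrArg ev hrel
    rw [map_add, map_mul, map_add, hev_s, map_add, map_one, map_mul, hev_s, map_mul, hev_mk,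
      map_zero, map_ofNat] at this
    exact this
  have hywA : yA = s ^ (3 * a + 1) • ev w := by
    have := congrArg ev hyw
    rw [hev_mk, map_mul, map_pow, AlgHom.commutes, ← map_pow, ← Algebra.smul_def] at this
    exact this
  -- pass to `L`
  set σ := algebraMap A L s with hσ
  set Fκ := (algebraMap A L).mapMatrix (m := Fin n) with hFκ
  set ξL := Fκ X₀ with hξL
  set βL := Fκ b with hβL
  set yL := Fκ yA with hyL
  have R1 : ξL * ξL - σ ^ a • ξL = σ ^ N • βL := by
    have := congrArg Fκ hb
    rw [map_sub, map_mul, mapMatrix_smul, mapMatrix_smul, map_pow, map_pow] at this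
    exact this
  have R2 : (1 + 4 * (σ ^ (3 * a + 1) • βL)) * (yL * yL + yL) + σ ^ (3 * a + 1) • βL = 0 := by
    have := congrArg Fκ hrelA
    rw [map_add, map_mul, map_add, map_add, map_mul, map_one, map_mul, mapMatrix_smul, map_pow,
      map_zero, map_ofNat] at this
    exact this
  have hyLw : yL = σ ^ (3 * a + 1) • Fκ (ev w) := by
    rw [hyL, hywA, mapMatrix_smul, map_pow]
  -- commutation
  have hβξ : Commute βL ξL := by
    have h1 : Commute (σ ^ N • βL) ξL := by
      rw [← R1]
      exact ((Commute.refl ξL).mul_left (Commute.refl ξL)).sub_left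
        ((Commute.refl ξL).smul_left _)
    have h2 : σ ^ N • (βL * ξL) = σ ^ N • (ξL * βL) := by
      have := h1.eq
      rwa [smul_mul_assoc, mul_smul_comm] at this
    exact smul_cancel_of_isUnit (hsL.pow N) h2
  have hyLaeval : yL = aeval βL py := by
    have := Polynomial.aeval_algHom_apply ((Algebra.ofId A L).mapMatrix (m := Fin n)) b py
    rw [hyL, hyA, hβL]
    exact this.symm
  have hyξ : Commute yL ξL := by
    rw [hyLaeval]
    exact commute_aeval hβξ py
  -- the idempotent
  obtain ⟨Ti, hTi⟩ := hsL.exists_right_inv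
  set p := Ti ^ a • ξL with hp
  have hσp : σ ^ a • p = ξL := by
    rw [hp, smul_smul, ← mul_pow, hTi, one_pow, one_smul]
  have hδ : p * p - p = σ ^ (3 * a + 1) • βL := by
    apply smul_cancel_of_isUnit (hsL.pow (2 * a))
    calc σ ^ (2 * a) • (p * p - p) = (σ ^ a • p) * (σ ^ a • p) - σ ^ a • (σ ^ a • p) := by
          simp only [smul_mul_assoc, mul_smul_comm, smul_sub, smul_smul]
          congr 2 <;> ring
      _ = σ ^ N • βL := by rw [hσp, R1]
      _ = σ ^ (2 * a) • σ ^ (3 * a + 1) • βL := by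
          have hNeq : N = 2 * a + (3 * a + 1) := by omega
          rw [smul_smul, ← pow_add, hNeq]
  have hpy : p * yL = yL * p := by
    rw [hp, smul_mul_assoc, mul_smul_comm, hyξ.eq]
  have hrel' : (1 + ((p * p - p) + (p * p - p) + (p * p - p) + (p * p - p))) * (yL * yL + yL)
      + (p * p - p) = 0 := by
    rw [hδ]
    rw [← R2]
    congr 2
    noncomm_ring
  have hidem := idem_of_commute p yL hpy hrel'
  refine ⟨p + (p + p - 1) * yL, ev w, hidem, ?_⟩
  rw [hyLw]
  rw [smul_add, hσp, ← smul_mul_assoc, smul_sub, smul_add, hσp]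

end main

end Groth.Agent.Lib.Helper11.HkX
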