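import Mathlib
import Groth.Agent.Lib.Helper11.HkX3

/-!
# Henselian approximation of idempotent matrices: descent theorem
-/

set_option autoImplicit false
set_option linter.unusedSectionVars false
set_option linter.unusedVariables false
set_option linter.style.haveILetI false

universe u

namespace Groth.Agent.Lib.Helper11.HkX

open Groth.Agent.Lib.Helper11.Hk Polynomial

section main

variable {O K L : Type*} [CommRing O] [CommRing K] [CommRing L] [Algebra O K] (t : O)
  [IsLocalization.Away t K] (ι : L →+* K)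
  {A : Type u} [CommRing A] (s : A) [HenselianRing A (Ideal.span {s})] (φ : A →+* O)
  (hφs : φ s = t) [Algebra A L]
  (hκ : ∀ a, ι (algebraMap A L a) = algebraMap O K (φ a))
  (hsL : IsUnit (algebraMap A L s))
  (P1 : ∀ (x : O) (N : ℕ), ∃ (x₀ : A) (z : O), x = φ x₀ + t ^ N * z)
  (P2 : ∀ (a : A) (N : ℕ) (z : O), φ a = t ^ N * z → ∃ b : A, a = s ^ N * b)
  (H3 : ∀ z : O, IsUnit (1 + t * z))

include hκ in
lemma mapMatrix_comp {n : ℕ} (M : Matrix (Fin n) (Fin n) A) :
    ι.mapMatrix ((algebraMap A L).mapMatrix M) = (algebraMap O K).mapMatrix (φ.mapMatrix M) := by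
  refine Matrix.ext fun i k => ?_
  simp only [RingHom.mapMatrix_apply, Matrix.map_apply]
  exact hκ _

include hφs hκ hsL P1 P2 H3 in
/-- **Henselian descent of idempotent matrices.** -/
theorem exists_idem_descent {n : ℕ} (ε : Matrix (Fin n) (Fin n) K) (hε : ε * ε = ε) :
    ∃ e : Matrix (Fin n) (Fin n) L, e * e = e ∧ MEquiv (e.map ι) ε := by
  classical
  obtain ⟨a, Xh, hXε, hXX⟩ := exists_exact_bdd t ε hε
  obtain ⟨X₀, Z, hXZ⟩ := exists_matrix_approx t φ P1 Xh (5 * a + 1)
  obtain ⟨e, wA, he, hse⟩ := exists_idem_of_approx t s φ hφs hsL P2 a Xh Z X₀ hXX hXZ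
  refine ⟨e, he, ?_⟩
  set T := algebraMap O K t with hT
  have hTu : IsUnit T := IsLocalization.Away.algebraMap_isUnit t
  have hισ : ι (algebraMap A L s) = T := by rw [hκ, hφs]
  set e' := e.map ι with he'
  have he'i : e' * e' = e' := by rw [he', ← Matrix.map_mul, he]
  set Falg := (algebraMap O K).mapMatrix (m := Fin n) with hFalg
  set Ξ := φ.mapMatrix X₀ with hΞ
  set W := φ.mapMatrix wA with hW
  -- image of the defining relation of `e`
  have h1 : T ^ a • e' = Falg Ξ + (Falg Ξ + Falg Ξ - T ^ a • 1) * (T ^ (3 * a + 1) • Falg W) := by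
    have := congrArg ι.mapMatrix hse
    rw [mapMatrix_smul, map_pow, hισ, map_add, map_mul, map_sub, map_add, mapMatrix_smul,
      mapMatrix_smul, map_pow, map_pow, hισ, map_one, mapMatrix_comp ι φ hκ,
      mapMatrix_comp ι φ hκ] at this
    exact this
  have h2 : T ^ a • ε = Falg Ξ + T ^ (5 * a + 1) • Falg Z := by
    rw [hXε, hXZ, ← RingHom.mapMatrix_apply, ← RingHom.mapMatrix_apply, map_add, mapMatrix_smul,
      map_pow]
  -- the difference is small
  set G := (Ξ + Ξ - t ^ a • 1) * W - t ^ (2 * a) • Z with hG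
  have hFG : Falg G = (Falg Ξ + Falg Ξ - T ^ a • 1) * Falg W - T ^ (2 * a) • Falg Z := by
    rw [hG, map_sub, map_mul, map_sub, map_add, mapMatrix_smul, mapMatrix_smul,
      map_pow, map_pow, map_one]
  have h3 : T ^ a • (e' - ε) = T ^ a • (T ^ (2 * a + 1) • Falg G) := by
    rw [smul_sub, h1, h2, hFG]
    simp only [Matrix.mul_smul, smul_sub, smul_smul]
    module
  have hd : Small t (a + (a + 1)) (e' - ε) := by
    refine ⟨G, ?_⟩
    have := smul_cancel_of_isUnit (hTu.pow a) h3
    rw [this]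
    congr 2
    omega
  have bε : Bdd t a ε := ⟨Xh, hXε⟩
  have be' : Bdd t a e' := by
    refine ⟨Xh + t ^ (3 * a + 1) • G, ?_⟩
    have : e' = ε + (e' - ε) := by abel
    rw [this, smul_add, h3, hXε, ← RingHom.mapMatrix_apply, ← RingHom.mapMatrix_apply, map_add,
      mapMatrix_smul, map_pow, smul_smul, ← pow_add]
    congr 3
    omega
  -- the equivalence
  refine mequiv_of_approx he'i hε (ε * e') (e' * ε) ?_ ?_ ?_ ?_ ?_ ?_
  · rw [← Matrix.mul_assoc, hε]
  · rw [Matrix.mul_assoc, he'i]
  · rw [← Matrix.mul_assoc, he'i]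
  · rw [Matrix.mul_assoc, hε]
  · have hsm : Small t 1 ((1 - ε + ε * e' * (e' * ε)) - 1) := by
      have : (1 - ε + ε * e' * (e' * ε)) - 1 = ε * ((e' - ε) * ε) := by
        have h5 : ε * e' * (e' * ε) = ε * (e' * ε) := by
          rw [Matrix.mul_assoc, ← Matrix.mul_assoc e' e' ε, he'i]
        have h6 : ε * ((e' - ε) * ε) = ε * (e' * ε) - ε := by
          rw [Matrix.sub_mul, Matrix.mul_sub, hε, hε]
        rw [h5, h6]
        abel
      rw [this]
      exact bε.mul_small (hd.mul_bdd bε)
    obtain ⟨z, hz⟩ := hsm.det_eq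
    rw [hz]
    exact (H3 z).map _
  · have hsm : Small t 1 ((1 - e' + e' * ε * (ε * e')) - 1) := by
      have : (1 - e' + e' * ε * (ε * e')) - 1 = e' * (-(e' - ε) * e') := by
        have h5 : e' * ε * (ε * e') = e' * (ε * e') := by
          rw [Matrix.mul_assoc, ← Matrix.mul_assoc ε ε e', hε]
        have h6 : e' * (-(e' - ε) * e') = e' * (ε * e') - e' := by
          rw [neg_sub, Matrix.sub_mul, Matrix.mul_sub, he'i, he'i]
        rw [h5, h6]
        abel
      rw [this]
      exact be'.mul_small (hd.neg.mul_bdd be')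
    obtain ⟨z, hz⟩ := hsm.det_eq
    rw [hz]
    exact (H3 z).map _

end main

end Groth.Agent.Lib.Helper11.HkX
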