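import Mathlib
import Groth.Agent.Lib.Helper11.HkX4

/-!
# Henselian descent of finite projective modules (abstract form)
-/

set_option autoImplicit false
set_option linter.unusedSectionVars false
set_option linter.unusedVariables false
set_option linter.style.haveILetI false

open Module TensorProduct

universe u

namespace Groth.Agent.Lib.Helper11.HkX

open Groth.Agent.Lib.Helper11.Hk

section main

variable {O : Type*} {K L L' : Type u} [CommRing O] [CommRing K] [CommRing L] [CommRing L']
  [Algebra O K] (t : O) [IsLocalization.Away t K] [Algebra L L'] (e : L' ≃+* K)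
  {A : Type u} [CommRing A] (s : A) [HenselianRing A (Ideal.span {s})] (φ : A →+* O)
  (hφs : φ s = t) [Algebra A L]
  (hκ : ∀ a, e (algebraMap L L' (algebraMap A L a)) = algebraMap O K (φ a))
  (hsL : IsUnit (algebraMap A L s))
  (P1 : ∀ (x : O) (N : ℕ), ∃ (x₀ : A) (z : O), x = φ x₀ + t ^ N * z)
  (P2 : ∀ (a : A) (N : ℕ) (z : O), φ a = t ^ N * z → ∃ b : A, a = s ^ N * b)
  (H3 : ∀ z : O, IsUnit (1 + t * z))

include hφs hκ hsL P1 P2 H3 in
/-- every finite projective `L'`-module descends to `L`. -/
theorem approx_surjective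
    (M' : Type u) [AddCommGroup M'] [Module L' M'] [Module.Finite L' M'] [Module.Projective L' M'] :
    ∃ (M : Type u) (_ : AddCommGroup M) (_ : Module L M), Module.Finite L M ∧
      Module.Projective L M ∧ Nonempty (L' ⊗[L] M ≃ₗ[L'] M') := by
  obtain ⟨n, ε', hI'⟩ := exists_isImage L' M'
  set ι : L →+* K := (e : L' →+* K).comp (algebraMap L L') with hιdef
  have hε : ε'.map (e : L' →+* K) * ε'.map (e : L' →+* K) = ε'.map (e : L' →+* K) := by
    rw [← Matrix.map_mul, hI'.idem]
  obtain ⟨e₁, he₁, hm⟩ := exists_idem_descent t ι s φ hφs (fun a => hκ a) hsL P1 P2 H3 _ hε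
  have hM := isImage_range he₁
  refine ⟨LinearMap.range (Matrix.toLin' e₁), inferInstance, inferInstance, hM.finite,
    hM.projective, ?_⟩
  have hm' := hm.map (e.symm : K →+* L')
  have r1 : (e₁.map ι).map (e.symm : K →+* L') = e₁.map (algebraMap L L') := by
    refine Matrix.ext fun i k => ?_
    simp only [Matrix.map_apply, hιdef, RingHom.comp_apply, RingHom.coe_coe,
      RingEquiv.symm_apply_apply]
  have r2 : (ε'.map (e : L' →+* K)).map (e.symm : K →+* L') = ε' := by
    refine Matrix.ext fun i k => ?_
    simp only [Matrix.map_apply, RingHom.coe_coe, RingEquiv.symm_apply_apply]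
  rw [r1, r2] at hm'
  exact ((hM.baseChange L').of_mequiv hm' hI'.idem).equiv hI'

end main

end Groth.Agent.Lib.Helper11.HkX
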