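import Mathlib
import Groth.Prelude.Def_Hens2
import Groth.Agent.Lib.Helper11.HkX5
import Groth.Agent.Lib.Helper11.HkW3

/-!
# Henselian descent of finite projective modules: the two instances
-/

set_option autoImplicit false
set_option linter.unusedSectionVars false
set_option linter.unusedVariables false
set_option linter.style.haveILetI false

open Module TensorProduct

universe u

namespace Groth.Agent.Lib.Helper11.HkX

open Groth.Agent.Lib.Helper11.Hk

section abstractH

variable {O : Type*} {K L L' : Type u} [CommRing O] [CommRing K] [CommRing L] [CommRing L']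
  [Algebra O K] (t : O) [IsLocalization.Away t K] [Algebra L L'] (e : L' ≃+* K)
  {A : Type u} [CommRing A] (s : A) (φ : A →+* O)
  (hφs : φ s = t) [Algebra A L] [IsLocalization.Away s L]
  (hκ : ∀ a, e (algebraMap L L' (algebraMap A L a)) = algebraMap O K (φ a))
  (P1 : ∀ (x : O) (N : ℕ), ∃ (x₀ : A) (z : O), x = φ x₀ + t ^ N * z)
  (P2 : ∀ (a : A) (N : ℕ) (z : O), φ a = t ^ N * z → ∃ b : A, a = s ^ N * b)

include hκ P1 in
lemma H1_of_P1 : ∀ (x : O) (N : ℕ), ∃ (y : L) (z : O),
    e (algebraMap L L' y) = algebraMap O K x + algebraMap O K t ^ N * algebraMap O K z := by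
  intro x N
  obtain ⟨x₀, z, hz⟩ := P1 x N
  refine ⟨algebraMap A L x₀, -z, ?_⟩
  rw [hκ, hz, map_add, map_mul, map_pow, map_neg]
  ring

include hφs hκ P2 in
lemma H2_of_P2 (hs : s ∈ (⊥ : Ideal A).jacobson) : ∀ (y : L) (z : O),
    e (algebraMap L L' y) = algebraMap O K (1 + t * z) → IsUnit y := by
  intro y z hy
  have htL : IsUnit (algebraMap A L s) := IsLocalization.Away.algebraMap_isUnit s
  obtain ⟨m, a, hya⟩ := IsLocalization.Away.surj s y
  have h1 := congrArg (fun w => e (algebraMap L L' w)) hya
  simp only [map_mul, map_pow, hκ, hy, hφs] at h1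
  rw [← map_pow, ← map_mul] at h1
  obtain ⟨j, hj⟩ := IsLocalization.Away.exists_of_eq t h1
  have h2 : φ (s ^ j * a - s ^ (j + m)) = t ^ (j + m + 1) * z := by
    rw [map_sub, map_mul, map_pow, map_pow, hφs]
    linear_combination (-1 : O) * hj
  obtain ⟨b, hb⟩ := P2 _ _ _ h2
  have h4 : s ^ j * a = s ^ (j + m) * (1 + s * b) := by
    linear_combination hb
  have h5 := congrArg (algebraMap A L) h4
  rw [map_mul, map_mul, map_pow, map_pow, pow_add, mul_assoc] at h5
  have h6 : algebraMap A L a = algebraMap A L s ^ m * algebraMap A L (1 + s * b) :=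
    (htL.pow j).mul_left_cancel h5
  rw [h6, mul_comm] at hya
  have h7 : y = algebraMap A L (1 + s * b) := (htL.pow m).mul_left_cancel hya
  rw [h7]
  refine IsUnit.map _ ?_
  have := Ideal.mem_jacobson_bot.mp hs b
  rwa [add_comm] at this

end abstractH

section adic

variable {A : Type u} [CommRing A] (t : A)

local notation "Ahat" => Ahat' A t

lemma adic_P1 : ∀ (x : Ahat) (N : ℕ), ∃ (x₀ : A) (z : Ahat),
    x = algebraMap A Ahat x₀ + algebraMap A Ahat t ^ N * z := by
  intro x N
  obtain ⟨a, ha⟩ := Ideal.Quotient.mk_surjective (AdicCompletion.evalₐ (Ideal.span {t}) N x)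
  have h0 : AdicCompletion.evalₐ (Ideal.span {t}) N (x - algebraMap A Ahat a) = 0 := by
    rw [map_sub, evalₐ_algebraMap, ha, sub_self]
  obtain ⟨z, hz⟩ := exists_eq_pow_mul_of_evalₐ_eq_zero t N _ h0
  exact ⟨a, z, by rw [← hz]; ring⟩

lemma adic_P2 : ∀ (a : A) (N : ℕ) (z : Ahat),
    algebraMap A Ahat a = algebraMap A Ahat t ^ N * z → ∃ b : A, a = t ^ N * b := by
  intro a N z h
  have := congrArg (AdicCompletion.evalₐ (Ideal.span {t}) N) h
  rw [evalₐ_pow_mul, evalₐ_algebraMap, Ideal.Quotient.eq_zero_iff_mem, Ideal.span_singleton_pow,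
    Ideal.mem_span_singleton] at this
  obtain ⟨b, hb⟩ := this
  exact ⟨b, hb⟩

/-- **S19778**: finite projective `Â[1/t]`-modules descend to `A[1/t]` for a Henselian pair. -/
theorem adic_surjective [HenselianRing A (Ideal.span {t})]
    [Algebra (Localization.Away t) (Localization.Away (algebraMap A Ahat t))]
    (halg : algebraMap (Localization.Away t) (Localization.Away (algebraMap A Ahat t)) =
      Localization.awayMap (algebraMap A Ahat) t)
    (M' : Type u) [AddCommGroup M'] [Module (Localization.Away (algebraMap A Ahat t)) M']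
    [Module.Finite (Localization.Away (algebraMap A Ahat t)) M']
    [Module.Projective (Localization.Away (algebraMap A Ahat t)) M'] :
    ∃ (M : Type u) (_ : AddCommGroup M) (_ : Module (Localization.Away t) M),
      Module.Finite (Localization.Away t) M ∧ Module.Projective (Localization.Away t) M ∧
      Nonempty ((Localization.Away (algebraMap A Ahat t)) ⊗[Localization.Away t] M
        ≃ₗ[Localization.Away (algebraMap A Ahat t)] M') := by
  have hκ : ∀ a : A, (RingEquiv.refl (Localization.Away (algebraMap A Ahat t)))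
      (algebraMap (Localization.Away t) (Localization.Away (algebraMap A Ahat t))
        (algebraMap A (Localization.Away t) a)) =
      algebraMap Ahat (Localization.Away (algebraMap A Ahat t)) (algebraMap A Ahat a) := by
    intro a
    rw [RingEquiv.refl_apply, halg]
    simp [Localization.awayMap, IsLocalization.Away.map, IsLocalization.map_eq]
  exact approx_surjective (algebraMap A Ahat t)
    (RingEquiv.refl (Localization.Away (algebraMap A Ahat t))) t (algebraMap A Ahat) rfl hκ
    (IsLocalization.Away.algebraMap_isUnit t) (adic_P1 t) (adic_P2 t)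
    (isUnit_one_add_hat_mul t) M'

end adic

end Groth.Agent.Lib.Helper11.HkX
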