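import Mathlib
import Groth.Prelude.Def_Hens2
import Groth.Agent.Lib.Helper11.HkX6

/-!
# Henselian descent of finite projective modules: `R{t}[1/t] → R((t))`
-/

set_option autoImplicit false
set_option linter.unusedSectionVars false
set_option linter.unusedVariables false
set_option linter.style.haveILetI false

open Module TensorProduct Polynomial

universe u

namespace Groth.Agent.Lib.Helper11.HkX

open Groth.Agent.Lib.Helper11.Hk Groth.Agent.Lib.Helper11.HkW

section ps

variable (R : Type u) [CommRing R] (B : Type u) [CommRing B] [Algebra R[X] B]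
  (hB : Hens2.IsPairHenselization R[X] (Ideal.span {(X : R[X])}) B)
  (φ : B →+* PowerSeries R) (hφa : ∀ p : R[X], φ (algebraMap R[X] B p) = (p : PowerSeries R))

include hφa in
lemma ps_P1 : ∀ (x : PowerSeries R) (N : ℕ), ∃ (x₀ : B) (z : PowerSeries R),
    x = φ x₀ + PowerSeries.X ^ N * z := by
  intro x N
  have hdvd : (PowerSeries.X : PowerSeries R) ^ N ∣
      x - ((PowerSeries.trunc N x : R[X]) : PowerSeries R) := by
    rw [PowerSeries.X_pow_dvd_iff]
    intro m hm
    rw [map_sub, Polynomial.coeff_coe, PowerSeries.coeff_trunc, if_pos hm, sub_self]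
  obtain ⟨z, hz⟩ := hdvd
  refine ⟨algebraMap R[X] B (PowerSeries.trunc N x), z, ?_⟩
  rw [hφa, ← hz]; ring

include hB hφa in
lemma ps_P2 : ∀ (a : B) (N : ℕ) (z : PowerSeries R), φ a = PowerSeries.X ^ N * z →
    ∃ b : B, a = (algebraMap R[X] B X) ^ N * b := by
  intro a N z haz
  have hsurj := ((Groth.Agent.Lib.Helper12.HzPair.flat_and_bijective_of_isPairHenselization
    hB).2 N).2
  obtain ⟨pbar, hp⟩ := hsurj (Ideal.Quotient.mk _ a)
  obtain ⟨p, rfl⟩ := Ideal.Quotient.mk_surjective pbar
  rw [Ideal.quotientMap_mk, Ideal.Quotient.eq, Ideal.span_singleton_pow, Ideal.map_span,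
    Set.image_singleton, map_pow, Ideal.mem_span_singleton] at hp
  obtain ⟨w, hw⟩ := hp
  have hφt : φ (algebraMap R[X] B X) = PowerSeries.X := by rw [hφa, Polynomial.coe_X]
  have h1 : (p : PowerSeries R) = PowerSeries.X ^ N * (φ w + z) := by
    have := congrArg φ hw
    rw [map_sub, hφa, map_mul, map_pow, hφt, haz] at this
    linear_combination this
  have h2 : (X : R[X]) ^ N ∣ p := by
    rw [Polynomial.X_pow_dvd_iff]
    intro m hm
    have : (PowerSeries.X : PowerSeries R) ^ N ∣ (p : PowerSeries R) := ⟨_, h1⟩
    rw [PowerSeries.X_pow_dvd_iff] at this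
    have := this m hm
    rwa [Polynomial.coeff_coe] at this
  obtain ⟨p', hp'⟩ := h2
  refine ⟨algebraMap R[X] B p' - w, ?_⟩
  have h3 : algebraMap R[X] B p = (algebraMap R[X] B X) ^ N * algebraMap R[X] B p' := by
    rw [hp', map_mul, map_pow]
  linear_combination h3 - hw

lemma ps_P3 : ∀ z : PowerSeries R, IsUnit (1 + PowerSeries.X * z) := by
  intro z
  rw [PowerSeries.isUnit_iff_constantCoeff]
  simp

end ps

/-- **S19779**, with the element `s = t` abstracted -/
theorem laurent_hens_core (R : Type u) [CommRing R]
    (B : Type u) [CommRing B] [Algebra R[X] B]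
    (hB : Hens2.IsPairHenselization R[X] (Ideal.span {(X : R[X])}) B)
    (ψ : B →ₐ[R[X]] PowerSeries R) (s : B) (hs : s = algebraMap R[X] B X)
    (L' : Type u) [CommRing L'] [Algebra (Localization.Away s) L']
    (e : L' ≃+* LaurentSeries R)
    (he : ∀ b : B, e (algebraMap (Localization.Away s) L'
      (algebraMap B (Localization.Away s) b)) =
      HahnSeries.ofPowerSeries ℤ R (ψ b)) :
    (∀ (M N : Type u) [AddCommGroup M] [Module (Localization.Away s) M]
        [Module.Finite (Localization.Away s) M]
        [Module.Projective (Localization.Away s) M]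
        [AddCommGroup N] [Module (Localization.Away s) N]
        [Module.Finite (Localization.Away s) N]
        [Module.Projective (Localization.Away s) N],
        Nonempty (L' ⊗[Localization.Away s] M ≃ₗ[L']
          L' ⊗[Localization.Away s] N) →
        Nonempty (M ≃ₗ[Localization.Away s] N)) ∧
    (∀ (M' : Type u) [AddCommGroup M'] [Module L' M'] [Module.Finite L' M']
        [Module.Projective L' M'],
        ∃ (M : Type u) (_ : AddCommGroup M)
          (_ : Module (Localization.Away s) M),
          Module.Finite (Localization.Away s) M ∧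
          Module.Projective (Localization.Away s) M ∧
          Nonempty (L' ⊗[Localization.Away s] M ≃ₗ[L'] M')) := by
  have hspan : (Ideal.span {(X : R[X])}).map (algebraMap R[X] B) = Ideal.span {s} := by
    rw [Ideal.map_span, Set.image_singleton, hs]
  haveI hHB : HenselianRing B (Ideal.span {s}) := hspan ▸ hB.1
  have hsjac : s ∈ (⊥ : Ideal B).jacobson :=
    HenselianRing.jac (I := Ideal.span {s}) (Ideal.mem_span_singleton_self s)
  have hφa : ∀ p : R[X], (ψ : B →+* PowerSeries R) (algebraMap R[X] B p) = (p : PowerSeries R) := by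
    intro p
    have := ψ.commutes p
    rw [PowerSeries.algebraMap_apply', Algebra.algebraMap_self, PowerSeries.map_id] at this
    exact this
  have hφs : (ψ : B →+* PowerSeries R) s = PowerSeries.X := by rw [hs, hφa, Polynomial.coe_X]
  have hκ : ∀ b : B, e (algebraMap (Localization.Away s) L'
      (algebraMap B (Localization.Away s) b)) =
      algebraMap (PowerSeries R) (LaurentSeries R) ((ψ : B →+* PowerSeries R) b) := he
  have P1 := ps_P1 R B (ψ : B →+* PowerSeries R) hφa
  have P2 : ∀ (a : B) (N : ℕ) (z : PowerSeries R), (ψ : B →+* PowerSeries R) a =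
      PowerSeries.X ^ N * z → ∃ b : B, a = s ^ N * b := by
    rw [hs]
    exact ps_P2 R B hB (ψ : B →+* PowerSeries R) hφa
  have P3 := ps_P3 R
  have htL : IsUnit (algebraMap B (Localization.Away s) s) :=
    IsLocalization.Away.algebraMap_isUnit s
  have hι : e (algebraMap (Localization.Away s) L' (algebraMap B (Localization.Away s) s)) =
      algebraMap (PowerSeries R) (LaurentSeries R) PowerSeries.X := by
    rw [hκ, hφs]
  have H1 := H1_of_P1 (PowerSeries.X : PowerSeries R) e (ψ : B →+* PowerSeries R) hκ P1
  have H2 := H2_of_P2 (PowerSeries.X : PowerSeries R) e s (ψ : B →+* PowerSeries R) hφs hκ P2 hsjac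
  exact ⟨fun M N _ _ _ _ _ _ _ _ h =>
      approx_injective (PowerSeries.X : PowerSeries R) e _ htL hι H1 H2 M N h,
    fun M' _ _ _ _ =>
      approx_surjective (PowerSeries.X : PowerSeries R) e s (ψ : B →+* PowerSeries R) hφs hκ htL
        P1 P2 P3 M'⟩

end Groth.Agent.Lib.Helper11.HkX
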