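import Mathlib
import Groth.Agent.S5836

set_option autoImplicit false
set_option linter.unusedSectionVars false

namespace Groth.Agent.Lib.Helper11.ImpTower

open scoped TensorProduct
open TensorProduct

universe u u' w

section General

variable {L M : Type w} [Field L] [Field M] [Algebra L M]
variable {V W W₁ W₂ : Type w} [AddCommGroup V] [Module L V] [AddCommGroup W] [Module L W]
  [AddCommGroup W₁] [Module L W₁] [AddCommGroup W₂] [Module L W₂]

/-- flat base change of kernels. -/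
theorem ker_baseChange_eq (h : V →ₗ[L] W) :
    LinearMap.ker (h.baseChange M) = LinearMap.range ((LinearMap.ker h).subtype.baseChange M) := by
  have hex := Module.Flat.lTensor_exact M (LinearMap.exact_subtype_ker_map h)
  ext z
  rw [LinearMap.mem_ker, LinearMap.mem_range]
  have h1 : (h.baseChange M) z = h.lTensor M z := by
    rw [← LinearMap.baseChange_eq_ltensor]
  rw [h1]
  constructor
  · intro hz
    obtain ⟨y, hy⟩ := (hex z).mp hz
    exact ⟨y, by rw [← hy, ← LinearMap.baseChange_eq_ltensor]⟩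
  · rintro ⟨y, rfl⟩
    apply (hex _).mpr
    exact ⟨y, by rw [← LinearMap.baseChange_eq_ltensor]⟩

theorem rank_ker_baseChange (h : V →ₗ[L] W) :
    Module.rank M (LinearMap.ker (h.baseChange M)) = Module.rank L (LinearMap.ker h) := by
  rw [ker_baseChange_eq]
  have hinj : Function.Injective ((LinearMap.ker h).subtype.baseChange M) := by
    have := Module.Flat.lTensor_preserves_injective_linearMap (M := M) (LinearMap.ker h).subtype
      (LinearMap.ker h).injective_subtype
    intro x y hxy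
    apply this
    rw [← LinearMap.baseChange_eq_ltensor]
    exact hxy
  rw [← (LinearEquiv.ofInjective _ hinj).rank_eq, Module.rank_baseChange, Cardinal.lift_id]

theorem ker_prod_baseChange (h₁ : V →ₗ[L] W₁) (h₂ : V →ₗ[L] W₂) :
    LinearMap.ker ((h₁.prod h₂).baseChange M) =
      LinearMap.ker (h₁.baseChange M) ⊓ LinearMap.ker (h₂.baseChange M) := by
  have e1 : h₁.baseChange M = ((LinearMap.fst L W₁ W₂).baseChange M) ∘ₗ (h₁.prod h₂).baseChange M := by
    rw [← LinearMap.baseChange_comp]; rfl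
  have e2 : h₂.baseChange M = ((LinearMap.snd L W₁ W₂).baseChange M) ∘ₗ (h₁.prod h₂).baseChange M := by
    rw [← LinearMap.baseChange_comp]; rfl
  have e3 : ((LinearMap.inl L W₁ W₂).baseChange M) ∘ₗ ((LinearMap.fst L W₁ W₂).baseChange M) +
      ((LinearMap.inr L W₁ W₂).baseChange M) ∘ₗ ((LinearMap.snd L W₁ W₂).baseChange M) =
        LinearMap.id := by
    rw [← LinearMap.baseChange_comp, ← LinearMap.baseChange_comp, ← LinearMap.baseChange_add]
    have : (LinearMap.inl L W₁ W₂) ∘ₗ (LinearMap.fst L W₁ W₂) +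
        (LinearMap.inr L W₁ W₂) ∘ₗ (LinearMap.snd L W₁ W₂) = LinearMap.id := by
      ext <;> simp
    rw [this, LinearMap.baseChange_id]
  ext z
  simp only [Submodule.mem_inf, LinearMap.mem_ker]
  constructor
  · intro hz
    rw [e1, e2, LinearMap.comp_apply, LinearMap.comp_apply, hz, map_zero, map_zero]
    exact ⟨rfl, rfl⟩
  · rintro ⟨hz1, hz2⟩
    rw [e1, LinearMap.comp_apply] at hz1
    rw [e2, LinearMap.comp_apply] at hz2
    have := congrArg (fun φ => φ ((h₁.prod h₂).baseChange M z)) e3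
    simp only [LinearMap.add_apply, LinearMap.comp_apply, LinearMap.id_apply] at this
    rw [hz1, hz2, map_zero, map_zero, add_zero] at this
    exact this.symm

theorem rank_ker_inf_baseChange (h₁ : V →ₗ[L] W₁) (h₂ : V →ₗ[L] W₂) :
    Module.rank M ↥(LinearMap.ker (h₁.baseChange M) ⊓ LinearMap.ker (h₂.baseChange M)) =
      Module.rank L ↥(LinearMap.ker h₁ ⊓ LinearMap.ker h₂) := by
  rw [← ker_prod_baseChange, rank_ker_baseChange, LinearMap.ker_prod]

/-- right exactness: lifting elements of `ker (g ⊗ M)` through a subspace. -/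
theorem exists_of_mem_ker_baseChange (f₁ : V →ₗ[L] W) (f₂ : V →ₗ[L] W₁) (g : W →ₗ[L] W₂)
    (hg : Function.Surjective g) (hle : LinearMap.ker g ≤ (LinearMap.ker f₂).map f₁)
    (hcomp : ∀ v ∈ LinearMap.ker f₂, g (f₁ v) = 0)
    (w : M ⊗[L] W) (hw : g.baseChange M w = 0) :
    ∃ y : M ⊗[L] V, f₁.baseChange M y = w ∧ f₂.baseChange M y = 0 := by
  let U := LinearMap.ker f₂
  have hex : Function.Exact (f₁ ∘ₗ U.subtype) g := by
    intro x
    constructor
    · intro hx
      obtain ⟨v, hv, rfl⟩ := hle hx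
      exact ⟨⟨v, hv⟩, rfl⟩
    · rintro ⟨⟨v, hv⟩, rfl⟩
      exact hcomp v hv
  have hex2 := lTensor_exact M hex hg
  have hw' : g.lTensor M w = 0 := by
    rw [← LinearMap.baseChange_eq_ltensor]; exact hw
  obtain ⟨t, ht⟩ := (hex2 w).mp hw'
  refine ⟨U.subtype.baseChange M t, ?_, ?_⟩
  · rw [← LinearMap.comp_apply, ← LinearMap.baseChange_comp, LinearMap.baseChange_eq_ltensor]
    exact ht
  · rw [← LinearMap.comp_apply, ← LinearMap.baseChange_comp]
    have : f₂ ∘ₗ U.subtype = 0 := by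
      ext ⟨v, hv⟩
      exact hv
    rw [this, LinearMap.baseChange_zero, LinearMap.zero_apply]

end General

section Tower

variable {k₀ : Type u} {k : Type u'} {K L M : Type w}
    [Field k₀] [Field k] [Field K] [Field L] [Field M] [Algebra k₀ k]
    [Algebra k₀ K] [Algebra k K] [IsScalarTower k₀ k K] [Algebra k₀ L] [Algebra k L]
    [IsScalarTower k₀ k L]
    [Algebra K L] [Algebra K M] [Algebra L M] [IsScalarTower K L M]
    [Algebra k₀ M] [Algebra k M] [IsScalarTower k₀ K L] [IsScalarTower k K L]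
    [IsScalarTower k₀ K M] [IsScalarTower k K M] [IsScalarTower k₀ L M] [IsScalarTower k L M]

/-- functoriality of `KaehlerDifferential.map` in a tower over a fixed base. -/
theorem map_map_tower (ω : Ω[K⁄k₀]) :
    KaehlerDifferential.map k₀ k₀ L M (KaehlerDifferential.map k₀ k₀ K L ω) =
      KaehlerDifferential.map k₀ k₀ K M ω := by
  have hω : ω ∈ Submodule.span K (Set.range (KaehlerDifferential.D k₀ K)) := by
    rw [KaehlerDifferential.span_range_derivation]; trivial
  induction hω using Submodule.span_induction with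
  | mem x hx =>
    obtain ⟨x, rfl⟩ := hx
    simp [← IsScalarTower.algebraMap_apply]
  | zero => simp
  | add x y _ _ hx hy => simp only [map_add, hx, hy]
  | smul c x _ hx =>
    have e1 : KaehlerDifferential.map k₀ k₀ K L (c • x) =
        c • KaehlerDifferential.map k₀ k₀ K L x := map_smul _ _ _
    have e2 : KaehlerDifferential.map k₀ k₀ K M (c • x) =
        c • KaehlerDifferential.map k₀ k₀ K M x := map_smul _ _ _
    rw [e1, e2, ← hx, ← algebraMap_smul L c (KaehlerDifferential.map k₀ k₀ K L x), map_smul,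
      algebraMap_smul]

/-- the comparison `M ⊗_K Ω_{K/k₀} ≃ M ⊗_L (L ⊗_K Ω_{K/k₀})`. -/
noncomputable def eK (k₀ K L M : Type*) [Field k₀] [Field K] [Field L] [Field M] [Algebra k₀ K]
    [Algebra K L] [Algebra K M] [Algebra L M] [IsScalarTower K L M] :
    M ⊗[K] Ω[K⁄k₀] ≃ₗ[M] M ⊗[L] (L ⊗[K] Ω[K⁄k₀]) :=
  (AlgebraTensorModule.cancelBaseChange K L M M Ω[K⁄k₀]).symm

theorem eK_tmul (m : M) (ω : Ω[K⁄k₀]) : eK k₀ K L M (m ⊗ₜ ω) = m ⊗ₜ (1 ⊗ₜ ω) := rfl

theorem comp_c (z : M ⊗[K] Ω[K⁄k₀]) :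
    KaehlerDifferential.mapBaseChange k₀ L M
      ((KaehlerDifferential.mapBaseChange k₀ K L).baseChange M (eK k₀ K L M z)) =
      KaehlerDifferential.mapBaseChange k₀ K M z := by
  induction z using TensorProduct.induction_on with
  | zero => simp
  | tmul m ω =>
    rw [eK_tmul, LinearMap.baseChange_tmul, KaehlerDifferential.mapBaseChange_tmul,
      KaehlerDifferential.mapBaseChange_tmul, KaehlerDifferential.mapBaseChange_tmul, one_smul,
      map_map_tower]
  | add x y hx hy => simp only [map_add, hx, hy]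

theorem comp_p (z : M ⊗[K] Ω[K⁄k₀]) :
    ((KaehlerDifferential.map k₀ k K K).baseChange L).baseChange M (eK k₀ K L M z) =
      eK k K L M ((KaehlerDifferential.map k₀ k K K).baseChange M z) := by
  induction z using TensorProduct.induction_on with
  | zero => simp
  | tmul m ω =>
    rw [eK_tmul, LinearMap.baseChange_tmul, LinearMap.baseChange_tmul, LinearMap.baseChange_tmul,
      eK_tmul]
  | add x y hx hy => simp only [map_add, hx, hy]

theorem main :
    Module.rank M ↥(EGA41.imperfection k₀ K M ⊓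
          LinearMap.ker ((KaehlerDifferential.map k₀ k K K).baseChange M)) =
      Module.rank M ↥(EGA41.imperfection k₀ L M ⊓
            LinearMap.ker ((KaehlerDifferential.map k₀ k L L).baseChange M)) +
        Module.rank L ↥(EGA41.imperfection k₀ K L ⊓
            LinearMap.ker ((KaehlerDifferential.map k₀ k K K).baseChange L)) := by
  obtain ⟨f₁, hf₁⟩ : ∃ f₁, f₁ = KaehlerDifferential.mapBaseChange k₀ K L := ⟨_, rfl⟩
  obtain ⟨f₂, hf₂⟩ : ∃ f₂, f₂ = (KaehlerDifferential.map k₀ k K K).baseChange L := ⟨_, rfl⟩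
  obtain ⟨g, hg⟩ : ∃ g, g = KaehlerDifferential.map k₀ k L L := ⟨_, rfl⟩
  obtain ⟨b, hb⟩ : ∃ b, b = KaehlerDifferential.mapBaseChange k₀ L M := ⟨_, rfl⟩
  obtain ⟨c, hc⟩ : ∃ c, c = KaehlerDifferential.mapBaseChange k₀ K M := ⟨_, rfl⟩
  obtain ⟨pK, hpK⟩ : ∃ pK, pK = (KaehlerDifferential.map k₀ k K K).baseChange M := ⟨_, rfl⟩
  have hgsurj : Function.Surjective g := by
    rw [hg]; exact KaehlerDifferential.map_surjective k₀ k L
  have hnat : ∀ v, g (f₁ v) = KaehlerDifferential.mapBaseChange k K L (f₂ v) := by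
    intro v; rw [hg, hf₁, hf₂]; exact Groth.Agent.S5836.naturality v
  have hle : LinearMap.ker g ≤ (LinearMap.ker f₂).map f₁ := by
    rw [hg, hf₁, hf₂]; exact Groth.Agent.S5836.ker_le (K := K)
  have hcompc : ∀ z, b (f₁.baseChange M (eK k₀ K L M z)) = c z := by
    intro z; rw [hb, hf₁, hc]; exact comp_c z
  have hcompp : ∀ z, f₂.baseChange M (eK k₀ K L M z) = eK k K L M (pK z) := by
    intro z; rw [hf₂, hpK]; exact comp_p z
  -- rewrite the three modules
  have hΔMK : EGA41.imperfection k₀ K M ⊓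
      LinearMap.ker ((KaehlerDifferential.map k₀ k K K).baseChange M) =
      LinearMap.ker c ⊓ LinearMap.ker pK := by rw [hc, hpK]; rfl
  have hΔML : EGA41.imperfection k₀ L M ⊓
      LinearMap.ker ((KaehlerDifferential.map k₀ k L L).baseChange M) =
      LinearMap.ker b ⊓ LinearMap.ker (g.baseChange M) := by rw [hb, hg]; rfl
  have hΔLK : EGA41.imperfection k₀ K L ⊓
      LinearMap.ker ((KaehlerDifferential.map k₀ k K K).baseChange L) =
      LinearMap.ker f₁ ⊓ LinearMap.ker f₂ := by rw [hf₁, hf₂]; rfl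
  rw [hΔMK, hΔML, hΔLK]
  obtain ⟨F₁, hF₁⟩ : ∃ F₁, F₁ = f₁.baseChange M := ⟨_, rfl⟩
  obtain ⟨F₂, hF₂⟩ : ∃ F₂, F₂ = f₂.baseChange M := ⟨_, rfl⟩
  rw [← hF₁] at hcompc
  rw [← hF₂] at hcompp
  obtain ⟨Δ', hΔ'⟩ : ∃ Δ', Δ' = LinearMap.ker (b ∘ₗ F₁) ⊓ LinearMap.ker F₂ := ⟨_, rfl⟩
  -- step 1: transport along `e`
  have h1 : LinearMap.ker c ⊓ LinearMap.ker pK = Δ'.comap (eK k₀ K L M).toLinearMap := by
    ext z
    rw [hΔ']
    simp only [Submodule.mem_inf, LinearMap.mem_ker, Submodule.mem_comap, LinearMap.comp_apply,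
      LinearEquiv.coe_coe]
    rw [hcompc, hcompp]
    constructor
    · rintro ⟨h1, h2⟩
      exact ⟨h1, by rw [h2, map_zero]⟩
    · rintro ⟨h1, h2⟩
      exact ⟨h1, (eK k K L M).map_eq_zero_iff.mp h2⟩
  have hrank1 : Module.rank M ↥(LinearMap.ker c ⊓ LinearMap.ker pK) = Module.rank M ↥Δ' := by
    rw [h1]
    exact ((eK k₀ K L M).ofSubmodule' Δ').rank_eq
  rw [hrank1]
  -- step 2: the map Δ' → Δ(M/L)
  obtain ⟨Δ3, hΔ3⟩ : ∃ Δ3, Δ3 = LinearMap.ker b ⊓ LinearMap.ker (g.baseChange M) := ⟨_, rfl⟩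
  rw [← hΔ3]
  have hpL : ∀ y, g.baseChange M (F₁ y) =
      (KaehlerDifferential.mapBaseChange k K L).baseChange M (F₂ y) := by
    intro y
    rw [hF₁, hF₂, ← LinearMap.comp_apply, ← LinearMap.comp_apply, ← LinearMap.baseChange_comp,
      ← LinearMap.baseChange_comp]
    congr 2
    ext v
    exact hnat _
  have hmaps : ∀ y ∈ Δ', F₁ y ∈ Δ3 := by
    intro y hy
    rw [hΔ'] at hy
    rw [hΔ3]
    refine ⟨?_, ?_⟩
    · exact hy.1
    · change g.baseChange M (F₁ y) = 0
      rw [hpL]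
      have : F₂ y = 0 := hy.2
      rw [this, map_zero]
  let f : Δ' →ₗ[M] Δ3 := F₁.restrict hmaps
  have hfsurj : Function.Surjective f := by
    rintro ⟨w, hw⟩
    rw [hΔ3] at hw
    obtain ⟨y, hy1, hy2⟩ := exists_of_mem_ker_baseChange (M := M) f₁ f₂ g hgsurj hle
      (fun v hv => by rw [hnat, (LinearMap.mem_ker).mp hv, map_zero]) w hw.2
    rw [← hF₁] at hy1
    rw [← hF₂] at hy2
    refine ⟨⟨y, ?_⟩, ?_⟩
    · rw [hΔ']
      refine ⟨?_, hy2⟩
      change b (F₁ y) = 0
      rw [hy1]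
      exact hw.1
    · apply Subtype.ext
      exact hy1
  obtain ⟨Δ1, hΔ1⟩ : ∃ Δ1, Δ1 = LinearMap.ker F₁ ⊓ LinearMap.ker F₂ := ⟨_, rfl⟩
  have h12 : Δ1 ≤ Δ' := by
    rw [hΔ1, hΔ']
    refine inf_le_inf_right _ ?_
    intro z hz
    rw [LinearMap.mem_ker] at hz ⊢
    rw [LinearMap.comp_apply, hz, map_zero]
  have hker : LinearMap.ker f = Submodule.comap Δ'.subtype Δ1 := by
    ext ⟨z, hz⟩
    rw [LinearMap.mem_ker, Submodule.mem_comap]
    change f ⟨z, hz⟩ = 0 ↔ z ∈ Δ1
    rw [hΔ1]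
    constructor
    · intro h0
      have : F₁ z = 0 := congrArg Subtype.val h0
      rw [hΔ'] at hz
      exact ⟨this, hz.2⟩
    · intro h1
      apply Subtype.ext
      exact h1.1
  have hrn := LinearMap.rank_range_add_rank_ker (R := M) (M := ↥Δ') (M₁ := ↥Δ3) f
  rw [rank_range_of_surjective f hfsurj, hker,
    (Submodule.comapSubtypeEquivOfLe h12).rank_eq] at hrn
  rw [← hrn, hΔ1, hF₁, hF₂, rank_ker_inf_baseChange]

end Tower

end Groth.Agent.Lib.Helper11.ImpTower
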