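import Mathlib
import Groth.Prelude.Def_IntMult
import Groth.Agent.Lib.Helper21.EquiDim1
import Groth.Agent.Lib.Helper21.Img1
import Groth.Agent.Lib.Helper18.SerreReg2

/-!
# Dimension formula on an irreducible scheme locally of finite type over a field
`dim 𝒪_{X,y} + dim closure{y} = dim X`
-/

set_option autoImplicit false
set_option linter.style.haveILetI false
set_option linter.unusedSectionVars false
universe u

open AlgebraicGeometry CategoryTheory Limits TopologicalSpace

namespace Groth.Agent.Lib.Helper11.IntMultA

section DF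

/-- **dimension formula** -/
theorem stalk_add_closure (K : Type u) [Field K] (X : Scheme.{u}) [X.Over (Spec (CommRingCat.of K))]
    [LocallyOfFiniteType (X ↘ Spec (CommRingCat.of K))] [IrreducibleSpace X] (n : ℕ) (hn : topologicalKrullDim X = n) (y : X) :
    ∃ a b : ℕ, ringKrullDim (X.presheaf.stalk y) = b ∧
      topologicalKrullDim (closure ({y} : Set X)) = a ∧ a + b = n := by
  haveI : IsLocallyNoetherian X :=
    LocallyOfFiniteType.isLocallyNoetherian (X ↘ Spec (CommRingCat.of K))
  obtain ⟨a, ha⟩ := Groth.Agent.Lib.Helper21.FibDim.exists_nat_trdeg K X y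
  obtain ⟨b, hb⟩ := Groth.Agent.Lib.Helper18.SerreReg.exists_ringKrullDim_eq_nat
    (X.presheaf.stalk y)
  refine ⟨a, b, hb, Groth.Agent.Lib.Helper21.FibDim.topologicalKrullDim_closure_singleton K X y a ha,
    ?_⟩
  have h1 := Groth.Agent.Lib.Helper21.ChartPt.localDim_eq_add K X y a b ha hb
  have h2 := Groth.Agent.Lib.Helper21.EquiDim.localDim_eq_of_equidim K X (n : WithBot ℕ∞) (by
    intro Z hZ
    rw [irreducibleComponents_eq_singleton, Set.mem_singleton_iff] at hZ
    subst hZ
    rw [← hn]
    exact (Homeomorph.Set.univ X).isHomeomorph.topologicalKrullDim_eq) y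
  rw [h1] at h2
  exact_mod_cast h2

end DF

end Groth.Agent.Lib.Helper11.IntMultA
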