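import Mathlib
import Groth.Prelude.Def_IntMult

/-!
# Support of an ideal sheaf vs. its stalk ideal, through `Spec 𝒪_{X,ξ} ⟶ X`
-/

set_option autoImplicit false
set_option linter.style.haveILetI false
set_option linter.unusedSectionVars false
universe u

open AlgebraicGeometry CategoryTheory Limits TopologicalSpace

namespace Groth.Agent.Lib.Helper11.IntMultB

variable {X : Scheme.{u}}

theorem fromSpecStalk_specializes (ξ : X) (P : Spec (X.presheaf.stalk ξ)) :
    X.fromSpecStalk ξ P ⤳ ξ := by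
  have : X.fromSpecStalk ξ P ∈ Set.range (X.fromSpecStalk ξ) := ⟨P, rfl⟩
  rw [Scheme.range_fromSpecStalk] at this
  exact this

theorem fromSpecStalk_mem_support_iff_of_affine (I : X.IdealSheafData) (ξ : X)
    (U : X.affineOpens) (hξU : ξ ∈ U.1) (P : Spec (X.presheaf.stalk ξ)) :
    X.fromSpecStalk ξ P ∈ I.support ↔
      (I.ideal U).map (X.presheaf.germ U.1 ξ hξU).hom ≤ P.asIdeal := by
  have hy : X.fromSpecStalk ξ P ∈ U.1 :=
    (fromSpecStalk_specializes ξ P).mem_open U.1.2 hξU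
  rw [Scheme.IdealSheafData.mem_support_iff_of_mem hy]
  have e1 : X.fromSpecStalk ξ P = U.2.fromSpec (Spec.map (X.presheaf.germ U.1 ξ hξU) P) := by
    rw [← U.2.fromSpecStalk_eq_fromSpecStalk hξU]
    rfl
  have e2 : X.fromSpecStalk ξ P ∈ X.zeroLocus (U := U.1) (I.ideal U) ↔
      X.fromSpecStalk ξ P ∈ U.2.fromSpec '' PrimeSpectrum.zeroLocus (I.ideal U : Set Γ(X, U.1)) := by
    rw [U.2.fromSpec_image_zeroLocus]
    exact ⟨fun h => ⟨h, hy⟩, fun h => h.1⟩
  rw [e2, e1, U.2.fromSpec.isOpenEmbedding.injective.mem_set_image, Ideal.map_le_iff_le_comap]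
  exact Iff.rfl

theorem fromSpecStalk_mem_support_iff (I : X.IdealSheafData) (ξ : X)
    (P : Spec (X.presheaf.stalk ξ)) :
    X.fromSpecStalk ξ P ∈ I.support ↔ IntMult.stalkIdeal I ξ ≤ P.asIdeal := by
  constructor
  · intro h
    unfold IntMult.stalkIdeal
    refine iSup_le fun U => iSup_le fun hU => ?_
    exact (fromSpecStalk_mem_support_iff_of_affine I ξ U hU P).1 h
  · intro h
    obtain ⟨_, ⟨U, hU, rfl⟩, hξU, -⟩ :=
      X.isBasis_affineOpens.exists_subset_of_mem_open (Set.mem_univ ξ) isOpen_univ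
    refine (fromSpecStalk_mem_support_iff_of_affine I ξ ⟨U, hU⟩ hξU P).2 (le_trans ?_ h)
    unfold IntMult.stalkIdeal
    exact le_iSup_of_le ⟨U, hU⟩ (le_iSup_of_le hξU le_rfl)

end Groth.Agent.Lib.Helper11.IntMultB
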