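import Mathlib
import Groth.Prelude.Def_IntMult
import Groth.Agent.Lib.Helper11.IntMultA
import Groth.Agent.Lib.Helper11.IntMultB
import Groth.Agent.Lib.Helper1.FPS1
import Groth.Agent.Lib.Helper3.WeaklyEtaleStalk
import Groth.Agent.Lib.Helper16.RegularDim
import Groth.Agent.Lib.Helper25.CurveEtale

/-!
# Dimensions of the local rings of subvarieties of a smooth variety at a point
-/

set_option autoImplicit false
set_option linter.style.haveILetI false
set_option linter.unusedSectionVars false
universe u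

open AlgebraicGeometry CategoryTheory Limits TopologicalSpace

namespace Groth.Agent.Lib.Helper11.IntMultC

open Groth.Agent.Lib.Helper11.IntMultA Groth.Agent.Lib.Helper11.IntMultB

/-- the support of an ideal sheaf with integral subscheme is irreducible -/
theorem isIrreducible_support {X : Scheme.{u}} (I : X.IdealSheafData) [IsIntegral I.subscheme] :
    IsIrreducible (I.support : Set X) := by
  rw [← I.range_subschemeι, ← Set.image_univ]
  exact (IrreducibleSpace.isIrreducible_univ _).image _ I.subschemeι.continuous.continuousOn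

/-- the stalk ideal at a point of the support is proper -/
theorem stalkIdeal_le_maximalIdeal {X : Scheme.{u}} (I : X.IdealSheafData) (ξ : X)
    (hξ : ξ ∈ I.support) :
    IntMult.stalkIdeal I ξ ≤ IsLocalRing.maximalIdeal (X.presheaf.stalk ξ) := by
  have h := (fromSpecStalk_mem_support_iff I ξ (IsLocalRing.closedPoint (X.presheaf.stalk ξ))).1 (by
    rw [Scheme.fromSpecStalk_closedPoint]; exact hξ)
  exact h

/-- one subvariety: `dim 𝒪_{X,ξ} + dim V ≤ dim 𝒪_{V,ξ} + dim X` -/
theorem dim_quot_stalkIdeal (K : Type u) [Field K] (X : Scheme.{u})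
    (f : X ⟶ Spec (CommRingCat.of K)) [Smooth f] [IsIntegral X]
    (I : X.IdealSheafData) [IsIntegral I.subscheme] (n t : ℕ)
    (hn : topologicalKrullDim X = n) (ht : topologicalKrullDim I.support = t)
    (ξ : X) (hξ : ξ ∈ I.support) (a : ℕ) (ha : ringKrullDim (X.presheaf.stalk ξ) = a) :
    ∃ d : ℕ, ringKrullDim (X.presheaf.stalk ξ ⧸ IntMult.stalkIdeal I ξ) = d ∧ a + t ≤ d + n := by
  letI : X.Over (Spec (CommRingCat.of K)) := ⟨f⟩
  haveI : LocallyOfFiniteType (X ↘ Spec (CommRingCat.of K)) :=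
    inferInstanceAs (LocallyOfFiniteType f)
  haveI hreg : IsRegularLocalRing (X.presheaf.stalk ξ) :=
    Groth.Agent.Lib.Helper25.CurveEtale.isRegularLocalRing_stalk_of_smooth f ξ
  -- generic point of the support
  obtain ⟨η, hη⟩ := QuasiSober.sober (isIrreducible_support I) I.support.isClosed
  have hcl : closure ({η} : Set X) = (I.support : Set X) := hη
  have hηξ : η ⤳ ξ := by
    rw [specializes_iff_mem_closure, hcl]; exact hξ
  obtain ⟨P, hP⟩ : ∃ P : Spec (X.presheaf.stalk ξ), X.fromSpecStalk ξ P = η := by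
    have : η ∈ Set.range (X.fromSpecStalk ξ) := by
      rw [Scheme.range_fromSpecStalk]; exact hηξ
    exact this
  have hηI : η ∈ I.support := by
    have : η ∈ closure ({η} : Set X) := subset_closure rfl
    rw [hcl] at this
    exact this
  have hqP : IntMult.stalkIdeal I ξ ≤ P.asIdeal :=
    (fromSpecStalk_mem_support_iff I ξ P).1 (hP ▸ hηI)
  -- dimension formula at `η`
  obtain ⟨t', b, hb, ht', hsum⟩ := stalk_add_closure K X n hn η
  have htt : t' = t := by
    have h1 : topologicalKrullDim (closure ({η} : Set X)) = t := by rw [hcl]; exact ht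
    rw [ht'] at h1
    exact_mod_cast h1
  subst htt
  -- height of `P`
  obtain ⟨e⟩ := @Groth.Agent.Lib.Helper1.FPS.nonempty_stalk_equiv (X.presheaf.stalk ξ) _ X
    (X.fromSpecStalk ξ) (Groth.Agent.Lib.Helper3.WeaklyEtaleStalk.flat_fromSpecStalk X ξ)
    (inferInstanceAs (IsPreimmersion (X.fromSpecStalk ξ))) P
  have hht : ((P.asIdeal.height : ℕ∞) : WithBot ℕ∞) = b := by
    have h1 := IsLocalization.AtPrime.ringKrullDim_eq_height P.asIdeal
      (Localization.AtPrime P.asIdeal)
    have h2 := ringKrullDim_eq_of_ringEquiv e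
    have h3 : ringKrullDim (X.presheaf.stalk ((X.fromSpecStalk ξ) P)) = b := by
      rw [hP]; exact hb
    exact h1.symm.trans (h2.symm.trans h3)
  have hform := Groth.Agent.Lib.Helper16.PDR.ringKrullDim_eq_quotient_add_height
    (X.presheaf.stalk ξ) P.asIdeal
  rw [hht, ha] at hform
  -- `dim A/q ≥ dim A/P`
  have hle : ringKrullDim (X.presheaf.stalk ξ ⧸ P.asIdeal) ≤
      ringKrullDim (X.presheaf.stalk ξ ⧸ IntMult.stalkIdeal I ξ) :=
    ringKrullDim_le_of_surjective (Ideal.Quotient.factor hqP) (Ideal.Quotient.factor_surjective hqP)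
  have hqm := stalkIdeal_le_maximalIdeal I ξ hξ
  haveI : Nontrivial (X.presheaf.stalk ξ ⧸ IntMult.stalkIdeal I ξ) :=
    Ideal.Quotient.nontrivial_iff.2 (fun h => (IsLocalRing.maximalIdeal.isMaximal _).ne_top
      (top_le_iff.1 (h ▸ hqm)))
  haveI : IsLocalRing (X.presheaf.stalk ξ ⧸ IntMult.stalkIdeal I ξ) :=
    IsLocalRing.of_surjective' (Ideal.Quotient.mk _) Ideal.Quotient.mk_surjective
  obtain ⟨d, hd⟩ := Groth.Agent.Lib.Helper18.SerreReg.exists_ringKrullDim_eq_nat
    (X.presheaf.stalk ξ ⧸ IntMult.stalkIdeal I ξ)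
  refine ⟨d, hd, ?_⟩
  haveI : IsLocalRing (X.presheaf.stalk ξ ⧸ P.asIdeal) :=
    IsLocalRing.of_surjective' (Ideal.Quotient.mk _) Ideal.Quotient.mk_surjective
  obtain ⟨d', hd'⟩ := Groth.Agent.Lib.Helper18.SerreReg.exists_ringKrullDim_eq_nat
    (X.presheaf.stalk ξ ⧸ P.asIdeal)
  rw [hd', hd] at hle
  rw [hd'] at hform
  have h1 : a = d' + b := by exact_mod_cast hform
  have h2 : d' ≤ d := by exact_mod_cast hle
  omega

end Groth.Agent.Lib.Helper11.IntMultC
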