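import Mathlib
import Groth.Prelude.Def_IntMult
import Groth.Agent.Lib.Helper11.IntMultC
import Groth.Agent.Lib.Helper11.HSMain
import Groth.Agent.Lib.Helper11.HSMult

/-!
# Proper intersections at a generic point of a component: finite length and dimensions
-/

set_option autoImplicit false
set_option linter.style.haveILetI false
set_option linter.unusedSectionVars false
universe u

open AlgebraicGeometry CategoryTheory Limits TopologicalSpace

namespace Groth.Agent.Lib.Helper11.IntMultD

open Groth.Agent.Lib.Helper11.IntMultA Groth.Agent.Lib.Helper11.IntMultB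
  Groth.Agent.Lib.Helper11.IntMultC Groth.Agent.Lib.Helper11.HS

/-- a prime of the local ring at `ξ` containing both stalk ideals is the maximal ideal, when `ξ` is a
maximal point of the intersection -/
theorem eq_maximalIdeal_of_sup_le {X : Scheme.{u}} (IV IW : X.IdealSheafData) (ξ : X)
    (hmax : ∀ ξ' : X, ξ' ∈ IV.support → ξ' ∈ IW.support → ξ' ⤳ ξ → ξ' = ξ)
    (P : Ideal (X.presheaf.stalk ξ)) [hP : P.IsPrime]
    (h : IntMult.stalkIdeal IW ξ ⊔ IntMult.stalkIdeal IV ξ ≤ P) :
    P = IsLocalRing.maximalIdeal (X.presheaf.stalk ξ) := by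
  let Q : Spec (X.presheaf.stalk ξ) := ⟨P, hP⟩
  have h1 : X.fromSpecStalk ξ Q ∈ IV.support :=
    (fromSpecStalk_mem_support_iff IV ξ Q).2 (le_sup_right.trans h)
  have h2 : X.fromSpecStalk ξ Q ∈ IW.support :=
    (fromSpecStalk_mem_support_iff IW ξ Q).2 (le_sup_left.trans h)
  have h3 := hmax _ h1 h2 (fromSpecStalk_specializes ξ Q)
  have h4 : X.fromSpecStalk ξ Q = X.fromSpecStalk ξ (IsLocalRing.closedPoint (X.presheaf.stalk ξ)) := by
    rw [Scheme.fromSpecStalk_closedPoint]; exact h3
  have h5 := (X.fromSpecStalk ξ).isEmbedding.injective h4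
  exact congrArg PrimeSpectrum.asIdeal h5

/-- the intersection has finite length at a maximal point -/
theorem isFiniteLength_quot_sup {X : Scheme.{u}} (IV IW : X.IdealSheafData) (ξ : X)
    [IsNoetherianRing (X.presheaf.stalk ξ)]
    (hmax : ∀ ξ' : X, ξ' ∈ IV.support → ξ' ∈ IW.support → ξ' ⤳ ξ → ξ' = ξ) :
    IsFiniteLength (X.presheaf.stalk ξ)
      (X.presheaf.stalk ξ ⧸ (IntMult.stalkIdeal IW ξ ⊔ IntMult.stalkIdeal IV ξ)) := by
  have h := FL_of_forall_isMaximal (IntMult.stalkIdeal IW ξ ⊔ IntMult.stalkIdeal IV ξ)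
    (X.presheaf.stalk ξ) (fun p hp hle => by
      haveI := hp
      rw [eq_maximalIdeal_of_sup_le IV IW ξ hmax p hle]
      infer_instance)
  have h1 := h 1
  rw [← Module.length_ne_top_iff] at h1 ⊢
  rwa [length_Sq_self, pow_one] at h1

/-- properness bounds the dimension of the local ring from below -/
theorem two_mul_le (K : Type u) [Field K] (X : Scheme.{u})
    (f : X ⟶ Spec (CommRingCat.of K)) [Smooth f] [IsIntegral X]
    (IV IW : X.IdealSheafData) (n r s : ℕ) (hn : topologicalKrullDim X = n)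
    (hprop : IntMult.ProperInt (IV.support : Set X) (IW.support : Set X) n r s)
    (ξ : X) (hξV : ξ ∈ IV.support) (hξW : ξ ∈ IW.support)
    (a : ℕ) (ha : ringKrullDim (X.presheaf.stalk ξ) = a) :
    n ≤ r + s ∧ 2 * n ≤ a + r + s := by
  letI : X.Over (Spec (CommRingCat.of K)) := ⟨f⟩
  haveI : LocallyOfFiniteType (X ↘ Spec (CommRingCat.of K)) :=
    inferInstanceAs (LocallyOfFiniteType f)
  obtain ⟨z, a', ha', hz, hsum⟩ := stalk_add_closure K X n hn ξ
  have haa : a' = a := by
    rw [ha] at ha'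
    exact_mod_cast ha'.symm
  subst haa
  obtain ⟨h1, h2⟩ := hprop ⟨ξ, hξV, hξW⟩
  have hsub : closure ({ξ} : Set X) ⊆ (IV.support : Set X) ∩ (IW.support : Set X) :=
    closure_minimal (Set.singleton_subset_iff.2 ⟨hξV, hξW⟩)
      (IV.support.isClosed.inter IW.support.isClosed)
  have h3 := (Groth.Agent.Lib.Helper21.Img.topologicalKrullDim_mono hsub).trans h2
  rw [hz] at h3
  have h4 : z ≤ r + s - n := by exact_mod_cast h3
  refine ⟨h1, ?_⟩
  omega

end Groth.Agent.Lib.Helper11.IntMultD
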