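import Mathlib
import Groth.Prelude.Def_IntMult
import Groth.Agent.Lib.Helper11.KzRes
import Groth.Agent.Lib.Helper11.KzRow
import Groth.Agent.Lib.Helper11.KzDim

/-!
# `χ(M, A/(l))` (the quotient in the resolved slot) is the Koszul Euler characteristic;
regular sequences
-/

set_option autoImplicit false
set_option linter.unusedSectionVars false
universe u
open CategoryTheory CategoryTheory.Limits CochainComplex MonoidalCategory
open Groth.Agent.Lib.Helper28.Koszul CohIII

namespace Groth.Agent.Lib.Helper11.Kz

section Right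

variable {A : Type u} [CommRing A]

/-- `Tor_n(M, A/(l))` (Mathlib's `Tor`, resolving the second variable) is Koszul homology, for
Koszul-regular `l`. -/
theorem nonempty_tor_equiv_right (l : List A)
    (h : ∀ i : ℤ, i ≠ 0 → IsZero ((koszulCx (ModuleCat.of A A) l).homology i))
    (M : Type u) [AddCommGroup M] [Module A M] (n : ℕ) :
    Nonempty ((((Tor (ModuleCat.{u} A) n).obj (ModuleCat.of A M)).obj
      (ModuleCat.of A (A ⧸ Ideal.ofList l))) ≃ₗ[A] KH l M (-(n : ℤ))) := by
  obtain ⟨P, hP⟩ := exists_koszulResolution l h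
  obtain ⟨e2⟩ := nonempty_homology_tensor_equiv l M n
  let e1 := P.isoLeftDerivedObj (tensorLeft (ModuleCat.of A M)) n
  let e3 := (HomologicalComplex.homologyFunctor _ _ n).mapIso
    ((NatIso.mapHomologicalComplex (BraidedCategory.tensorLeftIsoTensorRight (ModuleCat.of A M))
      (ComplexShape.down ℕ)).app P.complex)
  rw [← hP] at e2
  exact ⟨(e1 ≪≫ e3).toLinearEquiv ≪≫ₗ e2⟩

/-- the Tor Euler characteristic with `A/(l)` in the second slot is the Koszul Euler characteristic -/
theorem intMult_chi_eq_right (l : List A)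
    (h : ∀ i : ℤ, i ≠ 0 → Limits.IsZero ((CohIII.koszulCx (ModuleCat.of A A) l).homology i))
    (M : Type u) [AddCommGroup M] [Module A M] :
    IntMult.chi A M (A ⧸ Ideal.ofList l) = chi l M := by
  unfold IntMult.chi chi chiC
  rw [alt_eq_finsum_nat]
  · refine finsum_congr fun n => ?_
    obtain ⟨e⟩ := nonempty_tor_equiv_right l h M n
    unfold hl
    rw [e.length_eq]
  · intro i hi
    unfold hl
    have : Subsingleton (KH l M i) := KH_subsingleton l M i (Or.inl hi)
    rw [Module.length_eq_zero]
    rfl

end Right

end Groth.Agent.Lib.Helper11.Kz
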