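import Mathlib
import Groth.Agent.Lib.Helper11.IntMultE

/-!
# Koszul Euler characteristic of a regular sequence; quotients of quotients
-/

set_option autoImplicit false
set_option linter.unusedSectionVars false
universe u
open RingTheory.Sequence

namespace Groth.Agent.Lib.Helper11.Kz

section Reg

variable {A : Type u} [CommRing A]

/-- for a (weakly) regular sequence, `χ(l; M) = ℓ(M/(l)M)` -/
theorem chi_of_isWeaklyRegular : ∀ (l : List A) (M : Type u) [AddCommGroup M] [Module A M],
    IsWeaklyRegular M l →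
      chi l M = ((Module.length A (M ⧸ (Ideal.ofList l • ⊤ : Submodule A M))).toNat : ℤ)
  | [], M, _, _, _ => by
    rw [chi_nil]
    have : (Ideal.ofList ([] : List A) • ⊤ : Submodule A M) = ⊥ := by
      rw [Ideal.ofList_nil, Submodule.bot_smul]
    rw [(Submodule.quotEquivOfEqBot _ this).length_eq]
  | x :: l, M, _, _, h => by
    rw [isWeaklyRegular_cons_iff] at h
    rw [chi_cons_of_regular l M x h.1, chi_of_isWeaklyRegular l (QuotSMulTop x M) h.2,
      (Submodule.quotOfListConsSMulTopEquivQuotSMulTopInner M x l).length_eq]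

/-- `(A/q)/I(A/q) ≅ A/(q + I)` -/
noncomputable def quotQuotEquiv (q I : Ideal A) :
    ((A ⧸ q) ⧸ (I • ⊤ : Submodule A (A ⧸ q))) ≃ₗ[A] A ⧸ (q ⊔ I) := by
  have h : (q ⊔ I : Submodule A A).map (Submodule.mkQ q) = (I • ⊤ : Submodule A (A ⧸ q)) := by
    rw [Submodule.map_sup]
    have h1 : Submodule.map (Submodule.mkQ q) q = ⊥ := by
      rw [← LinearMap.le_ker_iff_map, Submodule.ker_mkQ]
    have h2 : Submodule.map (Submodule.mkQ q) I = (I • ⊤ : Submodule A (A ⧸ q)) := by
      have e : (I : Submodule A A) = I • (⊤ : Submodule A A) := by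
        rw [smul_eq_mul, Ideal.mul_top]
      conv_lhs => rw [e]
      rw [Submodule.map_smul'', Submodule.map_top, Submodule.range_mkQ]
    rw [h1, h2, bot_sup_eq]
  exact (Submodule.quotEquivOfEq _ _ h.symm).trans
    (Submodule.quotientQuotientEquivQuotient q (q ⊔ I) le_sup_left)

theorem length_quot_quot (q I : Ideal A) :
    Module.length A ((A ⧸ q) ⧸ (I • ⊤ : Submodule A (A ⧸ q))) = Module.length A (A ⧸ (q ⊔ I)) :=
  (quotQuotEquiv q I).length_eq

end Reg

end Groth.Agent.Lib.Helper11.Kz
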