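import Mathlib
import Groth.Agent.Lib.Helper11.IntMultF
import Groth.Agent.Lib.Helper18.CM4
import Groth.Agent.Lib.Helper16.HB1

/-!
# Local algebra behind the intersection multiplicity with a regularly embedded subvariety
-/

set_option autoImplicit false
set_option linter.unusedSectionVars false
universe u
open RingTheory.Sequence Filter

namespace Groth.Agent.Lib.Helper11.Kz

section Alg

variable {A : Type u} [CommRing A] [IsNoetherianRing A] [IsLocalRing A]

theorem mem_maximalIdeal_of_isRegular {c : ℕ} (g : Fin c → A)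
    (hreg : IsRegular A (List.ofFn g)) (j : Fin c) : g j ∈ IsLocalRing.maximalIdeal A := by
  by_contra h
  have hu : IsUnit (g j) := by
    by_contra hnu
    exact h ((IsLocalRing.mem_maximalIdeal _).2 hnu)
  apply hreg.2
  rw [ofList_ofFn, smul_eq_mul, Ideal.mul_top, eq_comm, Ideal.eq_top_iff_one]
  obtain ⟨u, hu⟩ := hu
  have : (1 : A) = (↑u⁻¹ : A) * g j := by rw [← hu]; simp
  rw [this]
  exact Ideal.mul_mem_left _ _ (Ideal.subset_span ⟨j, rfl⟩)

variable (q : Ideal A) {c : ℕ} (g : Fin c → A) (hreg : IsRegular A (List.ofFn g))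
  (hfl : IsFiniteLength A (A ⧸ (q ⊔ Ideal.span (Set.range g))))

include hreg in
theorem chi_quot_eq : IntMult.chi A (A ⧸ q) (A ⧸ Ideal.span (Set.range g)) =
    chi (List.ofFn g) (A ⧸ q) := by
  have hK := koszulRegular_of_isWeaklyRegular (List.ofFn g) hreg.toIsWeaklyRegular
  have h1 := intMult_chi_eq_right (List.ofFn g) hK (A ⧸ q)
  have hI := ofList_ofFn g
  exact hI ▸ h1

include hfl in
theorem isFiniteLength_quot_smul :
    IsFiniteLength A ((A ⧸ q) ⧸ (Ideal.span (Set.range g) • ⊤ : Submodule A (A ⧸ q))) := by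
  rw [← Module.length_ne_top_iff, length_quot_quot, Module.length_ne_top_iff]
  exact hfl

include hreg hfl in
/-- Serre's limit formula for `χ(A/q, A/(g))` -/
theorem tendsto_quot :
    Tendsto (fun t : ℕ => (c.factorial : ℝ) *
      ((Module.length A (A ⧸ (q ⊔ Ideal.span (Set.range g) ^ t))).toNat : ℝ) / (t : ℝ) ^ c)
      atTop (nhds ((IntMult.chi A (A ⧸ q) (A ⧸ Ideal.span (Set.range g)) : ℤ) : ℝ)) := by
  rw [chi_quot_eq q g hreg]
  have h := serre_row g (A ⧸ q) (isFiniteLength_quot_smul q g hfl)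
  refine h.congr (fun t => ?_)
  rw [length_quot_quot]

include hfl in
theorem supportDim_quot_eq (hdim : (c : WithBot ℕ∞) ≤ ringKrullDim (A ⧸ q))
    (hx : ∀ j, g j ∈ IsLocalRing.maximalIdeal A) :
    Module.supportDim A (A ⧸ q) = (c : WithBot ℕ∞) := by
  refine le_antisymm ?_ (by rw [Module.supportDim_quotient_eq_ringKrullDim]; exact hdim)
  have h1 := Groth.Agent.Lib.Helper18.CM.supportDim_le_quot_ofList_add_length (List.ofFn g)
    (fun x hx' => by
      obtain ⟨j, rfl⟩ := (List.mem_ofFn' g x).1 hx'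
      exact hx j) (A ⧸ q)
  rw [ofList_ofFn, List.length_ofFn] at h1
  have h2 := Groth.Agent.Lib.Helper24.supportDim_le_zero_of_isFiniteLength
    (isFiniteLength_quot_smul q g hfl)
  calc Module.supportDim A (A ⧸ q) ≤ _ := h1
    _ ≤ 0 + (c : WithBot ℕ∞) := add_le_add_left h2 _
    _ = c := zero_add _

include hreg hfl in
theorem chi_quot_pos (hdim : (c : WithBot ℕ∞) ≤ ringKrullDim (A ⧸ q)) :
    0 < IntMult.chi A (A ⧸ q) (A ⧸ Ideal.span (Set.range g)) := by
  rw [chi_quot_eq q g hreg]
  have hx := mem_maximalIdeal_of_isRegular g hreg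
  exact chi_pos_of_supportDim_eq g hx (A ⧸ q) (isFiniteLength_quot_smul q g hfl)
    (supportDim_quot_eq q g hfl hdim hx)

end Alg

end Groth.Agent.Lib.Helper11.Kz
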