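import Mathlib
import Groth.Agent.Lib.Helper11.IntMultG

/-!
# The Cohen–Macaulay case: `χ(A/q, A/(g)) = ℓ(A/(q + (g)))`
-/

set_option autoImplicit false
set_option linter.unusedSectionVars false
universe u
open RingTheory.Sequence Filter

namespace Groth.Agent.Lib.Helper11.Kz

section CM

variable {A : Type u} [CommRing A] [IsNoetherianRing A] [IsLocalRing A]

/-- `A/q` is a Cohen–Macaulay `A`-module when it is a Cohen–Macaulay local ring -/
theorem isCohenMacaulayModule_quot (q : Ideal A) (hCM : LocCoh.IsCohenMacaulayLocalRing (A ⧸ q)) :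
    LocCoh.IsCohenMacaulayModule A (A ⧸ q) := by
  haveI := hCM.toIsLocalRing
  unfold LocCoh.IsCohenMacaulayModule
  have h1 := hCM.supportDim_eq_depth
  rw [Module.supportDim_self_eq_ringKrullDim] at h1
  rw [Module.supportDim_quotient_eq_ringKrullDim, h1,
    Groth.Agent.Lib.Helper16.HB.depth_eq_of_surjective (A := A) (B := A ⧸ q)
      Ideal.Quotient.mk_surjective (A ⧸ q)]

variable (q : Ideal A) {c : ℕ} (g : Fin c → A) (hreg : IsRegular A (List.ofFn g))
  (hfl : IsFiniteLength A (A ⧸ (q ⊔ Ideal.span (Set.range g))))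

include hreg hfl in
theorem chi_quot_eq_length (hCM : LocCoh.IsCohenMacaulayLocalRing (A ⧸ q))
    (hdim : (c : WithBot ℕ∞) ≤ ringKrullDim (A ⧸ q)) :
    IntMult.chi A (A ⧸ q) (A ⧸ Ideal.span (Set.range g)) =
      ((Module.length A (A ⧸ (q ⊔ Ideal.span (Set.range g)))).toNat : ℤ) := by
  rw [chi_quot_eq q g hreg]
  have hx := mem_maximalIdeal_of_isRegular g hreg
  have hxs : ∀ x ∈ List.ofFn g, x ∈ IsLocalRing.maximalIdeal A := fun x hx' => by
    obtain ⟨j, rfl⟩ := (List.mem_ofFn' g x).1 hx'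
    exact hx j
  have hM := isCohenMacaulayModule_quot q hCM
  have hiff := (Groth.Agent.Lib.Helper18.CM.isWeaklyRegular_iff_supportDim_and_isCohenMacaulayModule
    (List.ofFn g) hxs (A ⧸ q) hM).1
  have hd := supportDim_quot_eq q g hfl hdim hx
  have h1 := Groth.Agent.Lib.Helper18.CM.supportDim_le_quot_ofList_add_length (List.ofFn g) hxs
    (A ⧸ q)
  have h2 : Module.supportDim A ((A ⧸ q) ⧸ (Ideal.ofList (List.ofFn g) • ⊤ : Submodule A (A ⧸ q))) ≤ 0 := by
    rw [ofList_ofFn]
    exact Groth.Agent.Lib.Helper24.supportDim_le_zero_of_isFiniteLength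
      (isFiniteLength_quot_smul q g hfl)
  have hw : IsWeaklyRegular (A ⧸ q) (List.ofFn g) := by
    rw [hiff, hd, List.length_ofFn]
    rw [hd, List.length_ofFn] at h1
    refine le_antisymm ?_ h1
    calc _ ≤ 0 + (c : WithBot ℕ∞) := add_le_add_left h2 _
      _ = c := zero_add _
  rw [chi_of_isWeaklyRegular (List.ofFn g) (A ⧸ q) hw, ofList_ofFn, length_quot_quot]

end CM

end Groth.Agent.Lib.Helper11.Kz
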