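import Mathlib
import Groth.Prelude.Def_IntMult
import Groth.Agent.Lib.Helper11.IntMultC

/-!
# The stalk ideal of an integral closed subscheme is prime
-/

set_option autoImplicit false
set_option linter.style.haveILetI false
set_option linter.unusedSectionVars false
universe u

open AlgebraicGeometry CategoryTheory Limits TopologicalSpace

namespace Groth.Agent.Lib.Helper11.IntMultI

open Groth.Agent.Lib.Helper11.IntMultB Groth.Agent.Lib.Helper11.IntMultC

variable {X : Scheme.{u}}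

/-- the stalk ideal is computed on any affine open neighbourhood -/
theorem stalkIdeal_eq_map (I : X.IdealSheafData) (ξ : X) (U : X.affineOpens) (hξ : ξ ∈ U.1) :
    IntMult.stalkIdeal I ξ = (I.ideal U).map (X.presheaf.germ U.1 ξ hξ).hom := by
  have key : ∀ (V W : X.affineOpens) (hle : W ≤ V) (hW : ξ ∈ W.1),
      (I.ideal V).map (X.presheaf.germ V.1 ξ (hle hW)).hom =
        (I.ideal W).map (X.presheaf.germ W.1 ξ hW).hom := by
    intro V W hle hW
    have e : X.presheaf.germ V.1 ξ (hle hW) =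
        X.presheaf.map (homOfLE hle).op ≫ X.presheaf.germ W.1 ξ hW :=
      (X.presheaf.germ_res (homOfLE hle) ξ hW).symm
    rw [← I.map_ideal hle, Ideal.map_map, ← CommRingCat.hom_comp, e]
  refine le_antisymm ?_ ?_
  · unfold IntMult.stalkIdeal
    refine iSup_le fun U' => iSup_le fun h' => ?_
    obtain ⟨_, ⟨W, hW, rfl⟩, hξW, hWsub⟩ :=
      X.isBasis_affineOpens.exists_subset_of_mem_open (show ξ ∈ (U.1 ⊓ U'.1 : X.Opens) from ⟨hξ, h'⟩)
        (U.1 ⊓ U'.1).2
    have h1 : (⟨W, hW⟩ : X.affineOpens) ≤ U := fun x hx => (hWsub hx).1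
    have h2 : (⟨W, hW⟩ : X.affineOpens) ≤ U' := fun x hx => (hWsub hx).2
    rw [key U' ⟨W, hW⟩ h2 hξW, ← key U ⟨W, hW⟩ h1 hξW]
  · unfold IntMult.stalkIdeal
    exact le_iSup_of_le U (le_iSup_of_le hξ le_rfl)

/-- the ideal of an integral closed subscheme on an affine open meeting it is prime -/
theorem ideal_isPrime (I : X.IdealSheafData) [IsIntegral I.subscheme] (U : X.affineOpens)
    (ξ : X) (hξ : ξ ∈ I.support) (hξU : ξ ∈ U.1) : (I.ideal U).IsPrime := by
  rw [← I.ker_subschemeι_app U]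
  have hw : ξ ∈ Set.range I.subschemeι := by rw [I.range_subschemeι]; exact hξ
  obtain ⟨w, hw⟩ := hw
  have hne : Nonempty ↥(I.subschemeι ⁻¹ᵁ U.1) := ⟨⟨w, by
    show I.subschemeι w ∈ U.1
    rw [hw]; exact hξU⟩⟩
  haveI : IsDomain Γ(I.subscheme, I.subschemeι ⁻¹ᵁ U.1) :=
    @IsIntegral.component_integral _ _ (I.subschemeι ⁻¹ᵁ U.1) hne
  exact RingHom.ker_isPrime _

theorem stalkIdeal_isPrime (I : X.IdealSheafData) [IsIntegral I.subscheme] (ξ : X)
    (hξ : ξ ∈ I.support) : (IntMult.stalkIdeal I ξ).IsPrime := by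
  obtain ⟨_, ⟨U, hU, rfl⟩, hξU, -⟩ :=
    X.isBasis_affineOpens.exists_subset_of_mem_open (Set.mem_univ ξ) isOpen_univ
  have hle := stalkIdeal_le_maximalIdeal I ξ hξ
  rw [stalkIdeal_eq_map I ξ ⟨U, hU⟩ hξU] at hle ⊢
  haveI hp := ideal_isPrime I ⟨U, hU⟩ ξ hξ hξU
  letI : Algebra Γ(X, U) (X.presheaf.stalk ξ) :=
    TopCat.Presheaf.algebra_section_stalk X.presheaf (⟨ξ, hξU⟩ : U)
  haveI : IsLocalization.AtPrime (X.presheaf.stalk ξ) (hU.primeIdealOf ⟨ξ, hξU⟩).asIdeal :=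
    hU.isLocalization_stalk ⟨ξ, hξU⟩
  have hne : (I.ideal ⟨U, hU⟩).map (algebraMap Γ(X, U) (X.presheaf.stalk ξ)) ≠ ⊤ := by
    intro h
    exact (IsLocalRing.maximalIdeal.isMaximal _).ne_top (top_le_iff.1 (h ▸ hle))
  rw [IsLocalization.map_algebraMap_ne_top_iff_disjoint
    (hU.primeIdealOf ⟨ξ, hξU⟩).asIdeal.primeCompl] at hne
  exact IsLocalization.isPrime_of_isPrime_disjoint (hU.primeIdealOf ⟨ξ, hξU⟩).asIdeal.primeCompl
    (X.presheaf.stalk ξ) _ hp hne

end Groth.Agent.Lib.Helper11.IntMultI
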