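import Mathlib
import Groth.Agent.Lib.Helper11.IntMultF

/-!
# `χ(A/q, A/(g)) = ℓ(A/(q + (g)))` for a prime `q` and a regular element `g ∉ q`
-/

set_option autoImplicit false
set_option linter.unusedSectionVars false
universe u
open RingTheory.Sequence Filter

namespace Groth.Agent.Lib.Helper11.Kz

section Single

variable {A : Type u} [CommRing A]

theorem chi_quot_singleton (q : Ideal A) [hq : q.IsPrime] (g : A) (hreg : IsSMulRegular A g)
    (hgq : g ∉ q) :
    IntMult.chi A (A ⧸ q) (A ⧸ Ideal.span {g}) =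
      ((Module.length A (A ⧸ (q ⊔ Ideal.span {g}))).toNat : ℤ) := by
  have hwA : IsWeaklyRegular A [g] := by
    rw [isWeaklyRegular_cons_iff]
    exact ⟨hreg, IsWeaklyRegular.nil A _⟩
  have hK := koszulRegular_of_isWeaklyRegular [g] hwA
  have h1 := intMult_chi_eq_right [g] hK (A ⧸ q)
  have hI : Ideal.ofList [g] = Ideal.span {g} := Ideal.ofList_singleton g
  have h2 : IntMult.chi A (A ⧸ q) (A ⧸ Ideal.span {g}) = chi [g] (A ⧸ q) := hI ▸ h1
  have hsm : IsSMulRegular (A ⧸ q) g := by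
    intro x y hxy
    obtain ⟨a, rfl⟩ := Ideal.Quotient.mk_surjective x
    obtain ⟨b, rfl⟩ := Ideal.Quotient.mk_surjective y
    have h3 : (Ideal.Quotient.mk q) (g * a) = (Ideal.Quotient.mk q) (g * b) := hxy
    rw [Ideal.Quotient.eq, ← mul_sub] at h3
    rw [Ideal.Quotient.eq]
    exact (hq.mem_or_mem h3).resolve_left hgq
  have hw : IsWeaklyRegular (A ⧸ q) [g] := by
    rw [isWeaklyRegular_cons_iff]
    exact ⟨hsm, IsWeaklyRegular.nil A _⟩
  rw [h2, chi_of_isWeaklyRegular [g] (A ⧸ q) hw, hI, length_quot_quot]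

end Single

end Groth.Agent.Lib.Helper11.Kz
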