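import Mathlib
import Groth.Agent.Lib.Helper12.RegularSeqQuot
import Groth.Agent.Lib.Helper16.RegularDim
import Groth.Agent.Lib.Helper21.RegularLocal

/-!
# Transversal primes in a regular local ring: `p + q = 𝔪`, `dim A/p + dim A/q ≥ dim A`
-/

set_option autoImplicit false
set_option linter.unusedSectionVars false
universe u
open RingTheory.Sequence IsLocalRing

namespace Groth.Agent.Lib.Helper11.IntMultK

variable {A : Type u} [CommRing A]

/-- independence modulo `𝔪²` -/
def Ind [IsLocalRing A] {h : ℕ} (x : Fin h → A) : Prop :=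
  ∀ c : Fin h → A, ∑ j, c j * x j ∈ maximalIdeal A ^ 2 → ∀ j, c j ∈ maximalIdeal A

section Max

variable [IsRegularLocalRing A]

theorem length_le_of_ind {h : ℕ} (x : Fin h → A) (hx : ∀ i, x i ∈ maximalIdeal A) (hind : Ind x)
    (a : ℕ) (ha : ringKrullDim A = a) : h ≤ a := by
  obtain ⟨-, hreg⟩ := Groth.Agent.Lib.Helper12.isRegularLocalRing_quotient_and_isRegular_of_indep
    h A x hx hind
  have h1 := ringKrullDim_add_length_eq_ringKrullDim_of_isRegular (List.ofFn x) hreg
  rw [List.length_ofFn, ha] at h1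
  have hne : Ideal.ofList (List.ofFn x) ≠ ⊤ := by
    intro htop
    have hle : Ideal.ofList (List.ofFn x) ≤ maximalIdeal A := by
      rw [Ideal.ofList, Ideal.span_le]
      intro y hy
      simp only [List.mem_ofFn, Set.mem_setOf_eq] at hy
      obtain ⟨i, rfl⟩ := hy
      exact hx i
    rw [htop] at hle
    exact (maximalIdeal.isMaximal A).ne_top (top_le_iff.1 hle)
  haveI : Nontrivial (A ⧸ Ideal.ofList (List.ofFn x)) := Ideal.Quotient.nontrivial_iff.2 hne
  have h2 : (0 : WithBot ℕ∞) ≤ ringKrullDim (A ⧸ Ideal.ofList (List.ofFn x)) :=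
    ringKrullDim_nonneg_of_nontrivial
  have h3 : (h : WithBot ℕ∞) ≤ a := by
    rw [← h1]
    calc (h : WithBot ℕ∞) = 0 + h := (zero_add _).symm
      _ ≤ _ := add_le_add_left h2 _
  exact_mod_cast h3

/-- a maximal family in `p` independent modulo `𝔪²` generates `p` modulo `𝔪²` -/
theorem exists_maximal_ind (p : Ideal A) (hp : p ≤ maximalIdeal A) :
    ∃ (h : ℕ) (x : Fin h → A), (∀ i, x i ∈ p) ∧ Ind x ∧
      p ≤ Ideal.span (Set.range x) ⊔ maximalIdeal A ^ 2 := by
  obtain ⟨a, ha⟩ := Groth.Agent.Lib.Helper21.exists_nat_eq_ringKrullDim (R := A)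
  let P : ℕ → Prop := fun h => ∃ x : Fin h → A, (∀ i, x i ∈ p) ∧ Ind x
  have hP0 : P 0 := ⟨Fin.elim0, fun i => i.elim0, fun c _ j => j.elim0⟩
  have hbd : ∀ h, P h → h ≤ a := by
    rintro h ⟨x, hxp, hind⟩
    exact length_le_of_ind x (fun i => hp (hxp i)) hind a ha
  obtain ⟨h, hPh, hnP⟩ : ∃ h, P h ∧ ¬ P (h + 1) := by
    by_contra hcon
    push Not at hcon
    have hall : ∀ h, P h := by
      intro h
      induction h with
      | zero => exact hP0
      | succ n ih => exact hcon n ih
    have := hbd (a + 1) (hall (a + 1))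
    omega
  obtain ⟨x, hxp, hind⟩ := hPh
  refine ⟨h, x, hxp, hind, fun z hz => ?_⟩
  by_contra hzn
  apply hnP
  refine ⟨Fin.cons z x, fun i => ?_, ?_⟩
  · refine Fin.cases ?_ (fun j => ?_) i
    · simpa using hz
    · simpa using hxp j
  · intro c hc
    rw [Fin.sum_univ_succ] at hc
    simp only [Fin.cons_zero, Fin.cons_succ] at hc
    have hc0 : c 0 ∈ maximalIdeal A := by
      by_contra hc0
      have hu : IsUnit (c 0) := by
        by_contra hnu
        exact hc0 ((mem_maximalIdeal _).2 hnu)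
      obtain ⟨u, hu⟩ := hu
      apply hzn
      have hz' : z = (↑u⁻¹ : A) * (c 0 * z + ∑ j : Fin h, c j.succ * x j) +
          ∑ j : Fin h, (-(↑u⁻¹ : A) * c j.succ) * x j := by
        have e1 : (↑u⁻¹ : A) * (c 0 * z + ∑ j : Fin h, c j.succ * x j) =
            z + ∑ j : Fin h, (↑u⁻¹ : A) * (c j.succ * x j) := by
          rw [← hu, mul_add, ← mul_assoc, Units.inv_mul, one_mul, Finset.mul_sum]
        have e2 : ∑ j : Fin h, (-(↑u⁻¹ : A) * c j.succ) * x j =
            - ∑ j : Fin h, (↑u⁻¹ : A) * (c j.succ * x j) := by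
          rw [← Finset.sum_neg_distrib]
          refine Finset.sum_congr rfl (fun j _ => ?_)
          ring
        rw [e1, e2]
        ring
      rw [hz', add_comm]
      refine Submodule.add_mem_sup ?_ ?_
      · exact Ideal.sum_mem _ (fun j _ => Ideal.mul_mem_left _ _ (Ideal.subset_span ⟨j, rfl⟩))
      · exact Ideal.mul_mem_left _ _ hc
    have hrest : ∑ j : Fin h, c j.succ * x j ∈ maximalIdeal A ^ 2 := by
      have h1 : c 0 * z ∈ maximalIdeal A ^ 2 := by
        rw [pow_two]
        exact Ideal.mul_mem_mul hc0 (hp hz)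
      have := Ideal.sub_mem _ hc h1
      rwa [add_sub_cancel_left] at this
    have := hind (fun j => c j.succ) hrest
    intro j
    exact Fin.cases hc0 this j

end Max

end Groth.Agent.Lib.Helper11.IntMultK
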