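import Mathlib
import Groth.Agent.Lib.Helper11.IntMultK
import Groth.Agent.Lib.Helper11.KzRow

/-!
# Transversal primes in a regular local ring

If `p ⊔ q = 𝔪` and `dim A ≤ dim A/p + dim A/q` then `p` and `q` are generated by parts of a regular
system of parameters.
-/

set_option autoImplicit false
set_option linter.unusedSectionVars false
universe u
open RingTheory.Sequence IsLocalRing

namespace Groth.Agent.Lib.Helper11.IntMultL

open Groth.Agent.Lib.Helper11.IntMultK

variable {A : Type u} [CommRing A] [IsRegularLocalRing A]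

theorem span_le_maximalIdeal {h : ℕ} (x : Fin h → A) (hx : ∀ i, x i ∈ maximalIdeal A) :
    Ideal.span (Set.range x) ≤ maximalIdeal A := by
  rw [Ideal.span_le]
  rintro _ ⟨i, rfl⟩
  exact hx i

theorem dim_quot_of_ind {h : ℕ} (x : Fin h → A) (hx : ∀ i, x i ∈ maximalIdeal A) (hind : Ind x)
    (a : ℕ) (ha : ringKrullDim A = a) :
    ∃ d : ℕ, ringKrullDim (A ⧸ Ideal.span (Set.range x)) = d ∧ d + h = a := by
  obtain ⟨hR, hreg⟩ := Groth.Agent.Lib.Helper12.isRegularLocalRing_quotient_and_isRegular_of_indep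
    h A x hx hind
  have h1 := ringKrullDim_add_length_eq_ringKrullDim_of_isRegular (List.ofFn x) hreg
  rw [List.length_ofFn, ha, Groth.Agent.Lib.Helper11.Kz.ofList_ofFn] at h1
  obtain ⟨d, hd⟩ := Groth.Agent.Lib.Helper21.exists_nat_eq_ringKrullDim
    (R := A ⧸ Ideal.span (Set.range x))
  refine ⟨d, hd, ?_⟩
  rw [hd] at h1
  exact_mod_cast h1

theorem dim_le_of_span_sup_span {h h' : ℕ} (x : Fin h → A) (y : Fin h' → A)
    (hxy : Ideal.span (Set.range x) ⊔ Ideal.span (Set.range y) = maximalIdeal A)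
    (a : ℕ) (ha : ringKrullDim A = a) : a ≤ h + h' := by
  have hs : Ideal.span (Set.range x ∪ Set.range y) = maximalIdeal A := by
    rw [Ideal.span_union, hxy]
  have hsub : Set.range x ∪ Set.range y ⊆ Ring.jacobson A := by
    rw [IsLocalRing.ringJacobson_eq_maximalIdeal]
    intro z hz
    have : z ∈ Ideal.span (Set.range x ∪ Set.range y) := Ideal.subset_span hz
    rw [hs] at this
    exact this
  have h1 := ringKrullDim_le_ringKrullDim_quotient_add_encard _ hsub
  rw [hs, ha] at h1
  have h2 : ringKrullDim (A ⧸ maximalIdeal A) = 0 := by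
    letI : Field (A ⧸ maximalIdeal A) := Ideal.Quotient.field _
    exact ringKrullDim_eq_zero_of_field _
  rw [h2, zero_add] at h1
  have h3 : (Set.range x ∪ Set.range y).encard ≤ ((h + h' : ℕ) : ℕ∞) := by
    refine (Set.encard_union_le _ _).trans ?_
    have e1 : (Set.range x).encard ≤ h := by
      rw [← Set.image_univ]
      refine (Set.encard_image_le _ _).trans ?_
      rw [Set.encard_univ, ENat.card_eq_coe_fintype_card, Fintype.card_fin]
    have e2 : (Set.range y).encard ≤ h' := by
      rw [← Set.image_univ]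
      refine (Set.encard_image_le _ _).trans ?_
      rw [Set.encard_univ, ENat.card_eq_coe_fintype_card, Fintype.card_fin]
    push_cast
    exact add_le_add e1 e2
  have h4 : ((a : ℕ∞) : WithBot ℕ∞) ≤ (((h + h' : ℕ) : ℕ∞) : WithBot ℕ∞) :=
    h1.trans (WithBot.coe_le_coe.2 h3)
  exact_mod_cast h4

theorem height_eq_of_dim (p : Ideal A) [p.IsPrime] (a d : ℕ) (ha : ringKrullDim A = a)
    (hd : ringKrullDim (A ⧸ p) = d) : ∃ t : ℕ, p.height = t ∧ d + t = a := by
  have h1 := Groth.Agent.Lib.Helper16.PDR.ringKrullDim_eq_quotient_add_height A p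
  rw [ha, hd] at h1
  have hfin : p.height ≠ ⊤ := Ideal.height_ne_top Ideal.IsPrime.ne_top'
  lift p.height to ℕ using hfin with t ht
  refine ⟨t, rfl, ?_⟩
  exact_mod_cast h1.symm

/-- the main structure theorem for transversal primes -/
theorem main (p q : Ideal A) [p.IsPrime] [q.IsPrime] (hpq : p ⊔ q = maximalIdeal A)
    (a dp dq : ℕ) (ha : ringKrullDim A = a) (hdp : ringKrullDim (A ⧸ p) = dp)
    (hdq : ringKrullDim (A ⧸ q) = dq) (hsum : a ≤ dp + dq) :
    ∃ (h : ℕ) (x : Fin h → A), p = Ideal.span (Set.range x) ∧ IsRegular A (List.ofFn x) ∧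
      h + dp = a ∧ h ≤ dq ∧ IsRegularLocalRing (A ⧸ p) := by
  have hp : p ≤ maximalIdeal A := le_sup_left.trans hpq.le
  have hq : q ≤ maximalIdeal A := le_sup_right.trans hpq.le
  obtain ⟨h, x, hxp, hindx, hpx⟩ := exists_maximal_ind p hp
  obtain ⟨h', y, hyq, hindy, hqy⟩ := exists_maximal_ind q hq
  have hxm : ∀ i, x i ∈ maximalIdeal A := fun i => hp (hxp i)
  have hym : ∀ i, y i ∈ maximalIdeal A := fun i => hq (hyq i)
  -- Nakayama
  have hxy : Ideal.span (Set.range x) ⊔ Ideal.span (Set.range y) = maximalIdeal A := by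
    apply le_antisymm
    · exact sup_le (span_le_maximalIdeal x hxm) (span_le_maximalIdeal y hym)
    · apply Submodule.le_of_le_smul_of_le_jacobson_bot (I := maximalIdeal A)
        (IsNoetherian.noetherian _)
      · rw [IsLocalRing.jacobson_eq_maximalIdeal ⊥ bot_ne_top]
      · rw [← hpq]
        refine sup_le ?_ ?_
        · refine hpx.trans ?_
          rw [hpq, smul_eq_mul, ← pow_two]
          exact sup_le_sup_right le_sup_left _
        · refine hqy.trans ?_
          rw [hpq, smul_eq_mul, ← pow_two]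
          exact sup_le_sup_right le_sup_right _
  have hah := dim_le_of_span_sup_span x y hxy a ha
  obtain ⟨hRx, hregx⟩ :=
    Groth.Agent.Lib.Helper12.isRegularLocalRing_quotient_and_isRegular_of_indep h A x hxm hindx
  obtain ⟨hRy, hregy⟩ :=
    Groth.Agent.Lib.Helper12.isRegularLocalRing_quotient_and_isRegular_of_indep h' A y hym hindy
  obtain ⟨dx, hdx, hdx'⟩ := dim_quot_of_ind x hxm hindx a ha
  obtain ⟨dy, hdy, hdy'⟩ := dim_quot_of_ind y hym hindy a ha
  have hxle : Ideal.span (Set.range x) ≤ p := by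
    rw [Ideal.span_le]
    rintro _ ⟨i, rfl⟩
    exact hxp i
  have hyle : Ideal.span (Set.range y) ≤ q := by
    rw [Ideal.span_le]
    rintro _ ⟨i, rfl⟩
    exact hyq i
  have h1 : dp ≤ dx := by
    have := ringKrullDim_le_of_surjective (Ideal.Quotient.factor hxle)
      (Ideal.Quotient.factor_surjective hxle)
    rw [hdp, hdx] at this
    exact_mod_cast this
  have h2 : dq ≤ dy := by
    have := ringKrullDim_le_of_surjective (Ideal.Quotient.factor hyle)
      (Ideal.Quotient.factor_surjective hyle)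
    rw [hdq, hdy] at this
    exact_mod_cast this
  haveI : IsDomain (A ⧸ Ideal.span (Set.range x)) :=
    Groth.Agent.Lib.Helper21.isDomain_of_isRegularLocalRing _
  haveI hprime : (Ideal.span (Set.range x)).IsPrime := (Ideal.Quotient.isDomain_iff_prime _).1 ‹_›
  obtain ⟨t, ht, ht'⟩ := height_eq_of_dim p a dp ha hdp
  obtain ⟨tx, htx, htx'⟩ := height_eq_of_dim (Ideal.span (Set.range x)) a dx ha hdx
  have hpeq : Ideal.span (Set.range x) = p := by
    haveI : (Ideal.span (Set.range x)).FiniteHeight :=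
      (Ideal.finiteHeight_iff _).2 (Or.inr (by rw [htx]; exact ENat.natCast_ne_top _))
    refine Ideal.eq_of_le_of_height_le (I := Ideal.span (Set.range x)) (J := p) hxle ?_
    rw [ht, htx]
    exact_mod_cast (by omega : t ≤ tx)
  refine ⟨h, x, hpeq.symm, hregx, by omega, by omega, ?_⟩
  rw [← hpeq]
  exact hRx

end Groth.Agent.Lib.Helper11.IntMultL
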