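import Mathlib
import Groth.Prelude.Def_IntMult
import Groth.Agent.Lib.Helper11.IntMultN
import Groth.Agent.Lib.Helper11.IntMultH
import Groth.Agent.Lib.Helper16.PDRegular

/-!
# `χ(A/q, A/p) = ℓ(A/(p+q))` for Cohen–Macaulay quotients of complementary dimension
-/

set_option autoImplicit false
set_option linter.unusedSectionVars false
universe u
open CategoryTheory TensorProduct

namespace Groth.Agent.Lib.Helper11.IntMultO

open Groth.Agent.Lib.Helper11.Acyc Groth.Agent.Lib.Helper16.Depth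

variable {A : Type u} [CommRing A] [IsRegularLocalRing A]

theorem depth_quot_eq (p : Ideal A) (hV : LocCoh.IsCohenMacaulayLocalRing (A ⧸ p)) (dp : ℕ)
    (hdp : ringKrullDim (A ⧸ p) = dp) : LocCoh.depth A (A ⧸ p) = dp := by
  have h1 := Groth.Agent.Lib.Helper11.Kz.isCohenMacaulayModule_quot p hV
  unfold LocCoh.IsCohenMacaulayModule at h1
  rw [Module.supportDim_quotient_eq_ringKrullDim, hdp] at h1
  have h2 : ((dp : ℕ∞) : WithBot ℕ∞) = ((LocCoh.depth A (A ⧸ p) : ℕ∞) : WithBot ℕ∞) := h1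
  exact (WithBot.coe_injective h2).symm

theorem tor_subsingleton (p q : Ideal A) (hV : LocCoh.IsCohenMacaulayLocalRing (A ⧸ p))
    (hW : LocCoh.IsCohenMacaulayLocalRing (A ⧸ q)) (a dp dq : ℕ) (ha : ringKrullDim A = a)
    (hdp : ringKrullDim (A ⧸ p) = dp) (hdq : ringKrullDim (A ⧸ q) = dq) (hsum : a ≤ dp + dq)
    (hfl : IsFiniteLength A (A ⧸ (q ⊔ p))) (i : ℕ) (hi : 1 ≤ i) :
    Subsingleton (DRing.Tor A i (A ⧸ q) (A ⧸ p)) := by
  have hdepp := depth_quot_eq p hV dp hdp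
  have hdepq := depth_quot_eq q hW dq hdq
  have hEV : ∀ j, j < dp → EV A (A ⧸ p) j := by
    intro j hj
    have h1 : ((dp : ℕ) : ℕ∞) ≤ LocCoh.idealDepth (IsLocalRing.maximalIdeal A) (A ⧸ p) := by
      have := hdepp.ge
      unfold LocCoh.depth at this
      exact this
    exact (le_idealDepth_iff_ext' _ (A ⧸ p) dp).1 h1 j hj
  have hdqa : dq ≤ a := by
    have := ringKrullDim_le_of_surjective (Ideal.Quotient.mk q) Ideal.Quotient.mk_surjective
    rw [ha, hdq] at this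
    exact_mod_cast this
  have hpd : HasProjectiveDimensionLT (ModuleCat.of A (A ⧸ q)) (a - dq + 1) := by
    apply Groth.Agent.Lib.Helper16.PDR.hasProjectiveDimensionLT_succ_of_le_depth A a ha
    rw [hdepq]
    exact_mod_cast (by omega : a ≤ a - dq + dq)
  have hflT : ∀ i, 1 ≤ i → IsFiniteLength A (DRing.Tor A i (A ⧸ q) (A ⧸ p)) := by
    intro i _
    refine Groth.Agent.Lib.Helper11.IntMultN.isFiniteLength_tor (A ⧸ q) (A ⧸ p) q p ?_ ?_ hfl i
    · intro x hx m
      obtain ⟨m, rfl⟩ := Ideal.Quotient.mk_surjective m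
      rw [← Ideal.Quotient.mk_eq_mk, ← Submodule.Quotient.mk_smul, Submodule.Quotient.mk_eq_zero,
        smul_eq_mul]
      exact Ideal.mul_mem_right _ _ hx
    · intro x hx m
      obtain ⟨m, rfl⟩ := Ideal.Quotient.mk_surjective m
      rw [← Ideal.Quotient.mk_eq_mk, ← Submodule.Quotient.mk_smul, Submodule.Quotient.mk_eq_zero,
        smul_eq_mul]
      exact Ideal.mul_mem_right _ _ hx
  exact (Groth.Agent.Lib.Helper11.IntMultM.tor_vanish (A ⧸ p) dp hEV (a - dq) (A ⧸ q) hpd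
    (by omega) hflT).1 i hi

theorem tor_zero_length (p q : Ideal A) :
    Module.length A (DRing.Tor A 0 (A ⧸ q) (A ⧸ p)) = Module.length A (A ⧸ (p ⊔ q)) := by
  obtain ⟨e⟩ := Groth.Agent.Lib.Helper2.TorBalance.tor_zero_iso (M := ModuleCat.of A (A ⧸ q))
    (ModuleCat.of A (A ⧸ p))
  have e1 : DRing.Tor A 0 (A ⧸ q) (A ⧸ p) ≃ₗ[A] (A ⧸ q) ⊗[A] (A ⧸ p) := e.toLinearEquiv
  rw [e1.length_eq, (TensorProduct.quotTensorEquivQuotSMul (A ⧸ p) q).length_eq,
    Groth.Agent.Lib.Helper11.Kz.length_quot_quot]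

theorem chi_eq_length (p q : Ideal A) (hV : LocCoh.IsCohenMacaulayLocalRing (A ⧸ p))
    (hW : LocCoh.IsCohenMacaulayLocalRing (A ⧸ q)) (a dp dq : ℕ) (ha : ringKrullDim A = a)
    (hdp : ringKrullDim (A ⧸ p) = dp) (hdq : ringKrullDim (A ⧸ q) = dq) (hsum : a ≤ dp + dq)
    (hfl : IsFiniteLength A (A ⧸ (q ⊔ p))) :
    IntMult.chi A (A ⧸ q) (A ⧸ p) = ((Module.length A (A ⧸ (p ⊔ q))).toNat : ℤ) := by
  unfold IntMult.chi
  rw [finsum_eq_single _ 0, pow_zero, one_mul, tor_zero_length]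
  intro i hi
  haveI := tor_subsingleton p q hV hW a dp dq ha hdp hdq hsum hfl i (by omega)
  rw [Module.length_eq_zero]
  simp

end Groth.Agent.Lib.Helper11.IntMultO
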