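import Mathlib
import Groth.Prelude.Def_CAlg
import Groth.Agent.Lib.Helper23.FinDD1
import Groth.Agent.Lib.Helper23.FinDD2
import Groth.Agent.Lib.Helper18.SerreNormal
import Groth.Agent.Lib.Helper16.DepthExt

/-!
# Cohen–Macaulayness and `(S_r)` descend to module-finite direct summands with equal heights

Setting: `A → R` injective, module-finite, both Noetherian, `ht (P ∩ A) = ht P` for every prime
`P` of `R` (e.g. integral + going-down), and an `A`-linear retraction `E : R → A`.

* `idealDepth_le_of_retract` : depth of a retract is at least the depth of the module;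
* `hasSk_of_retract` : `(S_r)` for `R` gives `(S_r)` for the `A`-module `R` and for `A`;
* `cm_of_retract` : `R` Cohen–Macaulay gives `A` Cohen–Macaulay and `R` maximal Cohen–Macaulay
  over `A`.
-/

set_option autoImplicit false
set_option linter.unusedSectionVars false
set_option linter.style.haveILetI false
universe u

open CategoryTheory IsLocalRing Pointwise
open Groth.Agent.Lib.Helper16.Depth Groth.Agent.Lib.Helper18.CM

namespace Groth.Agent.Lib.Helper11.InvCM

section retract

variable {R : Type u} [CommRing R] [IsNoetherianRing R] (I : Ideal R)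
  {M N : Type u} [AddCommGroup M] [Module R M] [Module.Finite R M]
  [AddCommGroup N] [Module R N] [Module.Finite R N]

/-- the depth of a retract is at least the depth of the ambient module. -/
theorem idealDepth_le_of_retract (ι : N →ₗ[R] M) (π : M →ₗ[R] N)
    (h : π ∘ₗ ι = LinearMap.id) :
    LocCoh.idealDepth I M ≤ LocCoh.idealDepth I N := by
  rw [← ENat.forall_natCast_le_iff_le]
  intro n hn
  rw [le_idealDepth_iff_ext'] at hn ⊢
  intro i hi
  have hM := hn i hi
  have hcomp : ModuleCat.ofHom ι ≫ ModuleCat.ofHom π = 𝟙 (ModuleCat.of R N) := by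
    rw [← ModuleCat.ofHom_comp, h]
    rfl
  have key : ∀ x : Abelian.Ext (ModuleCat.of R (R ⧸ I)) (ModuleCat.of R N) i,
      (x.comp (Abelian.Ext.mk₀ (ModuleCat.ofHom ι)) (add_zero i)).comp
        (Abelian.Ext.mk₀ (ModuleCat.ofHom π)) (add_zero i) = x := by
    intro x
    rw [Abelian.Ext.comp_assoc_of_third_deg_zero, Abelian.Ext.mk₀_comp_mk₀, hcomp,
      Abelian.Ext.comp_mk₀_id]
  refine ⟨fun x y => ?_⟩
  rw [← key x, ← key y]
  congr 1
  exact Subsingleton.elim _ _

end retract

section main

variable {A R : Type u} [CommRing A] [CommRing R] [Algebra A R] [IsNoetherianRing A]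
  [IsNoetherianRing R] [Module.Finite A R]

/-- the primes of `R` over `p` (all in the support of `R`). -/
theorem fibre_nonempty (hinj : Function.Injective (algebraMap A R)) (p : Ideal A) [hp : p.IsPrime] :
    {q : PrimeSpectrum R | q.asIdeal.comap (algebraMap A R) = p ∧
      q ∈ Module.support R R}.Nonempty := by
  haveI : Algebra.IsIntegral A R := Algebra.IsIntegral.of_finite A R
  obtain ⟨Q, -, hQ, hQp⟩ := Ideal.exists_ideal_over_prime_of_isIntegral p (⊥ : Ideal R) (by
    intro a ha
    rw [Ideal.mem_comap, Ideal.mem_bot] at ha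
    have : a = 0 := hinj (ha.trans (map_zero _).symm)
    rw [this]
    exact Ideal.zero_mem _)
  refine ⟨⟨Q, hQ⟩, hQp, ?_⟩
  rw [Module.support_of_algebra, PrimeSpectrum.mem_zeroLocus]
  intro x hx
  have hx0 : x = 0 := hx
  rw [hx0]
  exact Q.zero_mem

variable (hht : ∀ (P : Ideal R) [P.IsPrime], (P.comap (algebraMap A R)).height = P.height)
  (hinj : Function.Injective (algebraMap A R))

include hht hinj in
theorem supportDim_localizedModule_eq (p : Ideal A) [hp : p.IsPrime] :
    Module.supportDim (Localization.AtPrime p) (LocalizedModule p.primeCompl R) =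
      ((p.height : ℕ∞) : WithBot ℕ∞) := by
  rw [Groth.Agent.Lib.Helper23.FinDD.supportDim_eq_iSup A R R p]
  have : ∀ q ∈ {q : PrimeSpectrum R | q.asIdeal.comap (algebraMap A R) = p ∧
      q ∈ Module.support R R},
      Module.supportDim (Localization.AtPrime q.asIdeal)
        (LocalizedModule q.asIdeal.primeCompl R) = ((p.height : ℕ∞) : WithBot ℕ∞) := by
    rintro q ⟨hq, -⟩
    rw [Groth.Agent.Lib.Helper18.Serre.supportDim_localizedModule_self, ← hht q.asIdeal, hq]
  rw [iSup_congr fun q => iSup_congr fun hq => this q hq]
  exact biSup_const (fibre_nonempty hinj p)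

theorem min_cast_le_iff (r : ℕ) (h d : ℕ∞) :
    min (r : WithBot ℕ∞) ((h : ℕ∞) : WithBot ℕ∞) ≤ ((d : ℕ∞) : WithBot ℕ∞) ↔
      min (r : ℕ∞) h ≤ d := by
  rw [show (r : WithBot ℕ∞) = ((r : ℕ∞) : WithBot ℕ∞) from rfl, ← WithBot.coe_min,
    WithBot.coe_le_coe]

variable (E : R →ₗ[A] A) (hE : ∀ a, E (algebraMap A R a) = a)

include hE in
/-- the depth of `A_p` is at least the depth of `R_p`. -/
theorem depth_localizedModule_le (p : Ideal A) [hp : p.IsPrime] :
    LocCoh.depth (Localization.AtPrime p) (LocalizedModule p.primeCompl R) ≤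
      LocCoh.depth (Localization.AtPrime p) (LocalizedModule p.primeCompl A) := by
  unfold LocCoh.depth
  refine idealDepth_le_of_retract _ (LocalizedModule.map p.primeCompl (Algebra.linearMap A R))
    (LocalizedModule.map p.primeCompl E) ?_
  apply LinearMap.ext
  intro x
  induction x using LocalizedModule.induction_on with
  | h m s =>
    simp only [LinearMap.comp_apply, LocalizedModule.map_mk, Algebra.linearMap_apply, hE,
      LinearMap.id_apply]

include hht hinj hE in
theorem hasSk_of_retract (r : ℕ) (hR : LocCoh.HasSk r R R) :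
    LocCoh.HasSk r A R ∧ LocCoh.HasSk r A A := by
  have key : ∀ (p : Ideal A) [p.IsPrime], min (r : ℕ∞) p.height ≤
      LocCoh.depth (Localization.AtPrime p) (LocalizedModule p.primeCompl R) := by
    intro p hp
    rw [Groth.Agent.Lib.Helper23.FinDD.depth_eq_iInf A R R p]
    refine le_iInf₂ ?_
    rintro q ⟨hq, -⟩
    have h1 := hR q.asIdeal
    rw [Groth.Agent.Lib.Helper18.Serre.supportDim_localizedModule_self, min_cast_le_iff,
      ← hht q.asIdeal, hq] at h1
    exact h1
  constructor
  · intro p hp
    rw [supportDim_localizedModule_eq hht hinj p, min_cast_le_iff]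
    exact key p
  · intro p hp
    rw [Groth.Agent.Lib.Helper18.Serre.supportDim_localizedModule_self, min_cast_le_iff]
    exact (key p).trans (depth_localizedModule_le E hE p)

include hht hinj hE in
theorem cm_of_retract (hR : LocCoh.IsCohenMacaulayRing R) :
    LocCoh.IsCohenMacaulayRing A ∧ ∀ (p : Ideal A) [p.IsPrime],
      LocCoh.IsCohenMacaulayModule (Localization.AtPrime p) (LocalizedModule p.primeCompl R) ∧
        Module.supportDim (Localization.AtPrime p) (LocalizedModule p.primeCompl R) =
          ringKrullDim (Localization.AtPrime p) := by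
  have key : ∀ (p : Ideal A) [p.IsPrime],
      LocCoh.depth (Localization.AtPrime p) (LocalizedModule p.primeCompl R) = p.height := by
    intro p hp
    rw [Groth.Agent.Lib.Helper23.FinDD.depth_eq_iInf A R R p]
    have : ∀ q ∈ {q : PrimeSpectrum R | q.asIdeal.comap (algebraMap A R) = p ∧
        q ∈ Module.support R R},
        LocCoh.depth (Localization.AtPrime q.asIdeal)
          (LocalizedModule q.asIdeal.primeCompl R) = p.height := by
      rintro q ⟨hq, -⟩
      have hcm := hR.isCohenMacaulayLocalRing_localization q.asIdeal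
      have h1 := hcm.supportDim_eq_depth
      rw [Module.supportDim_self_eq_ringKrullDim,
        IsLocalization.AtPrime.ringKrullDim_eq_height q.asIdeal (Localization.AtPrime q.asIdeal),
        WithBot.coe_inj] at h1
      rw [Groth.Agent.Lib.Helper18.Serre.depth_localizedModule_self, ← h1, ← hht q.asIdeal, hq]
    rw [iInf_congr fun q => iInf_congr fun hq => this q hq]
    exact biInf_const (fibre_nonempty hinj p)
  have hsd : ∀ (p : Ideal A) [p.IsPrime],
      Module.supportDim (Localization.AtPrime p) (LocalizedModule p.primeCompl R) =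
        ringKrullDim (Localization.AtPrime p) := by
    intro p hp
    rw [supportDim_localizedModule_eq hht hinj p,
      IsLocalization.AtPrime.ringKrullDim_eq_height p (Localization.AtPrime p)]
  refine ⟨⟨fun p hp => ?_⟩, fun p hp => ⟨?_, hsd p⟩⟩
  · refine { supportDim_eq_depth := ?_ }
    apply le_antisymm
    · rw [Module.supportDim_self_eq_ringKrullDim,
        IsLocalization.AtPrime.ringKrullDim_eq_height p (Localization.AtPrime p),
        WithBot.coe_le_coe, ← key p,
        ← Groth.Agent.Lib.Helper18.Serre.depth_localizedModule_self]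
      exact depth_localizedModule_le E hE p
    · exact depth_le_supportDim (R := Localization.AtPrime p) (Localization.AtPrime p)
  · unfold LocCoh.IsCohenMacaulayModule
    rw [supportDim_localizedModule_eq hht hinj p, key p]

end main

end Groth.Agent.Lib.Helper11.InvCM
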