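import Mathlib
import Groth.Agent.Lib.Helper7.FiniteInv

/-!
# Finite group scheme actions (Hopf form): fibres of `Spec R → Spec R^G` are orbits, going-down

`k` a field, `H` a finite-dimensional commutative Hopf algebra, `R` a commutative `k`-algebra with a
multiplicative coaction.  With `B = R ⊗ H`, `s = (r ↦ r ⊗ 1)`, `t = coaction`:

* `coeff_charpoly_mem_of_forall_mem` : (general) for a finite free `R`-algebra `B`, if `x` lies in
  every prime of `B` over `P` then the non-leading coefficients of `charpoly (x·)` lie in `P`;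
* `exists_prime_of_comap_eq` : two primes of `R` with the same contraction to the invariants are
  `s⁻¹ q`, `t⁻¹ q` for a prime `q` of `R ⊗ H`;
* `hasGoingDown` : going-down for `R^G ⊆ R`;
* `height_comap_eq` : `ht (P ∩ R^G) = ht P`.
-/

set_option autoImplicit false
set_option linter.style.haveILetI false

namespace Groth.Agent.Lib.Helper11.InvOrbit

open TensorProduct HopfRep Module Polynomial
open Groth.Agent.Lib.Helper7.FiniteInv

universe u v w

section General

variable {R : Type u} {B : Type v} [CommRing R] [CommRing B] [Algebra R B]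

/-- a prime of the fibre ring `B ⊗ κ(P)` contracts to a prime of `B` over `P`. -/
theorem comap_fibre_prime (P : Ideal R) [P.IsPrime] (M : Ideal (B ⊗[R] P.ResidueField))
    [hM : M.IsPrime] :
    (M.comap (algebraMap B (B ⊗[R] P.ResidueField))).comap (algebraMap R B) = P := by
  rw [Ideal.comap_comap, ← IsScalarTower.algebraMap_eq R B (B ⊗[R] P.ResidueField)]
  have h1 : algebraMap R (B ⊗[R] P.ResidueField) =
      (Algebra.TensorProduct.includeRight : P.ResidueField →ₐ[R] B ⊗[R] P.ResidueField).toRingHom.comp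
        (algebraMap R P.ResidueField) := by
    ext r
    simp only [RingHom.coe_comp, Function.comp_apply, AlgHom.toRingHom_eq_coe, RingHom.coe_coe,
      AlgHom.commutes]
  rw [h1, ← Ideal.comap_comap]
  have h2 : M.comap (Algebra.TensorProduct.includeRight :
      P.ResidueField →ₐ[R] B ⊗[R] P.ResidueField).toRingHom = ⊥ := by
    haveI : (M.comap (Algebra.TensorProduct.includeRight :
      P.ResidueField →ₐ[R] B ⊗[R] P.ResidueField).toRingHom).IsPrime := Ideal.comap_isPrime _ _
    rcases Ideal.eq_bot_or_top (M.comap (Algebra.TensorProduct.includeRight :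
      P.ResidueField →ₐ[R] B ⊗[R] P.ResidueField).toRingHom) with h | h
    · exact h
    · exact absurd h (Ideal.IsPrime.ne_top inferInstance)
  rw [h2, ← RingHom.ker_eq_comap_bot, Ideal.ker_algebraMap_residueField]

/-- If `x` lies in every prime of the finite free `R`-algebra `B` over `P`, the non-leading
coefficients of the characteristic polynomial of `x` lie in `P`. -/
theorem coeff_charpoly_mem_of_forall_mem [Module.Free R B] [Module.Finite R B] (x : B)
    (P : Ideal R) [P.IsPrime]
    (h : ∀ q : Ideal B, q.IsPrime → q.comap (algebraMap R B) = P → x ∈ q) (i : ℕ)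
    (hi : i < Module.finrank R B) : (Algebra.lmul R B x).charpoly.coeff i ∈ P := by
  refine (isNilpotent_tensor_residueField_iff x P).mp ?_ i hi
  rw [nilpotent_iff_mem_prime]
  intro M hM
  haveI := hM
  have := h (M.comap (algebraMap B (B ⊗[R] P.ResidueField))) (Ideal.comap_isPrime _ _)
    (comap_fibre_prime P M)
  exact this

end General

section Main

variable {k : Type u} [Field k] {H : Type v} [CommRing H] [HopfAlgebra k H] [Module.Finite k H]
variable {R : Type w} [CommRing R] [Algebra k R] [Comod k H R] [GLin.IsCoactAlg k H R]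

omit [Module.Finite k H] in
/-- on invariants, `t = s`. -/
theorem coact_eq_algebraMap (a : GLin.invariants k H R) :
    GLin.coactAlgHom k H R (a : R) = algebraMap R (R ⊗[k] H) (a : R) := by
  rw [GLin.coactAlgHom_apply, (GLin.mem_invariants_iff k H R _).mp a.2]
  rfl

omit [Module.Finite k H] in
/-- invariants cannot distinguish `s⁻¹ q` and `t⁻¹ q`. -/
theorem comap_comap_eq (q : Ideal (R ⊗[k] H)) :
    (q.comap (GLin.coactAlgHom k H R).toRingHom).comap (algebraMap (GLin.invariants k H R) R) =
      (q.comap (algebraMap R (R ⊗[k] H))).comap (algebraMap (GLin.invariants k H R) R) := by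
  ext a
  simp only [Ideal.mem_comap, AlgHom.toRingHom_eq_coe, RingHom.coe_coe]
  have : algebraMap (GLin.invariants k H R) R a = (a : R) := rfl
  rw [this, coact_eq_algebraMap]

instance isIntegral_inv : Algebra.IsIntegral (GLin.invariants k H R) R :=
  ⟨isIntegral_invariants⟩

/-- Fibres of `Spec R → Spec R^G` are orbits. -/
theorem exists_prime_of_comap_eq (P0 P1 : Ideal R) [hP0 : P0.IsPrime] [hP1 : P1.IsPrime]
    (h : P0.comap (algebraMap (GLin.invariants k H R) R) =
      P1.comap (algebraMap (GLin.invariants k H R) R)) :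
    ∃ q : Ideal (R ⊗[k] H), q.IsPrime ∧ q.comap (algebraMap R (R ⊗[k] H)) = P0 ∧
      q.comap (GLin.coactAlgHom k H R).toRingHom = P1 := by
  classical
  haveI : Nontrivial R :=
    ⟨⟨0, 1, fun h0 => hP0.ne_top ((Ideal.eq_top_iff_one _).mpr (h0 ▸ P0.zero_mem))⟩⟩
  by_contra hne
  push Not at hne
  have hfin : (PrimeSpectrum.comap (algebraMap R (R ⊗[k] H)) ⁻¹' {⟨P0, hP0⟩}).Finite :=
    Algebra.QuasiFinite.finite_comap_preimage_singleton (R := R) (S := R ⊗[k] H) ⟨P0, hP0⟩
  have hmemF : ∀ q : PrimeSpectrum (R ⊗[k] H), q ∈ hfin.toFinset ↔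
      q.asIdeal.comap (algebraMap R (R ⊗[k] H)) = P0 := by
    intro q
    rw [Set.Finite.mem_toFinset, Set.mem_preimage, Set.mem_singleton_iff, PrimeSpectrum.ext_iff]
    rfl
  set J : Ideal R := hfin.toFinset.inf
    (fun q => q.asIdeal.comap (GLin.coactAlgHom k H R).toRingHom) with hJ
  have hnot : ¬ J ≤ P1 := by
    intro hle
    obtain ⟨q, hq, hqle⟩ := (Ideal.IsPrime.inf_le' hP1).mp hle
    rw [hmemF] at hq
    haveI : (q.asIdeal.comap (GLin.coactAlgHom k H R).toRingHom).IsPrime :=
      Ideal.comap_isPrime _ _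
    have hcon : (q.asIdeal.comap (GLin.coactAlgHom k H R).toRingHom).comap
        (algebraMap (GLin.invariants k H R) R) =
        P1.comap (algebraMap (GLin.invariants k H R) R) := by
      rw [comap_comap_eq, hq, h]
    have heq : q.asIdeal.comap (GLin.coactAlgHom k H R).toRingHom = P1 := by
      by_contra hne'
      have hlt := lt_of_le_of_ne hqle hne'
      have := Ideal.IsIntegral.comap_lt_comap (R := GLin.invariants k H R) hlt
      rw [hcon] at this
      exact lt_irrefl _ this
    exact hne q.asIdeal q.2 hq heq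
  obtain ⟨f, hfJ, hfP1⟩ := SetLike.not_le_iff_exists.mp hnot
  apply hfP1
  have hfq : ∀ q : Ideal (R ⊗[k] H), q.IsPrime → q.comap (algebraMap R (R ⊗[k] H)) = P0 →
      Comod.coact (k := k) (A := H) f ∈ q := by
    intro q hq hq0
    have h1 : (⟨q, hq⟩ : PrimeSpectrum (R ⊗[k] H)) ∈ hfin.toFinset := (hmemF _).mpr hq0
    have h2 : J ≤ q.comap (GLin.coactAlgHom k H R).toRingHom :=
      Finset.inf_le (f := fun q : PrimeSpectrum (R ⊗[k] H) =>
        q.asIdeal.comap (GLin.coactAlgHom k H R).toRingHom) h1
    exact h2 hfJ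
  have hcoef : ∀ i, i < (cpol (k := k) (A := H) f).natDegree →
      (cpol (k := k) (A := H) f).coeff i ∈ P1 := by
    intro i hi
    have hnd : (cpol (k := k) (A := H) f).natDegree = Module.finrank R (R ⊗[k] H) :=
      LinearMap.charpoly_natDegree _
    rw [hnd] at hi
    have h0 : (cpol (k := k) (A := H) f).coeff i ∈ P0 :=
      coeff_charpoly_mem_of_forall_mem (Comod.coact (k := k) (A := H) f) P0 hfq i hi
    have h1 : (⟨_, coeff_cpol_mem (k := k) (A := H) f i⟩ : GLin.invariants k H R) ∈
        P0.comap (algebraMap (GLin.invariants k H R) R) := h0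
    rw [h] at h1
    exact h1
  have hroot : (cpol (k := k) (A := H) f).IsRoot f := by
    have := aeval_cpol (k := k) (A := H) f
    rwa [Polynomial.coe_aeval_eq_eval] at this
  have hpow := Polynomial.IsWeaklyEisensteinAt.pow_natDegree_le_of_root_of_monic_mem
    (𝓟 := P1) ⟨fun {n} hn => hcoef n hn⟩ hroot (cp_monic k H R _) _ le_rfl
  exact hP1.mem_of_pow_mem _ hpow

/-- Going-down for `R^G ⊆ R`. -/
theorem hasGoingDown : Algebra.HasGoingDown (GLin.invariants k H R) R := by
  refine ⟨fun {p} _ Q _ hpQ => ?_⟩
  have hinj : Function.Injective (algebraMap (GLin.invariants k H R) R) := Subtype.val_injective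
  obtain ⟨Q', -, hQ'prime, hQ'⟩ := Ideal.exists_ideal_over_prime_of_isIntegral p (⊥ : Ideal R) (by
    intro a ha
    rw [Ideal.mem_comap, Ideal.mem_bot] at ha
    have : a = 0 := hinj (ha.trans (map_zero _).symm)
    rw [this]
    exact Ideal.zero_mem _)
  obtain ⟨Q'', hle, hQ''prime, hQ''⟩ :=
    Ideal.exists_ideal_over_prime_of_isIntegral_of_isPrime (Q.under (GLin.invariants k H R)) Q' (by
      rw [hQ']
      exact hpQ.le)
  -- `Q''` and `Q` lie over the same prime
  obtain ⟨q, hq, hqs, hqt⟩ := exists_prime_of_comap_eq (k := k) (H := H) Q'' Q hQ''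
  haveI : q.LiesOver Q'' := ⟨hqs.symm⟩
  obtain ⟨q', hq'le, hq'prime, hq'over⟩ :=
    Ideal.exists_ideal_le_liesOver_of_le (p := Q') (q := Q'') q hle
  refine ⟨q'.comap (GLin.coactAlgHom k H R).toRingHom, ?_, Ideal.comap_isPrime _ _, ⟨?_⟩⟩
  · rw [← hqt]
    exact Ideal.comap_mono hq'le
  · rw [Ideal.under_def, comap_comap_eq, ← Ideal.under_def R q', ← hq'over.over]
    exact hQ'.symm

/-- `ht (P ∩ R^G) = ht P`. -/
theorem height_comap_eq (P : Ideal R) [hP : P.IsPrime] :
    (P.comap (algebraMap (GLin.invariants k H R) R)).height = P.height := by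
  apply le_antisymm
  · haveI := hasGoingDown (k := k) (H := H) (R := R)
    haveI hcp : (P.comap (algebraMap (GLin.invariants k H R) R)).IsPrime :=
      Ideal.comap_isPrime _ _
    rw [PrimeSpectrum.height_eq_orderHeight
      (⟨P.comap (algebraMap (GLin.invariants k H R) R), hcp⟩ : PrimeSpectrum _),
      PrimeSpectrum.height_eq_orderHeight (⟨P, hP⟩ : PrimeSpectrum R)]
    apply Order.height_le
    intro l hl
    haveI : P.LiesOver l.last.asIdeal := ⟨by rw [hl]⟩
    obtain ⟨L, hlen, hlast, -⟩ := Ideal.exists_ltSeries_of_hasGoingDown l P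
    rw [← hlen]
    exact Order.length_le_height hlast.le
  · have hsm : StrictMono (PrimeSpectrum.comap (algebraMap (GLin.invariants k H R) R)) := by
      intro I J hIJ
      have := I.2
      exact Ideal.IsIntegral.comap_lt_comap (R := GLin.invariants k H R)
        (I := I.asIdeal) (J := J.asIdeal) hIJ
    have h := Order.height_le_height_apply_of_strictMono _ hsm (⟨P, hP⟩ : PrimeSpectrum R)
    rw [← PrimeSpectrum.height_eq_orderHeight, ← PrimeSpectrum.height_eq_orderHeight] at h
    exact h

end Main

end Groth.Agent.Lib.Helper11.InvOrbit
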