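import Mathlib
import Groth.Agent.Lib.Helper11.InvOrbit
import Groth.Agent.Lib.Helper11.InvCM
import Groth.Agent.Lib.Helper7.ComodAlg

/-!
# Invariants of a linearly reductive finite group scheme: `(S_r)` and Cohen–Macaulayness
-/

set_option autoImplicit false
set_option linter.unusedSectionVars false
set_option linter.style.haveILetI false
universe u

open TensorProduct HopfRep
open Groth.Agent.Lib.Helper7.Comod Groth.Agent.Lib.Helper7.FiniteInv

namespace Groth.Agent.Lib.Helper11.InvMain

variable {k : Type u} [Field k] {H : Type u} [CommRing H] [HopfAlgebra k H] [Module.Finite k H]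
variable {R : Type u} [CommRing R] [Algebra k R] [Comod k H R] [GLin.IsCoactAlg k H R]

omit [Module.Finite k H] in
/-- the Reynolds operator as a retraction linear over the invariants. -/
theorem exists_retraction (hG : IsLinearlyReductive k H) :
    ∃ E : R →ₗ[GLin.invariants k H R] GLin.invariants k H R,
      ∀ a, E (algebraMap (GLin.invariants k H R) R a) = a := by
  have hss : IsSemisimpleComod k H R := isSemisimpleComod_of_isLinearlyReductive hG R
  obtain ⟨E, hE⟩ := exists_isReynolds hss
  refine ⟨{ toFun := fun x => ⟨E x, hE.apply_mem x⟩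
            map_add' := fun x y => Subtype.ext (map_add E x y)
            map_smul' := fun a x => ?_ }, fun a => ?_⟩
  · apply Subtype.ext
    change E (a • x) = ((a : R) * E x)
    have h1 : a • x = x * (a : R) := by rw [Algebra.smul_def, mul_comm]; rfl
    rw [h1, IsReynolds.map_mul hss hE x a.2, mul_comm]
  · apply Subtype.ext
    exact (hE.2.2 _).mpr a.2

variable [Algebra.FiniteType k R]

theorem hasSk_invariants (hG : IsLinearlyReductive k H) (r : ℕ) (hR : LocCoh.HasSk r R R) :
    LocCoh.HasSk r (GLin.invariants k H R) R ∧
      LocCoh.HasSk r (GLin.invariants k H R) (GLin.invariants k H R) := by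
  haveI : IsNoetherianRing R := Algebra.FiniteType.isNoetherianRing k R
  obtain ⟨hft, hfin⟩ := finiteType_and_finite (k := k) (A := H) (R := R)
  haveI := hfin
  haveI : IsNoetherianRing (GLin.invariants k H R) :=
    Algebra.FiniteType.isNoetherianRing k (GLin.invariants k H R)
  obtain ⟨E, hE⟩ := exists_retraction (k := k) (H := H) (R := R) hG
  exact Groth.Agent.Lib.Helper11.InvCM.hasSk_of_retract
    (fun P _ => Groth.Agent.Lib.Helper11.InvOrbit.height_comap_eq (k := k) (H := H) P)
    Subtype.val_injective E hE r hR

theorem cm_invariants (hG : IsLinearlyReductive k H) (hR : LocCoh.IsCohenMacaulayRing R) :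
    LocCoh.IsCohenMacaulayRing (GLin.invariants k H R) ∧
      ∀ (p : Ideal (GLin.invariants k H R)) [p.IsPrime],
        LocCoh.IsCohenMacaulayModule (Localization.AtPrime p) (LocalizedModule p.primeCompl R) ∧
          Module.supportDim (Localization.AtPrime p) (LocalizedModule p.primeCompl R) =
            ringKrullDim (Localization.AtPrime p) := by
  haveI : IsNoetherianRing R := Algebra.FiniteType.isNoetherianRing k R
  obtain ⟨hft, hfin⟩ := finiteType_and_finite (k := k) (A := H) (R := R)
  haveI := hfin
  haveI : IsNoetherianRing (GLin.invariants k H R) :=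
    Algebra.FiniteType.isNoetherianRing k (GLin.invariants k H R)
  obtain ⟨E, hE⟩ := exists_retraction (k := k) (H := H) (R := R) hG
  exact Groth.Agent.Lib.Helper11.InvCM.cm_of_retract
    (fun P _ => Groth.Agent.Lib.Helper11.InvOrbit.height_comap_eq (k := k) (H := H) P)
    Subtype.val_injective E hE hR

end Groth.Agent.Lib.Helper11.InvMain
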