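import Mathlib
import Groth.Prelude.Def_Found

universe u
set_option linter.style.haveILetI false

namespace Groth.Agent.Lib.Helper11.Japanese

open CAlg

section lemmaA

variable {R : Type*} [CommRing R] (M : Submonoid R) (S : Type*) [CommRing S] [Algebra R S]
  [IsLocalization M S] (L : Type*) [CommRing L] [Algebra R L] [Algebra S L] [IsScalarTower R S L]

include M in
/-- Integral closure commutes with localization, finiteness version: if the integral closure of `R`
in `L` is a finite `R`-module, the integral closure of `S = M⁻¹R` in `L` is a finite `S`-module. -/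
theorem finite_integralClosure_of_isLocalization
    (h : Module.Finite R (integralClosure R L)) : Module.Finite S (integralClosure S L) := by
  classical
  obtain ⟨s, hs⟩ := h.1
  -- images of the generators
  have hle : ∀ x : L, IsIntegral R x → IsIntegral S x := fun x hx => hx.tower_top
  let g : integralClosure R L → integralClosure S L := fun x => ⟨x.1, hle _ x.2⟩
  refine ⟨⟨s.image g, ?_⟩⟩
  rw [eq_top_iff]
  rintro ⟨y, hy⟩ -
  obtain ⟨⟨m, hm⟩, hmy⟩ := IsIntegral.exists_multiple_integral_of_isLocalization M y hy
  -- m • y is in the R-span of s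
  have hmem : (⟨(⟨m, hm⟩ : M) • y, hmy⟩ : integralClosure R L) ∈ Submodule.span R (s : Set _) := by
    rw [hs]; trivial
  -- transport to S-span
  have key : ∀ z : integralClosure R L, z ∈ Submodule.span R (s : Set (integralClosure R L)) →
      g z ∈ Submodule.span S ((s.image g : Finset _) : Set (integralClosure S L)) := by
    intro z hz
    induction hz using Submodule.span_induction with
    | mem x hx =>
      refine Submodule.subset_span ?_
      rw [Finset.coe_image]
      exact ⟨x, hx, rfl⟩
    | zero => exact (Submodule.span S _).zero_mem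
    | add x y _ _ hx hy =>
      have : g (x + y) = g x + g y := rfl
      rw [this]; exact Submodule.add_mem _ hx hy
    | smul r x _ hx =>
      have : g (r • x) = (algebraMap R S r) • g x := by
        apply Subtype.ext
        show (r • x : integralClosure R L).1 = ((algebraMap R S r) • g x).1
        simp [g, Algebra.smul_def, IsScalarTower.algebraMap_apply R S L]
      rw [this]; exact Submodule.smul_mem _ _ hx
  have h2 := key _ hmem
  -- divide by m
  have hunit : IsUnit (algebraMap R S m) := IsLocalization.map_units S ⟨m, hm⟩
  obtain ⟨u, hu⟩ := hunit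
  have h3 : (⟨y, hy⟩ : integralClosure S L) = (↑u⁻¹ : S) • g ⟨(⟨m, hm⟩ : M) • y, hmy⟩ := by
    apply Subtype.ext
    show y = ((↑u⁻¹ : S) • g ⟨(⟨m, hm⟩ : M) • y, hmy⟩).1
    simp only [g, Submonoid.smul_def]
    show y = (↑u⁻¹ : S) • (m • y)
    rw [Algebra.smul_def, Algebra.smul_def, IsScalarTower.algebraMap_apply R S L, ← hu, ← mul_assoc,
      ← map_mul]
    simp
  rw [h3]
  exact Submodule.smul_mem _ _ h2

end lemmaA


section fraction

/-- `N-1` can be tested in any fraction field. -/
theorem isN1_iff (R : Type u) [CommRing R] [IsDomain R] (K : Type*) [Field K] [Algebra R K]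
    [IsFractionRing R K] : IsN1 R ↔ Module.Finite R (integralClosure R K) := by
  unfold IsN1
  exact Module.Finite.equiv_iff (FractionRing.algEquiv R K).mapIntegralClosure.toLinearEquiv

/-- `N-2` gives finiteness of the integral closure in any finite extension `L` of any fraction
field `K`. -/
theorem IsN2.finite {R : Type u} [CommRing R] [IsDomain R] (h : IsN2 R) (K : Type*) [Field K]
    [Algebra R K] [IsFractionRing R K] (L : Type u) [Field L] [Algebra R L] [Algebra K L]
    [IsScalarTower R K L] [FiniteDimensional K L] : Module.Finite R (integralClosure R L) := by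
  let e : FractionRing R ≃ₐ[R] K := FractionRing.algEquiv R K
  letI : Algebra (FractionRing R) L := ((algebraMap K L).comp (e : FractionRing R →+* K)).toAlgebra
  haveI : IsScalarTower R (FractionRing R) L := IsScalarTower.of_algebraMap_eq (fun x => by
    rw [RingHom.algebraMap_toAlgebra]
    simp [IsScalarTower.algebraMap_apply R K L])
  haveI : FiniteDimensional (FractionRing R) L :=
    Module.Finite.of_equiv_equiv (A₁ := K) (B₁ := L) (e.symm : K ≃+* FractionRing R) (RingEquiv.refl L) (by
      ext x
      rw [RingHom.algebraMap_toAlgebra]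
      simp)
  exact h L inferInstance

/-- Conversely, to prove `N-2` it is enough to treat finite extensions of one fixed fraction field. -/
theorem isN2_of_forall {R : Type u} [CommRing R] [IsDomain R] (K : Type u) [Field K]
    [Algebra R K] [IsFractionRing R K]
    (h : ∀ (L : Type u) [Field L] [Algebra R L] [Algebra K L] [IsScalarTower R K L],
      FiniteDimensional K L → Module.Finite R (integralClosure R L)) : IsN2 R := by
  intro L _ _ _ _ hfd
  let e : FractionRing R ≃ₐ[R] K := FractionRing.algEquiv R K
  letI : Algebra K L := ((algebraMap (FractionRing R) L).comp (e.symm : K →+* FractionRing R)).toAlgebra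
  haveI : IsScalarTower R K L := IsScalarTower.of_algebraMap_eq (fun x => by
    rw [RingHom.algebraMap_toAlgebra]
    simp [IsScalarTower.algebraMap_apply R (FractionRing R) L])
  haveI : FiniteDimensional K L :=
    Module.Finite.of_equiv_equiv (A₁ := FractionRing R) (B₁ := L) (e : FractionRing R ≃+* K) (RingEquiv.refl L) (by
      ext x
      rw [RingHom.algebraMap_toAlgebra]
      simp)
  exact h L inferInstance

end fraction

section localization

variable (R : Type u) [CommRing R] [IsDomain R] (M : Submonoid R)
    (S : Type u) [CommRing S] [IsDomain S] [Algebra R S] [IsLocalization M S]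

omit [IsDomain R] in
include S in
theorem le_nonZeroDivisors_of_isDomain [IsDomain R] : M ≤ nonZeroDivisors R := by
  intro x hx
  rw [mem_nonZeroDivisors_iff_ne_zero]
  rintro rfl
  have h0 := IsLocalization.map_units S (⟨0, hx⟩ : M)
  rw [map_zero] at h0
  exact not_isUnit_zero h0

include M in
theorem isN1_of_isLocalization (h : IsN1 R) : IsN1 S := by
  let K := FractionRing R
  have hM := le_nonZeroDivisors_of_isDomain R M S
  let g : S →+* K := IsLocalization.map _ (T := nonZeroDivisors R) (RingHom.id R) hM
  letI := g.toAlgebra
  haveI : IsScalarTower R S K := IsScalarTower.of_algebraMap_eq'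
    (by rw [RingHom.algebraMap_toAlgebra, IsLocalization.map_comp, RingHomCompTriple.comp_eq])
  haveI := IsFractionRing.isFractionRing_of_isDomain_of_isLocalization M S K
  rw [isN1_iff S K]
  exact finite_integralClosure_of_isLocalization M S K h

include M in
theorem isN2_of_isLocalization (h : IsN2 R) : IsN2 S := by
  intro L _ _ _ _ hfd
  let K := FractionRing R
  let KS := FractionRing S
  have hM := le_nonZeroDivisors_of_isDomain R M S
  let g : S →+* K := IsLocalization.map _ (T := nonZeroDivisors R) (RingHom.id R) hM
  letI : Algebra S K := g.toAlgebra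
  haveI : IsScalarTower R S K := IsScalarTower.of_algebraMap_eq'
    (by rw [RingHom.algebraMap_toAlgebra, IsLocalization.map_comp, RingHomCompTriple.comp_eq])
  haveI : IsFractionRing S K := IsFractionRing.isFractionRing_of_isDomain_of_isLocalization M S K
  let e' : KS ≃ₐ[S] K := FractionRing.algEquiv S K
  letI : Algebra R L := ((algebraMap S L).comp (algebraMap R S)).toAlgebra
  haveI : IsScalarTower R S L := IsScalarTower.of_algebraMap_eq (fun _ => rfl)
  letI : Algebra K L := ((algebraMap KS L).comp (e'.symm : K →+* KS)).toAlgebra
  haveI : IsScalarTower R K L := IsScalarTower.of_algebraMap_eq (fun x => by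
    show algebraMap S L (algebraMap R S x) = algebraMap KS L (e'.symm (algebraMap R K x))
    rw [IsScalarTower.algebraMap_apply R S K, AlgEquiv.commutes,
      ← IsScalarTower.algebraMap_apply S KS L])
  haveI : FiniteDimensional K L :=
    Module.Finite.of_equiv_equiv (A₁ := KS) (B₁ := L) (e' : KS ≃+* K) (RingEquiv.refl L) (by
      ext x
      show algebraMap KS L (e'.symm (e' x)) = algebraMap KS L x
      simp)
  have h1 : Module.Finite R (integralClosure R L) := h L inferInstance
  exact finite_integralClosure_of_isLocalization M S L h1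

end localization

section lemmaB

variable {R : Type*} [CommRing R] {ι : Type*} [Finite ι] (f : ι → R)
  (hf : Ideal.span (Set.range f) = ⊤)
  (Rf : ι → Type*) [∀ i, CommRing (Rf i)] [∀ i, Algebra R (Rf i)]
  [∀ i, IsLocalization.Away (f i) (Rf i)]
  (L : Type*) [CommRing L] [Algebra R L] [∀ i, Algebra (Rf i) L] [∀ i, IsScalarTower R (Rf i) L]

include hf in
/-- Finiteness of the integral closure can be checked on a finite principal cover. -/
theorem finite_integralClosure_of_span
    (h : ∀ i, Module.Finite (Rf i) (integralClosure (Rf i) L)) :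
    Module.Finite R (integralClosure R L) := by
  classical
  -- generators of each local integral closure, as finsets of `L`
  have hgen : ∀ i, ∃ T : Finset L, (∀ y ∈ T, IsIntegral (Rf i) y) ∧
      ∀ x : L, IsIntegral (Rf i) x → x ∈ Submodule.span (Rf i) (T : Set L) := by
    intro i
    obtain ⟨s, hs⟩ := (h i).1
    refine ⟨s.image Subtype.val, ?_, ?_⟩
    · intro y hy
      obtain ⟨z, _, rfl⟩ := Finset.mem_image.1 hy
      exact z.2
    · intro x hx
      have hmem : (⟨x, hx⟩ : integralClosure (Rf i) L) ∈ Submodule.span (Rf i) (s : Set _) := by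
        rw [hs]; trivial
      have := Submodule.mem_map_of_mem (f := (integralClosure (Rf i) L).val.toLinearMap) hmem
      rw [Submodule.map_span] at this
      simpa using this
  choose T hT1 hT2 using hgen
  -- multiples integral over R
  have hmul : ∀ i, ∀ y : L, IsIntegral (Rf i) y → ∃ n : ℕ, IsIntegral R ((f i) ^ n • y) := by
    intro i y hy
    obtain ⟨⟨m, n, hn⟩, hm⟩ :=
      IsIntegral.exists_multiple_integral_of_isLocalization (Submonoid.powers (f i)) y hy
    refine ⟨n, ?_⟩
    have : (⟨m, n, hn⟩ : Submonoid.powers (f i)) • y = (f i) ^ n • y := by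
      rw [Submonoid.smul_def]
      show m • y = _
      rw [← hn]
    rwa [this] at hm
  -- choose exponent functions
  have hmul' : ∀ i, ∃ n : ℕ, ∀ y ∈ T i, IsIntegral R ((f i) ^ n • y) := by
    intro i
    choose! e he using hmul i
    refine ⟨(T i).sup e, fun y hy => ?_⟩
    have hle : e y ≤ (T i).sup e := Finset.le_sup hy
    obtain ⟨k, hk⟩ := Nat.exists_eq_add_of_le hle
    rw [hk, pow_add, mul_comm, mul_smul]
    have h1 := he y (hT1 i y hy)
    have : (f i) ^ k • ((f i) ^ e y • y) = algebraMap R L ((f i) ^ k) * ((f i) ^ e y • y) :=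
      Algebra.smul_def _ _
    rw [this]
    exact isIntegral_algebraMap.mul h1
  choose n hn using hmul'
  haveI : Fintype ι := Fintype.ofFinite ι
  let G : Finset L := Finset.univ.biUnion fun i => (T i).image fun y => (f i) ^ (n i) • y
  have hG : ∀ z ∈ G, IsIntegral R z := by
    intro z hz
    simp only [G, Finset.mem_biUnion, Finset.mem_image, Finset.mem_univ, true_and] at hz
    obtain ⟨i, y, hy, rfl⟩ := hz
    exact hn i y hy
  let N : Submodule R L := Submodule.span R (G : Set L)
  have hle : (integralClosure R L).toSubmodule ≤ N := by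
    intro x hx
    have hx' : IsIntegral R x := hx
    apply Submodule.mem_of_span_eq_top_of_smul_pow_mem N (Set.range f) hf
    rintro ⟨_, i, rfl⟩
    have hxi : IsIntegral (Rf i) x := hx'.tower_top
    obtain ⟨⟨m, k, hk⟩, hm⟩ := multiple_mem_span_of_mem_localization_span
      (Submonoid.powers (f i)) (Rf i) (T i : Set L) x (hT2 i x hxi)
    have hm' : (f i) ^ k • x ∈ Submodule.span R (T i : Set L) := by
      have : (⟨m, k, hk⟩ : Submonoid.powers (f i)) • x = (f i) ^ k • x := by
        rw [Submonoid.smul_def]
        show m • x = _
        rw [← hk]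
      rwa [this] at hm
    refine ⟨n i + k, ?_⟩
    show (f i) ^ (n i + k) • x ∈ N
    rw [pow_add, mul_smul]
    -- multiplication by f^n sends span T i into N
    have key : ∀ z ∈ Submodule.span R (T i : Set L), (f i) ^ (n i) • z ∈ N := by
      intro z hz
      induction hz using Submodule.span_induction with
      | mem y hy =>
        apply Submodule.subset_span
        simp only [G, Finset.coe_biUnion, Finset.coe_univ, Set.mem_univ, Set.iUnion_true,
          Finset.coe_image, Set.mem_iUnion, Set.mem_image]
        exact ⟨i, y, hy, rfl⟩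
      | zero => rw [smul_zero]; exact N.zero_mem
      | add a b _ _ ha hb => rw [smul_add]; exact N.add_mem ha hb
      | smul r a _ ha => rw [smul_comm]; exact N.smul_mem r ha
    exact key _ hm'
  have heq : (integralClosure R L).toSubmodule = N := by
    apply le_antisymm hle
    apply Submodule.span_le.2
    intro z hz
    exact hG z hz
  have hfg : ((integralClosure R L).toSubmodule).FG := by
    rw [heq]
    exact ⟨G, rfl⟩
  exact Module.Finite.iff_fg.2 hfg

end lemmaB


section cover

variable (R : Type u) [CommRing R] [IsDomain R]
    {ι : Type u} [Finite ι] (f : ι → R) (hf : Ideal.span (Set.range f) = ⊤)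
    (Rf : ι → Type u) [∀ i, CommRing (Rf i)] [∀ i, IsDomain (Rf i)] [∀ i, Algebra R (Rf i)]
    [∀ i, IsLocalization.Away (f i) (Rf i)]

omit [IsDomain R] [Finite ι] in
include Rf in
theorem ne_zero_of_isDomain_away (i : ι) : f i ≠ 0 := by
  intro h0
  have h1 := IsLocalization.Away.algebraMap_isUnit (S := Rf i) (f i)
  rw [h0, map_zero] at h1
  exact not_isUnit_zero h1

include hf in
theorem isN1_of_span (h : ∀ i, IsN1 (Rf i)) : IsN1 R := by
  let K := FractionRing R
  have hunit : ∀ i, IsUnit (algebraMap R K (f i)) := fun i =>
    (IsUnit.mk0 _ ((map_ne_zero_iff _ (IsFractionRing.injective R K)).2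
      (ne_zero_of_isDomain_away R f Rf i)))
  letI alg : ∀ i, Algebra (Rf i) K := fun i =>
    (IsLocalization.Away.lift (f i) (g := algebraMap R K) (hunit i)).toAlgebra
  haveI tower : ∀ i, IsScalarTower R (Rf i) K := fun i =>
    IsScalarTower.of_algebraMap_eq' (by
      rw [RingHom.algebraMap_toAlgebra]
      exact (IsLocalization.Away.lift_comp (f i) (hunit i)).symm)
  haveI frac : ∀ i, IsFractionRing (Rf i) K := fun i =>
    IsFractionRing.isFractionRing_of_isDomain_of_isLocalization (Submonoid.powers (f i)) (Rf i) K
  have hfin : ∀ i, Module.Finite (Rf i) (integralClosure (Rf i) K) := fun i =>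
    (isN1_iff (Rf i) K).1 (h i)
  exact finite_integralClosure_of_span f hf Rf K hfin

include hf in
theorem isN2_of_span (h : ∀ i, IsN2 (Rf i)) : IsN2 R := by
  intro L _ _ _ _ hfd
  let K := FractionRing R
  have hinj : Function.Injective (algebraMap R L) := by
    rw [IsScalarTower.algebraMap_eq R K L]
    exact (algebraMap K L).injective.comp (IsFractionRing.injective R K)
  have hunitK : ∀ i, IsUnit (algebraMap R K (f i)) := fun i =>
    (IsUnit.mk0 _ ((map_ne_zero_iff _ (IsFractionRing.injective R K)).2
      (ne_zero_of_isDomain_away R f Rf i)))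
  have hunitL : ∀ i, IsUnit (algebraMap R L (f i)) := fun i =>
    (IsUnit.mk0 _ ((map_ne_zero_iff _ hinj).2 (ne_zero_of_isDomain_away R f Rf i)))
  letI algK : ∀ i, Algebra (Rf i) K := fun i =>
    (IsLocalization.Away.lift (f i) (g := algebraMap R K) (hunitK i)).toAlgebra
  haveI towerK : ∀ i, IsScalarTower R (Rf i) K := fun i =>
    IsScalarTower.of_algebraMap_eq' (by
      rw [RingHom.algebraMap_toAlgebra]
      exact (IsLocalization.Away.lift_comp (f i) (hunitK i)).symm)
  haveI frac : ∀ i, IsFractionRing (Rf i) K := fun i =>
    IsFractionRing.isFractionRing_of_isDomain_of_isLocalization (Submonoid.powers (f i)) (Rf i) K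
  letI algL : ∀ i, Algebra (Rf i) L := fun i =>
    (IsLocalization.Away.lift (f i) (g := algebraMap R L) (hunitL i)).toAlgebra
  haveI towerL : ∀ i, IsScalarTower R (Rf i) L := fun i =>
    IsScalarTower.of_algebraMap_eq' (by
      rw [RingHom.algebraMap_toAlgebra]
      exact (IsLocalization.Away.lift_comp (f i) (hunitL i)).symm)
  haveI towerKL : ∀ i, IsScalarTower (Rf i) K L := fun i =>
    IsScalarTower.of_algebraMap_eq' (by
      apply IsLocalization.ringHom_ext (Submonoid.powers (f i))
      rw [RingHom.comp_assoc, ← IsScalarTower.algebraMap_eq R (Rf i) K,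
        ← IsScalarTower.algebraMap_eq R (Rf i) L, ← IsScalarTower.algebraMap_eq R K L])
  have hfin : ∀ i, Module.Finite (Rf i) (integralClosure (Rf i) L) := fun i =>
    IsN2.finite (h i) K L
  exact finite_integralClosure_of_span f hf Rf L hfin

end cover

section n1n2

/-- Key step: for a domain `S` with fraction field `K` and a finite extension `L/K`, there is a
subalgebra `S' ⊆ L`, finite over `S` and finitely generated as an algebra, with fraction field `L`. -/
theorem exists_finite_subalgebra_isFractionRing (S : Type u) [CommRing S] [IsDomain S]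
    (K : Type u) [Field K] [Algebra S K] [IsFractionRing S K]
    (L : Type u) [Field L] [Algebra S L] [Algebra K L] [IsScalarTower S K L]
    [FiniteDimensional K L] :
    ∃ S' : Subalgebra S L, Module.Finite S S' ∧ Algebra.FiniteType S S' ∧ IsFractionRing S' L := by
  classical
  obtain ⟨s, hs⟩ := (Module.finite_def (R := K) (M := L)).1 inferInstance
  obtain ⟨y, hy0, hy⟩ := exists_integral_multiples S K (L := L) s
  let t : Finset L := s.image fun x => y • x
  let S' : Subalgebra S L := Algebra.adjoin S (t : Set L)
  have ht : ∀ z ∈ (t : Set L), IsIntegral S z := by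
    intro z hz
    rw [Finset.coe_image] at hz
    obtain ⟨x, hx, rfl⟩ := hz
    exact hy x hx
  have hfin : Module.Finite S S' := Algebra.finite_adjoin_of_finite_of_isIntegral t.finite_toSet ht
  have hft : Algebra.FiniteType S S' := ⟨(Subalgebra.fg_top _).2 (Subalgebra.fg_adjoin_finset t)⟩
  refine ⟨S', hfin, hft, ?_⟩
  have hinjS : Function.Injective (algebraMap S L) := by
    rw [IsScalarTower.algebraMap_eq S K L]
    exact (algebraMap K L).injective.comp (IsFractionRing.injective S K)
  -- the subfield generated by S' is everything
  have hcl : Subfield.closure (S' : Set L) = ⊤ := by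
    rw [eq_top_iff]
    intro z hztop
    clear hztop
    set F := Subfield.closure (S' : Set L) with hF
    have hS : ∀ a : S, algebraMap S L a ∈ F := fun a =>
      Subfield.subset_closure (S'.algebraMap_mem a)
    have hK : ∀ k : K, algebraMap K L k ∈ F := by
      intro k
      obtain ⟨p, q, hq, rfl⟩ := IsFractionRing.div_surjective (A := S) k
      rw [map_div₀, ← IsScalarTower.algebraMap_apply, ← IsScalarTower.algebraMap_apply]
      exact F.div_mem (hS p) (hS q)
    have hb : ∀ x ∈ s, x ∈ F := by
      intro x hx
      have h1 : y • x ∈ F := Subfield.subset_closure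
        (Algebra.subset_adjoin (by rw [Finset.coe_image]; exact ⟨x, hx, rfl⟩))
      have h2 : algebraMap S L y ∈ F := hS y
      have h3 : algebraMap S L y ≠ 0 := (map_ne_zero_iff _ hinjS).2 hy0
      have : x = (y • x) / algebraMap S L y := by
        rw [Algebra.smul_def, mul_div_assoc, mul_comm, div_mul_cancel₀ _ h3]
      rw [this]
      exact F.div_mem h1 h2
    have hz : z ∈ Submodule.span K (s : Set L) := by rw [hs]; trivial
    induction hz using Submodule.span_induction with
    | mem x hx => exact hb x hx
    | zero => exact F.zero_mem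
    | add a b _ _ ha hb' => exact F.add_mem ha hb'
    | smul k a _ ha => rw [Algebra.smul_def]; exact F.mul_mem (hK k) ha
  haveI : FaithfulSMul S' L := (faithfulSMul_iff_algebraMap_injective S' L).2 Subtype.val_injective
  apply IsFractionRing.of_field
  intro z
  have hz : z ∈ Subfield.closure (S' : Set L) := by rw [hcl]; trivial
  rw [Subfield.mem_closure_iff] at hz
  obtain ⟨p, hp, q, hq, rfl⟩ := hz
  have hsub : Subring.closure (S' : Set L) = S'.toSubring := Subring.closure_eq S'.toSubring
  rw [hsub] at hp hq
  exact ⟨⟨p, hp⟩, ⟨q, hq⟩, rfl⟩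


/-- If every domain finite (and of finite type) over `S` is `N-1`, then `S` is `N-2`. -/
theorem isN2_of_forall_finite_isN1 (S : Type u) [CommRing S] [IsDomain S]
    (hN1 : ∀ (S' : Type u) [CommRing S'] [IsDomain S'] [Algebra S S'],
      Module.Finite S S' → Algebra.FiniteType S S' → IsN1 S') : IsN2 S := by
  intro L _ _ _ _ hfd
  obtain ⟨S', hfin, hft, hfrac⟩ := exists_finite_subalgebra_isFractionRing S (FractionRing S) L
  have h1 : IsN1 S' := hN1 S' hfin hft
  have h2 : Module.Finite S' (integralClosure S' L) := (isN1_iff S' L).1 h1
  have h3 : Module.Finite S (integralClosure S' L) := Module.Finite.trans S' _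
  -- compare the two integral closures
  have hint : Algebra.IsIntegral S S' := Algebra.IsIntegral.of_finite S S'
  let φ : integralClosure S' L →ₗ[S] integralClosure S L :=
    { toFun := fun x => ⟨x.1, isIntegral_trans (R := S) (A := S') x.1 x.2⟩
      map_add' := fun _ _ => rfl
      map_smul' := fun _ _ => rfl }
  have hφ : Function.Surjective φ := fun x => ⟨⟨x.1, x.2.tower_top⟩, rfl⟩
  exact Module.Finite.of_surjective φ hφ

theorem isUniversallyJapanese_of_forall_isN1 (R : Type u) [CommRing R]
    (h : ∀ (S : Type u) [CommRing S] [IsDomain S] [Algebra R S], Algebra.FiniteType R S → IsN1 S) :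
    IsUniversallyJapanese R := by
  intro S _ _ _ hS
  apply isN2_of_forall_finite_isN1
  intro S' _ _ _ _ hft
  letI : Algebra R S' := ((algebraMap S S').comp (algebraMap R S)).toAlgebra
  haveI : IsScalarTower R S S' := IsScalarTower.of_algebraMap_eq (fun _ => rfl)
  exact h S' (Algebra.FiniteType.trans hS hft)


theorem isUniversallyJapanese_of_essFiniteType (R : Type u) [CommRing R]
    (hR : IsUniversallyJapanese R) (T : Type u) [CommRing T] [Algebra R T]
    [Algebra.EssFiniteType R T] : IsUniversallyJapanese T := by
  intro S _ _ _ hS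
  letI : Algebra R S := ((algebraMap T S).comp (algebraMap R T)).toAlgebra
  haveI : IsScalarTower R T S := IsScalarTower.of_algebraMap_eq (fun _ => rfl)
  haveI : Algebra.FiniteType T S := hS
  haveI : Algebra.EssFiniteType R S := Algebra.EssFiniteType.comp R T S
  let S₀ := Algebra.EssFiniteType.subalgebra R S
  have h0 : IsN2 S₀ := hR S₀ inferInstance
  exact isN2_of_isLocalization S₀ (Algebra.EssFiniteType.submonoid R S) S h0


theorem isUniversallyJapanese_of_span (R : Type u) [CommRing R]
    {ι : Type u} [Finite ι] (f : ι → R) (hf : Ideal.span (Set.range f) = ⊤)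
    (h : ∀ i, IsUniversallyJapanese (Localization.Away (f i))) :
    IsUniversallyJapanese R := by
  intro S _ _ _ hS
  let g : ι → S := fun i => algebraMap R S (f i)
  have hg : Ideal.span (Set.range g) = ⊤ := by
    have := congrArg (Ideal.map (algebraMap R S)) hf
    rw [Ideal.map_span, Ideal.map_top] at this
    rw [← this]
    congr 1
    ext x
    simp [g]
  let ι' := {i : ι // g i ≠ 0}
  let g' : ι' → S := fun i => g i.1
  have hg' : Ideal.span (Set.range g') = ⊤ := by
    rw [eq_top_iff, ← hg, Ideal.span_le]
    rintro _ ⟨i, rfl⟩
    by_cases h0 : g i = 0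
    · rw [h0]; exact Ideal.zero_mem _
    · exact Ideal.subset_span ⟨⟨i, h0⟩, rfl⟩
  haveI hdom : ∀ i : ι', IsDomain (Localization.Away (g' i)) := fun i =>
    IsLocalization.isDomain_localization (by
      apply Submonoid.powers_le.2
      exact mem_nonZeroDivisors_of_ne_zero i.2)
  have hN2 : ∀ i : ι', IsN2 (Localization.Away (g' i)) := by
    intro i
    let φ : Localization.Away (f i.1) →+* Localization.Away (g' i) :=
      IsLocalization.Away.map (Localization.Away (f i.1)) (Localization.Away (g' i))
        (algebraMap R S) (f i.1)
    letI : Algebra (Localization.Away (f i.1)) (Localization.Away (g' i)) := φ.toAlgebra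
    have hφ : φ.FiniteType :=
      RingHom.localization_away_map_finiteType R S _ _ (algebraMap R S) (f i.1)
        (RingHom.finiteType_algebraMap.2 hS)
    exact h i.1 (Localization.Away (g' i)) hφ
  exact isN2_of_span S g' hg' (fun i => Localization.Away (g' i)) hN2

end n1n2

end Groth.Agent.Lib.Helper11.Japanese
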