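import Mathlib

/-!
# Numerical polynomials with values in an abelian group (helper11)
-/

set_option autoImplicit false
universe u

namespace Groth.Agent.Lib.Helper11.K0HS

variable {K : Type*} [AddCommGroup K]

/-- forward difference -/
def Δ (f : ℕ → K) : ℕ → K := fun n => f (n + 1) - f n

/-- `f` is eventually a numerical polynomial of degree `< t` (defined through iterated
differences) -/
def IsNumPoly : (ℕ → K) → ℕ → Prop
  | f, 0 => ∃ N : ℕ, ∀ n, N ≤ n → f n = 0
  | f, t + 1 => IsNumPoly (Δ f) t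

theorem isNumPoly_zero_iff (f : ℕ → K) : IsNumPoly f 0 ↔ ∃ N : ℕ, ∀ n, N ≤ n → f n = 0 := Iff.rfl

theorem isNumPoly_succ_iff (f : ℕ → K) (t : ℕ) : IsNumPoly f (t + 1) ↔ IsNumPoly (Δ f) t :=
  Iff.rfl

theorem IsNumPoly.succ : ∀ (t : ℕ) (f : ℕ → K), IsNumPoly f t → IsNumPoly f (t + 1)
  | 0, f, ⟨N, hN⟩ => ⟨N, fun n hn => by
      show f (n + 1) - f n = 0
      rw [hN n hn, hN (n + 1) (Nat.le_succ_of_le hn), sub_zero]⟩
  | t + 1, f, h => IsNumPoly.succ t (Δ f) h

theorem IsNumPoly.mono {t t' : ℕ} (h : t ≤ t') {f : ℕ → K} (hf : IsNumPoly f t) :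
    IsNumPoly f t' := by
  induction h with
  | refl => exact hf
  | step _ ih => exact IsNumPoly.succ _ _ ih

theorem IsNumPoly.shift : ∀ (t : ℕ) (f : ℕ → K), IsNumPoly f t →
    IsNumPoly (fun n => f (n + 1)) t
  | 0, f, ⟨N, hN⟩ => ⟨N, fun n hn => hN (n + 1) (Nat.le_succ_of_le hn)⟩
  | t + 1, f, h => IsNumPoly.shift t (Δ f) h

theorem IsNumPoly.sub : ∀ (t : ℕ) (f g : ℕ → K), IsNumPoly f t → IsNumPoly g t →
    IsNumPoly (fun n => f n - g n) t
  | 0, f, g, ⟨N, hN⟩, ⟨N', hN'⟩ => ⟨max N N', fun n hn => by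
      show f n - g n = 0
      rw [hN n (le_trans (le_max_left _ _) hn), hN' n (le_trans (le_max_right _ _) hn),
        sub_zero]⟩
  | t + 1, f, g, hf, hg => by
      have h := IsNumPoly.sub t (Δ f) (Δ g) hf hg
      have e : Δ (fun n => f n - g n) = fun n => Δ f n - Δ g n := by
        funext n
        simp only [Δ]
        abel
      show IsNumPoly (Δ (fun n => f n - g n)) t
      rw [e]
      exact h

/-- explicit form with binomial coefficients -/
theorem IsNumPoly.exists_choose : ∀ (t : ℕ) (f : ℕ → K), IsNumPoly f t →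
    ∃ (a : ℕ → K) (N : ℕ), ∀ n, N ≤ n →
      f n = ∑ i ∈ Finset.range t, ((n.choose i : ℕ) : ℤ) • a i
  | 0, f, ⟨N, hN⟩ => ⟨fun _ => 0, N, fun n hn => by simp [hN n hn]⟩
  | t + 1, f, h => by
      obtain ⟨a, N, ha⟩ := IsNumPoly.exists_choose t (Δ f) h
      let b : ℕ → K := fun i => match i with
        | 0 => f N - ∑ i ∈ Finset.range t, ((N.choose (i + 1) : ℕ) : ℤ) • a i
        | i + 1 => a i
      refine ⟨b, N, fun n hn => ?_⟩
      rw [Finset.sum_range_succ']
      have hb0 : b 0 = f N - ∑ i ∈ Finset.range t, ((N.choose (i + 1) : ℕ) : ℤ) • a i := rfl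
      have hb1 : ∀ i, b (i + 1) = a i := fun _ => rfl
      simp only [hb1, Nat.choose_zero_right, Nat.cast_one, one_smul]
      induction n, hn using Nat.le_induction with
      | base =>
        rw [hb0]
        abel
      | succ n hn ih =>
        have h1 : f (n + 1) = f n + Δ f n := by simp [Δ]
        rw [h1, ih, ha n hn]
        have h2 : ∀ i ∈ Finset.range t, (((n + 1).choose (i + 1) : ℕ) : ℤ) • a i =
            ((n.choose i : ℕ) : ℤ) • a i + ((n.choose (i + 1) : ℕ) : ℤ) • a i := by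
          intro i _
          rw [Nat.choose_succ_succ, Nat.cast_add, add_smul]
        rw [Finset.sum_congr rfl h2, Finset.sum_add_distrib]
        abel

end Groth.Agent.Lib.Helper11.K0HS
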