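import Mathlib
import Groth.Prelude.Def_KZero
import Groth.Agent.Lib.Helper11.K0HSA
import Groth.Agent.Lib.Helper11.HSDecomp
import Groth.Agent.Lib.Helper26.NodeK0

/-!
# Hilbert–Serre theorem with values in `K₀'(A)` (helper11)
-/

set_option autoImplicit false
set_option linter.unusedSectionVars false
set_option linter.style.haveILetI false
universe u v

namespace Groth.Agent.Lib.Helper11.K0HS

open Groth.Agent.Lib.Helper11.HS KZero
open Groth.Agent.Lib.Helper17.K0PID (Fin' clSub_of_subsingleton clSub_of_linearEquiv)
open Groth.Agent.Lib.Helper26.NodeK0 (clSub_of_exact)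

variable {A : Type u} [CommRing A] {R : Type v} [CommRing R] [Algebra A R]
  {s : ℕ} {x : Fin s → R}

/-- the class of a module in `K₀'(A)` -/
noncomputable abbrev cls (X : Type u) [AddCommGroup X] [Module A X] : K0sub (Fin' A) :=
  clSub (Fin' A) (ModuleCat.of A X)

/-- the class of the `n`-th piece -/
noncomputable def pcl {G : Type u} [AddCommGroup G] [Module A G] [Module R G]
    [IsScalarTower A R G] (P : GrProj (A := A) x G) (n : ℕ) : K0sub (Fin' A) :=
  cls (A := A) (P.piece n)

section Identity

variable {G : Type u} [AddCommGroup G] [Module A G] [Module R G] [IsScalarTower A R G]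
  (P : GrProj (A := A) x G) (y : R) (j : Fin s) (hy : x j = y)

theorem class_identity (n : ℕ) [Module.Finite A (P.piece n)] [Module.Finite A (P.piece (n + 1))]
    [Module.Finite A ((kerGr P y j hy).piece n)]
    [Module.Finite A ((cokerGr P y j hy).piece (n + 1))] :
    pcl P (n + 1) - pcl P n = pcl (cokerGr P y j hy) (n + 1) - pcl (kerGr P y j hy) n := by
  haveI : Module.Finite A (LinearMap.range (μmap P y j hy n)) := Module.Finite.range _
  have h1 := clSub_of_exact (αmap P y j hy n) (μmap P y j hy n).rangeRestrict
    (αmap_injective P y j hy n) (by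
      intro v
      rw [← exact_α_μ P y j hy n v]
      constructor
      · intro h; exact congrArg Subtype.val h
      · intro h; exact Subtype.ext h) (LinearMap.surjective_rangeRestrict _)
  have h2 := clSub_of_exact (LinearMap.range (μmap P y j hy n)).subtype
    (βmap P y j hy (n + 1)) (Submodule.subtype_injective _) (by
      rw [LinearMap.exact_iff, Submodule.range_subtype, range_μ_eq_ker_β])
    (βmap_surjective P y j hy (n + 1))
  unfold pcl cls
  rw [h1, h2]
  abel

end Identity

theorem hilbertSerreK0 [IsNoetherianRing R] (hx : Algebra.adjoin A (Set.range x) = ⊤) (t : ℕ) :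
    t ≤ s → ∀ (G : Type u) [AddCommGroup G] [Module A G] [Module R G] [IsScalarTower A R G]
      [Module.Finite R G] (P : GrProj (A := A) x G)
      (_hkill : ∀ i : Fin s, t ≤ (i : ℕ) → ∀ v : G, x i • v = 0),
      IsNumPoly (pcl P) t := by
  induction t with
  | zero =>
    intro _ G _ _ _ _ _ P hkill
    obtain ⟨N, hN⟩ := hilbertSerre_base hx P (fun i v => hkill i (Nat.zero_le _) v)
    refine ⟨N, fun n hn => ?_⟩
    unfold pcl cls
    apply clSub_of_subsingleton
    show Subsingleton (P.piece n)
    rw [hN n hn]
    infer_instance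
  | succ t ih =>
    intro hts G _ _ _ _ _ P hkill
    let j : Fin s := ⟨t, hts⟩
    set y := x j with hy
    have hnoeth : IsNoetherian R G := isNoetherian_of_isNoetherianRing_of_finite R G
    have hKfin : Module.Finite R (kerY (G := G) y) :=
      Module.Finite.iff_fg.2 (IsNoetherian.noetherian _)
    have hkillK : ∀ i : Fin s, t ≤ (i : ℕ) → ∀ v : kerY (G := G) y, x i • v = 0 := by
      intro i hi v
      apply Subtype.ext
      rw [Submodule.coe_smul, Submodule.coe_zero]
      rcases Nat.eq_or_lt_of_le hi with h | h
      · have : i = j := Fin.ext h.symm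
        rw [this]
        exact (mem_kerY y _).1 v.2
      · exact hkill i h _
    have hK := ih (by omega) (kerY (G := G) y) (kerGr P y j rfl) hkillK
    have hkillL : ∀ i : Fin s, t ≤ (i : ℕ) → ∀ v : G ⧸ imY (G := G) y, x i • v = 0 := by
      intro i hi v
      obtain ⟨v, rfl⟩ := Submodule.Quotient.mk_surjective _ v
      rw [← Submodule.Quotient.mk_smul]
      rcases Nat.eq_or_lt_of_le hi with h | h
      · have : i = j := Fin.ext h.symm
        rw [this, Submodule.Quotient.mk_eq_zero, mem_imY]
        exact ⟨v, rfl⟩
      · rw [hkill i h, Submodule.Quotient.mk_zero]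
    have hL := ih (by omega) (G ⧸ imY (G := G) y) (cokerGr P y j rfl) hkillL
    -- finiteness of the pieces
    have hfP : ∀ n, Module.Finite A (P.piece n) := finite_piece hx (t + 1) hts G P hkill
    have hfK : ∀ n, Module.Finite A ((kerGr P y j rfl).piece n) :=
      finite_piece hx t (by omega) _ (kerGr P y j rfl) hkillK
    have hfL : ∀ n, Module.Finite A ((cokerGr P y j rfl).piece n) :=
      finite_piece hx t (by omega) _ (cokerGr P y j rfl) hkillL
    show IsNumPoly (Δ (pcl P)) t
    have e : Δ (pcl P) = fun n => pcl (cokerGr P y j rfl) (n + 1) - pcl (kerGr P y j rfl) n := by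
      funext n
      haveI := hfP n
      haveI := hfP (n + 1)
      haveI := hfK n
      haveI := hfL (n + 1)
      exact class_identity P y j rfl n
    rw [e]
    exact IsNumPoly.sub t _ _ (IsNumPoly.shift t _ hL) hK

end Groth.Agent.Lib.Helper11.K0HS
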