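import Mathlib
import Groth.Agent.Lib.Helper11.K0HSB
import Groth.Agent.Lib.Helper2.Graded

/-!
# Hilbert–Serre in `K₀'(A)` for graded modules over graded algebras generated in degree one
(helper11)
-/

set_option autoImplicit false
set_option linter.unusedSectionVars false
set_option linter.style.haveILetI false
universe u

namespace Groth.Agent.Lib.Helper11.K0HS

open Groth.Agent.Lib.Helper11.HS KZero
open Groth.Agent.Lib.Helper17.K0PID (Fin' clSub_of_subsingleton clSub_of_linearEquiv)

section GrProjOfGraded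

variable {A S : Type u} [CommRing A] [CommRing S] [Algebra A S]
  (𝒜 : ℕ → Submodule A S) [GradedAlgebra 𝒜]
  {M : Type u} [AddCommGroup M] [Module A M] [Module S M] [IsScalarTower A S M]
  (ℳ : ℕ → Submodule A M) [DirectSum.Decomposition ℳ] [SetLike.GradedSMul 𝒜 ℳ]
  {s : ℕ} (x : Fin s → S) (hx : ∀ i, x i ∈ 𝒜 1)

include hx in
lemma smul_mem_succ (i : Fin s) {k : ℕ} {v : M} (hv : v ∈ ℳ k) : x i • v ∈ ℳ (k + 1) := by
  have := SetLike.GradedSMul.smul_mem (A := 𝒜) (B := ℳ) (hx i) hv
  rw [vadd_eq_add, add_comm] at this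
  exact this

/-- the `GrProj` structure of a graded module over a graded algebra, for degree one elements -/
noncomputable def grProjOfGraded : GrProj (A := A) (R := S) x M where
  π := projL ℳ
  π_same n v := projL_of_mem_same ℳ (projL_mem ℳ n v)
  π_ne m n v h := projL_of_mem_ne ℳ (projL_mem ℳ n v) (Ne.symm h)
  fin v := by
    classical
    let T := (DirectSum.decompose ℳ v).support
    refine ⟨T.sup id + 1, fun n hn => ?_, ?_⟩
    · rw [projL_apply]
      have : n ∉ T := fun h => by
        have := Finset.le_sup (f := id) h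
        simp only [id] at this
        omega
      rw [DFinsupp.notMem_support_iff] at this
      rw [this]
      rfl
    · have hsub : T ⊆ Finset.range (T.sup id + 1) := by
        intro n hn
        have := Finset.le_sup (f := id) hn
        simp only [id] at this
        exact Finset.mem_range.2 (by omega)
      rw [← Finset.sum_subset hsub]
      · exact DirectSum.sum_support_decompose ℳ v
      · intro n _ hn
        rw [DFinsupp.notMem_support_iff] at hn
        rw [projL_apply, hn]
        rfl
  smul i n v := by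
    induction v using DirectSum.Decomposition.inductionOn ℳ with
    | zero => simp
    | @homogeneous k m =>
      by_cases h : k = n
      · subst h
        rw [projL_of_mem_same ℳ m.2, projL_of_mem_same ℳ (smul_mem_succ 𝒜 ℳ x hx i m.2)]
      · rw [projL_of_mem_ne ℳ m.2 h, smul_zero,
          projL_of_mem_ne ℳ (smul_mem_succ 𝒜 ℳ x hx i m.2) (by omega)]
    | add v w hv hw => rw [map_add, smul_add, hv, hw, smul_add, map_add]

lemma grProjOfGraded_piece (n : ℕ) : (grProjOfGraded 𝒜 ℳ x hx).piece n = ℳ n := by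
  ext v
  rw [GrProj.mem_piece_iff]
  constructor
  · intro h
    rw [← h]
    exact projL_mem ℳ n v
  · intro h
    exact projL_of_mem_same ℳ h

end GrProjOfGraded

section Gens

variable {A S : Type u} [CommRing A] [CommRing S] [Algebra A S]
  (𝒜 : ℕ → Submodule A S) [GradedAlgebra 𝒜]

/-- degree one generators of the irrelevant ideal generate the algebra, when `A → S₀` is onto -/
theorem adjoin_eq_top (h0 : ∀ s ∈ 𝒜 0, s ∈ Set.range (algebraMap A S)) (E : Set S)
    (hE : ∀ e ∈ E, e ∈ 𝒜 1)
    (h : (HomogeneousIdeal.irrelevant 𝒜).toIdeal ≤ Ideal.span E) :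
    Algebra.adjoin A E = ⊤ := by
  have h1 := Groth.Agent.Lib.Helper2.adjoin_eq_top_of_irrelevant_le_span 𝒜 E
    (fun e he => ⟨1, Nat.one_pos, hE e he⟩) h
  rw [eq_top_iff]
  intro z hztop
  clear hztop
  have hz : z ∈ Algebra.adjoin (𝒜 0) E := h1 ▸ Algebra.mem_top
  induction hz using Algebra.adjoin_induction with
  | mem z hz => exact Algebra.subset_adjoin hz
  | algebraMap a =>
    obtain ⟨b, hb⟩ := h0 a.1 a.2
    have : algebraMap (𝒜 0) S a = algebraMap A S b := hb.symm
    rw [this]
    exact Subalgebra.algebraMap_mem _ b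
  | add z w _ _ hz hw => exact add_mem hz hw
  | mul z w _ _ hz hw => exact mul_mem hz hw

end Gens

section Main

variable {A S : Type u} [CommRing A] [CommRing S] [Algebra A S] [IsNoetherianRing S]
  (𝒜 : ℕ → Submodule A S) [GradedAlgebra 𝒜]

theorem exists_numPoly (h0 : ∀ s ∈ 𝒜 0, s ∈ Set.range (algebraMap A S))
    (h1 : (HomogeneousIdeal.irrelevant 𝒜).toIdeal = Ideal.span (𝒜 1 : Set S))
    (M : Type u) [AddCommGroup M] [Module A M] [Module S M] [IsScalarTower A S M]
    [Module.Finite S M] (ℳ : ℕ → Submodule A M) [DirectSum.Decomposition ℳ]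
    [SetLike.GradedSMul 𝒜 ℳ] :
    ∃ (r : ℕ) (a : Fin r → K0sub (Fin' A)) (N : ℕ), ∀ n : ℕ, N ≤ n →
      clSub (Fin' A) (ModuleCat.of A ↥(ℳ n)) =
        ∑ i : Fin r, ((n.choose (i : ℕ) : ℕ) : ℤ) • a i := by
  classical
  -- finitely many degree one generators
  have hfg : (Ideal.span (𝒜 1 : Set S)).FG := IsNoetherian.noetherian _
  obtain ⟨T, hT1, hT2⟩ := (Submodule.fg_span_iff_fg_span_finset_subset (𝒜 1 : Set S)).1 hfg
  let s := T.card
  let x : Fin s → S := fun i => ((T.equivFin.symm i : T) : S)
  have hrange : Set.range x = (T : Set S) := by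
    ext z
    constructor
    · rintro ⟨i, rfl⟩
      exact (T.equivFin.symm i).2
    · intro hz
      exact ⟨T.equivFin ⟨z, hz⟩, by simp [x]⟩
  have hx1 : ∀ i, x i ∈ 𝒜 1 := fun i => hT1 (T.equivFin.symm i).2
  have hadj : Algebra.adjoin A (Set.range x) = ⊤ := by
    apply adjoin_eq_top 𝒜 h0 (Set.range x)
    · rintro _ ⟨i, rfl⟩
      exact hx1 i
    · rw [h1, hrange]
      exact le_of_eq hT2
  let P := grProjOfGraded 𝒜 ℳ x hx1
  have hnum := hilbertSerreK0 hadj s le_rfl M P (fun i hi => absurd i.2 (not_lt.2 hi))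
  obtain ⟨a, N, ha⟩ := IsNumPoly.exists_choose s _ hnum
  have hfin : ∀ n, Module.Finite A (P.piece n) :=
    finite_piece hadj s le_rfl M P (fun i hi => absurd i.2 (not_lt.2 hi))
  refine ⟨s, fun i => a i, N, fun n hn => ?_⟩
  have h2 := ha n hn
  rw [Finset.sum_range] at h2
  rw [← h2]
  unfold pcl cls
  haveI := hfin n
  exact (clSub_of_linearEquiv (LinearEquiv.ofEq _ _ (grProjOfGraded_piece 𝒜 ℳ x hx1 n))).symm

end Main

end Groth.Agent.Lib.Helper11.K0HS
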