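import Mathlib.CategoryTheory.Abelian.SerreClass.MorphismProperty
import Mathlib.Algebra.Homology.DerivedCategory.ExactFunctor
import Mathlib.CategoryTheory.Localization.Predicate
import Mathlib.CategoryTheory.Abelian.SerreClass.Localization
import Mathlib.CategoryTheory.Localization.CalculusOfFractions

set_option autoImplicit false
set_option linter.unusedSectionVars false
universe w w' v v' u u'
open CategoryTheory CategoryTheory.Limits

namespace Groth.Agent.Lib.Helper11.SerreQuot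

variable {A : Type u} [Category.{v} A] [Abelian A] (P : ObjectProperty A) [P.IsSerreClass]
  {Q : Type u'} [Category.{v'} Q] [Abelian Q]
  (L : A ⥤ Q) [L.IsLocalization P.isoModSerre] [L.Additive]

include P in
lemma exists_left (X Y : A) (f : L.obj X ⟶ L.obj Y) :
    ∃ (Z : A) (g : X ⟶ Z) (s : Y ⟶ Z), P.isoModSerre s ∧ f ≫ L.map s = L.map g := by
  obtain ⟨φ, rfl⟩ := Localization.exists_leftFraction L P.isoModSerre f
  exact ⟨φ.Y', φ.f, φ.s, φ.hs, φ.map_comp_map_s L _⟩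

include P in
lemma exists_right (X Y : A) (f : L.obj X ⟶ L.obj Y) :
    ∃ (Z : A) (s : Z ⟶ X) (g : Z ⟶ Y), P.isoModSerre s ∧ L.map s ≫ f = L.map g := by
  obtain ⟨φ, rfl⟩ := Localization.exists_rightFraction L P.isoModSerre f
  exact ⟨φ.X', φ.s, φ.f, φ.hs, φ.map_s_comp_map L _⟩

lemma isIso_map {X Y : A} (s : X ⟶ Y) (hs : P.isoModSerre s) : IsIso (L.map s) :=
  Localization.inverts L P.isoModSerre s hs

lemma exists_post {X Y : A} (f : X ⟶ Y) (h : L.map f = 0) :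
    ∃ (Y' : A) (s : Y ⟶ Y'), P.isoModSerre s ∧ f ≫ s = 0 := by
  obtain ⟨Y', s, hs, eq⟩ := (P.exists_comp_isoModSerre_eq_zero_iff f).2
    ((ObjectProperty.SerreClassLocalization.map_eq_zero_iff L P f).1 h)
  exact ⟨Y', s, hs, eq⟩

lemma exists_pre {X Y : A} (f : X ⟶ Y) (h : L.map f = 0) :
    ∃ (X' : A) (s : X' ⟶ X), P.isoModSerre s ∧ s ≫ f = 0 := by
  obtain ⟨X', s, hs, eq⟩ := (P.exists_isoModSerre_comp_eq_zero_iff f).2
    ((ObjectProperty.SerreClassLocalization.map_eq_zero_iff L P f).1 h)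
  exact ⟨X', s, hs, eq⟩

include P in
lemma fwd_step {X X' : A} {U V : Q} (φ : L.obj X ≅ U) (δ : U ⟶ V) (f : X' ⟶ X)
    (hf : L.map f ≫ φ.hom ≫ δ = 0) :
    ∃ (Y : A) (ψ : L.obj Y ≅ V) (g : X ⟶ Y), L.map g ≫ ψ.hom = φ.hom ≫ δ ∧ f ≫ g = 0 := by
  have : L.EssSurj := Localization.essSurj L P.isoModSerre
  let Y₀ := L.objPreimage V
  let ψ₀ : L.obj Y₀ ≅ V := L.objObjPreimageIso V
  obtain ⟨Z, g₀, s, hs, hfrac⟩ := exists_left P L X Y₀ (φ.hom ≫ δ ≫ ψ₀.inv)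
  have := isIso_map P L s hs
  let ψ₁ : L.obj Z ≅ V := (asIso (L.map s)).symm ≪≫ ψ₀
  have h₁ : L.map g₀ ≫ ψ₁.hom = φ.hom ≫ δ := by
    simp [ψ₁, ← hfrac]
  have h₂ : L.map (f ≫ g₀) = 0 := by
    rw [L.map_comp, ← cancel_mono ψ₁.hom, Category.assoc, h₁, hf, zero_comp]
  obtain ⟨Y, t, ht, htz⟩ := exists_post P L _ h₂
  have := isIso_map P L t ht
  refine ⟨Y, (asIso (L.map t)).symm ≪≫ ψ₁, g₀ ≫ t, ?_, by rw [← Category.assoc, htz]⟩
  simp [h₁]

include P in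
lemma bwd_step {X X' : A} {U V : Q} (φ : L.obj X ≅ U) (δ : V ⟶ U) (f : X ⟶ X')
    (hf : δ ≫ φ.inv ≫ L.map f = 0) :
    ∃ (Y : A) (ψ : L.obj Y ≅ V) (g : Y ⟶ X), L.map g ≫ φ.hom = ψ.hom ≫ δ ∧ g ≫ f = 0 := by
  have : L.EssSurj := Localization.essSurj L P.isoModSerre
  let Y₀ := L.objPreimage V
  let ψ₀ : L.obj Y₀ ≅ V := L.objObjPreimageIso V
  obtain ⟨Z, s, g₀, hs, hfrac⟩ := exists_right P L Y₀ X (ψ₀.hom ≫ δ ≫ φ.inv)
  have := isIso_map P L s hs
  let ψ₁ : L.obj Z ≅ V := asIso (L.map s) ≪≫ ψ₀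
  have h₁ : L.map g₀ ≫ φ.hom = ψ₁.hom ≫ δ := by
    simp [ψ₁, ← hfrac]
  have h₂ : L.map (g₀ ≫ f) = 0 := by
    rw [L.map_comp, ← cancel_epi ψ₁.inv, ← hfrac]
    simp [ψ₁, hf]
  obtain ⟨Y, t, ht, htz⟩ := exists_pre P L _ h₂
  have := isIso_map P L t ht
  refine ⟨Y, asIso (L.map t) ≪≫ ψ₁, t ≫ g₀, ?_, by rw [Category.assoc, htz]⟩
  simp [h₁]

section Fwd
variable (U : ℕ → Q) (δ : ∀ k, U k ⟶ U (k + 1)) (hδ : ∀ k, δ k ≫ δ (k + 1) = 0)

/-- forward state. -/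
structure FSt (k : ℕ) where
  X : A
  φ : L.obj X ≅ U k
  T : A
  f : T ⟶ X
  hf : L.map f ≫ φ.hom ≫ δ k = 0

variable {L U δ}

/-- forward step. -/
noncomputable def FSt.next {k : ℕ} (s : FSt L U δ k) : FSt L U δ (k + 1) :=
  let h := fwd_step P L s.φ (δ k) s.f s.hf
  { X := h.choose
    φ := h.choose_spec.choose
    T := s.X
    f := h.choose_spec.choose_spec.choose
    hf := by
      have := h.choose_spec.choose_spec.choose_spec.1
      rw [reassoc_of% this, hδ, comp_zero] }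

lemma FSt.next_spec {k : ℕ} (s : FSt L U δ k) :
    L.map (s.next P hδ).f ≫ (s.next P hδ).φ.hom = s.φ.hom ≫ δ k ∧ s.f ≫ (s.next P hδ).f = 0 :=
  (fwd_step P L s.φ (δ k) s.f s.hf).choose_spec.choose_spec.choose_spec

variable (L U δ)

/-- initial forward state. -/
noncomputable def FSt.init : FSt L U δ 0 :=
  have : L.EssSurj := Localization.essSurj L P.isoModSerre
  { X := L.objPreimage (U 0)
    φ := L.objObjPreimageIso (U 0)
    T := L.objPreimage (U 0)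
    f := 0
    hf := by simp }

/-- the forward sequence. -/
noncomputable def fseq : (k : ℕ) → FSt L U δ k
  | 0 => FSt.init P L U δ
  | k + 1 => (fseq k).next P hδ

end Fwd

omit [L.IsLocalization P.isoModSerre] [L.Additive] [Abelian Q] [Abelian A] in
lemma bwd_hg_aux [Preadditive Q] {Y X : A} {Vk Vk1 Vk2 : Q} (ψ' : L.obj Y ≅ Vk1) (ψ : L.obj X ≅ Vk)
    (g' : Y ⟶ X) (ε₁ : Vk2 ⟶ Vk1) (ε₀ : Vk1 ⟶ Vk) (h : ε₁ ≫ ε₀ = 0)
    (this : L.map g' ≫ ψ.hom = ψ'.hom ≫ ε₀) : ε₁ ≫ ψ'.inv ≫ L.map g' = 0 := by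
  have h2 : L.map g' = ψ'.hom ≫ ε₀ ≫ ψ.inv := by
    rw [← Category.assoc, ← this]; simp
  rw [h2]; simp [reassoc_of% h]

section Bwd
variable (V : ℕ → Q) (ε : ∀ k, V (k + 1) ⟶ V k) (hε : ∀ k, ε (k + 1) ≫ ε k = 0)

/-- backward state. -/
structure BSt (k : ℕ) where
  Y : A
  ψ : L.obj Y ≅ V k
  T : A
  g : Y ⟶ T
  hg : ε k ≫ ψ.inv ≫ L.map g = 0

variable {L V ε}

/-- backward step. -/
noncomputable def BSt.next {k : ℕ} (s : BSt L V ε k) : BSt L V ε (k + 1) :=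
  let h := bwd_step P L s.ψ (ε k) s.g s.hg
  { Y := h.choose
    ψ := h.choose_spec.choose
    T := s.Y
    g := h.choose_spec.choose_spec.choose
    hg := bwd_hg_aux L _ s.ψ _ _ _ (hε k) h.choose_spec.choose_spec.choose_spec.1 }

lemma BSt.next_spec {k : ℕ} (s : BSt L V ε k) :
    L.map (s.next P hε).g ≫ s.ψ.hom = (s.next P hε).ψ.hom ≫ ε k ∧ (s.next P hε).g ≫ s.g = 0 :=
  (bwd_step P L s.ψ (ε k) s.g s.hg).choose_spec.choose_spec.choose_spec

/-- the backward sequence. -/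
noncomputable def bseq (s₀ : BSt L V ε 0) : (k : ℕ) → BSt L V ε k
  | 0 => s₀
  | k + 1 => (bseq s₀ k).next P hε

end Bwd

omit [L.IsLocalization P.isoModSerre] [L.Additive] [Abelian Q] [Abelian A] in
lemma bwd_init_aux [Preadditive Q] {X₀ X₁ : A} {U₀ U₁ V₀ : Q} (φ₀ : L.obj X₀ ≅ U₀) (φ₁ : L.obj X₁ ≅ U₁)
    (d₀ : X₀ ⟶ X₁) (δ₀ : U₀ ⟶ U₁) (ε₀ : V₀ ⟶ U₀) (h : ε₀ ≫ δ₀ = 0)
    (this : L.map d₀ ≫ φ₁.hom = φ₀.hom ≫ δ₀) : ε₀ ≫ φ₀.inv ≫ L.map d₀ = 0 := by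
  have h2 : L.map d₀ = φ₀.hom ≫ δ₀ ≫ φ₁.inv := by
    rw [← Category.assoc, ← this]; simp
  rw [h2]; simp [reassoc_of% h]

section Glue
variable (K : CochainComplex Q ℤ)

/-- forward objects of `K`. -/
def KU (k : ℕ) : Q := K.X (Int.ofNat k)
/-- forward differentials of `K`. -/
def Kδ (k : ℕ) : KU K k ⟶ KU K (k + 1) := K.d (Int.ofNat k) (Int.ofNat (k + 1))
lemma Kδ_comp (k : ℕ) : Kδ K k ≫ Kδ K (k + 1) = 0 := K.d_comp_d _ _ _
/-- backward objects of `K`. -/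
def KV (k : ℕ) : Q := K.X (Int.negSucc k)
/-- backward differentials of `K`. -/
def Kε (k : ℕ) : KV K (k + 1) ⟶ KV K k := K.d (Int.negSucc (k + 1)) (Int.negSucc k)
lemma Kε_comp (k : ℕ) : Kε K (k + 1) ≫ Kε K k = 0 := K.d_comp_d _ _ _
/-- the middle differential. -/
def Kε₀ : KV K 0 ⟶ KU K 0 := K.d (Int.negSucc 0) (Int.ofNat 0)

/-- forward sequence for `K`. -/
noncomputable def fs (k : ℕ) : FSt L (KU K) (Kδ K) k := fseq P L (KU K) (Kδ K) (Kδ_comp K) k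

/-- forward differential. -/
noncomputable def df (k : ℕ) : (fs P L K k).X ⟶ (fs P L K (k + 1)).X := (fs P L K (k + 1)).f

lemma df_spec (k : ℕ) : L.map (df P L K k) ≫ (fs P L K (k + 1)).φ.hom =
    (fs P L K k).φ.hom ≫ Kδ K k ∧ (fs P L K k).f ≫ df P L K k = 0 :=
  (fs P L K k).next_spec P (Kδ_comp K)

lemma df_comp (k : ℕ) : df P L K k ≫ df P L K (k + 1) = 0 := (df_spec P L K (k + 1)).2

lemma bs₀_aux : Kε₀ K ≫ (fs P L K 0).φ.inv ≫ L.map (df P L K 0) = 0 :=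
  bwd_init_aux L _ _ _ _ _ (K.d_comp_d _ _ _) (df_spec P L K 0).1

/-- initial backward state. -/
noncomputable def bs₀ : BSt L (KV K) (Kε K) 0 :=
  let h := bwd_step P L (fs P L K 0).φ (Kε₀ K) (df P L K 0) (bs₀_aux P L K)
  { Y := h.choose
    ψ := h.choose_spec.choose
    T := (fs P L K 0).X
    g := h.choose_spec.choose_spec.choose
    hg := bwd_hg_aux L _ (fs P L K 0).φ _ _ _ (K.d_comp_d _ _ _)
      h.choose_spec.choose_spec.choose_spec.1 }

lemma bs₀_spec : L.map (bs₀ P L K).g ≫ (fs P L K 0).φ.hom = (bs₀ P L K).ψ.hom ≫ Kε₀ K ∧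
    (bs₀ P L K).g ≫ df P L K 0 = 0 :=
  (bwd_step P L (fs P L K 0).φ (Kε₀ K) (df P L K 0)
    (bs₀_aux P L K)).choose_spec.choose_spec.choose_spec

/-- backward sequence for `K`. -/
noncomputable def bs (k : ℕ) : BSt L (KV K) (Kε K) k := bseq P (Kε_comp K) (bs₀ P L K) k

/-- backward differential. -/
noncomputable def db (k : ℕ) : (bs P L K (k + 1)).Y ⟶ (bs P L K k).Y := (bs P L K (k + 1)).g

lemma db_spec (k : ℕ) : L.map (db P L K k) ≫ (bs P L K k).ψ.hom =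
    (bs P L K (k + 1)).ψ.hom ≫ Kε K k ∧ db P L K k ≫ (bs P L K k).g = 0 :=
  (bs P L K k).next_spec P (Kε_comp K)

lemma db_comp (k : ℕ) : db P L K (k + 1) ≫ db P L K k = 0 := (db_spec P L K (k + 1)).2

/-- the middle map. -/
noncomputable def e₀ : (bs P L K 0).Y ⟶ (fs P L K 0).X := (bs₀ P L K).g

lemma db_e₀ : db P L K 0 ≫ e₀ P L K = 0 := (db_spec P L K 0).2

/-- objects of the lifted complex. -/
noncomputable def GX : ℤ → A
  | Int.ofNat k => (fs P L K k).X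
  | Int.negSucc k => (bs P L K k).Y

/-- differentials of the lifted complex. -/
noncomputable def Gd : ∀ n : ℤ, GX P L K n ⟶ GX P L K (n + 1)
  | Int.ofNat k => df P L K k
  | Int.negSucc 0 => e₀ P L K
  | Int.negSucc (k + 1) => db P L K k

lemma Gd_comp : ∀ n : ℤ, Gd P L K n ≫ Gd P L K (n + 1) = 0
  | Int.ofNat k => df_comp P L K k
  | Int.negSucc 0 => (bs₀_spec P L K).2
  | Int.negSucc 1 => db_e₀ P L K
  | Int.negSucc (k + 2) => db_comp P L K k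

/-- the isomorphisms. -/
noncomputable def Gφ : ∀ n : ℤ, L.obj (GX P L K n) ≅ K.X n
  | Int.ofNat k => (fs P L K k).φ
  | Int.negSucc k => (bs P L K k).ψ

lemma Gφ_comm : ∀ n : ℤ, L.map (Gd P L K n) ≫ (Gφ P L K (n + 1)).hom =
    (Gφ P L K n).hom ≫ K.d n (n + 1)
  | Int.ofNat k => (df_spec P L K k).1
  | Int.negSucc 0 => (bs₀_spec P L K).1
  | Int.negSucc (k + 1) => (db_spec P L K k).1

/-- the lifted complex. -/
noncomputable def liftK : CochainComplex A ℤ :=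
  CochainComplex.of (GX P L K) (Gd P L K) (Gd_comp P L K)

lemma liftK_d (i : ℤ) : (liftK P L K).d i (i + 1) = Gd P L K i :=
  CochainComplex.of_d _ _ _

/-- the lifted complex maps to `K`. -/
noncomputable def liftKIso : (L.mapHomologicalComplex _).obj (liftK P L K) ≅ K :=
  HomologicalComplex.Hom.isoOfComponents (fun n => Gφ P L K n) (by
    rintro i j (rfl : i + 1 = j)
    change _ = L.map ((liftK P L K).d i (i + 1)) ≫ _
    rw [liftK_d]
    exact (Gφ_comm P L K i).symm)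

end Glue

include P in
theorem main [HasDerivedCategory.{w} A] [HasDerivedCategory.{w'} Q]
    [PreservesFiniteLimits L] [PreservesFiniteColimits L] : L.mapDerivedCategory.EssSurj := by
  refine ⟨fun Y => ?_⟩
  let K := DerivedCategory.Q.objPreimage Y
  exact ⟨DerivedCategory.Q.obj (liftK P L K), ⟨(L.mapDerivedCategoryFactors).app _ ≪≫
    DerivedCategory.Q.mapIso (liftKIso P L K) ≪≫ DerivedCategory.Q.objObjPreimageIso Y⟩⟩

end Groth.Agent.Lib.Helper11.SerreQuot
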