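import Groth.Prelude.Def_KZero
import Mathlib
import Groth.Agent.Lib.Helper11.SerreQuot

set_option autoImplicit false
set_option linter.unusedSectionVars false
universe v v' u u'
open CategoryTheory CategoryTheory.Limits KZero ZeroObject

namespace Groth.Agent.Lib.Helper11.K0Serre

section Basic
variable {C : Type u} [Category.{v} C] [Abelian C]

lemma cl_shortExact {S : ShortComplex C} (hS : S.ShortExact) : cl S.X₂ = cl S.X₁ + cl S.X₃ := by
  have : FreeAbelianGroup.of S.X₂ - FreeAbelianGroup.of S.X₁ - FreeAbelianGroup.of S.X₃ ∈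
      relAb C := AddSubgroup.subset_closure ⟨S, hS, rfl⟩
  have h := (QuotientAddGroup.eq_zero_iff _).2 this
  simp only [QuotientAddGroup.mk_sub] at h
  unfold cl
  rw [sub_sub, sub_eq_zero] at h
  exact h

lemma cl_isZero {X : C} (h : IsZero X) : cl X = 0 := by
  have hS : (ShortComplex.mk (0 : X ⟶ X) (0 : X ⟶ X) zero_comp).ShortExact :=
    { exact := ShortComplex.exact_of_isZero_X₂ _ h
      mono_f := ⟨fun _ _ _ => h.eq_of_tgt _ _⟩
      epi_g := ⟨fun _ _ _ => h.eq_of_src _ _⟩ }
  have := cl_shortExact hS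
  dsimp at this
  exact (add_eq_left.1 this.symm)

lemma cl_iso {X Y : C} (e : X ≅ Y) : cl X = cl Y := by
  have hS : (ShortComplex.mk (0 : (0 : C) ⟶ X) e.hom zero_comp).ShortExact :=
    { exact := (ShortComplex.exact_iff_mono _ rfl).2 (inferInstanceAs (Mono e.hom))
      mono_f := ⟨fun _ _ _ => (isZero_zero C).eq_of_tgt _ _⟩
      epi_g := inferInstanceAs (Epi e.hom) }
  have := cl_shortExact hS
  dsimp at this
  rw [this, cl_isZero (isZero_zero C), zero_add]

lemma cl_biprod (X Y : C) : cl (X ⊞ Y) = cl X + cl Y :=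
  cl_shortExact (ShortComplex.Splitting.ofHasBinaryBiproduct X Y).shortExact

/-- universal property of `K0`. -/
noncomputable def K0lift {G : Type*} [AddCommGroup G] (f : C → G)
    (hf : ∀ S : ShortComplex C, S.ShortExact → f S.X₂ = f S.X₁ + f S.X₃) : K0 C →+ G :=
  QuotientAddGroup.lift (relAb C) (FreeAbelianGroup.lift f) (by
    refine (AddSubgroup.closure_le _).2 ?_
    rintro x ⟨S, hS, rfl⟩
    simp only [SetLike.mem_coe, AddMonoidHom.mem_ker, map_sub, FreeAbelianGroup.lift_apply_of,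
      hf S hS]
    abel)

@[simp] lemma K0lift_cl {G : Type*} [AddCommGroup G] (f : C → G)
    (hf : ∀ S : ShortComplex C, S.ShortExact → f S.X₂ = f S.X₁ + f S.X₃) (X : C) :
    K0lift f hf (cl X) = f X := by
  unfold K0lift cl
  simp

lemma exists_cl_sub (z : K0 C) : ∃ X Y : C, z = cl X - cl Y := by
  induction z using QuotientAddGroup.induction_on with
  | H g =>
    induction g using FreeAbelianGroup.induction_on with
    | zero => exact ⟨0, 0, by simp⟩
    | of X => exact ⟨X, 0, by rw [cl_isZero (isZero_zero C), sub_zero]; rfl⟩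
    | neg X _ =>
      exact ⟨0, X, by rw [cl_isZero (isZero_zero C), zero_sub]; rfl⟩
    | add x y hx hy =>
      obtain ⟨X, Y, h1⟩ := hx
      obtain ⟨X', Y', h2⟩ := hy
      refine ⟨X ⊞ X', Y ⊞ Y', ?_⟩
      rw [QuotientAddGroup.mk_add, h1, h2, cl_biprod, cl_biprod]
      abel

lemma ses_ker_im {X Y : C} (f : X ⟶ Y) :
    (ShortComplex.mk (kernel.ι f) (Abelian.factorThruImage f) (by
      rw [← cancel_mono (Abelian.image.ι f), Category.assoc, Abelian.image.fac, kernel.condition,
        zero_comp])).ShortExact := by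
  let φ : ShortComplex.mk (kernel.ι f) (Abelian.factorThruImage f) (by
      rw [← cancel_mono (Abelian.image.ι f), Category.assoc, Abelian.image.fac, kernel.condition,
        zero_comp]) ⟶ ShortComplex.mk (kernel.ι f) f (by simp) :=
    { τ₁ := 𝟙 _, τ₂ := 𝟙 _, τ₃ := Abelian.image.ι f }
  have : Epi φ.τ₁ := inferInstanceAs (Epi (𝟙 _))
  have : IsIso φ.τ₂ := inferInstanceAs (IsIso (𝟙 _))
  have : Mono φ.τ₃ := inferInstanceAs (Mono (Abelian.image.ι f))
  exact
    { exact := (ShortComplex.exact_iff_of_epi_of_isIso_of_mono φ).2 (ShortComplex.exact_kernel f)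
      mono_f := inferInstanceAs (Mono (kernel.ι f))
      epi_g := inferInstanceAs (Epi (Abelian.factorThruImage f)) }

lemma ses_im_coker {X Y : C} (f : X ⟶ Y) :
    (ShortComplex.mk (Abelian.image.ι f) (cokernel.π f) (kernel.condition _)).ShortExact :=
  { exact := ShortComplex.exact_kernel (cokernel.π f)
    mono_f := inferInstanceAs (Mono (Abelian.image.ι f))
    epi_g := inferInstanceAs (Epi (cokernel.π f)) }

lemma cl_ker_im {X Y : C} (f : X ⟶ Y) : cl X = cl (kernel f) + cl (Abelian.image f) :=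
  cl_shortExact (ses_ker_im f)

lemma cl_im_coker {X Y : C} (f : X ⟶ Y) : cl Y = cl (Abelian.image f) + cl (cokernel f) :=
  cl_shortExact (ses_im_coker f)

lemma cl_sub_eq {X Y : C} (f : X ⟶ Y) : cl Y - cl X = cl (cokernel f) - cl (kernel f) := by
  rw [cl_ker_im f, cl_im_coker f]; abel

lemma cl_homology (S : ShortComplex C) :
    cl S.homology = cl S.X₂ - cl (Abelian.image S.g) - cl S.X₁ + cl (kernel S.f) := by
  let f' := kernel.lift S.g S.f S.zero
  have h1 : cl S.homology = cl (cokernel f') := cl_iso S.homologyIsoCokernelLift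
  have h2 : cl (kernel S.g) = cl (Abelian.image f') + cl (cokernel f') := cl_im_coker f'
  have h3 : cl S.X₁ = cl (kernel f') + cl (Abelian.image f') := cl_ker_im f'
  have h4 : cl (kernel f') = cl (kernel S.f) :=
    cl_iso ((kernelCompMono f' (kernel.ι S.g)).symm ≪≫ kernelIsoOfEq (kernel.lift_ι _ _ _))
  have h5 : cl S.X₂ = cl (kernel S.g) + cl (Abelian.image S.g) := cl_ker_im S.g
  rw [h1, h5, h3, h4]
  rw [h2]
  abel

/-- the two homologies of a 2-periodic complex have the same class. -/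
lemma cl_homology_periodic {M : C} (φ ψ : M ⟶ M) (h₁ : φ ≫ ψ = 0) (h₂ : ψ ≫ φ = 0) :
    cl (ShortComplex.mk φ ψ h₁).homology = cl (ShortComplex.mk ψ φ h₂).homology := by
  rw [cl_homology, cl_homology]
  dsimp
  have a := cl_ker_im φ
  have b := cl_ker_im ψ
  have : cl (kernel φ) - cl (Abelian.image ψ) = cl (kernel ψ) - cl (Abelian.image φ) := by
    rw [sub_eq_sub_iff_add_eq_add, ← a]
    first | exact b | (rw [add_comm]; exact b)
  calc cl M - cl (Abelian.image ψ) - cl M + cl (kernel φ)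
      = cl (kernel φ) - cl (Abelian.image ψ) := by abel
    _ = cl (kernel ψ) - cl (Abelian.image φ) := this
    _ = cl M - cl (Abelian.image φ) - cl M + cl (kernel ψ) := by abel

section Sub
variable (P : ObjectProperty C) [P.IsSerreClass]

lemma clSub_of {X : C} (h : P X) :
    clSub P X = QuotientAddGroup.mk (FreeAbelianGroup.of (⟨X, h⟩ : Subtype P)) := dif_pos h

lemma clSub_shortExact {S : ShortComplex C} (hS : S.ShortExact) (h₁ : P S.X₁) (h₂ : P S.X₂)
    (h₃ : P S.X₃) : clSub P S.X₂ = clSub P S.X₁ + clSub P S.X₃ := by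
  have : FreeAbelianGroup.of (⟨S.X₂, h₂⟩ : Subtype P) - FreeAbelianGroup.of ⟨S.X₁, h₁⟩ -
      FreeAbelianGroup.of ⟨S.X₃, h₃⟩ ∈ relSub P :=
    AddSubgroup.subset_closure ⟨S, h₁, h₂, h₃, hS, rfl⟩
  have h := (QuotientAddGroup.eq_zero_iff _).2 this
  simp only [QuotientAddGroup.mk_sub] at h
  rw [clSub_of P h₁, clSub_of P h₂, clSub_of P h₃]
  rw [sub_sub, sub_eq_zero] at h
  exact h

lemma clSub_isZero {X : C} (h : IsZero X) : clSub P X = 0 := by
  have hP : P X := P.prop_of_isZero h
  have hS : (ShortComplex.mk (0 : X ⟶ X) (0 : X ⟶ X) zero_comp).ShortExact :=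
    { exact := ShortComplex.exact_of_isZero_X₂ _ h
      mono_f := ⟨fun _ _ _ => h.eq_of_tgt _ _⟩
      epi_g := ⟨fun _ _ _ => h.eq_of_src _ _⟩ }
  have := clSub_shortExact P hS hP hP hP
  dsimp at this
  exact (add_eq_left.1 this.symm)

lemma clSub_iso {X Y : C} (e : X ≅ Y) (hX : P X) : clSub P X = clSub P Y := by
  have hY : P Y := P.prop_of_iso e hX
  have hS : (ShortComplex.mk (0 : (0 : C) ⟶ X) e.hom zero_comp).ShortExact :=
    { exact := (ShortComplex.exact_iff_mono _ rfl).2 (inferInstanceAs (Mono e.hom))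
      mono_f := ⟨fun _ _ _ => (isZero_zero C).eq_of_tgt _ _⟩
      epi_g := inferInstanceAs (Epi e.hom) }
  have := clSub_shortExact P hS (P.prop_of_isZero (isZero_zero C)) hX hY
  dsimp at this
  rw [this, clSub_isZero P (isZero_zero C), zero_add]

lemma prop_biprod {X Y : C} (hX : P X) (hY : P Y) : P (X ⊞ Y) :=
  P.prop_X₂_of_shortExact (ShortComplex.Splitting.ofHasBinaryBiproduct X Y).shortExact hX hY

lemma clSub_biprod {X Y : C} (hX : P X) (hY : P Y) :
    clSub P (X ⊞ Y) = clSub P X + clSub P Y :=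
  clSub_shortExact P (ShortComplex.Splitting.ofHasBinaryBiproduct X Y).shortExact hX
    (prop_biprod P hX hY) hY

/-- universal property of `K0sub`. -/
noncomputable def K0subLift {G : Type*} [AddCommGroup G] (f : C → G)
    (hf : ∀ S : ShortComplex C, S.ShortExact → P S.X₁ → P S.X₂ → P S.X₃ →
      f S.X₂ = f S.X₁ + f S.X₃) : K0sub P →+ G :=
  QuotientAddGroup.lift (relSub P) (FreeAbelianGroup.lift (fun X : Subtype P => f X.1)) (by
    refine (AddSubgroup.closure_le _).2 ?_
    rintro x ⟨S, h₁, h₂, h₃, hS, rfl⟩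
    simp only [SetLike.mem_coe, AddMonoidHom.mem_ker, map_sub, FreeAbelianGroup.lift_apply_of,
      hf S hS h₁ h₂ h₃]
    abel)

lemma K0subLift_clSub {G : Type*} [AddCommGroup G] (f : C → G)
    (hf : ∀ S : ShortComplex C, S.ShortExact → P S.X₁ → P S.X₂ → P S.X₃ →
      f S.X₂ = f S.X₁ + f S.X₃) {X : C} (hX : P X) :
    K0subLift P f hf (clSub P X) = f X := by
  rw [clSub_of P hX]
  unfold K0subLift
  simp

lemma exists_clSub_sub (z : K0sub P) : ∃ X Y : C, P X ∧ P Y ∧ z = clSub P X - clSub P Y := by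
  have h0 : P (0 : C) := P.prop_of_isZero (isZero_zero C)
  induction z using QuotientAddGroup.induction_on with
  | H g =>
    induction g using FreeAbelianGroup.induction_on with
    | zero => exact ⟨0, 0, h0, h0, by simp⟩
    | of X =>
      exact ⟨X.1, 0, X.2, h0, by
        rw [clSub_isZero P (isZero_zero C), sub_zero, clSub_of P X.2]⟩
    | neg X _ =>
      exact ⟨0, X.1, h0, X.2, by
        rw [clSub_isZero P (isZero_zero C), zero_sub, clSub_of P X.2]; rfl⟩
    | add x y hx hy =>
      obtain ⟨X, Y, hX, hY, h1⟩ := hx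
      obtain ⟨X', Y', hX', hY', h2⟩ := hy
      refine ⟨X ⊞ X', Y ⊞ Y', prop_biprod P hX hX', prop_biprod P hY hY', ?_⟩
      rw [QuotientAddGroup.mk_add, h1, h2, clSub_biprod P hX hX', clSub_biprod P hY hY']
      abel

end Sub

end Basic

section Main
variable {A : Type u} [Category.{v} A] [Abelian A] (P : ObjectProperty A) [P.IsSerreClass]
  {Q : Type u'} [Category.{v'} Q] [Abelian Q]
  (L : A ⥤ Q) [L.IsLocalization P.isoModSerre] [L.Additive] [PreservesFiniteLimits L]
  [PreservesFiniteColimits L]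

/-- the map induced by the inclusion. -/
noncomputable def ι : K0sub P →+ K0 A :=
  K0subLift P (fun X => cl X) (fun _ hS _ _ _ => cl_shortExact hS)

lemma ι_clSub {X : A} (hX : P X) : ι P (clSub P X) = cl X := K0subLift_clSub P _ _ hX

/-- the map induced by the localization functor. -/
noncomputable def lam : K0 A →+ K0 Q :=
  K0lift (fun X => cl (L.obj X)) (fun _ hS => cl_shortExact (hS.map_of_exact L))

lemma lam_cl (X : A) : lam L (cl X) = cl (L.obj X) := K0lift_cl _ _ X

include P in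
lemma lam_surjective : Function.Surjective (lam L) := by
  have := Localization.essSurj L P.isoModSerre
  intro z
  obtain ⟨Z₁, Z₂, rfl⟩ := exists_cl_sub z
  refine ⟨cl (L.objPreimage Z₁) - cl (L.objPreimage Z₂), ?_⟩
  rw [map_sub, lam_cl, lam_cl, cl_iso (L.objObjPreimageIso Z₁), cl_iso (L.objObjPreimageIso Z₂)]

lemma range_le_ker : (ι P).range ≤ (lam L).ker := by
  rintro _ ⟨x, rfl⟩
  obtain ⟨X, Y, hX, hY, rfl⟩ := exists_clSub_sub P x
  rw [AddMonoidHom.mem_ker, map_sub, map_sub, ι_clSub P hX, ι_clSub P hY, lam_cl, lam_cl,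
    cl_isZero ((ObjectProperty.SerreClassLocalization.isZero_obj_iff L P X).2 hX),
    cl_isZero ((ObjectProperty.SerreClassLocalization.isZero_obj_iff L P Y).2 hY), sub_zero]

lemma cl_mem_range {X : A} (hX : P X) : cl X ∈ (ι P).range := ⟨clSub P X, ι_clSub P hX⟩

lemma sub_mem_range_of_isoModSerre {X Y : A} (f : X ⟶ Y) (hf : P.isoModSerre f) :
    cl Y - cl X ∈ (ι P).range := by
  rw [cl_sub_eq f]
  exact (ι P).range.sub_mem (cl_mem_range P hf.2) (cl_mem_range P hf.1)

lemma sub_mem_range_of_iso {X X' : A} (e : L.obj X ≅ L.obj X') : cl X - cl X' ∈ (ι P).range := by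
  obtain ⟨Z, g, s, hs, h⟩ := SerreQuot.exists_left P L X X' e.hom
  have : IsIso (L.map s) := SerreQuot.isIso_map P L s hs
  have hg : P.isoModSerre g := by
    rw [← ObjectProperty.SerreClassLocalization.isIso_map_iff L P, ← h]
    infer_instance
  have h1 := sub_mem_range_of_isoModSerre P g hg
  have h2 := sub_mem_range_of_isoModSerre P s hs
  have : cl X - cl X' = (cl Z - cl X') - (cl Z - cl X) := by abel
  rw [this]
  exact (ι P).range.sub_mem h2 h1

lemma sub_mem_range_of_ses (S : ShortComplex Q) (hS : S.ShortExact) (X₁ X₂ X₃ : A)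
    (φ₁ : L.obj X₁ ≅ S.X₁) (φ₂ : L.obj X₂ ≅ S.X₂) (φ₃ : L.obj X₃ ≅ S.X₃) :
    cl X₂ - cl X₁ - cl X₃ ∈ (ι P).range := by
  have := hS.mono_f
  have := hS.epi_g
  let a' : L.obj X₁ ⟶ L.obj X₂ := φ₁.hom ≫ S.f ≫ φ₂.inv
  have ha' : Mono a' := mono_comp _ _
  obtain ⟨W, s, g, hs, hsg⟩ := SerreQuot.exists_right P L X₁ X₂ a'
  have hLs : IsIso (L.map s) := SerreQuot.isIso_map P L s hs
  have hmono : Mono (L.map g) := by rw [← hsg]; exact mono_comp _ _
  have hker : P (kernel g) := (ObjectProperty.SerreClassLocalization.mono_map_iff L P g).1 hmono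
  let c := cokernel.π g
  -- `L.map c` is a cokernel of `L.map g`
  have hex : (ShortComplex.mk (L.map g) (L.map c) (by
      rw [← L.map_comp, cokernel.condition, L.map_zero])).Exact :=
    (ShortComplex.exact_cokernel g).map L
  have hepi : Epi (L.map c) := inferInstance
  have hc : IsColimit (CokernelCofork.ofπ (L.map c) (by
      rw [← L.map_comp, cokernel.condition, L.map_zero] : L.map g ≫ L.map c = 0)) :=
    hex.gIsCokernel
  let b' : L.obj X₂ ⟶ S.X₃ := φ₂.hom ≫ S.g
  have w : L.map g ≫ b' = 0 := by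
    rw [← hsg]
    simp [a', b']
  have w' : S.f ≫ φ₂.inv ≫ L.map c = 0 := by
    have h0 : L.map g ≫ L.map c = 0 := by rw [← L.map_comp, cokernel.condition, L.map_zero]
    rw [← hsg] at h0
    have : Epi (L.map s ≫ φ₁.hom) := epi_comp _ _
    rw [← cancel_epi (L.map s ≫ φ₁.hom), comp_zero]
    simpa [a'] using h0
  obtain ⟨u, hu⟩ : ∃ u : L.obj (cokernel g) ⟶ S.X₃, L.map c ≫ u = b' :=
    ⟨_, (CokernelCofork.IsColimit.desc' hc b' w).2⟩
  obtain ⟨v, hv⟩ : ∃ v : S.X₃ ⟶ L.obj (cokernel g), S.g ≫ v = φ₂.inv ≫ L.map c :=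
    ⟨_, (CokernelCofork.IsColimit.desc' hS.gIsCokernel (φ₂.inv ≫ L.map c) w').2⟩
  have huv : u ≫ v = 𝟙 _ := by
    rw [← cancel_epi (L.map c), reassoc_of% hu, Category.comp_id]
    simp [b', hv]
  have hvu : v ≫ u = 𝟙 _ := by
    rw [← cancel_epi S.g, reassoc_of% hv, Category.comp_id, hu]
    simp [b']
  let ψ : L.obj (cokernel g) ≅ L.obj X₃ := ⟨u, v, huv, hvu⟩ ≪≫ φ₃.symm
  have h1 : cl (cokernel g) - cl X₃ ∈ (ι P).range := sub_mem_range_of_iso P L ψ
  have h2 : cl X₁ - cl W ∈ (ι P).range := sub_mem_range_of_isoModSerre P s hs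
  have h3 : cl (kernel g) ∈ (ι P).range := cl_mem_range P hker
  have e1 : cl X₂ = cl (Abelian.image g) + cl (cokernel g) := cl_im_coker g
  have e2 : cl W = cl (kernel g) + cl (Abelian.image g) := cl_ker_im g
  have : cl X₂ - cl X₁ - cl X₃ =
      (cl (cokernel g) - cl X₃) - (cl X₁ - cl W) - cl (kernel g) := by
    rw [e1, e2]; abel
  rw [this]
  exact (ι P).range.sub_mem ((ι P).range.sub_mem h1 h2) h3

/-- a chosen preimage. -/
noncomputable def pre (Z : Q) : A :=
  ((Localization.essSurj L P.isoModSerre).mem_essImage Z).witness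

/-- the chosen preimage is a preimage. -/
noncomputable def preIso (Z : Q) : L.obj (pre P L Z) ≅ Z :=
  ((Localization.essSurj L P.isoModSerre).mem_essImage Z).getIso

/-- the inverse map modulo the range of `ι`. -/
noncomputable def μ : K0 Q →+ K0 A ⧸ (ι P).range :=
  K0lift (fun Z => QuotientAddGroup.mk (cl (pre P L Z))) (fun S hS => by
    rw [← QuotientAddGroup.mk_add, eq_comm, QuotientAddGroup.eq]
    have := sub_mem_range_of_ses P L S hS _ _ _ (preIso P L S.X₁) (preIso P L S.X₂)
      (preIso P L S.X₃)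
    convert this using 1
    abel)

lemma μ_lam (y : K0 A) : μ P L (lam L y) = QuotientAddGroup.mk y := by
  obtain ⟨X, Y, rfl⟩ := exists_cl_sub y
  have key : ∀ X : A, μ P L (lam L (cl X)) = QuotientAddGroup.mk (cl X) := fun X => by
    rw [lam_cl]
    unfold μ
    rw [K0lift_cl, QuotientAddGroup.eq]
    have := sub_mem_range_of_iso P L (preIso P L (L.obj X))
    convert (ι P).range.neg_mem this using 1
    abel
  rw [map_sub, map_sub, key, key, QuotientAddGroup.mk_sub]

lemma ker_eq_range : (lam L).ker = (ι P).range := by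
  apply le_antisymm
  · intro y hy
    have := μ_lam P L y
    rw [AddMonoidHom.mem_ker.1 hy, map_zero] at this
    exact (QuotientAddGroup.eq_zero_iff y).1 this.symm
  · exact range_le_ker P L

end Main

end Groth.Agent.Lib.Helper11.K0Serre
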