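import Groth.Prelude.Def_KZero
import Mathlib
import Groth.Agent.Lib.Helper11.K0SerreA

set_option autoImplicit false
set_option linter.unusedSectionVars false
universe v v' u u'
open CategoryTheory CategoryTheory.Limits KZero ZeroObject

namespace Groth.Agent.Lib.Helper11.K0Serre

section Heller
variable {C : Type u} [Category.{v} C] [Abelian C]

lemma shortExact_biprod {S S' : ShortComplex C} (hS : S.ShortExact) (hS' : S'.ShortExact) :
    (ShortComplex.mk (biprod.map S.f S'.f) (biprod.map S.g S'.g) (by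
      ext <;> simp)).ShortExact := by
  have := hS.mono_f
  have := hS.epi_g
  have := hS'.mono_f
  have := hS'.epi_g
  refine { exact := ?_, mono_f := inferInstanceAs (Mono (biprod.map S.f S'.f)),
           epi_g := inferInstanceAs (Epi (biprod.map S.g S'.g)) }
  rw [ShortComplex.exact_iff_exact_up_to_refinements]
  intro A₀ x hx
  dsimp at x hx
  have h1 : (x ≫ biprod.fst) ≫ S.g = 0 := by
    have := hx =≫ biprod.fst
    simpa using this
  have h2 : (x ≫ biprod.snd) ≫ S'.g = 0 := by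
    have := hx =≫ biprod.snd
    simpa using this
  obtain ⟨A₁, π₁, hπ₁, y₁, e₁⟩ := hS.exact.exact_up_to_refinements _ h1
  obtain ⟨A₂, π₂, hπ₂, y₂, e₂⟩ := hS'.exact.exact_up_to_refinements (π₁ ≫ x ≫ biprod.snd) (by
    rw [Category.assoc, h2, comp_zero])
  refine ⟨A₂, π₂ ≫ π₁, epi_comp _ _, biprod.lift (π₂ ≫ y₁) y₂, ?_⟩
  dsimp
  ext
  · simp [← e₁]
  · simp [← e₂]

/-- trivial short exact sequence `X = X → 0`. -/
lemma shortExact_id (X : C) :
    (ShortComplex.mk (𝟙 X) (0 : X ⟶ (0 : C)) comp_zero).ShortExact :=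
  { exact := (ShortComplex.exact_iff_epi _ rfl).2 (inferInstanceAs (Epi (𝟙 X)))
    mono_f := inferInstanceAs (Mono (𝟙 X))
    epi_g := ⟨fun _ _ _ => (isZero_zero C).eq_of_src _ _⟩ }

/-- The Heller relation. -/
def Hel (X Y : C) : Prop :=
  ∃ (T U V W W' V' : C) (k : W ⟶ T) (β : T ⟶ V) (k' : W' ⟶ T) (β' : T ⟶ V')
    (w : k ≫ β = 0) (w' : k' ≫ β' = 0),
    (ShortComplex.mk k β w).ShortExact ∧ (ShortComplex.mk k' β' w').ShortExact ∧
    Nonempty (X ⊞ U ≅ W) ∧ Nonempty (Y ⊞ U ≅ W') ∧ Nonempty (V ≅ V')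

lemma Hel.symm {X Y : C} (h : Hel X Y) : Hel Y X := by
  obtain ⟨T, U, V, W, W', V', k, β, k', β', w, w', h1, h2, e, e', ⟨v⟩⟩ := h
  exact ⟨T, U, V', W', W, V, k', β', k, β, w', w, h2, h1, e', e, ⟨v.symm⟩⟩

lemma Hel.of_iso {X Y : C} (e : X ≅ Y) : Hel X Y :=
  ⟨Y, 0, 0, Y, Y, 0, 𝟙 Y, 0, 𝟙 Y, 0, comp_zero, comp_zero, shortExact_id Y, shortExact_id Y,
    ⟨biprod.mapIso e (Iso.refl 0) ≪≫ (isoBiprodZero (isZero_zero C)).symm⟩,
    ⟨(isoBiprodZero (isZero_zero C)).symm⟩, ⟨Iso.refl _⟩⟩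

lemma Hel.refl (X : C) : Hel X X := Hel.of_iso (Iso.refl X)

/-- `(A ⊞ B) ⊞ D ≅ (A ⊞ D) ⊞ B`. -/
noncomputable def reorder₁ (A B D : C) : (A ⊞ B) ⊞ D ≅ (A ⊞ D) ⊞ B where
  hom := biprod.lift (biprod.lift (biprod.fst ≫ biprod.fst) biprod.snd) (biprod.fst ≫ biprod.snd)
  inv := biprod.lift (biprod.lift (biprod.fst ≫ biprod.fst) biprod.snd) (biprod.fst ≫ biprod.snd)
  hom_inv_id := by ext <;> simp
  inv_hom_id := by ext <;> simp

/-- `Z ⊞ (U ⊞ (Y ⊞ U₂)) ≅ (Y ⊞ U) ⊞ (Z ⊞ U₂)`. -/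
noncomputable def reorder₂ (Z U Y U₂ : C) : Z ⊞ (U ⊞ (Y ⊞ U₂)) ≅ (Y ⊞ U) ⊞ (Z ⊞ U₂) where
  hom := biprod.lift (biprod.lift (biprod.snd ≫ biprod.snd ≫ biprod.fst) (biprod.snd ≫ biprod.fst))
    (biprod.lift biprod.fst (biprod.snd ≫ biprod.snd ≫ biprod.snd))
  inv := biprod.lift (biprod.snd ≫ biprod.fst) (biprod.lift (biprod.fst ≫ biprod.snd)
    (biprod.lift (biprod.fst ≫ biprod.fst) (biprod.snd ≫ biprod.snd)))
  hom_inv_id := by ext <;> simp
  inv_hom_id := by ext <;> simp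

/-- `X ⊞ (c ⊞ U) ≅ (c ⊞ X) ⊞ U`. -/
noncomputable def reorder₃ (X c U : C) : X ⊞ (c ⊞ U) ≅ (c ⊞ X) ⊞ U where
  hom := biprod.lift (biprod.lift (biprod.snd ≫ biprod.fst) biprod.fst) (biprod.snd ≫ biprod.snd)
  inv := biprod.lift (biprod.fst ≫ biprod.snd) (biprod.lift (biprod.fst ≫ biprod.fst) biprod.snd)
  hom_inv_id := by ext <;> simp
  inv_hom_id := by ext <;> simp

lemma Hel.add_right {X Y : C} (h : Hel X Y) (Z : C) : Hel (X ⊞ Z) (Y ⊞ Z) := by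
  obtain ⟨T, U, V, W, W', V', k, β, k', β', w, w', h1, h2, ⟨e⟩, ⟨e'⟩, ⟨v⟩⟩ := h
  exact ⟨T ⊞ Z, U, V ⊞ 0, W ⊞ Z, W' ⊞ Z, V' ⊞ 0, biprod.map k (𝟙 Z), biprod.map β 0,
    biprod.map k' (𝟙 Z), biprod.map β' 0, _, _,
    shortExact_biprod h1 (shortExact_id Z), shortExact_biprod h2 (shortExact_id Z),
    ⟨reorder₁ X Z U ≪≫ biprod.mapIso e (Iso.refl Z)⟩,
    ⟨reorder₁ Y Z U ≪≫ biprod.mapIso e' (Iso.refl Z)⟩, ⟨biprod.mapIso v (Iso.refl 0)⟩⟩

lemma Hel.trans {X Y Z : C} (h : Hel X Y) (h' : Hel Y Z) : Hel X Z := by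
  obtain ⟨T, U, V, W, W', V', k, β, k', β', w, w', h1, h2, ⟨e⟩, ⟨e'⟩, ⟨v⟩⟩ := h
  obtain ⟨T₂, U₂, V₂, W₂, W₂', V₂', k₂, β₂, k₂', β₂', w₂, w₂', h3, h4, ⟨e₂⟩, ⟨e₂'⟩, ⟨v₂⟩⟩ := h'
  exact ⟨T ⊞ T₂, U ⊞ (Y ⊞ U₂), V ⊞ V₂, W ⊞ W₂, W' ⊞ W₂', V' ⊞ V₂', biprod.map k k₂,
    biprod.map β β₂, biprod.map k' k₂', biprod.map β' β₂', _, _,
    shortExact_biprod h1 h3, shortExact_biprod h2 h4,
    ⟨(biprod.associator X U (Y ⊞ U₂)).symm ≪≫ biprod.mapIso e e₂⟩,
    ⟨reorder₂ Z U Y U₂ ≪≫ biprod.mapIso e' e₂'⟩, ⟨biprod.mapIso v v₂⟩⟩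

lemma Hel.of_shortExact {S : ShortComplex C} (hS : S.ShortExact) : Hel S.X₂ (S.X₁ ⊞ S.X₃) :=
  ⟨S.X₂ ⊞ (S.X₁ ⊞ S.X₃), S.X₁, 0 ⊞ S.X₃, S.X₂ ⊞ S.X₁, S.X₁ ⊞ (S.X₁ ⊞ S.X₃), S.X₃ ⊞ 0,
    biprod.map (𝟙 S.X₂) biprod.inl, biprod.map 0 biprod.snd,
    biprod.map S.f (𝟙 _), biprod.map S.g 0, _, _,
    shortExact_biprod (shortExact_id S.X₂)
      (ShortComplex.Splitting.ofHasBinaryBiproduct S.X₁ S.X₃).shortExact,
    shortExact_biprod hS (shortExact_id (S.X₁ ⊞ S.X₃)),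
    ⟨Iso.refl _⟩, ⟨biprod.braiding _ _⟩, ⟨biprod.braiding _ _⟩⟩

lemma Hel.cancel {c X Y : C} (h : Hel (c ⊞ X) (c ⊞ Y)) : Hel X Y := by
  obtain ⟨T, U, V, W, W', V', k, β, k', β', w, w', h1, h2, ⟨e⟩, ⟨e'⟩, ⟨v⟩⟩ := h
  exact ⟨T, c ⊞ U, V, W, W', V', k, β, k', β', w, w', h1, h2,
    ⟨reorder₃ X c U ≪≫ e⟩, ⟨reorder₃ Y c U ≪≫ e'⟩, ⟨v⟩⟩

lemma Hel.add {X X' Y Y' : C} (h : Hel X Y) (h' : Hel X' Y') : Hel (X ⊞ X') (Y ⊞ Y') :=
  (h.add_right X').trans ((Hel.of_iso (biprod.braiding _ _)).trans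
    ((h'.add_right Y).trans (Hel.of_iso (biprod.braiding _ _))))

variable (C) in
/-- the Heller setoid. -/
def helSetoid : Setoid C := ⟨Hel, Hel.refl, Hel.symm, Hel.trans⟩

variable (C) in
/-- objects modulo the Heller relation. -/
def HM : Type u := Quotient (helSetoid C)

/-- the class of an object. -/
def HM.mk (X : C) : HM C := Quotient.mk (helSetoid C) X

lemma HM.sound {X Y : C} (h : Hel X Y) : HM.mk X = HM.mk Y := Quotient.sound h
lemma HM.exact {X Y : C} (h : HM.mk X = HM.mk Y) : Hel X Y := Quotient.exact h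

noncomputable instance : Zero (HM C) := ⟨HM.mk 0⟩

/-- addition on `HM`. -/
noncomputable def HM.add : HM C → HM C → HM C :=
  Quotient.lift₂ (s₁ := helSetoid C) (s₂ := helSetoid C) (fun X Y => HM.mk (X ⊞ Y))
    (fun _ _ _ _ h h' => HM.sound (Hel.add h h'))

noncomputable instance : Add (HM C) := ⟨HM.add⟩

lemma HM.ind {p : HM C → Prop} (h : ∀ X, p (HM.mk X)) (x : HM C) : p x :=
  Quotient.inductionOn (s := helSetoid C) x h

noncomputable instance : AddCommMonoid (HM C) where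
  add_assoc := by
    intro x y z
    induction x using HM.ind with | h X => ?_
    induction y using HM.ind with | h Y => ?_
    induction z using HM.ind with | h Z => ?_
    exact HM.sound (Hel.of_iso (biprod.associator X Y Z))
  zero_add := by
    intro x
    induction x using HM.ind with | h X => ?_
    exact HM.sound (Hel.of_iso (isoZeroBiprod (isZero_zero C)).symm)
  add_zero := by
    intro x
    induction x using HM.ind with | h X => ?_
    exact HM.sound (Hel.of_iso (isoBiprodZero (isZero_zero C)).symm)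
  add_comm := by
    intro x y
    induction x using HM.ind with | h X => ?_
    induction y using HM.ind with | h Y => ?_
    exact HM.sound (Hel.of_iso (biprod.braiding X Y))
  nsmul := nsmulRec

lemma HM.mk_add (X Y : C) : HM.mk X + HM.mk Y = HM.mk (X ⊞ Y) := rfl

/-- the comparison map to the Grothendieck group of `HM`. -/
noncomputable def Φ : K0 C →+ Algebra.GrothendieckAddGroup (HM C) :=
  K0lift (fun X => Algebra.GrothendieckAddGroup.of (HM.mk X)) (fun S hS => by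
    rw [← map_add, HM.mk_add]
    exact congrArg _ (HM.sound (Hel.of_shortExact hS)))

lemma hel_of_cl_eq {X Y : C} (h : cl X = cl Y) : Hel X Y := by
  have h' := congrArg Φ h
  unfold Φ at h'
  rw [K0lift_cl, K0lift_cl] at h'
  obtain ⟨⟨c, _⟩, hc⟩ := (AddSubmonoid.LocalizationMap.eq_iff_exists _).1 h'
  induction c using HM.ind with
  | h c => exact Hel.cancel (HM.exact hc)

/-- the twisted endomorphism `(t,u,v) ↦ (p u, 0, q t)` of `T ⊞ (U ⊞ V)`. -/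
noncomputable def tw {T U V : C} (p : U ⟶ T) (q : T ⟶ V) : T ⊞ (U ⊞ V) ⟶ T ⊞ (U ⊞ V) :=
  biprod.lift (biprod.snd ≫ biprod.fst ≫ p) (biprod.fst ≫ q ≫ biprod.inr)

lemma tw_comp {T U V : C} (p p' : U ⟶ T) (q q' : T ⟶ V) (h : p ≫ q' = 0) :
    tw p q ≫ tw p' q' = 0 := by
  unfold tw
  ext <;> simp [reassoc_of% h]

/-- the key homology computation. -/
lemma homology_tw {X U T V : C} (a : X ⊞ U ⟶ T) (β : T ⟶ V) (w : a ≫ β = 0)
    (hS : (ShortComplex.mk a β w).ShortExact) (α' : U ⟶ T) [Mono α'] (β'' : T ⟶ V) [Epi β'']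
    (h₁ : tw (biprod.inr ≫ a) β'' ≫ tw α' β = 0) :
    Nonempty ((ShortComplex.mk (tw (biprod.inr ≫ a) β'') (tw α' β) h₁).homology ≅ X) := by
  have := hS.mono_f
  have := hS.epi_g
  dsimp at this
  have ma : Mono a := hS.mono_f
  let S := ShortComplex.mk (tw (biprod.inr ≫ a) β'') (tw α' β) h₁
  let i : (X ⊞ U) ⊞ V ⟶ T ⊞ (U ⊞ V) := biprod.map a biprod.inr
  have wi : i ≫ S.g = 0 := by
    dsimp [S, i, tw]
    ext <;> simp [reassoc_of% w]
  have mi : Mono i := inferInstanceAs (Mono (biprod.map a biprod.inr))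
  let hi : IsLimit (KernelFork.ofι i wi) := KernelFork.IsLimit.ofι' i wi (fun {A₀} k hk => by
    have hk1 : (k ≫ biprod.fst) ≫ β = 0 := by
      have := (hk =≫ biprod.snd) =≫ biprod.snd
      simpa [S, tw] using this
    have hk2 : k ≫ biprod.snd ≫ biprod.fst = 0 := by
      have := hk =≫ biprod.fst
      simp only [S, tw, zero_comp, ← Category.assoc] at this
      rw [← cancel_mono α']
      simpa using this
    refine ⟨biprod.lift (hS.exact.lift (k ≫ biprod.fst) hk1) (k ≫ biprod.snd ≫ biprod.snd), ?_⟩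
    dsimp [i]
    ext
    · simp
      exact hS.exact.lift_f (k ≫ biprod.fst) hk1
    · simp [hk2]
    · simp)
  let f'e : T ⊞ (U ⊞ V) ⟶ (X ⊞ U) ⊞ V :=
    biprod.lift (biprod.snd ≫ biprod.fst ≫ biprod.inr) (biprod.fst ≫ β'')
  have hf' : hi.lift (KernelFork.ofι S.f S.zero) = f'e := by
    rw [← cancel_mono i]
    have := Fork.IsLimit.lift_ι hi (t := KernelFork.ofι S.f S.zero)
    rw [Fork.ι_ofι] at this
    rw [this]
    dsimp [S, f'e, i, tw]
    ext <;> simp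
  let π : (X ⊞ U) ⊞ V ⟶ X := biprod.fst ≫ biprod.fst
  have wπ : hi.lift (KernelFork.ofι S.f S.zero) ≫ π = 0 := by
    rw [hf']
    dsimp [f'e, π]
    simp
  have eπ : Epi π := epi_comp _ _
  let hπ : IsColimit (CokernelCofork.ofπ π wπ) := CokernelCofork.IsColimit.ofπ' π wπ
    (fun {A₀} k hk => by
      rw [hf'] at hk
      have hk1 : (biprod.inr ≫ biprod.inl : U ⟶ (X ⊞ U) ⊞ V) ≫ k = 0 := by
        have := (biprod.inl ≫ biprod.inr : U ⟶ T ⊞ (U ⊞ V)) ≫= hk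
        have e : (biprod.inl ≫ biprod.inr : U ⟶ T ⊞ (U ⊞ V)) ≫ f'e = biprod.inr ≫ biprod.inl := by
          dsimp [f'e]
          ext <;> simp
        rw [← Category.assoc, e] at this
        simpa using this
      have hk2 : biprod.inr ≫ k = 0 := by
        have := (biprod.inl : T ⟶ T ⊞ (U ⊞ V)) ≫= hk
        have e : (biprod.inl : T ⟶ T ⊞ (U ⊞ V)) ≫ f'e = β'' ≫ biprod.inr := by
          dsimp [f'e]
          ext <;> simp
        rw [← Category.assoc, e, comp_zero, Category.assoc] at this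
        exact (cancel_epi β'').1 (by rw [this, comp_zero])
      refine ⟨biprod.inl ≫ biprod.inl ≫ k, ?_⟩
      dsimp [π]
      ext
      · simp
      · simp
        rw [← Category.assoc, hk1]
      · simp [hk2])
  let h : S.LeftHomologyData :=
    { K := (X ⊞ U) ⊞ V, H := X, i := i, π := π, wi := wi, hi := hi, wπ := wπ, hπ := hπ }
  exact ⟨h.homologyIso⟩

lemma exists_periodic_of_hel {C₁ C₂ : C} (h : Hel C₁ C₂) :
    ∃ (M : C) (φ ψ : M ⟶ M) (h₁ : φ ≫ ψ = 0) (h₂ : ψ ≫ φ = 0),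
      Nonempty ((ShortComplex.mk φ ψ h₁).homology ≅ C₁) ∧
      Nonempty ((ShortComplex.mk ψ φ h₂).homology ≅ C₂) := by
  obtain ⟨T, U, V, W, W', V', k, β, k', β', w, w', h1, h2, ⟨e⟩, ⟨e'⟩, ⟨v⟩⟩ := h
  let a : C₁ ⊞ U ⟶ T := e.hom ≫ k
  let a' : C₂ ⊞ U ⟶ T := e'.hom ≫ k'
  let β'' : T ⟶ V := β' ≫ v.inv
  have wa : a ≫ β = 0 := by simp [a, w]
  have wa' : a' ≫ β'' = 0 := by simp [a', β'', reassoc_of% w']
  have hS : (ShortComplex.mk a β wa).ShortExact :=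
    ShortComplex.shortExact_of_iso
      (show ShortComplex.mk k β w ≅ ShortComplex.mk a β wa from
        ShortComplex.isoMk e.symm (Iso.refl _) (Iso.refl _) (by simp [a]) (by simp)) h1
  have hS' : (ShortComplex.mk a' β'' wa').ShortExact :=
    ShortComplex.shortExact_of_iso
      (show ShortComplex.mk k' β' w' ≅ ShortComplex.mk a' β'' wa' from
        ShortComplex.isoMk e'.symm (Iso.refl _) v.symm (by simp [a']) (by simp [β''])) h2
  have ma : Mono a := hS.mono_f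
  have ma' : Mono a' := hS'.mono_f
  have eb : Epi β := hS.epi_g
  have eb' : Epi β'' := hS'.epi_g
  have h₁ : tw (biprod.inr ≫ a) β'' ≫ tw (biprod.inr ≫ a') β = 0 :=
    tw_comp _ _ _ _ (by simp [wa])
  have h₂ : tw (biprod.inr ≫ a') β ≫ tw (biprod.inr ≫ a) β'' = 0 :=
    tw_comp _ _ _ _ (by simp [wa'])
  exact ⟨_, _, _, h₁, h₂, homology_tw a β wa hS (biprod.inr ≫ a') β'' h₁,
    homology_tw a' β'' wa' hS' (biprod.inr ≫ a) β h₂⟩

end Heller

section Final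
variable {A : Type u} [Category.{v} A] [Abelian A] (P : ObjectProperty A) [P.IsSerreClass]
  {Q : Type u'} [Category.{v'} Q] [Abelian Q]
  (L : A ⥤ Q) [L.IsLocalization P.isoModSerre] [L.Additive] [PreservesFiniteLimits L]
  [PreservesFiniteColimits L]

theorem main :
    ∃ (ι : KZero.K0sub P →+ KZero.K0 A) (lam : KZero.K0 A →+ KZero.K0 Q),
      (∀ X : A, P X → ι (KZero.clSub P X) = KZero.cl X) ∧
      (∀ X : A, lam (KZero.cl X) = KZero.cl (L.obj X)) ∧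
      Function.Surjective lam ∧ lam.ker = ι.range ∧
      ∀ x : KZero.K0sub P, ι x = 0 ↔
        ∃ (M : A) (φ ψ : M ⟶ M) (h₁ : φ ≫ ψ = 0) (h₂ : ψ ≫ φ = 0),
          P (ShortComplex.mk φ ψ h₁).homology ∧ P (ShortComplex.mk ψ φ h₂).homology ∧
          x = KZero.clSub P (ShortComplex.mk φ ψ h₁).homology -
            KZero.clSub P (ShortComplex.mk ψ φ h₂).homology := by
  refine ⟨ι P, lam L, fun X hX => ι_clSub P hX, lam_cl L, lam_surjective P L, ker_eq_range P L,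
    fun x => ⟨fun hx => ?_, ?_⟩⟩
  · obtain ⟨C₁, C₂, hC₁, hC₂, rfl⟩ := exists_clSub_sub P x
    rw [map_sub, ι_clSub _ hC₁, ι_clSub _ hC₂, sub_eq_zero] at hx
    obtain ⟨M, φ, ψ, h₁, h₂, ⟨e₁⟩, ⟨e₂⟩⟩ := exists_periodic_of_hel (hel_of_cl_eq hx)
    refine ⟨M, φ, ψ, h₁, h₂, P.prop_of_iso e₁.symm hC₁, P.prop_of_iso e₂.symm hC₂, ?_⟩
    rw [clSub_iso P e₁.symm hC₁, clSub_iso P e₂.symm hC₂]
  · rintro ⟨M, φ, ψ, h₁, h₂, p₁, p₂, rfl⟩
    rw [map_sub, ι_clSub _ p₁, ι_clSub _ p₂, sub_eq_zero]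
    exact cl_homology_periodic φ ψ h₁ h₂

end Final

end Groth.Agent.Lib.Helper11.K0Serre
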