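import Mathlib

/-!
# Nagata's trick with a flexible base (helper11)

Adapted from `Mathlib/RingTheory/NoetherNormalization.lean` (whose key lemmas are private), with
the base `b` of the exponents `b ^ i` a parameter (`f.totalDegree + 2 ≤ b`), so that the exponents
can be taken divisible by a given prime.
-/

set_option autoImplicit false

open Polynomial MvPolynomial Ideal Nat RingHom List

namespace Groth.Agent.Lib.Helper11.Ked

variable {k : Type*} [Field k] {n : ℕ} (b : ℕ) (f : MvPolynomial (Fin (n + 1)) k)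
variable (v w : Fin (n + 1) →₀ ℕ)

/-- `X_i ↦ X_i + c • X_0 ^ (b ^ i)` for `i ≠ 0`, `X_0 ↦ X_0`. -/
noncomputable abbrev T1 (c : k) :
    MvPolynomial (Fin (n + 1)) k →ₐ[k] MvPolynomial (Fin (n + 1)) k :=
  aeval fun i ↦ if i = 0 then X 0 else X i + c • X 0 ^ (b ^ i.1)

variable {b}

lemma sum_r_mul_ne (hb : 1 < b) (vlt : ∀ i, v i < b) (wlt : ∀ i, w i < b) (ne : v ≠ w) :
    ∑ x : Fin (n + 1), b ^ x.1 * v x ≠ ∑ x : Fin (n + 1), b ^ x.1 * w x := by
  intro h
  refine ne <| Finsupp.ext <| congrFun <| ofFn_inj.mp ?_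
  apply ofDigits_inj_of_len_eq hb (by simp)
    (fun l hl => by obtain ⟨i, rfl⟩ := (List.mem_ofFn' _ _).mp hl; exact vlt i)
    (fun l hl => by obtain ⟨i, rfl⟩ := (List.mem_ofFn' _ _).mp hl; exact wlt i)
  simpa only [ofDigits_eq_sum_mapIdx, mapIdx_eq_ofFn, get_ofFn, length_ofFn,
    Fin.val_cast, mul_comm, sum_ofFn] using! h

lemma degreeOf_zero_t (hb1 : 1 < b) {a : k} (ha : a ≠ 0) : ((T1 b 1) (monomial v a)).degreeOf 0 =
    ∑ i : Fin (n + 1), (b ^ i.1) * v i := by
  rw [← natDegree_finSuccEquiv, monomial_eq, Finsupp.prod_pow v fun a ↦ X a]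
  simp only [Fin.prod_univ_succ, Fin.sum_univ_succ, map_mul, map_prod, map_pow,
    MvPolynomial.aeval_C, MvPolynomial.aeval_X, if_pos, Fin.succ_ne_zero,
    ite_false, one_smul, map_add, finSuccEquiv_X_zero, finSuccEquiv_X_succ, algebraMap_eq]
  have hpos (i : Fin n) : 0 < b ^ (i.succ : Fin (n + 1)).1 := pow_pos (by omega) _
  have h (i : Fin n) :
      (Polynomial.C (X (R := k) i) + Polynomial.X ^ (b ^ (i.succ : Fin (n + 1)).1)) ^ v i.succ ≠ 0 :=
    pow_ne_zero (v i.succ) (leadingCoeff_ne_zero.mp <| by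
      rw [add_comm, leadingCoeff_X_pow_add_C (hpos i)]; exact one_ne_zero)
  rw [natDegree_mul (by simp [ha]) (mul_ne_zero (by simp) (Finset.prod_ne_zero_iff.mpr
    (fun i _ ↦ h i))), natDegree_mul (by simp) (Finset.prod_ne_zero_iff.mpr (fun i _ ↦ h i)),
    natDegree_prod _ _ (fun i _ ↦ h i), natDegree_finSuccEquiv, degreeOf_C]
  simpa only [natDegree_pow, zero_add, natDegree_X, mul_one, Fin.val_zero, pow_zero, one_mul,
    add_right_inj] using Finset.sum_congr rfl (fun i _ ↦ by
    rw [add_comm (Polynomial.C _), natDegree_X_pow_add_C, mul_comm])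

lemma degreeOf_t_ne_of_ne (hb : f.totalDegree + 2 ≤ b) (hv : v ∈ f.support) (hw : w ∈ f.support)
    (ne : v ≠ w) :
    (T1 b 1 <| monomial v <| coeff v f).degreeOf 0 ≠
    (T1 b 1 <| monomial w <| coeff w f).degreeOf 0 := by
  rw [degreeOf_zero_t _ (by omega) <| mem_support_iff.mp hv,
    degreeOf_zero_t _ (by omega) <| mem_support_iff.mp hw]
  refine sum_r_mul_ne v w (by omega) (fun i ↦ ?_) (fun i ↦ ?_) ne <;>
  exact lt_of_le_of_lt ((monomial_le_degreeOf i ‹_›).trans (degreeOf_le_totalDegree f i))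
    (by omega)

lemma leadingCoeff_finSuccEquiv_t (hb1 : 1 < b) :
    (finSuccEquiv k n ((T1 b 1) ((monomial v) (coeff v f)))).leadingCoeff =
    algebraMap k _ (coeff v f) := by
  rw [monomial_eq, Finsupp.prod_fintype]
  · simp only [map_mul, map_prod, leadingCoeff_mul, leadingCoeff_prod]
    rw [algHom_C, algebraMap_eq, finSuccEquiv_apply,
      eval₂Hom_C, coe_comp]
    simp only [Function.comp_apply, leadingCoeff_C, map_pow,
      leadingCoeff_pow, algebraMap_eq]
    have : ∀ j, ((finSuccEquiv k n) ((T1 b 1) (X j))).leadingCoeff = 1 := fun j ↦ by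
      by_cases h : j = 0
      · simp [h, finSuccEquiv_apply]
      · simp only [aeval_eq_bind₁, bind₁_X_right, if_neg h, one_smul, map_add, map_pow]
        obtain ⟨i, rfl⟩ := Fin.exists_succ_eq.mpr h
        have hpos : 0 < b ^ (i.1 + 1) := pow_pos (by omega) _
        simp only [finSuccEquiv_X_succ, finSuccEquiv_X_zero, Fin.val_succ]
        rw [add_comm, leadingCoeff_X_pow_add_C hpos]
    simp only [this, one_pow, Finset.prod_const_one, mul_one]
  exact fun i ↦ pow_zero _

/-- `T1 b 1` maps `f` to a polynomial in `X_0` with invertible leading coefficient. -/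
theorem T_leadingcoeff_isUnit (fne : f ≠ 0) (hb : f.totalDegree + 2 ≤ b) :
    IsUnit (finSuccEquiv k n (T1 b 1 f)).leadingCoeff := by
  obtain ⟨v, vin, vs⟩ := Finset.exists_max_image f.support
    (fun v ↦ (T1 b 1 ((monomial v) (coeff v f))).degreeOf 0) (support_nonempty.mpr fne)
  set h := fun w ↦ (MvPolynomial.monomial w) (coeff w f)
  simp only [← natDegree_finSuccEquiv] at vs
  replace vs : ∀ x ∈ f.support \ {v}, (finSuccEquiv k n ((T1 b 1) (h x))).degree <
      (finSuccEquiv k n ((T1 b 1) (h v))).degree := by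
    intro x hx
    obtain ⟨h1, h2⟩ := Finset.mem_sdiff.mp hx
    apply degree_lt_degree <| lt_of_le_of_ne (vs x h1) ?_
    simpa only [natDegree_finSuccEquiv]
      using degreeOf_t_ne_of_ne f _ _ hb h1 vin <| ne_of_not_mem_cons h2
  have h2 : (finSuccEquiv k n ((T1 b 1) (h v))) ≠ 0 := by
    intro h0
    have h3 := leadingCoeff_finSuccEquiv_t (b := b) f v (by omega)
    rw [h0, leadingCoeff_zero] at h3
    exact (mem_support_iff.mp vin) (by
      have : algebraMap k (MvPolynomial (Fin n) k) (coeff v f) = 0 := h3.symm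
      rwa [algebraMap_eq, map_eq_zero_iff _ (C_injective _ _)] at this)
  have coeff : (finSuccEquiv k n ((T1 b 1) (h v + ∑ x ∈ f.support \ {v}, h x))).leadingCoeff =
      (finSuccEquiv k n ((T1 b 1) (h v))).leadingCoeff := by
    simp only [map_add, map_sum]
    rw [add_comm]
    apply leadingCoeff_add_of_degree_lt <| (lt_of_le_of_lt <| degree_sum_le _ _) ?_
    exact (Finset.sup_lt_iff <| Ne.bot_lt (fun x ↦ h2 <| degree_eq_bot.mp x)).mpr vs
  have hf : f = h v + ∑ x ∈ f.support \ {v}, h x := by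
    conv_lhs => rw [← f.support_sum_monomial_coeff]
    rw [Finset.sum_eq_add_sum_sdiff_singleton_of_mem vin h]
  rw [leadingCoeff_finSuccEquiv_t _ _ (by omega)] at coeff
  rw [hf]
  simpa only [coeff, algebraMap_eq] using (mem_support_iff.mp vin).isUnit.map MvPolynomial.C


/-- Nagata step: if `G(t) = 0`, then `t 0` is integral over the subalgebra generated by the
`t (i+1) - t 0 ^ (b ^ (i+1))`. -/
theorem isIntegral_of_aeval_eq_zero {C : Type*} [CommRing C] [Algebra k C]
    (G : MvPolynomial (Fin (n + 1)) k) (hG : G ≠ 0) (hb : G.totalDegree + 2 ≤ b)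
    (t : Fin (n + 1) → C) (ht : aeval t G = 0) :
    IsIntegral (Algebra.adjoin k (Set.range fun i : Fin n => t i.succ - t 0 ^ (b ^ (i.1 + 1))))
      (t 0) := by
  set t' : Fin n → C := fun i => t i.succ - t 0 ^ (b ^ (i.1 + 1)) with ht'
  set f' : MvPolynomial (Fin n) k →ₐ[k] C := aeval t' with hf'
  let χ : (MvPolynomial (Fin n) k)[X] →ₐ[k] C :=
    ((Polynomial.aeval (t 0)).restrictScalars k).comp (Polynomial.mapAlgHom f')
  have hχ : ∀ g : (MvPolynomial (Fin n) k)[X], χ g = Polynomial.eval₂ f'.toRingHom (t 0) g := by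
    intro g
    change Polynomial.aeval (t 0) (Polynomial.map (f' : _ →+* C) g) = _
    rw [Polynomial.aeval_def, Polynomial.eval₂_map, Algebra.algebraMap_self, RingHom.id_comp]
    rfl
  have hcomp : (χ.comp (finSuccEquiv k n).toAlgHom).comp (T1 b 1) = MvPolynomial.aeval t := by
    apply MvPolynomial.algHom_ext
    intro j
    refine Fin.cases ?_ (fun i => ?_) j
    · simp [χ, finSuccEquiv_X_zero]
    · simp only [AlgHom.coe_comp, AlgEquiv.coe_toAlgHom, Function.comp_apply, MvPolynomial.aeval_X,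
        Fin.succ_ne_zero, if_false, one_smul, map_add, map_pow, finSuccEquiv_X_succ,
        finSuccEquiv_X_zero, Fin.val_succ]
      simp [χ, hf', ht']
  set g₀ := finSuccEquiv k n (T1 b 1 G) with hg₀
  have hχg₀ : χ g₀ = 0 := by
    have := congrArg (fun ψ : MvPolynomial (Fin (n + 1)) k →ₐ[k] C => ψ G) hcomp
    simpa [hg₀] using this.trans ht
  have u : IsUnit g₀.leadingCoeff := T_leadingcoeff_isUnit G hG hb
  have hmon : (u.unit⁻¹ • g₀).Monic := Polynomial.monic_of_isUnit_leadingCoeff_inv_smul u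
  set S := Algebra.adjoin k (Set.range t') with hS
  have hrange : ∀ x, f' x ∈ S := by
    intro x
    rw [hS, Algebra.adjoin_range_eq_range_aeval]
    exact ⟨x, rfl⟩
  let f'' : MvPolynomial (Fin n) k →+* S := f'.toRingHom.codRestrict S hrange
  refine ⟨(u.unit⁻¹ • g₀).map f'', hmon.map f'', ?_⟩
  rw [Polynomial.eval₂_map]
  have h1 : (algebraMap S C).comp f'' = f'.toRingHom := by
    ext x <;> rfl
  rw [h1, ← hχ, Units.smul_def, Polynomial.smul_eq_C_mul, map_mul, hχg₀, mul_zero]

end Groth.Agent.Lib.Helper11.Ked
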