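import Mathlib
import Groth.Agent.Lib.Helper11.KedA1

/-!
# Iterated Nagata normalisation with `p`-th power modifications (helper11)
-/

set_option autoImplicit false

namespace Groth.Agent.Lib.Helper11.Ked

open MvPolynomial

variable {k : Type*} [Field k] {C : Type*} [CommRing C] [Algebra k C]

/-- transitivity of integrality for subalgebras of `C` -/
theorem isIntegral_subalgebra_trans (S S' : Subalgebra k C) (h : ∀ s ∈ S, IsIntegral S' s) {c : C}
    (hc : IsIntegral S c) : IsIntegral S' c := by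
  obtain ⟨p, hp, hpc⟩ := hc
  let A' := integralClosure S' C
  let ι : S →+* A' := (S.val.toRingHom).codRestrict A' (fun s => h s.1 s.2)
  have h1 : IsIntegral A' c := by
    refine ⟨p.map ι, hp.map ι, ?_⟩
    rw [Polynomial.eval₂_map]
    have : (algebraMap A' C).comp ι = algebraMap S C := by
      ext s; rfl
    rw [this]
    exact hpc
  exact isIntegral_trans (R := S') (A := A') c h1

theorem isIntegral_of_mem_subalgebra (S : Subalgebra k C) {c : C} (hc : c ∈ S) : IsIntegral S c :=
  isIntegral_algebraMap (R := S) (A := C) (x := ⟨c, hc⟩)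

/-- integrality over a subalgebra passes to the generated subalgebra -/
theorem isIntegral_of_mem_adjoin (S' : Subalgebra k C) (T : Set C) (hT : ∀ t ∈ T, IsIntegral S' t)
    {c : C} (hc : c ∈ Algebra.adjoin k T) : IsIntegral S' c := by
  have hle : Algebra.adjoin k T ≤ (integralClosure S' C).restrictScalars k := by
    rw [Algebra.adjoin_le_iff]
    intro t ht
    exact hT t ht
  exact hle hc

/-- Every `n+1` elements are algebraically dependent. -/
def AlgDep (k : Type*) [Field k] (C : Type*) [CommRing C] [Algebra k C] (n : ℕ) : Prop :=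
  ∀ t : Fin (n + 1) → C, ∃ G : MvPolynomial (Fin (n + 1)) k, G ≠ 0 ∧ aeval t G = 0

variable {n : ℕ}

theorem D_pow_eq_zero (p : ℕ) (hpC : (p : C) = 0) (w : C) (e : ℕ) (he : p ∣ e) :
    KaehlerDifferential.D k C (w ^ e) = 0 := by
  obtain ⟨m, rfl⟩ := he
  rw [Derivation.leibniz_pow]
  have : ((p * m : ℕ) : C) = 0 := by push_cast; rw [hpC, zero_mul]
  rw [← Nat.cast_smul_eq_nsmul C, this, zero_smul]

theorem exists_modification (p : ℕ) (hp : 0 < p) (hpC : (p : C) = 0) (hdep : AlgDep k C n)
    (𝔞 : Ideal C) (ws : List C) (hws : ∀ w ∈ ws, w ∈ 𝔞) (x : Fin n → C) :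
    ∃ x' : Fin n → C, (∀ i, x' i - x i ∈ 𝔞 ∧ KaehlerDifferential.D k C (x' i - x i) = 0) ∧
      ∀ c ∈ Algebra.adjoin k (Set.range x ∪ {w | w ∈ ws}),
        IsIntegral (Algebra.adjoin k (Set.range x')) c := by
  induction ws generalizing x with
  | nil =>
    refine ⟨x, fun i => by simp, fun c hc => ?_⟩
    apply isIntegral_of_mem_subalgebra
    simpa using hc
  | cons w ws ih =>
    have hw : w ∈ 𝔞 := hws w (List.mem_cons_self ..)
    obtain ⟨G, hG, hGt⟩ := hdep (Fin.cons w x)
    set b := p * (G.totalDegree + 2) with hb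
    have hb' : G.totalDegree + 2 ≤ b := by
      rw [hb]; exact Nat.le_mul_of_pos_left _ hp
    have hint := isIntegral_of_aeval_eq_zero (b := b) G hG hb' (Fin.cons w x) hGt
    simp only [Fin.cons_succ, Fin.cons_zero] at hint
    set x₁ : Fin n → C := fun i => x i - w ^ (b ^ (i.1 + 1)) with hx₁
    obtain ⟨x', hx'1, hx'2⟩ := ih (fun v hv => hws v (List.mem_cons_of_mem _ hv)) x₁
    have hpb : ∀ i : Fin n, p ∣ b ^ (i.1 + 1) := fun i =>
      Dvd.dvd.pow (Dvd.intro _ rfl) (Nat.succ_ne_zero _)
    refine ⟨x', fun i => ?_, fun c hc => ?_⟩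
    · have h1 : x' i - x i = (x' i - x₁ i) - w ^ (b ^ (i.1 + 1)) := by
        simp only [hx₁]; ring
      rw [h1]
      refine ⟨𝔞.sub_mem (hx'1 i).1 (𝔞.pow_mem_of_mem hw _ (pow_pos (by positivity) _)), ?_⟩
      rw [map_sub, (hx'1 i).2, D_pow_eq_zero p hpC w _ (hpb i), sub_zero]
    · -- all generators are integral over `adjoin k (range x')`
      have hS₁ : ∀ s ∈ Algebra.adjoin k (Set.range x₁), IsIntegral (Algebra.adjoin k (Set.range x')) s :=
        fun s hs => hx'2 s (Algebra.adjoin_mono Set.subset_union_left hs)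
      have hwint : IsIntegral (Algebra.adjoin k (Set.range x')) w :=
        isIntegral_subalgebra_trans _ _ hS₁ hint
      refine isIntegral_of_mem_adjoin _ _ ?_ hc
      rintro t (⟨i, rfl⟩ | ht)
      · have h2 : x i = x₁ i + w ^ (b ^ (i.1 + 1)) := by simp only [hx₁]; ring
        rw [h2]
        refine IsIntegral.add ?_ (hwint.pow _)
        exact hS₁ _ (Algebra.subset_adjoin ⟨i, rfl⟩)
      · rcases List.mem_cons.mp ht with rfl | ht
        · exact hwint
        · exact hx'2 t (Algebra.subset_adjoin (Or.inr ht))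

end Groth.Agent.Lib.Helper11.Ked
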