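import Mathlib
import Groth.Agent.Lib.Helper11.KedA2

/-!
# Algebraic dependence in étale algebras over polynomial rings (helper11)
-/

set_option autoImplicit false
set_option linter.style.haveILetI false

universe u

namespace Groth.Agent.Lib.Helper11.Ked

open MvPolynomial TensorProduct Cardinal

/-- In a field `F` algebraic over (the image of) `P = k[X_1..X_n]`, any `n+1` elements are
algebraically dependent over `k` (formulated with a ring hom `ρ : C → F`). -/
theorem exists_relation_field (k : Type u) [Field k] (n : ℕ) (F : Type u) [Field F]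
    [Algebra (MvPolynomial (Fin n) k) F] [Algebra k F] [IsScalarTower k (MvPolynomial (Fin n) k) F]
    [Algebra.IsAlgebraic (MvPolynomial (Fin n) k) F]
    (hinj : Function.Injective (algebraMap (MvPolynomial (Fin n) k) F))
    (s : Fin (n + 1) → F) :
    ∃ G : MvPolynomial (Fin (n + 1)) k, G ≠ 0 ∧ aeval s G = 0 := by
  by_contra hcon
  push Not at hcon
  have hind : AlgebraicIndependent k s := by
    rw [algebraicIndependent_iff]
    intro p hp
    by_contra hp0
    exact hcon p hp0 hp
  have h1 := hind.lift_cardinalMk_le_trdeg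
  haveI : FaithfulSMul (MvPolynomial (Fin n) k) F := (faithfulSMul_iff_algebraMap_injective _ _).mpr hinj
  have h2 := trdeg_add_eq k (MvPolynomial (Fin n) k) (A := F)
  rw [trdeg_eq_zero (R := MvPolynomial (Fin n) k) (A := F), add_zero,
    MvPolynomial.trdeg_of_isDomain] at h2
  rw [← h2] at h1
  simp only [mk_fintype, Fintype.card_fin, lift_natCast, Nat.cast_le] at h1
  omega

theorem algDep_of_etale (k : Type u) [Field k] (n : ℕ) (C : Type u) [CommRing C]
    [Algebra (MvPolynomial (Fin n) k) C] [Algebra k C] [IsScalarTower k (MvPolynomial (Fin n) k) C]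
    [Algebra.Etale (MvPolynomial (Fin n) k) C] : AlgDep k C n := by
  classical
  intro t
  set P := MvPolynomial (Fin n) k with hP
  set K := FractionRing P with hK
  set L := K ⊗[P] C with hL
  have hιinj : Function.Injective (Algebra.TensorProduct.includeRight : C →ₐ[P] K ⊗[P] C) :=
    Algebra.TensorProduct.includeRight_injective (IsFractionRing.injective P K)
  obtain ⟨I, hI, Ai, hfield, halg, e, hAi⟩ :=
    (Algebra.Etale.iff_exists_algEquiv_prod (K := K) (A := L)).mp inferInstance
  haveI := Fintype.ofFinite I
  -- ring homs `C → Ai i`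
  let ρ : ∀ i, C →+* Ai i := fun i =>
    (Pi.evalRingHom Ai i).comp ((e : L →+* ∀ i, Ai i).comp
      (Algebra.TensorProduct.includeRight : C →ₐ[P] K ⊗[P] C).toRingHom)
  have hρP : ∀ i (g : P), ρ i (algebraMap P C g) = algebraMap K (Ai i) (algebraMap P K g) := by
    intro i g
    have h1 : (Algebra.TensorProduct.includeRight : C →ₐ[P] K ⊗[P] C) (algebraMap P C g) =
        algebraMap K L (algebraMap P K g) := by
      rw [AlgHom.commutes, IsScalarTower.algebraMap_apply P K L]
    change (e ((Algebra.TensorProduct.includeRight : C →ₐ[P] K ⊗[P] C) (algebraMap P C g))) i = _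
    rw [h1, AlgEquiv.commutes]
    rfl
  have hex : ∀ i, ∃ G : MvPolynomial (Fin (n + 1)) k, G ≠ 0 ∧
      MvPolynomial.eval₂ ((ρ i).comp (algebraMap k C)) (ρ i ∘ t) G = 0 := by
    intro i
    letI : Algebra P (Ai i) := ((ρ i).comp (algebraMap P C)).toAlgebra
    letI : Algebra k (Ai i) := ((ρ i).comp (algebraMap k C)).toAlgebra
    haveI : IsScalarTower k P (Ai i) := IsScalarTower.of_algebraMap_eq (fun x => by
      change (ρ i) (algebraMap k C x) = (ρ i) (algebraMap P C (algebraMap k P x))
      rw [← IsScalarTower.algebraMap_apply k P C])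
    haveI : IsScalarTower P K (Ai i) := IsScalarTower.of_algebraMap_eq (fun x => hρP i x)
    haveI : Module.Finite K (Ai i) := (hAi i).1
    haveI : Algebra.IsAlgebraic P K := IsLocalization.isAlgebraic K (nonZeroDivisors P)
    haveI : Algebra.IsAlgebraic K (Ai i) := Algebra.IsAlgebraic.of_finite K (Ai i)
    haveI : Algebra.IsAlgebraic P (Ai i) := Algebra.IsAlgebraic.trans P K (Ai i)
    have hinj : Function.Injective (algebraMap P (Ai i)) := by
      have : algebraMap P (Ai i) = (algebraMap K (Ai i)).comp (algebraMap P K) :=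
        RingHom.ext (fun x => hρP i x)
      rw [this]
      exact (algebraMap K (Ai i)).injective.comp (IsFractionRing.injective P K)
    obtain ⟨G, hG, hG0⟩ := exists_relation_field k n (Ai i) hinj (ρ i ∘ t)
    exact ⟨G, hG, hG0⟩
  choose G hG hG0 using hex
  refine ⟨∏ i, G i, Finset.prod_ne_zero_iff.mpr (fun i _ => hG i), ?_⟩
  apply hιinj
  apply e.injective
  rw [map_zero, map_zero]
  funext i
  have h2 : (e ((Algebra.TensorProduct.includeRight : C →ₐ[P] K ⊗[P] C) (aeval t (∏ i, G i)))) i =
      ρ i (aeval t (∏ i, G i)) := rfl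
  rw [h2, MvPolynomial.aeval_def, MvPolynomial.eval₂_comp_left, Pi.zero_apply, MvPolynomial.eval₂_prod]
  exact Finset.prod_eq_zero (Finset.mem_univ i) (hG0 i)

end Groth.Agent.Lib.Helper11.Ked
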