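import Mathlib

/-!
# A differential criterion for formal étaleness over a polynomial ring (helper11)
-/

set_option autoImplicit false
set_option linter.style.haveILetI false

universe u

namespace Groth.Agent.Lib.Helper11.Ked

open MvPolynomial TensorProduct KaehlerDifferential

variable (k : Type u) [CommRing k] (n : ℕ) (C : Type u) [CommRing C] [Algebra k C]
  [Algebra (MvPolynomial (Fin n) k) C] [IsScalarTower k (MvPolynomial (Fin n) k) C]

/-- If `C` is formally smooth over `k` and the `d(x_i)` form a basis of `Ω[C⁄k]`, then `C` is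
formally étale over `k[X_1..X_n]`. -/
theorem formallyEtale_of_basis [Algebra.FormallySmooth k C]
    (hli : LinearIndependent C
      (fun i : Fin n => D k C (algebraMap (MvPolynomial (Fin n) k) C (X i))))
    (hsp : Submodule.span C (Set.range
      (fun i : Fin n => D k C (algebraMap (MvPolynomial (Fin n) k) C (X i)))) = ⊤) :
    Algebra.FormallyEtale (MvPolynomial (Fin n) k) C := by
  set P := MvPolynomial (Fin n) k with hP
  let b : Module.Basis (Fin n) P Ω[P⁄k] := mvPolynomialBasis k (Fin n)
  let bC : Module.Basis (Fin n) C Ω[C⁄k] := Module.Basis.mk hli hsp.ge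
  let bT : Module.Basis (Fin n) C (C ⊗[P] Ω[P⁄k]) := b.baseChange C
  have hmap : mapBaseChange k P C = (bT.equiv bC (Equiv.refl _)).toLinearMap := by
    apply bT.ext
    intro i
    rw [LinearEquiv.coe_coe, Module.Basis.equiv_apply, Equiv.refl_apply, Module.Basis.baseChange_apply,
      mapBaseChange_tmul, one_smul, Module.Basis.mk_apply, mvPolynomialBasis_apply, map_D]
  have hbij : Function.Bijective (mapBaseChange k P C) := by
    rw [hmap]; exact (bT.equiv bC (Equiv.refl _)).bijective
  refine ⟨⟨fun z w => ?_⟩, ⟨fun x y => ?_⟩⟩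
  · -- Ω[C⁄P] = 0
    have hz : ∀ z : Ω[C⁄P], z = 0 := by
      intro z
      obtain ⟨y, rfl⟩ := KaehlerDifferential.map_surjective k P C z
      obtain ⟨v, rfl⟩ := hbij.2 y
      exact (KaehlerDifferential.exact_mapBaseChange_map k P C).apply_apply_eq_zero v
    rw [hz z, hz w]
  · -- H1Cotangent P C = 0
    have hx : ∀ x : Algebra.H1Cotangent P C, x = 0 := by
      intro x
      have h1 : mapBaseChange k P C (Algebra.H1Cotangent.δ k P C x) = 0 :=
        (Algebra.H1Cotangent.exact_δ_mapBaseChange k P C).apply_apply_eq_zero x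
      have h2 : Algebra.H1Cotangent.δ k P C x = 0 := hbij.1 (by rw [h1, map_zero])
      obtain ⟨y, rfl⟩ := (Algebra.H1Cotangent.exact_map_δ k P C x).mp h2
      rw [Subsingleton.elim y 0, map_zero]
    rw [hx x, hx y]

end Groth.Agent.Lib.Helper11.Ked
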