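import Mathlib
import Groth.Agent.Lib.Helper11.KedA3
import Groth.Agent.Lib.Helper11.KedA4

/-!
# Finite étale maps from affine space in characteristic `p` (helper11)

Main abstract result: `exists_finite_etale_modification`.
-/

set_option autoImplicit false
set_option linter.style.haveILetI false

universe u

namespace Groth.Agent.Lib.Helper11.Ked

open MvPolynomial TensorProduct KaehlerDifferential

theorem isIntegralElem_of_isIntegral_adjoin {k : Type*} [Field k] {C : Type*} [CommRing C]
    [Algebra k C] {n : ℕ} (x' : Fin n → C) (c : C)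
    (hc : IsIntegral (Algebra.adjoin k (Set.range x')) c) :
    (aeval x' : MvPolynomial (Fin n) k →ₐ[k] C).toRingHom.IsIntegralElem c := by
  set S := Algebra.adjoin k (Set.range x') with hS
  set φ : MvPolynomial (Fin n) k →ₐ[k] C := aeval x' with hφ
  have hrange : ∀ g, φ g ∈ S := by
    intro g
    rw [hS, Algebra.adjoin_range_eq_range_aeval]
    exact ⟨g, rfl⟩
  let φ' : MvPolynomial (Fin n) k →+* S := φ.toRingHom.codRestrict S hrange
  have hsurj : Function.Surjective φ' := by
    rintro ⟨s, hs⟩
    rw [hS, Algebra.adjoin_range_eq_range_aeval] at hs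
    obtain ⟨g, rfl⟩ := hs
    exact ⟨g, rfl⟩
  obtain ⟨q, hq, hqc⟩ := hc
  have hlift : q ∈ Polynomial.lifts φ' := by
    rw [Polynomial.mem_lifts]
    exact Polynomial.map_surjective φ' hsurj q
  obtain ⟨q', hq'1, _, hq'3⟩ := Polynomial.lifts_and_natDegree_eq_and_monic hlift hq
  refine ⟨q', hq'3, ?_⟩
  have h1 : (algebraMap S C).comp φ' = φ.toRingHom := by
    ext g <;> rfl
  rw [← h1, ← Polynomial.eval₂_map, hq'1]
  exact hqc

theorem exists_finite_etale_modification (k : Type u) [Field k] (p : ℕ) [Fact p.Prime] [CharP k p]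
    (n : ℕ) (C : Type u) [CommRing C] [Algebra k C] [Algebra.FiniteType k C]
    [Algebra.FormallySmooth k C] (x : Fin n → C)
    (hli : LinearIndependent C (fun i => D k C (x i)))
    (hsp : Submodule.span C (Set.range fun i => D k C (x i)) = ⊤)
    (hdep : AlgDep k C n) (𝔞 : Ideal C) (ws : List C) (hws : ∀ w ∈ ws, w ∈ 𝔞)
    (hint : ∀ c : C, IsIntegral (Algebra.adjoin k (Set.range x ∪ {w | w ∈ ws})) c) :
    ∃ x' : Fin n → C, (∀ i, x' i - x i ∈ 𝔞) ∧
      (aeval x' : MvPolynomial (Fin n) k →ₐ[k] C).toRingHom.Finite ∧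
      (aeval x' : MvPolynomial (Fin n) k →ₐ[k] C).toRingHom.Etale := by
  have hpC : (p : C) = 0 := by
    have h1 : (p : k) = 0 := CharP.cast_eq_zero k p
    rw [← map_natCast (algebraMap k C) p, h1, map_zero]
  obtain ⟨x', hx'1, hx'2⟩ := exists_modification p (Fact.out : p.Prime).pos hpC hdep 𝔞 ws hws x
  refine ⟨x', fun i => (hx'1 i).1, ?_⟩
  set φ : MvPolynomial (Fin n) k →ₐ[k] C := aeval x' with hφ
  have hInt : φ.toRingHom.IsIntegral := by
    intro c
    exact isIntegralElem_of_isIntegral_adjoin x' c
      (isIntegral_subalgebra_trans _ _ hx'2 (hint c))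
  have hcomp : algebraMap k C = φ.toRingHom.comp (algebraMap k (MvPolynomial (Fin n) k)) := by
    ext a; simp
  have hft : φ.toRingHom.FiniteType := by
    have h1 : (algebraMap k C).FiniteType := RingHom.finiteType_algebraMap.mpr inferInstance
    rw [hcomp] at h1
    exact h1.of_comp_finiteType
  have hfin : φ.toRingHom.Finite := hInt.to_finite hft
  refine ⟨hfin, ?_⟩
  letI : Algebra (MvPolynomial (Fin n) k) C := φ.toRingHom.toAlgebra
  haveI : IsScalarTower k (MvPolynomial (Fin n) k) C :=
    IsScalarTower.of_algebraMap_eq (fun a => (φ.commutes a).symm)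
  have hD : (fun i : Fin n => D k C (algebraMap (MvPolynomial (Fin n) k) C (X i))) =
      fun i => D k C (x i) := by
    funext i
    have h1 : algebraMap (MvPolynomial (Fin n) k) C (X i) = x i + (x' i - x i) := by
      change φ (X i) = _
      rw [hφ, aeval_X]; ring
    rw [h1, map_add, (hx'1 i).2, add_zero]
  haveI : Algebra.FormallyEtale (MvPolynomial (Fin n) k) C :=
    formallyEtale_of_basis k n C (by rw [hD]; exact hli) (by rw [hD]; exact hsp)
  haveI : Module.Finite (MvPolynomial (Fin n) k) C := hfin
  haveI : Algebra.FinitePresentation (MvPolynomial (Fin n) k) C :=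
    Algebra.FinitePresentation.of_finiteType.mp inferInstance
  exact ⟨inferInstance, inferInstance⟩


section Etale

variable (k : Type u) [Field k] (n : ℕ) (C : Type u) [CommRing C]
  [Algebra (MvPolynomial (Fin n) k) C] [Algebra k C] [IsScalarTower k (MvPolynomial (Fin n) k) C]
  [Algebra.Etale (MvPolynomial (Fin n) k) C]

theorem kaehler_basis_of_etale :
    LinearIndependent C (fun i : Fin n => D k C (algebraMap (MvPolynomial (Fin n) k) C (X i))) ∧
    Submodule.span C (Set.range
      (fun i : Fin n => D k C (algebraMap (MvPolynomial (Fin n) k) C (X i)))) = ⊤ := by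
  set P := MvPolynomial (Fin n) k with hP
  let bT : Module.Basis (Fin n) C (C ⊗[P] Ω[P⁄k]) := (mvPolynomialBasis k (Fin n)).baseChange C
  let bC : Module.Basis (Fin n) C Ω[C⁄k] := bT.map (tensorKaehlerEquivOfFormallyEtale k P C)
  have hb : (fun i : Fin n => D k C (algebraMap P C (X i))) = bC := by
    funext i
    rw [Module.Basis.map_apply, Module.Basis.baseChange_apply, tensorKaehlerEquivOfFormallyEtale_apply,
      mapBaseChange_tmul, one_smul, mvPolynomialBasis_apply, map_D]
  rw [hb]
  exact ⟨bC.linearIndependent, bC.span_eq⟩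

include n in
theorem finiteType_of_etale : Algebra.FiniteType k C :=
  Algebra.FiniteType.trans (S := MvPolynomial (Fin n) k) inferInstance inferInstance

include n in
theorem formallySmooth_of_etale : Algebra.FormallySmooth k C :=
  Algebra.FormallySmooth.comp k (MvPolynomial (Fin n) k) C

/-- **Kedlaya**: an algebra étale over affine space in characteristic `p` admits a finite étale
map from affine space. -/
theorem exists_finite_etale (p : ℕ) [Fact p.Prime] [CharP k p] :
    ∃ φ : MvPolynomial (Fin n) k →ₐ[k] C, φ.toRingHom.Finite ∧ φ.toRingHom.Etale := by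
  classical
  haveI := finiteType_of_etale k n C
  haveI := formallySmooth_of_etale k n C
  obtain ⟨hli, hsp⟩ := kaehler_basis_of_etale k n C
  obtain ⟨s, hs⟩ := (Algebra.FiniteType.out : (⊤ : Subalgebra k C).FG)
  obtain ⟨x', -, h1, h2⟩ := exists_finite_etale_modification k p n C
    (fun i => algebraMap (MvPolynomial (Fin n) k) C (X i)) hli hsp (algDep_of_etale k n C) ⊤
    s.toList (fun _ _ => Submodule.mem_top) (fun c => by
      apply isIntegral_of_mem_subalgebra
      have : (⊤ : Subalgebra k C) ≤ Algebra.adjoin k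
          (Set.range (fun i => algebraMap (MvPolynomial (Fin n) k) C (X i)) ∪ {w | w ∈ s.toList}) := by
        rw [← hs]
        apply Algebra.adjoin_mono
        intro w hw
        exact Or.inr (by simpa using hw)
      exact this Algebra.mem_top)
  exact ⟨_, h1, h2⟩

end Etale

end Groth.Agent.Lib.Helper11.Ked
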