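import Mathlib
import Groth.Agent.Lib.Helper11.KedA5
import Groth.Agent.Lib.Lead.SmoothSrcLocal

/-!
# Finite étale covers of closed subschemes of affine space in characteristic `p` (helper11)
-/

set_option autoImplicit false
set_option linter.style.haveILetI false

universe u

namespace Groth.Agent.Lib.Helper11.Ked

open MvPolynomial TensorProduct KaehlerDifferential

/-- final assembly: a finite étale ring map `φ : P → Q` and a surjection `π : Q → B`
compatible with the structure map of `B`. -/
theorem final_step {P A B : Type u} [CommRing P] [CommRing A] [CommRing B] [Algebra P A]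
    [Algebra A B] [Algebra P B] [IsScalarTower P A B] (Q : Type u) [CommRing Q] (φ : P →+* Q)
    (hfin : φ.Finite) (het : φ.Etale) (π : Q →+* B) (hπ : Function.Surjective π)
    (hcomm : ∀ g, π (φ g) = algebraMap P B g) :
    ∃ (C : Type u) (_ : CommRing C) (_ : Algebra P C), Module.Finite P C ∧ Algebra.Etale P C ∧
      ∃ ψ : A ⊗[P] C →ₐ[A] B, Function.Surjective ψ := by
  letI : Algebra P Q := φ.toAlgebra
  let π' : Q →ₐ[P] B := { π with commutes' := fun g => hcomm g }
  refine ⟨Q, inferInstance, inferInstance, hfin, het,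
    Algebra.TensorProduct.lift (Algebra.ofId A B) π' (fun _ _ => Commute.all _ _), ?_⟩
  intro b
  obtain ⟨q, rfl⟩ := hπ b
  exact ⟨1 ⊗ₜ q, by simp [π']⟩

theorem exists_finite_etale_dominating (k : Type u) [Field k] (p : ℕ) [Fact p.Prime] [CharP k p]
    (n : ℕ) (I : Ideal (MvPolynomial (Fin n) k)) (B : Type u) [CommRing B]
    [Algebra (MvPolynomial (Fin n) k ⧸ I) B] [Module.Finite (MvPolynomial (Fin n) k ⧸ I) B]
    [Algebra.Etale (MvPolynomial (Fin n) k ⧸ I) B] :
    ∃ (C : Type u) (_ : CommRing C) (_ : Algebra (MvPolynomial (Fin n) k) C),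
      Module.Finite (MvPolynomial (Fin n) k) C ∧ Algebra.Etale (MvPolynomial (Fin n) k) C ∧
      ∃ ψ : (MvPolynomial (Fin n) k ⧸ I) ⊗[MvPolynomial (Fin n) k] C →ₐ[MvPolynomial (Fin n) k ⧸ I] B,
        Function.Surjective ψ := by
  classical
  set P := MvPolynomial (Fin n) k with hP
  letI : Algebra P B := ((algebraMap (P ⧸ I) B).comp (Ideal.Quotient.mk I)).toAlgebra
  haveI : IsScalarTower P (P ⧸ I) B := by
    have h : @IsScalarTower P (P ⧸ I) B Algebra.toSMul Algebra.toSMul Algebra.toSMul :=
      IsScalarTower.of_algebraMap_eq' rfl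
    exact h
  obtain ⟨Q, _, _, _, π, hπsurj, hπker⟩ :=
    Groth.Agent.Lib.Lead.SmoothSrcLocal.exists_etale_lift (P := P) (A := P ⧸ I) (B := B)
      Ideal.Quotient.mk_surjective
  have hkerI : RingHom.ker (algebraMap P (P ⧸ I)) = I := Ideal.mk_ker
  rw [hkerI] at hπker
  letI : Algebra k Q := ((algebraMap P Q).comp (algebraMap k P)).toAlgebra
  haveI : IsScalarTower k P Q := IsScalarTower.of_algebraMap_eq (fun _ => rfl)
  haveI := finiteType_of_etale k n Q
  haveI := formallySmooth_of_etale k n Q
  obtain ⟨hli, hsp⟩ := kaehler_basis_of_etale k n Q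
  set x : Fin n → Q := fun i => algebraMap P Q (X i) with hx
  set 𝔞 : Ideal Q := RingHom.ker π with h𝔞
  -- integrality data
  haveI : Module.Finite P B := Module.Finite.trans (P ⧸ I) B
  have hF : ∀ y : Q, ∃ F : Polynomial P, F.Monic ∧ 0 < F.natDegree ∧
      Polynomial.eval₂ (algebraMap P B) (π y) F = 0 := by
    intro y
    obtain ⟨F, hF1, hF2⟩ := Algebra.IsIntegral.isIntegral (R := P) (π y)
    refine ⟨Polynomial.X * F, Polynomial.monic_X.mul hF1, ?_, ?_⟩
    · rw [Polynomial.Monic.natDegree_mul Polynomial.monic_X hF1, Polynomial.natDegree_X]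
      omega
    · rw [Polynomial.eval₂_mul, hF2, mul_zero]
  choose F hF1 hF2 hF3 using hF
  set wf : Q → Q := fun y => Polynomial.eval₂ (algebraMap P Q) y (F y) with hwf
  have hwf𝔞 : ∀ y, wf y ∈ 𝔞 := by
    intro y
    rw [h𝔞, RingHom.mem_ker]
    change π (Polynomial.eval₂ (algebraMap P Q) y (F y)) = 0
    rw [← AlgHom.coe_toRingHom, Polynomial.hom_eval₂]
    have h1 : (π : Q →+* B).comp (algebraMap P Q) = algebraMap P B := π.comp_algebraMap
    rw [h1]; exact hF3 y
  obtain ⟨s, hs⟩ := (Algebra.FiniteType.out : (⊤ : Subalgebra k Q).FG)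
  set ws : List Q := s.toList.map wf with hws
  have hwsmem : ∀ y ∈ s, wf y ∈ ws := by
    intro y hy
    rw [hws, List.mem_map]
    exact ⟨y, by simpa using hy, rfl⟩
  set S := Algebra.adjoin k (Set.range x ∪ {w | w ∈ ws}) with hS
  have hPS : ∀ g : P, algebraMap P Q g ∈ S := by
    intro g
    have h0 : (IsScalarTower.toAlgHom k P Q) = aeval x := by
      apply MvPolynomial.algHom_ext
      intro i
      rw [aeval_X, hx]
      rfl
    have h1 : algebraMap P Q g = aeval x g := congrArg (fun f : P →ₐ[k] Q => f g) h0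
    rw [h1]
    have h2 : aeval x g ∈ Algebra.adjoin k (Set.range x) := by
      rw [Algebra.adjoin_range_eq_range_aeval]; exact ⟨g, rfl⟩
    exact Algebra.adjoin_mono Set.subset_union_left h2
  have hyint : ∀ y ∈ (s : Set Q), IsIntegral S y := by
    intro y hy
    rcases subsingleton_or_nontrivial Q with hQ | hQ
    · exact ⟨1, Polynomial.monic_one, Subsingleton.elim _ _⟩
    have hwS : wf y ∈ S := Algebra.subset_adjoin (Or.inr (hwsmem y hy))
    let ψ : P →+* S := (algebraMap P Q).codRestrict S hPS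
    have hmon : ((F y).map ψ).Monic := (hF1 y).map ψ
    refine ⟨(F y).map ψ - Polynomial.C ⟨wf y, hwS⟩, hmon.sub_of_left ?_, ?_⟩
    · calc (Polynomial.C (⟨wf y, hwS⟩ : S)).degree ≤ 0 := Polynomial.degree_C_le
        _ < ((F y).map ψ).degree := by
          rw [← Polynomial.natDegree_pos_iff_degree_pos, (hF1 y).natDegree_map]
          exact hF2 y
    · rw [Polynomial.eval₂_sub, Polynomial.eval₂_map, Polynomial.eval₂_C]
      have h3 : (algebraMap S Q).comp ψ = algebraMap P Q := by ext g <;> rfl
      rw [h3]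
      exact sub_self _
  have hint : ∀ c : Q, IsIntegral S c := by
    intro c
    have hc : c ∈ Algebra.adjoin k (s : Set Q) := by rw [hs]; exact Algebra.mem_top
    exact isIntegral_of_mem_adjoin S _ hyint hc
  obtain ⟨x', hx'1, hfin, het⟩ := exists_finite_etale_modification k p n Q x hli hsp
    (algDep_of_etale k n Q) 𝔞 ws (by
      intro w hw
      rw [hws, List.mem_map] at hw
      obtain ⟨y, _, rfl⟩ := hw
      exact hwf𝔞 y) hint
  refine final_step (P := P) (A := P ⧸ I) (B := B) Q (aeval x' : P →ₐ[k] Q).toRingHom hfin het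
    π.toRingHom hπsurj ?_
  intro g
  have hrh : (π.toRingHom.comp (aeval x' : P →ₐ[k] Q).toRingHom) = algebraMap P B := by
    apply MvPolynomial.ringHom_ext
    · intro a
      have h1 : (aeval x' : P →ₐ[k] Q) (C a) = algebraMap P Q (C a) := by
        rw [aeval_C]; rfl
      change π ((aeval x' : P →ₐ[k] Q) (C a)) = _
      rw [h1, π.commutes]
    · intro i
      change π ((aeval x' : P →ₐ[k] Q) (X i)) = _
      rw [aeval_X]
      have h2 : π (x' i - x i) = 0 := hx'1 i
      rw [map_sub, sub_eq_zero] at h2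
      rw [h2, hx, π.commutes]
  exact congrArg (fun f : P →+* B => f g) hrh

end Groth.Agent.Lib.Helper11.Ked
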