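import Mathlib
import Groth.Agent.Lib.Helper11.KedB1

/-!
# Finite étale covers of quotients of char `p` rings are dominated (helper11)
-/

set_option autoImplicit false
set_option linter.style.haveILetI false

universe u

namespace Groth.Agent.Lib.Helper11.Ked

open MvPolynomial TensorProduct KaehlerDifferential

theorem exists_finite_etale_dominating' (k : Type u) [Field k] (p : ℕ) [Fact p.Prime] [CharP k p]
    (n : ℕ) (A : Type u) [CommRing A] [Algebra (MvPolynomial (Fin n) k) A]
    (hsurj : Function.Surjective (algebraMap (MvPolynomial (Fin n) k) A))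
    (B : Type u) [CommRing B] [Algebra A B] [Module.Finite A B] [Algebra.Etale A B] :
    ∃ (C : Type u) (_ : CommRing C) (_ : Algebra (MvPolynomial (Fin n) k) C),
      Module.Finite (MvPolynomial (Fin n) k) C ∧ Algebra.Etale (MvPolynomial (Fin n) k) C ∧
      ∃ ψ : A ⊗[MvPolynomial (Fin n) k] C →ₐ[A] B, Function.Surjective ψ := by
  classical
  set P := MvPolynomial (Fin n) k with hP
  letI : Algebra P B := ((algebraMap A B).comp (algebraMap P A)).toAlgebra
  haveI : IsScalarTower P A B := IsScalarTower.of_algebraMap_eq' rfl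
  obtain ⟨Q, _, _, _, π, hπsurj, -⟩ :=
    Groth.Agent.Lib.Lead.SmoothSrcLocal.exists_etale_lift (P := P) (A := A) (B := B) hsurj
  letI : Algebra k Q := ((algebraMap P Q).comp (algebraMap k P)).toAlgebra
  haveI : IsScalarTower k P Q := IsScalarTower.of_algebraMap_eq (fun _ => rfl)
  haveI := finiteType_of_etale k n Q
  haveI := formallySmooth_of_etale k n Q
  obtain ⟨hli, hsp⟩ := kaehler_basis_of_etale k n Q
  set x : Fin n → Q := fun i => algebraMap P Q (X i) with hx
  set 𝔞 : Ideal Q := RingHom.ker π with h𝔞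
  -- integrality data
  haveI : Module.Finite P A := Module.Finite.of_surjective (Algebra.linearMap P A) hsurj
  haveI : Module.Finite P B := Module.Finite.trans A B
  have hF : ∀ y : Q, ∃ F : Polynomial P, F.Monic ∧ 0 < F.natDegree ∧
      Polynomial.eval₂ (algebraMap P B) (π y) F = 0 := by
    intro y
    obtain ⟨F, hF1, hF2⟩ := Algebra.IsIntegral.isIntegral (R := P) (π y)
    refine ⟨Polynomial.X * F, Polynomial.monic_X.mul hF1, ?_, ?_⟩
    · rw [Polynomial.Monic.natDegree_mul Polynomial.monic_X hF1, Polynomial.natDegree_X]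
      omega
    · rw [Polynomial.eval₂_mul, hF2, mul_zero]
  choose F hF1 hF2 hF3 using hF
  set wf : Q → Q := fun y => Polynomial.eval₂ (algebraMap P Q) y (F y) with hwf
  have hwf𝔞 : ∀ y, wf y ∈ 𝔞 := by
    intro y
    rw [h𝔞, RingHom.mem_ker]
    change π (Polynomial.eval₂ (algebraMap P Q) y (F y)) = 0
    rw [← AlgHom.coe_toRingHom, Polynomial.hom_eval₂]
    have h1 : (π : Q →+* B).comp (algebraMap P Q) = algebraMap P B := π.comp_algebraMap
    rw [h1]; exact hF3 y
  obtain ⟨s, hs⟩ := (Algebra.FiniteType.out : (⊤ : Subalgebra k Q).FG)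
  set ws : List Q := s.toList.map wf with hws
  have hwsmem : ∀ y ∈ s, wf y ∈ ws := by
    intro y hy
    rw [hws, List.mem_map]
    exact ⟨y, by simpa using hy, rfl⟩
  set S := Algebra.adjoin k (Set.range x ∪ {w | w ∈ ws}) with hS
  have hPS : ∀ g : P, algebraMap P Q g ∈ S := by
    intro g
    have h0 : (IsScalarTower.toAlgHom k P Q) = aeval x := by
      apply MvPolynomial.algHom_ext
      intro i
      rw [aeval_X, hx]
      rfl
    have h1 : algebraMap P Q g = aeval x g := congrArg (fun f : P →ₐ[k] Q => f g) h0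
    rw [h1]
    have h2 : aeval x g ∈ Algebra.adjoin k (Set.range x) := by
      rw [Algebra.adjoin_range_eq_range_aeval]; exact ⟨g, rfl⟩
    exact Algebra.adjoin_mono Set.subset_union_left h2
  have hyint : ∀ y ∈ (s : Set Q), IsIntegral S y := by
    intro y hy
    rcases subsingleton_or_nontrivial Q with hQ | hQ
    · exact ⟨1, Polynomial.monic_one, Subsingleton.elim _ _⟩
    have hwS : wf y ∈ S := Algebra.subset_adjoin (Or.inr (hwsmem y hy))
    let ψ : P →+* S := (algebraMap P Q).codRestrict S hPS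
    have hmon : ((F y).map ψ).Monic := (hF1 y).map ψ
    refine ⟨(F y).map ψ - Polynomial.C ⟨wf y, hwS⟩, hmon.sub_of_left ?_, ?_⟩
    · calc (Polynomial.C (⟨wf y, hwS⟩ : S)).degree ≤ 0 := Polynomial.degree_C_le
        _ < ((F y).map ψ).degree := by
          rw [← Polynomial.natDegree_pos_iff_degree_pos, (hF1 y).natDegree_map]
          exact hF2 y
    · rw [Polynomial.eval₂_sub, Polynomial.eval₂_map, Polynomial.eval₂_C]
      have h3 : (algebraMap S Q).comp ψ = algebraMap P Q := by ext g <;> rfl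
      rw [h3]
      exact sub_self _
  have hint : ∀ c : Q, IsIntegral S c := by
    intro c
    have hc : c ∈ Algebra.adjoin k (s : Set Q) := by rw [hs]; exact Algebra.mem_top
    exact isIntegral_of_mem_adjoin S _ hyint hc
  obtain ⟨x', hx'1, hfin, het⟩ := exists_finite_etale_modification k p n Q x hli hsp
    (algDep_of_etale k n Q) 𝔞 ws (by
      intro w hw
      rw [hws, List.mem_map] at hw
      obtain ⟨y, _, rfl⟩ := hw
      exact hwf𝔞 y) hint
  refine final_step (P := P) (A := A) (B := B) Q (aeval x' : P →ₐ[k] Q).toRingHom hfin het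
    π.toRingHom hπsurj ?_
  intro g
  have hrh : (π.toRingHom.comp (aeval x' : P →ₐ[k] Q).toRingHom) = algebraMap P B := by
    apply MvPolynomial.ringHom_ext
    · intro a
      have h1 : (aeval x' : P →ₐ[k] Q) (C a) = algebraMap P Q (C a) := by
        rw [aeval_C]; rfl
      change π ((aeval x' : P →ₐ[k] Q) (C a)) = _
      rw [h1, π.commutes]
    · intro i
      change π ((aeval x' : P →ₐ[k] Q) (X i)) = _
      rw [aeval_X]
      have h2 : π (x' i - x i) = 0 := hx'1 i
      rw [map_sub, sub_eq_zero] at h2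
      rw [h2, hx, π.commutes]
  exact congrArg (fun f : P →+* B => f g) hrh


/-- descent of a finite étale algebra to a finitely generated `k`-subalgebra, in the form
needed here. -/
theorem exists_finite_etale_descent (k : Type u) [CommRing k] (A B : Type u) [CommRing A]
    [CommRing B] [Algebra k A] [Algebra A B] [Module.Finite A B] [Algebra.Etale A B] :
    ∃ (A₁ : Type u) (_ : CommRing A₁) (_ : Algebra k A₁) (_ : Algebra A₁ A)
      (_ : IsScalarTower k A₁ A) (B₁ : Type u) (_ : CommRing B₁) (_ : Algebra A₁ B₁)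
      (ι : B₁ →+* B),
      Algebra.FiniteType k A₁ ∧ Module.Finite A₁ B₁ ∧ Algebra.Etale A₁ B₁ ∧
      (∀ a, ι (algebraMap A₁ B₁ a) = algebraMap A B (algebraMap A₁ A a)) ∧
      Submodule.span A (Set.range ι) = ⊤ := by
  classical
  obtain ⟨A₀, B₀, _, _, hA₀, hB₀, ⟨e⟩⟩ := Algebra.Etale.exists_subalgebra_fg k A B
  haveI : Algebra.FiniteType A₀ B₀ := inferInstance
  obtain ⟨t, ht⟩ := (Algebra.FiniteType.out : (⊤ : Subalgebra A₀ B₀).FG)
  have hint : ∀ b : B₀, ∃ F : Polynomial A, F.Monic ∧
      Polynomial.eval₂ (algebraMap A B) (e.symm (1 ⊗ₜ b)) F = 0 :=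
    fun b => Algebra.IsIntegral.isIntegral (R := A) _
  choose F hF1 hF2 using hint
  set cs : Finset A := t.biUnion (fun b => (F b).coeffs) with hcs
  set A₁ : Subalgebra A₀ A := Algebra.adjoin A₀ (cs : Set A) with hA₁
  have hA₁fg : A₁.FG := Subalgebra.fg_adjoin_finset cs
  haveI hft0 : Algebra.FiniteType k A₀ := (Subalgebra.fg_iff_finiteType A₀).mp hA₀
  haveI hft1 : Algebra.FiniteType A₀ A₁ := (Subalgebra.fg_iff_finiteType A₁).mp hA₁fg
  have hft : Algebra.FiniteType k A₁ := Algebra.FiniteType.trans hft0 hft1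
  -- the base change
  let j : A₁ ⊗[A₀] B₀ →ₐ[A₀] A ⊗[A₀] B₀ := Algebra.TensorProduct.map A₁.val (AlgHom.id A₀ B₀)
  have hjtmul : ∀ (a : A₁) (b : B₀), j (a ⊗ₜ b) = (a : A) ⊗ₜ b := fun a b =>
    Algebra.TensorProduct.map_tmul _ _ _ _
  have hjinj : Function.Injective j := by
    have h1 : (j : A₁ ⊗[A₀] B₀ → A ⊗[A₀] B₀) = LinearMap.rTensor B₀ A₁.val.toLinearMap := by
      ext z
      induction z using TensorProduct.induction_on with
      | zero => simp
      | tmul a b => rw [hjtmul]; rfl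
      | add x y hx hy => simp only [map_add, hx, hy]
    rw [h1]
    exact Module.Flat.rTensor_preserves_injective_linearMap _ Subtype.val_injective
  let ι : A₁ ⊗[A₀] B₀ →+* B := (e.symm : A ⊗[A₀] B₀ →+* B).comp j.toRingHom
  have hιinj : Function.Injective ι := e.symm.injective.comp hjinj
  have hιtmul : ∀ (a : A₁) (b : B₀), ι (a ⊗ₜ b) = (a : A) • e.symm (1 ⊗ₜ b) := by
    intro a b
    change e.symm (j (a ⊗ₜ b)) = _
    rw [← map_smul]
    congr 1
    rw [hjtmul, TensorProduct.smul_tmul', smul_eq_mul, mul_one]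
  have hcompat : ∀ a : A₁, ι (algebraMap A₁ (A₁ ⊗[A₀] B₀) a) = algebraMap A B (algebraMap A₁ A a) := by
    intro a
    rw [Algebra.TensorProduct.algebraMap_apply, Algebra.algebraMap_self_apply, hιtmul]
    rw [← Algebra.TensorProduct.one_def, map_one, Algebra.smul_def, mul_one]
    rfl
  have hspan : Submodule.span A (Set.range ι) = ⊤ := by
    rw [Submodule.eq_top_iff']
    intro b
    obtain ⟨z, rfl⟩ := e.symm.surjective b
    induction z using TensorProduct.induction_on with
    | zero => simp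
    | tmul a b =>
      have h1 : (a ⊗ₜ[A₀] b : A ⊗[A₀] B₀) = a • (1 ⊗ₜ b) := by
        rw [TensorProduct.smul_tmul', smul_eq_mul, mul_one]
      rw [h1, map_smul]
      refine Submodule.smul_mem _ _ (Submodule.subset_span ⟨1 ⊗ₜ b, ?_⟩)
      rw [hιtmul]
      simp
    | add x y hx hy =>
      rw [map_add]
      exact Submodule.add_mem _ hx hy
  -- generators of the base change
  have hgen : Algebra.adjoin A₁ ((fun b : B₀ => (1 : A₁) ⊗ₜ[A₀] b) '' (t : Set B₀)) = ⊤ := by
    rw [Algebra.eq_top_iff]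
    intro z
    set S := Algebra.adjoin A₁ ((fun b : B₀ => (1 : A₁) ⊗ₜ[A₀] b) '' (t : Set B₀)) with hS
    have h1 : ∀ b : B₀, (1 : A₁) ⊗ₜ[A₀] b ∈ S := by
      intro b
      have hb : b ∈ Algebra.adjoin A₀ (t : Set B₀) := by rw [ht]; exact Algebra.mem_top
      induction hb using Algebra.adjoin_induction with
      | mem x hx => exact Algebra.subset_adjoin ⟨x, hx, rfl⟩
      | algebraMap r =>
        have h2 : (1 : A₁) ⊗ₜ[A₀] (algebraMap A₀ B₀ r) = algebraMap A₁ (A₁ ⊗[A₀] B₀) (algebraMap A₀ A₁ r) := by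
          rw [Algebra.TensorProduct.algebraMap_apply, Algebra.algebraMap_self_apply,
            Algebra.algebraMap_eq_smul_one, Algebra.algebraMap_eq_smul_one,
            TensorProduct.tmul_smul, TensorProduct.smul_tmul']
        rw [h2]
        exact Subalgebra.algebraMap_mem _ _
      | add x y _ _ hx hy =>
        rw [TensorProduct.tmul_add]
        exact Subalgebra.add_mem _ hx hy
      | mul x y _ _ hx hy =>
        have h3 : (1 : A₁) ⊗ₜ[A₀] (x * y) = ((1 : A₁) ⊗ₜ[A₀] x) * ((1 : A₁) ⊗ₜ[A₀] y) := by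
          rw [Algebra.TensorProduct.tmul_mul_tmul, mul_one]
        rw [h3]
        exact Subalgebra.mul_mem _ hx hy
    induction z using TensorProduct.induction_on with
    | zero => exact Subalgebra.zero_mem _
    | tmul a b =>
      have h4 : (a ⊗ₜ[A₀] b : A₁ ⊗[A₀] B₀) = a • ((1 : A₁) ⊗ₜ[A₀] b) := by
        rw [TensorProduct.smul_tmul', smul_eq_mul, mul_one]
      rw [h4]
      exact Subalgebra.smul_mem _ (h1 b) a
    | add x y hx hy => exact Subalgebra.add_mem _ hx hy
  -- integrality of the generators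
  have hintg : ∀ b ∈ t, IsIntegral A₁ ((1 : A₁) ⊗ₜ[A₀] b : A₁ ⊗[A₀] B₀) := by
    intro b hb
    have hl : F b ∈ Polynomial.lifts (algebraMap A₁ A) := by
      rw [Polynomial.lifts_iff_coeffs_subset_range]
      intro c hc
      have hc' : c ∈ (cs : Set A) := by
        rw [hcs]
        simp only [Finset.coe_biUnion, Set.mem_iUnion]
        exact ⟨b, hb, hc⟩
      exact ⟨⟨c, Algebra.subset_adjoin hc'⟩, rfl⟩
    obtain ⟨G, hG1, -, hG3⟩ := Polynomial.lifts_and_natDegree_eq_and_monic hl (hF1 b)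
    refine ⟨G, hG3, hιinj ?_⟩
    rw [map_zero, Polynomial.hom_eval₂]
    have h5 : (ι.comp (algebraMap A₁ (A₁ ⊗[A₀] B₀))) = (algebraMap A B).comp (algebraMap A₁ A) := by
      ext a
      exact hcompat a
    rw [h5, ← Polynomial.eval₂_map, hG1]
    have h6 : ι ((1 : A₁) ⊗ₜ[A₀] b) = e.symm (1 ⊗ₜ b) := by
      rw [hιtmul]; simp
    rw [h6]
    exact hF2 b
  have hfin : Module.Finite A₁ (A₁ ⊗[A₀] B₀) := by
    have h7 := fg_adjoin_of_finite (R := A₁) (s := (fun b : B₀ => (1 : A₁) ⊗ₜ[A₀] b) '' (t : Set B₀))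
      ((Finset.finite_toSet t).image _) (by
        rintro _ ⟨b, hb, rfl⟩
        exact hintg b hb)
    rw [hgen] at h7
    exact ⟨by simpa using h7⟩
  exact ⟨A₁, inferInstance, inferInstance, inferInstance, inferInstance, A₁ ⊗[A₀] B₀,
    inferInstance, inferInstance, ι, hft, hfin, inferInstance, hcompat, hspan⟩

theorem exists_field_algebra_charP (p : ℕ) [Fact p.Prime] (R : Type u) [CommRing R] [CharP R p] :
    ∃ (k : Type u) (_ : Field k) (_ : CharP k p), Nonempty (Algebra k R) := by
  letI : Algebra (ZMod p) R := ZMod.algebra R p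
  exact ⟨ULift.{u} (ZMod p), inferInstance, inferInstance, ⟨ULift.algebra' _ _⟩⟩

theorem exists_finite_etale_dominating_charP (p : ℕ) [Fact p.Prime] (R A B : Type u)
    [CommRing R] [CommRing A] [CommRing B] [CharP R p] [Algebra R A]
    (hRA : Function.Surjective (algebraMap R A)) [Algebra A B] [Module.Finite A B]
    [Algebra.Etale A B] :
    ∃ (C : Type u) (_ : CommRing C) (_ : Algebra R C), Module.Finite R C ∧ Algebra.Etale R C ∧
      ∃ ψ : A ⊗[R] C →ₐ[A] B, Function.Surjective ψ := by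
  classical
  obtain ⟨k, _, _, ⟨_⟩⟩ := exists_field_algebra_charP p R
  letI : Algebra k A := ((algebraMap R A).comp (algebraMap k R)).toAlgebra
  haveI : IsScalarTower k R A := IsScalarTower.of_algebraMap_eq' rfl
  obtain ⟨A₁, _, _, _, _, B₁, _, _, ι, hft, hfin, het, hcompat, hspan⟩ :=
    exists_finite_etale_descent k A B
  obtain ⟨n, f, hf⟩ := Algebra.FiniteType.iff_quotient_mvPolynomial''.mp hft
  set P := MvPolynomial (Fin n) k with hP
  letI : Algebra P A₁ := f.toRingHom.toAlgebra
  have hr : ∀ i, ∃ r : R, algebraMap R A r = algebraMap A₁ A (f (X i)) := fun i => hRA _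
  choose r hr using hr
  letI : Algebra P R := (aeval r : P →ₐ[k] R).toRingHom.toAlgebra
  letI : Algebra P A := ((algebraMap R A).comp (algebraMap P R)).toAlgebra
  haveI : IsScalarTower P R A := IsScalarTower.of_algebraMap_eq' rfl
  have hPA : ∀ g : P, algebraMap A₁ A (algebraMap P A₁ g) = algebraMap P A g := by
    intro g
    have h1 : (IsScalarTower.toAlgHom k A₁ A).comp f =
        (IsScalarTower.toAlgHom k R A).comp (aeval r : P →ₐ[k] R) := by
      apply MvPolynomial.algHom_ext
      intro i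
      simp only [AlgHom.comp_apply, aeval_X, IsScalarTower.coe_toAlgHom']
      exact (hr i).symm
    exact congrArg (fun φ : P →ₐ[k] A => φ g) h1
  haveI : IsScalarTower P A₁ A := IsScalarTower.of_algebraMap_eq (fun g => (hPA g).symm)
  obtain ⟨C₀, _, _, hC₀fin, hC₀et, ψ₀, hψ₀⟩ := exists_finite_etale_dominating' k p n A₁ hf B₁
  letI : Algebra P B := ((algebraMap A B).comp (algebraMap P A)).toAlgebra
  haveI : IsScalarTower P A B := IsScalarTower.of_algebraMap_eq' rfl
  letI : Algebra R B := ((algebraMap A B).comp (algebraMap R A)).toAlgebra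
  haveI : IsScalarTower R A B := IsScalarTower.of_algebraMap_eq' rfl
  haveI : IsScalarTower P R B := IsScalarTower.of_algebraMap_eq' rfl
  -- the map `C₀ → B`
  let g₀ : C₀ →ₐ[P] B :=
    { ι.comp ((ψ₀ : A₁ ⊗[P] C₀ →+* B₁).comp
        (Algebra.TensorProduct.includeRight : C₀ →ₐ[P] A₁ ⊗[P] C₀).toRingHom) with
      commutes' := by
        intro g
        change ι (ψ₀ ((1 : A₁) ⊗ₜ[P] (algebraMap P C₀ g))) = algebraMap P B g
        have h1 : ((1 : A₁) ⊗ₜ[P] (algebraMap P C₀ g) : A₁ ⊗[P] C₀) =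
            algebraMap A₁ (A₁ ⊗[P] C₀) (algebraMap P A₁ g) := by
          rw [Algebra.TensorProduct.algebraMap_apply, Algebra.algebraMap_self_apply,
            Algebra.algebraMap_eq_smul_one, Algebra.algebraMap_eq_smul_one,
            TensorProduct.tmul_smul, TensorProduct.smul_tmul']
        rw [h1, ψ₀.commutes, hcompat, hPA]
        rfl }
  have hg₀ : ∀ c : C₀, g₀ c = ι (ψ₀ ((1 : A₁) ⊗ₜ[P] c)) := fun c => rfl
  let g : R ⊗[P] C₀ →ₐ[R] B :=
    Algebra.TensorProduct.lift (Algebra.ofId R B) g₀ (fun _ _ => Commute.all _ _)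
  refine ⟨R ⊗[P] C₀, inferInstance, inferInstance, inferInstance, inferInstance,
    Algebra.TensorProduct.lift (Algebra.ofId A B) g (fun _ _ => Commute.all _ _), ?_⟩
  set ψ : A ⊗[R] (R ⊗[P] C₀) →ₐ[A] B :=
    Algebra.TensorProduct.lift (Algebra.ofId A B) g (fun _ _ => Commute.all _ _) with hψ
  have hψc : ∀ c : C₀, ψ (1 ⊗ₜ (1 ⊗ₜ c)) = g₀ c := by
    intro c
    simp [hψ, g]
  -- `includeRight` is surjective
  have hincl : ∀ z : A₁ ⊗[P] C₀, ∃ c : C₀, z = (1 : A₁) ⊗ₜ[P] c := by
    intro z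
    induction z using TensorProduct.induction_on with
    | zero => exact ⟨0, by simp⟩
    | tmul a c =>
      obtain ⟨q, rfl⟩ := hf a
      refine ⟨q • c, ?_⟩
      rw [TensorProduct.tmul_smul, TensorProduct.smul_tmul', Algebra.smul_def, mul_one]
      rfl
    | add x y hx hy =>
      obtain ⟨c, rfl⟩ := hx
      obtain ⟨d, rfl⟩ := hy
      exact ⟨c + d, by rw [TensorProduct.tmul_add]⟩
  have hrange : Set.range ι ⊆ (LinearMap.range ψ.toLinearMap : Set B) := by
    rintro _ ⟨b₁, rfl⟩
    obtain ⟨z, rfl⟩ := hψ₀ b₁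
    obtain ⟨c, rfl⟩ := hincl z
    exact ⟨1 ⊗ₜ (1 ⊗ₜ c), by rw [AlgHom.toLinearMap_apply, hψc, hg₀]⟩
  have htop : LinearMap.range ψ.toLinearMap = ⊤ := by
    rw [eq_top_iff, ← hspan]
    exact Submodule.span_le.mpr hrange
  intro b
  have hb : b ∈ LinearMap.range ψ.toLinearMap := by rw [htop]; exact Submodule.mem_top
  obtain ⟨z, hz⟩ := hb
  exact ⟨z, hz⟩

end Groth.Agent.Lib.Helper11.Ked
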