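import Mathlib
import Groth.Agent.Lib.Helper28.FlatCxBounded
import Groth.Agent.Lib.Helper16.HNF1

/-!
# Künneth (flat cohomology), part 1: flatness package for a bounded above complex with flat
terms and flat cohomology.
-/

set_option autoImplicit false
universe u
open CategoryTheory CategoryTheory.Limits MonoidalCategory HomologicalComplex TensorProduct Function

namespace Groth.Agent.Lib.Helper11.Kun

open Groth.Agent.Lib.Helper28.FlatCx Groth.Agent.Lib.Helper16.HNF

section LinAlg

variable {A : Type u} [CommRing A]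
variable {X' X M' M : Type u} [AddCommGroup X'] [Module A X'] [AddCommGroup X] [Module A X]
  [AddCommGroup M'] [Module A M'] [AddCommGroup M] [Module A M]

/-- **Lemma A**: an element of `X ⊗ M` that comes from `X' ⊗ M` (via `d ⊗ 1`) and from `X ⊗ M'`
(via `1 ⊗ g`) comes from `X' ⊗ M'`, provided `range d ⊗ N → X ⊗ N` is always injective. -/
theorem lemA (d : X' →ₗ[A] X) (g : M' →ₗ[A] M)
    (hinj : ∀ (N : Type u) [AddCommGroup N] [Module A N],
      Injective (LinearMap.rTensor N (LinearMap.range d).subtype))
    (a : X' ⊗[A] M) (b : X ⊗[A] M') (hab : LinearMap.rTensor M d a = LinearMap.lTensor X g b) :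
    ∃ c : X' ⊗[A] M', LinearMap.rTensor M d a = LinearMap.lTensor X g (LinearMap.rTensor M' d c) := by
  set B := LinearMap.range d
  set d' : X' →ₗ[A] B := d.rangeRestrict
  have hd : d = B.subtype ∘ₗ d' := (LinearMap.subtype_comp_codRestrict _ _ _).symm
  set Q := M ⧸ LinearMap.range g
  set q : M →ₗ[A] Q := (LinearMap.range g).mkQ
  have hq : Exact g q := LinearMap.exact_map_mkQ_range g
  have hqs : Surjective q := Submodule.mkQ_surjective _
  set β : B ⊗[A] M := LinearMap.rTensor M d' a
  have hy : LinearMap.rTensor M d a = LinearMap.rTensor M B.subtype β := by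
    rw [hd, LinearMap.rTensor_comp, LinearMap.comp_apply]
  have h0 : LinearMap.lTensor B q β = 0 := by
    apply hinj Q
    rw [map_zero, ← LinearMap.comp_apply, LinearMap.rTensor_comp_lTensor,
      ← LinearMap.lTensor_comp_rTensor, LinearMap.comp_apply, ← hy, hab, ← LinearMap.comp_apply,
      ← LinearMap.lTensor_comp, hq.linearMap_comp_eq_zero, LinearMap.lTensor_zero,
      LinearMap.zero_apply]
  obtain ⟨β', hβ'⟩ := (lTensor_exact B hq hqs β).1 h0
  obtain ⟨c, rfl⟩ := LinearMap.rTensor_surjective M' (LinearMap.surjective_rangeRestrict d) β'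
  refine ⟨c, ?_⟩
  rw [hy, ← hβ', ← LinearMap.comp_apply, LinearMap.rTensor_comp_lTensor,
    ← LinearMap.lTensor_comp_rTensor, LinearMap.comp_apply, ← LinearMap.comp_apply (LinearMap.rTensor M' B.subtype),
    ← LinearMap.rTensor_comp, ← hd]

/-- **Lemma B**: if `(d ⊗ 1) x = 0` then `x` comes from `ker d ⊗ N`, provided
`range d ⊗ N → X ⊗ N` is injective. -/
theorem lemB {C : Type u} [AddCommGroup C] [Module A C] (κ : C →ₗ[A] X') (d : X' →ₗ[A] X)
    (hκd : Exact κ d) (N : Type u) [AddCommGroup N] [Module A N]
    (hinj : Injective (LinearMap.rTensor N (LinearMap.range d).subtype))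
    (x : X' ⊗[A] N) (hx : LinearMap.rTensor N d x = 0) :
    ∃ c : C ⊗[A] N, LinearMap.rTensor N κ c = x := by
  set B := LinearMap.range d
  set d' : X' →ₗ[A] B := d.rangeRestrict
  have hd : d = B.subtype ∘ₗ d' := (LinearMap.subtype_comp_codRestrict _ _ _).symm
  have hκd' : Exact κ d' := by
    intro y
    rw [← hκd y]
    constructor
    · intro h; exact congrArg Subtype.val h
    · intro h; exact Subtype.ext h
  have h0 : LinearMap.rTensor N d' x = 0 := by
    apply hinj
    rw [map_zero, ← LinearMap.comp_apply, ← LinearMap.rTensor_comp, ← hd, hx]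
  exact (rTensor_exact N hκd' (LinearMap.surjective_rangeRestrict d) x).1 h0

theorem rTensor_injective_of_exact_of_flat {X₁ X₂ X₃ : Type u} [AddCommGroup X₁] [Module A X₁]
    [AddCommGroup X₂] [Module A X₂] [AddCommGroup X₃] [Module A X₃] [Module.Flat A X₃]
    (ι : X₁ →ₗ[A] X₂) (π : X₂ →ₗ[A] X₃) (hι : Injective ι) (hπ : Surjective π) (hex : Exact ι π)
    (N : Type u) [AddCommGroup N] [Module A N] : Injective (LinearMap.rTensor N ι) := by
  rw [← LinearMap.lTensor_inj_iff_rTensor_inj]
  exact LinearMap.lTensor_injective_of_exact_of_flat π hπ ι hι hex N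

end LinAlg

variable {A : Type u} [CommRing A] (P : CochainComplex (ModuleCat.{u} A) ℤ)

/-- boundaries inside the cycles object -/
noncomputable def Bc (i : ℤ) : Submodule A (P.cycles i) := LinearMap.range (P.toCycles (i - 1) i).hom

/-- `X^i → Bc (i+1)` -/
noncomputable def toBc (i : ℤ) : P.X i →ₗ[A] Bc P (i + 1) :=
  LinearMap.codRestrict _ (P.toCycles i (i + 1)).hom (fun x => by
    have h : i + 1 - 1 = i := by omega
    unfold Bc
    rw [h]
    exact ⟨x, rfl⟩)

theorem toBc_surjective (i : ℤ) : Surjective (toBc P i) := by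
  rintro ⟨y, hy⟩
  have h : i + 1 - 1 = i := by omega
  unfold Bc at hy
  rw [h] at hy
  obtain ⟨x, rfl⟩ := hy
  exact ⟨x, rfl⟩

theorem exact_iCycles_toBc (i : ℤ) : Exact (P.iCycles i).hom (toBc P i) := by
  intro x
  have := exact_iCycles_toCycles P i (i + 1) (by simp) x
  rw [← this]
  constructor
  · intro h; exact congrArg Subtype.val h
  · intro h; exact Subtype.ext h

theorem homologyπ_surjective (i : ℤ) : Surjective (P.homologyπ i).hom :=
  (ModuleCat.epi_iff_surjective _).1 inferInstance

theorem pOpcycles_surjective' (i : ℤ) : Surjective (P.pOpcycles i).hom :=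
  (ModuleCat.epi_iff_surjective _).1 inferInstance

theorem homologyι_injective' (i : ℤ) : Injective (P.homologyι i).hom :=
  (ModuleCat.mono_iff_injective _).1 inferInstance

theorem iCycles_injective' (i : ℤ) : Injective (P.iCycles i).hom :=
  (ModuleCat.mono_iff_injective _).1 inferInstance

theorem exact_Bc_homologyπ (i : ℤ) : Exact (Bc P i).subtype (P.homologyπ i).hom := by
  intro z
  have := exact_toCycles_homologyπ P (i - 1) i (by simp) z
  refine this.trans ?_
  constructor
  · rintro ⟨x, rfl⟩; exact ⟨⟨_, x, rfl⟩, rfl⟩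
  · rintro ⟨⟨_, x, rfl⟩, rfl⟩; exact ⟨x, rfl⟩

/-- `opcycles i → Bc (i+1)` -/
noncomputable def opToBc (i : ℤ) : P.opcycles i →ₗ[A] Bc P (i + 1) :=
  LinearMap.codRestrict _ (P.opcyclesToCycles i (i + 1)).hom (fun x => by
    obtain ⟨y, rfl⟩ := pOpcycles_surjective' P i x
    have h : i + 1 - 1 = i := by omega
    unfold Bc
    rw [h]
    refine ⟨y, ?_⟩
    exact congrArg (fun f => f.hom y) (P.pOpcycles_opcyclesToCycles i (i + 1)).symm)

theorem opToBc_pOpcycles (i : ℤ) (y : P.X i) : opToBc P i ((P.pOpcycles i).hom y) = toBc P i y := by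
  apply Subtype.ext
  exact congrArg (fun f => f.hom y) (P.pOpcycles_opcyclesToCycles i (i + 1))

theorem opToBc_surjective (i : ℤ) : Surjective (opToBc P i) := by
  intro z
  obtain ⟨y, rfl⟩ := toBc_surjective P i z
  exact ⟨_, opToBc_pOpcycles P i y⟩

theorem exact_homologyι_opToBc (i : ℤ) : Exact (P.homologyι i).hom (opToBc P i) := by
  have hex : (ShortComplex.mk (P.homologyι i) (P.fromOpcycles i (i + 1))
      (P.homologyι_comp_fromOpcycles i (i + 1))).Exact :=
    ShortComplex.exact_of_f_is_kernel _ (P.homologyIsKernel i (i + 1) (by simp))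
  have h2 : Exact (P.homologyι i).hom (P.fromOpcycles i (i + 1)).hom :=
    (ShortComplex.ShortExact.moduleCat_exact_iff_function_exact _).mp hex
  intro x
  rw [← h2 x]
  have hfo : (P.fromOpcycles i (i + 1)).hom x =
      (P.iCycles (i + 1)).hom ((P.opcyclesToCycles i (i + 1)).hom x) :=
    congrArg (fun f => f.hom x) (P.opcyclesToCycles_iCycles i (i + 1)).symm
  constructor
  · intro h
    have : (P.opcyclesToCycles i (i + 1)).hom x = 0 := congrArg Subtype.val h
    rw [hfo, this, map_zero]
  · intro h
    apply Subtype.ext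
    apply iCycles_injective' P (i + 1)
    change (P.iCycles (i + 1)).hom ((P.opcyclesToCycles i (i + 1)).hom x) = _
    rw [← hfo, h]
    simp

theorem exact_d_pOpcycles (i : ℤ) : Exact (P.d (i - 1) i).hom (P.pOpcycles i).hom := by
  have hex : (ShortComplex.mk (P.d (i - 1) i) (P.pOpcycles i) (P.d_pOpcycles (i - 1) i)).Exact :=
    ShortComplex.exact_of_g_is_cokernel _ (P.opcyclesIsCokernel (i - 1) i (by simp))
  exact (ShortComplex.ShortExact.moduleCat_exact_iff_function_exact _).mp hex

section Flat

variable (hflat : ∀ i, Module.Flat A (P.X i)) (hH : ∀ i, Module.Flat A (P.homology i))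
  (b : ℤ) (hb : ∀ i, b < i → IsZero (P.X i))

include hflat hH hb

theorem flat_Bc (i : ℤ) : Module.Flat A (Bc P i) := by
  have key : ∀ k : ℕ, ∀ i : ℤ, b + 1 ≤ i + k → Module.Flat A (Bc P i) := by
    intro k
    induction k with
    | zero =>
      intro i hi
      have := subsingleton_cycles_of_isZero P i (hb i (by omega))
      have : Subsingleton (Bc P i) := inferInstance
      infer_instance
    | succ k ih =>
      intro i hi
      have h1 : Module.Flat A (Bc P (i + 1)) := ih (i + 1) (by push_cast at hi ⊢; omega)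
      have h2 := hflat i
      have h3 : Module.Flat A (P.cycles i) :=
        flat_left_of_exact (P.iCycles i).hom (toBc P i) (iCycles_injective' P i)
          (toBc_surjective P i) (exact_iCycles_toBc P i)
      have h4 := hH i
      exact flat_left_of_exact (Bc P i).subtype (P.homologyπ i).hom (Submodule.subtype_injective _)
        (homologyπ_surjective P i) (exact_Bc_homologyπ P i)
  exact key (b + 1 - i).toNat i (by omega)

theorem flat_cycles (i : ℤ) : Module.Flat A (P.cycles i) := by
  have h1 : Module.Flat A (Bc P (i + 1)) := flat_Bc P hflat hH b hb (i + 1)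
  have h2 := hflat i
  exact flat_left_of_exact (P.iCycles i).hom (toBc P i) (iCycles_injective' P i)
    (toBc_surjective P i) (exact_iCycles_toBc P i)

theorem flat_opcycles (i : ℤ) : Module.Flat A (P.opcycles i) := by
  have h1 : Module.Flat A (Bc P (i + 1)) := flat_Bc P hflat hH b hb (i + 1)
  have h2 := hH i
  exact flat_mid_of_exact (P.homologyι i).hom (opToBc P i) (homologyι_injective' P i)
    (opToBc_surjective P i) (exact_homologyι_opToBc P i)

/-- (K3) -/
theorem rTensor_iCycles_injective (i : ℤ) (N : Type u) [AddCommGroup N] [Module A N] :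
    Injective (LinearMap.rTensor N (P.iCycles i).hom) := by
  have h1 : Module.Flat A (Bc P (i + 1)) := flat_Bc P hflat hH b hb (i + 1)
  exact rTensor_injective_of_exact_of_flat (P.iCycles i).hom (toBc P i) (iCycles_injective' P i)
    (toBc_surjective P i) (exact_iCycles_toBc P i) N

/-- (K4) -/
theorem rTensor_homologyι_injective (i : ℤ) (N : Type u) [AddCommGroup N] [Module A N] :
    Injective (LinearMap.rTensor N (P.homologyι i).hom) := by
  have h1 : Module.Flat A (Bc P (i + 1)) := flat_Bc P hflat hH b hb (i + 1)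
  exact rTensor_injective_of_exact_of_flat (P.homologyι i).hom (opToBc P i)
    (homologyι_injective' P i) (opToBc_surjective P i) (exact_homologyι_opToBc P i) N

/-- (K6) -/
theorem rTensor_range_d_injective (i : ℤ) (N : Type u) [AddCommGroup N] [Module A N] :
    Injective (LinearMap.rTensor N (LinearMap.range (P.d (i - 1) i).hom).subtype) := by
  have h1 : Module.Flat A (P.opcycles i) := flat_opcycles P hflat hH b hb i
  refine rTensor_injective_of_exact_of_flat _ (P.pOpcycles i).hom (Submodule.subtype_injective _)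
    (pOpcycles_surjective' P i) ?_ N
  intro x
  rw [exact_d_pOpcycles P i x]
  constructor
  · rintro ⟨y, rfl⟩; exact ⟨⟨_, y, rfl⟩, rfl⟩
  · rintro ⟨⟨_, y, rfl⟩, rfl⟩; exact ⟨y, rfl⟩

end Flat

end Groth.Agent.Lib.Helper11.Kun
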