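import Mathlib
import Groth.Prelude.Def_HTor

/-!
# Künneth filtration, part 5: subquotient calculus and direct sum utilities
-/

set_option autoImplicit false
set_option linter.unusedSectionVars false
universe u v
open Function

namespace Groth.Agent.Lib.Helper11.Kun

section SQ

variable {R : Type v} [CommRing R]
variable {N N' T T' : Type u} [AddCommGroup N] [Module R N] [AddCommGroup N'] [Module R N']
  [AddCommGroup T] [Module R T] [AddCommGroup T'] [Module R T']

theorem isSubquotient_iff :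
    HTor.IsSubquotient R N T ↔ ∃ (S' : Submodule R T) (g : S' →ₗ[R] N), Surjective g := by
  constructor
  · rintro ⟨S, S', _, ⟨e⟩⟩
    refine ⟨S', e.symm.toLinearMap ∘ₗ (Submodule.comap S'.subtype S).mkQ, ?_⟩
    exact e.symm.surjective.comp (Submodule.mkQ_surjective _)
  · rintro ⟨S', g, hg⟩
    refine ⟨Submodule.map S'.subtype (LinearMap.ker g), S', Submodule.map_subtype_le _ _, ?_⟩
    have h1 : Submodule.comap S'.subtype (Submodule.map S'.subtype (LinearMap.ker g)) =
        LinearMap.ker g :=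
      Submodule.comap_map_eq_of_injective (Submodule.subtype_injective _) _
    exact ⟨(g.quotKerEquivOfSurjective hg).symm ≪≫ₗ (Submodule.quotEquivOfEq _ _ h1.symm)⟩

theorem isSubquotient_of_surjective (f : T →ₗ[R] N) (hf : Surjective f) :
    HTor.IsSubquotient R N T := by
  rw [isSubquotient_iff]
  refine ⟨⊤, f ∘ₗ (⊤ : Submodule R T).subtype, ?_⟩
  intro y
  obtain ⟨x, rfl⟩ := hf y
  exact ⟨⟨x, trivial⟩, rfl⟩

theorem isSubquotient_refl : HTor.IsSubquotient R T T :=
  isSubquotient_of_surjective LinearMap.id surjective_id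

theorem isSubquotient_of_subsingleton [Subsingleton N] : HTor.IsSubquotient R N T := by
  rw [isSubquotient_iff]
  refine ⟨⊥, 0, ?_⟩
  intro y
  exact ⟨0, Subsingleton.elim _ _⟩

theorem IsSubquotient.of_surjective (f : N' →ₗ[R] N) (hf : Surjective f)
    (h : HTor.IsSubquotient R N' T) : HTor.IsSubquotient R N T := by
  rw [isSubquotient_iff] at h ⊢
  obtain ⟨S', g, hg⟩ := h
  exact ⟨S', f ∘ₗ g, hf.comp hg⟩

theorem IsSubquotient.of_injective (f : N →ₗ[R] N') (hf : Injective f)
    (h : HTor.IsSubquotient R N' T) : HTor.IsSubquotient R N T := by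
  rw [isSubquotient_iff] at h ⊢
  obtain ⟨S', g, hg⟩ := h
  -- S'' = g ⁻¹ (range f) inside S'
  set S'' : Submodule R S' := Submodule.comap g (LinearMap.range f) with hS''
  set e := LinearEquiv.ofInjective f hf
  -- the map S'' → range f
  let g1 : S'' →ₗ[R] LinearMap.range f :=
    LinearMap.codRestrict _ (g ∘ₗ S''.subtype) (fun x => x.2)
  have hg1 : Surjective g1 := by
    rintro ⟨y, hy⟩
    obtain ⟨x, hx⟩ := hg y
    refine ⟨⟨x, ?_⟩, ?_⟩
    · rw [hS'', Submodule.mem_comap, hx]; exact hy
    · apply Subtype.ext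
      exact hx
  let em := Submodule.equivMapOfInjective S'.subtype (Submodule.subtype_injective _) S''
  refine ⟨Submodule.map S'.subtype S'', e.symm.toLinearMap ∘ₗ g1 ∘ₗ em.symm.toLinearMap, ?_⟩
  exact e.symm.surjective.comp (hg1.comp em.symm.surjective)

theorem IsSubquotient.of_equiv_right (e : T ≃ₗ[R] T') (h : HTor.IsSubquotient R N T) :
    HTor.IsSubquotient R N T' := by
  rw [isSubquotient_iff] at h ⊢
  obtain ⟨S', g, hg⟩ := h
  let em := Submodule.equivMapOfInjective e.toLinearMap e.injective S'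
  exact ⟨Submodule.map e.toLinearMap S', g ∘ₗ em.symm.toLinearMap, hg.comp em.symm.surjective⟩

/-- the graded piece of a pulled back filtration injects -/
theorem isSubquotient_comap {H H' : Type u} [AddCommGroup H] [Module R H] [AddCommGroup H']
    [Module R H'] (δ : H →ₗ[R] H') (F₁ F₂ : Submodule R H')
    (h : HTor.IsSubquotient R (↥F₂ ⧸ Submodule.comap F₂.subtype F₁) T) :
    HTor.IsSubquotient R (↥(Submodule.comap δ F₂) ⧸
      Submodule.comap (Submodule.comap δ F₂).subtype (Submodule.comap δ F₁)) T := by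
  let r : ↥(Submodule.comap δ F₂) →ₗ[R] ↥F₂ := δ.restrict (fun x hx => hx)
  have hr : Submodule.comap (Submodule.comap δ F₂).subtype (Submodule.comap δ F₁) ≤
      Submodule.comap r (Submodule.comap F₂.subtype F₁) := by
    intro x hx
    exact hx
  refine IsSubquotient.of_injective (Submodule.mapQ _ _ r hr) ?_ h
  rw [injective_iff_map_eq_zero]
  intro x hx
  obtain ⟨x, rfl⟩ := Submodule.mkQ_surjective _ x
  rw [Submodule.mkQ_apply, Submodule.mapQ_apply, Submodule.Quotient.mk_eq_zero] at hx
  rw [Submodule.mkQ_apply, Submodule.Quotient.mk_eq_zero]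
  exact hx

/-- the bottom graded piece of a pulled back filtration -/
theorem isSubquotient_comap_ker {H H' : Type u} [AddCommGroup H] [Module R H] [AddCommGroup H']
    [Module R H'] (δ : H →ₗ[R] H') (F₀ : Submodule R H) (hF₀ : F₀ = LinearMap.ker δ)
    (F₁ V : Submodule R H') (hV : F₁ ⊓ LinearMap.range δ ≤ V)
    (h : HTor.IsSubquotient R ↥V T) :
    HTor.IsSubquotient R (↥(Submodule.comap δ F₁) ⧸
      Submodule.comap (Submodule.comap δ F₁).subtype F₀) T := by
  let r : ↥(Submodule.comap δ F₁) →ₗ[R] ↥V :=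
    LinearMap.codRestrict V (δ ∘ₗ (Submodule.comap δ F₁).subtype)
      (fun x => hV ⟨x.2, ⟨x.1, rfl⟩⟩)
  have hr : Submodule.comap (Submodule.comap δ F₁).subtype F₀ ≤ LinearMap.ker r := by
    intro x hx
    rw [Submodule.mem_comap, hF₀, LinearMap.mem_ker] at hx
    rw [LinearMap.mem_ker]
    apply Subtype.ext
    exact hx
  refine IsSubquotient.of_injective (Submodule.liftQ _ r hr) ?_ h
  rw [injective_iff_map_eq_zero]
  intro x hx
  obtain ⟨x, rfl⟩ := Submodule.mkQ_surjective _ x
  rw [Submodule.mkQ_apply, Submodule.liftQ_apply] at hx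
  rw [Submodule.mkQ_apply, Submodule.Quotient.mk_eq_zero, Submodule.mem_comap, hF₀,
    LinearMap.mem_ker]
  exact congrArg Subtype.val hx

end SQ

section DS

variable {A : Type u} [CommRing A] {ι κ : Type} [DecidableEq ι] [DecidableEq κ]

theorem nonempty_directSum_equiv (σ : ι ≃ κ) (X : ι → Type u) (Y : κ → Type u)
    [∀ i, AddCommGroup (X i)] [∀ i, Module A (X i)] [∀ k, AddCommGroup (Y k)]
    [∀ k, Module A (Y k)] (e : ∀ i, X i ≃ₗ[A] Y (σ i)) :
    Nonempty ((DirectSum ι X) ≃ₗ[A] DirectSum κ Y) := by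
  let e1 : (DirectSum ι X) ≃ₗ[A] DirectSum ι (fun i => Y (σ i)) := DFinsupp.mapRange.linearEquiv e
  let e2 : (DirectSum κ Y) ≃ₗ[A] DirectSum ι (fun i => Y (σ.symm.symm i)) :=
    DirectSum.lequivCongrLeft A σ.symm
  exact ⟨e1 ≪≫ₗ e2.symm⟩

variable {X Y : ι → Type u} [∀ i, AddCommGroup (X i)] [∀ i, Module A (X i)]
  [∀ i, AddCommGroup (Y i)] [∀ i, Module A (Y i)] (f : ∀ i, X i →ₗ[A] Y i)

theorem mem_ker_lmap (ξ : DirectSum ι X) :
    ξ ∈ LinearMap.ker (DirectSum.lmap f) ↔ ∀ i, ξ i ∈ LinearMap.ker (f i) := by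
  rw [LinearMap.mem_ker]
  constructor
  · intro h i
    rw [LinearMap.mem_ker, ← DirectSum.lmap_apply, h]
    rfl
  · intro h
    apply DFinsupp.ext
    intro i
    rw [DirectSum.lmap_apply]
    exact h i

/-- `⊕ ker f_i → ker (⊕ f_i)` -/
noncomputable def kerSumMap :
    (DirectSum ι fun i => LinearMap.ker (f i)) →ₗ[A] LinearMap.ker (DirectSum.lmap f) :=
  LinearMap.codRestrict _ (DirectSum.lmap (fun i => (LinearMap.ker (f i)).subtype)) (fun τ => by
    rw [mem_ker_lmap]
    intro i
    rw [DirectSum.lmap_apply]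
    exact (τ i).2)

theorem kerSumMap_bijective : Bijective (kerSumMap f) := by
  classical
  constructor
  · have h1 : Injective (DirectSum.lmap (fun i => (LinearMap.ker (f i)).subtype)) := by
      rw [DirectSum.lmap_injective]
      intro i
      exact Submodule.subtype_injective _
    intro a b hab
    apply h1
    exact congrArg Subtype.val hab
  · rintro ⟨ξ, hξ⟩
    rw [mem_ker_lmap] at hξ
    refine ⟨DirectSum.mk _ (DFinsupp.support ξ) (fun i => ⟨ξ i.1, hξ i.1⟩), ?_⟩
    apply Subtype.ext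
    apply DFinsupp.ext
    intro i
    change (DirectSum.lmap (fun i => (LinearMap.ker (f i)).subtype) _) i = ξ i
    rw [DirectSum.lmap_apply]
    by_cases hi : i ∈ DFinsupp.support ξ
    · rw [DirectSum.mk_apply_of_mem hi]
      rfl
    · rw [DirectSum.mk_apply_of_notMem hi]
      rw [DFinsupp.notMem_support_iff] at hi
      rw [hi]
      rfl

theorem nonempty_ker_lmap_equiv :
    Nonempty (LinearMap.ker (DirectSum.lmap f) ≃ₗ[A] DirectSum ι fun i => LinearMap.ker (f i)) :=
  ⟨(LinearEquiv.ofBijective (kerSumMap f) (kerSumMap_bijective f)).symm⟩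

end DS

end Groth.Agent.Lib.Helper11.Kun
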