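import Mathlib
import Groth.Agent.Lib.Helper11.Kun1
import Groth.Agent.Lib.Helper28.TensorCxRel
import Groth.Prelude.Def_HTor

/-!
# Künneth (flat cohomology), part 2: construction of the Künneth map
-/

set_option autoImplicit false
universe u
open CategoryTheory CategoryTheory.Limits MonoidalCategory HomologicalComplex TensorProduct Function

namespace Groth.Agent.Lib.Helper11.Kun

open Groth.Agent.Lib.Helper28.TensorCx Groth.Agent.Lib.Helper28.FlatCx

section Descend

variable {A : Type u} [CommRing A] {M N W : Type u} [AddCommGroup M] [Module A M]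
  [AddCommGroup N] [Module A N] [AddCommGroup W] [Module A W]

/-- descend a linear map along a surjection -/
noncomputable def descend (p : M →ₗ[A] N) (hp : Surjective p) (f : M →ₗ[A] W)
    (h : LinearMap.ker p ≤ LinearMap.ker f) : N →ₗ[A] W :=
  (LinearMap.ker p).liftQ f h ∘ₗ (p.quotKerEquivOfSurjective hp).symm.toLinearMap

theorem descend_apply (p : M →ₗ[A] N) (hp : Surjective p) (f : M →ₗ[A] W)
    (h : LinearMap.ker p ≤ LinearMap.ker f) (x : M) : descend p hp f h (p x) = f x := by
  unfold descend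
  rw [LinearMap.comp_apply, LinearEquiv.coe_coe, LinearMap.quotKerEquivOfSurjective_symm_apply,
    Submodule.liftQ_apply]

end Descend

variable {A : Type u} [CommRing A]

section Cyc

variable (K : CochainComplex (ModuleCat.{u} A) ℤ)

/-- lift an element killed by `d` to the cycles object -/
noncomputable def cycLift (i : ℤ) : LinearMap.ker (K.d i (i + 1)).hom →ₗ[A] K.cycles i :=
  (K.liftCycles (ModuleCat.ofHom (LinearMap.ker (K.d i (i + 1)).hom).subtype) (i + 1) (by simp)
    (by ext x; exact x.2)).hom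

theorem iCycles_cycLift (i : ℤ) (x : LinearMap.ker (K.d i (i + 1)).hom) :
    (K.iCycles i).hom (cycLift K i x) = x.1 := by
  have := K.liftCycles_i (ModuleCat.ofHom (LinearMap.ker (K.d i (i + 1)).hom).subtype) (i + 1)
    (by simp) (by ext x; exact x.2)
  exact congrArg (fun f => f.hom x) this

theorem d_iCycles (i j : ℤ) (z : K.cycles i) : (K.d i j).hom ((K.iCycles i).hom z) = 0 :=
  congrArg (fun f => f.hom z) (K.iCycles_d i j)

theorem iCycles_toCycles (i j : ℤ) (x : K.X i) :
    (K.iCycles j).hom ((K.toCycles i j).hom x) = (K.d i j).hom x :=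
  congrArg (fun f => f.hom x) (K.toCycles_i i j)

theorem homologyπ_toCycles (i j : ℤ) (x : K.X i) :
    (K.homologyπ j).hom ((K.toCycles i j).hom x) = 0 :=
  congrArg (fun f => f.hom x) (K.toCycles_comp_homologyπ i j)

theorem exists_toCycles_of_homologyπ_eq_zero (j : ℤ) (z : K.cycles j)
    (hz : (K.homologyπ j).hom z = 0) : ∃ x : K.X (j - 1), (K.toCycles (j - 1) j).hom x = z :=
  (exact_toCycles_homologyπ K (j - 1) j (by simp) z).1 hz

end Cyc

variable (P M : CochainComplex (ModuleCat.{u} A) ℤ)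

theorem whiskerRight_tmul (a a' b : ℤ) (x : P.X a) (y : M.X b) :
    (P.d a a' ▷ M.X b).hom (x ⊗ₜ[A] y) = ((P.d a a').hom x) ⊗ₜ[A] y := rfl

theorem whiskerLeft_tmul (a b b' : ℤ) (x : P.X a) (y : M.X b) :
    (P.X a ◁ M.d b b').hom (x ⊗ₜ[A] y) = x ⊗ₜ[A] ((M.d b b').hom y) := rfl

theorem whiskerRight_eq (a a' b : ℤ) :
    (P.d a a' ▷ M.X b).hom = LinearMap.rTensor (M.X b) (P.d a a').hom := rfl

theorem whiskerLeft_eq (a b b' : ℤ) :
    (P.X a ◁ M.d b b').hom = LinearMap.lTensor (P.X a) (M.d b b').hom := rfl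

/-- the map `Z^i(P) ⊗ Z^j(M) → (P ⊗ M)^n` -/
noncomputable def gmap (n i j : ℤ) (h : i + j = n) :
    (P.cycles i ⊗[A] M.cycles j) →ₗ[A] (HomologicalComplex.tensorObj P M).X n :=
  ι P M n i j h ∘ₗ TensorProduct.map (P.iCycles i).hom (M.iCycles j).hom

theorem gmap_tmul (n i j : ℤ) (h : i + j = n) (z : P.cycles i) (z' : M.cycles j) :
    gmap P M n i j h (z ⊗ₜ z') = ι P M n i j h ((P.iCycles i).hom z ⊗ₜ[A] (M.iCycles j).hom z') := rfl

theorem d_gmap (n i j : ℤ) (h : i + j = n) (t : P.cycles i ⊗[A] M.cycles j) :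
    ((HomologicalComplex.tensorObj P M).d n (n + 1)).hom (gmap P M n i j h t) = 0 := by
  induction t using TensorProduct.induction_on with
  | zero => simp
  | tmul z z' =>
    rw [gmap_tmul, d_ι P M n (n + 1) rfl i j (i + 1) (j + 1) h rfl rfl, whiskerRight_tmul,
      whiskerLeft_tmul, d_iCycles, d_iCycles]
    simp
  | add x y hx hy => rw [map_add, map_add, hx, hy, add_zero]

/-- the map `Z^i(P) ⊗ Z^j(M) → Z^n(P ⊗ M)` -/
noncomputable def gcyc (n i j : ℤ) (h : i + j = n) :
    (P.cycles i ⊗[A] M.cycles j) →ₗ[A] (HomologicalComplex.tensorObj P M).cycles n :=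
  cycLift (HomologicalComplex.tensorObj P M) n ∘ₗ
    LinearMap.codRestrict _ (gmap P M n i j h) (fun t => d_gmap P M n i j h t)

theorem iCycles_gcyc (n i j : ℤ) (h : i + j = n) (t : P.cycles i ⊗[A] M.cycles j) :
    ((HomologicalComplex.tensorObj P M).iCycles n).hom (gcyc P M n i j h t) = gmap P M n i j h t := by
  unfold gcyc
  rw [LinearMap.comp_apply, iCycles_cycLift]
  rfl

/-- `Z^i(P) ⊗ Z^j(M) → H^n(P ⊗ M)` -/
noncomputable def psi (n i j : ℤ) (h : i + j = n) :
    (P.cycles i ⊗[A] M.cycles j) →ₗ[A] (HomologicalComplex.tensorObj P M).homology n :=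
  ((HomologicalComplex.tensorObj P M).homologyπ n).hom ∘ₗ gcyc P M n i j h

theorem negOnePow_sq (a : ℤ) : ((a.negOnePow : ℤˣ) : ℤ) * ((a.negOnePow : ℤˣ) : ℤ) = 1 := by
  rcases negOnePow_cases a with h | h <;> rw [h] <;> norm_num

theorem psi_tmul_toCycles (n i j : ℤ) (h : i + j = n) (z : P.cycles i) (a' : M.X (j - 1)) :
    psi P M n i j h (z ⊗ₜ (M.toCycles (j - 1) j).hom a') = 0 := by
  unfold psi
  rw [LinearMap.comp_apply]
  have key : gcyc P M n i j h (z ⊗ₜ (M.toCycles (j - 1) j).hom a') =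
      ((HomologicalComplex.tensorObj P M).toCycles (n - 1) n).hom
        (((i.negOnePow : ℤˣ) : ℤ) • ι P M (n - 1) i (j - 1) (by omega) ((P.iCycles i).hom z ⊗ₜ[A] a')) := by
    apply iCycles_injective' (HomologicalComplex.tensorObj P M) n
    rw [iCycles_gcyc, gmap_tmul, iCycles_toCycles, iCycles_toCycles, map_zsmul,
      d_ι P M (n - 1) n (by omega) i (j - 1) (i + 1) j (by omega) rfl (by omega), whiskerRight_tmul,
      whiskerLeft_tmul, d_iCycles, zero_tmul, map_zero, zero_add, Units.smul_def, smul_smul,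
      negOnePow_sq, one_smul]
  rw [key, homologyπ_toCycles]

theorem psi_toCycles_tmul (n i j : ℤ) (h : i + j = n) (a : P.X (i - 1)) (z' : M.cycles j) :
    psi P M n i j h ((P.toCycles (i - 1) i).hom a ⊗ₜ z') = 0 := by
  unfold psi
  rw [LinearMap.comp_apply]
  have key : gcyc P M n i j h ((P.toCycles (i - 1) i).hom a ⊗ₜ z') =
      ((HomologicalComplex.tensorObj P M).toCycles (n - 1) n).hom
        (ι P M (n - 1) (i - 1) j (by omega) (a ⊗ₜ[A] (M.iCycles j).hom z')) := by
    apply iCycles_injective' (HomologicalComplex.tensorObj P M) n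
    rw [iCycles_gcyc, gmap_tmul, iCycles_toCycles, iCycles_toCycles,
      d_ι P M (n - 1) n (by omega) (i - 1) j i (j + 1) (by omega) (by omega) rfl, whiskerRight_tmul,
      whiskerLeft_tmul, d_iCycles, tmul_zero, map_zero, smul_zero, add_zero]
  rw [key, homologyπ_toCycles]

theorem ker_le_ker_psi (n i j : ℤ) (h : i + j = n) :
    LinearMap.ker (TensorProduct.map (P.homologyπ i).hom (M.homologyπ j).hom) ≤
      LinearMap.ker (psi P M n i j h) := by
  rw [TensorProduct.map_ker (exact_Bc_homologyπ P i) (homologyπ_surjective P i)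
    (exact_Bc_homologyπ M j) (homologyπ_surjective M j)]
  apply sup_le
  · rintro _ ⟨s, rfl⟩
    rw [LinearMap.mem_ker]
    induction s using TensorProduct.induction_on with
    | zero => simp
    | tmul z y =>
      obtain ⟨_, a', rfl⟩ := y
      exact psi_tmul_toCycles P M n i j h z a'
    | add x y hx hy => rw [map_add, map_add, hx, hy, add_zero]
  · rintro _ ⟨s, rfl⟩
    rw [LinearMap.mem_ker]
    induction s using TensorProduct.induction_on with
    | zero => simp
    | tmul y z' =>
      obtain ⟨_, a, rfl⟩ := y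
      exact psi_toCycles_tmul P M n i j h a z'
    | add x y hx hy => rw [map_add, map_add, hx, hy, add_zero]

/-- the `(i,j)` component of the Künneth map -/
noncomputable def PhiC (n i j : ℤ) (h : i + j = n) :
    (P.homology i ⊗[A] M.homology j) →ₗ[A] (HomologicalComplex.tensorObj P M).homology n :=
  descend (TensorProduct.map (P.homologyπ i).hom (M.homologyπ j).hom)
    (TensorProduct.map_surjective (homologyπ_surjective P i) (homologyπ_surjective M j))
    (psi P M n i j h) (ker_le_ker_psi P M n i j h)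

theorem PhiC_map (n i j : ℤ) (h : i + j = n) (t : P.cycles i ⊗[A] M.cycles j) :
    PhiC P M n i j h (TensorProduct.map (P.homologyπ i).hom (M.homologyπ j).hom t) =
      psi P M n i j h t :=
  descend_apply _ _ _ _ t

/-- the Künneth map -/
noncomputable def Phi (n : ℤ) : HTor.KunnethSum P M n →ₗ[A] (HTor.tensorCx P M).homology n :=
  DirectSum.toModule A (HTor.Antidiag n) _ (fun ij => PhiC P M n ij.1.1 ij.1.2 ij.2)

theorem Phi_lof (n : ℤ) (ij : HTor.Antidiag n) (t : P.homology ij.1.1 ⊗[A] M.homology ij.1.2) :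
    Phi P M n (DirectSum.lof A (HTor.Antidiag n) _ ij t) = PhiC P M n ij.1.1 ij.1.2 ij.2 t := by
  unfold Phi
  rw [DirectSum.toModule_lof]

theorem isKunnethMap_Phi (n : ℤ) : HTor.IsKunnethMap P M n (Phi P M n) := by
  intro ij z z' w hw
  rw [Phi_lof]
  have h1 : (P.homologyπ ij.1.1 z ⊗ₜ[A] M.homologyπ ij.1.2 z' : P.homology ij.1.1 ⊗[A] M.homology ij.1.2) =
      TensorProduct.map (P.homologyπ ij.1.1).hom (M.homologyπ ij.1.2).hom (z ⊗ₜ z') := rfl
  rw [h1, PhiC_map]
  unfold psi
  rw [LinearMap.comp_apply]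
  have h2 : gcyc P M n ij.1.1 ij.1.2 ij.2 (z ⊗ₜ z') = w := by
    apply iCycles_injective' (HomologicalComplex.tensorObj P M) n
    rw [iCycles_gcyc, gmap_tmul]
    exact hw.symm
  rw [h2]

end Groth.Agent.Lib.Helper11.Kun
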