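import Mathlib
import Groth.Agent.Lib.Helper11.Kun2

/-!
# Künneth filtration, part 6: a Cartan–Eilenberg type free cover of a bounded above complex
-/

set_option autoImplicit false
set_option linter.unusedSectionVars false
universe u
open CategoryTheory CategoryTheory.Limits HomologicalComplex Function

namespace Groth.Agent.Lib.Helper11.Kun

open Groth.Agent.Lib.Helper28.FlatCx

variable {A : Type u} [CommRing A] (L : CochainComplex (ModuleCat.{u} A) ℤ)

/-- nonzero cycles -/
def FI (i : ℤ) : Type u := {x : L.X i // x ≠ 0 ∧ (L.d i (i + 1)).hom x = 0}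
/-- non-cycles -/
def GI (i : ℤ) : Type u := {x : L.X i // (L.d i (i + 1)).hom x ≠ 0}
/-- non-cycles of the previous degree -/
structure DI (i : ℤ) : Type u where
  j : ℤ
  hj : j + 1 = i
  x : L.X j
  hx : (L.d j i).hom x ≠ 0

/-- the bijection `GI i ≃ DI (i+1)` -/
def emb (i : ℤ) : GI L i → DI L (i + 1) := fun x => ⟨i, rfl, x.1, x.2⟩

theorem emb_injective (i : ℤ) : Injective (emb L i) := by
  intro x y h
  apply Subtype.ext
  have := congrArg (fun t : DI L (i + 1) => (⟨t.j, t.x⟩ : Σ j, L.X j)) h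
  simp only [emb] at this
  exact eq_of_heq (Sigma.mk.inj this).2

theorem emb_surjective (i : ℤ) : Surjective (emb L i) := by
  rintro ⟨j, hj, x, hx⟩
  obtain rfl : j = i := by omega
  exact ⟨⟨x, hx⟩, rfl⟩

/-- the terms of the cover -/
abbrev PX (i : ℤ) : Type u := (FI L i →₀ A) × (GI L i →₀ A) × (DI L i →₀ A)

/-- the differential of the cover -/
noncomputable def dP (i : ℤ) : PX L i →ₗ[A] PX L (i + 1) :=
  LinearMap.prod 0 (LinearMap.prod 0
    (Finsupp.lmapDomain A A (emb L i) ∘ₗ LinearMap.fst A _ _ ∘ₗ LinearMap.snd A _ _))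

theorem dP_apply (i : ℤ) (v : PX L i) :
    dP L i v = (0, 0, Finsupp.mapDomain (emb L i) v.2.1) := rfl

theorem dP_dP (i : ℤ) (v : PX L i) : dP L (i + 1) (dP L i v) = 0 := by
  rw [dP_apply, dP_apply]
  simp

/-- the cover, as a complex -/
noncomputable def Pcx : CochainComplex (ModuleCat.{u} A) ℤ :=
  CochainComplex.of (fun i => ModuleCat.of A (PX L i)) (fun i => ModuleCat.ofHom (dP L i))
    (fun i => by
      apply ModuleCat.hom_ext
      apply LinearMap.ext
      intro v
      exact dP_dP L i v)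

theorem Pcx_d (i : ℤ) : (Pcx L).d i (i + 1) = ModuleCat.ofHom (dP L i) := by
  unfold Pcx
  exact CochainComplex.of_d (V := ModuleCat.{u} A) (fun i => ModuleCat.of A (PX L i))
    (fun i => ModuleCat.ofHom (dP L i)) i

theorem Pcx_d_apply (i : ℤ) (v : PX L i) :
    ((Pcx L).d i (i + 1)).hom v = dP L i v := by
  rw [Pcx_d]
  rfl

/-- the augmentation -/
noncomputable def aug (i : ℤ) : PX L i →ₗ[A] L.X i :=
  Finsupp.linearCombination A (fun x : FI L i => x.1) ∘ₗ LinearMap.fst A _ _ +
  Finsupp.linearCombination A (fun x : GI L i => x.1) ∘ₗ LinearMap.fst A _ _ ∘ₗ LinearMap.snd A _ _ +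
  Finsupp.linearCombination A (fun t : DI L i => (L.d t.j i).hom t.x) ∘ₗ LinearMap.snd A _ _ ∘ₗ
    LinearMap.snd A _ _

theorem aug_apply (i : ℤ) (v : PX L i) :
    aug L i v = Finsupp.linearCombination A (fun x : FI L i => x.1) v.1 +
      Finsupp.linearCombination A (fun x : GI L i => x.1) v.2.1 +
      Finsupp.linearCombination A (fun t : DI L i => (L.d t.j i).hom t.x) v.2.2 := rfl

theorem d_aug (i : ℤ) (v : PX L i) :
    (L.d i (i + 1)).hom (aug L i v) = aug L (i + 1) (dP L i v) := by
  rw [aug_apply, aug_apply, dP_apply, map_add, map_add, Finsupp.apply_linearCombination,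
    Finsupp.apply_linearCombination, Finsupp.apply_linearCombination]
  have h1 : ((L.d i (i + 1)).hom ∘ fun x : FI L i => x.1) = fun _ => 0 := by
    funext x
    exact x.2.2
  have h3 : ((L.d i (i + 1)).hom ∘ fun t : DI L i => (L.d t.j i).hom t.x) = fun _ => 0 := by
    funext t
    have := L.d_comp_d t.j i (i + 1)
    exact congrArg (fun f => f.hom t.x) this
  rw [h1, h3]
  simp only [map_zero, Finsupp.linearCombination_mapDomain]
  have h0 : ∀ (α : Type u) (l : α →₀ A), Finsupp.linearCombination A (fun _ : α => (0 : L.X (i + 1))) l = 0 := by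
    intro α l
    simp [Finsupp.linearCombination_apply]
  rw [h0, h0]
  simp only [zero_add, add_zero]
  rfl

/-- the cover map -/
noncomputable def pmap : Pcx L ⟶ L :=
  CochainComplex.ofHom (fun i => ModuleCat.ofHom (aug L i)) (fun i => by
    ext v
    change (L.d i (i + 1)).hom (aug L i v) = aug L (i + 1) (((Pcx L).d i (i + 1)).hom v)
    rw [Pcx_d_apply, d_aug])

theorem pmap_f_apply (i : ℤ) (v : PX L i) : ((pmap L).f i).hom v = aug L i v := rfl

theorem aug_surjective (i : ℤ) : Surjective (aug L i) := by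
  classical
  intro x
  by_cases h1 : (L.d i (i + 1)).hom x = 0
  · by_cases h0 : x = 0
    · exact ⟨0, by rw [map_zero, h0]⟩
    · refine ⟨(Finsupp.single ⟨x, h0, h1⟩ 1, 0, 0), ?_⟩
      rw [aug_apply]
      simp
  · refine ⟨(0, Finsupp.single ⟨x, h1⟩ 1, 0), ?_⟩
    rw [aug_apply]
    simp

instance (i : ℤ) : Module.Free A ((Pcx L).X i) := by
  change Module.Free A (PX L i)
  infer_instance

theorem flat_Pcx (i : ℤ) : Module.Flat A ((Pcx L).X i) := inferInstance

theorem isZero_Pcx (b : ℤ) (hb : ∀ i, b < i → IsZero (L.X i)) (i : ℤ) (hi : b < i) :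
    IsZero ((Pcx L).X i) := by
  have hs : Subsingleton (L.X i) := ModuleCat.subsingleton_of_isZero (hb i hi)
  have h1 : IsEmpty (FI L i) := ⟨fun x => x.2.1 (Subsingleton.elim _ _)⟩
  have h2 : IsEmpty (GI L i) := ⟨fun x => x.2 (by rw [Subsingleton.elim x.1 0, map_zero])⟩
  have h3 : IsEmpty (DI L i) := ⟨fun t => t.hx (Subsingleton.elim _ _)⟩
  have : Subsingleton (PX L i) := inferInstance
  exact ModuleCat.isZero_of_subsingleton (ModuleCat.of A (PX L i))

/-! ### cohomology of the cover -/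

theorem ker_dP (i : ℤ) (v : PX L i) (hv : dP L i v = 0) : v.2.1 = 0 := by
  rw [dP_apply] at hv
  have h := congrArg (fun t : PX L (i + 1) => t.2.2) hv
  simp only at h
  exact Finsupp.mapDomain_injective (emb_injective L i) (by rw [h]; simp)

/-- `iCycles` with values in the explicit product -/
noncomputable def icP (i : ℤ) : (Pcx L).cycles i →ₗ[A] PX L i := ((Pcx L).iCycles i).hom

theorem icP_injective (i : ℤ) : Injective (icP L i) := iCycles_injective' (Pcx L) i

theorem icP_toCycles (j : ℤ) (v : PX L j) :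
    icP L (j + 1) (((Pcx L).toCycles j (j + 1)).hom v) = dP L j v :=
  (iCycles_toCycles (Pcx L) j (j + 1) v).trans (Pcx_d_apply L j v)

theorem dP_icP (i : ℤ) (z : (Pcx L).cycles i) : dP L i (icP L i z) = 0 :=
  (Pcx_d_apply L i _).symm.trans (d_iCycles (Pcx L) i (i + 1) z)

/-- first component on cycles -/
noncomputable def phiZ (i : ℤ) : (Pcx L).cycles i →ₗ[A] (FI L i →₀ A) :=
  LinearMap.fst A _ _ ∘ₗ icP L i

theorem phiZ_apply (i : ℤ) (z : (Pcx L).cycles i) : phiZ L i z = (icP L i z).1 := rfl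

theorem phiZ_toCycles (i : ℤ) (v : (Pcx L).X (i - 1)) :
    phiZ L i (((Pcx L).toCycles (i - 1) i).hom v) = 0 := by
  obtain ⟨j, rfl⟩ : ∃ j, i = j + 1 := ⟨i - 1, by omega⟩
  have hj : j + 1 - 1 = j := by omega
  revert v
  rw [hj]
  intro v
  rw [phiZ_apply, icP_toCycles, dP_apply]

theorem ker_homologyπ_le_ker_phiZ (i : ℤ) :
    LinearMap.ker ((Pcx L).homologyπ i).hom ≤ LinearMap.ker (phiZ L i) := by
  intro z hz
  obtain ⟨v, rfl⟩ := exists_toCycles_of_homologyπ_eq_zero (Pcx L) i z hz
  exact phiZ_toCycles L i v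

/-- `H^i(P) → F_i` -/
noncomputable def phiH (i : ℤ) : (Pcx L).homology i →ₗ[A] (FI L i →₀ A) :=
  descend ((Pcx L).homologyπ i).hom (homologyπ_surjective (Pcx L) i) (phiZ L i)
    (ker_homologyπ_le_ker_phiZ L i)

theorem phiH_homologyπ (i : ℤ) (z : (Pcx L).cycles i) :
    phiH L i (((Pcx L).homologyπ i).hom z) = phiZ L i z := descend_apply _ _ _ _ z

theorem dP_F (i : ℤ) (f : FI L i →₀ A) : dP L i ((f, 0, 0) : PX L i) = 0 := by
  rw [dP_apply]
  change ((0 : FI L (i + 1) →₀ A), (0 : GI L (i + 1) →₀ A),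
    Finsupp.mapDomain (emb L i) (0 : GI L i →₀ A)) = 0
  rw [Finsupp.mapDomain_zero]
  rfl

/-- the cycle `(f, 0, 0)` -/
noncomputable def cycOfF (i : ℤ) (f : FI L i →₀ A) : (Pcx L).cycles i :=
  cycLift (Pcx L) i ⟨((f, 0, 0) : PX L i), by
    rw [LinearMap.mem_ker]
    exact (Pcx_d_apply L i _).trans (dP_F L i f)⟩

theorem icP_cycOfF (i : ℤ) (f : FI L i →₀ A) :
    icP L i (cycOfF L i f) = ((f, 0, 0) : PX L i) := iCycles_cycLift _ _ _

theorem phiH_bijective (i : ℤ) : Bijective (phiH L i) := by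
  constructor
  · rw [injective_iff_map_eq_zero]
    intro h hh
    obtain ⟨z, rfl⟩ := homologyπ_surjective (Pcx L) i h
    rw [phiH_homologyπ, phiZ_apply] at hh
    set v : PX L i := icP L i z with hv
    have h2 : v.2.1 = 0 := ker_dP L i v (dP_icP L i z)
    obtain ⟨j, rfl⟩ : ∃ j, i = j + 1 := ⟨i - 1, by omega⟩
    obtain ⟨g₀, hg₀⟩ := Finsupp.mapDomain_surjective (emb_surjective L j) v.2.2
    have h3 : z = ((Pcx L).toCycles j (j + 1)).hom ((0, g₀, 0) : PX L j) := by
      apply icP_injective L (j + 1)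
      rw [icP_toCycles, dP_apply, ← hv]
      apply Prod.ext
      · exact hh
      · apply Prod.ext
        · exact h2
        · exact hg₀.symm
    rw [h3, homologyπ_toCycles]
  · intro f
    refine ⟨((Pcx L).homologyπ i).hom (cycOfF L i f), ?_⟩
    rw [phiH_homologyπ, phiZ_apply, icP_cycOfF]

theorem projective_homology_Pcx (i : ℤ) : Module.Projective A ((Pcx L).homology i) :=
  Module.Projective.of_equiv (LinearEquiv.ofBijective (phiH L i) (phiH_bijective L i)).symm

theorem flat_homology_Pcx (i : ℤ) : Module.Flat A ((Pcx L).homology i) := by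
  have := projective_homology_Pcx L i
  infer_instance

theorem homologyMap_pmap_surjective (i : ℤ) :
    Surjective (HomologicalComplex.homologyMap (pmap L) i).hom := by
  classical
  intro h
  obtain ⟨z, rfl⟩ := homologyπ_surjective L i h
  by_cases h0 : (L.iCycles i).hom z = 0
  · have : z = 0 := iCycles_injective' L i (by rw [h0, map_zero])
    exact ⟨0, by rw [map_zero, this, map_zero]⟩
  · set x := (L.iCycles i).hom z with hx
    have hdx : (L.d i (i + 1)).hom x = 0 := d_iCycles L i (i + 1) z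
    refine ⟨((Pcx L).homologyπ i).hom (cycOfF L i (Finsupp.single ⟨x, h0, hdx⟩ 1)), ?_⟩
    have hnat := HomologicalComplex.homologyπ_naturality (pmap L) i
    have h1 := congrArg (fun f => f.hom (cycOfF L i (Finsupp.single ⟨x, h0, hdx⟩ 1))) hnat
    refine h1.trans ?_
    change (L.homologyπ i).hom ((HomologicalComplex.cyclesMap (pmap L) i).hom _) = _
    congr 1
    apply iCycles_injective' L i
    have h2 := HomologicalComplex.cyclesMap_i (pmap L) i
    have h3 := congrArg (fun f => f.hom (cycOfF L i (Finsupp.single ⟨x, h0, hdx⟩ 1))) h2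
    refine h3.trans ?_
    change aug L i (icP L i _) = _
    rw [icP_cycOfF, aug_apply]
    simp [hx]

end Groth.Agent.Lib.Helper11.Kun
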