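import Mathlib
import Groth.Agent.Lib.Helper11.Kun2

/-!
# Künneth (flat cohomology), part 3: injectivity of the Künneth map
-/

set_option autoImplicit false
universe u
open CategoryTheory CategoryTheory.Limits MonoidalCategory HomologicalComplex TensorProduct Function

namespace Groth.Agent.Lib.Helper11.Kun

open Groth.Agent.Lib.Helper28.TensorCx Groth.Agent.Lib.Helper28.FlatCx

variable {A : Type u} [CommRing A] (P M : CochainComplex (ModuleCat.{u} A) ℤ)

/-- direct sum of the `Z^i(P) ⊗ Z^j(M)` -/
abbrev CycSum (n : ℤ) : Type u :=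
  DirectSum (HTor.Antidiag n) fun ij => P.cycles ij.1.1 ⊗[A] M.cycles ij.1.2

/-- `⊕ Z^i ⊗ Z^j → Z^n(P ⊗ M)` -/
noncomputable def Gsum (n : ℤ) : CycSum P M n →ₗ[A] (HomologicalComplex.tensorObj P M).cycles n :=
  DirectSum.toModule A (HTor.Antidiag n) _ (fun ij => gcyc P M n ij.1.1 ij.1.2 ij.2)

/-- `⊕ Z^i ⊗ Z^j → ⊕ H^i ⊗ H^j` -/
noncomputable def qsum (n : ℤ) : CycSum P M n →ₗ[A] HTor.KunnethSum P M n :=
  DirectSum.lmap (fun ij => TensorProduct.map (P.homologyπ ij.1.1).hom (M.homologyπ ij.1.2).hom)

theorem qsum_surjective (n : ℤ) : Surjective (qsum P M n) := by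
  unfold qsum
  rw [DirectSum.lmap_surjective]
  intro ij
  exact TensorProduct.map_surjective (homologyπ_surjective P _) (homologyπ_surjective M _)

theorem qsum_apply (n : ℤ) (E : CycSum P M n) (ij : HTor.Antidiag n) :
    qsum P M n E ij = TensorProduct.map (P.homologyπ ij.1.1).hom (M.homologyπ ij.1.2).hom (E ij) := rfl

theorem Phi_qsum (n : ℤ) (E : CycSum P M n) :
    Phi P M n (qsum P M n E) =
      ((HomologicalComplex.tensorObj P M).homologyπ n).hom (Gsum P M n E) := by
  have key : Phi P M n ∘ₗ qsum P M n =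
      ((HomologicalComplex.tensorObj P M).homologyπ n).hom ∘ₗ Gsum P M n := by
    apply DirectSum.linearMap_ext
    intro ij
    apply LinearMap.ext
    intro t
    rw [LinearMap.comp_apply, LinearMap.comp_apply, LinearMap.comp_apply, LinearMap.comp_apply]
    unfold qsum Gsum
    rw [DirectSum.lmap_lof, Phi_lof, PhiC_map, DirectSum.toModule_lof]
    rfl
  exact LinearMap.congr_fun key E

theorem π_Gsum (n : ℤ) (E : CycSum P M n) (a b : ℤ) (hab : a + b = n) :
    π P M n a b hab (((HomologicalComplex.tensorObj P M).iCycles n).hom (Gsum P M n E)) =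
      TensorProduct.map (P.iCycles a).hom (M.iCycles b).hom (E ⟨(a, b), hab⟩) := by
  classical
  induction E using DirectSum.induction_on with
  | zero => simp
  | of ij t =>
    have h1 : Gsum P M n (DirectSum.of _ ij t) = gcyc P M n ij.1.1 ij.1.2 ij.2 t := by
      unfold Gsum
      rw [← DirectSum.lof_eq_of A, DirectSum.toModule_lof]
    rw [h1, iCycles_gcyc]
    by_cases hc : ij = ⟨(a, b), hab⟩
    · subst hc
      unfold gmap
      rw [LinearMap.comp_apply, π_ι_self, DirectSum.of_eq_same]
    · obtain ⟨⟨i, j⟩, hij⟩ := ij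
      unfold gmap
      rw [LinearMap.comp_apply, π_ι_ne P M n i j hij a b hab (by
        intro heq
        apply hc
        apply Subtype.ext
        exact heq), DirectSum.of_eq_of_ne _ _ _ (fun h => hc h.symm), map_zero]
  | add x y hx hy =>
    rw [map_add, map_add, map_add, hx, hy, DirectSum.add_apply, map_add]

theorem pOp_comp_iCycles (K : CochainComplex (ModuleCat.{u} A) ℤ) (i : ℤ) :
    (K.pOpcycles i).hom ∘ₗ (K.iCycles i).hom = (K.homologyι i).hom ∘ₗ (K.homologyπ i).hom := by
  have := K.homology_π_ι i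
  exact (congrArg ModuleCat.Hom.hom this).symm

theorem pOp_comp_d (K : CochainComplex (ModuleCat.{u} A) ℤ) (i j : ℤ) :
    (K.pOpcycles j).hom ∘ₗ (K.d i j).hom = 0 := by
  have := K.d_pOpcycles i j
  exact congrArg ModuleCat.Hom.hom this

/-- the component chase for injectivity -/
theorem map_homologyπ_eq_zero
    (hH : ∀ i, Module.Flat A (P.homology i))
    (hK4 : ∀ (i : ℤ) (N : Type u) [AddCommGroup N] [Module A N],
      Injective (LinearMap.rTensor N (P.homologyι i).hom))
    (a b a' b' : ℤ)
    (t : P.cycles a ⊗[A] M.cycles b) (u : P.X a' ⊗[A] M.X b) (v : P.X a ⊗[A] M.X b') (ε : ℤ)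
    (h : TensorProduct.map (P.iCycles a).hom (M.iCycles b).hom t =
      LinearMap.rTensor (M.X b) (P.d a' a).hom u + ε • LinearMap.lTensor (P.X a) (M.d b' b).hom v) :
    TensorProduct.map (P.homologyπ a).hom (M.homologyπ b).hom t = 0 := by
  have h1 : TensorProduct.map (P.pOpcycles a).hom (M.pOpcycles b).hom
      (TensorProduct.map (P.iCycles a).hom (M.iCycles b).hom t) = 0 := by
    rw [h, map_add, map_zsmul, LinearMap.rTensor, LinearMap.lTensor, ← LinearMap.comp_apply,
      ← TensorProduct.map_comp, ← LinearMap.comp_apply, ← TensorProduct.map_comp, pOp_comp_d,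
      pOp_comp_d, TensorProduct.map_zero_left, TensorProduct.map_zero_right]
    simp
  rw [← LinearMap.comp_apply, ← TensorProduct.map_comp, pOp_comp_iCycles, pOp_comp_iCycles,
    TensorProduct.map_comp, LinearMap.comp_apply] at h1
  set ξ := TensorProduct.map (P.homologyπ a).hom (M.homologyπ b).hom t
  have h2 : TensorProduct.map (P.homologyι a).hom (M.homologyι b).hom =
      LinearMap.rTensor (M.opcycles b) (P.homologyι a).hom ∘ₗ
        LinearMap.lTensor (P.homology a) (M.homologyι b).hom := by
    rw [LinearMap.rTensor_comp_lTensor]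
  rw [h2, LinearMap.comp_apply] at h1
  have h3 := (injective_iff_map_eq_zero _).1 (hK4 a (M.opcycles b)) _ h1
  have := hH a
  exact (injective_iff_map_eq_zero _).1
    (Module.Flat.lTensor_preserves_injective_linearMap _ (homologyι_injective' M b)) _ h3

theorem Phi_injective
    (hH : ∀ i, Module.Flat A (P.homology i))
    (hK4 : ∀ (i : ℤ) (N : Type u) [AddCommGroup N] [Module A N],
      Injective (LinearMap.rTensor N (P.homologyι i).hom)) (n : ℤ) :
    Injective (Phi P M n) := by
  rw [injective_iff_map_eq_zero]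
  intro ξ hξ
  obtain ⟨E, rfl⟩ := qsum_surjective P M n ξ
  rw [Phi_qsum] at hξ
  obtain ⟨W, hW⟩ := exists_toCycles_of_homologyπ_eq_zero _ n _ hξ
  have hW2 : ((HomologicalComplex.tensorObj P M).iCycles n).hom (Gsum P M n E) =
      ((HomologicalComplex.tensorObj P M).d (n - 1) n).hom W := by
    rw [← hW, iCycles_toCycles]
  apply DFinsupp.ext
  intro ij
  obtain ⟨⟨a, b⟩, hab⟩ := ij
  rw [qsum_apply]
  have h1 := π_Gsum P M n E a b hab
  rw [hW2, π_d P M (n - 1) n (by omega) W a b (a - 1) (b - 1) hab (by omega) (by omega)] at h1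
  exact map_homologyπ_eq_zero P M hH hK4 a b (a - 1) (b - 1) _ _ _ _ h1.symm

end Groth.Agent.Lib.Helper11.Kun
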