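import Mathlib
import Groth.Agent.Lib.Helper11.Kun3

/-!
# Künneth (flat cohomology), part 4: surjectivity of the Künneth map
-/

set_option autoImplicit false
universe u
open CategoryTheory CategoryTheory.Limits MonoidalCategory HomologicalComplex TensorProduct Function

namespace Groth.Agent.Lib.Helper11.Kun

open Groth.Agent.Lib.Helper28.TensorCx Groth.Agent.Lib.Helper28.FlatCx

variable {A : Type u} [CommRing A] (P M : CochainComplex (ModuleCat.{u} A) ℤ)

theorem exists_with_components (m : ℤ) (y : ∀ a c : ℤ, (P.X a ⊗[A] M.X c)) (S : Finset (ℤ × ℤ)) :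
    ∃ W : (HomologicalComplex.tensorObj P M).X m, ∀ (a c : ℤ) (h : a + c = m),
      π P M m a c h W = if (a, c) ∈ S then y a c else 0 := by
  classical
  induction S using Finset.induction_on with
  | empty => exact ⟨0, fun a c h => by simp⟩
  | insert p S hp ih =>
    obtain ⟨W, hW⟩ := ih
    obtain ⟨p1, p2⟩ := p
    by_cases hm : p1 + p2 = m
    · refine ⟨W + ι P M m p1 p2 hm (y p1 p2), ?_⟩
      intro a c h
      rw [map_add, hW a c h]
      by_cases hc : (p1, p2) = (a, c)
      · obtain ⟨rfl, rfl⟩ := Prod.mk.inj hc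
        rw [π_ι_self, if_neg hp, zero_add, if_pos (Finset.mem_insert_self _ _)]
      · rw [π_ι_ne P M m p1 p2 hm a c h hc, add_zero]
        by_cases hmem : (a, c) ∈ S
        · rw [if_pos hmem, if_pos (Finset.mem_insert_of_mem hmem)]
        · rw [if_neg hmem, if_neg]
          intro h'
          rcases Finset.mem_insert.1 h' with h'' | h''
          · exact hc h''.symm
          · exact hmem h''
    · refine ⟨W, ?_⟩
      intro a c h
      rw [hW a c h]
      have hne : (a, c) ≠ (p1, p2) := by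
        intro heq
        obtain ⟨rfl, rfl⟩ := Prod.mk.inj heq
        exact hm h
      by_cases hmem : (a, c) ∈ S
      · rw [if_pos hmem, if_pos (Finset.mem_insert_of_mem hmem)]
      · rw [if_neg hmem, if_neg]
        intro h'
        rcases Finset.mem_insert.1 h' with h'' | h''
        · exact hne h''
        · exact hmem h''

theorem rTensor_d_d (a a₁ a₂ : ℤ) (N : Type u) [AddCommGroup N] [Module A N] (t : P.X a ⊗[A] N) :
    LinearMap.rTensor N (P.d a₁ a₂).hom (LinearMap.rTensor N (P.d a a₁).hom t) = 0 := by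
  rw [← LinearMap.comp_apply, ← LinearMap.rTensor_comp]
  have : (P.d a₁ a₂).hom ∘ₗ (P.d a a₁).hom = 0 := by
    have := P.d_comp_d a a₁ a₂
    exact congrArg ModuleCat.Hom.hom this
  rw [this, LinearMap.rTensor_zero, LinearMap.zero_apply]

theorem rTensor_lTensor_comm {X X' N N' : Type u} [AddCommGroup X] [Module A X] [AddCommGroup X']
    [Module A X'] [AddCommGroup N] [Module A N] [AddCommGroup N'] [Module A N']
    (f : X →ₗ[A] X') (g : N →ₗ[A] N') (t : X ⊗[A] N) :
    LinearMap.rTensor N' f (LinearMap.lTensor X g t) = LinearMap.lTensor X' g (LinearMap.rTensor N f t) := by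
  rw [← LinearMap.comp_apply, ← LinearMap.comp_apply, LinearMap.rTensor_comp_lTensor,
    LinearMap.lTensor_comp_rTensor]

section

variable (hK6 : ∀ (i j : ℤ) (_ : i + 1 = j) (N : Type u) [AddCommGroup N] [Module A N],
    Injective (LinearMap.rTensor N (LinearMap.range (P.d i j).hom).subtype))

include hK6

theorem step1 (n : ℤ) (x : (HomologicalComplex.tensorObj P M).X n)
    (hx : ((HomologicalComplex.tensorObj P M).d n (n + 1)).hom x = 0) (a c : ℤ)
    (h : a + (c + 1) = n) :
    ∃ y : P.X a ⊗[A] M.X c, LinearMap.rTensor (M.X (c + 1)) (P.d a (a + 1)).hom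
      (π P M n a (c + 1) h x - LinearMap.lTensor (P.X a) (M.d c (c + 1)).hom y) = 0 := by
  have h1 := π_d P M n (n + 1) rfl x (a + 1) (c + 1) a c (by omega) rfl rfl
  rw [hx, map_zero, whiskerRight_eq, whiskerLeft_eq, Units.smul_def] at h1
  have h2 : LinearMap.rTensor (M.X (c + 1)) (P.d a (a + 1)).hom (π P M n a (c + 1) h x) =
      LinearMap.lTensor (P.X (a + 1)) (M.d c (c + 1)).hom
        (-((((a + 1).negOnePow : ℤˣ) : ℤ) • π P M n (a + 1) c (by omega) x)) := by
    rw [map_neg, map_zsmul]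
    exact eq_neg_of_add_eq_zero_left h1.symm
  obtain ⟨y, hy⟩ := lemA (P.d a (a + 1)).hom (M.d c (c + 1)).hom (hK6 a (a + 1) rfl) _ _ h2
  refine ⟨y, ?_⟩
  rw [map_sub, rTensor_lTensor_comm, hy, sub_self]

end

theorem zsmul_negOnePow_eq_zero {V : Type u} [AddCommGroup V] (a : ℤ) (v : V)
    (h : ((a.negOnePow : ℤˣ) : ℤ) • v = 0) : v = 0 := by
  have := congrArg (fun t => ((a.negOnePow : ℤˣ) : ℤ) • t) h
  simp only [smul_smul, negOnePow_sq, one_smul, smul_zero] at this
  exact this

theorem Phi_surjective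
    (hK1 : ∀ i, Module.Flat A (P.cycles i))
    (hK3 : ∀ (i : ℤ) (N : Type u) [AddCommGroup N] [Module A N],
      Injective (LinearMap.rTensor N (P.iCycles i).hom))
    (hK6 : ∀ (i j : ℤ) (_ : i + 1 = j) (N : Type u) [AddCommGroup N] [Module A N],
      Injective (LinearMap.rTensor N (LinearMap.range (P.d i j).hom).subtype))
    (n : ℤ) : Surjective (Phi P M n) := by
  classical
  intro hcls
  obtain ⟨w, rfl⟩ := homologyπ_surjective (HomologicalComplex.tensorObj P M) n hcls
  set x := ((HomologicalComplex.tensorObj P M).iCycles n).hom w with hxdef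
  have hx : ((HomologicalComplex.tensorObj P M).d n (n + 1)).hom x = 0 := d_iCycles (HomologicalComplex.tensorObj P M) n (n + 1) w
  obtain ⟨S, hS⟩ := exists_finset_support P M n x
  -- Step 1
  have st1 : ∀ a c : ℤ, ∃ y : P.X a ⊗[A] M.X c,
      (∀ h : a + (c + 1) = n, π P M n a (c + 1) h x = 0 → y = 0) ∧
      (∀ h : a + (c + 1) = n, LinearMap.rTensor (M.X (c + 1)) (P.d a (a + 1)).hom
        (π P M n a (c + 1) h x - LinearMap.lTensor (P.X a) (M.d c (c + 1)).hom y) = 0) := by
    intro a c
    by_cases h : a + (c + 1) = n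
    · by_cases h0 : π P M n a (c + 1) h x = 0
      · refine ⟨0, fun _ _ => rfl, fun _ => ?_⟩
        rw [h0, map_zero, sub_zero, map_zero]
      · obtain ⟨y, hy⟩ := step1 P M hK6 n x hx a c h
        exact ⟨y, fun _ h0' => absurd h0' h0, fun _ => hy⟩
    · exact ⟨0, fun h' => absurd h' h, fun h' => absurd h' h⟩
  choose y hy0 hy1 using st1
  set S₂ := S.image (fun p : ℤ × ℤ => (p.1, p.2 - 1)) with hS₂
  obtain ⟨W, hW⟩ := exists_with_components P M (n - 1)
    (fun a c => ((a.negOnePow : ℤˣ) : ℤ) • y a c) S₂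
  have hW' : ∀ (a c : ℤ) (h : a + c = n - 1),
      π P M (n - 1) a c h W = ((a.negOnePow : ℤˣ) : ℤ) • y a c := by
    intro a c h
    rw [hW a c h]
    by_cases hmem : (a, c) ∈ S₂
    · rw [if_pos hmem]
    · rw [if_neg hmem]
      have h0 : y a c = 0 := by
        apply hy0 a c (by omega)
        apply hS a (c + 1) (by omega)
        intro hmem'
        apply hmem
        rw [hS₂, Finset.mem_image]
        exact ⟨(a, c + 1), hmem', by simp⟩
      rw [h0, smul_zero]
  set x' := x - ((HomologicalComplex.tensorObj P M).d (n - 1) n).hom W with hx'def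
  have hx' : ((HomologicalComplex.tensorObj P M).d n (n + 1)).hom x' = 0 := by
    rw [hx'def, map_sub, hx, hom_d_d, sub_zero]
  -- Step 2
  have comp : ∀ (a a₁ b : ℤ) (ha : a + 1 = a₁) (hab : a + b = n),
      LinearMap.rTensor (M.X b) (P.d a a₁).hom (π P M n a b hab x') = 0 := by
    intro a a₁ b ha hab
    subst ha
    obtain ⟨c, rfl⟩ : ∃ c, b = c + 1 := ⟨b - 1, by omega⟩
    rw [hx'def, map_sub, π_d P M (n - 1) n (by omega) W a (c + 1) (a - 1) c hab (by omega) rfl,
      hW' a c (by omega), hW' (a - 1) (c + 1) (by omega), whiskerRight_eq, whiskerLeft_eq,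
      Units.smul_def, map_zsmul, map_zsmul, smul_smul, negOnePow_sq, one_smul, map_sub, map_add,
      map_zsmul, rTensor_d_d, smul_zero, zero_add, ← map_sub]
    exact hy1 a c hab
  -- Step 3
  have st3 : ∀ ij : HTor.Antidiag n, ∃ e : P.cycles ij.1.1 ⊗[A] M.cycles ij.1.2,
      TensorProduct.map (P.iCycles ij.1.1).hom (M.iCycles ij.1.2).hom e =
        π P M n ij.1.1 ij.1.2 ij.2 x' ∧ (π P M n ij.1.1 ij.1.2 ij.2 x' = 0 → e = 0) := by
    rintro ⟨⟨a, b⟩, hab⟩
    change a + b = n at hab
    change ∃ e : P.cycles a ⊗[A] M.cycles b,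
      TensorProduct.map (P.iCycles a).hom (M.iCycles b).hom e = π P M n a b hab x' ∧
        (π P M n a b hab x' = 0 → e = 0)
    by_cases h0 : π P M n a b hab x' = 0
    · exact ⟨0, by rw [map_zero, h0], fun _ => rfl⟩
    obtain ⟨c₁, hc₁⟩ := lemB (P.iCycles a).hom (P.d a (a + 1)).hom
      (exact_iCycles_d P a (a + 1) (by simp)) (M.X b) (hK6 a (a + 1) rfl (M.X b))
      (π P M n a b hab x') (comp a (a + 1) b rfl hab)
    obtain ⟨a', rfl⟩ : ∃ a', a = a' + 1 := ⟨a - 1, by omega⟩
    have h1 := π_d P M n (n + 1) rfl x' (a' + 1) (b + 1) a' b (by omega) rfl rfl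
    rw [hx', map_zero, whiskerRight_eq, whiskerLeft_eq, comp a' (a' + 1) (b + 1) rfl (by omega),
      zero_add, Units.smul_def] at h1
    have h2 : LinearMap.lTensor (P.X (a' + 1)) (M.d b (b + 1)).hom (π P M n (a' + 1) b hab x') = 0 :=
      zsmul_negOnePow_eq_zero (a' + 1) _ h1.symm
    have h3 : LinearMap.lTensor (P.cycles (a' + 1)) (M.d b (b + 1)).hom c₁ = 0 := by
      apply hK3 (a' + 1) (M.X (b + 1))
      rw [map_zero, rTensor_lTensor_comm, hc₁, h2]
    have := hK1 (a' + 1)
    have hex := Module.Flat.lTensor_exact (P.cycles (a' + 1))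
      (exact_iCycles_d M b (b + 1) (by simp))
    obtain ⟨e, he⟩ := (hex c₁).1 h3
    refine ⟨e, ?_, fun h0' => absurd h0' h0⟩
    rw [← hc₁, ← he, ← LinearMap.comp_apply, LinearMap.rTensor_comp_lTensor]
  choose e he he0 using st3
  obtain ⟨S', hS'⟩ := exists_finset_support P M n x'
  set E : CycSum P M n := DirectSum.mk _ (S'.subtype (fun ij : ℤ × ℤ => ij.1 + ij.2 = n))
    (fun ij => e ij.1) with hE
  have hEe : ∀ ij : HTor.Antidiag n, E ij = e ij := by
    intro ij
    by_cases hmem : ij ∈ S'.subtype (fun ij : ℤ × ℤ => ij.1 + ij.2 = n)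
    · rw [hE, DirectSum.mk_apply_of_mem hmem]
    · rw [hE, DirectSum.mk_apply_of_notMem hmem]
      symm
      apply he0
      obtain ⟨⟨a, b⟩, hab⟩ := ij
      apply hS' a b hab
      intro hmem'
      apply hmem
      rw [Finset.mem_subtype]
      exact hmem'
  have hG : ((HomologicalComplex.tensorObj P M).iCycles n).hom (Gsum P M n E) = x' := by
    rw [← sub_eq_zero]
    apply eq_zero_of_π_eq_zero
    intro a b hab
    rw [map_sub, π_Gsum, hEe, sub_eq_zero]
    exact he ⟨(a, b), hab⟩
  have hw' : Gsum P M n E = w - ((HomologicalComplex.tensorObj P M).toCycles (n - 1) n).hom W := by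
    apply iCycles_injective' (HomologicalComplex.tensorObj P M) n
    rw [hG, map_sub, iCycles_toCycles]
  refine ⟨qsum P M n E, ?_⟩
  rw [Phi_qsum, hw', map_sub, homologyπ_toCycles, sub_zero]

end Groth.Agent.Lib.Helper11.Kun
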