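import Mathlib
import Groth.Agent.Lib.Helper11.Kun4

/-!
# Künneth filtration, part 7: tensoring a short exact sequence of complexes, naturality of the
Künneth map
-/

set_option autoImplicit false
set_option linter.unusedSectionVars false
universe u
open CategoryTheory CategoryTheory.Limits MonoidalCategory HomologicalComplex TensorProduct Function

namespace Groth.Agent.Lib.Helper11.Kun

open Groth.Agent.Lib.Helper28.TensorCx Groth.Agent.Lib.Helper28.FlatCx

variable {A : Type u} [CommRing A] (M : CochainComplex (ModuleCat.{u} A) ℤ)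

section TMap

variable {K K' : CochainComplex (ModuleCat.{u} A) ℤ} (f : K ⟶ K')

/-- `f ⊗ 1` on terms -/
noncomputable def tmap (n : ℤ) :
    (HomologicalComplex.tensorObj K M).X n →ₗ[A] (HomologicalComplex.tensorObj K' M).X n :=
  ((HomologicalComplex.tensorHom f (𝟙 M)).f n).hom

theorem tensorHom_id_hom (a b : ℤ) :
    (f.f a ⊗ₘ (𝟙 M : M ⟶ M).f b).hom = LinearMap.rTensor (M.X b) (f.f a).hom := rfl

theorem tmap_ι (n a b : ℤ) (h : a + b = n) (y : K.X a ⊗[A] M.X b) :
    tmap M f n (ι K M n a b h y) = ι K' M n a b h (LinearMap.rTensor (M.X b) (f.f a).hom y) := by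
  unfold tmap
  rw [map_ι, tensorHom_id_hom]

theorem π_tmap (n a b : ℤ) (h : a + b = n) (x : (HomologicalComplex.tensorObj K M).X n) :
    π K' M n a b h (tmap M f n x) = LinearMap.rTensor (M.X b) (f.f a).hom (π K M n a b h x) := by
  unfold tmap
  rw [π_map, tensorHom_id_hom]

end TMap

section SES

variable {K P L : CochainComplex (ModuleCat.{u} A) ℤ} (i : K ⟶ P) (p : P ⟶ L)
  (hinj : ∀ a, Injective (i.f a).hom) (hex : ∀ a, Exact (i.f a).hom (p.f a).hom)
  (hsurj : ∀ a, Surjective (p.f a).hom) (hflat : ∀ a, Module.Flat A (L.X a))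

include hinj hex hsurj hflat in
theorem tmap_injective (n : ℤ) : Injective (tmap M i n) := by
  rw [injective_iff_map_eq_zero]
  intro x hx
  apply eq_zero_of_π_eq_zero
  intro a b h
  have h1 := π_tmap M i n a b h x
  rw [hx, map_zero] at h1
  have := hflat a
  exact (injective_iff_map_eq_zero _).1
    (rTensor_injective_of_exact_of_flat (i.f a).hom (p.f a).hom (hinj a) (hsurj a) (hex a) (M.X b))
    _ h1.symm

include hsurj in
theorem tmap_surjective (n : ℤ) : Surjective (tmap M p n) := by
  rw [← LinearMap.range_eq_top]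
  set R := LinearMap.range (tmap M p n)
  have h : R.mkQ = 0 := by
    apply lhom_ext
    intro a b hab y
    obtain ⟨y', rfl⟩ := LinearMap.rTensor_surjective (M.X b) (hsurj a) y
    rw [← tmap_ι, LinearMap.zero_apply, Submodule.mkQ_apply, Submodule.Quotient.mk_eq_zero]
    exact ⟨_, rfl⟩
  rw [← Submodule.ker_mkQ R, h, LinearMap.ker_zero]

include hex hsurj in
theorem tmap_exact (n : ℤ) : Exact (tmap M i n) (tmap M p n) := by
  classical
  intro x
  constructor
  · intro hx
    have st : ∀ a c : ℤ, ∃ y : K.X a ⊗[A] M.X c, ∀ h : a + c = n,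
        LinearMap.rTensor (M.X c) (i.f a).hom y = π P M n a c h x := by
      intro a c
      by_cases h : a + c = n
      · have h1 := π_tmap M p n a c h x
        rw [hx, map_zero] at h1
        obtain ⟨y, hy⟩ := (rTensor_exact (M.X c) (hex a) (hsurj a) _).1 h1.symm
        exact ⟨y, fun _ => hy⟩
      · exact ⟨0, fun h' => absurd h' h⟩
    choose y hy using st
    obtain ⟨S, hS⟩ := exists_finset_support P M n x
    obtain ⟨W, hW⟩ := exists_with_components K M n y S
    refine ⟨W, ?_⟩
    rw [← sub_eq_zero]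
    apply eq_zero_of_π_eq_zero
    intro a c h
    rw [map_sub, π_tmap, hW a c h, sub_eq_zero]
    by_cases hmem : (a, c) ∈ S
    · rw [if_pos hmem, hy a c h]
    · rw [if_neg hmem, map_zero, hS a c h hmem]
  · rintro ⟨w, rfl⟩
    apply eq_zero_of_π_eq_zero
    intro a c h
    rw [π_tmap, π_tmap, ← LinearMap.comp_apply, ← LinearMap.rTensor_comp,
      (hex a).linearMap_comp_eq_zero, LinearMap.rTensor_zero, LinearMap.zero_apply]

end SES

section SC

variable (S₀ : ShortComplex (CochainComplex (ModuleCat.{u} A) ℤ))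

/-- the short complex `S₀ ⊗ M` -/
noncomputable def tensorSC : ShortComplex (CochainComplex (ModuleCat.{u} A) ℤ) :=
  ShortComplex.mk (HomologicalComplex.tensorHom S₀.f (𝟙 M)) (HomologicalComplex.tensorHom S₀.g (𝟙 M))
    (by
      ext n : 1
      apply ModuleCat.hom_ext
      change tmap M S₀.g n ∘ₗ tmap M S₀.f n = 0
      apply lhom_ext
      intro a b hab y
      rw [LinearMap.comp_apply, tmap_ι, tmap_ι]
      have : (S₀.g.f a).hom ∘ₗ (S₀.f.f a).hom = 0 := by
        have h1 := S₀.zero
        have h2 := congrArg (fun φ : S₀.X₁ ⟶ S₀.X₃ => ModuleCat.Hom.hom (φ.f a)) h1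
        exact h2
      have h0 : LinearMap.rTensor (M.X b) (S₀.g.f a).hom
          (LinearMap.rTensor (M.X b) (S₀.f.f a).hom y) = 0 := by
        rw [← LinearMap.comp_apply, ← LinearMap.rTensor_comp, this, LinearMap.rTensor_zero,
          LinearMap.zero_apply]
      rw [h0, map_zero, LinearMap.zero_apply])

variable (hS₀ : S₀.ShortExact) (hflat : ∀ a, Module.Flat A (S₀.X₃.X a))

include hS₀ hflat in
theorem tensorSC_shortExact : (tensorSC M S₀).ShortExact := by
  have hdeg := (HomologicalComplex.shortExact_iff_degreewise_shortExact S₀).1 hS₀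
  have hinj : ∀ a, Injective (S₀.f.f a).hom := fun a => (hdeg a).moduleCat_injective_f
  have hsurj : ∀ a, Surjective (S₀.g.f a).hom := fun a => (hdeg a).moduleCat_surjective_g
  have hex : ∀ a, Exact (S₀.f.f a).hom (S₀.g.f a).hom := fun a =>
    (ShortComplex.ShortExact.moduleCat_exact_iff_function_exact _).1 (hdeg a).exact
  apply HomologicalComplex.shortExact_of_degreewise_shortExact
  intro n
  apply ModuleCat.shortComplex_shortExact
  · exact tmap_exact M S₀.f S₀.g hex hsurj n
  · exact tmap_injective M S₀.f S₀.g hinj hex hsurj hflat n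
  · exact tmap_surjective M S₀.g hsurj n

end SC

section LES

variable {S : ShortComplex (CochainComplex (ModuleCat.{u} A) ℤ)} (hS : S.ShortExact)

theorem range_g_eq_ker_δ (n : ℤ) :
    LinearMap.range (HomologicalComplex.homologyMap S.g n).hom =
      LinearMap.ker (hS.δ n (n + 1) rfl).hom :=
  (hS.homology_exact₃ n (n + 1) rfl).moduleCat_range_eq_ker

theorem range_δ_eq_ker_f (n : ℤ) :
    LinearMap.range (hS.δ n (n + 1) rfl).hom =
      LinearMap.ker (HomologicalComplex.homologyMap S.f (n + 1)).hom :=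
  (hS.homology_exact₁ n (n + 1) rfl).moduleCat_range_eq_ker

include hS in
theorem range_f_eq_ker_g (n : ℤ) :
    LinearMap.range (HomologicalComplex.homologyMap S.f n).hom =
      LinearMap.ker (HomologicalComplex.homologyMap S.g n).hom :=
  (hS.homology_exact₂ n).moduleCat_range_eq_ker

end LES

section Nat

variable {K K' : CochainComplex (ModuleCat.{u} A) ℤ} (f : K ⟶ K')

/-- the map `⊕ H^i(f) ⊗ 1` on Künneth sums -/
noncomputable def Jmap (n : ℤ) : HTor.KunnethSum K M n →ₗ[A] HTor.KunnethSum K' M n :=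
  DirectSum.lmap (fun ij =>
    LinearMap.rTensor (M.homology ij.1.2) (HomologicalComplex.homologyMap f ij.1.1).hom)

theorem homologyMap_homologyπ {X Y : CochainComplex (ModuleCat.{u} A) ℤ} (φ : X ⟶ Y) (n : ℤ)
    (z : X.cycles n) :
    (HomologicalComplex.homologyMap φ n).hom ((X.homologyπ n).hom z) =
      (Y.homologyπ n).hom ((HomologicalComplex.cyclesMap φ n).hom z) :=
  congrArg (fun g => g.hom z) (HomologicalComplex.homologyπ_naturality φ n)

theorem iCycles_cyclesMap {X Y : CochainComplex (ModuleCat.{u} A) ℤ} (φ : X ⟶ Y) (n : ℤ)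
    (z : X.cycles n) :
    (Y.iCycles n).hom ((HomologicalComplex.cyclesMap φ n).hom z) =
      (φ.f n).hom ((X.iCycles n).hom z) :=
  congrArg (fun g => g.hom z) (HomologicalComplex.cyclesMap_i φ n)

theorem cyclesMap_gcyc (n a b : ℤ) (h : a + b = n) (z : K.cycles a) (z' : M.cycles b) :
    (HomologicalComplex.cyclesMap (HomologicalComplex.tensorHom f (𝟙 M)) n).hom
      (gcyc K M n a b h (z ⊗ₜ z')) =
      gcyc K' M n a b h ((HomologicalComplex.cyclesMap f a).hom z ⊗ₜ z') := by
  apply iCycles_injective' (HomologicalComplex.tensorObj K' M) n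
  rw [iCycles_cyclesMap, iCycles_gcyc, iCycles_gcyc, gmap_tmul, gmap_tmul, iCycles_cyclesMap]
  exact tmap_ι M f n a b h _

theorem homologyMap_Phi (n : ℤ) (ξ : HTor.KunnethSum K M n) :
    (HomologicalComplex.homologyMap (HomologicalComplex.tensorHom f (𝟙 M)) n).hom (Phi K M n ξ) =
      Phi K' M n (Jmap M f n ξ) := by
  have key : (HomologicalComplex.homologyMap (HomologicalComplex.tensorHom f (𝟙 M)) n).hom ∘ₗ
      Phi K M n = Phi K' M n ∘ₗ Jmap M f n := by
    apply DirectSum.linearMap_ext
    intro ij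
    apply LinearMap.ext
    intro t
    obtain ⟨s, rfl⟩ := TensorProduct.map_surjective (homologyπ_surjective K ij.1.1)
      (homologyπ_surjective M ij.1.2) t
    rw [LinearMap.comp_apply, LinearMap.comp_apply, LinearMap.comp_apply, LinearMap.comp_apply]
    unfold Jmap
    rw [DirectSum.lmap_lof, Phi_lof, Phi_lof, PhiC_map]
    induction s using TensorProduct.induction_on with
    | zero => simp
    | tmul z z' =>
      unfold psi
      rw [LinearMap.comp_apply, homologyMap_homologyπ, cyclesMap_gcyc, TensorProduct.map_tmul,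
        LinearMap.rTensor_tmul, homologyMap_homologyπ]
      have h1 : ((K'.homologyπ ij.1.1).hom ((HomologicalComplex.cyclesMap f ij.1.1).hom z) ⊗ₜ[A]
          (M.homologyπ ij.1.2).hom z' : K'.homology ij.1.1 ⊗[A] M.homology ij.1.2) =
          TensorProduct.map (K'.homologyπ ij.1.1).hom (M.homologyπ ij.1.2).hom
            ((HomologicalComplex.cyclesMap f ij.1.1).hom z ⊗ₜ z') := rfl
      rw [h1, PhiC_map]
      rfl
    | add x y hx hy =>
      rw [map_add, map_add, map_add, map_add, map_add, hx, hy]
  exact LinearMap.congr_fun key ξ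

theorem Jmap_apply (n : ℤ) (ξ : HTor.KunnethSum K M n) (ij : HTor.Antidiag n) :
    Jmap M f n ξ ij =
      LinearMap.rTensor (M.homology ij.1.2) (HomologicalComplex.homologyMap f ij.1.1).hom (ξ ij) :=
  rfl

theorem Jmap_surjective (hf : ∀ a, Surjective (HomologicalComplex.homologyMap f a).hom) (n : ℤ) :
    Surjective (Jmap M f n) := by
  unfold Jmap
  rw [DirectSum.lmap_surjective]
  intro ij
  exact LinearMap.rTensor_surjective _ (hf _)

end Nat

end Groth.Agent.Lib.Helper11.Kun
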