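import Mathlib
import Groth.Agent.Lib.Helper11.Kun5
import Groth.Agent.Lib.Helper11.Kun6
import Groth.Agent.Lib.Helper11.Kun7
import Groth.Agent.Lib.Helper11.IntMultM

/-!
# Künneth filtration, part 8: Tor identifications and the kernel of the free cover
-/

set_option autoImplicit false
set_option linter.unusedSectionVars false
universe u
open CategoryTheory CategoryTheory.Limits MonoidalCategory HomologicalComplex TensorProduct Function

namespace Groth.Agent.Lib.Helper11.Kun

open Groth.Agent.Lib.Helper28.TensorCx Groth.Agent.Lib.Helper28.FlatCx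
open Groth.Agent.Lib.Helper16.HNF

variable {A : Type u} [CommRing A]

section TorId

variable {HK HP HL N : Type u} [AddCommGroup HK] [Module A HK] [AddCommGroup HP] [Module A HP]
  [AddCommGroup HL] [Module A HL] [AddCommGroup N] [Module A N]

theorem nonempty_tor_equiv_of_equiv {X X' : Type u} [AddCommGroup X] [Module A X]
    [AddCommGroup X'] [Module A X'] (e : X ≃ₗ[A] X') (q : ℕ) :
    Nonempty (DRing.Tor A q X N ≃ₗ[A] DRing.Tor A q X' N) :=
  ⟨(((CategoryTheory.Tor (ModuleCat.{u} A) q).mapIso e.toModuleIso).app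
    (ModuleCat.of A N)).toLinearEquiv⟩

theorem nonempty_ker_equiv_of_comp {X X' Y : Type u} [AddCommGroup X] [Module A X]
    [AddCommGroup X'] [Module A X'] [AddCommGroup Y] [Module A Y] (e : X ≃ₗ[A] X')
    (g : X' →ₗ[A] Y) (g' : X →ₗ[A] Y) (h : g' = g ∘ₗ e.toLinearMap) :
    Nonempty (LinearMap.ker g' ≃ₗ[A] LinearMap.ker g) := by
  let r : LinearMap.ker g' →ₗ[A] LinearMap.ker g :=
    e.toLinearMap.restrict (fun x hx => by
      rw [LinearMap.mem_ker] at hx ⊢
      rw [h] at hx
      exact hx)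
  refine ⟨LinearEquiv.ofBijective r ⟨?_, ?_⟩⟩
  · intro x y hxy
    apply Subtype.ext
    apply e.injective
    exact congrArg Subtype.val hxy
  · rintro ⟨y, hy⟩
    refine ⟨⟨e.symm y, ?_⟩, ?_⟩
    · rw [LinearMap.mem_ker] at hy ⊢
      rw [h, LinearMap.comp_apply, LinearEquiv.coe_coe, LinearEquiv.apply_symm_apply, hy]
    · apply Subtype.ext
      exact e.apply_symm_apply y

variable (ιH : HK →ₗ[A] HP) (πH : HP →ₗ[A] HL) (hι : Injective ιH) (hπ : Surjective πH)
  (hex : Exact ιH πH) [Module.Projective A HP]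

/-- `H^a(K) ≃ ker π` -/
noncomputable def kerEquiv : HK ≃ₗ[A] LinearMap.ker πH :=
  LinearEquiv.ofBijective (LinearMap.codRestrict (LinearMap.ker πH) ιH (fun x => by
    rw [LinearMap.mem_ker]
    exact hex.apply_apply_eq_zero x)) ⟨fun x y hxy => hι (congrArg Subtype.val hxy), by
    rintro ⟨y, hy⟩
    obtain ⟨x, rfl⟩ := (hex y).1 hy
    exact ⟨x, rfl⟩⟩

theorem subtype_comp_kerEquiv :
    (LinearMap.ker πH).subtype ∘ₗ (kerEquiv ιH πH hι hex).toLinearMap = ιH := by
  apply LinearMap.ext
  intro x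
  rfl

include hι hπ hex in
theorem nonempty_ker_rTensor_equiv_tor_one :
    Nonempty (LinearMap.ker (LinearMap.rTensor N ιH) ≃ₗ[A] DRing.Tor A 1 HL N) := by
  obtain ⟨e1⟩ := Groth.Agent.Lib.Helper11.IntMultM.tor_one_equiv πH hπ N
  have h : LinearMap.rTensor N ιH = LinearMap.rTensor N (LinearMap.ker πH).subtype ∘ₗ
      (LinearEquiv.rTensor N (kerEquiv ιH πH hι hex)).toLinearMap := by
    conv_lhs => rw [← subtype_comp_kerEquiv ιH πH hι hex, LinearMap.rTensor_comp]
    rfl
  obtain ⟨e2⟩ := nonempty_ker_equiv_of_comp (LinearEquiv.rTensor N (kerEquiv ιH πH hι hex))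
    (LinearMap.rTensor N (LinearMap.ker πH).subtype) (LinearMap.rTensor N ιH) h
  exact ⟨e2 ≪≫ₗ e1.symm⟩

include hι hπ hex in
theorem nonempty_tor_shift (q : ℕ) (hq : 1 ≤ q) :
    Nonempty (DRing.Tor A q HK N ≃ₗ[A] DRing.Tor A (q + 1) HL N) := by
  obtain ⟨e1⟩ := Groth.Agent.Lib.Helper11.IntMultM.tor_succ_equiv πH hπ N q hq
  obtain ⟨e2⟩ := nonempty_tor_equiv_of_equiv (N := N) (kerEquiv ιH πH hι hex) q
  exact ⟨e2 ≪≫ₗ e1.symm⟩

end TorId

section Kernel

variable (L : CochainComplex (ModuleCat.{u} A) ℤ)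

/-- the short complex `ker → Pcx L → L` -/
noncomputable def coverSC : ShortComplex (CochainComplex (ModuleCat.{u} A) ℤ) :=
  ShortComplex.mk (kernel.ι (pmap L)) (pmap L) (kernel.condition _)

theorem coverSC_shortExact : (coverSC L).ShortExact where
  exact := ShortComplex.exact_of_f_is_kernel _ (kernelIsKernel _)
  mono_f := by unfold coverSC; infer_instance
  epi_g := HomologicalComplex.epi_of_epi_f _ (fun i =>
    (ModuleCat.epi_iff_surjective _).2 (aug_surjective L i))

/-- the kernel complex -/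
noncomputable abbrev Kcx : CochainComplex (ModuleCat.{u} A) ℤ := (coverSC L).X₁

theorem coverSC_inj (a : ℤ) : Injective ((coverSC L).f.f a).hom :=
  ((HomologicalComplex.shortExact_iff_degreewise_shortExact _).1 (coverSC_shortExact L)
    a).moduleCat_injective_f

theorem coverSC_surj (a : ℤ) : Surjective ((coverSC L).g.f a).hom :=
  ((HomologicalComplex.shortExact_iff_degreewise_shortExact _).1 (coverSC_shortExact L)
    a).moduleCat_surjective_g

theorem coverSC_exact (a : ℤ) : Exact ((coverSC L).f.f a).hom ((coverSC L).g.f a).hom :=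
  (ShortComplex.ShortExact.moduleCat_exact_iff_function_exact _).1
    ((HomologicalComplex.shortExact_iff_degreewise_shortExact _).1 (coverSC_shortExact L) a).exact

theorem flat_Kcx (hflat : ∀ a, Module.Flat A (L.X a)) (a : ℤ) : Module.Flat A ((Kcx L).X a) := by
  have h1 : Module.Flat A ((coverSC L).X₂.X a) := flat_Pcx L a
  have h2 : Module.Flat A ((coverSC L).X₃.X a) := hflat a
  exact flat_left_of_exact ((coverSC L).f.f a).hom ((coverSC L).g.f a).hom (coverSC_inj L a)
    (coverSC_surj L a) (coverSC_exact L a)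

theorem isZero_Kcx (b : ℤ) (hb : ∀ i, b < i → IsZero (L.X i)) (a : ℤ) (ha : b < a) :
    IsZero ((Kcx L).X a) := by
  have h1 : Subsingleton ((coverSC L).X₂.X a) :=
    ModuleCat.subsingleton_of_isZero (isZero_Pcx L b hb a ha)
  have : Subsingleton ((Kcx L).X a) := (coverSC_inj L a).subsingleton
  exact ModuleCat.isZero_of_subsingleton _

theorem homologyMap_g_surjective (a : ℤ) :
    Surjective (HomologicalComplex.homologyMap (coverSC L).g a).hom :=
  homologyMap_pmap_surjective L a

theorem homologyMap_f_injective (a : ℤ) :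
    Injective (HomologicalComplex.homologyMap (coverSC L).f a).hom := by
  obtain ⟨a', rfl⟩ : ∃ a', a = a' + 1 := ⟨a - 1, by omega⟩
  have hS := coverSC_shortExact L
  have h1 := range_g_eq_ker_δ hS a'
  have h2 := range_δ_eq_ker_f hS a'
  rw [LinearMap.range_eq_top.2 (homologyMap_g_surjective L a')] at h1
  rw [← LinearMap.ker_eq_bot, ← h2, LinearMap.range_eq_bot, ← LinearMap.ker_eq_top]
  exact h1.symm

theorem homologyMap_f_g_exact (a : ℤ) :
    Exact (HomologicalComplex.homologyMap (coverSC L).f a).hom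
      (HomologicalComplex.homologyMap (coverSC L).g a).hom := by
  rw [LinearMap.exact_iff]
  exact (range_f_eq_ker_g (coverSC_shortExact L) a).symm

end Kernel

end Groth.Agent.Lib.Helper11.Kun
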