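import Mathlib
import Groth.Agent.Lib.Helper11.Kun8

/-!
# Künneth filtration, part 9: the inductive step and the filtration
-/

set_option autoImplicit false
set_option linter.unusedSectionVars false
universe u
open CategoryTheory CategoryTheory.Limits MonoidalCategory HomologicalComplex TensorProduct Function

namespace Groth.Agent.Lib.Helper11.Kun

open Groth.Agent.Lib.Helper28.TensorCx Groth.Agent.Lib.Helper28.FlatCx
open Groth.Agent.Lib.Helper16.HNF

variable {A : Type u} [CommRing A] (M : CochainComplex (ModuleCat.{u} A) ℤ)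

/-- the filtration statement -/
def Q (L : CochainComplex (ModuleCat.{u} A) ℤ) (n : ℤ) : Prop :=
  ∃ (N : ℕ) (F : ℕ → Submodule A ((HTor.tensorCx L M).homology n)),
    F 0 = LinearMap.range (Phi L M n) ∧ Monotone F ∧ F N = ⊤ ∧
      ∀ p : ℕ, HTor.IsSubquotient A (HTor.grSucc F p) (HTor.TorSum L M n (p + 1))

theorem Q_of_large (L : CochainComplex (ModuleCat.{u} A) ℤ) (bL bM : ℤ)
    (hbL : ∀ i, bL < i → IsZero (L.X i)) (hbM : ∀ i, bM < i → IsZero (M.X i)) (n : ℤ)
    (hn : bL + bM < n) : Q M L n := by
  have h1 : Subsingleton ((HomologicalComplex.tensorObj L M).X n) := by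
    refine ⟨fun x y => ?_⟩
    rw [← sub_eq_zero]
    apply eq_zero_of_π_eq_zero
    intro a b hab
    by_cases ha : bL < a
    · have : Subsingleton (L.X a) := ModuleCat.subsingleton_of_isZero (hbL a ha)
      have : Subsingleton (L.X a ⊗[A] M.X b) := inferInstance
      exact Subsingleton.elim _ _
    · have : Subsingleton (M.X b) := ModuleCat.subsingleton_of_isZero (hbM b (by omega))
      have : Subsingleton (L.X a ⊗[A] M.X b) := inferInstance
      exact Subsingleton.elim _ _
  have h2 : Subsingleton ((HomologicalComplex.tensorObj L M).cycles n) :=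
    (iCycles_injective' (HomologicalComplex.tensorObj L M) n).subsingleton
  have h3 : Subsingleton ((HTor.tensorCx L M).homology n) :=
    (homologyπ_surjective (HomologicalComplex.tensorObj L M) n).subsingleton
  refine ⟨0, fun _ => ⊤, ?_, fun _ _ _ => le_rfl, rfl, fun p => ?_⟩
  · apply le_antisymm
    · intro x _
      rw [Subsingleton.elim x 0]
      exact Submodule.zero_mem _
    · exact le_top
  · have : Subsingleton (HTor.grSucc (fun _ : ℕ => (⊤ : Submodule A ((HTor.tensorCx L M).homology n))) p) := by
      refine ⟨fun x y => ?_⟩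
      obtain ⟨x, rfl⟩ := Submodule.mkQ_surjective _ x
      obtain ⟨y, rfl⟩ := Submodule.mkQ_surjective _ y
      rw [Subsingleton.elim x y]
    exact isSubquotient_of_subsingleton

section Step

variable (L : CochainComplex (ModuleCat.{u} A) ℤ) (hflat : ∀ a, Module.Flat A (L.X a))
  (b : ℤ) (hb : ∀ i, b < i → IsZero (L.X i))

include hb in
theorem Phi_Pcx_bijective (n : ℤ) : Bijective (Phi (Pcx L) M n) := by
  have hP1 := flat_Pcx L
  have hP2 := flat_homology_Pcx L
  have hP3 := isZero_Pcx L b hb
  refine ⟨Phi_injective (Pcx L) M hP2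
    (fun i N _ _ => rTensor_homologyι_injective (Pcx L) hP1 hP2 b hP3 i N) n,
    Phi_surjective (Pcx L) M (flat_cycles (Pcx L) hP1 hP2 b hP3)
      (fun i N _ _ => rTensor_iCycles_injective (Pcx L) hP1 hP2 b hP3 i N)
      (fun i j hij N _ _ => ?_) n⟩
  obtain rfl : i = j - 1 := by omega
  exact rTensor_range_d_injective (Pcx L) hP1 hP2 b hP3 j N

include hflat hb in
theorem Q_step (n : ℤ) (hK : Q M (Kcx L) (n + 1)) : Q M L n := by
  classical
  have hS₀ := coverSC_shortExact L
  have hS : (tensorSC M (coverSC L)).ShortExact := tensorSC_shortExact M (coverSC L) hS₀ hflat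
  set δ : (HTor.tensorCx L M).homology n →ₗ[A] (HTor.tensorCx (Kcx L) M).homology (n + 1) :=
    (hS.δ n (n + 1) rfl).hom with hδ
  have hPb := Phi_Pcx_bijective M L b hb
  -- range Φ_L = ker δ
  have KF : LinearMap.range (Phi L M n) = LinearMap.ker δ := by
    have h1 : LinearMap.range (HomologicalComplex.homologyMap (tensorSC M (coverSC L)).g n).hom =
        LinearMap.ker δ := range_g_eq_ker_δ hS n
    rw [← h1]
    apply le_antisymm
    · rintro _ ⟨η, rfl⟩
      obtain ⟨ξ, rfl⟩ := Jmap_surjective M (coverSC L).g (homologyMap_g_surjective L) n η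
      exact ⟨Phi (Pcx L) M n ξ, homologyMap_Phi M (coverSC L).g n ξ⟩
    · rintro _ ⟨h, rfl⟩
      obtain ⟨ξ, rfl⟩ := (hPb n).2 h
      exact ⟨_, (homologyMap_Phi M (coverSC L).g n ξ).symm⟩
  obtain ⟨N', F', h0, hmono, htop, hsub⟩ := hK
  refine ⟨N' + 1, fun p => Nat.rec (LinearMap.range (Phi L M n))
    (fun q _ => Submodule.comap δ (F' q)) p, rfl, ?_, ?_, ?_⟩
  · apply monotone_nat_of_le_succ
    intro p
    cases p with
    | zero =>
      change LinearMap.range (Phi L M n) ≤ Submodule.comap δ (F' 0)
      rw [KF]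
      intro x hx
      rw [Submodule.mem_comap, LinearMap.mem_ker.1 hx]
      exact Submodule.zero_mem _
    | succ q =>
      change Submodule.comap δ (F' q) ≤ Submodule.comap δ (F' (q + 1))
      exact Submodule.comap_mono (hmono (Nat.le_succ q))
  · change Submodule.comap δ (F' N') = ⊤
    rw [htop, Submodule.comap_top]
  · intro p
    cases p with
    | zero =>
      -- the bottom piece
      set J := Jmap M (coverSC L).f (n + 1) with hJ
      set V : Submodule A ((HTor.tensorCx (Kcx L) M).homology (n + 1)) :=
        Submodule.map (Phi (Kcx L) M (n + 1)) (LinearMap.ker J) with hVdef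
      have hV : F' 0 ⊓ LinearMap.range δ ≤ V := by
        rintro y ⟨hy1, hy2⟩
        rw [h0] at hy1
        obtain ⟨ξ, rfl⟩ := hy1
        have h2 : LinearMap.range δ = LinearMap.ker
            (HomologicalComplex.homologyMap (tensorSC M (coverSC L)).f (n + 1)).hom :=
          range_δ_eq_ker_f hS n
        rw [SetLike.mem_coe, h2] at hy2
        have hy3 : (HomologicalComplex.homologyMap (tensorSC M (coverSC L)).f (n + 1)).hom
            (Phi (Kcx L) M (n + 1) ξ) = 0 := hy2
        have h3 := homologyMap_Phi M (coverSC L).f (n + 1) ξ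
        have h4 : Phi (Pcx L) M (n + 1) (J ξ) = 0 := h3.symm.trans hy3
        have h5 : J ξ = 0 := (injective_iff_map_eq_zero _).1 (hPb (n + 1)).1 _ h4
        exact ⟨ξ, LinearMap.mem_ker.2 h5, rfl⟩
      have hVsub : HTor.IsSubquotient A ↥V (HTor.TorSum L M n (0 + 1)) := by
        let r : LinearMap.ker J →ₗ[A] ↥V :=
          LinearMap.codRestrict V (Phi (Kcx L) M (n + 1) ∘ₗ (LinearMap.ker J).subtype)
            (fun x => Submodule.mem_map_of_mem x.2)
        have hr : Surjective r := by
          rintro ⟨y, ξ, hξ, rfl⟩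
          exact ⟨⟨ξ, hξ⟩, rfl⟩
        refine IsSubquotient.of_surjective (N' := LinearMap.ker J) r hr ?_
        obtain ⟨e1⟩ := nonempty_ker_lmap_equiv (A := A) (fun ij : HTor.Antidiag (n + 1) =>
          LinearMap.rTensor (M.homology ij.1.2)
            (HomologicalComplex.homologyMap (coverSC L).f ij.1.1).hom)
        let σ : HTor.Antidiag (n + 1) ≃ {ij : ℤ × ℤ // ij.1 + ij.2 - ((0 + 1 : ℕ) : ℤ) = n} :=
          Equiv.subtypeEquivRight (fun ij => by
            constructor <;> intro h <;> push_cast at * <;> omega)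
        obtain ⟨e2⟩ := nonempty_directSum_equiv (A := A) σ
          (fun ij : HTor.Antidiag (n + 1) => LinearMap.ker (LinearMap.rTensor (M.homology ij.1.2)
            (HomologicalComplex.homologyMap (coverSC L).f ij.1.1).hom))
          (fun ij : {ij : ℤ × ℤ // ij.1 + ij.2 - ((0 + 1 : ℕ) : ℤ) = n} =>
            DRing.Tor A (0 + 1) (L.homology ij.1.1) (M.homology ij.1.2))
          (fun ij => by
            have : Module.Projective A ((coverSC L).X₂.homology ij.1.1) :=
              projective_homology_Pcx L ij.1.1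
            exact Classical.choice (nonempty_ker_rTensor_equiv_tor_one
              (HomologicalComplex.homologyMap (coverSC L).f ij.1.1).hom
              (HomologicalComplex.homologyMap (coverSC L).g ij.1.1).hom
              (homologyMap_f_injective L ij.1.1) (homologyMap_g_surjective L ij.1.1)
              (homologyMap_f_g_exact L ij.1.1)))
        exact IsSubquotient.of_equiv_right (e1 ≪≫ₗ e2) isSubquotient_refl
      exact isSubquotient_comap_ker δ (LinearMap.range (Phi L M n)) KF (F' 0) V hV hVsub
    | succ q =>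
      have h1 := hsub q
      let σ : {ij : ℤ × ℤ // ij.1 + ij.2 - ((q + 1 : ℕ) : ℤ) = n + 1} ≃
          {ij : ℤ × ℤ // ij.1 + ij.2 - ((q + 1 + 1 : ℕ) : ℤ) = n} :=
        Equiv.subtypeEquivRight (fun ij => by
          constructor <;> intro h <;> push_cast at * <;> omega)
      obtain ⟨e3⟩ := nonempty_directSum_equiv (A := A) σ
        (fun ij : {ij : ℤ × ℤ // ij.1 + ij.2 - ((q + 1 : ℕ) : ℤ) = n + 1} =>
          DRing.Tor A (q + 1) ((Kcx L).homology ij.1.1) (M.homology ij.1.2))
        (fun ij : {ij : ℤ × ℤ // ij.1 + ij.2 - ((q + 1 + 1 : ℕ) : ℤ) = n} =>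
          DRing.Tor A (q + 1 + 1) (L.homology ij.1.1) (M.homology ij.1.2))
        (fun ij => by
          have : Module.Projective A ((coverSC L).X₂.homology ij.1.1) :=
            projective_homology_Pcx L ij.1.1
          exact Classical.choice (nonempty_tor_shift
            (HomologicalComplex.homologyMap (coverSC L).f ij.1.1).hom
            (HomologicalComplex.homologyMap (coverSC L).g ij.1.1).hom
            (homologyMap_f_injective L ij.1.1) (homologyMap_g_surjective L ij.1.1)
            (homologyMap_f_g_exact L ij.1.1) (q + 1) (Nat.succ_pos q)))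
      have h2 : HTor.IsSubquotient A (HTor.grSucc F' q) (HTor.TorSum L M n (q + 1 + 1)) :=
        IsSubquotient.of_equiv_right e3 h1
      exact isSubquotient_comap δ (F' q) (F' (q + 1)) h2

end Step

theorem Q_of_bounded (bL bM : ℤ) (hbM : ∀ i, bM < i → IsZero (M.X i)) :
    ∀ (d : ℕ) (L : CochainComplex (ModuleCat.{u} A) ℤ) (n : ℤ), (∀ a, Module.Flat A (L.X a)) →
      (∀ i, bL < i → IsZero (L.X i)) → bL + bM + 1 - n ≤ d → Q M L n := by
  intro d
  induction d with
  | zero =>
    intro L n _ hbL hd
    exact Q_of_large M L bL bM hbL hbM n (by push_cast at hd; omega)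
  | succ d ih =>
    intro L n hflat hbL hd
    by_cases hn : bL + bM < n
    · exact Q_of_large M L bL bM hbL hbM n hn
    · apply Q_step M L hflat bL hbL n
      apply ih (Kcx L) (n + 1) (flat_Kcx L hflat) (isZero_Kcx L bL hbL)
      push_cast at hd
      omega

end Groth.Agent.Lib.Helper11.Kun
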