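import Mathlib
import Groth.Agent.Lib.Helper11.Kun9

/-!
# Künneth filtration, part 10: vanishing of `H^n(L ⊗ M)` from Tor vanishing
-/

set_option autoImplicit false
set_option linter.unusedSectionVars false
universe u
open CategoryTheory CategoryTheory.Limits MonoidalCategory HomologicalComplex TensorProduct Function

namespace Groth.Agent.Lib.Helper11.Kun

variable {A : Type u} [CommRing A] (L M : CochainComplex (ModuleCat.{u} A) ℤ)

theorem subsingleton_of_isSubquotient {N T : Type u} [AddCommGroup N] [Module A N]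
    [AddCommGroup T] [Module A T] [Subsingleton T] (h : HTor.IsSubquotient A N T) :
    Subsingleton N := by
  rw [isSubquotient_iff] at h
  obtain ⟨S', g, hg⟩ := h
  exact hg.subsingleton

theorem subsingleton_homology_of_tor (hL : ∀ a, Module.Flat A (L.X a)) (bl bm : ℤ)
    (hbl : ∀ i, bl < i → IsZero (L.X i)) (hbm : ∀ i, bm < i → IsZero (M.X i)) (n : ℤ)
    (h : ∀ (p : ℕ) (i j : ℤ), i + j - p = n →
      Subsingleton (DRing.Tor A p (L.homology i) (M.homology j))) :
    Subsingleton ((HTor.tensorCx L M).homology n) := by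
  obtain ⟨N, F, h0, _, htop, hsub⟩ :=
    Q_of_bounded M bl bm hbm (bl + bm + 1 - n).toNat L n hL hbl (by omega)
  -- the Künneth sum vanishes
  have hK : Subsingleton (HTor.KunnethSum L M n) := by
    refine ⟨fun x y => DFinsupp.ext (fun ij => ?_)⟩
    have h1 := h 0 ij.1.1 ij.1.2 (by rw [Nat.cast_zero, sub_zero]; exact ij.2)
    obtain ⟨e⟩ := Groth.Agent.Lib.Helper2.TorBalance.tor_zero_iso (M := L.homology ij.1.1)
      (M.homology ij.1.2)
    have : Subsingleton (L.homology ij.1.1 ⊗[A] M.homology ij.1.2) :=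
      e.symm.toLinearEquiv.toEquiv.subsingleton
    exact Subsingleton.elim _ _
  have hF0 : F 0 = ⊥ := by
    rw [h0, LinearMap.range_eq_bot]
    apply LinearMap.ext
    intro x
    rw [Subsingleton.elim x 0, map_zero, LinearMap.zero_apply]
  have hstep : ∀ p, F (p + 1) ≤ F p := by
    intro p
    have hT : Subsingleton (HTor.TorSum L M n (p + 1)) := by
      refine ⟨fun x y => DFinsupp.ext (fun ij => ?_)⟩
      have h1 := h (p + 1) ij.1.1 ij.1.2 ij.2
      exact Subsingleton.elim _ _
    have hs := subsingleton_of_isSubquotient (hsub p)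
    intro x hx
    have h2 : (Submodule.Quotient.mk ⟨x, hx⟩ : HTor.grSucc F p) = 0 := Subsingleton.elim _ _
    rw [Submodule.Quotient.mk_eq_zero] at h2
    exact h2
  have hall : ∀ p, F p = ⊥ := by
    intro p
    induction p with
    | zero => exact hF0
    | succ p ih => exact le_bot_iff.1 (ih ▸ hstep p)
  have htb : (⊤ : Submodule A ((HTor.tensorCx L M).homology n)) = ⊥ := htop ▸ hall N
  refine ⟨fun x y => ?_⟩
  have hx : x ∈ (⊤ : Submodule A ((HTor.tensorCx L M).homology n)) := trivial
  have hy : y ∈ (⊤ : Submodule A ((HTor.tensorCx L M).homology n)) := trivial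
  rw [htb, Submodule.mem_bot] at hx hy
  rw [hx, hy]

end Groth.Agent.Lib.Helper11.Kun
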