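import Mathlib

/-!
# The ideal `(𝔟, X)` of `A[X]` and the element `X - f`
-/

set_option autoImplicit false
set_option linter.unusedSectionVars false
set_option linter.unusedVariables false
universe u

open Polynomial

namespace Groth.Agent.Lib.Helper11.TorSys

variable {A : Type u} [CommRing A] (𝔟 : Ideal A) (f : A)

/-- the ideal `(𝔟, X)` of `A[X]` -/
noncomputable def BB : Ideal A[X] := 𝔟.map C ⊔ Ideal.span {X}

theorem C_mem_BB_pow {r : A} {k : ℕ} (hr : r ∈ 𝔟 ^ k) : C r ∈ BB 𝔟 ^ k := by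
  have h1 : C r ∈ (𝔟 ^ k).map (C : A →+* A[X]) := Ideal.mem_map_of_mem _ hr
  rw [Ideal.map_pow] at h1
  exact Ideal.pow_right_mono le_sup_left k h1

theorem X_pow_mem_BB_pow (k : ℕ) : (X : A[X]) ^ k ∈ BB 𝔟 ^ k :=
  Ideal.pow_mem_pow (le_sup_right (a := 𝔟.map C) (Ideal.mem_span_singleton_self X)) k

theorem monomial_mem_BB_pow {r : A} {q a : ℕ} (hr : r ∈ 𝔟 ^ (q - a)) :
    monomial a r ∈ BB 𝔟 ^ q := by
  rw [← C_mul_X_pow_eq_monomial]
  have h := Ideal.mul_mem_mul (C_mem_BB_pow 𝔟 hr) (X_pow_mem_BB_pow 𝔟 a)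
  rw [← pow_add] at h
  exact Ideal.pow_le_pow_right (by omega) h

/-- the ideal of polynomials whose `a`-th coefficient lies in `𝔟^(q-a)` -/
def WW (q : ℕ) : Ideal A[X] where
  carrier := {p | ∀ a, p.coeff a ∈ 𝔟 ^ (q - a)}
  add_mem' := by
    intro p p' hp hp' a
    rw [coeff_add]
    exact Ideal.add_mem _ (hp a) (hp' a)
  zero_mem' := by
    intro a
    rw [coeff_zero]
    exact Ideal.zero_mem _
  smul_mem' := by
    intro r p hp a
    rw [smul_eq_mul, coeff_mul]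
    refine Ideal.sum_mem _ ?_
    intro x hx
    have hx' : x.1 + x.2 = a := Finset.HasAntidiagonal.mem_antidiagonal.1 hx
    refine Ideal.mul_mem_left _ _ ?_
    exact Ideal.pow_le_pow_right (by omega) (hp x.2)

theorem mem_WW {q : ℕ} {p : A[X]} : p ∈ WW 𝔟 q ↔ ∀ a, p.coeff a ∈ 𝔟 ^ (q - a) := Iff.rfl

theorem WW_mul_le (q q' : ℕ) : WW 𝔟 q * WW 𝔟 q' ≤ WW 𝔟 (q + q') := by
  rw [Ideal.mul_le]
  intro p hp p' hp' a
  rw [coeff_mul]
  refine Ideal.sum_mem _ ?_
  intro x hx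
  have hx' : x.1 + x.2 = a := Finset.HasAntidiagonal.mem_antidiagonal.1 hx
  have h := Ideal.mul_mem_mul (hp x.1) (hp' x.2)
  rw [← pow_add] at h
  exact Ideal.pow_le_pow_right (by omega) h

theorem BB_le_WW : BB 𝔟 ≤ WW 𝔟 1 := by
  unfold BB
  rw [sup_le_iff]
  constructor
  · rw [Ideal.map_le_iff_le_comap]
    intro b hb a
    rw [coeff_C]
    split_ifs with h
    · subst h
      simpa using hb
    · exact Ideal.zero_mem _
  · rw [Ideal.span_le, Set.singleton_subset_iff]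
    intro a
    rw [coeff_X]
    split_ifs with h
    · subst h
      simp
    · exact Ideal.zero_mem _

theorem BB_pow_le_WW (q : ℕ) : BB 𝔟 ^ q ≤ WW 𝔟 q := by
  induction q with
  | zero =>
    intro p _ a
    simp
  | succ q ih =>
    rw [pow_succ]
    exact (Ideal.mul_mono ih (BB_le_WW 𝔟)).trans (WW_mul_le 𝔟 q 1)

theorem coeff_mem_of_mem_BB_pow {q : ℕ} {p : A[X]} (hp : p ∈ BB 𝔟 ^ q) (a : ℕ) :
    p.coeff a ∈ 𝔟 ^ (q - a) :=
  BB_pow_le_WW 𝔟 q hp a

/-- truncation below degree `q` does not change the class mod `(𝔟,X)^q` -/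
theorem sub_sum_monomial_mem (q : ℕ) (p : A[X]) :
    p - ∑ a ∈ Finset.range q, monomial a (p.coeff a) ∈ BB 𝔟 ^ q := by
  have hp : p = ∑ a ∈ Finset.range (max q (p.natDegree + 1)), monomial a (p.coeff a) := by
    conv_lhs => rw [p.as_sum_range' (max q (p.natDegree + 1)) (by omega)]
  have hsub : Finset.range q ⊆ Finset.range (max q (p.natDegree + 1)) :=
    Finset.range_subset_range.2 (le_max_left _ _)
  have e : p - ∑ a ∈ Finset.range q, monomial a (p.coeff a) =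
      ∑ a ∈ Finset.range (max q (p.natDegree + 1)) \ Finset.range q, monomial a (p.coeff a) := by
    rw [sub_eq_iff_eq_add, Finset.sum_sdiff hsub]
    exact hp
  rw [e]
  refine Ideal.sum_mem _ ?_
  intro a ha
  rw [Finset.mem_sdiff, Finset.mem_range, Finset.mem_range, not_lt] at ha
  apply monomial_mem_BB_pow
  rw [Nat.sub_eq_zero_of_le ha.2, pow_zero, Ideal.one_eq_top]
  exact Submodule.mem_top

/-- the element `y = X - f` -/
noncomputable def yy : A[X] := X - C f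

theorem yy_monic : (yy f).Monic := monic_X_sub_C f

theorem yy_mul_cancel {p p' : A[X]} (h : yy f * p = yy f * p') : p = p' :=
  (yy_monic f).isRegular.left h

/-- Artin–Rees for the principal ideal `(y)`. -/
theorem exists_AR [IsNoetherianRing A] :
    ∃ c : ℕ, ∀ (q : ℕ) (p : A[X]), yy f * p ∈ BB 𝔟 ^ q → p ∈ BB 𝔟 ^ (q - c) := by
  obtain ⟨k, hk⟩ := Ideal.exists_pow_inf_eq_pow_smul (BB 𝔟)
    (Ideal.span {yy f} : Submodule A[X] A[X])
  refine ⟨k, fun q p hp => ?_⟩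
  by_cases hq : k ≤ q
  · have hmem : yy f * p ∈ (BB 𝔟 ^ q • ⊤ ⊓ (Ideal.span {yy f} : Submodule A[X] A[X])) := by
      refine ⟨?_, ?_⟩
      · rw [Ideal.smul_top_eq_map, Algebra.algebraMap_self, Ideal.map_id] 
        exact hp
      · exact Ideal.mul_mem_right _ _ (Ideal.mem_span_singleton_self _)
    rw [hk q hq] at hmem
    have h2 : (BB 𝔟 ^ (q - k) • (BB 𝔟 ^ k • ⊤ ⊓ (Ideal.span {yy f} : Submodule A[X] A[X])) :
        Submodule A[X] A[X]) ≤ BB 𝔟 ^ (q - k) • (Ideal.span {yy f} : Submodule A[X] A[X]) :=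
      Submodule.smul_mono (le_refl _) inf_le_right
    have h3 := h2 hmem
    rw [smul_eq_mul, Ideal.mem_mul_span_singleton] at h3
    obtain ⟨w, hw, hwe⟩ := h3
    have : p = w := yy_mul_cancel f (by rw [← hwe, mul_comm])
    rw [this]
    exact hw
  · rw [Nat.sub_eq_zero_of_le (by omega), pow_zero, Ideal.one_eq_top]
    exact Submodule.mem_top

variable {𝔟 f}

theorem eval_mem_of_mem_BB {p : A[X]} (hp : p ∈ BB 𝔟) : p.eval f ∈ 𝔟 ⊔ Ideal.span {f} := by
  have : BB 𝔟 ≤ (𝔟 ⊔ Ideal.span {f}).comap (evalRingHom f) := by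
    unfold BB
    rw [sup_le_iff]
    constructor
    · rw [Ideal.map_le_iff_le_comap]
      intro b hb
      simp only [Ideal.mem_comap, coe_evalRingHom, eval_C]
      exact Ideal.mem_sup_left hb
    · rw [Ideal.span_le, Set.singleton_subset_iff, SetLike.mem_coe]
      simp only [Ideal.mem_comap, coe_evalRingHom, eval_X]
      exact Ideal.mem_sup_right (Ideal.mem_span_singleton_self f)
  exact this hp

theorem eval_mem_of_mem_BB_pow {q : ℕ} {p : A[X]} (hp : p ∈ BB 𝔟 ^ q) :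
    p.eval f ∈ (𝔟 ⊔ Ideal.span {f}) ^ q := by
  have : BB 𝔟 ^ q ≤ ((𝔟 ⊔ Ideal.span {f}) ^ q).comap (evalRingHom f) := by
    refine le_trans ?_ (Ideal.le_comap_pow _ q)
    exact Ideal.pow_right_mono (fun p hp => eval_mem_of_mem_BB hp) q
  exact this hp

theorem C_mem_BB_sup {r : A} (hr : r ∈ 𝔟 ⊔ Ideal.span {f}) :
    C r ∈ BB 𝔟 ⊔ Ideal.span {yy f} := by
  have : 𝔟 ⊔ Ideal.span {f} ≤ (BB 𝔟 ⊔ Ideal.span {yy f}).comap (C : A →+* A[X]) := by
    rw [sup_le_iff]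
    constructor
    · intro b hb
      rw [Ideal.mem_comap]
      exact Ideal.mem_sup_left (Ideal.mem_sup_left (Ideal.mem_map_of_mem _ hb))
    · rw [Ideal.span_le, Set.singleton_subset_iff, SetLike.mem_coe, Ideal.mem_comap]
      have h1 : (X : A[X]) ∈ BB 𝔟 ⊔ Ideal.span {yy f} :=
        Ideal.mem_sup_left (Ideal.mem_sup_right (Ideal.mem_span_singleton_self X))
      have h2 : yy f ∈ BB 𝔟 ⊔ Ideal.span {yy f} :=
        Ideal.mem_sup_right (Ideal.mem_span_singleton_self _)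
      have : C f = X - yy f := by unfold yy; ring
      rw [this]
      exact Ideal.sub_mem _ h1 h2
  exact this hr

theorem sup_pow_le (q : ℕ) :
    (BB 𝔟 ⊔ Ideal.span {yy f}) ^ q ≤ BB 𝔟 ^ q ⊔ Ideal.span {yy f} := by
  induction q with
  | zero => simp
  | succ q ih =>
    rw [pow_succ]
    refine (Ideal.mul_mono ih le_rfl).trans ?_
    rw [Ideal.mul_le]
    intro x hx z hz
    obtain ⟨x1, hx1, x2, hx2, rfl⟩ := Submodule.mem_sup.1 hx
    obtain ⟨z1, hz1, z2, hz2, rfl⟩ := Submodule.mem_sup.1 hz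
    have e : (x1 + x2) * (z1 + z2) = x1 * z1 + (x2 * (z1 + z2) + x1 * z2) := by ring
    rw [e]
    refine Ideal.add_mem _ ?_ ?_
    · refine Ideal.mem_sup_left ?_
      rw [pow_succ]
      exact Ideal.mul_mem_mul hx1 hz1
    · refine Ideal.mem_sup_right ?_
      exact Ideal.add_mem _ (Ideal.mul_mem_right _ _ hx2) (Ideal.mul_mem_left _ _ hz2)

theorem C_mem_BB_pow_sup {q : ℕ} {r : A} (hr : r ∈ (𝔟 ⊔ Ideal.span {f}) ^ q) :
    C r ∈ BB 𝔟 ^ q ⊔ Ideal.span {yy f} := by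
  have h1 : (𝔟 ⊔ Ideal.span {f}) ^ q ≤
      ((BB 𝔟 ⊔ Ideal.span {yy f}) ^ q).comap (C : A →+* A[X]) := by
    refine le_trans ?_ (Ideal.le_comap_pow _ q)
    exact Ideal.pow_right_mono (fun r hr => C_mem_BB_sup hr) q
  exact sup_pow_le q (h1 hr)

/-- if `p(f) ∈ I^q` then `p ∈ (𝔟,X)^q + (y)` -/
theorem exists_sub_mem_of_eval_mem {q : ℕ} {p : A[X]}
    (hp : p.eval f ∈ (𝔟 ⊔ Ideal.span {f}) ^ q) :
    ∃ g : A[X], p - yy f * g ∈ BB 𝔟 ^ q := by
  have h1 := C_mem_BB_pow_sup hp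
  obtain ⟨x1, hx1, x2, hx2, hx⟩ := Submodule.mem_sup.1 h1
  obtain ⟨g2, rfl⟩ := Ideal.mem_span_singleton'.1 hx2
  have hdiv : p = C (p.eval f) + yy f * (p /ₘ yy f) := by
    have := modByMonic_add_div p (yy f)
    rw [show p %ₘ yy f = C (p.eval f) from modByMonic_X_sub_C_eq_C_eval p f] at this
    exact this.symm
  refine ⟨p /ₘ yy f + g2, ?_⟩
  have e : p - yy f * (p /ₘ yy f + g2) = x1 := by
    have h3 : C (p.eval f) = x1 + g2 * yy f := hx.symm
    calc p - yy f * (p /ₘ yy f + g2)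
        = (C (p.eval f) + yy f * (p /ₘ yy f)) - yy f * (p /ₘ yy f + g2) := by rw [← hdiv]
      _ = x1 := by rw [h3]; ring
  rw [e]
  exact hx1

end Groth.Agent.Lib.Helper11.TorSys
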