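import Mathlib
import Groth.Agent.Lib.Helper4.TorLES
import Groth.Agent.Lib.Helper28.TorFiltered
import Groth.Agent.Lib.Helper2.TorNat5

/-!
# δ-functors on modules and the `Tor(M, -)` model `X ↦ H_i(X ⊗ Q_M)`
-/

set_option autoImplicit false
set_option linter.unusedSectionVars false
set_option linter.unusedVariables false
universe u

open CategoryTheory CategoryTheory.Limits MonoidalCategory

namespace Groth.Agent.Lib.Helper11.TorSys

section Abstract

variable (A : Type u) [CommRing A]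

/-- a homological δ-functor on `A`-modules (only the data we need). -/
structure DFun where
  G : ℕ → ModuleCat.{u} A ⥤ ModuleCat.{u} A
  additive : ∀ i, (G i).Additive
  smul : ∀ (i : ℕ) (X : ModuleCat.{u} A) (a : A) (ξ : (G i).obj X),
    ((G i).map (a • 𝟙 X)).hom ξ = a • ξ
  δ : ∀ (T : ShortComplex (ModuleCat.{u} A)) (_ : T.ShortExact) (i : ℕ),
    (G (i + 1)).obj T.X₃ ⟶ (G i).obj T.X₁
  exact₁ : ∀ (T : ShortComplex (ModuleCat.{u} A)) (hT : T.ShortExact) (i : ℕ),
    Function.Exact (δ T hT i).hom ((G i).map T.f).hom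
  exact₂ : ∀ (T : ShortComplex (ModuleCat.{u} A)) (_ : T.ShortExact) (i : ℕ),
    Function.Exact ((G i).map T.f).hom ((G i).map T.g).hom
  exact₃ : ∀ (T : ShortComplex (ModuleCat.{u} A)) (hT : T.ShortExact) (i : ℕ),
    Function.Exact ((G (i + 1)).map T.g).hom (δ T hT i).hom
  δ_nat : ∀ (T T' : ShortComplex (ModuleCat.{u} A)) (hT : T.ShortExact) (hT' : T'.ShortExact)
    (φ : T ⟶ T') (i : ℕ),
    (G (i + 1)).map φ.τ₃ ≫ δ T' hT' i = δ T hT i ≫ (G i).map φ.τ₁
  isZero_ring : ∀ i : ℕ, IsZero ((G (i + 1)).obj (ModuleCat.of A A))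

end Abstract

open Groth.Agent.Lib.Helper28.TorFiltered

section Model

variable {A : Type u} [CommRing A]

variable (Q : ChainComplex (ModuleCat.{u} A) ℕ)

instance tensorCx_additive : (tensorCx Q).Additive where
  map_add {X Y f g} := by
    ext n : 1
    change (f + g) ▷ Q.X n = f ▷ Q.X n + g ▷ Q.X n
    exact MonoidalPreadditive.add_whiskerRight ..

/-- the model functor `X ↦ H_i(X ⊗ Q)` -/
noncomputable def GQ (i : ℕ) : ModuleCat.{u} A ⥤ ModuleCat.{u} A :=
  tensorCx Q ⋙ HomologicalComplex.homologyFunctor _ _ i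

instance GQ_additive (i : ℕ) : (GQ Q i).Additive := by
  unfold GQ; infer_instance

theorem tensorCx_map_smul (X : ModuleCat.{u} A) (a : A) :
    (tensorCx Q).map (a • 𝟙 X) = a • 𝟙 _ := by
  ext n : 1
  change (a • 𝟙 X) ▷ Q.X n = a • 𝟙 _
  rw [MonoidalLinear.smul_whiskerRight]
  congr 1
  exact MonoidalCategory.id_whiskerRight _ _

theorem homologyMap_smul' {K L : ChainComplex (ModuleCat.{u} A) ℕ} (f : K ⟶ L) (a : A) (i : ℕ) :
    HomologicalComplex.homologyMap (a • f) i = a • HomologicalComplex.homologyMap f i := by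
  change ShortComplex.homologyMap ((HomologicalComplex.shortComplexFunctor _ _ i).map (a • f)) = _
  have : (HomologicalComplex.shortComplexFunctor (ModuleCat.{u} A) (ComplexShape.down ℕ) i).map
      (a • f) = a • (HomologicalComplex.shortComplexFunctor _ _ i).map f := by
    ext <;> rfl
  rw [this, ShortComplex.homologyMap_smul]
  rfl

theorem GQ_smul (i : ℕ) (X : ModuleCat.{u} A) (a : A) (ξ : (GQ Q i).obj X) :
    ((GQ Q i).map (a • 𝟙 X)).hom ξ = a • ξ := by
  have h : (GQ Q i).map (a • 𝟙 X) = a • 𝟙 _ := by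
    change HomologicalComplex.homologyMap ((tensorCx Q).map (a • 𝟙 X)) i = _
    rw [tensorCx_map_smul, homologyMap_smul', HomologicalComplex.homologyMap_id]
    rfl
  rw [h]
  rfl

theorem map_shortExact (hQ : ∀ n, Projective (Q.X n)) (T : ShortComplex (ModuleCat.{u} A)) (hT : T.ShortExact) :
    (T.map (tensorCx Q)).ShortExact :=
  Groth.Agent.Lib.Helper4.tensorSC_shortExact T hT Q hQ

/-- the connecting morphism of the model -/
noncomputable def δQ (hQ : ∀ n, Projective (Q.X n)) (T : ShortComplex (ModuleCat.{u} A)) (hT : T.ShortExact) (i : ℕ) :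
    (GQ Q (i + 1)).obj T.X₃ ⟶ (GQ Q i).obj T.X₁ :=
  (map_shortExact Q hQ T hT).δ (i + 1) i (by simp)

theorem δQ_exact₁ (hQ : ∀ n, Projective (Q.X n)) (T : ShortComplex (ModuleCat.{u} A)) (hT : T.ShortExact) (i : ℕ) :
    Function.Exact (δQ Q hQ T hT i).hom ((GQ Q i).map T.f).hom := by
  have h := (map_shortExact Q hQ T hT).homology_exact₁ (i + 1) i (by simp)
  rw [ShortComplex.moduleCat_exact_iff_range_eq_ker] at h
  exact LinearMap.exact_iff.2 h.symm

theorem δQ_exact₂ (hQ : ∀ n, Projective (Q.X n)) (T : ShortComplex (ModuleCat.{u} A)) (hT : T.ShortExact) (i : ℕ) :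
    Function.Exact ((GQ Q i).map T.f).hom ((GQ Q i).map T.g).hom := by
  have h := (map_shortExact Q hQ T hT).homology_exact₂ i
  rw [ShortComplex.moduleCat_exact_iff_range_eq_ker] at h
  exact LinearMap.exact_iff.2 h.symm

theorem δQ_exact₃ (hQ : ∀ n, Projective (Q.X n)) (T : ShortComplex (ModuleCat.{u} A)) (hT : T.ShortExact) (i : ℕ) :
    Function.Exact ((GQ Q (i + 1)).map T.g).hom (δQ Q hQ T hT i).hom := by
  have h := (map_shortExact Q hQ T hT).homology_exact₃ (i + 1) i (by simp)
  rw [ShortComplex.moduleCat_exact_iff_range_eq_ker] at h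
  exact LinearMap.exact_iff.2 h.symm

theorem δQ_nat (hQ : ∀ n, Projective (Q.X n)) (T T' : ShortComplex (ModuleCat.{u} A)) (hT : T.ShortExact) (hT' : T'.ShortExact)
    (φ : T ⟶ T') (i : ℕ) :
    (GQ Q (i + 1)).map φ.τ₃ ≫ δQ Q hQ T' hT' i = δQ Q hQ T hT i ≫ (GQ Q i).map φ.τ₁ :=
  (HomologicalComplex.HomologySequence.δ_naturality ((tensorCx Q).mapShortComplex.map φ)
    (map_shortExact Q hQ T hT) (map_shortExact Q hQ T' hT') (i + 1) i (by simp)).symm

theorem GQ_isZero_flat (hex : ∀ n, Q.ExactAt (n + 1)) (X : ModuleCat.{u} A) [Module.Flat A X] (i : ℕ) :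
    IsZero ((GQ Q (i + 1)).obj X) := by
  change IsZero (((tensorCx Q).obj X).homology (i + 1))
  erw [← HomologicalComplex.exactAt_iff_isZero_homology]
  exact ShortComplex.Exact.map (hex i) (tensorLeft X)

/-- the model δ-functor attached to a degreewise projective complex, exact in positive degrees -/
noncomputable def DFun.ofComplex (hQ : ∀ n, Projective (Q.X n)) (hex : ∀ n, Q.ExactAt (n + 1)) :
    DFun A where
  G := GQ Q
  additive := GQ_additive Q
  smul := GQ_smul Q
  δ := δQ Q hQ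
  exact₁ := δQ_exact₁ Q hQ
  exact₂ := δQ_exact₂ Q hQ
  exact₃ := δQ_exact₃ Q hQ
  δ_nat := δQ_nat Q hQ
  isZero_ring i := GQ_isZero_flat Q hex (ModuleCat.of A A) i

end Model

section Tor

variable {A : Type u} [CommRing A]

/-- the δ-functor `Tor(M, -)` (model) -/
noncomputable def DFun.ofModule (M : ModuleCat.{u} A) : DFun A :=
  DFun.ofComplex (projectiveResolution M).complex
    (fun n => (projectiveResolution M).projective n)
    (fun n => (projectiveResolution M).complex_exactAt_succ n)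

/-- comparison `Tor_i(M, -) ≅` the model -/
noncomputable def torIsoModel (M : ModuleCat.{u} A) (i : ℕ) :
    (Tor (ModuleCat.{u} A) i).obj M ≅ (DFun.ofModule M).G i :=
  (Groth.Agent.Lib.Helper2.TorNat.torFlipIso i).app M ≪≫
    torFlipIso i M (projectiveResolution M)

/-- componentwise comparison iso -/
noncomputable def torIsoModelApp (M : ModuleCat.{u} A) (i : ℕ) (X : ModuleCat.{u} A) :
    ((Tor (ModuleCat.{u} A) i).obj M).obj X ≅ ((DFun.ofModule M).G i).obj X :=
  (torIsoModel M i).app X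

theorem torIsoModelApp_naturality (M : ModuleCat.{u} A) (i : ℕ) {X Y : ModuleCat.{u} A}
    (f : X ⟶ Y) :
    ((Tor (ModuleCat.{u} A) i).obj M).map f ≫ (torIsoModelApp M i Y).hom =
      (torIsoModelApp M i X).hom ≫ ((DFun.ofModule M).G i).map f :=
  (torIsoModel M i).hom.naturality f

theorem tor_map_eq_zero_of (M : ModuleCat.{u} A) (i : ℕ) {X Y : ModuleCat.{u} A} (f : X ⟶ Y)
    (h0 : ∀ ξ : ((DFun.ofModule M).G i).obj X, (((DFun.ofModule M).G i).map f).hom ξ = 0) :
    ((Tor (ModuleCat.{u} A) i).obj M).map f = 0 := by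
  have h := torIsoModelApp_naturality M i f
  have h1 : ((DFun.ofModule M).G i).map f = 0 := by
    ext ξ
    exact h0 ξ
  rw [h1, comp_zero] at h
  calc ((Tor (ModuleCat.{u} A) i).obj M).map f
      = (((Tor (ModuleCat.{u} A) i).obj M).map f ≫ (torIsoModelApp M i Y).hom) ≫
          (torIsoModelApp M i Y).inv := by
        rw [Category.assoc, Iso.hom_inv_id, Category.comp_id]
    _ = 0 := by rw [h, zero_comp]

theorem tor_smul_eq_zero_of (M : ModuleCat.{u} A) (i : ℕ) (X : ModuleCat.{u} A) (a : A)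
    (h0 : ∀ ξ : ((DFun.ofModule M).G i).obj X, a • ξ = 0)
    (x : ((Tor (ModuleCat.{u} A) i).obj M).obj X) : a • x = 0 := by
  have h := h0 ((torIsoModelApp M i X).hom.hom x)
  rw [← map_smul] at h
  have h2 := congrArg (torIsoModelApp M i X).inv.hom h
  rw [map_zero] at h2
  rw [← h2]
  exact (congrArg (fun g => g.hom (a • x)) (torIsoModelApp M i X).hom_inv_id).symm

end Tor

end Groth.Agent.Lib.Helper11.TorSys
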