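import Mathlib
import Groth.Agent.Lib.Helper11.TorSysA

/-!
# The four-level chase for δ-functors
-/

set_option autoImplicit false
set_option linter.unusedSectionVars false
set_option linter.unusedVariables false
universe u

open CategoryTheory CategoryTheory.Limits

namespace Groth.Agent.Lib.Helper11.TorSys

variable {A : Type u} [CommRing A]

/-- a module `P` with an endomorphism `μ` and a presentation `ev` of its cokernel -/
structure Lvl (A : Type u) [CommRing A] where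
  P : ModuleCat.{u} A
  E : ModuleCat.{u} A
  μ : P ⟶ P
  ev : P ⟶ E
  ev_surj : Function.Surjective ev.hom
  ker_ev : LinearMap.ker ev.hom = LinearMap.range μ.hom

/-- morphisms of levels -/
structure LvlHom (L L' : Lvl A) where
  π : L.P ⟶ L'.P
  pr : L.E ⟶ L'.E
  comm_μ : ∀ x, π.hom (L.μ.hom x) = L'.μ.hom (π.hom x)
  comm_ev : ∀ x, pr.hom (L.ev.hom x) = L'.ev.hom (π.hom x)

namespace Lvl

variable (L : Lvl A)

/-- `ker μ → P → range μ` -/
noncomputable def S1 : ShortComplex (ModuleCat.{u} A) :=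
  ShortComplex.mk (ModuleCat.ofHom (LinearMap.ker L.μ.hom).subtype)
    (ModuleCat.ofHom L.μ.hom.rangeRestrict) (by
      ext x
      exact x.2)

theorem S1_shortExact : L.S1.ShortExact where
  exact := by
    rw [ShortComplex.moduleCat_exact_iff_ker_sub_range]
    intro x hx
    have hx' : L.μ.hom.rangeRestrict x = 0 := hx
    have : L.μ.hom x = 0 := congrArg Subtype.val hx'
    exact ⟨⟨x, this⟩, rfl⟩
  mono_f := (ModuleCat.mono_iff_injective _).2 (Submodule.injective_subtype _)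
  epi_g := (ModuleCat.epi_iff_surjective _).2 L.μ.hom.surjective_rangeRestrict

/-- `range μ → P → E` -/
noncomputable def S2 : ShortComplex (ModuleCat.{u} A) :=
  ShortComplex.mk (ModuleCat.ofHom (LinearMap.range L.μ.hom).subtype) L.ev (by
    ext x
    have : (x : L.P) ∈ LinearMap.ker L.ev.hom := by
      rw [L.ker_ev]; exact x.2
    exact this)

theorem S2_shortExact : L.S2.ShortExact where
  exact := by
    rw [ShortComplex.moduleCat_exact_iff_ker_sub_range]
    intro x hx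
    have hx' : x ∈ LinearMap.ker L.ev.hom := hx
    rw [L.ker_ev] at hx'
    exact ⟨⟨x, hx'⟩, rfl⟩
  mono_f := (ModuleCat.mono_iff_injective _).2 (Submodule.injective_subtype _)
  epi_g := (ModuleCat.epi_iff_surjective _).2 L.ev_surj

end Lvl

namespace LvlHom

variable {L L' : Lvl A} (h : LvlHom L L')

/-- restriction to kernels -/
noncomputable def kerMap : LinearMap.ker L.μ.hom →ₗ[A] LinearMap.ker L'.μ.hom :=
  h.π.hom.restrict (by
    intro x hx
    rw [LinearMap.mem_ker] at hx ⊢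
    rw [← h.comm_μ, hx, map_zero])

/-- restriction to ranges -/
noncomputable def rangeMap : LinearMap.range L.μ.hom →ₗ[A] LinearMap.range L'.μ.hom :=
  h.π.hom.restrict (by
    rintro _ ⟨x, rfl⟩
    exact ⟨h.π.hom x, (h.comm_μ x).symm⟩)

/-- the induced morphism `S1 L ⟶ S1 L'` -/
noncomputable def φ1 : L.S1 ⟶ L'.S1 where
  τ₁ := ModuleCat.ofHom h.kerMap
  τ₂ := h.π
  τ₃ := ModuleCat.ofHom h.rangeMap
  comm₁₂ := by
    ext x
    rfl
  comm₂₃ := by
    ext x
    apply Subtype.ext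
    exact (h.comm_μ x).symm

/-- the induced morphism `S2 L ⟶ S2 L'` -/
noncomputable def φ2 : L.S2 ⟶ L'.S2 where
  τ₁ := ModuleCat.ofHom h.rangeMap
  τ₂ := h.π
  τ₃ := h.pr
  comm₁₂ := by
    ext x
    rfl
  comm₂₃ := by
    ext x
    exact (h.comm_ev x).symm

end LvlHom

/-- **The four-level chase.** -/
theorem chase (D : DFun A) (j : ℕ) {L0 L1 L2 L3 : Lvl A}
    (h0 : LvlHom L0 L1) (h1 : LvlHom L1 L2) (h2 : LvlHom L2 L3)
    (ha : ∀ x, L0.μ.hom x = 0 → h0.π.hom x = 0)
    (hb : ∀ θ : (D.G (j + 1)).obj L1.P, ((D.G (j + 1)).map h1.π).hom θ = 0)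
    (hc : ∀ θ : (D.G (j + 2)).obj L2.P, ((D.G (j + 2)).map h2.π).hom θ = 0)
    (ξ : (D.G (j + 2)).obj L0.E) :
    ((D.G (j + 2)).map h2.pr).hom (((D.G (j + 2)).map h1.pr).hom
      (((D.G (j + 2)).map h0.pr).hom ξ)) = 0 := by
  have := D.additive
  -- η and ζ
  set η := (D.δ L0.S2 L0.S2_shortExact (j + 1)).hom ξ with hη
  -- Step A
  have hker0 : h0.kerMap = 0 := by
    ext x
    exact ha x.1 x.2
  have hA : (D.δ L1.S1 L1.S1_shortExact j).hom
      (((D.G (j + 1)).map (ModuleCat.ofHom h0.rangeMap)).hom η) = 0 := by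
    have hn := D.δ_nat L0.S1 L1.S1 L0.S1_shortExact L1.S1_shortExact h0.φ1 j
    have hn' := congrArg (fun g => g.hom η) hn
    change (D.δ L1.S1 L1.S1_shortExact j).hom
      (((D.G (j + 1)).map (ModuleCat.ofHom h0.rangeMap)).hom η) =
      ((D.G j).map (ModuleCat.ofHom h0.kerMap)).hom
        ((D.δ L0.S1 L0.S1_shortExact j).hom η) at hn'
    rw [hn', hker0]
    have : (ModuleCat.ofHom (0 : LinearMap.ker L0.μ.hom →ₗ[A] LinearMap.ker L1.μ.hom)) = 0 := rfl
    rw [this, Functor.map_zero]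
    rfl
  obtain ⟨θ, hθ⟩ := (D.exact₃ L1.S1 L1.S1_shortExact j _).1 hA
  -- Step B
  have hB : ((D.G (j + 1)).map (ModuleCat.ofHom h1.rangeMap)).hom
      (((D.G (j + 1)).map (ModuleCat.ofHom h0.rangeMap)).hom η) = 0 := by
    rw [← hθ]
    have hcomm := congrArg (fun g => (D.G (j + 1)).map g) h1.φ1.comm₂₃
    simp only [Functor.map_comp] at hcomm
    have hcomm' := congrArg (fun g => g.hom θ) hcomm
    change ((D.G (j + 1)).map L2.S1.g).hom (((D.G (j + 1)).map h1.π).hom θ) =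
      ((D.G (j + 1)).map (ModuleCat.ofHom h1.rangeMap)).hom
        (((D.G (j + 1)).map L1.S1.g).hom θ) at hcomm'
    rw [← hcomm', hb]
    exact map_zero _
  -- Step C
  have hC : (D.δ L2.S2 L2.S2_shortExact (j + 1)).hom
      (((D.G (j + 2)).map h1.pr).hom (((D.G (j + 2)).map h0.pr).hom ξ)) = 0 := by
    have hn1 := D.δ_nat L1.S2 L2.S2 L1.S2_shortExact L2.S2_shortExact h1.φ2 (j + 1)
    have hn1' := congrArg (fun g => g.hom (((D.G (j + 2)).map h0.pr).hom ξ)) hn1
    change (D.δ L2.S2 L2.S2_shortExact (j + 1)).hom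
      (((D.G (j + 2)).map h1.pr).hom (((D.G (j + 2)).map h0.pr).hom ξ)) =
      ((D.G (j + 1)).map (ModuleCat.ofHom h1.rangeMap)).hom
        ((D.δ L1.S2 L1.S2_shortExact (j + 1)).hom (((D.G (j + 2)).map h0.pr).hom ξ)) at hn1'
    have hn0 := D.δ_nat L0.S2 L1.S2 L0.S2_shortExact L1.S2_shortExact h0.φ2 (j + 1)
    have hn0' := congrArg (fun g => g.hom ξ) hn0
    change (D.δ L1.S2 L1.S2_shortExact (j + 1)).hom (((D.G (j + 2)).map h0.pr).hom ξ) =
      ((D.G (j + 1)).map (ModuleCat.ofHom h0.rangeMap)).hom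
        ((D.δ L0.S2 L0.S2_shortExact (j + 1)).hom ξ) at hn0'
    rw [hn1', hn0']
    exact hB
  obtain ⟨θ₂, hθ₂⟩ := (D.exact₃ L2.S2 L2.S2_shortExact (j + 1) _).1 hC
  -- Step D
  rw [← hθ₂]
  have hcomm := congrArg (fun g => (D.G (j + 2)).map g) h2.φ2.comm₂₃
  simp only [Functor.map_comp] at hcomm
  have hcomm' := congrArg (fun g => g.hom θ₂) hcomm
  change ((D.G (j + 2)).map L3.S2.g).hom (((D.G (j + 2)).map h2.π).hom θ₂) =
    ((D.G (j + 2)).map h2.pr).hom (((D.G (j + 2)).map L2.S2.g).hom θ₂) at hcomm'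
  rw [← hcomm', hc]
  exact map_zero _

end Groth.Agent.Lib.Helper11.TorSys
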