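import Mathlib
import Groth.Agent.Lib.Helper11.TorSysB
import Groth.Agent.Lib.Helper11.TorSysC

/-!
# Uniform pro-vanishing of `Tor_i(M, A/I^n)` for `i >` number of generators of `I`
-/

set_option autoImplicit false
set_option linter.unusedSectionVars false
set_option linter.unusedVariables false
universe u

open CategoryTheory CategoryTheory.Limits Polynomial

namespace Groth.Agent.Lib.Helper11.TorSys

variable {A : Type u} [CommRing A]

/-- the transition maps `A/I^n → A/I^n'` (same shape as in the statements) -/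
def projI (I : Ideal A) (n n' : ℕ) (h : n' ≤ n) : (A ⧸ I ^ n) →ₗ[A] (A ⧸ I ^ n') :=
  Submodule.mapQ (I ^ n) (I ^ n') LinearMap.id (Ideal.pow_le_pow_right h)

theorem projI_mk (I : Ideal A) (n n' : ℕ) (h : n' ≤ n) (r : A) :
    projI I n n' h (Submodule.Quotient.mk r) = Submodule.Quotient.mk r := rfl

section Concrete

variable (𝔟 : Ideal A) (f : A)

/-- `(𝔟,X)^q` as an `A`-submodule -/
noncomputable def BBq (q : ℕ) : Submodule A A[X] := (BB 𝔟 ^ q).restrictScalars A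

theorem mem_BBq {q : ℕ} {p : A[X]} : p ∈ BBq 𝔟 q ↔ p ∈ BB 𝔟 ^ q := Iff.rfl

/-- `A[X]/(𝔟,X)^q` as an `A`-module -/
abbrev PP (q : ℕ) : Type u := A[X] ⧸ BBq 𝔟 q

/-- transition maps -/
noncomputable def pi (q q' : ℕ) (h : q' ≤ q) : PP 𝔟 q →ₗ[A] PP 𝔟 q' :=
  Submodule.mapQ _ _ LinearMap.id (fun p hp => Ideal.pow_le_pow_right h hp)

/-- multiplication by `y = X - f` -/
noncomputable def mu (q : ℕ) : PP 𝔟 q →ₗ[A] PP 𝔟 q :=
  Submodule.mapQ _ _ (LinearMap.mulLeft A (yy f)) (fun p hp => Ideal.mul_mem_left _ _ hp)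

/-- evaluation at `f` -/
noncomputable def ev (q : ℕ) : PP 𝔟 q →ₗ[A] (A ⧸ (𝔟 ⊔ Ideal.span {f}) ^ q) :=
  Submodule.mapQ _ ((𝔟 ⊔ Ideal.span {f}) ^ q) (Polynomial.leval f)
    (fun p hp => eval_mem_of_mem_BB_pow hp)

/-- coefficient maps -/
noncomputable def rho (q a : ℕ) : PP 𝔟 q →ₗ[A] (A ⧸ 𝔟 ^ (q - a)) :=
  Submodule.mapQ _ (𝔟 ^ (q - a)) (Polynomial.lcoeff A a)
    (fun p hp => coeff_mem_of_mem_BB_pow 𝔟 hp a)

/-- monomial maps -/
noncomputable def iota (q a : ℕ) : (A ⧸ 𝔟 ^ (q - a)) →ₗ[A] PP 𝔟 q :=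
  Submodule.mapQ (𝔟 ^ (q - a)) _ (Polynomial.monomial a)
    (fun r hr => monomial_mem_BB_pow 𝔟 hr)

theorem sum_iota_rho (q : ℕ) (x : PP 𝔟 q) :
    ∑ a ∈ Finset.range q, iota 𝔟 q a (rho 𝔟 q a x) = x := by
  obtain ⟨p, rfl⟩ := Submodule.Quotient.mk_surjective _ x
  have h1 : ∀ a, iota 𝔟 q a (rho 𝔟 q a (Submodule.Quotient.mk p)) =
      Submodule.Quotient.mk (monomial a (p.coeff a)) := fun a => rfl
  simp only [h1]
  have h2 : ∑ a ∈ Finset.range q, (Submodule.Quotient.mk (monomial a (p.coeff a)) : PP 𝔟 q) =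
      Submodule.Quotient.mk (∑ a ∈ Finset.range q, monomial a (p.coeff a)) :=
    (map_sum (Submodule.mkQ (BBq 𝔟 q)) _ _).symm
  rw [h2, eq_comm, Submodule.Quotient.eq]
  exact sub_sum_monomial_mem 𝔟 q p

theorem pi_iota (q q' : ℕ) (h : q' ≤ q) (a : ℕ) (z : A ⧸ 𝔟 ^ (q - a)) :
    pi 𝔟 q q' h (iota 𝔟 q a z) =
      iota 𝔟 q' a (projI 𝔟 (q - a) (q' - a) (Nat.sub_le_sub_right h a) z) := by
  obtain ⟨r, rfl⟩ := Submodule.Quotient.mk_surjective _ z
  rfl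

theorem pi_mu (q q' : ℕ) (h : q' ≤ q) (x : PP 𝔟 q) :
    pi 𝔟 q q' h (mu 𝔟 f q x) = mu 𝔟 f q' (pi 𝔟 q q' h x) := by
  obtain ⟨p, rfl⟩ := Submodule.Quotient.mk_surjective _ x
  rfl

theorem ev_pi (q q' : ℕ) (h : q' ≤ q) (x : PP 𝔟 q) :
    projI (𝔟 ⊔ Ideal.span {f}) q q' h (ev 𝔟 f q x) = ev 𝔟 f q' (pi 𝔟 q q' h x) := by
  obtain ⟨p, rfl⟩ := Submodule.Quotient.mk_surjective _ x
  rfl

theorem ev_surjective (q : ℕ) : Function.Surjective (ev 𝔟 f q) := by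
  intro z
  obtain ⟨r, rfl⟩ := Submodule.Quotient.mk_surjective _ z
  refine ⟨Submodule.Quotient.mk (C r), ?_⟩
  change Submodule.Quotient.mk ((C r).eval f) = _
  rw [eval_C]

theorem ker_ev (q : ℕ) : LinearMap.ker (ev 𝔟 f q) = LinearMap.range (mu 𝔟 f q) := by
  ext x
  obtain ⟨p, rfl⟩ := Submodule.Quotient.mk_surjective _ x
  rw [LinearMap.mem_ker, LinearMap.mem_range]
  change Submodule.Quotient.mk (p.eval f) = 0 ↔ _
  rw [Submodule.Quotient.mk_eq_zero]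
  constructor
  · intro hp
    obtain ⟨g, hg⟩ := exists_sub_mem_of_eval_mem hp
    refine ⟨Submodule.Quotient.mk g, ?_⟩
    change Submodule.Quotient.mk (yy f * g) = _
    rw [eq_comm, Submodule.Quotient.eq]
    exact hg
  · rintro ⟨z, hz⟩
    obtain ⟨g, rfl⟩ := Submodule.Quotient.mk_surjective _ z
    have hz' : Submodule.Quotient.mk (yy f * g) = (Submodule.Quotient.mk p : PP 𝔟 q) := hz
    rw [Submodule.Quotient.eq] at hz'
    have h2 := eval_mem_of_mem_BB_pow (f := f) hz'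
    rw [eval_sub, eval_mul] at h2
    have h3 : (yy f).eval f = 0 := by unfold yy; simp
    rw [h3, zero_mul, zero_sub] at h2
    exact (Ideal.neg_mem_iff _).1 h2

theorem pi_eq_zero_of_mu_eq_zero {c : ℕ}
    (hc : ∀ (q : ℕ) (p : A[X]), yy f * p ∈ BB 𝔟 ^ q → p ∈ BB 𝔟 ^ (q - c))
    (q : ℕ) (x : PP 𝔟 q) (hx : mu 𝔟 f q x = 0) :
    pi 𝔟 q (q - c) (Nat.sub_le q c) x = 0 := by
  obtain ⟨p, rfl⟩ := Submodule.Quotient.mk_surjective _ x
  have hx' : Submodule.Quotient.mk (yy f * p) = (0 : PP 𝔟 q) := hx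
  rw [Submodule.Quotient.mk_eq_zero] at hx'
  change Submodule.Quotient.mk p = (0 : PP 𝔟 (q - c))
  rw [Submodule.Quotient.mk_eq_zero]
  exact hc q p hx'

/-- the level attached to `q` -/
noncomputable def lvl (q : ℕ) : Lvl A where
  P := ModuleCat.of A (PP 𝔟 q)
  E := ModuleCat.of A (A ⧸ (𝔟 ⊔ Ideal.span {f}) ^ q)
  μ := ModuleCat.ofHom (mu 𝔟 f q)
  ev := ModuleCat.ofHom (ev 𝔟 f q)
  ev_surj := ev_surjective 𝔟 f q
  ker_ev := ker_ev 𝔟 f q

/-- the transition between levels -/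
noncomputable def lvlHom (q q' : ℕ) (h : q' ≤ q) : LvlHom (lvl 𝔟 f q) (lvl 𝔟 f q') where
  π := ModuleCat.ofHom (pi 𝔟 q q' h)
  pr := ModuleCat.ofHom (projI (𝔟 ⊔ Ideal.span {f}) q q' h)
  comm_μ := pi_mu 𝔟 f q q' h
  comm_ev := ev_pi 𝔟 f q q' h

end Concrete

/-- the uniform pro-vanishing property -/
def V (I : Ideal A) (t : ℕ) : Prop :=
  ∃ c : ℕ, ∀ (D : DFun A) (i n n' : ℕ) (h : n' ≤ n), t < i → n' + c ≤ n →
    (D.G i).map (ModuleCat.ofHom (projI I n n' h)) = 0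

theorem G_projI_zero_of_zero (I : Ideal A) (D : DFun A) (i n : ℕ) :
    (D.G i).map (ModuleCat.ofHom (projI I n 0 (Nat.zero_le n))) = 0 := by
  have := D.additive i
  have h0 : projI I n 0 (Nat.zero_le n) = 0 := by
    have : Subsingleton (A ⧸ I ^ 0) :=
      Submodule.Quotient.subsingleton_iff.2 (by rw [pow_zero, Ideal.one_eq_top])
    exact LinearMap.ext fun x => Subsingleton.elim _ _
  rw [h0]
  exact Functor.map_zero _ _ _

end Groth.Agent.Lib.Helper11.TorSys
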