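import Mathlib
import Groth.Agent.Lib.Helper11.TorSysD

/-!
# Uniform pro-vanishing: the induction on the number of generators
-/

set_option autoImplicit false
set_option linter.unusedSectionVars false
set_option linter.unusedVariables false
universe u

open CategoryTheory CategoryTheory.Limits Polynomial

namespace Groth.Agent.Lib.Helper11.TorSys

variable {A : Type u} [CommRing A]

theorem projI_comp (I : Ideal A) (n n' n'' : ℕ) (h : n' ≤ n) (h' : n'' ≤ n') :
    (projI I n' n'' h').comp (projI I n n' h) = projI I n n'' (h'.trans h) := by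
  refine LinearMap.ext fun x => ?_
  obtain ⟨r, rfl⟩ := Submodule.Quotient.mk_surjective _ x
  rfl

theorem V_apply {I : Ideal A} {t c : ℕ}
    (hc : ∀ (D : DFun A) (i n n' : ℕ) (h : n' ≤ n), t < i → n' + c ≤ n →
      (D.G i).map (ModuleCat.ofHom (projI I n n' h)) = 0)
    (D : DFun A) (i n n' : ℕ) (h : n' ≤ n) (hi : t < i) (hn : n' + c ≤ n ∨ n' = 0) :
    (D.G i).map (ModuleCat.ofHom (projI I n n' h)) = 0 := by
  rcases hn with hn | hn
  · exact hc D i n n' h hi hn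
  · subst hn
    exact G_projI_zero_of_zero I D i n

section Step

variable (𝔟 : Ideal A) (f : A)

/-- the identity of `P_q` decomposes through the coefficient maps -/
theorem id_eq_sum (q : ℕ) :
    𝟙 (ModuleCat.of A (PP 𝔟 q)) =
      ∑ a ∈ Finset.range q, ModuleCat.ofHom (rho 𝔟 q a) ≫ ModuleCat.ofHom (iota 𝔟 q a) := by
  refine ModuleCat.hom_ext (LinearMap.ext fun x => ?_)
  rw [ModuleCat.hom_sum, LinearMap.sum_apply]
  exact (sum_iota_rho 𝔟 q x).symm

theorem G_pi_zero {t c : ℕ}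
    (hc : ∀ (D : DFun A) (i n n' : ℕ) (h : n' ≤ n), t < i → n' + c ≤ n →
      (D.G i).map (ModuleCat.ofHom (projI 𝔟 n n' h)) = 0)
    (D : DFun A) (i q q' : ℕ) (h : q' ≤ q) (hi : t < i) (hq : q' + c ≤ q) :
    (D.G i).map (ModuleCat.ofHom (pi 𝔟 q q' h)) = 0 := by
  have := D.additive i
  have e1 : ModuleCat.ofHom (pi 𝔟 q q' h) =
      ∑ a ∈ Finset.range q, ModuleCat.ofHom (rho 𝔟 q a) ≫
        (ModuleCat.ofHom (projI 𝔟 (q - a) (q' - a) (Nat.sub_le_sub_right h a)) ≫
          ModuleCat.ofHom (iota 𝔟 q' a)) := by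
    conv_lhs => rw [← Category.id_comp (ModuleCat.ofHom (pi 𝔟 q q' h)), id_eq_sum,
      Preadditive.sum_comp]
    refine Finset.sum_congr rfl (fun a _ => ?_)
    rw [Category.assoc]
    congr 1
    refine ModuleCat.hom_ext (LinearMap.ext fun z => ?_)
    exact pi_iota 𝔟 q q' h a z
  rw [e1, Functor.map_sum]
  refine Finset.sum_eq_zero (fun a _ => ?_)
  rw [Functor.map_comp, Functor.map_comp]
  have hz : (D.G i).map (ModuleCat.ofHom
      (projI 𝔟 (q - a) (q' - a) (Nat.sub_le_sub_right h a))) = 0 := by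
    apply V_apply hc D i _ _ _ hi
    by_cases ha : a ≤ q'
    · left; omega
    · right; omega
  rw [hz, Limits.zero_comp, Limits.comp_zero]

theorem V_step [IsNoetherianRing A] (t : ℕ) (hV : V 𝔟 t) :
    V (𝔟 ⊔ Ideal.span {f}) (t + 1) := by
  obtain ⟨c₂, hc₂⟩ := hV
  obtain ⟨c₁, hc₁⟩ := exists_AR 𝔟 f
  refine ⟨c₁ + 2 * c₂, ?_⟩
  intro D i n n' h hi hn
  obtain ⟨j, rfl⟩ : ∃ j, i = j + 2 := ⟨i - 2, by omega⟩
  have hn1 : n - c₁ ≤ n := Nat.sub_le _ _
  have hn2 : n - c₁ - c₂ ≤ n - c₁ := Nat.sub_le _ _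
  have hn3 : n' ≤ n - c₁ - c₂ := by omega
  have key := chase D j (lvlHom 𝔟 f n (n - c₁) hn1) (lvlHom 𝔟 f (n - c₁) (n - c₁ - c₂) hn2)
    (lvlHom 𝔟 f (n - c₁ - c₂) n' hn3)
    (fun x hx => pi_eq_zero_of_mu_eq_zero 𝔟 f hc₁ n x hx)
    (fun θ => by
      have := G_pi_zero 𝔟 hc₂ D (j + 1) (n - c₁) (n - c₁ - c₂) hn2 (by omega) (by omega)
      exact congrArg (fun g => g.hom θ) this)
    (fun θ => by
      have := G_pi_zero 𝔟 hc₂ D (j + 2) (n - c₁ - c₂) n' hn3 (by omega) (by omega)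
      exact congrArg (fun g => g.hom θ) this)
  have e : ModuleCat.ofHom (projI (𝔟 ⊔ Ideal.span {f}) n n' h) =
      ModuleCat.ofHom (projI (𝔟 ⊔ Ideal.span {f}) n (n - c₁) hn1) ≫
        ModuleCat.ofHom (projI (𝔟 ⊔ Ideal.span {f}) (n - c₁) (n - c₁ - c₂) hn2) ≫
          ModuleCat.ofHom (projI (𝔟 ⊔ Ideal.span {f}) (n - c₁ - c₂) n' hn3) := by
    refine ModuleCat.hom_ext (LinearMap.ext fun x => ?_)
    obtain ⟨r, rfl⟩ := Submodule.Quotient.mk_surjective _ x
    rfl
  rw [e, Functor.map_comp, Functor.map_comp]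
  ext ξ
  exact key ξ

end Step

theorem V_mono {I : Ideal A} {t t' : ℕ} (h : t ≤ t') (hV : V I t) : V I t' := by
  obtain ⟨c, hc⟩ := hV
  exact ⟨c, fun D i n n' hn hi hnn => hc D i n n' hn (by omega) hnn⟩

theorem V_bot : V (⊥ : Ideal A) 0 := by
  refine ⟨0, ?_⟩
  intro D i n n' h hi hn
  have := D.additive i
  rcases Nat.eq_zero_or_pos n' with h0 | h0
  · subst h0
    exact G_projI_zero_of_zero _ D i n
  · obtain ⟨k, rfl⟩ : ∃ k, i = k + 1 := ⟨i - 1, by omega⟩
    have hbot : (⊥ : Ideal A) ^ n = ⊥ := by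
      rw [Ideal.bot_pow (by omega)]
    let e : (A ⧸ (⊥ : Ideal A) ^ n) ≃ₗ[A] A := Submodule.quotEquivOfEqBot _ hbot
    have hz : IsZero ((D.G (k + 1)).obj (ModuleCat.of A (A ⧸ (⊥ : Ideal A) ^ n))) :=
      (D.isZero_ring k).of_iso ((D.G (k + 1)).mapIso e.toModuleIso)
    exact hz.eq_of_src _ _

theorem V_span_finset [IsNoetherianRing A] (s : Finset A) :
    V (Ideal.span (s : Set A)) s.card := by
  classical
  induction s using Finset.induction_on with
  | empty =>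
    rw [Finset.coe_empty, Ideal.span_empty, Finset.card_empty]
    exact V_bot
  | insert f s hf ih =>
    rw [Finset.coe_insert, Ideal.span_insert, sup_comm, Finset.card_insert_of_notMem hf]
    exact V_step _ f _ ih

/-- **Uniform pro-vanishing of `Tor`.** -/
theorem tor_pro_zero [IsNoetherianRing A] (I : Ideal A) (t : ℕ) (s : Finset A)
    (hs : I = Ideal.span (s : Set A)) (ht : s.card ≤ t) :
    ∃ c : ℕ, ∀ (M : ModuleCat.{u} A) (i n : ℕ), t < i →
      ((Tor (ModuleCat.{u} A) i).obj M).map (ModuleCat.ofHom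
        (Submodule.mapQ (I ^ n) (I ^ (n - c)) LinearMap.id
          (Ideal.pow_le_pow_right (Nat.sub_le n c)))) = 0 := by
  subst hs
  obtain ⟨c, hc⟩ := V_mono ht (V_span_finset s)
  refine ⟨c, fun M i n hi => ?_⟩
  apply tor_map_eq_zero_of
  intro ξ
  have h := V_apply hc (DFun.ofModule M) i n (n - c) (Nat.sub_le n c) hi (by omega)
  exact congrArg (fun g => g.hom ξ) h

end Groth.Agent.Lib.Helper11.TorSys
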