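import Mathlib
import Groth.Agent.Lib.Helper11.TorSysE

/-!
# Uniform annihilation of `Tor_i(M, A/I^q)` for `i >` number of generators of `I`
-/

set_option autoImplicit false
set_option linter.unusedSectionVars false
set_option linter.unusedVariables false
universe u

open CategoryTheory CategoryTheory.Limits

namespace Groth.Agent.Lib.Helper11.TorSys

variable {A : Type u} [CommRing A]

/-- the short exact sequence `ker → A/I^q → A/I^q'` -/
noncomputable def projSC (I : Ideal A) (q q' : ℕ) (h : q' ≤ q) : ShortComplex (ModuleCat.{u} A) :=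
  ShortComplex.mk (ModuleCat.ofHom (LinearMap.ker (projI I q q' h)).subtype)
    (ModuleCat.ofHom (projI I q q' h)) (by
      refine ModuleCat.hom_ext (LinearMap.ext fun x => ?_)
      exact x.2)

theorem projSC_shortExact (I : Ideal A) (q q' : ℕ) (h : q' ≤ q) :
    (projSC I q q' h).ShortExact where
  exact := by
    rw [ShortComplex.moduleCat_exact_iff_ker_sub_range]
    intro x hx
    exact ⟨⟨x, hx⟩, rfl⟩
  mono_f := (ModuleCat.mono_iff_injective _).2 (Submodule.injective_subtype _)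
  epi_g := (ModuleCat.epi_iff_surjective _).2 (by
    intro z
    obtain ⟨r, rfl⟩ := Submodule.Quotient.mk_surjective _ z
    exact ⟨Submodule.Quotient.mk r, rfl⟩)

theorem smul_ker_eq_zero (I : Ideal A) (q q' c : ℕ) (h : q' ≤ q) (hq : q ≤ q' + c)
    (a : A) (ha : a ∈ I ^ c) (k : LinearMap.ker (projI I q q' h)) : a • k = 0 := by
  apply Subtype.ext
  obtain ⟨k, hk⟩ := k
  obtain ⟨r, rfl⟩ := Submodule.Quotient.mk_surjective _ k
  have hr : r ∈ I ^ q' := by
    have : (Submodule.Quotient.mk r : A ⧸ I ^ q') = 0 := hk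
    exact (Submodule.Quotient.mk_eq_zero _).1 this
  change (Submodule.Quotient.mk (a • r) : A ⧸ I ^ q) = 0
  rw [Submodule.Quotient.mk_eq_zero, smul_eq_mul]
  have h1 : a * r ∈ I ^ c * I ^ q' := Ideal.mul_mem_mul ha hr
  rw [← pow_add] at h1
  exact Ideal.pow_le_pow_right (by omega) h1

theorem smul_eq_zero_of_V_aux {I : Ideal A} {t c : ℕ}
    (hc : ∀ (D : DFun A) (i n n' : ℕ) (h : n' ≤ n), t < i → n' + c ≤ n →
      (D.G i).map (ModuleCat.ofHom (projI I n n' h)) = 0)
    (D : DFun A) (i q : ℕ) (hi : t < i) (a : A) (ha : a ∈ I ^ c)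
    (ξ : (D.G i).obj (projSC I q (q - c) (Nat.sub_le q c)).X₂) : a • ξ = 0 := by
  have := D.additive i
  have hg := V_apply hc D i q (q - c) (Nat.sub_le q c) hi (by omega)
  have hex := D.exact₂ (projSC I q (q - c) (Nat.sub_le q c)) (projSC_shortExact I q (q - c) _) i
  have h0 : ((D.G i).map (projSC I q (q - c) (Nat.sub_le q c)).g).hom ξ = 0 :=
    congrArg (fun g => g.hom ξ) hg
  obtain ⟨w, rfl⟩ := (hex ξ).1 h0
  have hz : a • 𝟙 (projSC I q (q - c) (Nat.sub_le q c)).X₁ = 0 := by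
    refine ModuleCat.hom_ext (LinearMap.ext fun k => ?_)
    exact smul_ker_eq_zero I q (q - c) c (Nat.sub_le q c) (by omega) a ha k
  have h1 : a • w = 0 := by
    rw [← D.smul, hz, Functor.map_zero]
    rfl
  rw [← map_smul, h1, map_zero]

theorem smul_eq_zero_of_V {I : Ideal A} {t c : ℕ}
    (hc : ∀ (D : DFun A) (i n n' : ℕ) (h : n' ≤ n), t < i → n' + c ≤ n →
      (D.G i).map (ModuleCat.ofHom (projI I n n' h)) = 0)
    (D : DFun A) (i q : ℕ) (hi : t < i) (a : A) (ha : a ∈ I ^ c)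
    (ξ : (D.G i).obj (ModuleCat.of A (A ⧸ I ^ q))) : a • ξ = 0 :=
  smul_eq_zero_of_V_aux hc D i q hi a ha ξ

/-- **Uniform annihilation of `Tor`.** -/
theorem tor_uniform_annihilator [IsNoetherianRing A] (I : Ideal A) (t : ℕ) (s : Finset A)
    (hs : I = Ideal.span (s : Set A)) (ht : s.card ≤ t) :
    ∃ c : ℕ, ∀ (M : ModuleCat.{u} A) (i q : ℕ), t < i → ∀ a ∈ I ^ c,
      ∀ x : ((Tor (ModuleCat.{u} A) i).obj M).obj (ModuleCat.of A (A ⧸ I ^ q)), a • x = 0 := by
  subst hs
  obtain ⟨c, hc⟩ := V_mono ht (V_span_finset s)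
  refine ⟨c, fun M i q hi a ha x => ?_⟩
  exact tor_smul_eq_zero_of M i _ a
    (fun ξ => smul_eq_zero_of_V hc (DFun.ofModule M) i q hi a ha ξ) x

end Groth.Agent.Lib.Helper11.TorSys
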