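import Mathlib
import Groth.Agent.Lib.Helper11.TorSysF
import Groth.Agent.Lib.Helper9.BlowupAlg
import Groth.Agent.Lib.Helper28.HomologyFiltered

/-!
# `Tor_i(A[I/a], M)` is uniformly annihilated by a power of `I` for `i ≥` (number of generators)
-/

set_option autoImplicit false
set_option linter.unusedSectionVars false
set_option linter.unusedVariables false
universe u

open CategoryTheory CategoryTheory.Limits

namespace Groth.Agent.Lib.Helper11.TorSys

variable {A : Type u} [CommRing A]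

section FirstVar

/-- comparison `Tor_i(-, M) ≅` the model (first variable) -/
noncomputable def torIsoModel' (M : ModuleCat.{u} A) (i : ℕ) :
    (Tor (ModuleCat.{u} A) i).flip.obj M ≅ (DFun.ofModule M).G i :=
  Groth.Agent.Lib.Helper28.TorFiltered.torFlipIso i M (projectiveResolution M)

/-- componentwise comparison iso (first variable) -/
noncomputable def torIsoModelApp' (M : ModuleCat.{u} A) (i : ℕ) (X : ModuleCat.{u} A) :
    ((Tor (ModuleCat.{u} A) i).obj X).obj M ≅ ((DFun.ofModule M).G i).obj X :=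
  (torIsoModel' M i).app X

theorem tor_smul_eq_zero_of' (M : ModuleCat.{u} A) (i : ℕ) (X : ModuleCat.{u} A) (a : A)
    (h0 : ∀ ξ : ((DFun.ofModule M).G i).obj X, a • ξ = 0)
    (x : ((Tor (ModuleCat.{u} A) i).obj X).obj M) : a • x = 0 := by
  have h := h0 ((torIsoModelApp' M i X).hom.hom x)
  rw [← map_smul] at h
  have h2 := congrArg (torIsoModelApp' M i X).inv.hom h
  rw [map_zero] at h2
  rw [← h2]
  exact (congrArg (fun g => g.hom (a • x)) (torIsoModelApp' M i X).hom_inv_id).symm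

end FirstVar

section IdealSC

/-- `I^n → A → A/I^n` -/
noncomputable def idealSC (I : Ideal A) (n : ℕ) : ShortComplex (ModuleCat.{u} A) :=
  ShortComplex.mk (ModuleCat.ofHom ((I ^ n).subtype : ↥(I ^ n) →ₗ[A] A))
    (ModuleCat.ofHom (Submodule.mkQ (I ^ n) : A →ₗ[A] A ⧸ I ^ n)) (by
      refine ModuleCat.hom_ext (LinearMap.ext fun x => ?_)
      exact (Submodule.Quotient.mk_eq_zero _).2 x.2)

theorem idealSC_shortExact (I : Ideal A) (n : ℕ) : (idealSC I n).ShortExact where
  exact := by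
    rw [ShortComplex.moduleCat_exact_iff_ker_sub_range]
    intro x hx
    have hx' : (Submodule.Quotient.mk x : A ⧸ I ^ n) = 0 := hx
    exact ⟨⟨x, (Submodule.Quotient.mk_eq_zero _).1 hx'⟩, rfl⟩
  mono_f := (ModuleCat.mono_iff_injective _).2 (Submodule.injective_subtype _)
  epi_g := (ModuleCat.epi_iff_surjective _).2 (Submodule.mkQ_surjective _)

theorem smul_G_pow_eq_zero_aux {I : Ideal A} {t c : ℕ}
    (hc : ∀ (D : DFun A) (i n n' : ℕ) (h : n' ≤ n), t < i → n' + c ≤ n →
      (D.G i).map (ModuleCat.ofHom (projI I n n' h)) = 0)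
    (D : DFun A) (k n : ℕ) (hi : t ≤ k + 1) (a : A) (ha : a ∈ I ^ c)
    (ξ : (D.G (k + 1)).obj (idealSC I n).X₁) : a • ξ = 0 := by
  have hex := D.exact₁ (idealSC I n) (idealSC_shortExact I n) (k + 1)
  have hsub : Subsingleton ((D.G (k + 1)).obj (idealSC I n).X₂) :=
    ModuleCat.subsingleton_of_isZero (D.isZero_ring k)
  have hz : ((D.G (k + 1)).map (idealSC I n).f).hom ξ = 0 := Subsingleton.elim _ _
  obtain ⟨z, rfl⟩ := (hex ξ).1 hz
  have hza : a • z = 0 := smul_eq_zero_of_V hc D (k + 2) n (by omega) a ha z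
  rw [← map_smul, hza, map_zero]

theorem smul_G_pow_eq_zero {I : Ideal A} {t c : ℕ}
    (hc : ∀ (D : DFun A) (i n n' : ℕ) (h : n' ≤ n), t < i → n' + c ≤ n →
      (D.G i).map (ModuleCat.ofHom (projI I n n' h)) = 0)
    (D : DFun A) (i n : ℕ) (hi : t ≤ i) (hi0 : 0 < i) (a : A) (ha : a ∈ I ^ c)
    (ξ : (D.G i).obj (ModuleCat.of A ↥(I ^ n))) : a • ξ = 0 := by
  obtain ⟨k, rfl⟩ : ∃ k, i = k + 1 := ⟨i - 1, by omega⟩
  exact smul_G_pow_eq_zero_aux hc D k n hi a ha ξ

end IdealSC

end Groth.Agent.Lib.Helper11.TorSys
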