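import Mathlib
import Groth.Agent.Lib.Helper11.TorSysG

/-!
# Pro-vanishing of `Tor_i(M, A/I^n)`, `i > 0`, for modules `M` killed by `I^m`
-/

set_option autoImplicit false
set_option linter.unusedSectionVars false
set_option linter.unusedVariables false
universe u

open CategoryTheory CategoryTheory.Limits

namespace Groth.Agent.Lib.Helper11.TorSys

variable {A : Type u} [CommRing A]

/-- the δ-functor is killed by the ideal `J` -/
def DFun.KilledBy (D : DFun A) (J : Ideal A) : Prop :=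
  ∀ a ∈ J, ∀ (i : ℕ) (X : ModuleCat.{u} A) (ξ : (D.G i).obj X), a • ξ = 0

/-- `G_0` preserves surjections -/
def DFun.R0 (D : DFun A) : Prop :=
  ∀ {X Y : ModuleCat.{u} A} (g : X ⟶ Y), Function.Surjective g.hom →
    Function.Surjective ((D.G 0).map g).hom

theorem DFun.KilledBy.mono {D : DFun A} {J J' : Ideal A} (h : J' ≤ J) (hD : D.KilledBy J) :
    D.KilledBy J' := fun a ha => hD a (h ha)

section PerIndex

variable (𝔟 : Ideal A)

theorem G_pi_zero' (D : DFun A) (i : ℕ) {c : ℕ}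
    (hc : ∀ (n n' : ℕ) (h : n' ≤ n), n' + c ≤ n →
      (D.G i).map (ModuleCat.ofHom (projI 𝔟 n n' h)) = 0)
    (q q' : ℕ) (h : q' ≤ q) (hq : q' + c ≤ q) :
    (D.G i).map (ModuleCat.ofHom (pi 𝔟 q q' h)) = 0 := by
  have := D.additive i
  have e1 : ModuleCat.ofHom (pi 𝔟 q q' h) =
      ∑ a ∈ Finset.range q, ModuleCat.ofHom (rho 𝔟 q a) ≫
        (ModuleCat.ofHom (projI 𝔟 (q - a) (q' - a) (Nat.sub_le_sub_right h a)) ≫
          ModuleCat.ofHom (iota 𝔟 q' a)) := by
    conv_lhs => rw [← Category.id_comp (ModuleCat.ofHom (pi 𝔟 q q' h)), id_eq_sum,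
      Preadditive.sum_comp]
    refine Finset.sum_congr rfl (fun a _ => ?_)
    rw [Category.assoc]
    congr 1
    refine ModuleCat.hom_ext (LinearMap.ext fun z => ?_)
    exact pi_iota 𝔟 q q' h a z
  rw [e1, Functor.map_sum]
  refine Finset.sum_eq_zero (fun a _ => ?_)
  rw [Functor.map_comp, Functor.map_comp]
  have hz : (D.G i).map (ModuleCat.ofHom
      (projI 𝔟 (q - a) (q' - a) (Nat.sub_le_sub_right h a))) = 0 := by
    by_cases ha : a ≤ q'
    · exact hc _ _ _ (by omega)
    · have h0 : q' - a = 0 := by omega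
      have e2 : ∀ (k : ℕ) (hk : k = 0) (hk' : k ≤ q - a),
          (D.G i).map (ModuleCat.ofHom (projI 𝔟 (q - a) k hk')) = 0 := by
        intro k hk hk'
        subst hk
        exact G_projI_zero_of_zero 𝔟 D i (q - a)
      exact e2 _ h0 _
  rw [hz, Limits.zero_comp, Limits.comp_zero]

end PerIndex

section BaseOne

variable (I : Ideal A)

/-- the inclusions `I^n → I^n'` -/
def incl (n n' : ℕ) (h : n' ≤ n) : ↥(I ^ n) →ₗ[A] ↥(I ^ n') :=
  Submodule.inclusion (Ideal.pow_le_pow_right h)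

/-- multiplication by `a ∈ I^m` as a map `I^n' → I^(n'+m)` -/
def mulPow (m n' : ℕ) (a : A) (ha : a ∈ I ^ m) : ↥(I ^ n') →ₗ[A] ↥(I ^ (n' + m)) :=
  (LinearMap.mulLeft A a).restrict (fun b hb => by
    rw [pow_add, mul_comm (I ^ n')]
    exact Ideal.mul_mem_mul ha hb)

theorem incl_mulPow (m n' : ℕ) (a : A) (ha : a ∈ I ^ m) :
    (incl I (n' + m) n' (Nat.le_add_right _ _)).comp (mulPow I m n' a ha) =
      a • LinearMap.id := by
  refine LinearMap.ext fun b => ?_
  apply Subtype.ext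
  rfl

theorem G0_incl_zero [IsNoetherianRing A] (m : ℕ) (D : DFun A) (hD : D.KilledBy (I ^ m))
    (hR : D.R0) (n' : ℕ) :
    (D.G 0).map (ModuleCat.ofHom (incl I (n' + m) n' (Nat.le_add_right _ _))) = 0 := by
  have := D.additive 0
  obtain ⟨r, a, ha⟩ := (Submodule.fg_iff_exists_fin_generating_family
    (N := (I ^ m : Submodule A A))).1 (IsNoetherian.noetherian _)
  have ham : ∀ k, a k ∈ I ^ m := fun k => by
    have : a k ∈ Submodule.span A (Set.range a) := Submodule.subset_span ⟨k, rfl⟩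
    rw [ha] at this
    exact this
  -- the surjection σ
  let σ : (Fin r → ↥(I ^ n')) →ₗ[A] ↥(I ^ (n' + m)) :=
    ∑ k, (mulPow I m n' (a k) (ham k)).comp (LinearMap.proj k)
  have hσ : Function.Surjective σ := by
    rintro ⟨x, hx⟩
    have hx' : x ∈ I ^ m * I ^ n' := by rwa [← pow_add, add_comm]
    suffices h : ∃ b : Fin r → ↥(I ^ n'), ∑ k, a k * (b k : A) = x by
      obtain ⟨b, hb⟩ := h
      refine ⟨b, Subtype.ext ?_⟩
      change ((σ b : ↥(I ^ (n' + m))) : A) = x
      rw [← hb]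
      simp only [σ, LinearMap.sum_apply, LinearMap.comp_apply, LinearMap.proj_apply]
      rw [Submodule.coe_sum]
      rfl
    refine Submodule.mul_induction_on hx' ?_ ?_
    · intro u hu v hv
      have hu' : u ∈ Submodule.span A (Set.range a) := by rw [ha]; exact hu
      obtain ⟨cf, hcf⟩ := (Submodule.mem_span_range_iff_exists_fun A).1 hu'
      refine ⟨fun k => ⟨cf k * v, Ideal.mul_mem_left _ _ hv⟩, ?_⟩
      rw [← hcf, Finset.sum_mul]
      refine Finset.sum_congr rfl (fun k _ => ?_)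
      simp only [smul_eq_mul]
      ring
    · rintro x y ⟨b, hb⟩ ⟨b', hb'⟩
      refine ⟨b + b', ?_⟩
      rw [← hb, ← hb', ← Finset.sum_add_distrib]
      refine Finset.sum_congr rfl (fun k _ => ?_)
      simp only [Pi.add_apply, Submodule.coe_add]
      ring
  -- the composite is a sum of maps killed by G_0
  have hcomp : ModuleCat.ofHom σ ≫ ModuleCat.ofHom (incl I (n' + m) n' (Nat.le_add_right _ _)) =
      ∑ k, ModuleCat.ofHom (LinearMap.proj k : (Fin r → ↥(I ^ n')) →ₗ[A] ↥(I ^ n')) ≫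
        (a k • 𝟙 (ModuleCat.of A ↥(I ^ n'))) := by
    refine ModuleCat.hom_ext (LinearMap.ext fun b => ?_)
    rw [ModuleCat.hom_sum, LinearMap.sum_apply]
    apply Subtype.ext
    simp only [σ, ModuleCat.hom_comp, ModuleCat.hom_ofHom, LinearMap.comp_apply,
      LinearMap.sum_apply, LinearMap.proj_apply, map_sum]
    rw [Submodule.coe_sum, Submodule.coe_sum]
    rfl
  have hzero : (D.G 0).map (ModuleCat.ofHom σ) ≫
      (D.G 0).map (ModuleCat.ofHom (incl I (n' + m) n' (Nat.le_add_right _ _))) = 0 := by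
    rw [← Functor.map_comp, hcomp, Functor.map_sum]
    refine Finset.sum_eq_zero (fun k _ => ?_)
    rw [Functor.map_comp]
    have hk : (D.G 0).map (a k • 𝟙 (ModuleCat.of A ↥(I ^ n'))) = 0 := by
      refine ModuleCat.hom_ext (LinearMap.ext fun ζ => ?_)
      rw [D.smul]
      exact hD (a k) (ham k) 0 _ ζ
    rw [hk, Limits.comp_zero]
  refine ModuleCat.hom_ext (LinearMap.ext fun ζ => ?_)
  obtain ⟨w, rfl⟩ := hR (ModuleCat.ofHom σ) hσ ζ
  exact congrArg (fun g => g.hom w) hzero

end BaseOne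

end Groth.Agent.Lib.Helper11.TorSys
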