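import Mathlib
import Groth.Agent.Lib.Helper11.TorSysI

/-!
# Pro-vanishing of `Tor_i(M, A/I^n)` for `I^m`-torsion `M`: the induction
-/

set_option autoImplicit false
set_option linter.unusedSectionVars false
set_option linter.unusedVariables false
universe u

open CategoryTheory CategoryTheory.Limits

namespace Groth.Agent.Lib.Helper11.TorSys

variable {A : Type u} [CommRing A]

section BaseOne

variable (I : Ideal A)

/-- the morphism `idealSC I n ⟶ idealSC I n'` -/
noncomputable def idealSCMap (n n' : ℕ) (h : n' ≤ n) : idealSC I n ⟶ idealSC I n' where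
  τ₁ := ModuleCat.ofHom (incl I n n' h)
  τ₂ := 𝟙 _
  τ₃ := ModuleCat.ofHom (projI I n n' h)
  comm₁₂ := by
    refine ModuleCat.hom_ext (LinearMap.ext fun b => ?_)
    rfl
  comm₂₃ := by
    refine ModuleCat.hom_ext (LinearMap.ext fun b => ?_)
    rfl

theorem G1_proj_zero_aux [IsNoetherianRing A] (m : ℕ) (D : DFun A) (hD : D.KilledBy (I ^ m))
    (hR : D.R0) (n' : ℕ) (ξ : (D.G 1).obj (idealSC I (n' + m)).X₃) :
    ((D.G 1).map (idealSCMap I (n' + m) n' (Nat.le_add_right _ _)).τ₃).hom ξ = 0 := by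
  have := D.additive 0
  have hn := D.δ_nat (idealSC I (n' + m)) (idealSC I n') (idealSC_shortExact I _)
    (idealSC_shortExact I _) (idealSCMap I (n' + m) n' (Nat.le_add_right _ _)) 0
  have h0 : (D.G 0).map (idealSCMap I (n' + m) n' (Nat.le_add_right _ _)).τ₁ = 0 :=
    G0_incl_zero I m D hD hR n'
  rw [h0, Limits.comp_zero] at hn
  have h1 : (D.δ (idealSC I n') (idealSC_shortExact I _) 0).hom
      (((D.G 1).map (idealSCMap I (n' + m) n' (Nat.le_add_right _ _)).τ₃).hom ξ) = 0 :=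
    congrArg (fun g => g.hom ξ) hn
  obtain ⟨w, hw⟩ := (D.exact₃ (idealSC I n') (idealSC_shortExact I _) 0 _).1 h1
  have hsub : Subsingleton ((D.G 1).obj (idealSC I n').X₂) :=
    ModuleCat.subsingleton_of_isZero (D.isZero_ring 0)
  rw [← hw, Subsingleton.elim w 0, map_zero]

theorem G1_proj_zero [IsNoetherianRing A] (m : ℕ) (D : DFun A) (hD : D.KilledBy (I ^ m))
    (hR : D.R0) (n n' : ℕ) (h : n' ≤ n) (hn : n' + m ≤ n) :
    (D.G 1).map (ModuleCat.ofHom (projI I n n' h)) = 0 := by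
  have e : ModuleCat.ofHom (projI I n n' h) =
      ModuleCat.ofHom (projI I n (n' + m) hn) ≫
        ModuleCat.ofHom (projI I (n' + m) n' (Nat.le_add_right _ _)) := by
    refine ModuleCat.hom_ext (LinearMap.ext fun x => ?_)
    obtain ⟨r, rfl⟩ := Submodule.Quotient.mk_surjective _ x
    rfl
  have h2 : (D.G 1).map (ModuleCat.ofHom (projI I (n' + m) n' (Nat.le_add_right _ _))) = 0 := by
    refine ModuleCat.hom_ext (LinearMap.ext fun ξ => ?_)
    exact G1_proj_zero_aux I m D hD hR n' ξ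
  rw [e, Functor.map_comp, h2, Limits.comp_zero]

end BaseOne

/-- the torsion pro-vanishing property -/
def W (I : Ideal A) : Prop :=
  ∀ m : ℕ, ∃ c : ℕ, ∀ (D : DFun A), D.KilledBy (I ^ m) → D.R0 →
    ∀ (i n n' : ℕ) (h : n' ≤ n), 0 < i → n' + c ≤ n →
      (D.G i).map (ModuleCat.ofHom (projI I n n' h)) = 0

theorem W_bot : W (⊥ : Ideal A) := by
  intro m
  refine ⟨0, ?_⟩
  intro D _ _ i n n' h hi hn
  have := D.additive i
  rcases Nat.eq_zero_or_pos n' with h0 | h0
  · subst h0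
    exact G_projI_zero_of_zero _ D i n
  · obtain ⟨k, rfl⟩ : ∃ k, i = k + 1 := ⟨i - 1, by omega⟩
    have hbot : (⊥ : Ideal A) ^ n = ⊥ := by
      rw [Ideal.bot_pow (by omega)]
    let e : (A ⧸ (⊥ : Ideal A) ^ n) ≃ₗ[A] A := Submodule.quotEquivOfEqBot _ hbot
    have hz : IsZero ((D.G (k + 1)).obj (ModuleCat.of A (A ⧸ (⊥ : Ideal A) ^ n))) :=
      (D.isZero_ring k).of_iso ((D.G (k + 1)).mapIso e.toModuleIso)
    exact hz.eq_of_src _ _

theorem W_step [IsNoetherianRing A] (𝔟 : Ideal A) (f : A) (hW : W 𝔟) :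
    W (𝔟 ⊔ Ideal.span {f}) := by
  intro m
  obtain ⟨c₂, hc₂⟩ := hW m
  obtain ⟨c₁, hc₁⟩ := exists_AR 𝔟 f
  refine ⟨c₁ + 2 * c₂ + m, ?_⟩
  intro D hD hR i n n' h hi hn
  have hD' : D.KilledBy (𝔟 ^ m) := hD.mono (Ideal.pow_right_mono le_sup_left m)
  rcases Nat.lt_or_ge i 2 with hi2 | hi2
  · obtain rfl : i = 1 := by omega
    exact G1_proj_zero _ m D hD hR n n' h (by omega)
  obtain ⟨j, rfl⟩ : ∃ j, i = j + 2 := ⟨i - 2, by omega⟩
  have hn1 : n - c₁ ≤ n := Nat.sub_le _ _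
  have hn2 : n - c₁ - c₂ ≤ n - c₁ := Nat.sub_le _ _
  have hn3 : n' ≤ n - c₁ - c₂ := by omega
  have key := chase D j (lvlHom 𝔟 f n (n - c₁) hn1) (lvlHom 𝔟 f (n - c₁) (n - c₁ - c₂) hn2)
    (lvlHom 𝔟 f (n - c₁ - c₂) n' hn3)
    (fun x hx => pi_eq_zero_of_mu_eq_zero 𝔟 f hc₁ n x hx)
    (fun θ => by
      have := G_pi_zero' 𝔟 D (j + 1) (c := c₂)
        (fun n n' h hn => hc₂ D hD' hR (j + 1) n n' h (by omega) hn)
        (n - c₁) (n - c₁ - c₂) hn2 (by omega)
      exact congrArg (fun g => g.hom θ) this)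
    (fun θ => by
      have := G_pi_zero' 𝔟 D (j + 2) (c := c₂)
        (fun n n' h hn => hc₂ D hD' hR (j + 2) n n' h (by omega) hn)
        (n - c₁ - c₂) n' hn3 (by omega)
      exact congrArg (fun g => g.hom θ) this)
  have e : ModuleCat.ofHom (projI (𝔟 ⊔ Ideal.span {f}) n n' h) =
      ModuleCat.ofHom (projI (𝔟 ⊔ Ideal.span {f}) n (n - c₁) hn1) ≫
        ModuleCat.ofHom (projI (𝔟 ⊔ Ideal.span {f}) (n - c₁) (n - c₁ - c₂) hn2) ≫
          ModuleCat.ofHom (projI (𝔟 ⊔ Ideal.span {f}) (n - c₁ - c₂) n' hn3) := by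
    refine ModuleCat.hom_ext (LinearMap.ext fun x => ?_)
    obtain ⟨r, rfl⟩ := Submodule.Quotient.mk_surjective _ x
    rfl
  rw [e, Functor.map_comp, Functor.map_comp]
  refine ModuleCat.hom_ext (LinearMap.ext fun ξ => ?_)
  exact key ξ

theorem W_span_finset [IsNoetherianRing A] (s : Finset A) : W (Ideal.span (s : Set A)) := by
  classical
  induction s using Finset.induction_on with
  | empty =>
    rw [Finset.coe_empty, Ideal.span_empty]
    exact W_bot
  | insert f s hf ih =>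
    rw [Finset.coe_insert, Ideal.span_insert, sup_comm]
    exact W_step _ f ih

theorem W_of_noetherian [IsNoetherianRing A] (I : Ideal A) : W I := by
  obtain ⟨s, hs⟩ := (IsNoetherian.noetherian I : I.FG)
  have := W_span_finset s
  rwa [show Ideal.span (s : Set A) = I from hs] at this

end Groth.Agent.Lib.Helper11.TorSys
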