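import Mathlib
import Groth.Agent.Lib.Helper11.TorSysJ

/-!
# Pro-vanishing of `Tor_i(M, A/I^n)` for `I^m`-torsion `M`: the `Tor` model
-/

set_option autoImplicit false
set_option linter.unusedSectionVars false
set_option linter.unusedVariables false
universe u

open CategoryTheory CategoryTheory.Limits MonoidalCategory

namespace Groth.Agent.Lib.Helper11.TorSys

variable {A : Type u} [CommRing A]

theorem tor_smul_eq_zero_of_smul_eq_zero (M X : ModuleCat.{u} A) (i : ℕ) (a : A)
    (ha : ∀ x : M, a • x = 0) (x : ((Tor (ModuleCat.{u} A) i).obj M).obj X) : a • x = 0 := by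
  apply tor_smul_eq_zero_of' X i M a
  intro ζ
  have := (DFun.ofModule X).additive i
  rw [← (DFun.ofModule X).smul]
  have hz : a • 𝟙 M = 0 := by
    refine ModuleCat.hom_ext (LinearMap.ext fun x => ?_)
    exact ha x
  rw [hz, Functor.map_zero]
  rfl

theorem ofModule_killedBy (M : ModuleCat.{u} A) (J : Ideal A)
    (hM : ∀ a ∈ J, ∀ x : M, a • x = 0) : (DFun.ofModule M).KilledBy J := by
  intro a ha i X ξ
  have h1 := tor_smul_eq_zero_of_smul_eq_zero M X i a (hM a ha)
    ((torIsoModelApp M i X).inv.hom ξ)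
  have h2 := congrArg (torIsoModelApp M i X).hom.hom h1
  rw [map_zero, map_smul] at h2
  have h3 : (torIsoModelApp M i X).hom.hom ((torIsoModelApp M i X).inv.hom ξ) = ξ :=
    congrArg (fun g => g.hom ξ) (torIsoModelApp M i X).inv_hom_id
  rw [h3] at h2
  exact h2

/-- the model in degree `0` is the tensor product -/
noncomputable def modelZeroIso (M : ModuleCat.{u} A) : (DFun.ofModule M).G 0 ≅ tensorLeft M :=
  (torIsoModel M 0).symm ≪≫ Functor.leftDerivedZeroIsoSelf (tensorLeft M)

theorem ofModule_R0 (M : ModuleCat.{u} A) : (DFun.ofModule M).R0 := by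
  intro X Y g hg
  have hepi : Epi g := (ModuleCat.epi_iff_surjective g).2 hg
  have h1 : Epi ((tensorLeft M).map g) := by
    rw [ModuleCat.epi_iff_surjective]
    change Function.Surjective (LinearMap.lTensor M g.hom)
    exact LinearMap.lTensor_surjective M hg
  have e : ((DFun.ofModule M).G 0).map g =
      ((modelZeroIso M).app X).hom ≫ (tensorLeft M).map g ≫ ((modelZeroIso M).app Y).inv := by
    have hn := (modelZeroIso M).hom.naturality g
    rw [Iso.app_hom, Iso.app_inv, ← Category.assoc, ← hn, Category.assoc,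
      Iso.hom_inv_id_app, Category.comp_id]
  have h2 : Epi (((DFun.ofModule M).G 0).map g) := by
    rw [e]
    infer_instance
  exact (ModuleCat.epi_iff_surjective _).1 h2

/-- **Pro-vanishing of `Tor` for torsion modules.** -/
theorem tor_pro_zero_torsion [IsNoetherianRing A] (I : Ideal A) (m i : ℕ) (hi : 0 < i) :
    ∃ c : ℕ, ∀ (M : ModuleCat.{u} A), (∀ a ∈ I ^ m, ∀ x : M, a • x = 0) → ∀ n : ℕ, c ≤ n →
      ((Tor (ModuleCat.{u} A) i).obj M).map (ModuleCat.ofHom
        (Submodule.mapQ (I ^ n) (I ^ (n - c)) LinearMap.id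
          (Ideal.pow_le_pow_right (Nat.sub_le n c)))) = 0 := by
  obtain ⟨c, hc⟩ := W_of_noetherian I m
  refine ⟨c, fun M hM n hn => ?_⟩
  apply tor_map_eq_zero_of
  intro ξ
  have h := hc (DFun.ofModule M) (ofModule_killedBy M _ hM) (ofModule_R0 M) i n (n - c)
    (Nat.sub_le n c) hi (by omega)
  exact congrArg (fun g => g.hom ξ) h

end Groth.Agent.Lib.Helper11.TorSys
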