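import Mathlib
import Groth.Agent.Lib.Helper11.TorSysK
import Groth.Agent.Lib.Helper18.SerreReg

/-!
# Kunz' theorem, part A: base change of short exact sequences along a flat map,
and the Koh–Lee socle argument
-/

set_option autoImplicit false
set_option linter.unusedSectionVars false
set_option linter.unusedVariables false
universe u

open CategoryTheory CategoryTheory.Limits MonoidalCategory TensorProduct

namespace Groth.Agent.Lib.Helper11.Kunz

open Groth.Agent.Lib.Helper11.TorSys

section BaseChange

variable {R : Type u} [CommRing R] (S : Type u) [CommRing S] [Algebra R S] [Module.Flat R S]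

/-- the base change to `S` of a short exact sequence of `R`-modules, as a short complex of
`S`-modules -/
noncomputable def bcSC {X₁ X₂ X₃ : Type u} [AddCommGroup X₁] [Module R X₁] [AddCommGroup X₂]
    [Module R X₂] [AddCommGroup X₃] [Module R X₃] (f : X₁ →ₗ[R] X₂) (g : X₂ →ₗ[R] X₃)
    (hfg : g ∘ₗ f = 0) : ShortComplex (ModuleCat.{u} S) :=
  ShortComplex.mk (ModuleCat.ofHom (f.baseChange S)) (ModuleCat.ofHom (g.baseChange S)) (by
    rw [← ModuleCat.ofHom_comp, ← LinearMap.baseChange_comp, hfg]
    refine ModuleCat.hom_ext (LinearMap.ext fun x => ?_)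
    induction x using TensorProduct.induction_on with
    | zero => simp
    | tmul s m => simp
    | add x y hx hy => simp only [map_add, hx, hy])

theorem bcSC_shortExact {X₁ X₂ X₃ : Type u} [AddCommGroup X₁] [Module R X₁] [AddCommGroup X₂]
    [Module R X₂] [AddCommGroup X₃] [Module R X₃] (f : X₁ →ₗ[R] X₂) (g : X₂ →ₗ[R] X₃)
    (hf : Function.Injective f) (hg : Function.Surjective g) (hex : Function.Exact f g) :
    (bcSC S f g hex.linearMap_comp_eq_zero).ShortExact where
  exact := by
    rw [ShortComplex.ShortExact.moduleCat_exact_iff_function_exact]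
    show Function.Exact (f.baseChange S) (g.baseChange S)
    rw [LinearMap.baseChange_eq_ltensor, LinearMap.baseChange_eq_ltensor]
    exact lTensor_exact S hex hg
  mono_f := by
    rw [ModuleCat.mono_iff_injective]
    show Function.Injective (f.baseChange S)
    rw [LinearMap.baseChange_eq_ltensor]
    exact Module.Flat.lTensor_preserves_injective_linearMap f hf
  epi_g := by
    rw [ModuleCat.epi_iff_surjective]
    show Function.Surjective (g.baseChange S)
    rw [LinearMap.baseChange_eq_ltensor]
    exact LinearMap.lTensor_surjective S hg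

end BaseChange

section Contraction

open IsLocalRing

variable {R : Type u} [CommRing R] [IsLocalRing R]
  (S : Type u) [CommRing S] [IsLocalRing S] [Algebra R S] (Y : Ideal S)

/-- the `S`-linear extension `S ⊗ W → S` of a functional `W → R` -/
noncomputable def epsL {W : Type u} [AddCommGroup W] [Module R W] (ℓ : W →ₗ[R] R) :
    S ⊗[R] W →ₗ[S] S :=
  (TensorProduct.AlgebraTensorModule.rid R S S).toLinearMap ∘ₗ ℓ.baseChange S

theorem epsL_tmul {W : Type u} [AddCommGroup W] [Module R W] (ℓ : W →ₗ[R] R) (a : S) (w : W) :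
    epsL S ℓ (a ⊗ₜ[R] w) = a * algebraMap R S (ℓ w) := by
  simp [epsL, Algebra.smul_def, mul_comm]

/-- the contraction `(S/Y) ⊗_S (S ⊗_R W) → S/Y` attached to a functional `W → R` -/
noncomputable def kap {W : Type u} [AddCommGroup W] [Module R W] (ℓ : W →ₗ[R] R) :
    (S ⧸ Y) ⊗[S] (S ⊗[R] W) →ₗ[S] (S ⧸ Y) :=
  TensorProduct.lift (LinearMap.mk₂ S (fun (t : S ⧸ Y) (x : S ⊗[R] W) => epsL S ℓ x • t)
    (fun t t' x => smul_add _ _ _)
    (fun a t x => smul_comm _ _ _)
    (fun t x x' => by rw [map_add, add_smul])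
    (fun a t x => by rw [map_smul, smul_eq_mul, mul_smul]))

theorem kap_tmul {W : Type u} [AddCommGroup W] [Module R W] (ℓ : W →ₗ[R] R) (t : S ⧸ Y)
    (x : S ⊗[R] W) : kap S Y ℓ (t ⊗ₜ[S] x) = epsL S ℓ x • t := rfl

theorem kap_comp {W W' : Type u} [AddCommGroup W] [Module R W] [AddCommGroup W'] [Module R W']
    (ℓ : W →ₗ[R] R) (u : W' →ₗ[R] W) (ζ : (S ⧸ Y) ⊗[S] (S ⊗[R] W')) :
    kap S Y ℓ (LinearMap.lTensor (S ⧸ Y) (u.baseChange S) ζ) = kap S Y (ℓ ∘ₗ u) ζ := by
  induction ζ using TensorProduct.induction_on with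
  | zero => simp
  | add x y hx hy => simp only [map_add, hx, hy]
  | tmul t x =>
    rw [LinearMap.lTensor_tmul, kap_tmul, kap_tmul]
    congr 1
    induction x using TensorProduct.induction_on with
    | zero => simp
    | add x y hx hy => simp only [map_add, hx, hy]
    | tmul a w => rw [LinearMap.baseChange_tmul, epsL_tmul, epsL_tmul, LinearMap.comp_apply]

variable (c : ℕ) (hc : ∀ a ∈ maximalIdeal R, algebraMap R S a ∈ maximalIdeal S ^ c)

include hc in
/-- Claim 2: a functional with values in the maximal ideal contracts into `n^c (S/Y)`. -/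
theorem kap_mem {W : Type u} [AddCommGroup W] [Module R W] (ℓ : W →ₗ[R] R)
    (hℓ : ∀ w, ℓ w ∈ maximalIdeal R) (ζ : (S ⧸ Y) ⊗[S] (S ⊗[R] W)) :
    kap S Y ℓ ζ ∈ (maximalIdeal S ^ c • ⊤ : Submodule S (S ⧸ Y)) := by
  induction ζ using TensorProduct.induction_on with
  | zero => rw [map_zero]; exact Submodule.zero_mem _
  | add x y hx hy => rw [map_add]; exact Submodule.add_mem _ hx hy
  | tmul t x =>
    rw [kap_tmul]
    refine Submodule.smul_mem_smul ?_ Submodule.mem_top
    induction x using TensorProduct.induction_on with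
    | zero => rw [map_zero]; exact Submodule.zero_mem _
    | add x y hx hy => rw [map_add]; exact Submodule.add_mem _ hx hy
    | tmul a w =>
      rw [epsL_tmul]
      exact Ideal.mul_mem_left _ _ (hc _ (hℓ w))

variable (s : S) (hs1 : ∀ a ∈ maximalIdeal S, a * s ∈ Y) (hc1 : 1 ≤ c)

include hc hs1 hc1 in
/-- Claim 1: a map with image in `m W` is killed by the socle element after contraction. -/
theorem smul_lTensor_eq_zero {W W' : Type u} [AddCommGroup W] [Module R W] [AddCommGroup W']
    [Module R W'] (u : W' →ₗ[R] W)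
    (hu : ∀ w', u w' ∈ (maximalIdeal R • ⊤ : Submodule R W))
    (ζ : (S ⧸ Y) ⊗[S] (S ⊗[R] W')) :
    s • LinearMap.lTensor (S ⧸ Y) (u.baseChange S) ζ = 0 := by
  have key : ∀ (t : S ⧸ Y) (a : S) (w : W), w ∈ (maximalIdeal R • ⊤ : Submodule R W) →
      s • (t ⊗ₜ[S] (a ⊗ₜ[R] w) : (S ⧸ Y) ⊗[S] (S ⊗[R] W)) = 0 := by
    intro t a w hw
    refine Submodule.smul_induction_on hw ?_ ?_
    · intro r hr w' _
      have h1 : (a ⊗ₜ[R] (r • w') : S ⊗[R] W) = algebraMap R S r • (a ⊗ₜ[R] w') := by
        rw [TensorProduct.tmul_smul, ← algebraMap_smul S r (a ⊗ₜ[R] w')]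
      rw [h1, TensorProduct.tmul_smul, smul_smul, TensorProduct.smul_tmul']
      have h2 : (s * algebraMap R S r) • t = 0 := by
        obtain ⟨t, rfl⟩ := Ideal.Quotient.mk_surjective t
        have hmem : algebraMap R S r ∈ maximalIdeal S :=
          Ideal.pow_le_self (by omega) (hc r hr)
        have := hs1 _ hmem
        show Ideal.Quotient.mk Y ((s * algebraMap R S r) * t) = 0
        rw [Ideal.Quotient.eq_zero_iff_mem, mul_comm s]
        exact Ideal.mul_mem_right _ _ this
      rw [h2, TensorProduct.zero_tmul]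
    · intro x y hx hy
      rw [TensorProduct.tmul_add, TensorProduct.tmul_add, smul_add, hx, hy, add_zero]
  induction ζ using TensorProduct.induction_on with
  | zero => simp
  | add x y hx hy => rw [map_add, smul_add, hx, hy, add_zero]
  | tmul t x =>
    rw [LinearMap.lTensor_tmul]
    induction x using TensorProduct.induction_on with
    | zero => simp
    | add x y hx hy => rw [map_add, TensorProduct.tmul_add, smul_add, hx, hy, add_zero]
    | tmul a w' =>
      rw [LinearMap.baseChange_tmul]
      exact key t a (u w') (hu w')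

end Contraction

end Groth.Agent.Lib.Helper11.Kunz
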