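import Mathlib
import Groth.Agent.Lib.Helper11.KunzA

/-!
# Kunz' theorem, part B: the Koh–Lee lemma
If `R → S` is a flat local homomorphism with `m_R S ⊆ n^c`, where `c` is large with respect to a
socle element modulo `Y`, then `Tor_1^S(S ⊗ Z, S/Y) = 0` forces `Z` to be free.
-/

set_option autoImplicit false
set_option linter.unusedSectionVars false
set_option linter.unusedVariables false
universe u

open CategoryTheory CategoryTheory.Limits MonoidalCategory TensorProduct IsLocalRing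

namespace Groth.Agent.Lib.Helper11.Kunz

open Groth.Agent.Lib.Helper11.TorSys

section K0

variable {R : Type u} [CommRing R] [IsLocalRing R] [IsNoetherianRing R]
  (S : Type u) [CommRing S] [IsLocalRing S] [Algebra R S] [Module.Flat R S] (Y : Ideal S)

/-- the δ-functor `Tor^S(-, S/Y)` -/
noncomputable abbrev DY : DFun S := DFun.ofModule (ModuleCat.of S (S ⧸ Y))

/-- the comparison of `G_0` with the tensor product, elementwise -/
noncomputable def theta (X : ModuleCat.{u} S) : ((DY S Y).G 0).obj X →ₗ[S] (S ⧸ Y) ⊗[S] X :=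
  ((modelZeroIso (ModuleCat.of S (S ⧸ Y))).app X).hom.hom

theorem theta_injective (X : ModuleCat.{u} S) : Function.Injective (theta S Y X) := by
  intro a b h
  have h2 := congrArg ((modelZeroIso (ModuleCat.of S (S ⧸ Y))).app X).inv.hom h
  have e : ∀ z, ((modelZeroIso (ModuleCat.of S (S ⧸ Y))).app X).inv.hom
      (((modelZeroIso (ModuleCat.of S (S ⧸ Y))).app X).hom.hom z) = z := fun z =>
    congrArg (fun g => g.hom z) ((modelZeroIso (ModuleCat.of S (S ⧸ Y))).app X).hom_inv_id
  exact (e a).symm.trans (h2.trans (e b))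

theorem theta_surjective (X : ModuleCat.{u} S) : Function.Surjective (theta S Y X) := by
  intro z
  refine ⟨((modelZeroIso (ModuleCat.of S (S ⧸ Y))).app X).inv.hom z, ?_⟩
  exact congrArg (fun g => g.hom z) ((modelZeroIso (ModuleCat.of S (S ⧸ Y))).app X).inv_hom_id

theorem theta_naturality {X X' : ModuleCat.{u} S} (ψ : X ⟶ X') (ξ : ((DY S Y).G 0).obj X) :
    theta S Y X' ((((DY S Y).G 0).map ψ).hom ξ) =
      LinearMap.lTensor (S ⧸ Y) ψ.hom (theta S Y X ξ) := by
  have hn := (modelZeroIso (ModuleCat.of S (S ⧸ Y))).hom.naturality ψ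
  exact congrArg (fun g => g.hom ξ) hn

end K0

section Core

variable {R : Type u} [CommRing R] [IsLocalRing R] [IsNoetherianRing R]
  (S : Type u) [CommRing S] [IsLocalRing S] [Algebra R S] [Module.Flat R S] (Y : Ideal S)
  (c : ℕ) (hc : ∀ a ∈ maximalIdeal R, algebraMap R S a ∈ maximalIdeal S ^ c)
  (s : S) (hs1 : ∀ a ∈ maximalIdeal S, a * s ∈ Y) (hs2 : s ∉ Y ⊔ maximalIdeal S ^ c)

theorem coord_mem {b : ℕ} {v : Fin b → R}
    (hv : v ∈ (maximalIdeal R • ⊤ : Submodule R (Fin b → R))) (j : Fin b) :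
    v j ∈ maximalIdeal R := by
  refine Submodule.smul_induction_on hv ?_ ?_
  · intro r hr w _
    rw [Pi.smul_apply, smul_eq_mul]
    exact Ideal.mul_mem_right _ _ hr
  · intro x y hx hy
    rw [Pi.add_apply]
    exact Ideal.add_mem _ hx hy

theorem mem_sup_of_mk_mem (I : Ideal S) (a : S)
    (h : (Ideal.Quotient.mk Y a : S ⧸ Y) ∈ (I • ⊤ : Submodule S (S ⧸ Y))) : a ∈ Y ⊔ I := by
  have e : (I • ⊤ : Submodule S (S ⧸ Y)) = Submodule.map (Submodule.mkQ Y) I := by
    have h1 : (⊤ : Submodule S (S ⧸ Y)) = Submodule.map (Submodule.mkQ Y) ⊤ := by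
      rw [Submodule.map_top, Submodule.range_mkQ]
    rw [h1, ← Submodule.map_smul'']
    congr 1
    exact Ideal.mul_top I
  rw [e] at h
  obtain ⟨a', ha', hq⟩ := h
  have h2 : a' - a ∈ Y := by
    have : (Submodule.Quotient.mk a' : S ⧸ Y) = Submodule.Quotient.mk a := hq
    rwa [Submodule.Quotient.eq] at this
  have h3 : a = a' - (a' - a) := by ring
  rw [h3]
  exact Submodule.sub_mem _ (Submodule.mem_sup_right ha') (Submodule.mem_sup_left h2)

include hc hs1 hs2 in
/-- the core of the Koh–Lee argument: the second syzygy cover has rank zero -/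
theorem rank_eq_zero_of_tor_one {Z : Type u} [AddCommGroup Z] [Module R Z] (b d : ℕ)
    (π : (Fin d → R) →ₗ[R] Z) (hπ : Function.Surjective π)
    (hK : LinearMap.ker π ≤ (maximalIdeal R • ⊤ : Submodule R (Fin d → R)))
    (π' : (Fin b → R) →ₗ[R] LinearMap.ker π) (hπ' : Function.Surjective π')
    (hK' : LinearMap.ker π' ≤ (maximalIdeal R • ⊤ : Submodule R (Fin b → R)))
    (hT : Subsingleton (((DY S Y).G 1).obj (ModuleCat.of S (S ⊗[R] Z)))) : b = 0 := by
  classical
  by_contra hb
  have j : Fin b := ⟨0, Nat.pos_of_ne_zero hb⟩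
  have hc1 : 1 ≤ c := by
    by_contra h0
    have h00 : c = 0 := by omega
    subst h00
    apply hs2
    rw [pow_zero, Ideal.one_eq_top, sup_top_eq]
    trivial
  have hex₁ : Function.Exact (LinearMap.ker π).subtype π := by
    intro v
    constructor
    · intro h
      exact ⟨⟨v, h⟩, rfl⟩
    · rintro ⟨w, rfl⟩
      exact w.2
  have hex₂ : Function.Exact (LinearMap.ker π').subtype π' := by
    intro v
    constructor
    · intro h
      exact ⟨⟨v, h⟩, rfl⟩
    · rintro ⟨w, rfl⟩
      exact w.2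
  have hT₁ := bcSC_shortExact S (LinearMap.ker π).subtype π (Submodule.subtype_injective _) hπ hex₁
  have hT₂ := bcSC_shortExact S (LinearMap.ker π').subtype π' (Submodule.subtype_injective _) hπ'
    hex₂
  let X₁ : ModuleCat.{u} S := ModuleCat.of S (S ⊗[R] ↥(LinearMap.ker π))
  let X₂ : ModuleCat.{u} S := ModuleCat.of S (S ⊗[R] (Fin d → R))
  let X₁' : ModuleCat.{u} S := ModuleCat.of S (S ⊗[R] ↥(LinearMap.ker π'))
  let X₂' : ModuleCat.{u} S := ModuleCat.of S (S ⊗[R] (Fin b → R))
  let f₁ : X₁ ⟶ X₂ := ModuleCat.ofHom ((LinearMap.ker π).subtype.baseChange S)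
  let f₂ : X₁' ⟶ X₂' := ModuleCat.ofHom ((LinearMap.ker π').subtype.baseChange S)
  let g₂ : X₂' ⟶ X₁ := ModuleCat.ofHom (π'.baseChange S)
  -- injectivity of `G_0(f₁)`
  have hinj : Function.Injective (((DY S Y).G 0).map f₁).hom := by
    have hex : Function.Exact _ (((DY S Y).G 0).map f₁).hom := (DY S Y).exact₁ _ hT₁ 0
    rw [injective_iff_map_eq_zero]
    intro a ha
    obtain ⟨z, hz⟩ := (hex a).1 ha
    have hz0 : z = 0 := hT.elim _ _
    rw [← hz, hz0]
    exact map_zero _
  have hex2 : Function.Exact (((DY S Y).G 0).map f₂).hom (((DY S Y).G 0).map g₂).hom :=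
    (DY S Y).exact₂ _ hT₂ 0
  obtain ⟨ξ, hξ⟩ := theta_surjective S Y X₂'
    ((1 : S ⧸ Y) ⊗ₜ[S] ((1 : S) ⊗ₜ[R] (Pi.single j (1 : R) : Fin b → R)))
  -- the socle multiple of `ξ` dies in `G_0(S ⊗ Z')`
  have hb0 : (((DY S Y).G 0).map g₂).hom (s • ξ) = 0 := by
    have h0 : (((DY S Y).G 0).map f₁).hom ((((DY S Y).G 0).map g₂).hom (s • ξ)) = 0 := by
      apply theta_injective S Y
      rw [theta_naturality, theta_naturality]
      have e1 : theta S Y X₂' (s • ξ) = s • theta S Y X₂' ξ := (theta S Y X₂').map_smul s ξ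
      rw [e1]
      have hcomp : ∀ z : (S ⧸ Y) ⊗[S] (S ⊗[R] (Fin b → R)),
          LinearMap.lTensor (S ⧸ Y) f₁.hom (LinearMap.lTensor (S ⧸ Y) g₂.hom z) =
            LinearMap.lTensor (S ⧸ Y) (((LinearMap.ker π).subtype ∘ₗ π').baseChange S) z := by
        intro z
        rw [LinearMap.baseChange_comp, LinearMap.lTensor_comp]
        rfl
      have e3 := smul_lTensor_eq_zero S Y c hc s hs1 hc1 ((LinearMap.ker π).subtype ∘ₗ π')
        (fun w => hK (π' w).2) (theta S Y X₂' ξ)
      rw [map_zero, hcomp, LinearMap.map_smul]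
      exact e3
    exact hinj (h0.trans (map_zero _).symm)
  obtain ⟨ζ, hζ⟩ := (hex2 (s • ξ)).1 hb0
  -- contract
  have h1 : kap S Y (LinearMap.proj j) (theta S Y X₂' (s • ξ)) = Ideal.Quotient.mk Y s := by
    have e1 : theta S Y X₂' (s • ξ) = s • theta S Y X₂' ξ := (theta S Y X₂').map_smul s ξ
    rw [e1, hξ, LinearMap.map_smul, kap_tmul, epsL_tmul]
    simp only [LinearMap.proj_apply, Pi.single_eq_same, map_one, mul_one, one_smul]
    show s • (Ideal.Quotient.mk Y 1) = _
    rw [← Ideal.Quotient.mk_eq_mk, ← Submodule.Quotient.mk_smul, smul_eq_mul, mul_one]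
    rfl
  have h2 : kap S Y (LinearMap.proj j) (theta S Y X₂' (s • ξ)) ∈
      (maximalIdeal S ^ c • ⊤ : Submodule S (S ⧸ Y)) := by
    rw [← hζ, theta_naturality]
    have : f₂.hom = (LinearMap.ker π').subtype.baseChange S := rfl
    rw [this, kap_comp]
    exact kap_mem S Y c hc _ (fun w => coord_mem (hK' w.2) j) _
  rw [h1] at h2
  exact hs2 (mem_sup_of_mk_mem S Y _ s h2)

end Core

end Groth.Agent.Lib.Helper11.Kunz
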