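import Mathlib
import Groth.Agent.Lib.Helper11.TorSysK

/-!
# δ-functors along a regular element: concentration in one degree
-/

set_option autoImplicit false
set_option linter.unusedSectionVars false
set_option linter.unusedVariables false
universe u

open CategoryTheory CategoryTheory.Limits
open scoped Pointwise

namespace Groth.Agent.Lib.Helper11.TorHull

open Groth.Agent.Lib.Helper11.TorSys

variable {A : Type u} [CommRing A]

/-- the sequence `0 → X --x--> X → X/xX → 0` -/
noncomputable def smulSC (x : A) (X : ModuleCat.{u} A) : ShortComplex (ModuleCat.{u} A) :=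
  ShortComplex.mk (x • 𝟙 X)
    (ModuleCat.ofHom (Submodule.mkQ (x • (⊤ : Submodule A X)) : X →ₗ[A] QuotSMulTop x X)) (by
      refine ModuleCat.hom_ext (LinearMap.ext fun m => ?_)
      change Submodule.Quotient.mk (x • m) = 0
      rw [Submodule.Quotient.mk_eq_zero]
      exact Submodule.smul_mem_pointwise_smul m x ⊤ Submodule.mem_top)

theorem smulSC_f_apply (x : A) (X : ModuleCat.{u} A) (m : X) :
    (smulSC x X).f.hom m = x • m := rfl

theorem smulSC_shortExact (x : A) (X : ModuleCat.{u} A) (hreg : IsSMulRegular X x) :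
    (smulSC x X).ShortExact where
  exact := by
    rw [ShortComplex.moduleCat_exact_iff_ker_sub_range]
    intro m hm
    have hm' : (Submodule.Quotient.mk m : QuotSMulTop x X) = 0 := hm
    rw [Submodule.Quotient.mk_eq_zero, Submodule.mem_smul_pointwise_iff_exists] at hm'
    obtain ⟨b, _, hb⟩ := hm'
    exact ⟨b, hb⟩
  mono_f := (ModuleCat.mono_iff_injective _).2 hreg
  epi_g := (ModuleCat.epi_iff_surjective _).2 (Submodule.mkQ_surjective _)

/-- the δ-functor is concentrated in degree `j` on `X` -/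
def Conc (D : DFun A) (X : ModuleCat.{u} A) (j : ℕ) : Prop :=
  ∀ i, i ≠ j → Subsingleton ((D.G i).obj X)

theorem G_map_smulSC_f (D : DFun A) (x : A) (X : ModuleCat.{u} A) (i : ℕ)
    (ξ : (D.G i).obj X) : ((D.G i).map (smulSC x X).f).hom ξ = x • ξ :=
  D.smul i X x ξ

theorem conc_quot (D : DFun A) (hR0 : D.R0) (x : A) (X : ModuleCat.{u} A)
    (hreg : IsSMulRegular X x) (j : ℕ) (hc : Conc D X j)
    (hs : ∀ ξ : (D.G j).obj X, ∃ η : (D.G j).obj X, x • η = ξ) :
    Conc D (ModuleCat.of A (QuotSMulTop x X)) (j + 1) := by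
  have hT := smulSC_shortExact x X hreg
  intro i hi
  -- surjectivity of `G_j(X) → G_j(X/xX)` kills everything
  have key : ∀ (k : ℕ), (∀ ζ : (D.G k).obj (smulSC x X).X₃,
      ∃ ξ : (D.G k).obj (smulSC x X).X₂, ((D.G k).map (smulSC x X).g).hom ξ = ζ) →
      Subsingleton ((D.G k).obj (smulSC x X).X₃) := by
    intro k hsurj
    by_cases hk : k = j
    · subst hk
      refine ⟨fun ζ ζ' => ?_⟩
      have h0 : ∀ ζ : (D.G k).obj (smulSC x X).X₃, ζ = 0 := by
        intro ζ
        obtain ⟨ξ, rfl⟩ := hsurj ζ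
        obtain ⟨η, rfl⟩ := hs ξ
        have h1 := (D.exact₂ (smulSC x X) hT k (((D.G k).map (smulSC x X).f).hom η)).2 ⟨η, rfl⟩
        rw [G_map_smulSC_f] at h1
        exact h1
      rw [h0 ζ, h0 ζ']
    · have : Subsingleton ((D.G k).obj (smulSC x X).X₂) := hc k hk
      refine ⟨fun ζ ζ' => ?_⟩
      obtain ⟨ξ, rfl⟩ := hsurj ζ
      obtain ⟨ξ', rfl⟩ := hsurj ζ'
      rw [Subsingleton.elim ξ ξ']
  cases i with
  | zero =>
    exact key 0 (hR0 (smulSC x X).g (Submodule.mkQ_surjective _))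
  | succ k =>
    have hkj : k ≠ j := fun h => hi (by rw [h])
    have : Subsingleton ((D.G k).obj (smulSC x X).X₁) := hc k hkj
    refine key (k + 1) (fun ζ => ?_)
    have h1 : (D.δ (smulSC x X) hT k).hom ζ = 0 := Subsingleton.elim _ _
    exact (D.exact₃ (smulSC x X) hT k ζ).1 h1

/-- the connecting map identifies `G_{j+1}(X/xX)` with the `x`-torsion of `G_j(X)` -/
noncomputable def stepEquiv (D : DFun A) (x : A) (X : ModuleCat.{u} A)
    (hreg : IsSMulRegular X x) (j : ℕ) (hc : Conc D X j) :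
    (D.G (j + 1)).obj (ModuleCat.of A (QuotSMulTop x X)) ≃ₗ[A]
      Submodule.torsionBy A ((D.G j).obj X) x := by
  have hT := smulSC_shortExact x X hreg
  refine LinearEquiv.ofBijective
    ((D.δ (smulSC x X) hT j).hom.codRestrict (Submodule.torsionBy A ((D.G j).obj X) x) ?_) ⟨?_, ?_⟩
  · intro ζ
    rw [Submodule.mem_torsionBy_iff]
    have h1 := (D.exact₁ (smulSC x X) hT j ((D.δ (smulSC x X) hT j).hom ζ)).2 ⟨ζ, rfl⟩
    rw [G_map_smulSC_f] at h1
    exact h1
  · rw [← LinearMap.ker_eq_bot, LinearMap.ker_eq_bot']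
    intro ζ hζ
    have h1 : (D.δ (smulSC x X) hT j).hom ζ = 0 := congrArg Subtype.val hζ
    obtain ⟨ξ, rfl⟩ := (D.exact₃ (smulSC x X) hT j ζ).1 h1
    have : Subsingleton ((D.G (j + 1)).obj (smulSC x X).X₂) := hc (j + 1) (by omega)
    rw [Subsingleton.elim ξ 0, map_zero]
  · rintro ⟨η, hη⟩
    rw [Submodule.mem_torsionBy_iff] at hη
    have h1 : ((D.G j).map (smulSC x X).f).hom η = 0 := by
      rw [G_map_smulSC_f]; exact hη
    obtain ⟨ζ, hζ⟩ := (D.exact₁ (smulSC x X) hT j η).1 h1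
    exact ⟨ζ, Subtype.ext hζ⟩

end Groth.Agent.Lib.Helper11.TorHull
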