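import Mathlib
import Groth.Agent.Lib.Helper11.KunzB
import Groth.Agent.Lib.Helper11.TorHullA

/-!
# Kunz' theorem, part C: freeness and projective dimension from `Tor` vanishing
-/

set_option autoImplicit false
set_option linter.unusedSectionVars false
set_option linter.unusedVariables false
universe u

open CategoryTheory CategoryTheory.Limits MonoidalCategory TensorProduct IsLocalRing

namespace Groth.Agent.Lib.Helper11.Kunz

open Groth.Agent.Lib.Helper11.TorSys Groth.Agent.Lib.Helper11.TorHull

section VA

variable {A : Type u} [CommRing A]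

/-- vanishing above degree `j` passes to `X/xX` with a shift by one -/
theorem va_quot (D : DFun A) (x : A) (X : ModuleCat.{u} A) (hreg : IsSMulRegular X x) (j : ℕ)
    (h : ∀ i, j < i → Subsingleton ((D.G i).obj X)) :
    ∀ i, j + 1 < i → Subsingleton ((D.G i).obj (ModuleCat.of A (QuotSMulTop x X))) := by
  intro i hi
  obtain ⟨i', rfl⟩ : ∃ i', i = i' + 1 := ⟨i - 1, by omega⟩
  have hT := smulSC_shortExact x X hreg
  have hex := D.exact₃ (smulSC x X) hT i'
  have h1 : Subsingleton ((D.G i').obj X) := h i' (by omega)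
  have h2 : Subsingleton ((D.G (i' + 1)).obj X) := h (i' + 1) (by omega)
  refine ⟨fun a b => ?_⟩
  have key : ∀ a : (D.G (i' + 1)).obj (ModuleCat.of A (QuotSMulTop x X)), a = 0 := by
    intro a
    have ha : (D.δ (smulSC x X) hT i').hom a = 0 := h1.elim _ _
    obtain ⟨z, hz⟩ := (hex a).1 ha
    have hz0 : z = 0 := h2.elim _ _
    rw [← hz, hz0]
    exact map_zero _
  rw [key a, key b]

open RingTheory.Sequence in
theorem va_quot_list (D : DFun A) (rs : List A) :
    ∀ (X : Type u) [AddCommGroup X] [Module A X] (j : ℕ), IsWeaklyRegular X rs →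
      (∀ i, j < i → Subsingleton ((D.G i).obj (ModuleCat.of A X))) →
      ∀ i, j + rs.length < i →
        Subsingleton ((D.G i).obj (ModuleCat.of A (X ⧸ (Ideal.ofList rs • ⊤ : Submodule A X)))) := by
  induction rs with
  | nil =>
    intro X _ _ j _ h i hi
    have hbot : (Ideal.ofList ([] : List A) • ⊤ : Submodule A X) = ⊥ := by
      rw [Ideal.ofList_nil, Submodule.bot_smul]
    have := h i (by simpa using hi)
    exact (((D.G i).mapIso
      (Submodule.quotEquivOfEqBot _ hbot).symm.toModuleIso).toLinearEquiv.toEquiv.subsingleton_congr).1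
      this
  | cons r rs ih =>
    intro X _ _ j hreg h i hi
    rw [isWeaklyRegular_cons_iff] at hreg
    have h1 := va_quot D r (ModuleCat.of A X) hreg.1 j h
    have h2 := ih (QuotSMulTop r X) (j + 1) hreg.2 h1 i (by
      rw [List.length_cons] at hi; omega)
    exact (((D.G i).mapIso
      (Submodule.quotOfListConsSMulTopEquivQuotSMulTopInner X r rs).symm.toModuleIso).toLinearEquiv.toEquiv.subsingleton_congr).1
      h2

/-- the model `Tor` is symmetric -/
noncomputable def modelSymm (M X : ModuleCat.{u} A) (i : ℕ) :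
    ((DFun.ofModule M).G i).obj X ≅ ((DFun.ofModule X).G i).obj M :=
  (torIsoModelApp' M i X).symm ≪≫ torIsoModelApp X i M

open RingTheory.Sequence in
/-- `Tor_i(X, A/(rs)) = 0` for `i > length rs` when `rs` is a regular sequence. -/
theorem subsingleton_G_quot_regular (rs : List A) (hreg : IsWeaklyRegular A rs)
    (X : ModuleCat.{u} A) (i : ℕ) (hi : rs.length < i) :
    Subsingleton (((DFun.ofModule (ModuleCat.of A (A ⧸ Ideal.ofList rs))).G i).obj X) := by
  have h0 : ∀ i, 0 < i → Subsingleton (((DFun.ofModule X).G i).obj (ModuleCat.of A A)) := by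
    intro i hi
    obtain ⟨i', rfl⟩ : ∃ i', i = i' + 1 := ⟨i - 1, by omega⟩
    exact ModuleCat.subsingleton_of_isZero ((DFun.ofModule X).isZero_ring i')
  have h1 := va_quot_list (DFun.ofModule X) rs A 0 hreg h0 i (by omega)
  have e : (Ideal.ofList rs • ⊤ : Submodule A A) = Ideal.ofList rs := by
    rw [smul_eq_mul, Ideal.mul_top]
  have h2 : Subsingleton (((DFun.ofModule X).G i).obj (ModuleCat.of A (A ⧸ Ideal.ofList rs))) :=
    (((DFun.ofModule X).G i).mapIso
      (Submodule.quotEquivOfEq _ _ e).toModuleIso).toLinearEquiv.toEquiv.subsingleton_congr.1 h1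
  exact ((modelSymm (ModuleCat.of A (A ⧸ Ideal.ofList rs)) X
    i).toLinearEquiv.toEquiv.subsingleton_congr).2 h2

end VA

end Groth.Agent.Lib.Helper11.Kunz
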