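import Mathlib
import Groth.Agent.Lib.Helper11.KunzC

/-!
# Kunz' theorem, part D: projective dimension from `Tor` vanishing along a flat map
-/

set_option autoImplicit false
set_option linter.unusedSectionVars false
set_option linter.unusedVariables false
universe u

open CategoryTheory CategoryTheory.Limits MonoidalCategory TensorProduct IsLocalRing

namespace Groth.Agent.Lib.Helper11.Kunz

open Groth.Agent.Lib.Helper11.TorSys Groth.Agent.Lib.Helper18.SerreReg

section Proj

variable {R : Type u} [CommRing R] [IsLocalRing R] [IsNoetherianRing R]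
  (S : Type u) [CommRing S] [IsLocalRing S] [Algebra R S] [Module.Flat R S] (Y : Ideal S)
  (c : ℕ) (hc : ∀ a ∈ maximalIdeal R, algebraMap R S a ∈ maximalIdeal S ^ c)
  (s : S) (hs1 : ∀ a ∈ maximalIdeal S, a * s ∈ Y) (hs2 : s ∉ Y ⊔ maximalIdeal S ^ c)

include hc hs1 hs2 in
theorem projective_of_tor_one (Z : Type u) [AddCommGroup Z] [Module R Z] [Module.Finite R Z]
    (hT : Subsingleton (((DY S Y).G 1).obj (ModuleCat.of S (S ⊗[R] Z)))) :
    Projective (ModuleCat.of R Z) := by
  obtain ⟨d, π, hπ, hK⟩ := exists_minimal_cover R Z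
  obtain ⟨b, π', hπ', hK'⟩ := exists_minimal_cover R (LinearMap.ker π)
  have hb := rank_eq_zero_of_tor_one S Y c hc s hs1 hs2 b d π hπ hK π' hπ' hK' hT
  subst hb
  have hker : LinearMap.ker π = ⊥ := by
    rw [eq_bot_iff]
    intro v hv
    obtain ⟨w, hw⟩ := hπ' ⟨v, hv⟩
    have hw0 : w = 0 := Subsingleton.elim _ _
    rw [hw0, map_zero] at hw
    have : v = 0 := congrArg Subtype.val hw.symm
    rw [this]
    exact Submodule.zero_mem _
  have e : (Fin d → R) ≃ₗ[R] Z := LinearEquiv.ofBijective π ⟨LinearMap.ker_eq_bot.1 hker, hπ⟩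
  have : Module.Free R Z := Module.Free.of_equiv e
  exact (IsProjective.iff_projective (R := R) Z).1 inferInstance

theorem subsingleton_G_of_flat (X : ModuleCat.{u} S) [Module.Flat S X] (i : ℕ) :
    Subsingleton (((DY S Y).G (i + 1)).obj X) :=
  ModuleCat.subsingleton_of_isZero
    (GQ_isZero_flat (projectiveResolution (ModuleCat.of S (S ⧸ Y))).complex
      (fun n => (projectiveResolution (ModuleCat.of S (S ⧸ Y))).complex_exactAt_succ n) X i)

include hc hs1 hs2 in
theorem pd_of_tor (j : ℕ) : ∀ (Z : Type u) [AddCommGroup Z] [Module R Z] [Module.Finite R Z],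
    Subsingleton (((DY S Y).G (j + 1)).obj (ModuleCat.of S (S ⊗[R] Z))) →
    HasProjectiveDimensionLT (ModuleCat.of R Z) (j + 1) := by
  induction j with
  | zero =>
    intro Z _ _ _ hT
    have := projective_of_tor_one S Y c hc s hs1 hs2 Z hT
    exact projective_iff_hasProjectiveDimensionLT_one.1 this
  | succ j ih =>
    intro Z _ _ _ hT
    obtain ⟨d, π, hπ, hK⟩ := exists_minimal_cover R Z
    have hex₁ : Function.Exact (LinearMap.ker π).subtype π := by
      intro v
      constructor
      · intro h
        exact ⟨⟨v, h⟩, rfl⟩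
      · rintro ⟨w, rfl⟩
        exact w.2
    have hT₁ := bcSC_shortExact S (LinearMap.ker π).subtype π (Submodule.subtype_injective _) hπ
      hex₁
    have hflat : Subsingleton (((DY S Y).G (j + 1)).obj
        (ModuleCat.of S (S ⊗[R] (Fin d → R)))) := by
      haveI : Module.Flat S (ModuleCat.of S (S ⊗[R] (Fin d → R))) :=
        inferInstanceAs (Module.Flat S (S ⊗[R] (Fin d → R)))
      exact subsingleton_G_of_flat S Y _ j
    have hK1 : Subsingleton (((DY S Y).G (j + 1)).obj
        (ModuleCat.of S (S ⊗[R] ↥(LinearMap.ker π)))) := by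
      have hex := (DY S Y).exact₁ _ hT₁ (j + 1)
      refine ⟨fun a b => ?_⟩
      have key : ∀ a : ((DY S Y).G (j + 1)).obj (ModuleCat.of S (S ⊗[R] ↥(LinearMap.ker π))),
          a = 0 := by
        intro a
        obtain ⟨z, hz⟩ := (hex a).1 (hflat.elim _ _)
        have hz0 : z = 0 := hT.elim _ _
        rw [← hz, hz0]
        exact map_zero _
      rw [key a, key b]
    have h1 := ih (LinearMap.ker π) hK1
    let T : ShortComplex (ModuleCat.{u} R) :=
      ShortComplex.mk (ModuleCat.ofHom (LinearMap.ker π).subtype) (ModuleCat.ofHom π) (by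
        refine ModuleCat.hom_ext (LinearMap.ext fun v => ?_)
        exact v.2)
    have hTse : T.ShortExact :=
      { exact := by
          rw [ShortComplex.ShortExact.moduleCat_exact_iff_function_exact]
          exact hex₁
        mono_f := (ModuleCat.mono_iff_injective _).2 (Submodule.subtype_injective _)
        epi_g := (ModuleCat.epi_iff_surjective _).2 hπ }
    have hproj : Projective (ModuleCat.of R (Fin d → R)) :=
      (IsProjective.iff_projective (R := R) (Fin d → R)).1 inferInstance
    have h2 : HasProjectiveDimensionLT T.X₂ (j + 1 + 1) := by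
      have : HasProjectiveDimensionLT (ModuleCat.of R (Fin d → R)) 1 :=
        projective_iff_hasProjectiveDimensionLT_one.1 hproj
      exact hasProjectiveDimensionLT_of_ge _ 1 (j + 1 + 1) (by omega)
    exact hTse.hasProjectiveDimensionLT_X₃ (j + 1) h1 h2

end Proj

end Groth.Agent.Lib.Helper11.Kunz
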