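import Mathlib
import Groth.Agent.Lib.Helper11.KunzD
import Groth.Agent.Lib.Helper11.HK1

/-!
# Kunz' theorem, part E: maximal regular sequences, socle elements, and the abstract criterion
-/

set_option autoImplicit false
set_option linter.unusedSectionVars false
set_option linter.unusedVariables false
universe u

open CategoryTheory IsLocalRing RingTheory.Sequence

namespace Groth.Agent.Lib.Helper11.Kunz

section MaxReg

variable (S : Type u) [CommRing S] [IsLocalRing S] [IsNoetherianRing S]

/-- a maximal regular sequence together with a socle element of the quotient -/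
theorem exists_maximal_regular :
    ∃ (ys : List S), IsWeaklyRegular S ys ∧
      ∃ s : S, s ∉ Ideal.ofList ys ∧ ∀ a ∈ maximalIdeal S, a * s ∈ Ideal.ofList ys := by
  classical
  let 𝒮 : Set (Ideal S) := {I | ∃ ys : List S, (∀ y ∈ ys, y ∈ maximalIdeal S) ∧
    IsWeaklyRegular S ys ∧ I = Ideal.ofList ys}
  have hne : 𝒮.Nonempty := ⟨⊥, [], by simp, IsWeaklyRegular.nil S S, by simp⟩
  obtain ⟨I₀, ⟨ys, hmem, hreg, rfl⟩, hmax⟩ :=
    (set_has_maximal_iff_noetherian (R := S) (M := S)).2 inferInstance 𝒮 hne
  refine ⟨ys, hreg, ?_⟩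
  have hle : Ideal.ofList ys ≤ maximalIdeal S := by
    rw [Ideal.ofList, Ideal.span_le]
    intro y hy
    exact hmem y hy
  -- the quotient module
  let Q := S ⧸ (Ideal.ofList ys • ⊤ : Submodule S S)
  have hsm : (Ideal.ofList ys • ⊤ : Submodule S S) = Ideal.ofList ys := by
    rw [smul_eq_mul, Ideal.mul_top]
  have hQnt : Nontrivial Q := by
    rw [Submodule.Quotient.nontrivial_iff, hsm]
    intro h
    have : (1 : S) ∈ maximalIdeal S := hle (h ▸ Submodule.mem_top)
    exact (Ideal.ne_top_iff_one _).1 (maximalIdeal.isMaximal S).ne_top this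
  -- every element of the maximal ideal is a zero divisor on `Q`
  have hzd : ∀ a ∈ maximalIdeal S, ¬ IsSMulRegular Q a := by
    intro a ha hareg
    have hnot : a ∉ Ideal.ofList ys := by
      intro hin
      have h0 : ∀ q : Q, a • q = 0 := by
        intro q
        obtain ⟨q, rfl⟩ := Submodule.Quotient.mk_surjective _ q
        rw [← Submodule.Quotient.mk_smul, Submodule.Quotient.mk_eq_zero, hsm, smul_eq_mul]
        exact Ideal.mul_mem_right _ _ hin
      obtain ⟨q, hq⟩ := exists_ne (0 : Q)
      exact hq (hareg (show a • q = a • (0 : Q) by rw [h0 q, smul_zero]))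
    have hreg' : IsWeaklyRegular S (ys ++ [a]) := by
      rw [isWeaklyRegular_append_iff]
      exact ⟨hreg, (isWeaklyRegular_singleton_iff _ a).2 hareg⟩
    have hin : Ideal.ofList (ys ++ [a]) ∈ 𝒮 := ⟨ys ++ [a], by
      intro y hy
      rcases List.mem_append.1 hy with h | h
      · exact hmem y h
      · rw [List.mem_singleton] at h
        rw [h]; exact ha, hreg', rfl⟩
    apply hmax _ hin
    rw [Ideal.ofList_append, Ideal.ofList_singleton]
    refine lt_of_le_of_ne le_sup_left (fun h => hnot ?_)
    rw [h]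
    exact Ideal.mem_sup_right (Ideal.mem_span_singleton_self a)
  -- prime avoidance
  have hsub : ((maximalIdeal S : Ideal S) : Set S) ⊆ ⋃ p ∈ associatedPrimes S Q, (p : Set S) := by
    rw [biUnion_associatedPrimes_eq_compl_regular S Q]
    intro a ha
    exact hzd a ha
  have hfin : (associatedPrimes S Q).Finite := associatedPrimes.finite S Q
  have hsub' : ((maximalIdeal S : Ideal S) : Set S) ⊆
      ⋃ p ∈ ((hfin.toFinset : Finset (Ideal S)) : Set (Ideal S)), ((id p : Ideal S) : Set S) := by
    intro a ha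
    have := hsub ha
    simp only [Set.mem_iUnion, Set.Finite.coe_toFinset, id] at this ⊢
    exact this
  obtain ⟨P, hP, hPle⟩ := (Ideal.subset_union_prime (f := id) (s := hfin.toFinset) ⊥ ⊥
    (fun p hp _ _ => ((hfin.mem_toFinset).1 hp).1)).1 hsub'
  have hPass : IsAssociatedPrime P Q := (hfin.mem_toFinset).1 hP
  have hPeq : P = maximalIdeal S :=
    ((maximalIdeal.isMaximal S).eq_of_le hPass.1.ne_top hPle).symm
  obtain ⟨-, q, hq⟩ := (Submodule.isAssociatedPrime_iff).1 hPass
  obtain ⟨s, rfl⟩ := Submodule.Quotient.mk_surjective _ q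
  refine ⟨s, ?_, ?_⟩
  · intro hs
    have h1 : (1 : S) ∈ P := by
      rw [hq, Submodule.mem_colon_singleton, one_smul, Submodule.mem_bot,
        Submodule.Quotient.mk_eq_zero, hsm]
      exact hs
    exact hPass.1.ne_top ((Ideal.eq_top_iff_one _).2 h1)
  · intro a ha
    have h1 : a ∈ P := hPeq ▸ ha
    rw [hq, Submodule.mem_colon_singleton, Submodule.mem_bot, ← Submodule.Quotient.mk_smul,
      Submodule.Quotient.mk_eq_zero, hsm] at h1
    exact h1

/-- Krull's intersection theorem: an element outside `Y` is outside `Y + n^c` for large `c`. -/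
theorem exists_pow_notMem (Y : Ideal S) (hY : Y ≠ ⊤) (s : S) (hs : s ∉ Y) :
    ∃ c : ℕ, s ∉ Y ⊔ maximalIdeal S ^ c := by
  by_contra hcon
  push Not at hcon
  have hinf := Ideal.iInf_pow_smul_eq_bot_of_isLocalRing (R := S) (M := S ⧸ Y)
    (maximalIdeal S) (maximalIdeal.isMaximal S).ne_top
  have hmem : (Ideal.Quotient.mk Y s : S ⧸ Y) ∈
      (⨅ i : ℕ, maximalIdeal S ^ i • ⊤ : Submodule S (S ⧸ Y)) := by
    rw [Submodule.mem_iInf]
    intro c
    obtain ⟨y, hy, a, ha, hya⟩ := Submodule.mem_sup.1 (hcon c)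
    have : (Ideal.Quotient.mk Y s : S ⧸ Y) = a • (Ideal.Quotient.mk Y 1 : S ⧸ Y) := by
      rw [← hya, map_add, Ideal.Quotient.eq_zero_iff_mem.2 hy, zero_add]
      show _ = Ideal.Quotient.mk Y (a • 1)
      rw [smul_eq_mul, mul_one]
    rw [this]
    exact Submodule.smul_mem_smul ha Submodule.mem_top
  rw [hinf, Submodule.mem_bot, Ideal.Quotient.eq_zero_iff_mem] at hmem
  exact hs hmem

end MaxReg

section Abstract

open TensorProduct

/-- **Koh–Lee criterion**: a flat local homomorphism `R → S` mapping `m_R` deep into the maximal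
ideal of `S` forces `R` to be regular. -/
theorem isRegularLocalRing_of_flat {R : Type u} [CommRing R] [IsLocalRing R] [IsNoetherianRing R]
    (S : Type u) [CommRing S] [IsLocalRing S] [Algebra R S] [Module.Flat R S]
    (ys : List S) (hreg : IsWeaklyRegular S ys) (c : ℕ)
    (hc : ∀ a ∈ maximalIdeal R, algebraMap R S a ∈ maximalIdeal S ^ c)
    (s : S) (hs1 : ∀ a ∈ maximalIdeal S, a * s ∈ Ideal.ofList ys)
    (hs2 : s ∉ Ideal.ofList ys ⊔ maximalIdeal S ^ c) : IsRegularLocalRing R := by
  have hT := subsingleton_G_quot_regular ys hreg (ModuleCat.of S (S ⊗[R] ResidueField R))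
    (ys.length + 1) (by omega)
  have hpd := pd_of_tor S (Ideal.ofList ys) c hc s hs1 hs2 ys.length (ResidueField R) hT
  exact Groth.Agent.Lib.Helper18.SerreReg.isRegularLocalRing_of_hasProjectiveDimensionLT R
    (ys.length + 1) hpd

end Abstract

section Frobenius

open Groth.Agent.Lib.Helper11.HK

variable (R : Type u) [CommRing R] (p : ℕ) [Fact p.Prime] [CharP R p]

theorem iterateFrobenius_flat (h : (frobenius R p).Flat) (e : ℕ) :
    (iterateFrobenius R p e).Flat := by
  induction e with
  | zero =>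
    rw [iterateFrobenius_zero]
    exact RingHom.Flat.id R
  | succ e ih =>
    rw [iterateFrobenius_add, iterateFrobenius_one]
    exact RingHom.Flat.comp h ih

instance [IsLocalRing R] (e : ℕ) : IsLocalRing (FR R p e) := inferInstanceAs (IsLocalRing R)

instance [IsNoetherianRing R] (e : ℕ) : IsNoetherianRing (FR R p e) :=
  inferInstanceAs (IsNoetherianRing R)

theorem flat_FR (h : (frobenius R p).Flat) (e : ℕ) : Module.Flat R (FR R p e) :=
  iterateFrobenius_flat R p h e

/-- **Kunz' theorem**, the hard direction for local rings. -/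
theorem isRegularLocalRing_of_frobenius_flat [IsLocalRing R] [IsNoetherianRing R]
    (h : (frobenius R p).Flat) : IsRegularLocalRing R := by
  obtain ⟨ys, hreg, s, hs, hsoc⟩ := exists_maximal_regular R
  have hY : Ideal.ofList ys ≠ ⊤ := fun htop => hs (htop ▸ Submodule.mem_top)
  obtain ⟨c, hc⟩ := exists_pow_notMem R (Ideal.ofList ys) hY s hs
  haveI := flat_FR R p h c
  refine @isRegularLocalRing_of_flat R _ _ _ (FR R p c) inferInstance inferInstance inferInstance
    inferInstance ys hreg c ?_ s hsoc hc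
  intro a ha
  show a ^ p ^ c ∈ maximalIdeal R ^ c
  have h1 : a ^ p ^ c ∈ maximalIdeal R ^ (p ^ c) := Ideal.pow_mem_pow ha _
  have h2 : c ≤ p ^ c := (Nat.lt_pow_self (Fact.out : p.Prime).one_lt).le
  exact Ideal.pow_le_pow_right h2 h1

end Frobenius

end Groth.Agent.Lib.Helper11.Kunz
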