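import Mathlib
import Groth.Agent.Lib.Helper11.TorHullA

/-!
# Tracking `G_j(X) ≃ Hom(X, E)` along a regular sequence, `E` injective
-/

set_option autoImplicit false
set_option linter.unusedSectionVars false
set_option linter.unusedVariables false
universe u

open CategoryTheory CategoryTheory.Limits
open scoped Pointwise

namespace Groth.Agent.Lib.Helper11.TorHull

open Groth.Agent.Lib.Helper11.TorSys

variable {A : Type u} [CommRing A]

/-- torsion submodules correspond under a linear equivalence -/
noncomputable def torsionByEquiv {M N : Type*} [AddCommGroup M] [Module A M] [AddCommGroup N]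
    [Module A N] (e : M ≃ₗ[A] N) (x : A) :
    Submodule.torsionBy A M x ≃ₗ[A] Submodule.torsionBy A N x :=
  LinearEquiv.ofSubmodules e _ _ (by
    ext n
    rw [Submodule.mem_map, Submodule.mem_torsionBy_iff]
    constructor
    · rintro ⟨m, hm, rfl⟩
      rw [Submodule.mem_torsionBy_iff] at hm
      rw [← map_smul, hm, map_zero]
    · intro hn
      refine ⟨e.symm n, ?_, e.apply_symm_apply n⟩
      rw [Submodule.mem_torsionBy_iff, ← map_smul, hn, map_zero])

/-- `Hom(X/xX, E)` is the `x`-torsion of `Hom(X, E)` -/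
noncomputable def homQuotEquiv (x : A) (X E : Type*) [AddCommGroup X] [Module A X]
    [AddCommGroup E] [Module A E] :
    (QuotSMulTop x X →ₗ[A] E) ≃ₗ[A] Submodule.torsionBy A (X →ₗ[A] E) x := by
  refine LinearEquiv.ofBijective
    ((LinearMap.lcomp A E (Submodule.mkQ (x • (⊤ : Submodule A X)))).codRestrict _ ?_) ⟨?_, ?_⟩
  · intro ψ
    rw [Submodule.mem_torsionBy_iff]
    refine LinearMap.ext fun m => ?_
    change x • ψ (Submodule.Quotient.mk m) = 0
    rw [← map_smul, ← Submodule.Quotient.mk_smul, (Submodule.Quotient.mk_eq_zero _).2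
      (Submodule.smul_mem_pointwise_smul m x ⊤ Submodule.mem_top), map_zero]
  · intro ψ ψ' h
    have h1 : ψ.comp (Submodule.mkQ (x • (⊤ : Submodule A X))) =
        ψ'.comp (Submodule.mkQ (x • (⊤ : Submodule A X))) := congrArg Subtype.val h
    refine LinearMap.ext fun q => ?_
    obtain ⟨m, rfl⟩ := Submodule.mkQ_surjective _ q
    exact LinearMap.congr_fun h1 m
  · rintro ⟨φ, hφ⟩
    rw [Submodule.mem_torsionBy_iff] at hφ
    have hle : x • (⊤ : Submodule A X) ≤ LinearMap.ker φ := by
      intro m hm
      rw [Submodule.mem_smul_pointwise_iff_exists] at hm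
      obtain ⟨b, _, rfl⟩ := hm
      rw [LinearMap.mem_ker, map_smul]
      exact LinearMap.congr_fun hφ b
    exact ⟨Submodule.liftQ _ φ hle, Subtype.ext (LinearMap.ext fun m => rfl)⟩

variable (D : DFun A) (E : Type u) [AddCommGroup E] [Module A E]

/-- concentration in degree `j` with value `Hom(X, E)` -/
structure State (X : ModuleCat.{u} A) (j : ℕ) : Prop where
  conc : Conc D X j
  equiv : Nonempty ((D.G j).obj X ≃ₗ[A] (X →ₗ[A] E))

variable {D E}

theorem State.of_iso {X Y : ModuleCat.{u} A} (e : X ≅ Y) {j : ℕ} (h : State D E X j) :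
    State D E Y j where
  conc := by
    intro i hi
    have := h.conc i hi
    exact (((D.G i).mapIso e).toLinearEquiv.toEquiv.subsingleton_congr).1 this
  equiv := by
    obtain ⟨φ⟩ := h.equiv
    exact ⟨(((D.G j).mapIso e).toLinearEquiv.symm.trans φ).trans
      (LinearEquiv.arrowCongr e.toLinearEquiv (LinearEquiv.refl A E))⟩

theorem State.step [Module.Injective A E] (hR0 : D.R0) (x : A) (X : Type u) [AddCommGroup X]
    [Module A X] (hreg : IsSMulRegular X x) {j : ℕ} (h : State D E (ModuleCat.of A X) j) :
    State D E (ModuleCat.of A (QuotSMulTop x X)) (j + 1) := by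
  obtain ⟨φ⟩ := h.equiv
  have hs : ∀ ξ : (D.G j).obj (ModuleCat.of A X), ∃ η : (D.G j).obj (ModuleCat.of A X),
      x • η = ξ := by
    intro ξ
    have hinj : Function.Injective (x • LinearMap.id : X →ₗ[A] X) := fun a b hab => hreg hab
    obtain ⟨ψ, hψ⟩ := Module.Injective.out (x • LinearMap.id : X →ₗ[A] X) hinj (φ ξ)
    refine ⟨φ.symm ψ, ?_⟩
    rw [← map_smul]
    apply φ.injective
    rw [φ.apply_symm_apply]
    refine LinearMap.ext fun m => ?_
    rw [LinearMap.smul_apply, ← map_smul]
    exact hψ m
  refine ⟨conc_quot D hR0 x (ModuleCat.of A X) hreg j h.conc hs, ⟨?_⟩⟩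
  exact ((stepEquiv D x (ModuleCat.of A X) hreg j h.conc).trans (torsionByEquiv φ x)).trans
    (homQuotEquiv x X E).symm

open RingTheory.Sequence in
theorem State.quot_list [Module.Injective A E] (hR0 : D.R0) (rs : List A) :
    ∀ (X : Type u) [AddCommGroup X] [Module A X] (j : ℕ), IsWeaklyRegular X rs →
      State D E (ModuleCat.of A X) j →
      State D E (ModuleCat.of A (X ⧸ (Ideal.ofList rs • ⊤ : Submodule A X))) (j + rs.length) := by
  induction rs with
  | nil =>
    intro X _ _ j _ h
    have hbot : (Ideal.ofList ([] : List A) • ⊤ : Submodule A X) = ⊥ := by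
      rw [Ideal.ofList_nil, Submodule.bot_smul]
    exact h.of_iso (Submodule.quotEquivOfEqBot _ hbot).symm.toModuleIso
  | cons r rs ih =>
    intro X _ _ j hreg h
    rw [isWeaklyRegular_cons_iff] at hreg
    have h1 := h.step hR0 r X hreg.1
    have h2 := ih (QuotSMulTop r X) (j + 1) hreg.2 h1
    have h3 := h2.of_iso
      (Submodule.quotOfListConsSMulTopEquivQuotSMulTopInner X r rs).symm.toModuleIso
    rw [List.length_cons]
    rwa [show j + (rs.length + 1) = j + 1 + rs.length by omega]

end Groth.Agent.Lib.Helper11.TorHull
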