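import Mathlib
import Groth.Agent.Lib.Helper11.TorHullB
import Groth.Agent.Lib.Helper25.Matlis

/-!
# Finite length dévissage for a δ-functor concentrated in one degree on a finite length module
-/

set_option autoImplicit false
set_option linter.unusedSectionVars false
set_option linter.unusedVariables false
universe u

open CategoryTheory CategoryTheory.Limits IsLocalRing

namespace Groth.Agent.Lib.Helper11.TorHull

open Groth.Agent.Lib.Helper11.TorSys

section General

variable {A : Type u} [CommRing A]

/-- a short complex of modules from linear maps -/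
noncomputable def mkSC {M₁ M₂ M₃ : Type u} [AddCommGroup M₁] [Module A M₁] [AddCommGroup M₂]
    [Module A M₂] [AddCommGroup M₃] [Module A M₃] (f : M₁ →ₗ[A] M₂) (g : M₂ →ₗ[A] M₃)
    (h : Function.Exact f g) : ShortComplex (ModuleCat.{u} A) :=
  ShortComplex.mk (ModuleCat.ofHom f) (ModuleCat.ofHom g) (by
    refine ModuleCat.hom_ext (LinearMap.ext fun m => ?_)
    exact h.apply_apply_eq_zero m)

theorem mkSC_shortExact {M₁ M₂ M₃ : Type u} [AddCommGroup M₁] [Module A M₁] [AddCommGroup M₂]
    [Module A M₂] [AddCommGroup M₃] [Module A M₃] (f : M₁ →ₗ[A] M₂) (g : M₂ →ₗ[A] M₃)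
    (h : Function.Exact f g) (hf : Function.Injective f) (hg : Function.Surjective g) :
    (mkSC f g h).ShortExact where
  exact := by
    rw [ShortComplex.moduleCat_exact_iff_ker_sub_range]
    intro m hm
    exact (h m).1 hm
  mono_f := (ModuleCat.mono_iff_injective _).2 hf
  epi_g := (ModuleCat.epi_iff_surjective _).2 hg

theorem length_le_add_of_exact {M₁ M₂ M₃ : Type*} [AddCommGroup M₁] [Module A M₁]
    [AddCommGroup M₂] [Module A M₂] [AddCommGroup M₃] [Module A M₃] (f : M₁ →ₗ[A] M₂)
    (g : M₂ →ₗ[A] M₃) (h : Function.Exact f g) :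
    Module.length A M₂ ≤ Module.length A M₁ + Module.length A M₃ := by
  have h1 := Module.length_eq_add_of_exact (LinearMap.ker g).subtype g.rangeRestrict
    (Submodule.subtype_injective _) g.surjective_rangeRestrict (by
      intro m
      constructor
      · intro hm
        have : g m = 0 := congrArg Subtype.val hm
        exact ⟨⟨m, this⟩, rfl⟩
      · rintro ⟨⟨m', hm'⟩, rfl⟩
        exact Subtype.ext hm')
  rw [h1]
  have h2 : Module.length A (LinearMap.range g) ≤ Module.length A M₃ :=
    Module.length_le_of_injective (LinearMap.range g).subtype (Submodule.subtype_injective _)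
  have h3 : Module.length A (LinearMap.ker g) ≤ Module.length A M₁ := by
    rw [LinearMap.exact_iff.1 h]
    exact Module.length_le_of_surjective f.rangeRestrict f.surjective_rangeRestrict
  exact add_le_add h3 h2

variable (D : DFun A)

theorem G_subsingleton_of_subsingleton (i : ℕ) (N : Type u) [AddCommGroup N] [Module A N]
    [Subsingleton N] : Subsingleton ((D.G i).obj (ModuleCat.of A N)) := by
  have := D.additive i
  have h0 : IsZero (ModuleCat.of A N) := ModuleCat.isZero_of_subsingleton _
  exact ModuleCat.subsingleton_of_isZero ((D.G i).map_isZero h0)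

theorem G_subsingleton_mid (T : ShortComplex (ModuleCat.{u} A)) (hT : T.ShortExact) (i : ℕ)
    (h1 : Subsingleton ((D.G i).obj T.X₁)) (h3 : Subsingleton ((D.G i).obj T.X₃)) :
    Subsingleton ((D.G i).obj T.X₂) := by
  have h0 : ∀ ξ : (D.G i).obj T.X₂, ξ = 0 := by
    intro ξ
    have : ((D.G i).map T.g).hom ξ = 0 := Subsingleton.elim _ _
    obtain ⟨ζ, rfl⟩ := (D.exact₂ T hT i ξ).1 this
    rw [Subsingleton.elim ζ 0, map_zero]
  exact ⟨fun a b => by rw [h0 a, h0 b]⟩

/-- `G_{i+1}(X₃)` vanishes when `G_{i+1}(X₂)` and `G_i(X₁)` do -/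
theorem G_subsingleton_right (T : ShortComplex (ModuleCat.{u} A)) (hT : T.ShortExact) (i : ℕ)
    (h2 : Subsingleton ((D.G (i + 1)).obj T.X₂)) (h1 : Subsingleton ((D.G i).obj T.X₁)) :
    Subsingleton ((D.G (i + 1)).obj T.X₃) := by
  have h0 : ∀ ξ : (D.G (i + 1)).obj T.X₃, ξ = 0 := by
    intro ξ
    have : (D.δ T hT i).hom ξ = 0 := Subsingleton.elim _ _
    obtain ⟨ζ, rfl⟩ := (D.exact₃ T hT i ξ).1 this
    rw [Subsingleton.elim ζ 0, map_zero]
  exact ⟨fun a b => by rw [h0 a, h0 b]⟩

theorem G_subsingleton_of_equiv {X Y : Type u} [AddCommGroup X] [Module A X] [AddCommGroup Y]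
    [Module A Y] (e : X ≃ₗ[A] Y) (i : ℕ) (h : Subsingleton ((D.G i).obj (ModuleCat.of A X))) :
    Subsingleton ((D.G i).obj (ModuleCat.of A Y)) :=
  (((D.G i).mapIso e.toModuleIso).toLinearEquiv.toEquiv.subsingleton_congr).1 h

theorem length_G_of_equiv {X Y : Type u} [AddCommGroup X] [Module A X] [AddCommGroup Y]
    [Module A Y] (e : X ≃ₗ[A] Y) (i : ℕ) :
    Module.length A ((D.G i).obj (ModuleCat.of A X)) =
      Module.length A ((D.G i).obj (ModuleCat.of A Y)) :=
  ((D.G i).mapIso e.toModuleIso).toLinearEquiv.length_eq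

end General

section Local

variable {A : Type u} [CommRing A] [IsLocalRing A] (D : DFun A)

/-- `G_i` vanishes on all modules of finite length -/
def FLZero (i : ℕ) : Prop :=
  ∀ (N : Type u) [AddCommGroup N] [Module A N], IsFiniteLength A N →
    Subsingleton ((D.G i).obj (ModuleCat.of A N))

theorem flZero_of_residue (i : ℕ)
    (h : Subsingleton ((D.G i).obj (ModuleCat.of A (ResidueField A)))) : FLZero D i := by
  intro N _ _ hN
  induction hN with
  | of_subsingleton => exact G_subsingleton_of_subsingleton D i _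
  | @of_simple_quotient M _ _ N _ hN ih =>
    obtain ⟨e⟩ := Groth.Agent.Lib.Helper25.nonempty_equiv_residueField_of_isSimpleModule
      (R := A) (M ⧸ N)
    have h3 := G_subsingleton_of_equiv D e.symm i h
    exact G_subsingleton_mid D (mkSC N.subtype N.mkQ (LinearMap.exact_subtype_mkQ N))
      (mkSC_shortExact _ _ _ N.subtype_injective N.mkQ_surjective) i ih h3

theorem smul_G_residue (i : ℕ) (a : A) (ha : a ∈ maximalIdeal A)
    (ξ : (D.G i).obj (ModuleCat.of A (ResidueField A))) : a • ξ = 0 := by
  have := D.additive i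
  rw [← D.smul i _ a ξ]
  have h0 : a • 𝟙 (ModuleCat.of A (ResidueField A)) = 0 := by
    refine ModuleCat.hom_ext (LinearMap.ext fun k => ?_)
    exact Groth.Agent.Lib.Helper25.smul_residueField_eq_zero ha k
  rw [h0, Functor.map_zero]
  rfl

theorem length_residueField : Module.length A (ResidueField A) = 1 :=
  Module.length_eq_one A _

end Local

end Groth.Agent.Lib.Helper11.TorHull
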