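import Mathlib
import Groth.Agent.Lib.Helper11.KunzE
import Groth.Agent.Lib.Helper18.RegSeq
import Groth.Agent.Lib.Helper9.FlatCrit
import Groth.Agent.Lib.Helper11.TorHullC

/-!
# Kunz' theorem, part F: vanishing of `Tor` along sequences regular on both sides
-/

set_option autoImplicit false
set_option linter.unusedSectionVars false
set_option linter.unusedVariables false
universe u

open CategoryTheory CategoryTheory.Limits MonoidalCategory TensorProduct IsLocalRing
  RingTheory.Sequence
open scoped Pointwise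

namespace Groth.Agent.Lib.Helper11.Kunz

open Groth.Agent.Lib.Helper11.TorSys Groth.Agent.Lib.Helper11.TorHull

section Pow

variable {A : Type u} [CommRing A]

/-- positive powers of a weakly regular sequence form a weakly regular sequence -/
theorem isWeaklyRegular_map_pow (n : ℕ) (rs : List A) :
    ∀ (M : Type u) [AddCommGroup M] [Module A M], IsWeaklyRegular M rs →
      IsWeaklyRegular M (rs.map (fun r => r ^ (n + 1))) := by
  induction rs with
  | nil =>
    intro M _ _ h
    rw [List.map_nil]
    exact h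
  | cons r rs ih =>
    intro M _ _ h
    rw [isWeaklyRegular_cons_iff] at h
    rw [List.map_cons, isWeaklyRegular_cons_iff]
    exact ⟨h.1.pow (n + 1), ih (QuotSMulTop (r ^ (n + 1)) M)
      (Groth.Agent.Lib.Helper18.isWeaklyRegular_quotSMulTop_pow h.1 h.2 n)⟩

end Pow

section VZ

variable {A : Type u} [CommRing A]

/-- vanishing in all positive degrees passes to `X/xX` when `x` is regular on `X` and `G_0 X` -/
theorem vz_quot (D : DFun A) (x : A) (X : ModuleCat.{u} A) (hreg : IsSMulRegular X x)
    (hreg0 : IsSMulRegular ((D.G 0).obj X) x)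
    (h : ∀ i, 0 < i → Subsingleton ((D.G i).obj X)) :
    ∀ i, 0 < i → Subsingleton ((D.G i).obj (ModuleCat.of A (QuotSMulTop x X))) := by
  intro i hi
  obtain ⟨i', rfl⟩ : ∃ i', i = i' + 1 := ⟨i - 1, by omega⟩
  have hT := smulSC_shortExact x X hreg
  have h2 : Subsingleton ((D.G (i' + 1)).obj X) := h (i' + 1) (by omega)
  have key : ∀ a : (D.G (i' + 1)).obj (ModuleCat.of A (QuotSMulTop x X)), a = 0 := by
    intro a
    have h1 : ((D.G i').map (smulSC x X).f).hom ((D.δ (smulSC x X) hT i').hom a) = 0 :=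
      (D.exact₁ (smulSC x X) hT i' _).2 ⟨a, rfl⟩
    rw [G_map_smulSC_f] at h1
    have ha : (D.δ (smulSC x X) hT i').hom a = 0 := by
      rcases Nat.eq_zero_or_pos i' with h0 | hpos
      · subst h0
        exact hreg0 (h1.trans (smul_zero x).symm)
      · have : Subsingleton ((D.G i').obj (smulSC x X).X₁) := h i' hpos
        exact Subsingleton.elim _ _
    obtain ⟨z, hz⟩ := (D.exact₃ (smulSC x X) hT i' a).1 ha
    have hz0 : z = 0 := h2.elim _ _
    rw [← hz, hz0]
    exact map_zero _
  exact ⟨fun a b => by rw [key a, key b]⟩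

/-- `G_0(X/xX) = G_0(X)/x G_0(X)` for a right exact `G_0` -/
noncomputable def g0Quot (D : DFun A) (hR0 : D.R0) (x : A) (X : ModuleCat.{u} A)
    (hreg : IsSMulRegular X x) :
    QuotSMulTop x ((D.G 0).obj X) ≃ₗ[A] (D.G 0).obj (ModuleCat.of A (QuotSMulTop x X)) := by
  have hT := smulSC_shortExact x X hreg
  have hsurj : Function.Surjective ((D.G 0).map (smulSC x X).g).hom :=
    hR0 (smulSC x X).g (Submodule.mkQ_surjective _)
  have hker : LinearMap.ker ((D.G 0).map (smulSC x X).g).hom =
      (x • ⊤ : Submodule A ((D.G 0).obj X)) := by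
    ext ξ
    rw [LinearMap.mem_ker]
    constructor
    · intro hξ
      obtain ⟨η, hη⟩ : ∃ η : (D.G 0).obj X, ((D.G 0).map (smulSC x X).f).hom η = ξ :=
        (D.exact₂ (smulSC x X) hT 0 ξ).1 hξ
      have hη' : x • (η : (D.G 0).obj X) = ξ := (G_map_smulSC_f D x X 0 η).symm.trans hη
      rw [← hη']
      exact Submodule.smul_mem_pointwise_smul (η : (D.G 0).obj X) x ⊤ Submodule.mem_top
    · intro hξ
      obtain ⟨η, _, hη⟩ := (Submodule.mem_smul_pointwise_iff_exists (M := (D.G 0).obj X)
        ξ x ⊤).1 hξ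
      exact (D.exact₂ (smulSC x X) hT 0 ξ).2 ⟨η, (G_map_smulSC_f D x X 0 η).trans hη⟩
  exact (Submodule.quotEquivOfEq _ _ hker.symm).trans
    (LinearMap.quotKerEquivOfSurjective _ hsurj)

theorem vz_quot_list (D : DFun A) (hR0 : D.R0) (rs : List A) :
    ∀ (X : Type u) [AddCommGroup X] [Module A X], IsWeaklyRegular X rs →
      IsWeaklyRegular ((D.G 0).obj (ModuleCat.of A X)) rs →
      (∀ i, 0 < i → Subsingleton ((D.G i).obj (ModuleCat.of A X))) →
      ∀ i, 0 < i →
        Subsingleton ((D.G i).obj (ModuleCat.of A (X ⧸ (Ideal.ofList rs • ⊤ : Submodule A X)))) := by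
  induction rs with
  | nil =>
    intro X _ _ _ _ h i hi
    have hbot : (Ideal.ofList ([] : List A) • ⊤ : Submodule A X) = ⊥ := by
      rw [Ideal.ofList_nil, Submodule.bot_smul]
    have := h i hi
    exact (((D.G i).mapIso
      (Submodule.quotEquivOfEqBot _ hbot).symm.toModuleIso).toLinearEquiv.toEquiv.subsingleton_congr).1
      this
  | cons r rs ih =>
    intro X _ _ hreg hreg0 h i hi
    rw [isWeaklyRegular_cons_iff] at hreg hreg0
    have h1 := vz_quot D r (ModuleCat.of A X) hreg.1 hreg0.1 h
    have h0 : IsWeaklyRegular ((D.G 0).obj (ModuleCat.of A (QuotSMulTop r X))) rs :=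
      ((g0Quot D hR0 r (ModuleCat.of A X) hreg.1).isWeaklyRegular_congr rs).1 hreg0.2
    have h2 := ih (QuotSMulTop r X) hreg.2 h0 h1 i hi
    exact (((D.G i).mapIso
      (Submodule.quotOfListConsSMulTopEquivQuotSMulTopInner X r rs).symm.toModuleIso).toLinearEquiv.toEquiv.subsingleton_congr).1
      h2

end VZ

section Theta

variable {A : Type u} [CommRing A] (M : ModuleCat.{u} A)

/-- the comparison of `G_0` with the tensor product -/
noncomputable def thetaM (X : ModuleCat.{u} A) :
    ((DFun.ofModule M).G 0).obj X ≃ₗ[A] M ⊗[A] X :=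
  ((modelZeroIso M).app X).toLinearEquiv

theorem thetaM_naturality {X X' : ModuleCat.{u} A} (ψ : X ⟶ X')
    (ξ : ((DFun.ofModule M).G 0).obj X) :
    thetaM M X' ((((DFun.ofModule M).G 0).map ψ).hom ξ) =
      LinearMap.lTensor M ψ.hom (thetaM M X ξ) := by
  have hn := (modelZeroIso M).hom.naturality ψ
  exact congrArg (fun g => g.hom ξ) hn

/-- `Tor_1(M, X₃) = 0` makes `M ⊗ X₁ → M ⊗ X₂` injective -/
theorem lTensor_injective_of_G_one (T : ShortComplex (ModuleCat.{u} A)) (hT : T.ShortExact)
    (h : Subsingleton (((DFun.ofModule M).G 1).obj T.X₃)) :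
    Function.Injective (LinearMap.lTensor M T.f.hom) := by
  rw [injective_iff_map_eq_zero]
  intro z hz
  obtain ⟨ξ, rfl⟩ := (thetaM M T.X₁).surjective z
  rw [← thetaM_naturality] at hz
  have h0 : (((DFun.ofModule M).G 0).map T.f).hom ξ = 0 :=
    (thetaM M T.X₂).injective (hz.trans (map_zero _).symm)
  obtain ⟨ζ, hζ⟩ := ((DFun.ofModule M).exact₁ T hT 0 ξ).1 h0
  rw [← hζ, Subsingleton.elim ζ 0, map_zero, map_zero]

end Theta

section Frob

open Groth.Agent.Lib.Helper11.HK

variable (R : Type u) [CommRing R] [IsRegularLocalRing R] (p : ℕ) [Fact p.Prime] [CharP R p]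

/-- the Frobenius pushforward of a regular local ring has no `Tor_1` against the residue field -/
theorem subsingleton_tor_one_FR :
    Subsingleton (((DFun.ofModule (ModuleCat.of R (FR R p 1))).G 1).obj
      (ModuleCat.of R (R ⧸ maximalIdeal R))) := by
  classical
  obtain ⟨d, hd⟩ := Groth.Agent.Lib.Helper21.exists_nat_eq_ringKrullDim (R := R)
  have hsf : ((maximalIdeal R).spanFinrank : WithBot ℕ∞) = ringKrullDim R :=
    IsRegularLocalRing.spanFinrank_maximalIdeal
  rw [hd] at hsf
  have hsf' : (maximalIdeal R).spanFinrank = d := by exact_mod_cast hsf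
  obtain ⟨s, hscard, hsspan⟩ := Submodule.FG.exists_span_finset_card_eq_spanFinrank
    (maximalIdeal R).fg_of_isNoetherianRing
  have hcard : s.card = d := hscard.trans hsf'
  let e : s ≃ Fin d := s.equivFinOfCardEq hcard
  let x : Fin d → R := fun i => ((e.symm i : s) : R)
  have hrange : Set.range x = (s : Set R) := by
    ext r
    constructor
    · rintro ⟨i, rfl⟩
      exact (e.symm i).2
    · intro hr
      exact ⟨e ⟨r, hr⟩, by simp [x]⟩
  have hx : Ideal.span (Set.range x) = maximalIdeal R := by
    rw [hrange]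
    exact hsspan
  have hreg : RingTheory.Sequence.IsRegular R (List.ofFn x) :=
    Groth.Agent.Lib.Helper21.isRegular_ofFn_of_span_eq_maximalIdeal d R hd x hx
  have hofList : Ideal.ofList (List.ofFn x) = maximalIdeal R := by
    rw [← hx, Ideal.ofList]
    congr 1
    ext r
    simp [List.mem_ofFn]
  set rs := List.ofFn x with hrs
  have hw : IsWeaklyRegular R rs := hreg.toIsWeaklyRegular
  -- the sequence is regular on the Frobenius pushforward
  have hp1 : p - 1 + 1 = p := Nat.sub_add_cancel (Fact.out : p.Prime).one_le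
  have hpow : IsWeaklyRegular R (rs.map (fun r => r ^ (p - 1 + 1))) :=
    isWeaklyRegular_map_pow (p - 1) rs R hw
  rw [hp1] at hpow
  have hmap : rs.map (algebraMap R (FR R p 1)) = rs.map (fun r => r ^ p) := by
    apply List.map_congr_left
    intro r _
    show r ^ p ^ 1 = r ^ p
    rw [pow_one]
  have hN : IsWeaklyRegular (FR R p 1) rs := by
    rw [← isWeaklyRegular_map_algebraMap_iff (FR R p 1) (FR R p 1) rs, hmap]
    exact hpow
  -- the δ-functor
  let N : ModuleCat.{u} R := ModuleCat.of R (FR R p 1)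
  let D := DFun.ofModule N
  have e0 : (D.G 0).obj (ModuleCat.of R R) ≃ₗ[R] FR R p 1 :=
    (thetaM N (ModuleCat.of R R)).trans (TensorProduct.rid R (FR R p 1))
  have h0 : IsWeaklyRegular ((D.G 0).obj (ModuleCat.of R R)) rs :=
    (e0.isWeaklyRegular_congr rs).2 hN
  have hpos : ∀ i, 0 < i → Subsingleton ((D.G i).obj (ModuleCat.of R R)) := by
    intro i hi
    obtain ⟨i', rfl⟩ : ∃ i', i = i' + 1 := ⟨i - 1, by omega⟩
    exact ModuleCat.subsingleton_of_isZero (D.isZero_ring i')
  have h1 := vz_quot_list D (ofModule_R0 N) rs R hw h0 hpos 1 one_pos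
  have e : (Ideal.ofList rs • ⊤ : Submodule R R) = maximalIdeal R := by
    rw [smul_eq_mul, Ideal.mul_top, hofList]
  exact ((D.G 1).mapIso
    (Submodule.quotEquivOfEq _ _ e).toModuleIso).toLinearEquiv.toEquiv.subsingleton_congr.1 h1

/-- the Frobenius pushforward of a regular local ring is flat -/
theorem flat_FR_of_isRegularLocalRing : Module.Flat R (FR R p 1) := by
  have h1 := subsingleton_tor_one_FR R p
  have hT := mkSC_shortExact (maximalIdeal R).subtype (maximalIdeal R).mkQ
    (LinearMap.exact_subtype_mkQ (maximalIdeal R)) (maximalIdeal R).injective_subtype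
    (maximalIdeal R).mkQ_surjective
  have hinj : Function.Injective (LinearMap.lTensor (FR R p 1) (maximalIdeal R).subtype) :=
    lTensor_injective_of_G_one (ModuleCat.of R (FR R p 1)) _ hT h1
  have hinj' : Function.Injective ((maximalIdeal R).subtype.rTensor (FR R p 1)) :=
    (LinearMap.lTensor_inj_iff_rTensor_inj _ _).1 hinj
  haveI : IsNoetherianRing (FR R p 1) := inferInstance
  haveI : Module.Flat (R ⧸ maximalIdeal R) ((R ⧸ maximalIdeal R) ⊗[R] FR R p 1) := by
    letI : Field (R ⧸ maximalIdeal R) := Ideal.Quotient.field (maximalIdeal R)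
    exact Module.Flat.of_free
  refine Groth.Agent.Lib.Helper9.flat_of_rTensor_injective_of_le_jacobson (S := FR R p 1)
    (M := FR R p 1) (maximalIdeal R) ?_ hinj'
  rw [IsLocalRing.jacobson_eq_maximalIdeal ⊥ bot_ne_top, Ideal.map_le_iff_le_comap]
  intro a ha
  show a ^ p ^ 1 ∈ maximalIdeal R
  exact Ideal.pow_mem_of_mem _ ha _ (pow_pos (Fact.out : p.Prime).pos 1)

/-- **Kunz' theorem**, the easy direction for local rings. -/
theorem frobenius_flat_of_isRegularLocalRing : (frobenius R p).Flat := by
  have h := flat_FR_of_isRegularLocalRing R p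
  have h2 : (iterateFrobenius R p 1).Flat := h
  rwa [iterateFrobenius_one] at h2

end Frob

end Groth.Agent.Lib.Helper11.Kunz
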