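import Mathlib
import Groth.Agent.Lib.Helper11.KunzF

/-!
# Kunz' theorem, part G: globalisation
-/

set_option autoImplicit false
set_option linter.unusedSectionVars false
set_option linter.unusedVariables false
universe u

open IsLocalRing

namespace Groth.Agent.Lib.Helper11.Kunz

section Glue

variable (p : ℕ) [Fact p.Prime] (R : Type u) [CommRing R] [CharP R p]

theorem charP_localization (P : Ideal R) [P.IsPrime] : CharP (Localization.AtPrime P) p := by
  apply ringChar.of_eq
  apply CharP.ringChar_of_prime_eq_zero (Fact.out : p.Prime)
  have h1 : algebraMap R (Localization.AtPrime P) (p : R) = 0 := by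
    rw [CharP.cast_eq_zero R p]
    exact map_zero (algebraMap R (Localization.AtPrime P))
  rw [← h1]
  exact (map_natCast (algebraMap R (Localization.AtPrime P)) p).symm

theorem comap_frobenius (P : Ideal R) [P.IsPrime] : Ideal.comap (frobenius R p) P = P := by
  ext a
  rw [Ideal.mem_comap, frobenius_def]
  constructor
  · intro h
    exact Ideal.IsPrime.mem_of_pow_mem inferInstance _ h
  · intro h
    exact Ideal.pow_mem_of_mem _ h _ (Fact.out : p.Prime).pos

theorem localRingHom_frobenius (P : Ideal R) [P.IsPrime]
    [CharP (Localization.AtPrime P) p] (h : P = Ideal.comap (frobenius R p) P) :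
    Localization.localRingHom P P (frobenius R p) h = frobenius (Localization.AtPrime P) p := by
  apply Localization.localRingHom_unique
  intro x
  rw [frobenius_def, frobenius_def, map_pow]

theorem localRingHom_frobenius_flat_iff (Q P : Ideal R) [Q.IsPrime] [P.IsPrime]
    [CharP (Localization.AtPrime P) p] (h : Q = Ideal.comap (frobenius R p) P) :
    (Localization.localRingHom Q P (frobenius R p) h).Flat ↔
      (frobenius (Localization.AtPrime P) p).Flat := by
  have hQP : Q = P := h.trans (comap_frobenius p R P)
  subst hQP
  rw [localRingHom_frobenius]

/-- **Kunz' theorem**: a Noetherian ring of prime characteristic is regular iff its Frobenius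
endomorphism is flat. -/
theorem kunz [IsNoetherianRing R] : IsRegularRing R ↔ (frobenius R p).Flat := by
  constructor
  · intro hreg
    apply RingHom.Flat.ofLocalizationPrime
    intro J hJ
    haveI := charP_localization p R J
    rw [localRingHom_frobenius_flat_iff p R _ J rfl]
    exact frobenius_flat_of_isRegularLocalRing (Localization.AtPrime J) p
  · intro hflat
    rw [isRegularRing_iff]
    intro P hP
    haveI := charP_localization p R P
    have h1 := RingHom.Flat.localRingHom hflat P P (comap_frobenius p R P).symm
    rw [localRingHom_frobenius_flat_iff p R P P] at h1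
    exact isRegularLocalRing_of_frobenius_flat (Localization.AtPrime P) p h1

end Glue

end Groth.Agent.Lib.Helper11.Kunz
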