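import Mathlib
import Groth.Agent.Lib.Helper11.KzRes
import Groth.Agent.Lib.Helper28.KoszulTop

set_option autoImplicit false
universe u v
open CategoryTheory CategoryTheory.Limits CochainComplex MonoidalCategory
open Groth.Agent.Lib.Helper28.Koszul CohIII
open scoped Pointwise

namespace Groth.Agent.Lib.Helper11.Kz

section Conv

variable {A : Type u} [CommRing A]

/-- vanishing of `Hⁿ(K(a :: l; M))` forces `Hⁿ(K(l;M)) = a Hⁿ(K(l;M))` and `a` to be injective on
`Hⁿ⁺¹(K(l;M))` -/
theorem of_subsingleton_KH_cons (a : A) (l : List A) (M : Type u) [AddCommGroup M] [Module A M]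
    (n : ℤ) (h : Subsingleton (KH (a :: l) M n)) :
    Subsingleton (KH l M n ⧸ (a • ⊤ : Submodule A (KH l M n))) ∧
      Subsingleton (Submodule.torsionBy A (KH l M (n + 1)) a) := by
  have key := length_homology_cone_smul (koszulCx (ModuleCat.of A M) l) a n
  have h0 : Module.length A ((mappingCone (a • 𝟙 (koszulCx (ModuleCat.of A M) l))).homology n)
      = 0 := Module.length_eq_zero_iff.2 h
  rw [h0] at key
  have := add_eq_zero.1 key.symm
  exact ⟨Module.length_eq_zero_iff.1 this.1, Module.length_eq_zero_iff.1 this.2⟩

lemma ofList_reverse (l : List A) : Ideal.ofList l.reverse = Ideal.ofList l := by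
  unfold Ideal.ofList
  congr 1
  ext a
  simp

/-- converse to acyclicity: over a Noetherian local ring, if the Koszul homology of a sequence in
the maximal ideal on a finite module vanishes in negative degrees, then the (reversed) sequence
is weakly regular. -/
theorem isWeaklyRegular_reverse_of_KH [IsNoetherianRing A] [IsLocalRing A]
    (M : Type u) [AddCommGroup M] [Module A M] [Module.Finite A M] :
    ∀ l : List A, (∀ a ∈ l, a ∈ IsLocalRing.maximalIdeal A) →
      (∀ i : ℤ, i < 0 → Subsingleton (KH l M i)) →
      RingTheory.Sequence.IsWeaklyRegular M l.reverse := by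
  intro l
  induction l with
  | nil => intro _ _; exact RingTheory.Sequence.IsWeaklyRegular.nil A M
  | cons a l ih =>
    intro hmem h
    have ha : a ∈ IsLocalRing.maximalIdeal A := hmem a List.mem_cons_self
    have hl : ∀ b ∈ l, b ∈ IsLocalRing.maximalIdeal A := fun b hb =>
      hmem b (List.mem_cons_of_mem _ hb)
    have h1 : ∀ i : ℤ, i < 0 → Subsingleton (KH l M i) := by
      intro i hi
      have hq := (of_subsingleton_KH_cons a l M i (h i hi)).1
      have htop : (⊤ : Submodule A (KH l M i)) = a • ⊤ := by
        symm
        rw [eq_top_iff]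
        intro v _
        have : (Submodule.Quotient.mk v : KH l M i ⧸ (a • ⊤ : Submodule A (KH l M i))) = 0 :=
          Subsingleton.elim _ _
        exact (Submodule.Quotient.mk_eq_zero _).1 this
      have hbot := Submodule.eq_bot_of_eq_pointwise_smul_of_mem_jacobson_annihilator
        (Module.Finite.fg_top (R := A) (M := KH l M i)) htop
        (IsLocalRing.maximalIdeal_le_jacobson _ ha)
      exact (Submodule.subsingleton_iff A).1 (subsingleton_of_bot_eq_top hbot.symm)
    have h2 : IsSMulRegular (KH l M 0) a := by
      have ht : Subsingleton (Submodule.torsionBy A (KH l M 0) a) :=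
        (of_subsingleton_KH_cons a l M (-1) (h (-1) (by norm_num))).2
      intro v w hvw
      have hmem : v - w ∈ Submodule.torsionBy A (KH l M 0) a := by
        rw [Submodule.mem_torsionBy_iff, smul_sub]
        exact sub_eq_zero.2 hvw
      have : (⟨v - w, hmem⟩ : Submodule.torsionBy A (KH l M 0) a) = 0 :=
        Subsingleton.elim _ _
      exact sub_eq_zero.1 (congrArg Subtype.val this)
    obtain ⟨e⟩ := nonempty_homologyZero_equiv M l
    have h3 : IsSMulRegular (M ⧸ (Ideal.ofList l.reverse • (⊤ : Submodule A M))) a := by
      rw [ofList_reverse]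
      exact (e.isSMulRegular_congr a).1 h2
    rw [List.reverse_cons, RingTheory.Sequence.isWeaklyRegular_append_iff]
    exact ⟨ih hl h1, (RingTheory.Sequence.isWeaklyRegular_singleton_iff _ a).2 h3⟩

end Conv

end Groth.Agent.Lib.Helper11.Kz
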