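import Mathlib
import Groth.Agent.Lib.Helper11.KzCone
import Groth.Agent.Lib.Helper11.KzBasic

set_option autoImplicit false
set_option linter.unusedSectionVars false
universe u
open CategoryTheory CategoryTheory.Limits CochainComplex

namespace Groth.Agent.Lib.Helper11.KzExt

section split
variable {A : Type u} [CommRing A] (K' : Ideal A)
  {X E Y : Type*} [AddCommGroup X] [Module A X] [AddCommGroup E] [Module A E]
  [AddCommGroup Y] [Module A Y]

/-- a surjection onto a free `A/K'`-module from a module killed by `K'` has a section -/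
theorem exists_section {q : ℕ} (p : E →ₗ[A] Y) (hp : Function.Surjective p)
    (eY : Y ≃ₗ[A] (Fin q → A ⧸ K')) (hE : ∀ k ∈ K', ∀ e : E, k • e = 0) :
    ∃ s : Y →ₗ[A] E, p ∘ₗ s = LinearMap.id := by
  classical
  choose e he using fun i : Fin q => hp (eY.symm (Pi.single i 1))
  let S₀ : (Fin q → A) →ₗ[A] E := Fintype.linearCombination A e
  let π : (Fin q → A) →ₗ[A] (Fin q → A ⧸ K') :=
    LinearMap.pi fun i => (Submodule.mkQ K') ∘ₗ LinearMap.proj i
  have hπ : Function.Surjective π := by
    intro y
    choose a ha using fun i => Ideal.Quotient.mk_surjective (y i)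
    exact ⟨a, funext fun i => ha i⟩
  have hker : LinearMap.ker π ≤ LinearMap.ker S₀ := by
    intro a ha
    rw [LinearMap.mem_ker] at ha ⊢
    simp only [S₀, Fintype.linearCombination_apply]
    apply Finset.sum_eq_zero
    intro i _
    have : a i ∈ K' := by
      have := congrFun ha i
      simpa [π, Ideal.Quotient.eq_zero_iff_mem] using this
    exact hE _ this _
  let S₁ : (Fin q → A ⧸ K') →ₗ[A] E :=
    (Submodule.liftQ (LinearMap.ker π) S₀ hker) ∘ₗ
      (LinearMap.quotKerEquivOfSurjective π hπ).symm.toLinearMap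
  have hS₁ : ∀ a : Fin q → A, S₁ (π a) = S₀ a := by
    intro a
    simp only [S₁, LinearMap.comp_apply, LinearEquiv.coe_coe]
    have : (LinearMap.quotKerEquivOfSurjective π hπ).symm (π a) = Submodule.Quotient.mk a := by
      rw [LinearEquiv.symm_apply_eq]
      rfl
    rw [this, Submodule.liftQ_apply]
  refine ⟨S₁ ∘ₗ eY.toLinearMap, ?_⟩
  ext y
  simp only [LinearMap.comp_apply, LinearEquiv.coe_coe, LinearMap.id_apply]
  obtain ⟨a, ha⟩ := hπ (eY y)
  rw [← ha, hS₁]
  simp only [S₀, Fintype.linearCombination_apply, map_sum, map_smul, he]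
  apply eY.injective
  rw [← ha]
  simp only [map_sum, map_smul, LinearEquiv.apply_symm_apply]
  ext i
  simp only [Finset.sum_apply, Pi.smul_apply, Pi.single_apply, π, LinearMap.pi_apply,
    LinearMap.comp_apply, LinearMap.proj_apply, Submodule.mkQ_apply]
  rw [Finset.sum_eq_single i]
  · simp only [if_true]
    show a i • (1 : A ⧸ K') = Ideal.Quotient.mk K' (a i)
    rw [Algebra.smul_def, mul_one]
    rfl
  · intro j _ hj
    rw [if_neg (Ne.symm hj), smul_zero]
  · intro h
    exact absurd (Finset.mem_univ i) h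

/-- a short exact sequence of modules killed by `K'` with free ends over `A/K'` has free middle -/
theorem nonempty_equiv_of_exact {r q : ℕ} (i : X →ₗ[A] E) (p : E →ₗ[A] Y)
    (hi : Function.Injective i) (hp : Function.Surjective p) (hex : Function.Exact i p)
    (eX : X ≃ₗ[A] (Fin r → A ⧸ K')) (eY : Y ≃ₗ[A] (Fin q → A ⧸ K'))
    (hE : ∀ k ∈ K', ∀ e : E, k • e = 0) (n : ℕ) (hn : r + q = n) :
    Nonempty (E ≃ₗ[A] (Fin n → A ⧸ K')) := by
  obtain ⟨s, hs⟩ := exists_section K' p hp eY hE
  have e1 : E ≃ₗ[A] X × Y := by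
    exact ((Function.Exact.splitSurjectiveEquiv hex hi ⟨s, hs⟩).1)
  subst hn
  exact ⟨e1.trans ((LinearEquiv.prodCongr eX eY).trans
    ((LinearEquiv.sumArrowLequivProdArrow (Fin r) (Fin q) A (A ⧸ K')).symm.trans
      (LinearEquiv.funCongrLeft A (A ⧸ K') finSumFinEquiv.symm)))⟩

end split

section ConeSES

variable {A : Type u} [CommRing A] {K L : CochainComplex (ModuleCat.{u} A) ℤ} (φ : K ⟶ L)

open HomotopyCategory Pretriangulated

/-- if `φ` induces zero on `Hⁿ` and `Hⁿ⁺¹`, the cone sequence gives a short exact sequence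
`0 → Hⁿ(L) → Hⁿ(cone φ) → Hⁿ⁺¹(K) → 0`. -/
theorem exists_cone_ses (n : ℤ) (h0 : HomologicalComplex.homologyMap φ n = 0)
    (h1 : HomologicalComplex.homologyMap φ (n + 1) = 0) :
    ∃ (i : L.homology n →ₗ[A] (mappingCone φ).homology n)
      (p : (mappingCone φ).homology n →ₗ[A] K.homology (n + 1)),
      Function.Injective i ∧ Function.Surjective p ∧ Function.Exact i p := by
  let F := HomotopyCategory.homologyFunctor (ModuleCat.{u} A) (ComplexShape.up ℤ) 0
  let T := mappingCone.triangleh φ
  have hT : T ∈ distTriang _ := HomotopyCategory.mappingCone_triangleh_distinguished φ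
  have e2 := F.homologySequence_exact₂ T hT n
  have e3 := F.homologySequence_exact₃ T hT n (n+1) rfl
  have e1 := F.homologySequence_exact₁ T hT n (n+1) rfl
  rw [ShortComplex.ShortExact.moduleCat_exact_iff_function_exact] at e1 e2 e3
  let eK : ∀ m : ℤ, (F.shift m).obj T.obj₁ ≅ K.homology m := fun m =>
    (homologyFunctorFactors (ModuleCat.{u} A) (ComplexShape.up ℤ) m).app K
  let eL : ∀ m : ℤ, (F.shift m).obj T.obj₂ ≅ L.homology m := fun m =>
    (homologyFunctorFactors (ModuleCat.{u} A) (ComplexShape.up ℤ) m).app L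
  let eC : ∀ m : ℤ, (F.shift m).obj T.obj₃ ≅ (mappingCone φ).homology m := fun m =>
    (homologyFunctorFactors (ModuleCat.{u} A) (ComplexShape.up ℤ) m).app (mappingCone φ)
  have comm : ∀ m : ℤ, (F.shift m).map T.mor₁ ≫ (eL m).hom =
      (eK m).hom ≫ HomologicalComplex.homologyMap φ m := fun m =>
    (homologyFunctorFactors (ModuleCat.{u} A) (ComplexShape.up ℤ) m).hom.naturality φ
  have hz0 : ∀ x, ((F.shift n).map T.mor₁).hom x = 0 := by
    intro x
    apply (eL n).toLinearEquiv.injective
    have := congr($(comm n) x)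
    rw [h0] at this
    simpa using this
  have hz1 : ∀ x, ((F.shift (n + 1)).map T.mor₁).hom x = 0 := by
    intro x
    apply (eL (n + 1)).toLinearEquiv.injective
    have := congr($(comm (n + 1)) x)
    rw [h1] at this
    simpa using this
  refine ⟨((eC n).hom.hom ∘ₗ ((F.shift n).map T.mor₂).hom) ∘ₗ (eL n).inv.hom,
    ((eK (n + 1)).hom.hom ∘ₗ (F.homologySequenceδ T n (n + 1) rfl).hom) ∘ₗ (eC n).inv.hom,
    ?_, ?_, ?_⟩
  · -- injective
    rw [← LinearMap.ker_eq_bot, LinearMap.ker_eq_bot']
    intro y hy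
    simp only [LinearMap.comp_apply] at hy
    have hy2 : ((F.shift n).map T.mor₂).hom ((eL n).inv.hom y) = 0 := by
      apply (eC n).toLinearEquiv.injective
      rw [map_zero]
      exact hy
    obtain ⟨x, hx⟩ := (e2 _).1 hy2
    rw [hz0] at hx
    have : (eL n).inv.hom y = 0 := hx.symm
    have h3 := congrArg (eL n).hom.hom this
    rw [map_zero] at h3
    simpa using h3
  · -- surjective
    intro z
    have hz : ((F.shift (n + 1)).map T.mor₁).hom ((eK (n + 1)).inv.hom z) = 0 := hz1 _
    obtain ⟨c, hc⟩ := (e1 _).1 hz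
    refine ⟨(eC n).hom.hom c, ?_⟩
    simp only [LinearMap.comp_apply]
    have : (eC n).inv.hom ((eC n).hom.hom c) = c := by
      change ((eC n).hom ≫ (eC n).inv).hom c = c
      rw [Iso.hom_inv_id]
      rfl
    rw [this, hc]
    change ((eK (n + 1)).inv ≫ (eK (n + 1)).hom).hom z = z
    rw [Iso.inv_hom_id]
    rfl
  · -- exact
    intro c
    simp only [LinearMap.comp_apply]
    constructor
    · intro hc
      have hc2 : (F.homologySequenceδ T n (n + 1) rfl).hom ((eC n).inv.hom c) = 0 := by
        apply (eK (n + 1)).toLinearEquiv.injective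
        rw [map_zero]
        exact hc
      obtain ⟨y, hy⟩ := (e3 _).1 hc2
      refine ⟨(eL n).hom.hom y, ?_⟩
      have : (eL n).inv.hom ((eL n).hom.hom y) = y := by
        change ((eL n).hom ≫ (eL n).inv).hom y = y
        rw [Iso.hom_inv_id]
        rfl
      rw [LinearMap.comp_apply, LinearMap.comp_apply, this, hy]
      change ((eC n).inv ≫ (eC n).hom).hom c = c
      rw [Iso.inv_hom_id]
      rfl
    · rintro ⟨y, rfl⟩
      have : (eC n).inv.hom ((eC n).hom.hom (((F.shift n).map T.mor₂).hom ((eL n).inv.hom y)))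
          = ((F.shift n).map T.mor₂).hom ((eL n).inv.hom y) := by
        change ((eC n).hom ≫ (eC n).inv).hom _ = _
        rw [Iso.hom_inv_id]
        rfl
      rw [LinearMap.comp_apply, LinearMap.comp_apply, this]
      have h4 := (e3 (((F.shift n).map T.mor₂).hom ((eL n).inv.hom y))).2 ⟨_, rfl⟩
      rw [h4, map_zero]

end ConeSES

end Groth.Agent.Lib.Helper11.KzExt
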