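import Mathlib
import Groth.Agent.Lib.Helper11.KzExt1

set_option autoImplicit false
set_option linter.unusedSectionVars false
universe u
open CategoryTheory CategoryTheory.Limits CochainComplex
open CohIII

namespace Groth.Agent.Lib.Helper11.KzExt

open Groth.Agent.Lib.Helper11.Kz

/-- rank of Koszul homology in cohomological degree `n` for `m` elements acting by zero -/
def dd (m : ℕ) (n : ℤ) : ℕ := if n ≤ 0 then Nat.choose m (-n).toNat else 0

theorem dd_zero_zero : dd 0 0 = 1 := by simp [dd]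

theorem dd_zero_ne (n : ℤ) (hn : n ≠ 0) : dd 0 n = 0 := by
  unfold dd
  split_ifs with h
  · have : 0 < (-n).toNat := by omega
    obtain ⟨k, hk⟩ : ∃ k, (-n).toNat = k + 1 := ⟨(-n).toNat - 1, by omega⟩
    rw [hk, Nat.choose_zero_succ]
  · rfl

theorem dd_neg (m i : ℕ) : dd m (-(i : ℤ)) = Nat.choose m i := by
  unfold dd
  rw [if_pos (by omega)]
  congr 1
  omega

theorem dd_succ (m : ℕ) (n : ℤ) : dd (m + 1) n = dd m n + dd m (n + 1) := by
  unfold dd
  by_cases h0 : n = 0
  · subst h0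
    simp
  by_cases h : n ≤ 0
  · have h' : n + 1 ≤ 0 := by omega
    rw [if_pos h, if_pos h, if_pos h']
    obtain ⟨k, hk⟩ : ∃ k, (-n).toNat = k + 1 := ⟨(-n).toNat - 1, by omega⟩
    have hk' : (-(n + 1)).toNat = k := by omega
    rw [hk, hk', Nat.choose_succ_succ, add_comm]
  · have h' : ¬ n + 1 ≤ 0 := by omega
    rw [if_neg h, if_neg h, if_neg h']

section free

variable {A : Type u} [CommRing A] (I : Ideal A) (B : Type u) [AddCommGroup B] [Module A B]
  (hB : ∀ k ∈ I, ∀ b : B, k • b = 0) (g : List A)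

include hB in
theorem KH_kill (l : List A) (hl : Ideal.ofList g ≤ Ideal.ofList l) (n : ℤ) :
    ∀ k ∈ I ⊔ Ideal.ofList g, ∀ e : KH l B n, k • e = 0 := by
  intro k hk e
  obtain ⟨a, ha, b, hb, rfl⟩ := Submodule.mem_sup.1 hk
  rw [add_smul, KH_smul_eq_zero_of_ann l B n (hB a ha), KH_smul_eq_zero_of_mem l B n (hl hb),
    add_zero]

include hB in
/-- Koszul homology of `f' ++ g` with coefficients in `B`, where `f'` kills `B` and `g` is
Koszul-regular on `B`, is free over `A/(I + (g))` of binomial rank. -/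
theorem KH_free (h0 : ∀ n : ℤ, n ≠ 0 → Subsingleton (KH g B n))
    (e0 : KH g B 0 ≃ₗ[A] (A ⧸ (I ⊔ Ideal.ofList g))) :
    ∀ (f' : List A), (∀ x ∈ f', x ∈ I) → ∀ n : ℤ,
      Nonempty (KH (f' ++ g) B n ≃ₗ[A] (Fin (dd f'.length n) → A ⧸ (I ⊔ Ideal.ofList g)))
  | [], _, n => by
    by_cases hn : n = 0
    · subst hn
      rw [List.length_nil, dd_zero_zero]
      exact ⟨e0.trans (LinearEquiv.funUnique (Fin 1) A (A ⧸ (I ⊔ Ideal.ofList g))).symm⟩
    · rw [List.length_nil, dd_zero_ne n hn]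
      have : Subsingleton (KH ([] ++ g) B n) := h0 n hn
      exact ⟨LinearEquiv.ofSubsingleton _ _⟩
  | x :: f', hf, n => by
    have hx : x ∈ I := hf x (List.mem_cons_self)
    have hf' : ∀ y ∈ f', y ∈ I := fun y hy => hf y (List.mem_cons_of_mem _ hy)
    obtain ⟨eX⟩ := KH_free h0 e0 f' hf' n
    obtain ⟨eY⟩ := KH_free h0 e0 f' hf' (n + 1)
    have hzero : x • 𝟙 (koszulCx (ModuleCat.of A B) (f' ++ g)) = 0 := by
      have h0 : x • 𝟙 (ModuleCat.of A B) = 0 := by
        ext m
        exact hB x hx m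
      rw [← Groth.Agent.Lib.Helper28.Koszul.koszulMap_id,
        ← Groth.Agent.Lib.Helper28.Koszul.koszulMap_smul, h0,
        Groth.Agent.Lib.Helper28.Koszul.koszulMap_zero]
    obtain ⟨i, p, hi, hp, hex⟩ := exists_cone_ses (x • 𝟙 (koszulCx (ModuleCat.of A B) (f' ++ g))) n
      (by rw [hzero, HomologicalComplex.homologyMap_zero])
      (by rw [hzero, HomologicalComplex.homologyMap_zero])
    have hmono : Ideal.ofList g ≤ Ideal.ofList (x :: f' ++ g) := by
      apply Ideal.span_mono
      intro y hy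
      exact List.mem_append_right _ hy
    have hE := KH_kill I B hB g (x :: f' ++ g) hmono n
    exact nonempty_equiv_of_exact (I ⊔ Ideal.ofList g) i p hi hp hex eX eY hE _
      (by rw [List.length_cons, dd_succ])

end free

end Groth.Agent.Lib.Helper11.KzExt
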