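import Mathlib

set_option autoImplicit false
set_option linter.unusedSectionVars false
universe u

namespace Groth.Agent.Lib.Helper11.KzExt

section extpow

open exteriorPower

variable {A : Type u} [CommRing A] (K' : Ideal A) (N : Type u) [AddCommGroup N] [Module A N]
  [Module (A ⧸ K') N] [IsScalarTower A (A ⧸ K') N] (j : ℕ)

/-- `K'` kills the positive exterior powers over `A` of an `A/K'`-module -/
theorem extPow_kill : ∀ k ∈ K', ∀ w : ⋀[A]^(j + 1) N, k • w = 0 := by
  intro k hk w
  have hspan := ιMulti_span A (j + 1) N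
  have hw : w ∈ Submodule.span A (Set.range (ιMulti A (j + 1) (M := N))) := by
    rw [hspan]; trivial
  induction hw using Submodule.span_induction with
  | mem x hx =>
    obtain ⟨v, rfl⟩ := hx
    have h1 : v = Function.update v 0 (v 0) := (Function.update_eq_self 0 v).symm
    have h2 : k • v 0 = 0 := by
      rw [← algebraMap_smul (A ⧸ K') k (v 0)]
      have : algebraMap A (A ⧸ K') k = 0 := Ideal.Quotient.eq_zero_iff_mem.2 hk
      rw [this, zero_smul]
    rw [h1, ← AlternatingMap.map_update_smul, h2]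
    exact AlternatingMap.map_update_zero _ _ _
  | zero => rw [smul_zero]
  | add x y _ _ hx hy => rw [smul_add, hx, hy, add_zero]
  | smul a x _ hx => rw [smul_comm, hx, smul_zero]

/-- the `A/K'`-module structure on `⋀[A]^(j+1) N` -/
noncomputable def extPowModule : Module (A ⧸ K') (⋀[A]^(j + 1) N) :=
  Module.IsTorsionBySet.module (I := K') (fun w k => extPow_kill K' N j k.1 k.2 w)

theorem extPowModule_mk_smul (a : A) (w : ⋀[A]^(j + 1) N) :
    letI := extPowModule K' N j
    (Ideal.Quotient.mk K' a) • w = a • w := rfl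

/-- `ιMulti` over `A`, viewed as an alternating map over `A/K'` -/
noncomputable def altC :
    letI := extPowModule K' N j
    N [⋀^Fin (j + 1)]→ₗ[A ⧸ K'] (⋀[A]^(j + 1) N) :=
  letI := extPowModule K' N j
  { toFun := fun v => ιMulti A (j + 1) v
    map_update_add' := fun v i x y => (ιMulti A (j + 1)).map_update_add v i x y
    map_update_smul' := by
      intro _ v i c x
      obtain ⟨a, rfl⟩ := Ideal.Quotient.mk_surjective c
      have h1 : (Ideal.Quotient.mk K' a) • x = a • x := algebraMap_smul (A ⧸ K') a x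
      rw [h1, extPowModule_mk_smul]
      exact (ιMulti A (j + 1)).map_update_smul v i a x
    map_eq_zero_of_eq' := fun v i i' hv hii' => (ιMulti A (j + 1)).map_eq_zero_of_eq v hv hii' }

/-- `ιMulti` over `A/K'`, viewed as an alternating map over `A` -/
noncomputable def altA : N [⋀^Fin (j + 1)]→ₗ[A] (⋀[A ⧸ K']^(j + 1) N) :=
  { toFun := fun v => ιMulti (A ⧸ K') (j + 1) v
    map_update_add' := fun v i x y => (ιMulti (A ⧸ K') (j + 1)).map_update_add v i x y
    map_update_smul' := by
      intro _ v i a x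
      have h1 : a • x = (Ideal.Quotient.mk K' a) • x := (algebraMap_smul (A ⧸ K') a x).symm
      rw [h1, (ιMulti (A ⧸ K') (j + 1)).map_update_smul v i]
      exact algebraMap_smul (A ⧸ K') a _
    map_eq_zero_of_eq' := fun v i i' hv hii' =>
      (ιMulti (A ⧸ K') (j + 1)).map_eq_zero_of_eq v hv hii' }

/-- positive exterior powers of an `A/K'`-module over `A` and over `A/K'` agree -/
theorem nonempty_extPow_equiv :
    Nonempty (⋀[A]^(j + 1) N ≃ₗ[A] ⋀[A ⧸ K']^(j + 1) N) := by
  letI := extPowModule K' N j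
  haveI : IsScalarTower A (A ⧸ K') (⋀[A]^(j + 1) N) :=
    ⟨fun a c w => by
      obtain ⟨b, rfl⟩ := Ideal.Quotient.mk_surjective c
      show (a • Ideal.Quotient.mk K' b) • w = a • (Ideal.Quotient.mk K' b) • w
      rw [extPowModule_mk_smul]
      have : a • Ideal.Quotient.mk K' b = Ideal.Quotient.mk K' (a * b) := by
        rw [Algebra.smul_def]; rfl
      rw [this, extPowModule_mk_smul, mul_smul]⟩
  let φ : ⋀[A]^(j + 1) N →ₗ[A] ⋀[A ⧸ K']^(j + 1) N := alternatingMapLinearEquiv (altA K' N j)
  let ψ : ⋀[A ⧸ K']^(j + 1) N →ₗ[A ⧸ K'] ⋀[A]^(j + 1) N :=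
    alternatingMapLinearEquiv (altC K' N j)
  have hφ : ∀ v, φ (ιMulti A (j + 1) v) = ιMulti (A ⧸ K') (j + 1) v := fun v =>
    alternatingMapLinearEquiv_apply_ιMulti _ _
  have hψ : ∀ v, ψ (ιMulti (A ⧸ K') (j + 1) v) = ιMulti A (j + 1) v := fun v =>
    alternatingMapLinearEquiv_apply_ιMulti _ _
  have h1 : (ψ.restrictScalars A) ∘ₗ φ = LinearMap.id := by
    apply linearMap_ext
    ext v
    simp only [LinearMap.compAlternatingMap_apply, LinearMap.comp_apply, LinearMap.id_apply,
      LinearMap.restrictScalars_apply]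
    rw [hφ, hψ]
  have h2 : ∀ x, φ (ψ x) = x := by
    intro x
    have hx : x ∈ Submodule.span (A ⧸ K') (Set.range (ιMulti (A ⧸ K') (j + 1) (M := N))) := by
      rw [ιMulti_span]; trivial
    induction hx using Submodule.span_induction with
    | mem x hx =>
      obtain ⟨v, rfl⟩ := hx
      rw [hψ, hφ]
    | zero => rw [map_zero, map_zero]
    | add x y _ _ hx hy => rw [map_add, map_add, hx, hy]
    | smul c x _ hx =>
      obtain ⟨a, rfl⟩ := Ideal.Quotient.mk_surjective c
      rw [map_smul, extPowModule_mk_smul, map_smul, hx]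
      exact (algebraMap_smul (A ⧸ K') a x).symm
  exact ⟨LinearEquiv.ofLinearMap φ (ψ.restrictScalars A)
    (LinearMap.ext fun x => h2 x) h1⟩

end extpow

end Groth.Agent.Lib.Helper11.KzExt

namespace Groth.Agent.Lib.Helper11.KzExt

section freepow

open exteriorPower

/-- exterior powers of a standard free module are standard free of binomial rank -/
theorem nonempty_extPow_pi_equiv (C : Type u) [CommRing C] (a i : ℕ) :
    Nonempty (⋀[C]^i (Fin a → C) ≃ₗ[C] (Fin (Nat.choose a i) → C)) := by
  classical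
  let b := (Pi.basisFun C (Fin a)).exteriorPower i
  haveI : Finite (Set.powersetCard (Fin a) i) := inferInstance
  haveI : Fintype (Set.powersetCard (Fin a) i) := Fintype.ofFinite _
  have hcard : Fintype.card (Set.powersetCard (Fin a) i) = Nat.choose a i := by
    rw [Fintype.card_eq_nat_card, Set.powersetCard.card, Nat.card_eq_fintype_card, Fintype.card_fin]
  exact ⟨b.equivFun.trans (LinearEquiv.funCongrLeft C C (Fintype.equivFinOfCardEq hcard).symm)⟩

variable {A : Type u} [CommRing A] (K' : Ideal A)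

/-- positive exterior powers over `A` of a standard free `A/K'`-module -/
theorem nonempty_extPow_pi_equiv' (a j : ℕ) :
    Nonempty (⋀[A]^(j + 1) (Fin a → A ⧸ K') ≃ₗ[A] (Fin (Nat.choose a (j + 1)) → A ⧸ K')) := by
  obtain ⟨e1⟩ := nonempty_extPow_equiv K' (Fin a → A ⧸ K') j
  obtain ⟨e2⟩ := nonempty_extPow_pi_equiv (A ⧸ K') a (j + 1)
  exact ⟨e1.trans (e2.restrictScalars A)⟩

/-- functoriality of exterior powers for linear equivalences -/
noncomputable def extPowCongr' {M N : Type*} [AddCommGroup M] [Module A M] [AddCommGroup N]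
    [Module A N] (n : ℕ) (e : M ≃ₗ[A] N) : ⋀[A]^n M ≃ₗ[A] ⋀[A]^n N :=
  LinearEquiv.ofLinearMap (exteriorPower.map n e.toLinearMap)
    (exteriorPower.map n e.symm.toLinearMap)
    (by rw [← exteriorPower.map_comp]; simp) (by rw [← exteriorPower.map_comp]; simp)

end freepow

end Groth.Agent.Lib.Helper11.KzExt
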