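import Mathlib
import Groth.Agent.Lib.Helper16.KzInv3
import Groth.Agent.Lib.Helper11.KzCone

/-!
# Powers of Koszul-regular sequences are Koszul-regular (helper11)
-/

set_option autoImplicit false
set_option linter.unusedSectionVars false
set_option linter.unusedVariables false
universe u
open CategoryTheory CategoryTheory.Limits CochainComplex Pointwise

attribute [local instance] HasDerivedCategory.standard

namespace Groth.Agent.Lib.Helper11.KzRegPow

open Groth.Agent.Lib.Helper16.KzInv CohIII Groth.Agent.Lib.Helper11.Kz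

variable {A : Type u} [CommRing A]

/-- vanishing of `Hⁿ(cone(x))` in terms of `Hⁿ` and `Hⁿ⁺¹` -/
theorem isZero_homology_cone_smul_iff (K : CochainComplex (ModuleCat.{u} A) ℤ) (x : A) (n : ℤ) :
    IsZero ((mappingCone (x • 𝟙 K)).homology n) ↔
      ((x • ⊤ : Submodule A (K.homology n)) = ⊤ ∧
        Submodule.torsionBy A (K.homology (n + 1)) x = ⊥) := by
  rw [ModuleCat.isZero_iff_subsingleton, ← Module.length_eq_zero_iff (R := A),
    length_homology_cone_smul, add_eq_zero, Module.length_eq_zero_iff, Module.length_eq_zero_iff,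
    Submodule.Quotient.subsingleton_iff, Submodule.subsingleton_iff_eq_bot]

theorem smul_top_pow {M : Type*} [AddCommGroup M] [Module A M] (x : A)
    (h : (x • ⊤ : Submodule A M) = ⊤) (n : ℕ) : ((x ^ n) • ⊤ : Submodule A M) = ⊤ := by
  induction n with
  | zero => simp
  | succ n ih =>
    rw [pow_succ, mul_smul, h, ih]

theorem torsionBy_pow {M : Type*} [AddCommGroup M] [Module A M] (x : A)
    (h : Submodule.torsionBy A M x = ⊥) (n : ℕ) : Submodule.torsionBy A M (x ^ n) = ⊥ := by
  induction n with
  | zero => simp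
  | succ n ih =>
    rw [eq_bot_iff] at h ih ⊢
    intro m hm
    rw [Submodule.mem_torsionBy_iff, pow_succ, mul_smul] at hm
    have h1 : x • m ∈ Submodule.torsionBy A M (x ^ n) := by
      rw [Submodule.mem_torsionBy_iff]; exact hm
    have h2 : x • m = 0 := by simpa using ih h1
    exact h ((Submodule.mem_torsionBy_iff _ _).2 h2)

theorem isZero_homology_cone_pow (K : CochainComplex (ModuleCat.{u} A) ℤ) (x : A) (k : ℕ) (n : ℤ)
    (h : IsZero ((mappingCone (x • 𝟙 K)).homology n)) :
    IsZero ((mappingCone ((x ^ k) • 𝟙 K)).homology n) := by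
  rw [isZero_homology_cone_smul_iff] at h ⊢
  exact ⟨smul_top_pow x h.1 k, torsionBy_pow x h.2 k⟩

theorem isZero_homology_kz_middle_pow (C : CochainComplex (ModuleCat.{u} A) ℤ) (l1 l2 : List A)
    (a : A) (k : ℕ) (n : ℤ) (h : IsZero ((kz (l1 ++ a :: l2) C).homology n)) :
    IsZero ((kz (l1 ++ (a ^ k) :: l2) C).homology n) := by
  have p1 : (l1 ++ a :: l2).Perm (a :: (l1 ++ l2)) := List.perm_middle
  have p2 : (l1 ++ (a ^ k) :: l2).Perm ((a ^ k) :: (l1 ++ l2)) := List.perm_middle
  rw [(dIso_kz_perm C p1).isZero_homology_iff] at h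
  rw [(dIso_kz_perm C p2).isZero_homology_iff]
  rw [kz_cons] at h ⊢
  exact isZero_homology_cone_pow _ a k n h

theorem isZero_homology_kz_map_pow (C : CochainComplex (ModuleCat.{u} A) ℤ) (k : ℕ) (n : ℤ) :
    ∀ (l2 l1 : List A), IsZero ((kz (l1 ++ l2) C).homology n) →
      IsZero ((kz (l1 ++ l2.map (· ^ k)) C).homology n) := by
  intro l2
  induction l2 with
  | nil => intro l1 h; simpa using h
  | cons a l2 ih =>
    intro l1 h
    have h1 := isZero_homology_kz_middle_pow C l1 l2 a k n h
    have h2 := ih (l1 ++ [a ^ k]) (by simpa using h1)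
    simpa using h2

/-- powers of a Koszul-regular sequence form a Koszul-regular sequence -/
theorem isKoszulRegularSeq_map_pow (l : List A) (hl : LCI.IsKoszulRegularSeq A l) (k : ℕ) :
    LCI.IsKoszulRegularSeq A (l.map (· ^ k)) := by
  rw [isKoszulRegularSeq_iff] at hl ⊢
  intro i hi
  have := isZero_homology_kz_map_pow _ k i l [] (by simpa using hl i hi)
  simpa using this

end Groth.Agent.Lib.Helper11.KzRegPow
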