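import Mathlib
import Groth.Agent.Lib.Helper16.GorArtDual

/-!
# Lengths in zero-dimensional Gorenstein local rings: `ℓ(B/𝔞) + ℓ(B/Ann 𝔞) = ℓ(B)` (helper11)
-/

set_option autoImplicit false
set_option linter.unusedSectionVars false
set_option linter.unusedVariables false
set_option linter.style.haveILetI false
universe u

namespace Groth.Agent.Lib.Helper11.LDeg

open Groth.Agent.Lib.Helper25 InjHull IsLocalRing

section Ann

variable {B : Type u} [CommRing B] (𝔞 : Ideal B)

/-- the annihilator ideal of `𝔞` -/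
def ann : Ideal B := (⊥ : Ideal B).colon (𝔞 : Set B)

theorem mem_ann {x : B} : x ∈ ann 𝔞 ↔ ∀ a ∈ 𝔞, a * x = 0 := by
  unfold ann
  rw [Submodule.mem_colon]
  constructor
  · intro h a ha
    have := h a ha
    rwa [Submodule.mem_bot, smul_eq_mul, mul_comm] at this
  · intro h a ha
    rw [Submodule.mem_bot, smul_eq_mul, mul_comm]
    exact h a ha

/-- `Hom(B/𝔞, B) ≃ Ann 𝔞`, evaluation at `1` -/
noncomputable def homQuotEquivAnn : ((B ⧸ 𝔞) →ₗ[B] B) ≃ₗ[B] ann 𝔞 := by
  refine LinearEquiv.ofBijective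
    ((LinearMap.applyₗ (Submodule.Quotient.mk (1 : B) : B ⧸ 𝔞)).codRestrict _ (fun φ => ?_)) ⟨?_, ?_⟩
  · rw [mem_ann]
    intro a ha
    simp only [LinearMap.applyₗ_apply_apply]
    rw [← smul_eq_mul, ← map_smul, ← Submodule.Quotient.mk_smul, smul_eq_mul, mul_one,
      (Submodule.Quotient.mk_eq_zero 𝔞).2 ha, map_zero]
  · intro φ ψ h
    have h1 : φ (Submodule.Quotient.mk 1) = ψ (Submodule.Quotient.mk 1) := congrArg Subtype.val h
    apply LinearMap.ext
    intro y
    obtain ⟨r, rfl⟩ := Submodule.Quotient.mk_surjective _ y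
    have : (Submodule.Quotient.mk r : B ⧸ 𝔞) = r • Submodule.Quotient.mk (1 : B) := by
      rw [← Submodule.Quotient.mk_smul, smul_eq_mul, mul_one]
    rw [this, map_smul, map_smul, h1]
  · rintro ⟨x, hx⟩
    have hker : 𝔞 ≤ LinearMap.ker (LinearMap.toSpanSingleton B B x) := by
      intro a ha
      rw [LinearMap.mem_ker, LinearMap.toSpanSingleton_apply, smul_eq_mul]
      exact (mem_ann 𝔞).1 hx a ha
    refine ⟨Submodule.liftQ 𝔞 (LinearMap.toSpanSingleton B B x) hker, ?_⟩
    apply Subtype.ext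
    change Submodule.liftQ 𝔞 (LinearMap.toSpanSingleton B B x) hker
      (Submodule.Quotient.mk 1) = x
    rw [Submodule.liftQ_apply, LinearMap.toSpanSingleton_apply, one_smul]

end Ann

section Gor

variable (B : Type u) [CommRing B] [IsLocalRing B] [IsNoetherianRing B]

/-- **duality for lengths** in a zero-dimensional Gorenstein local ring -/
theorem length_quot_add_length_quot_ann (hG : LocCoh.IsGorensteinLocalRing B)
    (hdim : ringKrullDim B = 0) (𝔞 : Ideal B) :
    Module.length B (B ⧸ 𝔞) + Module.length B (B ⧸ ann 𝔞) = Module.length B B := by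
  have hart : IsArtinianRing B :=
    Groth.Agent.Lib.Helper16.GorFlat.isArtinianRing_of_ringKrullDim_eq_zero B hdim
  obtain ⟨E, _, _, f, hf⟩ := exists_isInjectiveHull (R := B) (ResidueField B)
  obtain ⟨e⟩ := Groth.Agent.Lib.Helper16.GorArt.nonempty_equiv_hull B
    (Groth.Agent.Lib.Helper16.GorArt.length_socle_eq_one_of_isGorenstein B hG hdim) f hf
  have hfl : IsFiniteLength B (B ⧸ 𝔞) :=
    isFiniteLength_iff_isNoetherian_isArtinian.mpr ⟨inferInstance, inferInstance⟩
  have h1 : Module.length B ((B ⧸ 𝔞) →ₗ[B] E) = Module.length B (B ⧸ 𝔞) :=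
    length_hom_eq_length f hf hfl
  have h2 : Module.length B ((B ⧸ 𝔞) →ₗ[B] B) = Module.length B ((B ⧸ 𝔞) →ₗ[B] E) :=
    (LinearEquiv.arrowCongr (LinearEquiv.refl B (B ⧸ 𝔞)) e).length_eq
  have h3 : Module.length B ((B ⧸ 𝔞) →ₗ[B] B) = Module.length B (ann 𝔞) :=
    (homQuotEquivAnn 𝔞).length_eq
  have h4 := Module.length_eq_add_of_exact (ann 𝔞).subtype (ann 𝔞).mkQ
    (ann 𝔞).subtype_injective (ann 𝔞).mkQ_surjective (LinearMap.exact_subtype_mkQ (ann 𝔞))
  rw [h4, ← h3, h2, h1]

end Gor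

end Groth.Agent.Lib.Helper11.LDeg
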