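import Mathlib
import Groth.Agent.Lib.Helper11.LinkCM
import Groth.Agent.Lib.Helper16.Liaison8
import Groth.Agent.Lib.Helper16.Liaison3

/-!
# Peskine–Szpiro for homogeneous ideals of a polynomial ring (global form)
-/

set_option autoImplicit false
set_option linter.unusedSectionVars false
universe u
open IsLocalRing MvPolynomial

namespace Groth.Agent.Lib.Helper11.LinkCM

open Groth.Agent.Lib.Helper18.CM Groth.Agent.Lib.Helper16.GorQuot
open Groth.Agent.Lib.Helper16.Liaison

section general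

variable {R : Type u} [CommRing R]

theorem map_colon_finset (M : Submonoid R) (S : Type u) [CommRing S] [Algebra R S]
    [IsLocalization M S] (𝔠 : Ideal R) (s : Finset R) :
    (𝔠.colon ((s : Set R))).map (algebraMap R S) =
      (𝔠.map (algebraMap R S)).colon ((algebraMap R S) '' (s : Set R)) := by
  classical
  induction s using Finset.induction_on with
  | empty => simp [Submodule.colon_empty, Ideal.map_top]
  | insert a s ha ih =>
    rw [Finset.coe_insert, Set.insert_eq, Submodule.colon_union, IsLocalization.map_inf M S, ih,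
      map_colon_singleton M S, Set.image_union, Set.image_singleton, Submodule.colon_union]

theorem map_colon [IsNoetherianRing R] (M : Submonoid R) (S : Type u) [CommRing S] [Algebra R S]
    [IsLocalization M S] (𝔠 I : Ideal R) :
    (𝔠.colon (I : Set R)).map (algebraMap R S) =
      (𝔠.map (algebraMap R S)).colon ((I.map (algebraMap R S) : Ideal S) : Set S) := by
  obtain ⟨s, rfl⟩ := (IsNoetherian.noetherian I : I.FG)
  have h1 : (Submodule.span R (s : Set R) : Ideal R) = Ideal.span (s : Set R) := rfl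
  rw [h1, Ideal.colon_span, map_colon_finset M S, Ideal.map_span, Ideal.colon_span]

theorem cm_congr_ideal {T : Type u} [CommRing T] {𝔞 𝔟 : Ideal T} (h : 𝔞 = 𝔟)
    (hG : LocCoh.IsCohenMacaulayLocalRing (T ⧸ 𝔞)) : LocCoh.IsCohenMacaulayLocalRing (T ⧸ 𝔟) := by
  subst h
  exact hG

end general

section poly

variable {K : Type u} [Field K] {N : ℕ}

local notation "R" => MvPolynomial (Fin N) K

theorem cm_localization_quot_colon (𝔠 I : Ideal R)
    (h𝔠 : 𝔠.IsHomogeneous (GrSyz.stdGr K (Fin N)))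
    [hG : LocCoh.IsGorensteinRing (R ⧸ 𝔠)] (c : ℕ) (h𝔠c : 𝔠.height = c)
    [hCM : LocCoh.IsCohenMacaulayRing (R ⧸ I)] (h𝔠I : 𝔠 ≤ I)
    (hIm : ∀ P ∈ I.minimalPrimes, P.height = c)
    (Q : Ideal R) [hQ : Q.IsPrime] (hJQ : 𝔠.colon (I : Set R) ≤ Q) :
    LocCoh.IsCohenMacaulayLocalRing
      (Localization.AtPrime Q ⧸ (𝔠.colon (I : Set R)).map (algebraMap R (Localization.AtPrime Q))) := by
  have h𝔠Q : 𝔠 ≤ Q := (Groth.Agent.Lib.Helper16.Liaison.le_colon 𝔠 I).trans hJQ
  have hGT := Groth.Agent.Lib.Helper16.RegGor.isGorensteinLocalRing_of_isRegularLocalRing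
    (Localization.AtPrime Q)
  have hCMT : LocCoh.IsCohenMacaulayLocalRing (Localization.AtPrime Q) :=
    Groth.Agent.Lib.Helper11.GorCM.isCohenMacaulayLocalRing_of_gorenstein _
  have hGq := gor_quot_map 𝔠 Q h𝔠Q
  have hmc : (𝔠.colon (I : Set R)).map (algebraMap R (Localization.AtPrime Q)) =
      (𝔠.map (algebraMap R (Localization.AtPrime Q))).colon
        ((I.map (algebraMap R (Localization.AtPrime Q)) : Ideal (Localization.AtPrime Q)) :
          Set (Localization.AtPrime Q)) :=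
    map_colon Q.primeCompl (Localization.AtPrime Q) 𝔠 I
  by_cases hIQ : I ≤ Q
  · have hCMI := cm_quot_map I Q hIQ
    have h𝔠m : ∀ P ∈ 𝔠.minimalPrimes, P.height = c := fun P hP =>
      (height_eq_of_mem_minimalPrimes 𝔠 h𝔠 hP).trans h𝔠c
    have d1 := add_ringKrullDim_quot_map Q hCMT 𝔠 h𝔠Q c h𝔠m
    have d2 := add_ringKrullDim_quot_map Q hCMT I hIQ c hIm
    have hl1 := isLocalRing_quotient _ (map_ne_top_of_le Q 𝔠 h𝔠Q)
    have hl2 := isLocalRing_quotient _ (map_ne_top_of_le Q I hIQ)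
    obtain ⟨a₁, ha₁⟩ := Groth.Agent.Lib.Helper18.SerreReg.exists_ringKrullDim_eq_nat
      (Localization.AtPrime Q ⧸ 𝔠.map (algebraMap R (Localization.AtPrime Q)))
    obtain ⟨a₂, ha₂⟩ := Groth.Agent.Lib.Helper18.SerreReg.exists_ringKrullDim_eq_nat
      (Localization.AtPrime Q ⧸ I.map (algebraMap R (Localization.AtPrime Q)))
    obtain ⟨t, ht⟩ := Groth.Agent.Lib.Helper18.SerreReg.exists_ringKrullDim_eq_nat
      (Localization.AtPrime Q)
    rw [ha₁, ht] at d1
    rw [ha₂, ht] at d2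
    have e1 : c + a₁ = t := by exact_mod_cast d1
    have e2 : c + a₂ = t := by exact_mod_cast d2
    have e3 : a₂ = a₁ := by omega
    rw [e3] at ha₂
    have hne : (𝔠.map (algebraMap R (Localization.AtPrime Q))).colon
        ((I.map (algebraMap R (Localization.AtPrime Q)) : Ideal (Localization.AtPrime Q)) :
          Set (Localization.AtPrime Q)) ≠ ⊤ := by
      rw [← hmc]
      exact map_ne_top_of_le Q _ hJQ
    obtain ⟨h1, -⟩ := cm_quot_colon a₁ (𝔠.map (algebraMap R (Localization.AtPrime Q)))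
      (I.map (algebraMap R (Localization.AtPrime Q))) (Ideal.map_mono h𝔠I) hGq
      (cm_module_of_cm_ring _ hCMI) ha₁ ha₂ hne
    exact cm_congr_ideal hmc.symm (cm_ring_of_cm_module _ hne h1)
  · have htop : I.map (algebraMap R (Localization.AtPrime Q)) = ⊤ := by
      obtain ⟨x, hxI, hxQ⟩ := Set.not_subset.1 hIQ
      apply Ideal.eq_top_of_isUnit_mem _ (Ideal.mem_map_of_mem _ hxI)
      exact IsLocalization.map_units (Localization.AtPrime Q) (⟨x, hxQ⟩ : Q.primeCompl)
    have hcol : (𝔠.colon (I : Set R)).map (algebraMap R (Localization.AtPrime Q)) =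
        𝔠.map (algebraMap R (Localization.AtPrime Q)) := by
      rw [hmc, htop, Submodule.top_coe, Submodule.colon_univ]
    exact cm_congr_ideal hcol.symm
      (Groth.Agent.Lib.Helper11.GorCM.isCohenMacaulayLocalRing_of_gorenstein _)

theorem cm_ring_quot_colon (𝔠 I : Ideal R)
    (h𝔠 : 𝔠.IsHomogeneous (GrSyz.stdGr K (Fin N)))
    [hG : LocCoh.IsGorensteinRing (R ⧸ 𝔠)] (c : ℕ) (h𝔠c : 𝔠.height = c)
    [hCM : LocCoh.IsCohenMacaulayRing (R ⧸ I)] (h𝔠I : 𝔠 ≤ I)
    (hIm : ∀ P ∈ I.minimalPrimes, P.height = c) :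
    LocCoh.IsCohenMacaulayRing (R ⧸ 𝔠.colon (I : Set R)) := by
  refine { isCohenMacaulayLocalRing_localization := fun q hq => ?_ }
  have hQ : (q.comap (Ideal.Quotient.mk (𝔠.colon (I : Set R)))).IsPrime := Ideal.comap_isPrime _ _
  have hleQ : 𝔠.colon (I : Set R) ≤ q.comap (Ideal.Quotient.mk (𝔠.colon (I : Set R))) := by
    intro x hx
    rw [Ideal.mem_comap, Ideal.Quotient.eq_zero_iff_mem.mpr hx]
    exact zero_mem _
  exact cm_of_ringEquiv (locQuotEquiv _ q _ rfl).symm
    (cm_localization_quot_colon 𝔠 I h𝔠 c h𝔠c h𝔠I hIm _ hleQ)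

/-- one direction of the Peskine–Szpiro theorem for directly linked homogeneous ideals -/
theorem cm_of_linked (𝔠 I J : Ideal R)
    (h𝔠 : 𝔠.IsHomogeneous (GrSyz.stdGr K (Fin N)))
    [hG : LocCoh.IsGorensteinRing (R ⧸ 𝔠)] (c : ℕ) (h𝔠c : 𝔠.height = c)
    (hIJ : 𝔠.colon (I : Set R) = J) (hJI : 𝔠.colon (J : Set R) = I)
    (hCM : LocCoh.IsCohenMacaulayRing (R ⧸ I)) : LocCoh.IsCohenMacaulayRing (R ⧸ J) := by
  have h𝔠I : 𝔠 ≤ I := hJI ▸ Groth.Agent.Lib.Helper16.Liaison.le_colon 𝔠 J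
  have hIm : ∀ P ∈ I.minimalPrimes, P.height = c := by
    intro P hP
    by_cases hJ𝔠 : J ≤ 𝔠
    · have : I = ⊤ := by
        rw [← hJI, colon_eq_top_iff]
        exact hJ𝔠
      rw [this, Ideal.minimalPrimes_top] at hP
      exact absurd hP (Set.notMem_empty _)
    · have h1 := (colon_unmixed 𝔠 J h𝔠 hJ𝔠).2
      rw [hJI] at h1
      rw [← h𝔠c]
      apply h1
      apply Module.associatedPrimes.minimalPrimes_annihilator_subset_associatedPrimes R (R ⧸ I)
      rwa [Ideal.annihilator_quotient]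
  rw [← hIJ]
  exact cm_ring_quot_colon 𝔠 I h𝔠 c h𝔠c h𝔠I hIm

end poly

end Groth.Agent.Lib.Helper11.LinkCM
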