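import Mathlib

/-!
# Lengths of iterated localizations of modules (helper11)

`length_{(R_𝔪)_q} ((N_𝔪)_q) = length_{R_𝔭} (N_𝔭)` for `𝔭 = q ∩ R`.
-/

set_option autoImplicit false
set_option linter.unusedSectionVars false
set_option linter.unusedVariables false
set_option linter.style.haveILetI false
universe u v w

namespace Groth.Agent.Lib.Helper11.LocLoc

section Indep

variable {R : Type u} [CommRing R] (T : Submonoid R) (R' : Type v) [CommRing R'] [Algebra R R']
  [IsLocalization T R'] (N : Type w) [AddCommGroup N] [Module R N]

/-- the length of `T⁻¹N` does not depend on the model of the localization `T⁻¹R` acting on it -/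
theorem length_moduleOfIsLocalization :
    @Module.length R' (LocalizedModule T N) _ _ (LocalizedModule.moduleOfIsLocalization) =
      Module.length (Localization T) (LocalizedModule T N) := by
  letI inst1 : Module R' (LocalizedModule T N) := LocalizedModule.moduleOfIsLocalization
  let σ : R' ≃ₐ[R] Localization T := IsLocalization.algEquiv T R' (Localization T)
  letI : Algebra R' (Localization T) := σ.toRingEquiv.toRingHom.toAlgebra
  have hσ : ∀ x : R', algebraMap R' (Localization T) x = σ x := fun x => rfl
  haveI : IsScalarTower R' (Localization T) (LocalizedModule T N) := by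
    refine ⟨fun x z y => ?_⟩
    induction y using LocalizedModule.induction_on with
    | h n s =>
      obtain ⟨a, t, rfl⟩ := IsLocalization.exists_mk'_eq T z
      obtain ⟨b, u, rfl⟩ := IsLocalization.exists_mk'_eq T x
      rw [Algebra.smul_def, hσ]
      have h1 : σ (IsLocalization.mk' R' b u) = IsLocalization.mk' (Localization T) b u := by
        simp [σ]
      have key : ∀ (b : R) (u : T) (m : N) (s : T),
          (IsLocalization.mk' R' b u) • (LocalizedModule.mk m s) =
            LocalizedModule.mk (b • m) (u * s) :=
        fun b u m s => LocalizedModule.mk'_smul_mk R' b m u s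
      rw [h1, ← IsLocalization.mk'_mul, ← Localization.mk_eq_mk',
        LocalizedModule.mk_smul_mk, LocalizedModule.mk_smul_mk, key, mul_smul, mul_assoc]
  exact Module.length_eq_of_surjective (S := R') (R := Localization T)
    (M := LocalizedModule T N) σ.surjective

variable {N}

/-- the length of any model of the localization `T⁻¹N` over any model of `T⁻¹R` -/
theorem length_eq_of_isLocalizedModule {X : Type w} [AddCommGroup X] [Module R X] [Module R' X]
    [IsScalarTower R R' X] (f : N →ₗ[R] X) [IsLocalizedModule T f] :
    Module.length R' X = Module.length (Localization T) (LocalizedModule T N) := by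
  rw [← length_moduleOfIsLocalization T R' N]
  letI inst1 : Module R' (LocalizedModule T N) := LocalizedModule.moduleOfIsLocalization
  let e : LocalizedModule T N ≃ₗ[R'] X :=
    (IsLocalizedModule.iso T f).extendScalarsOfIsLocalization T R'
  exact e.symm.length_eq

end Indep

section Iterated

variable {R : Type u} [CommRing R] (𝔪 : Ideal R) [𝔪.IsPrime]
  (q : Ideal (Localization.AtPrime 𝔪)) [q.IsPrime] (N : Type u) [AddCommGroup N] [Module R N]

/-- localization of modules is transitive -/
theorem isLocalizedModule_comp :
    IsLocalizedModule (q.comap (algebraMap R (Localization.AtPrime 𝔪))).primeCompl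
      (((LocalizedModule.mkLinearMap q.primeCompl (LocalizedModule 𝔪.primeCompl N)).restrictScalars
        R).comp (LocalizedModule.mkLinearMap 𝔪.primeCompl N)) := by
  haveI : IsLocalization.AtPrime (Localization.AtPrime q)
      (q.comap (algebraMap R (Localization.AtPrime 𝔪))) :=
    IsLocalization.isLocalization_isLocalization_atPrime_isLocalization 𝔪.primeCompl
      (Localization.AtPrime q) q
  rw [isLocalizedModule_iff_isBaseChange
    (q.comap (algebraMap R (Localization.AtPrime 𝔪))).primeCompl (Localization.AtPrime q)]
  have h1 : IsBaseChange (Localization.AtPrime 𝔪) (LocalizedModule.mkLinearMap 𝔪.primeCompl N) :=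
    IsLocalizedModule.isBaseChange 𝔪.primeCompl _ _
  have h2 : IsBaseChange (Localization.AtPrime q)
      (LocalizedModule.mkLinearMap q.primeCompl (LocalizedModule 𝔪.primeCompl N)) :=
    IsLocalizedModule.isBaseChange q.primeCompl _ _
  exact h1.comp h2

theorem length_localizedModule_localizedModule (𝔭 : Ideal R) [𝔭.IsPrime]
    (h : q.comap (algebraMap R (Localization.AtPrime 𝔪)) = 𝔭) :
    Module.length (Localization.AtPrime q)
      (LocalizedModule q.primeCompl (LocalizedModule 𝔪.primeCompl N)) =
    Module.length (Localization.AtPrime 𝔭) (LocalizedModule 𝔭.primeCompl N) := by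
  subst h
  haveI : IsLocalization.AtPrime (Localization.AtPrime q)
      (q.comap (algebraMap R (Localization.AtPrime 𝔪))) :=
    IsLocalization.isLocalization_isLocalization_atPrime_isLocalization 𝔪.primeCompl
      (Localization.AtPrime q) q
  haveI := isLocalizedModule_comp 𝔪 q N
  exact length_eq_of_isLocalizedModule
    (q.comap (algebraMap R (Localization.AtPrime 𝔪))).primeCompl (Localization.AtPrime q)
    (((LocalizedModule.mkLinearMap q.primeCompl (LocalizedModule 𝔪.primeCompl N)).restrictScalars
        R).comp (LocalizedModule.mkLinearMap 𝔪.primeCompl N))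

end Iterated

end Groth.Agent.Lib.Helper11.LocLoc
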