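import Mathlib

/-!
# Dimension of a truncated graded quotient (helper11)
-/

set_option autoImplicit false
set_option linter.unusedSectionVars false
set_option linter.unusedVariables false
set_option linter.style.haveILetI false
universe u v

namespace Groth.Agent.Lib.Helper11.PDeg

open DirectSum

section Lin

variable {k : Type u} [Field k] {V : Type v} [AddCommGroup V] [Module k V]
  (ℳ : ℕ → Submodule k V) [DirectSum.Decomposition ℳ]

/-- the `i`-th component as a linear map -/
noncomputable def comp (i : ℕ) : V →ₗ[k] ℳ i :=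
  (DirectSum.component k ℕ (fun i => ℳ i) i).comp
    (DirectSum.decomposeLinearEquiv ℳ).toLinearMap

theorem comp_apply (i : ℕ) (v : V) : comp ℳ i v = DirectSum.decompose ℳ v i := rfl

theorem comp_of_mem_same {i : ℕ} {v : V} (hv : v ∈ ℳ i) : (comp ℳ i v : V) = v := by
  rw [comp_apply, DirectSum.decompose_of_mem_same ℳ hv]

theorem comp_of_mem_ne {i j : ℕ} {v : V} (hv : v ∈ ℳ j) (h : j ≠ i) : comp ℳ i v = 0 := by
  rw [comp_apply]
  apply Subtype.ext
  rw [DirectSum.decompose_of_mem_ne ℳ hv h]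
  rfl

/-- the tail `⊕_{i ≥ t} ℳ i` -/
def tail (t : ℕ) : Submodule k V where
  carrier := {v | ∀ i, i < t → comp ℳ i v = 0}
  add_mem' := by
    intro a b ha hb i hi
    rw [map_add, ha i hi, hb i hi, add_zero]
  zero_mem' := by
    intro i _
    rw [map_zero]
  smul_mem' := by
    intro c v hv i hi
    rw [map_smul, hv i hi, smul_zero]

theorem mem_tail {t : ℕ} {v : V} : v ∈ tail ℳ t ↔ ∀ i, i < t → comp ℳ i v = 0 := Iff.rfl

variable (U : Submodule k V) (hU : ∀ v ∈ U, ∀ i, (comp ℳ i v : V) ∈ U)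

/-- the map to the product of the truncated quotient pieces -/
noncomputable def truncMap (t : ℕ) : V →ₗ[k] ((i : Fin t) → (ℳ i ⧸ (U.comap (ℳ i).subtype))) :=
  LinearMap.pi fun i => (Submodule.mkQ _).comp (comp ℳ i)

theorem truncMap_apply (t : ℕ) (v : V) (i : Fin t) :
    truncMap ℳ U t v i = Submodule.Quotient.mk (comp ℳ i v) := rfl

theorem truncMap_surjective (t : ℕ) : Function.Surjective (truncMap ℳ U t) := by
  classical
  intro y
  choose w hw using fun i : Fin t => Submodule.Quotient.mk_surjective _ (y i)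
  refine ⟨∑ j : Fin t, ((w j : ℳ j) : V), ?_⟩
  funext i
  rw [truncMap_apply, map_sum, ← hw i]
  congr 1
  rw [Finset.sum_eq_single i]
  · apply Subtype.ext
    exact comp_of_mem_same ℳ (w i).2
  · intro j _ hji
    exact comp_of_mem_ne ℳ (w j).2 (fun h => hji (Fin.ext h))
  · intro h
    exact absurd (Finset.mem_univ i) h

include hU in
theorem ker_truncMap (t : ℕ) : LinearMap.ker (truncMap ℳ U t) = U ⊔ tail ℳ t := by
  classical
  apply le_antisymm
  · intro v hv
    rw [LinearMap.mem_ker] at hv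
    have h1 : ∀ i : Fin t, (comp ℳ i v : V) ∈ U := by
      intro i
      have := congrFun hv i
      rw [truncMap_apply, Pi.zero_apply, Submodule.Quotient.mk_eq_zero] at this
      exact this
    have h2 : v = ∑ i : Fin t, (comp ℳ i v : V) + (v - ∑ i : Fin t, (comp ℳ i v : V)) := by abel
    rw [h2]
    refine Submodule.add_mem_sup (Submodule.sum_mem _ fun i _ => h1 i) ?_
    intro j hj
    rw [map_sub, map_sum, sub_eq_zero]
    rw [Finset.sum_eq_single (⟨j, hj⟩ : Fin t)]
    · apply Subtype.ext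
      exact (comp_of_mem_same ℳ (comp ℳ j v).2).symm
    · intro i _ hij
      exact comp_of_mem_ne ℳ (comp ℳ i v).2 (fun h => hij (Fin.ext h))
    · intro h
      exact absurd (Finset.mem_univ _) h
  · apply sup_le
    · intro v hv
      rw [LinearMap.mem_ker]
      funext i
      rw [truncMap_apply, Pi.zero_apply, Submodule.Quotient.mk_eq_zero]
      exact hU v hv i
    · intro v hv
      rw [LinearMap.mem_ker]
      funext i
      rw [truncMap_apply, Pi.zero_apply, hv i i.2, Submodule.Quotient.mk_zero]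

/-- the truncated quotient is the product of the quotient pieces -/
noncomputable def truncEquiv (t : ℕ) :
    (V ⧸ (U ⊔ tail ℳ t)) ≃ₗ[k] ((i : Fin t) → (ℳ i ⧸ (U.comap (ℳ i).subtype))) :=
  (Submodule.quotEquivOfEq _ _ (ker_truncMap ℳ U hU t).symm).trans
    ((truncMap ℳ U t).quotKerEquivOfSurjective (truncMap_surjective ℳ U t))

/-- `U ∩ ℳ i` inside `ℳ i` -/
noncomputable def comapEquiv (i : ℕ) : ↥(U.comap (ℳ i).subtype) ≃ₗ[k] ↥(U ⊓ ℳ i) where
  toFun v := ⟨(v : ℳ i), ⟨v.2, (v : ℳ i).2⟩⟩
  invFun v := ⟨⟨(v : V), v.2.2⟩, v.2.1⟩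
  map_add' _ _ := rfl
  map_smul' _ _ := rfl
  left_inv _ := rfl
  right_inv _ := rfl

include hU in
theorem finrank_trunc [∀ i, Module.Finite k (ℳ i)] (t : ℕ) :
    Module.Finite k (V ⧸ (U ⊔ tail ℳ t)) ∧
    Module.finrank k (V ⧸ (U ⊔ tail ℳ t)) =
      ∑ i ∈ Finset.range t, (Module.finrank k (ℳ i) - Module.finrank k ↥(U ⊓ ℳ i)) := by
  have e := truncEquiv ℳ U hU t
  refine ⟨Module.Finite.equiv e.symm, ?_⟩
  rw [e.finrank_eq, Module.finrank_pi_fintype, Finset.sum_range]
  refine Finset.sum_congr rfl fun i _ => ?_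
  rw [← (comapEquiv ℳ U i).finrank_eq]
  have := Submodule.finrank_quotient_add_finrank (U.comap (ℳ i).subtype)
  omega

end Lin

end Groth.Agent.Lib.Helper11.PDeg
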