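import Mathlib
import Groth.Agent.Lib.Helper11.NFlatE
import Groth.Agent.Lib.Helper11.PDegA

/-!
# Length of the localization of a finite dimensional module killed by a power of a rational maximal ideal
-/

set_option autoImplicit false
set_option linter.unusedSectionVars false
set_option linter.unusedVariables false
set_option linter.style.haveILetI false
universe u v

namespace Groth.Agent.Lib.Helper11.PDeg

open Groth.Agent.Lib.Helper11.NFlat Groth.Agent.Lib.Helper11.HS

section Len

variable {k : Type u} [Field k] {S : Type u} [CommRing S] [IsNoetherianRing S] [Algebra k S]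
  (𝔪 : PrimeSpectrum S) (hmax : 𝔪.asIdeal.IsMaximal)
  (hk : Function.Surjective (algebraMap k (S ⧸ 𝔪.asIdeal)))

include hmax hk in
theorem finrank_quot_self : Module.finrank k (S ⧸ 𝔪.asIdeal) = 1 := by
  haveI := hmax
  letI : Field (S ⧸ 𝔪.asIdeal) := Ideal.Quotient.field 𝔪.asIdeal
  have hinj : Function.Injective (algebraMap k (S ⧸ 𝔪.asIdeal)) :=
    (algebraMap k (S ⧸ 𝔪.asIdeal)).injective
  let e : k ≃ₗ[k] (S ⧸ 𝔪.asIdeal) :=
    LinearEquiv.ofBijective (Algebra.linearMap k (S ⧸ 𝔪.asIdeal)) ⟨hinj, hk⟩
  rw [← e.finrank_eq, Module.finrank_self]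

include hmax hk in
theorem lam_eq_finrank : ∀ (d : ℕ) (X : Type u) [AddCommGroup X] [Module S X] [Module k X]
    [IsScalarTower k S X] [Module.Finite k X],
    (∃ t : ℕ, ∀ a ∈ 𝔪.asIdeal ^ t, ∀ x : X, a • x = 0) → Module.finrank k X = d →
    lam 𝔪 X = d := by
  intro d
  induction d with
  | zero =>
    intro X _ _ _ _ _ _ hd
    haveI : Subsingleton X := Module.finrank_zero_iff.mp hd
    rw [lam_of_subsingleton]
    rfl
  | succ d ih =>
    intro X _ _ _ _ _ ht hd
    classical
    haveI : Nontrivial X := Module.nontrivial_of_finrank_pos (R := k) (by omega)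
    obtain ⟨x, hx⟩ := exists_ne (0 : X)
    -- an element of the socle
    have hex : ∃ j : ℕ, ∀ a ∈ 𝔪.asIdeal ^ j, a • x = 0 := by
      obtain ⟨t, ht'⟩ := ht
      exact ⟨t, fun a ha => ht' a ha x⟩
    have hj0 : Nat.find hex ≠ 0 := by
      intro h0
      have := Nat.find_spec hex
      rw [h0, pow_zero, Ideal.one_eq_top] at this
      exact hx (by simpa using this 1 trivial)
    obtain ⟨j, hj⟩ := Nat.exists_eq_succ_of_ne_zero hj0
    have hjmin : ¬ ∀ a ∈ 𝔪.asIdeal ^ j, a • x = 0 := Nat.find_min hex (by omega)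
    push Not at hjmin
    obtain ⟨a, ha, hay⟩ := hjmin
    set y := a • x with hy
    have hsoc : ∀ b ∈ 𝔪.asIdeal, b • y = 0 := by
      intro b hb
      rw [hy, ← mul_smul]
      apply Nat.find_spec hex
      rw [hj, pow_succ']
      exact Ideal.mul_mem_mul hb ha
    -- the submodule generated by `y`
    let φ : S →ₗ[S] X := LinearMap.toSpanSingleton S X y
    have hker : LinearMap.ker φ = 𝔪.asIdeal := by
      symm
      apply hmax.eq_of_le
      · intro htop
        have h1 : (1 : S) ∈ LinearMap.ker φ := by rw [htop]; trivial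
        rw [LinearMap.mem_ker, LinearMap.toSpanSingleton_apply, one_smul] at h1
        exact hay h1
      · intro b hb
        rw [LinearMap.mem_ker]
        exact hsoc b hb
    let Z : Submodule S X := LinearMap.range φ
    let e : (S ⧸ 𝔪.asIdeal) ≃ₗ[S] Z :=
      (Submodule.quotEquivOfEq _ _ hker.symm).trans (LinearMap.quotKerEquivRange φ)
    have hlamZ : lam 𝔪 Z = 1 := by
      rw [← lam_congr 𝔪 e]
      exact length_localizedModule_quot_self 𝔪
    have hrankZ : Module.finrank k Z = 1 := by
      rw [← (e.restrictScalars k).finrank_eq]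
      exact finrank_quot_self 𝔪 hmax hk
    have hadd := lam_add 𝔪 Z.subtype Z.mkQ (Submodule.subtype_injective _)
      (Submodule.mkQ_surjective _) (by
        rw [LinearMap.exact_iff, Submodule.ker_mkQ, Submodule.range_subtype])
    haveI : Module.Finite k (X ⧸ Z) :=
      Module.Finite.of_surjective ((Z.mkQ).restrictScalars k) (Submodule.mkQ_surjective _)
    have hrankQ : Module.finrank k (X ⧸ Z) = d := by
      have h1 := Submodule.finrank_quotient_add_finrank (Z.restrictScalars k)
      have h2 : Module.finrank k (X ⧸ Z.restrictScalars k) = Module.finrank k (X ⧸ Z) :=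
        (Submodule.Quotient.restrictScalarsEquiv k Z).finrank_eq
      have h3 : Module.finrank k ↥(Z.restrictScalars k) = Module.finrank k Z := rfl
      omega
    have htQ : ∃ t : ℕ, ∀ a ∈ 𝔪.asIdeal ^ t, ∀ x : X ⧸ Z, a • x = 0 := by
      obtain ⟨t, ht'⟩ := ht
      refine ⟨t, fun a ha x => ?_⟩
      obtain ⟨x, rfl⟩ := Submodule.Quotient.mk_surjective _ x
      rw [← Submodule.Quotient.mk_smul, ht' a ha x, Submodule.Quotient.mk_zero]
    rw [hadd, hlamZ, ih (X ⧸ Z) htQ hrankQ]
    push_cast
    ring

end Len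

end Groth.Agent.Lib.Helper11.PDeg
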