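import Mathlib
import Groth.Agent.Lib.Helper11.PDegB
import Groth.Agent.Lib.Helper11.HilbQuotA

/-!
# The Samuel function of a graded quotient of a polynomial ring at the irrelevant ideal (helper11)
-/

set_option autoImplicit false
set_option linter.unusedSectionVars false
set_option linter.unusedVariables false
set_option linter.style.haveILetI false
universe u v

attribute [local instance] MvPolynomial.gradedAlgebra

namespace Groth.Agent.Lib.Helper11.PDeg

open Groth.Agent.Lib.Helper11.NFlat Groth.Agent.Lib.Helper11.HS MvPolynomial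

variable (k : Type u) [Field k] (N : ℕ)

/-- the irrelevant maximal ideal -/
noncomputable def mm : Ideal (MvPolynomial (Fin N) k) := idealOfVars (Fin N) k

theorem mem_mm_iff (f : MvPolynomial (Fin N) k) : f ∈ mm k N ↔ constantCoeff f = 0 := by
  have h := mem_pow_idealOfVars_iff' (σ := Fin N) (R := k) 1 f
  rw [pow_one] at h
  unfold mm
  rw [h]
  constructor
  · intro hf
    exact hf 0 (by simp)
  · intro hf x hx
    have : x = 0 := by
      rw [Nat.lt_one_iff] at hx
      exact (Finsupp.degree_eq_zero_iff x).mp hx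
    rw [this]
    exact hf

theorem mm_eq_ker : mm k N = RingHom.ker (constantCoeff : MvPolynomial (Fin N) k →+* k) := by
  ext f
  rw [mem_mm_iff, RingHom.mem_ker]

instance mm_isMaximal : (mm k N).IsMaximal := by
  rw [mm_eq_ker]
  exact RingHom.ker_isMaximal_of_surjective _ (fun a => ⟨C a, by simp⟩)

theorem algebraMap_quot_mm_surjective :
    Function.Surjective (algebraMap k (MvPolynomial (Fin N) k ⧸ mm k N)) := by
  intro y
  obtain ⟨f, rfl⟩ := Ideal.Quotient.mk_surjective y
  refine ⟨constantCoeff f, ?_⟩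
  rw [IsScalarTower.algebraMap_apply k (MvPolynomial (Fin N) k) (MvPolynomial (Fin N) k ⧸ mm k N),
    Ideal.Quotient.algebraMap_eq, Ideal.Quotient.eq, mem_mm_iff, map_sub, MvPolynomial.algebraMap_eq,
    constantCoeff_C, sub_self]

/-- the irrelevant ideal as a point of the spectrum -/
noncomputable def mmPt : PrimeSpectrum (MvPolynomial (Fin N) k) := ⟨mm k N, (mm_isMaximal k N).isPrime⟩

theorem coe_comp_eq (f : MvPolynomial (Fin N) k) (i : ℕ) :
    (comp (homogeneousSubmodule (Fin N) k) i f : MvPolynomial (Fin N) k) = homogeneousComponent i f :=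
  decomposition.decompose'_apply f i

theorem restrictScalars_pow_mm (t : ℕ) :
    ((mm k N) ^ t).restrictScalars k = tail (homogeneousSubmodule (Fin N) k) t := by
  ext f
  rw [Submodule.restrictScalars_mem, mem_tail]
  unfold mm
  rw [mem_pow_idealOfVars_iff']
  constructor
  · intro h i hi
    apply Subtype.ext
    rw [coe_comp_eq]
    ext x
    rw [coeff_homogeneousComponent]
    split_ifs with hx
    · exact h x (by rw [hx]; exact hi)
    · rfl
  · intro h x hx
    have h1 := h _ hx
    have h2 : (comp (homogeneousSubmodule (Fin N) k) (Finsupp.degree x) f : MvPolynomial (Fin N) k) = 0 := by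
      rw [h1]; rfl
    rw [coe_comp_eq] at h2
    have h3 := congrArg (coeff x) h2
    rwa [coeff_homogeneousComponent, if_pos rfl, coeff_zero] at h3

section Quot

variable (J : Ideal (MvPolynomial (Fin N) k))

/-- the Hilbert function of `S/J` -/
noncomputable def hf (i : ℕ) : ℕ :=
  Module.finrank k ↥(homogeneousSubmodule (Fin N) k i) -
    Module.finrank k ↥(J.restrictScalars k ⊓ homogeneousSubmodule (Fin N) k i)

theorem homog_restrictScalars (hJ : J.IsHomogeneous (homogeneousSubmodule (Fin N) k)) :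
    ∀ v ∈ J.restrictScalars k, ∀ i,
      (comp (homogeneousSubmodule (Fin N) k) i v : MvPolynomial (Fin N) k) ∈ J.restrictScalars k :=
  fun v hv i => hJ i hv

/-- the canonical surjection `S → (S/J)/𝔪ᵗ(S/J)` -/
noncomputable def sqMap (t : ℕ) : MvPolynomial (Fin N) k →ₗ[MvPolynomial (Fin N) k]
    Sq (mm k N) (MvPolynomial (Fin N) k ⧸ J) t :=
  Submodule.mkQ _ ∘ₗ Submodule.mkQ J

theorem sqMap_surjective (t : ℕ) : Function.Surjective (sqMap k N J t) :=
  (Submodule.mkQ_surjective _).comp (Submodule.mkQ_surjective _)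

theorem ker_sqMap (t : ℕ) : LinearMap.ker (sqMap k N J t) = J ⊔ (mm k N) ^ t := by
  unfold sqMap
  rw [LinearMap.ker_comp, Submodule.ker_mkQ]
  have h1 : ((mm k N) ^ t • ⊤ : Submodule (MvPolynomial (Fin N) k) (MvPolynomial (Fin N) k ⧸ J)) =
      Submodule.map (Submodule.mkQ J) ((mm k N) ^ t) := by
    have h2 : (mm k N) ^ t = (mm k N) ^ t • (⊤ : Submodule (MvPolynomial (Fin N) k) (MvPolynomial (Fin N) k)) := by
      rw [smul_eq_mul, Ideal.mul_top]
    conv_rhs => rw [h2]
    rw [Submodule.map_smul'', Submodule.map_top, Submodule.range_mkQ]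
  rw [h1, Submodule.comap_map_eq, Submodule.ker_mkQ, sup_comm]

/-- `(S/J)/𝔪ᵗ(S/J) ≃ S/(J + 𝔪ᵗ)` -/
noncomputable def sqEquiv (t : ℕ) :
    (MvPolynomial (Fin N) k ⧸ (J ⊔ (mm k N) ^ t)) ≃ₗ[MvPolynomial (Fin N) k]
      Sq (mm k N) (MvPolynomial (Fin N) k ⧸ J) t :=
  (Submodule.quotEquivOfEq _ _ (ker_sqMap k N J t).symm).trans
    ((sqMap k N J t).quotKerEquivOfSurjective (sqMap_surjective k N J t))

theorem finrank_quot_sup (hJ : J.IsHomogeneous (homogeneousSubmodule (Fin N) k)) (t : ℕ) :
    Module.Finite k (MvPolynomial (Fin N) k ⧸ (J ⊔ (mm k N) ^ t)) ∧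
    Module.finrank k (MvPolynomial (Fin N) k ⧸ (J ⊔ (mm k N) ^ t)) =
      ∑ i ∈ Finset.range t, hf k N J i := by
  haveI : ∀ i, Module.Finite k ↥(homogeneousSubmodule (Fin N) k i) :=
    fun i => Groth.Agent.Lib.Helper11.HilbQuot.finite_Hd N i
  have h := finrank_trunc (homogeneousSubmodule (Fin N) k) (J.restrictScalars k)
    (homog_restrictScalars k N J hJ) t
  have e : (MvPolynomial (Fin N) k ⧸ (J.restrictScalars k ⊔ tail (homogeneousSubmodule (Fin N) k) t))
      ≃ₗ[k] (MvPolynomial (Fin N) k ⧸ (J ⊔ (mm k N) ^ t)) :=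
    (Submodule.quotEquivOfEq _ _ (by
      rw [Submodule.restrictScalars_sup, restrictScalars_pow_mm])).trans
      (Submodule.Quotient.restrictScalarsEquiv k (J ⊔ (mm k N) ^ t))
  haveI := h.1
  exact ⟨Module.Finite.equiv e, by rw [← e.finrank_eq, h.2]; rfl⟩

theorem lam_Sq (hJ : J.IsHomogeneous (homogeneousSubmodule (Fin N) k)) (t : ℕ) :
    lam (mmPt k N) (Sq (mm k N) (MvPolynomial (Fin N) k ⧸ J) t) =
      ((∑ i ∈ Finset.range t, hf k N J i : ℕ) : ℕ∞) := by
  rw [← lam_congr (mmPt k N) (sqEquiv k N J t)]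
  obtain ⟨h1, h2⟩ := finrank_quot_sup k N J hJ t
  haveI := h1
  refine lam_eq_finrank (mmPt k N) (mm_isMaximal k N) (algebraMap_quot_mm_surjective k N) _ _
    ⟨t, fun a ha x => ?_⟩ h2
  obtain ⟨y, rfl⟩ := Submodule.Quotient.mk_surjective _ x
  rw [← Submodule.Quotient.mk_smul, Submodule.Quotient.mk_eq_zero, smul_eq_mul]
  exact Ideal.mul_mem_right _ _ (Ideal.mem_sup_right ha)

/-- the Samuel function of `(S/J)_𝔪` with respect to `𝔪 S_𝔪` is the sum of the Hilbert function -/
theorem samuel_eq (hJ : J.IsHomogeneous (homogeneousSubmodule (Fin N) k)) (t : ℕ) :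
    samuel ((mm k N).map (algebraMap (MvPolynomial (Fin N) k) (Localization.AtPrime (mm k N))))
      (LocalizedModule (mm k N).primeCompl (MvPolynomial (Fin N) k ⧸ J)) t =
      ((∑ i ∈ Finset.range t, hf k N J i : ℕ) : ℤ) := by
  unfold samuel
  have h := length_Sq_localized (mm k N) (MvPolynomial (Fin N) k ⧸ J) (mmPt k N) t
  rw [lam_Sq k N J hJ t] at h
  have h' : Module.length (Localization.AtPrime (mm k N))
      (LocalizedModule (mm k N).primeCompl (MvPolynomial (Fin N) k ⧸ J) ⧸
        ((mm k N).map (algebraMap (MvPolynomial (Fin N) k) (Localization.AtPrime (mm k N)))) ^ t •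
          (⊤ : Submodule (Localization.AtPrime (mm k N))
            (LocalizedModule (mm k N).primeCompl (MvPolynomial (Fin N) k ⧸ J)))) =
      ((∑ i ∈ Finset.range t, hf k N J i : ℕ) : ℕ∞) := h
  rw [h', ENat.toNat_natCast]

end Quot

end Groth.Agent.Lib.Helper11.PDeg
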