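import Mathlib
import Groth.Agent.Lib.Helper11.PDegC
import Groth.Agent.Lib.Helper11.HSDim
import Groth.Agent.Lib.Helper11.HSExact
import Groth.Agent.S10904

/-!
# The Samuel polynomial of a graded quotient of a polynomial ring at the irrelevant ideal:
relation with the Hilbert polynomial (helper11)
-/

set_option autoImplicit false
set_option linter.unusedSectionVars false
set_option linter.unusedVariables false
set_option linter.style.haveILetI false
universe u v

attribute [local instance] MvPolynomial.gradedAlgebra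

namespace Groth.Agent.Lib.Helper11.PDeg

open Groth.Agent.Lib.Helper11.NFlat Groth.Agent.Lib.Helper11.HS MvPolynomial Polynomial

section Arith

/-- the antidifference of a nonzero polynomial has one more degree, and the same "degree" -/
theorem antidiff (Q P : ℚ[X]) (h : Δ Q = P) (hP : P ≠ 0) :
    Q.natDegree = P.natDegree + 1 ∧
      (Q.natDegree.factorial : ℚ) * Q.leadingCoeff = (P.natDegree.factorial : ℚ) * P.leadingCoeff := by
  have h1 : 1 ≤ Q.natDegree := by
    by_contra hlt
    have h0 : Q.natDegree = 0 := by omega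
    apply hP
    rw [← h, Polynomial.eq_C_of_natDegree_eq_zero h0]
    simp [Δ]
  have h2 := Groth.Agent.S10904.poly_diff Q (-1) (by norm_num) h1
  have h3 : Q - Q.comp (Polynomial.X - Polynomial.C (-1)) = -P := by
    rw [← h]
    unfold Δ
    simp
  rw [h3, Polynomial.natDegree_neg, Polynomial.leadingCoeff_neg] at h2
  obtain ⟨h4, h5⟩ := h2
  refine ⟨h4.symm, ?_⟩
  have h6 : P.leadingCoeff = Q.natDegree * Q.leadingCoeff := by linarith
  rw [h6, ← h4, Nat.factorial_succ]
  push_cast
  ring

end Arith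

variable (k : Type u) [Field k] (N : ℕ) (J : Ideal (MvPolynomial (Fin N) k))

/-- the maximal ideal of the localization at the irrelevant ideal -/
noncomputable abbrev mA : Ideal (Localization.AtPrime (mm k N)) :=
  (mm k N).map (algebraMap (MvPolynomial (Fin N) k) (Localization.AtPrime (mm k N)))

theorem mA_eq : mA k N = IsLocalRing.maximalIdeal (Localization.AtPrime (mm k N)) :=
  Localization.AtPrime.map_eq_maximalIdeal

theorem FL_mm : FL (mA k N) (LocalizedModule (mm k N).primeCompl (MvPolynomial (Fin N) k ⧸ J)) :=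
  FL_of_pow_le _ ⟨1, by rw [pow_one, mA_eq]⟩ _

/-- the Samuel polynomial of `(S/J)_𝔪` -/
noncomputable def SP : ℚ[X] :=
  samuelPoly (mA k N) (LocalizedModule (mm k N).primeCompl (MvPolynomial (Fin N) k ⧸ J))

theorem hf_cast (i : ℕ) : (hf k N J i : ℚ) =
    (Module.finrank k ↥(homogeneousSubmodule (Fin N) k i) : ℚ) -
      Module.finrank k ↥(J.restrictScalars k ⊓ homogeneousSubmodule (Fin N) k i) := by
  haveI : Module.Finite k ↥(homogeneousSubmodule (Fin N) k i) :=
    Groth.Agent.Lib.Helper11.HilbQuot.finite_Hd N i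
  have hle : Module.finrank k ↥(J.restrictScalars k ⊓ homogeneousSubmodule (Fin N) k i) ≤
      Module.finrank k ↥(homogeneousSubmodule (Fin N) k i) :=
    Submodule.finrank_mono inf_le_right
  unfold hf
  rw [Nat.cast_sub hle]

theorem Δ_SP (hJ : J.IsHomogeneous (homogeneousSubmodule (Fin N) k)) (P : ℚ[X])
    (hP : ∃ m₀ : ℕ, ∀ m : ℕ, m₀ ≤ m → P.eval (m : ℚ) =
      (Module.finrank k ↥(homogeneousSubmodule (Fin N) k m) : ℚ) -
        Module.finrank k ↥(J.restrictScalars k ⊓ homogeneousSubmodule (Fin N) k m)) :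
    Δ (SP k N J) = P := by
  obtain ⟨m₀, hm₀⟩ := hP
  obtain ⟨m₁, hm₁⟩ := samuelPoly_spec (mA k N) _ (FL_mm k N J)
  refine Polynomial.eq_of_infinite_eval_eq _ _ ?_
  refine Set.infinite_of_injective_forall_mem (f := fun n : ℕ => ((n + m₀ + m₁ : ℕ) : ℚ)) ?_ ?_
  · intro a b h
    simpa using h
  · intro n
    show (Δ (SP k N J)).eval _ = P.eval _
    rw [Δ_eval, hm₀ _ (by omega), ← hf_cast]
    have e1 := hm₁ (n + m₀ + m₁) (by omega)
    have e2 := hm₁ (n + m₀ + m₁ + 1) (by omega)
    rw [samuel_eq k N J hJ] at e1 e2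
    have e3 : (((n + m₀ + m₁ : ℕ) : ℚ) + 1) = ((n + m₀ + m₁ + 1 : ℕ) : ℚ) := by push_cast; ring
    unfold SP
    rw [e3, ← e1, ← e2, Finset.sum_range_succ]
    push_cast
    ring

theorem natDegree_SP (hJ : J.IsHomogeneous (homogeneousSubmodule (Fin N) k)) (P : ℚ[X])
    (hP0 : P ≠ 0)
    (hP : ∃ m₀ : ℕ, ∀ m : ℕ, m₀ ≤ m → P.eval (m : ℚ) =
      (Module.finrank k ↥(homogeneousSubmodule (Fin N) k m) : ℚ) -
        Module.finrank k ↥(J.restrictScalars k ⊓ homogeneousSubmodule (Fin N) k m)) :
    (SP k N J).natDegree = P.natDegree + 1 ∧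
      ((SP k N J).natDegree.factorial : ℚ) * (SP k N J).leadingCoeff =
        (P.natDegree.factorial : ℚ) * P.leadingCoeff :=
  antidiff _ _ (Δ_SP k N J hJ P hP) hP0

end Groth.Agent.Lib.Helper11.PDeg
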