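import Mathlib
import Groth.Agent.Lib.Helper11.PDegD
import Groth.Agent.Lib.Helper11.GrDim
import Groth.Agent.Helper19.ProjDim

/-!
# Dimension of the affine cone is the height of the irrelevant ideal (helper11)
-/

set_option autoImplicit false
set_option linter.unusedSectionVars false
set_option linter.unusedVariables false
set_option linter.style.haveILetI false
universe u v

namespace Groth.Agent.Lib.Helper11.PDeg

open Groth.Agent.Lib.Helper11.GrHt Groth.Agent.Helper19.ProjDim MvPolynomial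

section General

variable {R : Type u} [CommRing R] [IsNoetherianRing R]

/-- the height of `P/J` is bounded by the heights of `P/𝔭`, `𝔭` minimal over `J` -/
theorem relHt_le_of_minimalPrimes (J : Ideal R) : ∀ (n : ℕ) (P : Ideal R) [P.IsPrime], J ≤ P →
    (∀ 𝔭 ∈ J.minimalPrimes, 𝔭 ≤ P → relHt 𝔭 P ≤ n) → relHt J P ≤ n := by
  intro n
  induction n with
  | zero =>
    intro P _ hJP h
    rw [relHt_le_iff hJP]
    intro q hq hJq hqP
    exfalso
    obtain ⟨𝔭, h𝔭, h𝔭q⟩ := Ideal.exists_minimalPrimes_le hJq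
    haveI := h𝔭.1.1
    have h1 := h 𝔭 h𝔭 (h𝔭q.trans hqP.le)
    have h2 := relHt_add_one_le (J := 𝔭) le_rfl (lt_of_le_of_lt h𝔭q hqP)
    rw [relHt_self] at h2
    have h3 := h2.trans h1
    simp at h3
  | succ n ih =>
    intro P _ hJP h
    rw [relHt_le_iff hJP]
    intro q hq hJq hqP
    have h1 : relHt J q ≤ n := by
      refine ih q hJq fun 𝔭 h𝔭 h𝔭q => ?_
      haveI := h𝔭.1.1
      have h1 := h 𝔭 h𝔭 (h𝔭q.trans hqP.le)
      have h2 := relHt_add_one_le (J := 𝔭) h𝔭q hqP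
      have h3 := h2.trans h1
      have h4 : relHt 𝔭 q ≠ ⊤ := relHt_ne_top h𝔭q
      obtain ⟨m, hm⟩ := ENat.ne_top_iff_exists.mp h4
      rw [← hm] at h3 ⊢
      have h5 : m + 1 ≤ n + 1 := by exact_mod_cast h3
      exact_mod_cast (by omega : m ≤ n)
    refine lt_of_le_of_lt h1 ?_
    exact_mod_cast Nat.lt_succ_self n

end General

section Poly

variable (k : Type u) [Field k] (n : ℕ)

local notation "S" => MvPolynomial (Fin (n + 1)) k

/-- building a chain of primes from a prime `𝔭 ≤ 𝔪` up to `𝔪` of length `dim S/𝔭` -/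
theorem relHt_add_dim_le (J : Ideal S) : ∀ (d : ℕ) (𝔭 : Ideal S) [𝔭.IsPrime], J ≤ 𝔭 →
    𝔭 ≤ mplus k n → ringKrullDim (S ⧸ 𝔭) = ((d : ℕ∞) : WithBot ℕ∞) →
    relHt J 𝔭 + d ≤ relHt J (mplus k n) := by
  intro d
  induction d with
  | zero =>
    intro 𝔭 _ hJ𝔭 h𝔭m _
    rw [Nat.cast_zero, add_zero]
    exact relHt_mono J h𝔭m
  | succ d ih =>
    intro 𝔭 _ hJ𝔭 h𝔭m hdim
    haveI := (mplus_isMaximal k n).isPrime
    have hne : 𝔭 ≠ mplus k n := by
      intro h
      rw [h, ringKrullDim_quotient_mplus] at hdim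
      have : (0 : ℕ∞) = ((d + 1 : ℕ) : ℕ∞) := by exact_mod_cast hdim
      have : (0 : ℕ) = d + 1 := by exact_mod_cast this
      omega
    obtain ⟨f, hfm, hf𝔭⟩ := SetLike.exists_of_lt (lt_of_le_of_ne h𝔭m hne)
    obtain ⟨q, hq, hqm⟩ := exists_minimalPrime_le_mplus k n 𝔭 h𝔭m f hfm
    haveI := hq.1.1
    have h𝔭q : 𝔭 ≤ q := le_sup_left.trans hq.1.2
    have hfq : f ∈ q := hq.1.2 (le_sup_right (a := 𝔭) (Ideal.mem_span_singleton_self f))
    have hlt : 𝔭 < q := lt_of_le_of_ne h𝔭q (fun h => hf𝔭 (h ▸ hfq))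
    have hdrop := dim_drop k n 𝔭 f hf𝔭 q hq
    have hdq : ringKrullDim (S ⧸ q) = ((d : ℕ∞) : WithBot ℕ∞) := by
      apply add_one_cancel_nat
      rw [← hdrop, hdim]
      push_cast
      rfl
    have h1 := ih q (hJ𝔭.trans h𝔭q) hqm hdq
    have h2 := relHt_add_one_le (J := J) hJ𝔭 hlt
    calc relHt J 𝔭 + ((d + 1 : ℕ) : ℕ∞) = (relHt J 𝔭 + 1) + d := by push_cast; ring
      _ ≤ relHt J q + d := by gcongr
      _ ≤ _ := h1

/-- the dimension of the affine cone is the height of the vertex -/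
theorem ringKrullDim_quotient_eq_relHt (J : Ideal S) (hJ : J.IsHomogeneous (CohB1.polyGrading n k))
    (hne : J ≠ ⊤) :
    ringKrullDim (S ⧸ J) = ((relHt J (mplus k n) : ℕ∞) : WithBot ℕ∞) := by
  haveI := (mplus_isMaximal k n).isPrime
  have hJm : J ≤ mplus k n := le_mplus_of_isHomogeneous k n hJ hne
  haveI hprime := Ideal.isPrime_map_quotientMk_of_isPrime hJm
  apply le_antisymm
  · rw [ringKrullDim_le_iff_height_le]
    intro p hp
    have hJP : J ≤ p.comap (Ideal.Quotient.mk J) := by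
      intro x hx
      rw [Ideal.mem_comap, Ideal.Quotient.eq_zero_iff_mem.2 hx]
      exact p.zero_mem
    have hmap : (p.comap (Ideal.Quotient.mk J)).map (Ideal.Quotient.mk J) = p :=
      Ideal.map_comap_of_surjective _ Ideal.Quotient.mk_surjective _
    have hP : (p.comap (Ideal.Quotient.mk J)).IsPrime := Ideal.comap_isPrime _ _
    obtain ⟨m, hm⟩ := ENat.ne_top_iff_exists.mp (relHt_ne_top (J := J) (q := mplus k n) hJm)
    have key : relHt J (p.comap (Ideal.Quotient.mk J)) ≤ m := by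
      refine relHt_le_of_minimalPrimes J m _ hJP fun 𝔭 h𝔭 h𝔭P => ?_
      haveI := h𝔭.1.1
      have h𝔭h : 𝔭.IsHomogeneous (CohB1.polyGrading n k) :=
        isHomogeneous_of_mem_minimalPrimes _ hJ h𝔭
      have h𝔭m : 𝔭 ≤ mplus k n := le_mplus_of_isHomogeneous k n h𝔭h h𝔭.1.1.ne_top
      obtain ⟨d, hd⟩ := exists_dim_nat k n 𝔭 h𝔭.1.1.ne_top
      have h1 := relHt_add_dim_le k n J d 𝔭 h𝔭.1.2 h𝔭m hd
      rw [← hm] at h1
      have hprime' := Ideal.isPrime_map_quotientMk_of_isPrime h𝔭P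
      have h2 : ((relHt 𝔭 (p.comap (Ideal.Quotient.mk J)) : ℕ∞) : WithBot ℕ∞) ≤
          ringKrullDim (S ⧸ 𝔭) := Ideal.height_le_ringKrullDim_of_ne_top hprime'.ne_top
      rw [hd] at h2
      have h3 : relHt 𝔭 (p.comap (Ideal.Quotient.mk J)) ≤ (d : ℕ∞) := by exact_mod_cast h2
      refine h3.trans (le_trans ?_ h1)
      exact le_add_self
    have : p.height = relHt J (p.comap (Ideal.Quotient.mk J)) := by
      unfold relHt
      rw [hmap]
    rw [this, ← hm]
    exact_mod_cast key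
  · exact Ideal.height_le_ringKrullDim_of_ne_top hprime.ne_top

end Poly

end Groth.Agent.Lib.Helper11.PDeg
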