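import Mathlib
import Groth.Agent.Lib.Helper11.PDegE

/-!
# Dimension of the affine cone from the Hilbert polynomial (helper11)
-/

set_option autoImplicit false
set_option linter.unusedSectionVars false
set_option linter.unusedVariables false
set_option linter.style.haveILetI false
universe u v

namespace Groth.Agent.Lib.Helper11.PDeg

open Groth.Agent.Lib.Helper11.GrHt Groth.Agent.Helper19.ProjDim MvPolynomial Polynomial
open Groth.Agent.Lib.Helper11.HS Groth.Agent.Lib.Helper11.NFlat

variable (k : Type u) [Field k] (n : ℕ)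

local notation "S" => MvPolynomial (Fin (n + 1)) k

theorem mm_eq_mplus : mm k (n + 1) = mplus k n := by
  ext f
  rw [mem_mm_iff, mem_mplus_iff]

variable (I : Ideal (MvPolynomial (Fin (n + 1)) k))

/-- the Hilbert polynomial of the unit ideal is zero -/
theorem ne_top_of_ne_zero (P : ℚ[X]) (hP0 : P ≠ 0)
    (hP : ∃ m₀ : ℕ, ∀ m : ℕ, m₀ ≤ m → P.eval (m : ℚ) =
      (Module.finrank k ↥(CohB1.polyGrading n k m) : ℚ) -
        Module.finrank k ↥(Submodule.restrictScalars k I ⊓ CohB1.polyGrading n k m)) : I ≠ ⊤ := by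
  rintro rfl
  apply hP0
  obtain ⟨m₀, hm₀⟩ := hP
  refine Polynomial.eq_of_infinite_eval_eq _ _ ?_
  refine Set.infinite_of_injective_forall_mem (f := fun n : ℕ => ((n + m₀ : ℕ) : ℚ)) ?_ ?_
  · intro a b h
    simpa using h
  · intro j
    show P.eval _ = (0 : ℚ[X]).eval _
    rw [hm₀ _ (by omega), Polynomial.eval_zero]
    have : Submodule.restrictScalars k (⊤ : Ideal S) ⊓ CohB1.polyGrading n k (j + m₀) =
        CohB1.polyGrading n k (j + m₀) := by
      rw [Submodule.restrictScalars_top, top_inf_eq]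
    rw [this, sub_self]

theorem nontrivial_localizedModule (hI : I ≤ mm k (n + 1)) :
    Nontrivial (LocalizedModule (mm k (n + 1)).primeCompl (S ⧸ I)) := by
  have h1 : (mmPt k (n + 1)) ∈ Module.support S (S ⧸ I) := by
    rw [Module.support_eq_zeroLocus, Ideal.annihilator_quotient, PrimeSpectrum.mem_zeroLocus]
    exact hI
  exact Module.mem_support_iff.mp h1

/-- the dimension of `(S/I)_𝔪` is the dimension of `S/I` -/
theorem supportDim_eq (hIh : I.IsHomogeneous (CohB1.polyGrading n k)) (hne : I ≠ ⊤) :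
    Module.supportDim (Localization.AtPrime (mm k (n + 1)))
      (LocalizedModule (mm k (n + 1)).primeCompl (S ⧸ I)) = ringKrullDim (S ⧸ I) := by
  have hIm : I ≤ mm k (n + 1) := by
    rw [mm_eq_mplus]
    exact le_mplus_of_isHomogeneous k n hIh hne
  rw [Groth.Agent.Lib.Helper11.GrDim.supportDim_localization_eq_relHt (mm k (n + 1)) (S ⧸ I)
    (by rw [Ideal.annihilator_quotient]; exact hIm), Ideal.annihilator_quotient,
    ringKrullDim_quotient_eq_relHt k n I hIh hne, mm_eq_mplus]

/-- the degree of the Samuel polynomial is the dimension of `S/I` -/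
theorem natDegree_SP_eq_dim (hIh : I.IsHomogeneous (CohB1.polyGrading n k)) (hne : I ≠ ⊤) :
    ((SP k (n + 1) I).natDegree : WithBot ℕ∞) = ringKrullDim (S ⧸ I) := by
  have hIm : I ≤ mm k (n + 1) := by
    rw [mm_eq_mplus]
    exact le_mplus_of_isHomogeneous k n hIh hne
  haveI := nontrivial_localizedModule k n I hIm
  rw [← supportDim_eq k n I hIh hne]
  unfold SP
  refine natDegree_samuelPoly_eq_supportDim (mA k (n + 1)) ?_ _ (FL_mm k (n + 1) I)
  rw [mA_eq]
  exact maximalIdeal_le_ringJacobson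

/-- **dimension of the affine cone**: `dim S/I = deg P + 1`. -/
theorem ringKrullDim_eq (hIh : I.IsHomogeneous (CohB1.polyGrading n k)) (P : ℚ[X]) (hP0 : P ≠ 0)
    (hP : ∃ m₀ : ℕ, ∀ m : ℕ, m₀ ≤ m → P.eval (m : ℚ) =
      (Module.finrank k ↥(CohB1.polyGrading n k m) : ℚ) -
        Module.finrank k ↥(Submodule.restrictScalars k I ⊓ CohB1.polyGrading n k m)) :
    ringKrullDim (S ⧸ I) = (P.natDegree : WithBot ℕ∞) + 1 := by
  have hne := ne_top_of_ne_zero k n I P hP0 hP
  rw [← natDegree_SP_eq_dim k n I hIh hne, (natDegree_SP k (n + 1) I hIh P hP0 hP).1]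
  push_cast
  rfl

end Groth.Agent.Lib.Helper11.PDeg
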