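import Mathlib
import Groth.Agent.Lib.Helper11.PDegF
import Groth.Agent.Lib.Helper11.LocLoc
import Groth.Agent.Lib.Helper11.HSMult
import Groth.Agent.S12212

/-!
# The associativity formula for the degree of a projective scheme: local algebra (helper11)
-/

set_option autoImplicit false
set_option linter.unusedSectionVars false
set_option linter.unusedVariables false
set_option linter.style.haveILetI false
universe u v

namespace Groth.Agent.Lib.Helper11.PDeg

open Groth.Agent.Lib.Helper11.GrHt Groth.Agent.Helper19.ProjDim MvPolynomial Polynomial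
open Groth.Agent.Lib.Helper11.HS Groth.Agent.Lib.Helper11.NFlat Filter Topology

section Loc

variable {R : Type u} [CommRing R] (𝔪 : Ideal R) [𝔪.IsPrime] (𝔭 : Ideal R)

/-- `R_𝔪 / 𝔭 R_𝔪` is the localization of `R/𝔭` -/
noncomputable def quotEquiv :
    (Localization.AtPrime 𝔪 ⧸ 𝔭.map (algebraMap R (Localization.AtPrime 𝔪))) ≃ₗ[Localization.AtPrime 𝔪]
      LocalizedModule 𝔪.primeCompl (R ⧸ 𝔭) := by
  haveI h1 : IsLocalization (Algebra.algebraMapSubmonoid (R ⧸ 𝔭) 𝔪.primeCompl)
      (Localization.AtPrime 𝔪 ⧸ 𝔭.map (algebraMap R (Localization.AtPrime 𝔪))) := inferInstance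
  haveI h2 : IsLocalizedModule 𝔪.primeCompl (IsScalarTower.toAlgHom R (R ⧸ 𝔭)
      (Localization.AtPrime 𝔪 ⧸ 𝔭.map (algebraMap R (Localization.AtPrime 𝔪)))).toLinearMap :=
    isLocalizedModule_iff_isLocalization.mpr h1
  exact ((IsLocalizedModule.iso 𝔪.primeCompl (IsScalarTower.toAlgHom R (R ⧸ 𝔭)
      (Localization.AtPrime 𝔪 ⧸ 𝔭.map (algebraMap R (Localization.AtPrime 𝔪)))).toLinearMap).extendScalarsOfIsLocalization
        𝔪.primeCompl (Localization.AtPrime 𝔪)).symm

end Loc

section General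

variable {A : Type u} [CommRing A] [IsNoetherianRing A] (I : Ideal A)

theorem samuel_congr {X Y : Type u} [AddCommGroup X] [Module A X] [Module.Finite A X]
    [AddCommGroup Y] [Module A Y] [Module.Finite A Y] (e : X ≃ₗ[A] Y) :
    samuel I X = samuel I Y := by
  funext t
  unfold samuel
  have := length_Sq_congr I e t
  unfold Sq at this
  rw [this]

theorem samuelPoly_congr {X Y : Type u} [AddCommGroup X] [Module A X] [Module.Finite A X]
    [AddCommGroup Y] [Module A Y] [Module.Finite A Y] (e : X ≃ₗ[A] Y) :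
    samuelPoly I X = samuelPoly I Y := by
  unfold samuelPoly
  rw [samuel_congr I e]

variable [IsLocalRing A]

theorem tendsto_of_natDegree_eq
    (hI : I ≤ IsLocalRing.maximalIdeal A ∧ ∃ n : ℕ, IsLocalRing.maximalIdeal A ^ n ≤ I)
    (X : Type u) [AddCommGroup X] [Module A X] [Module.Finite A X] (d : ℕ)
    (h : (samuelPoly I X).natDegree = d) :
    Tendsto (fun t : ℕ => (d.factorial : ℝ) *
      ((Module.length A (X ⧸ (I ^ t • (⊤ : Submodule A X)))).toNat : ℝ) / (t : ℝ) ^ d)
      atTop (𝓝 ((d.factorial : ℝ) * (((samuelPoly I X).leadingCoeff : ℚ) : ℝ))) := by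
  have hFL : FL I X := FL_of_pow_le I hI.2 X
  obtain ⟨N₀, hN₀⟩ := samuelPoly_spec I X hFL
  have h0 := (tendsto_eval_div_pow_leadingCoeff (samuelPoly I X) d h).const_mul (d.factorial : ℝ)
  refine h0.congr' ?_
  filter_upwards [eventually_ge_atTop N₀] with t ht
  have := hN₀ t ht
  unfold samuel at this
  rw [mul_div_assoc]
  congr 2
  have h2 : (((Module.length A (Sq I X t)).toNat : ℤ) : ℚ) = (samuelPoly I X).eval (t : ℚ) := this
  rw [← h2]
  push_cast
  rfl

end General

end Groth.Agent.Lib.Helper11.PDeg
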