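import Mathlib
import Groth.Agent.Lib.Helper11.LDegA
import Groth.Agent.Lib.Helper11.LinkCM2
import Groth.Agent.Lib.Helper11.PDegG
import Groth.Agent.Lib.Helper16.Liaison8

/-!
# Lengths of linked ideals at a minimal prime of a Gorenstein ideal (helper11)
-/

set_option autoImplicit false
set_option linter.unusedSectionVars false
set_option linter.unusedVariables false
set_option linter.style.haveILetI false
universe u

namespace Groth.Agent.Lib.Helper11.LDeg

open IsLocalRing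

section Quot

variable {R' : Type u} [CommRing R'] (𝔠' : Ideal R')

/-- lengths of quotients by ideals containing `𝔠'` can be computed in `R'/𝔠'` -/
theorem length_quot_map (K' : Ideal R') (h : 𝔠' ≤ K') :
    Module.length (R' ⧸ 𝔠') ((R' ⧸ 𝔠') ⧸ K'.map (Ideal.Quotient.mk 𝔠')) =
      Module.length R' (R' ⧸ K') := by
  rw [← Module.length_eq_of_surjective (S := R') (R := R' ⧸ 𝔠')
    (M := (R' ⧸ 𝔠') ⧸ K'.map (Ideal.Quotient.mk 𝔠')) Ideal.Quotient.mk_surjective]
  let g : R' →ₗ[R'] ((R' ⧸ 𝔠') ⧸ K'.map (Ideal.Quotient.mk 𝔠')) :=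
    ((Submodule.mkQ (K'.map (Ideal.Quotient.mk 𝔠'))).restrictScalars R').comp (Submodule.mkQ 𝔠')
  have hg : Function.Surjective g :=
    (Submodule.mkQ_surjective _).comp (Submodule.mkQ_surjective _)
  have hker : LinearMap.ker g = K' := by
    ext x
    rw [LinearMap.mem_ker]
    show Submodule.Quotient.mk (Submodule.Quotient.mk x) = 0 ↔ _
    rw [Submodule.Quotient.mk_eq_zero]
    show Ideal.Quotient.mk 𝔠' x ∈ K'.map (Ideal.Quotient.mk 𝔠') ↔ _
    rw [← Ideal.mem_comap, Ideal.comap_map_of_surjective _ Ideal.Quotient.mk_surjective,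
      ← RingHom.ker_eq_comap_bot, Ideal.mk_ker, sup_eq_left.mpr h]
  exact ((Submodule.quotEquivOfEq _ _ hker.symm).trans
    (g.quotKerEquivOfSurjective hg)).symm.length_eq

theorem length_quot_self :
    Module.length (R' ⧸ 𝔠') (R' ⧸ 𝔠') = Module.length R' (R' ⧸ 𝔠') :=
  (Module.length_eq_of_surjective (S := R') (R := R' ⧸ 𝔠') (M := R' ⧸ 𝔠')
    Ideal.Quotient.mk_surjective).symm

theorem ann_map (I' : Ideal R') :
    ann (I'.map (Ideal.Quotient.mk 𝔠')) =
      (𝔠'.colon (I' : Set R')).map (Ideal.Quotient.mk 𝔠') := by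
  ext y
  obtain ⟨x, rfl⟩ := Ideal.Quotient.mk_surjective y
  rw [mem_ann]
  constructor
  · intro h
    apply Ideal.mem_map_of_mem
    rw [Submodule.mem_colon]
    intro a ha
    have := h _ (Ideal.mem_map_of_mem (Ideal.Quotient.mk 𝔠') ha)
    rw [← map_mul, Ideal.Quotient.eq_zero_iff_mem] at this
    rw [smul_eq_mul, mul_comm]
    exact this
  · intro h b hb
    rw [Ideal.mem_map_iff_of_surjective _ Ideal.Quotient.mk_surjective] at h hb
    obtain ⟨x', hx', hxx'⟩ := h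
    obtain ⟨a, ha, rfl⟩ := hb
    rw [← hxx', ← map_mul, Ideal.Quotient.eq_zero_iff_mem]
    rw [Submodule.mem_colon] at hx'
    have := hx' a ha
    rwa [smul_eq_mul, mul_comm] at this

variable [IsLocalRing R'] [IsNoetherianRing R']

/-- **duality** in a local ring modulo a zero-dimensional Gorenstein ideal -/
theorem length_add_length_colon [Nontrivial (R' ⧸ 𝔠')]
    (hG : LocCoh.IsGorensteinLocalRing (R' ⧸ 𝔠')) (hdim : ringKrullDim (R' ⧸ 𝔠') = 0)
    (I' : Ideal R') (h : 𝔠' ≤ I') :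
    Module.length R' (R' ⧸ I') + Module.length R' (R' ⧸ 𝔠'.colon (I' : Set R')) =
      Module.length R' (R' ⧸ 𝔠') := by
  haveI : IsLocalRing (R' ⧸ 𝔠') := hG.toIsLocalRing
  have h1 := length_quot_add_length_quot_ann (R' ⧸ 𝔠') hG hdim (I'.map (Ideal.Quotient.mk 𝔠'))
  have hle : 𝔠' ≤ 𝔠'.colon (I' : Set R') := by
    intro x hx
    rw [Submodule.mem_colon]
    intro a ha
    rw [smul_eq_mul]
    exact 𝔠'.mul_mem_right _ hx
  rw [ann_map, length_quot_map 𝔠' I' h, length_quot_map 𝔠' _ hle, length_quot_self] at h1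
  exact h1

end Quot

section Glob

variable {R : Type u} [CommRing R] [IsNoetherianRing R] (𝔠 I : Ideal R)

theorem length_localizedModule_quot (𝔭 : Ideal R) [𝔭.IsPrime] (K : Ideal R) :
    Module.length (Localization.AtPrime 𝔭) (LocalizedModule 𝔭.primeCompl (R ⧸ K)) =
      Module.length (Localization.AtPrime 𝔭)
        (Localization.AtPrime 𝔭 ⧸ K.map (algebraMap R (Localization.AtPrime 𝔭))) :=
  (Groth.Agent.Lib.Helper11.PDeg.quotEquiv 𝔭 K).symm.length_eq

/-- at a minimal prime `𝔭` of a Gorenstein ideal `𝔠 ≤ I`: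
`ℓ((R/I)_𝔭) + ℓ((R/(𝔠:I))_𝔭) = ℓ((R/𝔠)_𝔭)` -/
theorem length_add_length_colon_at [hG : LocCoh.IsGorensteinRing (R ⧸ 𝔠)] (h𝔠I : 𝔠 ≤ I)
    (𝔭 : Ideal R) [𝔭.IsPrime] (h𝔭 : 𝔭 ∈ 𝔠.minimalPrimes) :
    Module.length (Localization.AtPrime 𝔭) (LocalizedModule 𝔭.primeCompl (R ⧸ I)) +
      Module.length (Localization.AtPrime 𝔭)
        (LocalizedModule 𝔭.primeCompl (R ⧸ 𝔠.colon (I : Set R))) =
      Module.length (Localization.AtPrime 𝔭) (LocalizedModule 𝔭.primeCompl (R ⧸ 𝔠)) := by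
  have h𝔠𝔭 : 𝔠 ≤ 𝔭 := h𝔭.1.2
  have hGl := Groth.Agent.Lib.Helper16.Liaison.gor_quot_map 𝔠 𝔭 h𝔠𝔭
  haveI : IsLocalRing (Localization.AtPrime 𝔭 ⧸ 𝔠.map (algebraMap R (Localization.AtPrime 𝔭))) :=
    hGl.toIsLocalRing
  have hdim : ringKrullDim
      (Localization.AtPrime 𝔭 ⧸ 𝔠.map (algebraMap R (Localization.AtPrime 𝔭))) = 0 := by
    rw [Groth.Agent.Lib.Helper11.GrDim.ringKrullDim_quotient_map_atPrime 𝔠 𝔭 h𝔠𝔭]
    have hsurj : Function.Surjective (Ideal.Quotient.mk 𝔠) := Ideal.Quotient.mk_surjective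
    have hpmin : 𝔭.map (Ideal.Quotient.mk 𝔠) ∈ minimalPrimes (R ⧸ 𝔠) := by
      have h1 := Ideal.minimalPrimes_map_of_surjective hsurj 𝔠
      rw [Ideal.mk_ker, sup_idem, Ideal.map_quotient_self] at h1
      change 𝔭.map (Ideal.Quotient.mk 𝔠) ∈ (⊥ : Ideal (R ⧸ 𝔠)).minimalPrimes
      rw [h1]
      exact ⟨𝔭, h𝔭, rfl⟩
    haveI := hpmin.1.1
    rw [Ideal.height_eq_zero_iff.mpr hpmin]
    rfl
  rw [length_localizedModule_quot, length_localizedModule_quot, length_localizedModule_quot,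
    Groth.Agent.Lib.Helper11.LinkCM.map_colon 𝔭.primeCompl (Localization.AtPrime 𝔭) 𝔠 I]
  exact length_add_length_colon _ hGl hdim _ (Ideal.map_mono h𝔠I)

end Glob

end Groth.Agent.Lib.Helper11.LDeg
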