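import Mathlib
import Groth.Agent.Lib.Helper11.PDegG

/-!
# The associativity formula for the degree of a projective scheme, in terms of Samuel polynomials
(helper11)
-/

set_option autoImplicit false
set_option linter.unusedSectionVars false
set_option linter.unusedVariables false
set_option linter.style.haveILetI false
universe u v

namespace Groth.Agent.Lib.Helper11.PDeg

open Groth.Agent.Lib.Helper11.GrHt Groth.Agent.Helper19.ProjDim MvPolynomial Polynomial
open Groth.Agent.Lib.Helper11.HS Groth.Agent.Lib.Helper11.NFlat Filter Topology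

variable (k : Type u) [Field k] (n : ℕ)

/-- a prime `𝔭 ≤ 𝔪` as a point of `Spec S_𝔪` -/
noncomputable def phi (𝔭 : Ideal (MvPolynomial (Fin (n + 1)) k)) [𝔭.IsPrime] (h : 𝔭 ≤ mm k (n + 1)) :
    PrimeSpectrum (Localization.AtPrime (mm k (n + 1))) :=
  ⟨𝔭.map (algebraMap _ _), Ideal.isPrime_map_of_isLocalizationAtPrime (mm k (n + 1)) h⟩

theorem comap_phi (𝔭 : Ideal (MvPolynomial (Fin (n + 1)) k)) [𝔭.IsPrime] (h : 𝔭 ≤ mm k (n + 1)) :
    (phi k n 𝔭 h).asIdeal.comap (algebraMap (MvPolynomial (Fin (n + 1)) k) _) = 𝔭 :=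
  Ideal.under_map_of_isLocalizationAtPrime (mm k (n + 1)) h

theorem comap_le_mm (x : PrimeSpectrum (Localization.AtPrime (mm k (n + 1)))) :
    x.asIdeal.comap (algebraMap (MvPolynomial (Fin (n + 1)) k) _) ≤ mm k (n + 1) := by
  have h1 : x.asIdeal ≤ IsLocalRing.maximalIdeal (Localization.AtPrime (mm k (n + 1))) :=
    IsLocalRing.le_maximalIdeal x.isPrime.ne_top
  have h2 := Ideal.comap_mono (f := algebraMap (MvPolynomial (Fin (n + 1)) k)
    (Localization.AtPrime (mm k (n + 1)))) h1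
  have h3 := IsLocalization.AtPrime.comap_maximalIdeal (Localization.AtPrime (mm k (n + 1)))
    (mm k (n + 1))
  exact h2.trans (le_of_eq h3)

theorem phi_comap (x : PrimeSpectrum (Localization.AtPrime (mm k (n + 1)))) :
    haveI : (x.asIdeal.comap (algebraMap (MvPolynomial (Fin (n + 1)) k) _)).IsPrime :=
      Ideal.comap_isPrime _ _
    phi k n (x.asIdeal.comap (algebraMap (MvPolynomial (Fin (n + 1)) k) _)) (comap_le_mm k n x) = x := by
  apply PrimeSpectrum.ext
  exact IsLocalization.map_under (mm k (n + 1)).primeCompl _ x.asIdeal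

variable (I : Ideal (MvPolynomial (Fin (n + 1)) k))

theorem annihilator_Mm :
    Module.annihilator (Localization.AtPrime (mm k (n + 1)))
      (LocalizedModule (mm k (n + 1)).primeCompl (MvPolynomial (Fin (n + 1)) k ⧸ I)) =
      I.map (algebraMap _ _) := by
  have := Groth.Agent.Lib.Helper11.GrDim.annihilator_localizedModule (mm k (n + 1)).primeCompl
    (MvPolynomial (Fin (n + 1)) k ⧸ I)
  rw [Ideal.annihilator_quotient] at this
  exact this

theorem mem_support_iff (x : PrimeSpectrum (Localization.AtPrime (mm k (n + 1)))) :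
    x ∈ Module.support (Localization.AtPrime (mm k (n + 1)))
      (LocalizedModule (mm k (n + 1)).primeCompl (MvPolynomial (Fin (n + 1)) k ⧸ I)) ↔
      I ≤ x.asIdeal.comap (algebraMap (MvPolynomial (Fin (n + 1)) k) _) := by
  rw [Module.mem_support_iff_of_finite, annihilator_Mm, Ideal.map_le_iff_le_comap]

/-- the dimension of `S_𝔪/𝔭S_𝔪` for `𝔭` homogeneous -/
theorem ringKrullDim_quot_phi (𝔭 : Ideal (MvPolynomial (Fin (n + 1)) k)) [𝔭.IsPrime]
    (h𝔭 : 𝔭.IsHomogeneous (CohB1.polyGrading n k)) :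
    ringKrullDim (Localization.AtPrime (mm k (n + 1)) ⧸
      𝔭.map (algebraMap (MvPolynomial (Fin (n + 1)) k) (Localization.AtPrime (mm k (n + 1))))) =
    ringKrullDim (MvPolynomial (Fin (n + 1)) k ⧸ 𝔭) := by
  have hne : 𝔭 ≠ ⊤ := Ideal.IsPrime.ne_top inferInstance
  have hle : 𝔭 ≤ mm k (n + 1) := by
    rw [mm_eq_mplus]
    exact le_mplus_of_isHomogeneous k n h𝔭 hne
  rw [Groth.Agent.Lib.Helper11.GrDim.ringKrullDim_quotient_map_atPrime 𝔭 (mm k (n + 1)) hle,
    ringKrullDim_quotient_eq_relHt k n 𝔭 h𝔭 hne, mm_eq_mplus]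
  rfl

theorem SP_eq_samuelPoly_quot (𝔭 : Ideal (MvPolynomial (Fin (n + 1)) k)) :
    samuelPoly (mA k (n + 1)) (Localization.AtPrime (mm k (n + 1)) ⧸
      𝔭.map (algebraMap (MvPolynomial (Fin (n + 1)) k) (Localization.AtPrime (mm k (n + 1))))) =
    SP k (n + 1) 𝔭 :=
  samuelPoly_congr _ (quotEquiv (mm k (n + 1)) 𝔭)

end Groth.Agent.Lib.Helper11.PDeg
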