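import Mathlib
import Groth.Agent.Lib.Helper11.PDegH

/-!
# The associativity formula for the degree of a projective scheme, core statement (helper11)
-/

set_option autoImplicit false
set_option linter.unusedSectionVars false
set_option linter.unusedVariables false
set_option linter.style.haveILetI false
universe u v

namespace Groth.Agent.Lib.Helper11.PDeg

open Groth.Agent.Lib.Helper11.GrHt Groth.Agent.Helper19.ProjDim MvPolynomial Polynomial
open Groth.Agent.Lib.Helper11.HS Groth.Agent.Lib.Helper11.NFlat Filter Topology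

variable (k : Type u) [Field k] (n : ℕ) (I : Ideal (MvPolynomial (Fin (n + 1)) k))

/-- a point of the support of `(S/I)_𝔪` of maximal dimension comes from a minimal prime of `I` -/
theorem comap_mem_minimalPrimes (hIh : I.IsHomogeneous (CohB1.polyGrading n k)) (hne : I ≠ ⊤)
    (x : PrimeSpectrum (Localization.AtPrime (mm k (n + 1))))
    (hx : x ∈ Module.support (Localization.AtPrime (mm k (n + 1)))
      (LocalizedModule (mm k (n + 1)).primeCompl (MvPolynomial (Fin (n + 1)) k ⧸ I)))
    (hdim : ringKrullDim (Localization.AtPrime (mm k (n + 1)) ⧸ x.asIdeal) =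
      ((SP k (n + 1) I).natDegree : WithBot ℕ∞)) :
    x.asIdeal.comap (algebraMap (MvPolynomial (Fin (n + 1)) k) _) ∈ I.minimalPrimes := by
  have hd : Module.supportDim (Localization.AtPrime (mm k (n + 1)))
      (LocalizedModule (mm k (n + 1)).primeCompl (MvPolynomial (Fin (n + 1)) k ⧸ I)) ≤
      ((SP k (n + 1) I).natDegree : WithBot ℕ∞) := by
    rw [supportDim_eq k n I hIh hne, natDegree_SP_eq_dim k n I hIh hne]
  have hmin := eq_of_mem_support_of_le _ _ hd x hdim
  refine ⟨⟨Ideal.comap_isPrime _ _, (mem_support_iff k n I x).mp hx⟩, ?_⟩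
  rintro Q ⟨hQprime, hIQ⟩ hQle
  haveI := hQprime
  have hQm : Q ≤ mm k (n + 1) := hQle.trans (comap_le_mm k n x)
  have h1 : phi k n Q hQm ∈ Module.support (Localization.AtPrime (mm k (n + 1)))
      (LocalizedModule (mm k (n + 1)).primeCompl (MvPolynomial (Fin (n + 1)) k ⧸ I)) := by
    rw [mem_support_iff, comap_phi]
    exact hIQ
  have h2 : phi k n Q hQm ≤ x := by
    show Q.map _ ≤ x.asIdeal
    rw [Ideal.map_le_iff_le_comap]
    exact hQle
  have h3 := hmin _ h1 h2
  rw [← h3, comap_phi]

/-- **associativity formula** in terms of Samuel polynomials at the vertex of the cone -/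
theorem core (hIh : I.IsHomogeneous (CohB1.polyGrading n k)) (hne : I ≠ ⊤)
    (r : ℕ) (p : Fin r → Ideal (MvPolynomial (Fin (n + 1)) k)) [hp : ∀ i, (p i).IsPrime]
    (hpinj : Function.Injective p)
    (hpmin : ∀ q : Ideal (MvPolynomial (Fin (n + 1)) k), q ∈ I.minimalPrimes ↔ ∃ i, q = p i) :
    (((SP k (n + 1) I).natDegree.factorial : ℝ)) * (((SP k (n + 1) I).leadingCoeff : ℚ) : ℝ) =
      ∑ i : Fin r, if (SP k (n + 1) (p i)).natDegree = (SP k (n + 1) I).natDegree then
        (((Module.length (Localization.AtPrime (p i))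
          (LocalizedModule (p i).primeCompl (MvPolynomial (Fin (n + 1)) k ⧸ I))).toNat : ℝ)) *
        (((SP k (n + 1) I).natDegree.factorial : ℝ) *
          (((SP k (n + 1) (p i)).leadingCoeff : ℚ) : ℝ))
      else 0 := by
  classical
  set D := (SP k (n + 1) I).natDegree with hD
  -- basic facts on the minimal primes
  have hmem : ∀ i, p i ∈ I.minimalPrimes := fun i => (hpmin _).mpr ⟨i, rfl⟩
  have hhom : ∀ i, (p i).IsHomogeneous (CohB1.polyGrading n k) := fun i =>
    isHomogeneous_of_mem_minimalPrimes _ hIh (hmem i)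
  have hle : ∀ i, p i ≤ mm k (n + 1) := fun i => by
    rw [mm_eq_mplus]
    exact le_mplus_of_isHomogeneous k n (hhom i) (hp i).ne_top
  have hdimi : ∀ i, ringKrullDim (Localization.AtPrime (mm k (n + 1)) ⧸ (phi k n (p i) (hle i)).asIdeal) =
      ((SP k (n + 1) (p i)).natDegree : WithBot ℕ∞) := fun i => by
    rw [natDegree_SP_eq_dim k n (p i) (hhom i) (hp i).ne_top]
    exact ringKrullDim_quot_phi k n (p i) (hhom i)
  -- the local ring
  have hI : mA k (n + 1) ≤ IsLocalRing.maximalIdeal (Localization.AtPrime (mm k (n + 1))) ∧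
      ∃ m : ℕ, IsLocalRing.maximalIdeal (Localization.AtPrime (mm k (n + 1))) ^ m ≤ mA k (n + 1) :=
    ⟨le_of_eq (mA_eq k (n + 1)), 1, by rw [pow_one, mA_eq]⟩
  have hd : Module.supportDim (Localization.AtPrime (mm k (n + 1)))
      (LocalizedModule (mm k (n + 1)).primeCompl (MvPolynomial (Fin (n + 1)) k ⧸ I)) ≤
      ((D : ℕ) : WithBot ℕ∞) := by
    rw [supportDim_eq k n I hIh hne, hD, natDegree_SP_eq_dim k n I hIh hne]
  let e : PrimeSpectrum (Localization.AtPrime (mm k (n + 1))) → ℝ := fun x =>
    (D.factorial : ℝ) * (((samuelPoly (mA k (n + 1))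
      (Localization.AtPrime (mm k (n + 1)) ⧸ x.asIdeal)).leadingCoeff : ℚ) : ℝ)
  have he : ∀ x : PrimeSpectrum (Localization.AtPrime (mm k (n + 1))),
      ringKrullDim (Localization.AtPrime (mm k (n + 1)) ⧸ x.asIdeal) = D →
      Tendsto (fun t : ℕ => (D.factorial : ℝ) *
        ((Module.length (Localization.AtPrime (mm k (n + 1)))
          ((Localization.AtPrime (mm k (n + 1)) ⧸ x.asIdeal) ⧸ ((mA k (n + 1)) ^ t •
            (⊤ : Submodule (Localization.AtPrime (mm k (n + 1)))
              (Localization.AtPrime (mm k (n + 1)) ⧸ x.asIdeal))))).toNat : ℝ) / (t : ℝ) ^ D)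
        atTop (𝓝 (e x)) := by
    intro x hx
    refine tendsto_of_natDegree_eq (mA k (n + 1)) hI _ D ?_
    haveI : Nontrivial (Localization.AtPrime (mm k (n + 1)) ⧸ x.asIdeal) :=
      Ideal.Quotient.nontrivial_iff.mpr x.isPrime.ne_top
    have h1 := natDegree_samuelPoly_eq_supportDim (mA k (n + 1))
      (by rw [mA_eq]; exact maximalIdeal_le_ringJacobson)
      (Localization.AtPrime (mm k (n + 1)) ⧸ x.asIdeal) (FL_of_pow_le _ hI.2 _)
    rw [Module.supportDim_quotient_eq_ringKrullDim, hx] at h1
    exact_mod_cast h1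
  have key := Groth.Agent.S12212.result (Localization.AtPrime (mm k (n + 1))) (mA k (n + 1)) hI
    (LocalizedModule (mm k (n + 1)).primeCompl (MvPolynomial (Fin (n + 1)) k ⧸ I)) D hd e he
  have key2 := tendsto_of_natDegree_eq (mA k (n + 1)) hI
    (LocalizedModule (mm k (n + 1)).primeCompl (MvPolynomial (Fin (n + 1)) k ⧸ I)) D rfl
  have heq := tendsto_nhds_unique key2 key
  have hSP : samuelPoly (mA k (n + 1))
      (LocalizedModule (mm k (n + 1)).primeCompl (MvPolynomial (Fin (n + 1)) k ⧸ I)) =
      SP k (n + 1) I := rfl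
  rw [hSP] at heq
  rw [heq]
  -- convert the finsum
  set F : PrimeSpectrum (Localization.AtPrime (mm k (n + 1))) → ℝ := fun x =>
    ∑ᶠ (_ : ringKrullDim (Localization.AtPrime (mm k (n + 1)) ⧸ x.asIdeal) = D),
      ((Module.length (Localization.AtPrime x.asIdeal) (LocalizedModule x.asIdeal.primeCompl
        (LocalizedModule (mm k (n + 1)).primeCompl (MvPolynomial (Fin (n + 1)) k ⧸ I)))).toNat : ℝ) *
        e x with hF
  have hFval : ∀ x, F x = if ringKrullDim (Localization.AtPrime (mm k (n + 1)) ⧸ x.asIdeal) = D then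
      ((Module.length (Localization.AtPrime x.asIdeal) (LocalizedModule x.asIdeal.primeCompl
        (LocalizedModule (mm k (n + 1)).primeCompl (MvPolynomial (Fin (n + 1)) k ⧸ I)))).toNat : ℝ) *
        e x else 0 := fun x => by
    rw [hF]
    exact finsum_eq_if
  let φ : Fin r → PrimeSpectrum (Localization.AtPrime (mm k (n + 1))) := fun i =>
    phi k n (p i) (hle i)
  have hφinj : Function.Injective φ := by
    intro i j hij
    apply hpinj
    rw [← comap_phi k n (p i) (hle i), ← comap_phi k n (p j) (hle j)]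
    show (φ i).asIdeal.comap _ = (φ j).asIdeal.comap _
    rw [hij]
  have hsupp : Function.support F ⊆
      ↑(Finset.image φ (Finset.univ.filter fun i => (SP k (n + 1) (p i)).natDegree = D)) := by
    intro x hx
    rw [Function.mem_support, hFval] at hx
    have hdim : ringKrullDim (Localization.AtPrime (mm k (n + 1)) ⧸ x.asIdeal) = D := by
      by_contra h
      rw [if_neg h] at hx
      exact hx rfl
    rw [if_pos hdim] at hx
    have hxs : x ∈ Module.support (Localization.AtPrime (mm k (n + 1)))
        (LocalizedModule (mm k (n + 1)).primeCompl (MvPolynomial (Fin (n + 1)) k ⧸ I)) := by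
      by_contra h
      rw [Module.notMem_support_iff] at h
      apply hx
      rw [Module.length_eq_zero_iff.2 h]
      simp
    have hmin := comap_mem_minimalPrimes k n I hIh hne x hxs hdim
    obtain ⟨i, hi⟩ := (hpmin _).mp hmin
    have hxi : φ i = x := by
      rw [← phi_comap k n x]
      show phi k n (p i) (hle i) = _
      congr 1
      exact hi.symm
    rw [Finset.coe_image]
    refine ⟨i, ?_, hxi⟩
    rw [Finset.coe_filter]
    refine ⟨Finset.mem_univ _, ?_⟩
    have h1 := hdimi i
    have h2 : (φ i).asIdeal = x.asIdeal := by rw [hxi]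
    rw [show (phi k n (p i) (hle i)).asIdeal = x.asIdeal from h2, hdim] at h1
    exact_mod_cast h1.symm
  show ∑ᶠ x, F x = _
  rw [finsum_eq_sum_of_support_subset F hsupp, Finset.sum_image (fun i _ j _ h => hφinj h),
    Finset.sum_filter]
  refine Finset.sum_congr rfl fun i _ => ?_
  by_cases hi : (SP k (n + 1) (p i)).natDegree = D
  · rw [if_pos hi, if_pos hi, hFval]
    have h1 := hdimi i
    rw [hi] at h1
    rw [if_pos h1]
    have hlen := Groth.Agent.Lib.Helper11.LocLoc.length_localizedModule_localizedModule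
      (mm k (n + 1)) (φ i).asIdeal (MvPolynomial (Fin (n + 1)) k ⧸ I) (p i)
      (comap_phi k n (p i) (hle i))
    rw [hlen]
    congr 1
    show (D.factorial : ℝ) * _ = _
    congr 2
    exact congrArg Polynomial.leadingCoeff (SP_eq_samuelPoly_quot k n (p i))
  · rw [if_neg hi, if_neg hi]

end Groth.Agent.Lib.Helper11.PDeg
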