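import Mathlib
import Groth.Agent.Lib.Helper11.PDegI

/-!
# The associativity formula for the degree of a projective scheme (helper11)
-/

set_option autoImplicit false
set_option linter.unusedSectionVars false
set_option linter.unusedVariables false
set_option linter.style.haveILetI false
universe u v

namespace Groth.Agent.Lib.Helper11.PDeg

open Groth.Agent.Lib.Helper11.GrHt Groth.Agent.Helper19.ProjDim MvPolynomial Polynomial
open Groth.Agent.Lib.Helper11.HS Groth.Agent.Lib.Helper11.NFlat Filter Topology

variable (k : Type u) [Field k] (n : ℕ) (I : Ideal (MvPolynomial (Fin (n + 1)) k))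

/-- if the Hilbert polynomial vanishes, the Samuel polynomial is constant -/
theorem natDegree_SP_of_zero (hIh : I.IsHomogeneous (CohB1.polyGrading n k))
    (hP : ∃ m₀ : ℕ, ∀ m : ℕ, m₀ ≤ m → (0 : ℚ[X]).eval (m : ℚ) =
      (Module.finrank k ↥(CohB1.polyGrading n k m) : ℚ) -
        Module.finrank k ↥(Submodule.restrictScalars k I ⊓ CohB1.polyGrading n k m)) :
    (SP k (n + 1) I).natDegree = 0 := by
  have h1 := Δ_SP k (n + 1) I hIh 0 hP
  have h2 := degree_le_zero_of_Δ_eq_zero _ h1
  exact Polynomial.natDegree_eq_zero_iff_degree_le_zero.mpr h2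

theorem assoc_formula (hIh : I.IsHomogeneous (CohB1.polyGrading n k))
    (P : ℚ[X])
    (hP : ∃ m₀ : ℕ, ∀ m : ℕ, m₀ ≤ m → P.eval (m : ℚ) =
      (Module.finrank k ↥(CohB1.polyGrading n k m) : ℚ) -
        Module.finrank k ↥(Submodule.restrictScalars k I ⊓ CohB1.polyGrading n k m))
    (r : ℕ) (p : Fin r → Ideal (MvPolynomial (Fin (n + 1)) k)) [hp : ∀ i, (p i).IsPrime]
    (hpinj : Function.Injective p)
    (hpmin : ∀ q : Ideal (MvPolynomial (Fin (n + 1)) k), q ∈ I.minimalPrimes ↔ ∃ i, q = p i)
    (Qp : Fin r → ℚ[X])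
    (hQp : ∀ i, ∃ m₀ : ℕ, ∀ m : ℕ, m₀ ≤ m → (Qp i).eval (m : ℚ) =
      (Module.finrank k ↥(CohB1.polyGrading n k m) : ℚ) -
        Module.finrank k ↥(Submodule.restrictScalars k (p i) ⊓ CohB1.polyGrading n k m)) :
    (P.natDegree.factorial : ℚ) * P.leadingCoeff =
      ∑ i : Fin r, if (Qp i).natDegree = P.natDegree then
        ((Qp i).natDegree.factorial : ℚ) * (Qp i).leadingCoeff *
          (Module.length (Localization.AtPrime (p i))
            (LocalizedModule (p i).primeCompl (MvPolynomial (Fin (n + 1)) k ⧸ I))).toNat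
      else 0 := by
  have hmem : ∀ i, p i ∈ I.minimalPrimes := fun i => (hpmin _).mpr ⟨i, rfl⟩
  have hhom : ∀ i, (p i).IsHomogeneous (CohB1.polyGrading n k) := fun i =>
    isHomogeneous_of_mem_minimalPrimes _ hIh (hmem i)
  by_cases hne : I = ⊤
  · -- no minimal primes
    have hr : IsEmpty (Fin r) := by
      refine ⟨fun i => ?_⟩
      have := hmem i
      rw [hne, Ideal.minimalPrimes_top] at this
      exact this
    have hP0 : P = 0 := by
      by_contra h
      exact ne_top_of_ne_zero k n I P h hP hne
    rw [hP0]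
    simp
  by_cases hP0 : P = 0
  · -- dimension zero
    subst hP0
    have hD := natDegree_SP_of_zero k n I hIh hP
    rw [Polynomial.leadingCoeff_zero, mul_zero]
    symm
    refine Finset.sum_eq_zero fun i _ => ?_
    split_ifs with hi
    · have hQ0 : Qp i = 0 := by
        by_contra hQ
        have h1 := ringKrullDim_eq k n (p i) (hhom i) (Qp i) hQ (hQp i)
        have h2 := natDegree_SP_eq_dim k n I hIh hne
        rw [hD] at h2
        have h3 : ringKrullDim (MvPolynomial (Fin (n + 1)) k ⧸ p i) ≤
            ringKrullDim (MvPolynomial (Fin (n + 1)) k ⧸ I) :=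
          ringKrullDim_le_of_surjective (Ideal.Quotient.factor (hmem i).1.2)
            (Ideal.Quotient.factor_surjective (hmem i).1.2)
        rw [h1, ← h2] at h3
        have h4 : (((Qp i).natDegree + 1 : ℕ) : WithBot ℕ∞) ≤ ((0 : ℕ) : WithBot ℕ∞) := by
          push_cast
          exact h3
        have h5 : (Qp i).natDegree + 1 ≤ 0 := by exact_mod_cast h4
        omega
      rw [hQ0, Polynomial.leadingCoeff_zero, mul_zero, zero_mul]
    · rfl
  · -- the main case
    obtain ⟨hdeg, hlc⟩ := natDegree_SP k (n + 1) I hIh P hP0 hP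
    have hcore := core k n I hIh hne r p hpinj hpmin
    have hinj : Function.Injective ((↑) : ℚ → ℝ) := Rat.cast_injective
    apply hinj
    rw [← hlc]
    push_cast
    rw [hcore]
    refine Finset.sum_congr rfl fun i _ => ?_
    by_cases hQ : Qp i = 0
    · have hDi : (SP k (n + 1) (p i)).natDegree = 0 :=
        natDegree_SP_of_zero k n (p i) (hhom i) (hQ ▸ hQp i)
      rw [if_neg (by rw [hDi, hdeg]; omega)]
      rw [hQ]
      simp
    · obtain ⟨hdegi, hlci⟩ := natDegree_SP k (n + 1) (p i) (hhom i) (Qp i) hQ (hQp i)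
      by_cases hi : (Qp i).natDegree = P.natDegree
      · rw [if_pos (by rw [hdegi, hdeg, hi]), if_pos hi]
        have h1 : (SP k (n + 1) I).natDegree = (SP k (n + 1) (p i)).natDegree := by
          rw [hdegi, hdeg, hi]
        rw [h1]
        have h2 : (((SP k (n + 1) (p i)).natDegree.factorial : ℝ)) *
            (((SP k (n + 1) (p i)).leadingCoeff : ℚ) : ℝ) =
            (((Qp i).natDegree.factorial : ℝ)) * (((Qp i).leadingCoeff : ℚ) : ℝ) := by
          exact_mod_cast congrArg ((↑) : ℚ → ℝ) hlci
        rw [h2]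
        push_cast
        ring
      · rw [if_neg (by rw [hdegi, hdeg]; omega), if_neg hi]
        simp

end Groth.Agent.Lib.Helper11.PDeg
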