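import Mathlib
import Groth.Agent.Lib.Helper11.PDegJ
import Groth.Agent.Lib27.HBPts2

/-!
# Liaison and degrees: translation between the ℤ-grading `stdGr` and the ℕ-grading, and a dimension
bound (helper11)
-/

set_option autoImplicit false
set_option linter.unusedSectionVars false
set_option linter.unusedVariables false
set_option linter.style.haveILetI false
universe u

namespace Groth.Agent.Lib.Helper11.LDeg

open MvPolynomial Groth.Agent.Lib.Helper11.PDeg Groth.Agent.Lib.Helper11.GrHt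

section Std

variable (K : Type u) [Field K] (n : ℕ)

theorem stdGr_natCast (j : ℕ) :
    GrSyz.stdGr K (Fin (n + 1)) (j : ℤ) = homogeneousSubmodule (Fin (n + 1)) K j := by
  ext f
  rw [mem_homogeneousSubmodule]
  exact ⟨Groth.Agent.Lib27.HBurch.isHomogeneous_of_mem_stdGr j f,
    Groth.Agent.Lib27.HBPts.mem_stdGr_of_isHomogeneous j f⟩

variable {K n}

theorem isHomogeneous_nat {𝔞 : Ideal (MvPolynomial (Fin (n + 1)) K)}
    (h : 𝔞.IsHomogeneous (GrSyz.stdGr K (Fin (n + 1)))) :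
    𝔞.IsHomogeneous (CohB1.polyGrading n K) := by
  intro i f hf
  have h1 := h (i : ℤ) hf
  rw [Groth.Agent.Lib27.HBPts.decompose_eq_homogeneousComponent] at h1
  have h2 : (DirectSum.decompose (CohB1.polyGrading n K) f i : MvPolynomial (Fin (n + 1)) K) =
      homogeneousComponent i f := decomposition.decompose'_apply f i
  rw [h2]
  exact h1

/-- the Hilbert function in the form of the images of the graded pieces -/
theorem finrank_map_mk (𝔞 : Ideal (MvPolynomial (Fin (n + 1)) K)) (j : ℕ) :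
    Module.finrank K ↥(Submodule.map (Ideal.Quotient.mkₐ K 𝔞).toLinearMap
      (GrSyz.stdGr K (Fin (n + 1)) (j : ℤ))) = hf K (n + 1) 𝔞 j := by
  rw [stdGr_natCast]
  haveI : Module.Finite K ↥(homogeneousSubmodule (Fin (n + 1)) K j) :=
    Groth.Agent.Lib.Helper11.HilbQuot.finite_Hd (n + 1) j
  set f : MvPolynomial (Fin (n + 1)) K →ₗ[K] (MvPolynomial (Fin (n + 1)) K ⧸ 𝔞) :=
    (Ideal.Quotient.mkₐ K 𝔞).toLinearMap with hf
  have hker : LinearMap.ker f = 𝔞.restrictScalars K := by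
    ext x
    rw [LinearMap.mem_ker, Submodule.restrictScalars_mem]
    show Ideal.Quotient.mk 𝔞 x = 0 ↔ _
    exact Ideal.Quotient.eq_zero_iff_mem
  have h1 := LinearMap.finrank_range_add_finrank_ker
    (f.domRestrict (homogeneousSubmodule (Fin (n + 1)) K j))
  have h2 : LinearMap.range (f.domRestrict (homogeneousSubmodule (Fin (n + 1)) K j)) =
      Submodule.map f (homogeneousSubmodule (Fin (n + 1)) K j) := by
    rw [LinearMap.range_domRestrict]
  have h3 : LinearMap.ker (f.domRestrict (homogeneousSubmodule (Fin (n + 1)) K j)) =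
      (𝔞.restrictScalars K).comap (homogeneousSubmodule (Fin (n + 1)) K j).subtype := by
    rw [LinearMap.ker_domRestrict, hker]
  rw [h2, h3, (comapEquiv (homogeneousSubmodule (Fin (n + 1)) K) (𝔞.restrictScalars K) j).finrank_eq]
    at h1
  unfold PDeg.hf
  omega

/-- translation of the hypothesis on Hilbert polynomials -/
theorem hilbertPoly_nat (𝔞 : Ideal (MvPolynomial (Fin (n + 1)) K)) (p : Polynomial ℚ)
    (hp : ∃ j₀ : ℕ, ∀ j : ℕ, j₀ ≤ j → (Module.finrank K ↥(Submodule.map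
      (Ideal.Quotient.mkₐ K 𝔞).toLinearMap (GrSyz.stdGr K (Fin (n + 1)) (j : ℤ))) : ℚ) =
        p.eval (j : ℚ)) :
    ∃ m₀ : ℕ, ∀ m : ℕ, m₀ ≤ m → p.eval (m : ℚ) =
      (Module.finrank K ↥(CohB1.polyGrading n K m) : ℚ) -
        Module.finrank K ↥(Submodule.restrictScalars K 𝔞 ⊓ CohB1.polyGrading n K m) := by
  obtain ⟨j₀, hj₀⟩ := hp
  refine ⟨j₀, fun m hm => ?_⟩
  rw [← hj₀ m hm, finrank_map_mk, hf_cast]

end Std

section Dim

variable {R : Type u} [CommRing R] [IsNoetherianRing R]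

/-- `ht 𝔞 + ht(q/𝔞) ≤ ht q` -/
theorem height_add_relHt_le (𝔞 : Ideal R) : ∀ (m : ℕ) (q : Ideal R) [q.IsPrime], 𝔞 ≤ q →
    (m : ℕ∞) ≤ relHt 𝔞 q → 𝔞.height + m ≤ q.height := by
  intro m
  induction m with
  | zero =>
    intro q _ hq _
    rw [Nat.cast_zero, add_zero]
    exact Ideal.height_mono hq
  | succ m ih =>
    intro q _ hq hm
    have h1 : ¬ relHt 𝔞 q ≤ (m : ℕ) := by
      intro h
      have := hm.trans h
      have h' : m + 1 ≤ m := by exact_mod_cast this
      omega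
    rw [relHt_le_iff hq] at h1
    push Not at h1
    obtain ⟨q₁, hq₁, h𝔞q₁, hlt, hm₁⟩ := h1
    haveI := hq₁
    have h2 := ih q₁ h𝔞q₁ hm₁
    have h3 := Ideal.height_add_one_le_of_lt_of_isPrime hlt
    calc 𝔞.height + ((m + 1 : ℕ) : ℕ∞) = (𝔞.height + m) + 1 := by push_cast; ring
      _ ≤ q₁.height + 1 := by gcongr
      _ ≤ q.height := h3

/-- `dim R/𝔞 + ht 𝔞 ≤ dim R`, in the form used below -/
theorem ringKrullDim_quotient_le_of_height (𝔞 : Ideal R) (c d N : ℕ)
    (hc : (c : ℕ∞) ≤ 𝔞.height) (hN : ringKrullDim R = N) (hd : c + d = N) :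
    ringKrullDim (R ⧸ 𝔞) ≤ d := by
  rw [ringKrullDim_le_iff_height_le]
  intro p hp
  have h𝔞P : 𝔞 ≤ p.comap (Ideal.Quotient.mk 𝔞) := by
    intro x hx
    rw [Ideal.mem_comap, Ideal.Quotient.eq_zero_iff_mem.2 hx]
    exact p.zero_mem
  have hmap : (p.comap (Ideal.Quotient.mk 𝔞)).map (Ideal.Quotient.mk 𝔞) = p :=
    Ideal.map_comap_of_surjective _ Ideal.Quotient.mk_surjective _
  haveI hP : (p.comap (Ideal.Quotient.mk 𝔞)).IsPrime := Ideal.comap_isPrime _ _
  have hrel : p.height = relHt 𝔞 (p.comap (Ideal.Quotient.mk 𝔞)) := by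
    unfold relHt
    rw [hmap]
  obtain ⟨m, hm⟩ := ENat.ne_top_iff_exists.mp
    (relHt_ne_top (J := 𝔞) (q := p.comap (Ideal.Quotient.mk 𝔞)) h𝔞P)
  have h1 := height_add_relHt_le 𝔞 m _ h𝔞P (le_of_eq hm)
  have h2 : ((p.comap (Ideal.Quotient.mk 𝔞)).height : WithBot ℕ∞) ≤ ringKrullDim R :=
    Ideal.height_le_ringKrullDim_of_ne_top hP.ne_top
  rw [hN] at h2
  have h3 : (p.comap (Ideal.Quotient.mk 𝔞)).height ≤ (N : ℕ∞) := by exact_mod_cast h2
  have h4 : (c : ℕ∞) + m ≤ N := by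
    calc (c : ℕ∞) + m ≤ 𝔞.height + m := by gcongr
      _ ≤ _ := h1
      _ ≤ _ := h3
  have h5 : c + m ≤ N := by exact_mod_cast h4
  rw [hrel, ← hm]
  have : m ≤ d := by omega
  exact_mod_cast this

end Dim

end Groth.Agent.Lib.Helper11.LDeg
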