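import Mathlib
import Groth.Agent.Lib.Helper11.LDegC

/-!
# Coefficient form of the associativity formula over a fixed finite set of primes (helper11)
-/

set_option autoImplicit false
set_option linter.unusedSectionVars false
set_option linter.unusedVariables false
set_option linter.style.haveILetI false
universe u

namespace Groth.Agent.Lib.Helper11.LDeg

open MvPolynomial Groth.Agent.Lib.Helper11.PDeg Groth.Agent.Lib.Helper11.GrHt
open Groth.Agent.Lib.Helper11.HS Groth.Agent.Helper19.ProjDim Polynomial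

section ColonGen

variable {A σ : Type*} [CommRing A] [SetLike σ A] [AddSubmonoidClass σ A]
variable (𝒜 : ℕ → σ) [GradedRing 𝒜]

/-- the colon of homogeneous ideals is homogeneous -/
theorem colon_isHomogeneous (𝔠 I : Ideal A) (h𝔠 : 𝔠.IsHomogeneous 𝒜) (hI : I.IsHomogeneous 𝒜) :
    (𝔠.colon (I : Set A)).IsHomogeneous 𝒜 := by
  classical
  intro i x hx
  rw [Submodule.mem_colon] at hx ⊢
  intro t ht
  rw [← DirectSum.sum_support_decompose 𝒜 t, Finset.smul_sum]
  refine Ideal.sum_mem _ fun j _ => ?_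
  have htj : (DirectSum.decompose 𝒜 t j : A) ∈ I := hI j ht
  have h1 : x * (DirectSum.decompose 𝒜 t j : A) ∈ 𝔠 := hx _ htj
  have h2 := h𝔠 (i + j) h1
  rw [DirectSum.coe_decompose_mul_add_of_right_mem 𝒜 (SetLike.coe_mem _)] at h2
  exact h2

end ColonGen

variable (k : Type u) [Field k] (n : ℕ)

/-- the length of `(S/𝔞)_𝔮` as a natural number (`0` if `𝔮` is not prime) -/
noncomputable def lenAt (𝔞 𝔮 : Ideal (MvPolynomial (Fin (n + 1)) k)) : ℕ := by
  classical
  exact if h : 𝔮.IsPrime then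
    haveI := h
    (Module.length (Localization.AtPrime 𝔮)
      (LocalizedModule 𝔮.primeCompl (MvPolynomial (Fin (n + 1)) k ⧸ 𝔞))).toNat
  else 0

theorem lenAt_eq (𝔞 𝔮 : Ideal (MvPolynomial (Fin (n + 1)) k)) [h : 𝔮.IsPrime] :
    lenAt k n 𝔞 𝔮 = (Module.length (Localization.AtPrime 𝔮)
      (LocalizedModule 𝔮.primeCompl (MvPolynomial (Fin (n + 1)) k ⧸ 𝔞))).toNat := by
  unfold lenAt
  rw [dif_pos h]

theorem lenAt_eq_zero_of_not_le (𝔞 𝔮 : Ideal (MvPolynomial (Fin (n + 1)) k)) [h : 𝔮.IsPrime]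
    (hle : ¬ 𝔞 ≤ 𝔮) : lenAt k n 𝔞 𝔮 = 0 := by
  rw [lenAt_eq]
  have h1 : (⟨𝔮, h⟩ : PrimeSpectrum (MvPolynomial (Fin (n + 1)) k)) ∉
      Module.support (MvPolynomial (Fin (n + 1)) k) (MvPolynomial (Fin (n + 1)) k ⧸ 𝔞) := by
    rw [Module.support_eq_zeroLocus, Ideal.annihilator_quotient, PrimeSpectrum.mem_zeroLocus]
    exact hle
  rw [Module.notMem_support_iff] at h1
  rw [Module.length_eq_zero_iff.2 h1]
  rfl

variable (𝔞 : Ideal (MvPolynomial (Fin (n + 1)) k))

/-- coefficients of the Samuel polynomial versus those of the Hilbert polynomial -/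
theorem coeff_SP (h𝔞 : 𝔞.IsHomogeneous (CohB1.polyGrading n k)) (p : ℚ[X])
    (hp : ∃ m₀ : ℕ, ∀ m : ℕ, m₀ ≤ m → p.eval (m : ℚ) =
      (Module.finrank k ↥(CohB1.polyGrading n k m) : ℚ) -
        Module.finrank k ↥(Submodule.restrictScalars k 𝔞 ⊓ CohB1.polyGrading n k m))
    (D : ℕ) (hD : 1 ≤ D) (hdeg : (SP k (n + 1) 𝔞).natDegree ≤ D) :
    (D.factorial : ℚ) * (SP k (n + 1) 𝔞).coeff D = ((D - 1).factorial : ℚ) * p.coeff (D - 1) := by
  by_cases hp0 : p = 0
  · subst hp0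
    have h0 := natDegree_SP_of_zero k n 𝔞 h𝔞 hp
    rw [Polynomial.coeff_eq_zero_of_natDegree_lt (by omega)]
    simp
  · obtain ⟨h1, h2⟩ := natDegree_SP k (n + 1) 𝔞 h𝔞 p hp0 hp
    rcases Nat.lt_or_ge (SP k (n + 1) 𝔞).natDegree D with hlt | hge
    · rw [Polynomial.coeff_eq_zero_of_natDegree_lt hlt,
        Polynomial.coeff_eq_zero_of_natDegree_lt (by omega)]
      simp
    · have heq : (SP k (n + 1) 𝔞).natDegree = D := le_antisymm hdeg hge
      have heq' : p.natDegree = D - 1 := by omega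
      rw [← heq', ← heq]
      exact h2

/-- the Samuel polynomial of the unit ideal vanishes -/
theorem SP_top : SP k (n + 1) (⊤ : Ideal (MvPolynomial (Fin (n + 1)) k)) = 0 := by
  unfold SP
  apply samuelPoly_eq
  refine ⟨0, fun t _ => ?_⟩
  rw [Polynomial.eval_zero]
  unfold samuel
  haveI : Subsingleton (MvPolynomial (Fin (n + 1)) k ⧸ (⊤ : Ideal (MvPolynomial (Fin (n + 1)) k))) :=
    Ideal.Quotient.subsingleton_iff.mpr rfl
  rw [Module.length_eq_zero_iff.2 inferInstance]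
  simp

/-- `core` as a sum over the finset of minimal primes -/
theorem core_finset (h𝔞 : 𝔞.IsHomogeneous (CohB1.polyGrading n k)) (hne : 𝔞 ≠ ⊤) :
    (((SP k (n + 1) 𝔞).natDegree.factorial : ℝ)) * (((SP k (n + 1) 𝔞).leadingCoeff : ℚ) : ℝ) =
      ∑ 𝔮 ∈ (Ideal.finite_minimalPrimes_of_isNoetherianRing _ 𝔞).toFinset,
        if (SP k (n + 1) 𝔮).natDegree = (SP k (n + 1) 𝔞).natDegree then
          (lenAt k n 𝔞 𝔮 : ℝ) * (((SP k (n + 1) 𝔞).natDegree.factorial : ℝ) *
            (((SP k (n + 1) 𝔮).leadingCoeff : ℚ) : ℝ))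
        else 0 := by
  classical
  set s := (Ideal.finite_minimalPrimes_of_isNoetherianRing _ 𝔞).toFinset with hs
  let e := s.equivFin
  let p : Fin s.card → Ideal (MvPolynomial (Fin (n + 1)) k) := fun i => (e.symm i).1
  have hmems : ∀ q, q ∈ s ↔ q ∈ 𝔞.minimalPrimes := fun q => by
    rw [hs, Set.Finite.mem_toFinset]
  have hps : ∀ i, p i ∈ 𝔞.minimalPrimes := fun i => (hmems _).mp (e.symm i).2
  haveI hp : ∀ i, (p i).IsPrime := fun i => (hps i).1.1
  have hpinj : Function.Injective p := by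
    intro i j hij
    have : e.symm i = e.symm j := Subtype.ext hij
    exact e.symm.injective this
  have hpmin : ∀ q : Ideal (MvPolynomial (Fin (n + 1)) k), q ∈ 𝔞.minimalPrimes ↔ ∃ i, q = p i := by
    intro q
    constructor
    · intro hq
      have hqs : q ∈ s := (hmems q).mpr hq
      refine ⟨e ⟨q, hqs⟩, ?_⟩
      show q = (e.symm (e ⟨q, hqs⟩)).1
      rw [Equiv.symm_apply_apply]
    · rintro ⟨i, rfl⟩
      exact hps i
  have hcore := core k n 𝔞 h𝔞 hne s.card p hpinj hpmin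
  rw [hcore]
  let G : Ideal (MvPolynomial (Fin (n + 1)) k) → ℝ := fun 𝔮 =>
    if (SP k (n + 1) 𝔮).natDegree = (SP k (n + 1) 𝔞).natDegree then
      (lenAt k n 𝔞 𝔮 : ℝ) * (((SP k (n + 1) 𝔞).natDegree.factorial : ℝ) *
        (((SP k (n + 1) 𝔮).leadingCoeff : ℚ) : ℝ))
    else 0
  have h1 : ∀ i, (if (SP k (n + 1) (p i)).natDegree = (SP k (n + 1) 𝔞).natDegree then
        (((Module.length (Localization.AtPrime (p i))
          (LocalizedModule (p i).primeCompl (MvPolynomial (Fin (n + 1)) k ⧸ 𝔞))).toNat : ℝ)) *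
        (((SP k (n + 1) 𝔞).natDegree.factorial : ℝ) *
          (((SP k (n + 1) (p i)).leadingCoeff : ℚ) : ℝ))
      else 0) = G (p i) := fun i => by
    show _ = if _ then _ else _
    rw [lenAt_eq]
  rw [Finset.sum_congr rfl (fun i _ => h1 i)]
  show ∑ i, G ((e.symm i).1) = ∑ 𝔮 ∈ s, G 𝔮
  rw [Equiv.sum_comp e.symm (fun x : s => G x.1), Finset.sum_coe_sort s G]

end Groth.Agent.Lib.Helper11.LDeg
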