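import Mathlib
import Groth.Agent.Lib.Helper11.LDegD
import Groth.Agent.Lib.Helper11.LDegB

/-!
# Degrees of linked ideals (helper11)
-/

set_option autoImplicit false
set_option linter.unusedSectionVars false
set_option linter.unusedVariables false
set_option linter.style.haveILetI false
universe u

namespace Groth.Agent.Lib.Helper11.LDeg

open MvPolynomial Groth.Agent.Lib.Helper11.PDeg Groth.Agent.Lib.Helper11.GrHt
open Groth.Agent.Lib.Helper11.HS Groth.Agent.Helper19.ProjDim Polynomial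

variable (k : Type u) [Field k] (n : ℕ) (𝔞 : Ideal (MvPolynomial (Fin (n + 1)) k))

/-- coefficient form of the associativity formula over a fixed finite set of primes -/
theorem coeff_formula (h𝔞 : 𝔞.IsHomogeneous (CohB1.polyGrading n k)) (D : ℕ)
    (hdim : (SP k (n + 1) 𝔞).natDegree ≤ D)
    (Ps : Finset (Ideal (MvPolynomial (Fin (n + 1)) k)))
    (h1 : ∀ 𝔭 ∈ Ps, 𝔭.IsPrime ∧ 𝔭.IsHomogeneous (CohB1.polyGrading n k) ∧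
      (SP k (n + 1) 𝔭).natDegree = D)
    (h2 : ∀ 𝔮 ∈ 𝔞.minimalPrimes, (SP k (n + 1) 𝔮).natDegree = D → 𝔮 ∈ Ps)
    (h3 : ∀ 𝔭 ∈ Ps, 𝔞 ≤ 𝔭 → 𝔭 ∈ 𝔞.minimalPrimes) :
    (D.factorial : ℝ) * (((SP k (n + 1) 𝔞).coeff D : ℚ) : ℝ) =
      ∑ 𝔭 ∈ Ps, (lenAt k n 𝔞 𝔭 : ℝ) * ((D.factorial : ℝ) *
        (((SP k (n + 1) 𝔭).leadingCoeff : ℚ) : ℝ)) := by
  classical
  -- the terms with `𝔞 ⊄ 𝔭` vanish
  have hzero : ∀ 𝔭 ∈ Ps, ¬ 𝔞 ≤ 𝔭 → (lenAt k n 𝔞 𝔭 : ℝ) * ((D.factorial : ℝ) *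
        (((SP k (n + 1) 𝔭).leadingCoeff : ℚ) : ℝ)) = 0 := by
    intro 𝔭 h𝔭 hle
    haveI := (h1 𝔭 h𝔭).1
    rw [lenAt_eq_zero_of_not_le k n 𝔞 𝔭 hle]
    simp
  by_cases hne : 𝔞 = ⊤
  · subst hne
    rw [SP_top]
    simp only [Polynomial.coeff_zero, Rat.cast_zero, mul_zero]
    symm
    refine Finset.sum_eq_zero fun 𝔭 h𝔭 => hzero 𝔭 h𝔭 ?_
    intro hle
    exact (h1 𝔭 h𝔭).1.ne_top (top_le_iff.mp hle)
  rcases Nat.lt_or_ge (SP k (n + 1) 𝔞).natDegree D with hlt | hge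
  · rw [Polynomial.coeff_eq_zero_of_natDegree_lt hlt]
    simp only [Rat.cast_zero, mul_zero]
    symm
    refine Finset.sum_eq_zero fun 𝔭 h𝔭 => hzero 𝔭 h𝔭 ?_
    intro hle
    obtain ⟨hprime, hhom, hdeg⟩ := h1 𝔭 h𝔭
    haveI := hprime
    have e1 := natDegree_SP_eq_dim k n 𝔭 hhom hprime.ne_top
    have e2 := natDegree_SP_eq_dim k n 𝔞 h𝔞 hne
    have e3 : ringKrullDim (MvPolynomial (Fin (n + 1)) k ⧸ 𝔭) ≤
        ringKrullDim (MvPolynomial (Fin (n + 1)) k ⧸ 𝔞) :=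
      ringKrullDim_le_of_surjective (Ideal.Quotient.factor hle)
        (Ideal.Quotient.factor_surjective hle)
    rw [← e1, ← e2, hdeg] at e3
    have e4 : D ≤ (SP k (n + 1) 𝔞).natDegree := by exact_mod_cast e3
    omega
  · have heq : (SP k (n + 1) 𝔞).natDegree = D := le_antisymm hdim hge
    have hcore := core_finset k n 𝔞 h𝔞 hne
    rw [heq] at hcore
    have hlc : (SP k (n + 1) 𝔞).coeff D = (SP k (n + 1) 𝔞).leadingCoeff := by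
      rw [Polynomial.leadingCoeff, heq]
    rw [hlc, hcore, ← Finset.sum_filter]
    have hset : (Ideal.finite_minimalPrimes_of_isNoetherianRing _ 𝔞).toFinset.filter
        (fun 𝔮 => (SP k (n + 1) 𝔮).natDegree = D) = Ps.filter (fun 𝔭 => 𝔞 ≤ 𝔭) := by
      ext 𝔮
      rw [Finset.mem_filter, Finset.mem_filter, Set.Finite.mem_toFinset]
      constructor
      · rintro ⟨hq, hd⟩
        exact ⟨h2 𝔮 hq hd, hq.1.2⟩
      · rintro ⟨hq, hle⟩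
        exact ⟨h3 𝔮 hq hle, (h1 𝔮 hq).2.2⟩
    rw [hset, Finset.sum_filter]
    refine Finset.sum_congr rfl fun 𝔭 h𝔭 => ?_
    split_ifs with hle
    · rfl
    · exact (hzero 𝔭 h𝔭 hle).symm

/-- **degrees of linked ideals**: the coefficient of `t^(n-c)` of the Hilbert polynomial -/
theorem liaison_coeff (c : ℕ) (hc : 1 ≤ c) (hcn : c ≤ n)
    (𝔠 I : Ideal (MvPolynomial (Fin (n + 1)) k))
    (h𝔠 : 𝔠.IsHomogeneous (CohB1.polyGrading n k)) (hI : I.IsHomogeneous (CohB1.polyGrading n k))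
    [LocCoh.IsGorensteinRing (MvPolynomial (Fin (n + 1)) k ⧸ 𝔠)]
    (h𝔠c : (c : ℕ∞) ≤ 𝔠.height) (h𝔠I : 𝔠 ≤ I)
    (p𝔠 pI pJ : Polynomial ℚ)
    (hp𝔠 : ∃ m₀ : ℕ, ∀ m : ℕ, m₀ ≤ m → p𝔠.eval (m : ℚ) =
      (Module.finrank k ↥(CohB1.polyGrading n k m) : ℚ) -
        Module.finrank k ↥(Submodule.restrictScalars k 𝔠 ⊓ CohB1.polyGrading n k m))
    (hpI : ∃ m₀ : ℕ, ∀ m : ℕ, m₀ ≤ m → pI.eval (m : ℚ) =
      (Module.finrank k ↥(CohB1.polyGrading n k m) : ℚ) -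
        Module.finrank k ↥(Submodule.restrictScalars k I ⊓ CohB1.polyGrading n k m))
    (hpJ : ∃ m₀ : ℕ, ∀ m : ℕ, m₀ ≤ m → pJ.eval (m : ℚ) =
      (Module.finrank k ↥(CohB1.polyGrading n k m) : ℚ) -
        Module.finrank k ↥(Submodule.restrictScalars k
          (𝔠.colon (I : Set (MvPolynomial (Fin (n + 1)) k))) ⊓ CohB1.polyGrading n k m)) :
    pJ.coeff (n - c) = p𝔠.coeff (n - c) - pI.coeff (n - c) := by
  classical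
  set J := 𝔠.colon (I : Set (MvPolynomial (Fin (n + 1)) k)) with hJdef
  have hJ : J.IsHomogeneous (CohB1.polyGrading n k) := colon_isHomogeneous _ 𝔠 I h𝔠 hI
  have h𝔠J : 𝔠 ≤ J := Groth.Agent.Lib.Helper16.Liaison.le_colon 𝔠 I
  set D := n + 1 - c with hDdef
  have hD1 : 1 ≤ D := by omega
  have hDc : c + D = n + 1 := by omega
  have hdimS := ringKrullDim_S k n
  -- dimension bounds
  have hdim_le : ∀ 𝔟 : Ideal (MvPolynomial (Fin (n + 1)) k), 𝔠 ≤ 𝔟 →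
      ringKrullDim (MvPolynomial (Fin (n + 1)) k ⧸ 𝔟) ≤ D := fun 𝔟 h =>
    ringKrullDim_quotient_le_of_height 𝔟 c D (n + 1) (h𝔠c.trans (Ideal.height_mono h)) hdimS hDc
  have hdeg_le : ∀ 𝔟 : Ideal (MvPolynomial (Fin (n + 1)) k), 𝔠 ≤ 𝔟 →
      𝔟.IsHomogeneous (CohB1.polyGrading n k) → (SP k (n + 1) 𝔟).natDegree ≤ D := by
    intro 𝔟 h hh
    by_cases hne : 𝔟 = ⊤
    · rw [hne, SP_top]
      simp
    · have := natDegree_SP_eq_dim k n 𝔟 hh hne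
      have h2 := hdim_le 𝔟 h
      rw [← this] at h2
      exact_mod_cast h2
  -- the set of primes
  set Ps := (Ideal.finite_minimalPrimes_of_isNoetherianRing _ 𝔠).toFinset.filter
    (fun 𝔭 => (SP k (n + 1) 𝔭).natDegree = D) with hPs
  have hmemPs : ∀ 𝔭, 𝔭 ∈ Ps ↔ 𝔭 ∈ 𝔠.minimalPrimes ∧ (SP k (n + 1) 𝔭).natDegree = D := fun 𝔭 => by
    rw [hPs, Finset.mem_filter, Set.Finite.mem_toFinset]
  have h1 : ∀ 𝔭 ∈ Ps, 𝔭.IsPrime ∧ 𝔭.IsHomogeneous (CohB1.polyGrading n k) ∧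
      (SP k (n + 1) 𝔭).natDegree = D := fun 𝔭 h𝔭 => by
    obtain ⟨hmin, hd⟩ := (hmemPs 𝔭).mp h𝔭
    exact ⟨hmin.1.1, isHomogeneous_of_mem_minimalPrimes _ h𝔠 hmin, hd⟩
  have h2 : ∀ 𝔟 : Ideal (MvPolynomial (Fin (n + 1)) k), 𝔠 ≤ 𝔟 →
      𝔟.IsHomogeneous (CohB1.polyGrading n k) →
      ∀ 𝔮 ∈ 𝔟.minimalPrimes, (SP k (n + 1) 𝔮).natDegree = D → 𝔮 ∈ Ps := by
    intro 𝔟 h𝔠𝔟 h𝔟 𝔮 h𝔮 hd
    rw [hmemPs]
    refine ⟨⟨⟨h𝔮.1.1, h𝔠𝔟.trans h𝔮.1.2⟩, ?_⟩, hd⟩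
    rintro 𝔮' ⟨h𝔮'prime, h𝔠𝔮'⟩ hle
    by_contra hnle
    have hlt : 𝔮' < 𝔮 := lt_of_le_of_ne hle (fun h => hnle (h ▸ le_rfl))
    haveI := h𝔮.1.1
    have e1 := ringKrullDim_quotient_succ_le_of_lt (⟨𝔮', h𝔮'prime⟩ : PrimeSpectrum _)
      ⟨𝔮, h𝔮.1.1⟩ hlt
    have e2 := hdim_le 𝔮' h𝔠𝔮'
    have h𝔮h : 𝔮.IsHomogeneous (CohB1.polyGrading n k) :=
      isHomogeneous_of_mem_minimalPrimes _ h𝔟 h𝔮
    have e3 := natDegree_SP_eq_dim k n 𝔮 h𝔮h h𝔮.1.1.ne_top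
    rw [hd] at e3
    have e4 : ((D : ℕ) : WithBot ℕ∞) + 1 ≤ ((D : ℕ) : WithBot ℕ∞) := by
      calc ((D : ℕ) : WithBot ℕ∞) + 1 = ringKrullDim (MvPolynomial (Fin (n + 1)) k ⧸ 𝔮) + 1 := by
            rw [e3]
        _ ≤ _ := e1
        _ ≤ _ := e2
    have e5 : ((D + 1 : ℕ) : WithBot ℕ∞) ≤ ((D : ℕ) : WithBot ℕ∞) := by
      push_cast
      exact e4
    have e6 : D + 1 ≤ D := by exact_mod_cast e5
    omega
  have h3 : ∀ 𝔟 : Ideal (MvPolynomial (Fin (n + 1)) k), 𝔠 ≤ 𝔟 →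
      ∀ 𝔭 ∈ Ps, 𝔟 ≤ 𝔭 → 𝔭 ∈ 𝔟.minimalPrimes := by
    intro 𝔟 h𝔠𝔟 𝔭 h𝔭 hle
    obtain ⟨hmin, -⟩ := (hmemPs 𝔭).mp h𝔭
    refine ⟨⟨hmin.1.1, hle⟩, ?_⟩
    rintro 𝔮' ⟨h𝔮'prime, h𝔟𝔮'⟩ hle'
    exact hmin.2 ⟨h𝔮'prime, h𝔠𝔟.trans h𝔟𝔮'⟩ hle'
  -- the three coefficient formulas
  have f𝔠 := coeff_formula k n 𝔠 h𝔠 D (hdeg_le 𝔠 le_rfl h𝔠) Ps h1 (h2 𝔠 le_rfl h𝔠) (h3 𝔠 le_rfl)
  have fI := coeff_formula k n I hI D (hdeg_le I h𝔠I hI) Ps h1 (h2 I h𝔠I hI) (h3 I h𝔠I)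
  have fJ := coeff_formula k n J hJ D (hdeg_le J h𝔠J hJ) Ps h1 (h2 J h𝔠J hJ) (h3 J h𝔠J)
  -- local duality
  have hlen : ∀ 𝔭 ∈ Ps, (lenAt k n 𝔠 𝔭 : ℝ) = (lenAt k n I 𝔭 : ℝ) + (lenAt k n J 𝔭 : ℝ) := by
    intro 𝔭 h𝔭
    obtain ⟨hmin, -⟩ := (hmemPs 𝔭).mp h𝔭
    haveI := hmin.1.1
    have hdual := length_add_length_colon_at 𝔠 I h𝔠I 𝔭 hmin
    have hfin : Module.length (Localization.AtPrime 𝔭)
        (LocalizedModule 𝔭.primeCompl (MvPolynomial (Fin (n + 1)) k ⧸ 𝔠)) ≠ ⊤ := by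
      rw [Module.length_ne_top_iff]
      refine isFiniteLength_localizedModule _ ⟨𝔭, hmin.1.1⟩ ?_
      intro q hq hqp
      rw [Module.support_eq_zeroLocus, Ideal.annihilator_quotient,
        PrimeSpectrum.mem_zeroLocus] at hq
      exact PrimeSpectrum.ext (le_antisymm hqp (hmin.2 ⟨q.isPrime, hq⟩ hqp))
    have hfinI : Module.length (Localization.AtPrime 𝔭)
        (LocalizedModule 𝔭.primeCompl (MvPolynomial (Fin (n + 1)) k ⧸ I)) ≠ ⊤ := by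
      intro h
      rw [h, top_add] at hdual
      exact hfin hdual.symm
    have hfinJ : Module.length (Localization.AtPrime 𝔭)
        (LocalizedModule 𝔭.primeCompl (MvPolynomial (Fin (n + 1)) k ⧸ J)) ≠ ⊤ := by
      intro h
      rw [h, add_top] at hdual
      exact hfin hdual.symm
    rw [lenAt_eq, lenAt_eq, lenAt_eq, ← hdual, ENat.toNat_add hfinI hfinJ]
    push_cast
    rfl
  -- relation with the Hilbert polynomials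
  have g𝔠 := coeff_SP k n 𝔠 h𝔠 p𝔠 hp𝔠 D hD1 (hdeg_le 𝔠 le_rfl h𝔠)
  have gI := coeff_SP k n I hI pI hpI D hD1 (hdeg_le I h𝔠I hI)
  have gJ := coeff_SP k n J hJ pJ hpJ D hD1 (hdeg_le J h𝔠J hJ)
  have hDn : D - 1 = n - c := by omega
  rw [hDn] at g𝔠 gI gJ
  have hsum : (D.factorial : ℝ) * (((SP k (n + 1) 𝔠).coeff D : ℚ) : ℝ) =
      (D.factorial : ℝ) * (((SP k (n + 1) I).coeff D : ℚ) : ℝ) +
      (D.factorial : ℝ) * (((SP k (n + 1) J).coeff D : ℚ) : ℝ) := by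
    rw [f𝔠, fI, fJ, ← Finset.sum_add_distrib]
    refine Finset.sum_congr rfl fun 𝔭 h𝔭 => ?_
    rw [hlen 𝔭 h𝔭]
    ring
  have hsumQ : (D.factorial : ℚ) * (SP k (n + 1) 𝔠).coeff D =
      (D.factorial : ℚ) * (SP k (n + 1) I).coeff D + (D.factorial : ℚ) * (SP k (n + 1) J).coeff D := by
    have hinj : Function.Injective ((↑) : ℚ → ℝ) := Rat.cast_injective
    apply hinj
    push_cast
    exact hsum
  rw [g𝔠, gI, gJ] at hsumQ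
  have hfac : ((n - c).factorial : ℚ) ≠ 0 := by exact_mod_cast (Nat.factorial_pos _).ne'
  have : ((n - c).factorial : ℚ) * pJ.coeff (n - c) =
      ((n - c).factorial : ℚ) * (p𝔠.coeff (n - c) - pI.coeff (n - c)) := by linarith
  exact mul_left_cancel₀ hfac this

end Groth.Agent.Lib.Helper11.LDeg
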