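import Mathlib
import Groth.Prelude.Def_W4c2conddiscmodels

/-!
# Multigraphs with multiplicity functions: general facts and contractions
-/

set_option autoImplicit false
set_option linter.unusedSectionVars false
universe u
open Finset

namespace Groth.Agent.Lib.Helper11.LabG

variable {V E : Type u} [Fintype V] [Fintype E] [DecidableEq V] [DecidableEq E]
variable (ends : E → V × V)

lemma edgeMult_comm (v w : V) : LabGraph.edgeMult ends v w = LabGraph.edgeMult ends w v := by
  unfold LabGraph.edgeMult
  congr 1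
  ext e
  simp [or_comm]

lemma edgeMult_eq_sum (v w : V) : (LabGraph.edgeMult ends v w : ℤ) =
    ∑ e : E, if ends e = (v, w) ∨ ends e = (w, v) then (1 : ℤ) else 0 := by
  unfold LabGraph.edgeMult
  rw [Finset.card_filter]
  push_cast
  rfl

lemma mfMatrix_off (β : V → ℤ) {v w : V} (h : v ≠ w) :
    LabGraph.mfMatrix ends β v w = (LabGraph.edgeMult ends v w : ℤ) := by
  unfold LabGraph.mfMatrix
  rw [if_neg h]

lemma mfMatrix_symm (β : V → ℤ) (v w : V) :
    LabGraph.mfMatrix ends β v w = LabGraph.mfMatrix ends β w v := by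
  by_cases h : v = w
  · subst h; rfl
  · rw [mfMatrix_off ends β h, mfMatrix_off ends β (Ne.symm h), edgeMult_comm]

lemma mfMatrix_diag_mul {β : V → ℤ} (hβ : LabGraph.IsMultFn ends β) (v : V) :
    LabGraph.mfMatrix ends β v v * β v =
      -(∑ u ∈ Finset.univ.erase v, β u * (LabGraph.edgeMult ends v u : ℤ)) := by
  unfold LabGraph.mfMatrix
  rw [if_pos rfl]
  exact Int.ediv_mul_cancel ((dvd_neg).2 (hβ v).2)

/-- rows of `α` are orthogonal to `β`. -/
lemma mfMatrix_row {β : V → ℤ} (hβ : LabGraph.IsMultFn ends β) (v : V) :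
    ∑ w, LabGraph.mfMatrix ends β v w * β w = 0 := by
  rw [← Finset.add_sum_erase _ _ (Finset.mem_univ v), mfMatrix_diag_mul ends hβ]
  rw [neg_add_eq_zero]
  refine Finset.sum_congr rfl fun w hw => ?_
  rw [mfMatrix_off ends β (Finset.ne_of_mem_erase hw).symm, mul_comm]

lemma mulVec_apply' (M : Matrix V V ℤ) (z : V → ℤ) (v : V) :
    (M.mulVec z) v = ∑ w, M v w * z w := by
  simp [Matrix.mulVec, dotProduct]

lemma betaHom_apply (β x : V → ℤ) : LabGraph.betaHom β x = ∑ v, x v * β v := by
  simp [LabGraph.betaHom, Fintype.linearCombination_apply]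

/-- `β ∘ α = 0`. -/
lemma betaHom_mulVec {β : V → ℤ} (hβ : LabGraph.IsMultFn ends β) (z : V → ℤ) :
    LabGraph.betaHom β ((LabGraph.mfMatrix ends β).mulVec z) = 0 := by
  rw [betaHom_apply]
  simp_rw [mulVec_apply', Finset.sum_mul]
  rw [Finset.sum_comm]
  refine Finset.sum_eq_zero fun w _ => ?_
  have := mfMatrix_row ends hβ w
  calc ∑ v, LabGraph.mfMatrix ends β v w * z w * β v
      = z w * ∑ v, LabGraph.mfMatrix ends β w v * β v := by
        rw [Finset.mul_sum]
        refine Finset.sum_congr rfl fun v _ => ?_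
        rw [mfMatrix_symm ends β v w]; ring
    _ = 0 := by rw [this, mul_zero]

/-! ### Contractions -/

section contraction

variable (D : Finset E)

/-- pointwise count of the pairs `(v, w)` in classes `c ≠ c'` joined by an edge with ends `(a, b)` -/
lemma pair_count (a b : V) (c c' : DualGr.CtrVert ends D) (hcc : c ≠ c') :
    (∑ v, ∑ w, if DualGr.ctrMk ends D v = c ∧ DualGr.ctrMk ends D w = c' then
        (if (a, b) = (v, w) ∨ (a, b) = (w, v) then (1 : ℤ) else 0) else 0) =
      if (DualGr.ctrMk ends D a = c ∧ DualGr.ctrMk ends D b = c') ∨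
          (DualGr.ctrMk ends D a = c' ∧ DualGr.ctrMk ends D b = c) then 1 else 0 := by
  by_cases h1 : DualGr.ctrMk ends D a = c ∧ DualGr.ctrMk ends D b = c'
  · rw [if_pos (Or.inl h1)]
    rw [Finset.sum_eq_single a, Finset.sum_eq_single b]
    · simp [h1]
    · intro w _ hw
      split_ifs with h2 h3
      · exfalso
        rcases h3 with h3 | h3
        · exact hw (Prod.mk.inj h3).2.symm
        · have := (Prod.mk.inj h3).1
          subst this
          exact hcc (h1.1.symm.trans h2.2)
      · rfl
      · rfl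
    · simp
    · intro v _ hv
      refine Finset.sum_eq_zero fun w _ => ?_
      split_ifs with h2 h3
      · exfalso
        rcases h3 with h3 | h3
        · exact hv (Prod.mk.inj h3).1.symm
        · have h4 := (Prod.mk.inj h3).2
          subst h4
          have h5 := (Prod.mk.inj h3).1
          subst h5
          exact hcc (h2.1.symm.trans h1.2)
      · rfl
      · rfl
    · simp
  · by_cases h2 : DualGr.ctrMk ends D a = c' ∧ DualGr.ctrMk ends D b = c
    · rw [if_pos (Or.inr h2)]
      rw [Finset.sum_eq_single b, Finset.sum_eq_single a]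
      · simp [h2]
      · intro w _ hw
        split_ifs with h3 h4
        · exfalso
          rcases h4 with h4 | h4
          · have h5 := (Prod.mk.inj h4).1
            subst h5
            exact h1 ⟨h3.1, by rw [← (Prod.mk.inj h4).2] at h3; exact h3.2⟩
          · exact hw (Prod.mk.inj h4).1.symm
        · rfl
        · rfl
      · simp
      · intro v _ hv
        refine Finset.sum_eq_zero fun w _ => ?_
        split_ifs with h3 h4
        · exfalso
          rcases h4 with h4 | h4
          · have h5 := (Prod.mk.inj h4).1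
            have h6 := (Prod.mk.inj h4).2
            subst h5
            subst h6
            exact h1 h3
          · exact hv (Prod.mk.inj h4).2.symm
        · rfl
        · rfl
      · simp
    · rw [if_neg (by tauto)]
      refine Finset.sum_eq_zero fun v _ => Finset.sum_eq_zero fun w _ => ?_
      split_ifs with h3 h4
      · exfalso
        rcases h4 with h4 | h4
        · have h5 := (Prod.mk.inj h4).1
          have h6 := (Prod.mk.inj h4).2
          subst h5
          subst h6
          exact h1 h3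
        · have h5 := (Prod.mk.inj h4).1
          have h6 := (Prod.mk.inj h4).2
          subst h5
          subst h6
          exact h2 ⟨h3.2, h3.1⟩
      · rfl
      · rfl

/-- edge multiplicities of the contraction between distinct classes -/
lemma edgeMult_ctr (c c' : DualGr.CtrVert ends D) (hcc : c ≠ c') :
    (LabGraph.edgeMult (DualGr.ctrEnds ends D) c c' : ℤ) =
      ∑ v, ∑ w, if DualGr.ctrMk ends D v = c ∧ DualGr.ctrMk ends D w = c' then
        (LabGraph.edgeMult ends v w : ℤ) else 0 := by
  have hL : (LabGraph.edgeMult (DualGr.ctrEnds ends D) c c' : ℤ) =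
      ∑ e : E, if (DualGr.ctrMk ends D (ends e).1 = c ∧ DualGr.ctrMk ends D (ends e).2 = c') ∨
          (DualGr.ctrMk ends D (ends e).1 = c' ∧ DualGr.ctrMk ends D (ends e).2 = c)
        then (1 : ℤ) else 0 := by
    rw [edgeMult_eq_sum]
    have h1 : (∑ e : DualGr.CtrEdge D, if DualGr.ctrEnds ends D e = (c, c') ∨
        DualGr.ctrEnds ends D e = (c', c) then (1 : ℤ) else 0) =
        ∑ e : E, if e ∉ D then (if (DualGr.ctrMk ends D (ends e).1 = c ∧
            DualGr.ctrMk ends D (ends e).2 = c') ∨
          (DualGr.ctrMk ends D (ends e).1 = c' ∧ DualGr.ctrMk ends D (ends e).2 = c)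
          then (1 : ℤ) else 0) else 0 := by
      conv_rhs => rw [← Finset.sum_filter]
      rw [Finset.sum_subtype (Finset.univ.filter (fun e : E => e ∉ D)) (p := fun e => e ∉ D)
          (by intro e; simp)]
      refine Finset.sum_congr rfl fun e _ => ?_
      simp only [DualGr.ctrEnds, Prod.mk.injEq]
    rw [h1]
    refine Finset.sum_congr rfl fun e _ => ?_
    by_cases he : e ∈ D
    · rw [if_neg (not_not.2 he)]
      have := DualGr.ctrMk_fst_eq_ctrMk_snd ends D he
      rw [if_neg]
      rintro (⟨h2, h3⟩ | ⟨h2, h3⟩)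
      · exact hcc (h2.symm.trans (this.trans h3))
      · exact hcc (h3.symm.trans (this.symm.trans h2))
    · rw [if_pos he]
  rw [hL]
  simp_rw [edgeMult_eq_sum]
  have h2 : ∀ v w : V, (if DualGr.ctrMk ends D v = c ∧ DualGr.ctrMk ends D w = c' then
      (∑ e : E, if ends e = (v, w) ∨ ends e = (w, v) then (1 : ℤ) else 0) else 0) =
      ∑ e : E, if DualGr.ctrMk ends D v = c ∧ DualGr.ctrMk ends D w = c' then
        (if ((ends e).1, (ends e).2) = (v, w) ∨ ((ends e).1, (ends e).2) = (w, v)
          then (1 : ℤ) else 0) else 0 := by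
    intro v w
    split_ifs
    · rfl
    · simp
  simp_rw [h2]
  have h3 : ∀ (F : V → V → E → ℤ), ∑ v, ∑ w, ∑ e, F v w e = ∑ e, ∑ v, ∑ w, F v w e := by
    intro F
    calc ∑ v, ∑ w, ∑ e, F v w e = ∑ v, ∑ e, ∑ w, F v w e := by
          refine Finset.sum_congr rfl fun v _ => Finset.sum_comm
      _ = ∑ e, ∑ v, ∑ w, F v w e := Finset.sum_comm
  rw [h3]
  refine Finset.sum_congr rfl fun e _ => ?_
  exact (pair_count ends D (ends e).1 (ends e).2 c c' hcc).symm

lemma sum_mk (G : V → DualGr.CtrVert ends D → ℤ) :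
    (∑ c', ∑ w, if DualGr.ctrMk ends D w = c' then G w c' else 0) =
      ∑ w, G w (DualGr.ctrMk ends D w) := by
  rw [Finset.sum_comm]
  refine Finset.sum_congr rfl fun w _ => ?_
  rw [Finset.sum_ite_eq]
  simp

lemma ctrFn_pos {β : V → ℤ} (hβ : LabGraph.IsMultFn ends β) (c : DualGr.CtrVert ends D) :
    0 < LabGraph.ctrFn ends D β c := (hβ _).1

/-- the block-sum matrix `P α Pᵀ` -/
noncomputable def Q (β : V → ℤ) (c c' : DualGr.CtrVert ends D) : ℤ :=
  ∑ v, ∑ w, if DualGr.ctrMk ends D v = c ∧ DualGr.ctrMk ends D w = c' then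
    LabGraph.mfMatrix ends β v w else 0

lemma Q_off (β : V → ℤ) {c c' : DualGr.CtrVert ends D} (hcc : c ≠ c') :
    Q ends D β c c' = (LabGraph.edgeMult (DualGr.ctrEnds ends D) c c' : ℤ) := by
  rw [edgeMult_ctr ends D c c' hcc]
  unfold Q
  refine Finset.sum_congr rfl fun v _ => Finset.sum_congr rfl fun w _ => ?_
  split_ifs with h
  · rw [mfMatrix_off]
    rintro rfl
    exact hcc (h.1.symm.trans h.2)
  · rfl

lemma Q_row {β : V → ℤ} (hβ : LabGraph.IsMultFn ends β)
    (hconst : ∀ v, β v = LabGraph.ctrFn ends D β (DualGr.ctrMk ends D v))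
    (c : DualGr.CtrVert ends D) :
    ∑ c', Q ends D β c c' * LabGraph.ctrFn ends D β c' = 0 := by
  unfold Q
  simp_rw [Finset.sum_mul]
  rw [Finset.sum_comm]
  refine Finset.sum_eq_zero fun v _ => ?_
  by_cases hv : DualGr.ctrMk ends D v = c
  · have h1 : ∀ (c' : DualGr.CtrVert ends D) (w : V),
        (if DualGr.ctrMk ends D v = c ∧ DualGr.ctrMk ends D w = c' then
          LabGraph.mfMatrix ends β v w else 0) * LabGraph.ctrFn ends D β c' =
        if DualGr.ctrMk ends D w = c' then
          LabGraph.mfMatrix ends β v w * LabGraph.ctrFn ends D β c' else 0 := by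
      intro c' w
      simp only [hv, true_and]
      split_ifs <;> simp
    simp_rw [h1]
    rw [sum_mk ends D (fun w c' => LabGraph.mfMatrix ends β v w * LabGraph.ctrFn ends D β c')]
    simp_rw [← hconst]
    exact mfMatrix_row ends hβ v
  · refine Finset.sum_eq_zero fun c' _ => Finset.sum_eq_zero fun w _ => ?_
    rw [if_neg (fun h => hv h.1), zero_mul]

/-- **the matrix of the contraction is `P α Pᵀ`** when `β` is constant on classes. -/
lemma mfMatrix_ctr {β : V → ℤ} (hβ : LabGraph.IsMultFn ends β)
    (hconst : ∀ v, β v = LabGraph.ctrFn ends D β (DualGr.ctrMk ends D v))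
    (c c' : DualGr.CtrVert ends D) :
    LabGraph.mfMatrix (DualGr.ctrEnds ends D) (LabGraph.ctrFn ends D β) c c' = Q ends D β c c' := by
  by_cases hcc : c = c'
  · subst hcc
    have h1 := Q_row ends D hβ hconst c
    rw [← Finset.add_sum_erase _ _ (Finset.mem_univ c)] at h1
    have h2 : ∑ c' ∈ Finset.univ.erase c, Q ends D β c c' * LabGraph.ctrFn ends D β c' =
        ∑ c' ∈ Finset.univ.erase c, LabGraph.ctrFn ends D β c' *
          (LabGraph.edgeMult (DualGr.ctrEnds ends D) c c' : ℤ) := by
      refine Finset.sum_congr rfl fun c' hc' => ?_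
      rw [Q_off ends D β (Finset.ne_of_mem_erase hc').symm, mul_comm]
    rw [h2] at h1
    unfold LabGraph.mfMatrix
    rw [if_pos rfl]
    have h3 : -(∑ u ∈ Finset.univ.erase c, LabGraph.ctrFn ends D β u *
        (LabGraph.edgeMult (DualGr.ctrEnds ends D) c u : ℤ)) =
        Q ends D β c c * LabGraph.ctrFn ends D β c := by linarith
    rw [h3]
    exact Int.mul_ediv_cancel _ (ctrFn_pos ends D hβ c).ne'
  · rw [mfMatrix_off _ _ hcc, Q_off ends D β hcc]

lemma pushV_apply (z : V → ℤ) (c : DualGr.CtrVert ends D) :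
    DualGr.pushV ends D z c = ∑ v, if DualGr.ctrMk ends D v = c then z v else 0 := by
  simp only [DualGr.pushV, LinearMap.coe_mk, AddHom.coe_mk]
  rw [Finset.sum_filter]

/-- `α' y = π_* (α (π^* y))`. -/
lemma mulVec_ctr {β : V → ℤ} (hβ : LabGraph.IsMultFn ends β)
    (hconst : ∀ v, β v = LabGraph.ctrFn ends D β (DualGr.ctrMk ends D v))
    (y : DualGr.CtrVert ends D → ℤ) :
    (LabGraph.mfMatrix (DualGr.ctrEnds ends D) (LabGraph.ctrFn ends D β)).mulVec y =
      DualGr.pushV ends D ((LabGraph.mfMatrix ends β).mulVec (fun v => y (DualGr.ctrMk ends D v))) := by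
  funext c
  rw [mulVec_apply', pushV_apply]
  simp_rw [mfMatrix_ctr ends D hβ hconst, mulVec_apply']
  unfold Q
  simp_rw [Finset.sum_mul]
  rw [Finset.sum_comm]
  refine Finset.sum_congr rfl fun v _ => ?_
  by_cases hv : DualGr.ctrMk ends D v = c
  · rw [if_pos hv]
    have h1 : ∀ (c' : DualGr.CtrVert ends D) (w : V),
        (if DualGr.ctrMk ends D v = c ∧ DualGr.ctrMk ends D w = c' then
          LabGraph.mfMatrix ends β v w else 0) * y c' =
        if DualGr.ctrMk ends D w = c' then LabGraph.mfMatrix ends β v w * y c' else 0 := by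
      intro c' w
      simp only [hv, true_and]
      split_ifs <;> simp
    simp_rw [h1]
    exact sum_mk ends D (fun w c' => LabGraph.mfMatrix ends β v w * y c')
  · rw [if_neg hv]
    refine Finset.sum_eq_zero fun c' _ => Finset.sum_eq_zero fun w _ => ?_
    rw [if_neg (fun h => hv h.1), zero_mul]

/-- contraction preserves multiplicity functions constant on the classes -/
theorem isMultFn_ctr {β : V → ℤ} (hβ : LabGraph.IsMultFn ends β)
    (hconst : ∀ v, β v = LabGraph.ctrFn ends D β (DualGr.ctrMk ends D v)) :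
    LabGraph.IsMultFn (DualGr.ctrEnds ends D) (LabGraph.ctrFn ends D β) := by
  intro c
  refine ⟨ctrFn_pos ends D hβ c, ?_⟩
  have h1 := Q_row ends D hβ hconst c
  rw [← Finset.add_sum_erase _ _ (Finset.mem_univ c)] at h1
  have h2 : ∑ c' ∈ Finset.univ.erase c, Q ends D β c c' * LabGraph.ctrFn ends D β c' =
      ∑ c' ∈ Finset.univ.erase c, LabGraph.ctrFn ends D β c' *
        (LabGraph.edgeMult (DualGr.ctrEnds ends D) c c' : ℤ) := by
    refine Finset.sum_congr rfl fun c' hc' => ?_
    rw [Q_off ends D β (Finset.ne_of_mem_erase hc').symm, mul_comm]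
  rw [h2] at h1
  refine ⟨-Q ends D β c c, ?_⟩
  linarith

end contraction

end Groth.Agent.Lib.Helper11.LabG
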