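import Mathlib
import Groth.Agent.Lib.Helper11.LabGA

/-!
# Contraction of a chain: the classes
-/

set_option autoImplicit false
set_option linter.unusedSectionVars false
universe u
open Finset

namespace Groth.Agent.Lib.Helper11.LabG

variable {V E : Type u} [Fintype V] [Fintype E] [DecidableEq V] [DecidableEq E]
variable (ends : E → V × V) {m : ℕ} (f : Fin (m + 1) → V) (e : Fin m → E)

lemma ctrRel_mem (hC : LabGraph.IsChain ends f e) {x y : V}
    (h : DualGr.CtrRel ends (univ.image e) x y) : x ∈ Set.range f ∧ y ∈ Set.range f := by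
  obtain ⟨e', he', hxy⟩ := h
  obtain ⟨i, -, rfl⟩ := Finset.mem_image.1 he'
  rcases hC.2.2 i with h1 | h1
  · rw [h1] at hxy
    obtain ⟨rfl, rfl⟩ := Prod.mk.inj hxy
    exact ⟨⟨_, rfl⟩, ⟨_, rfl⟩⟩
  · rw [h1] at hxy
    obtain ⟨rfl, rfl⟩ := Prod.mk.inj hxy
    exact ⟨⟨_, rfl⟩, ⟨_, rfl⟩⟩

lemma eqvGen_cases (hC : LabGraph.IsChain ends f e) {x y : V}
    (h : Relation.EqvGen (DualGr.CtrRel ends (univ.image e)) x y) :
    x = y ∨ (x ∈ Set.range f ∧ y ∈ Set.range f) := by
  induction h with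
  | rel x y h => exact Or.inr (ctrRel_mem ends f e hC h)
  | refl x => exact Or.inl rfl
  | symm x y _ ih =>
    rcases ih with rfl | ⟨h1, h2⟩
    · exact Or.inl rfl
    · exact Or.inr ⟨h2, h1⟩
  | trans x y z _ _ ih1 ih2 =>
    rcases ih1 with rfl | ⟨h1, h2⟩
    · exact ih2
    · rcases ih2 with rfl | ⟨h3, h4⟩
      · exact Or.inr ⟨h1, h2⟩
      · exact Or.inr ⟨h1, h4⟩

lemma mk_chain (hC : LabGraph.IsChain ends f e) (i : Fin (m + 1)) :
    DualGr.ctrMk ends (univ.image e) (f i) = DualGr.ctrMk ends (univ.image e) (f 0) := by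
  induction i using Fin.induction with
  | zero => rfl
  | succ i ih =>
    rw [← ih]
    have he : e i ∈ univ.image e := Finset.mem_image.2 ⟨i, Finset.mem_univ _, rfl⟩
    have := DualGr.ctrMk_fst_eq_ctrMk_snd ends (univ.image e) he
    rcases hC.2.2 i with h1 | h1
    · rw [h1] at this
      exact this.symm
    · rw [h1] at this
      exact this

lemma mk_eq_iff (hC : LabGraph.IsChain ends f e) (v w : V) :
    DualGr.ctrMk ends (univ.image e) v = DualGr.ctrMk ends (univ.image e) w ↔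
      v = w ∨ (v ∈ Set.range f ∧ w ∈ Set.range f) := by
  constructor
  · intro h
    exact eqvGen_cases ends f e hC (Quotient.exact h)
  · rintro (rfl | ⟨⟨i, rfl⟩, ⟨j, rfl⟩⟩)
    · rfl
    · rw [mk_chain ends f e hC i, mk_chain ends f e hC j]

lemma hconst_of (hC : LabGraph.IsChain ends f e) (β : V → ℤ) (hc : ∀ i j, β (f i) = β (f j))
    (v : V) : β v = LabGraph.ctrFn ends (univ.image e) β (DualGr.ctrMk ends (univ.image e) v) := by
  unfold LabGraph.ctrFn
  have h : DualGr.ctrMk ends (univ.image e) (Quotient.out (s := DualGr.ctrSetoid ends (univ.image e))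
      (DualGr.ctrMk ends (univ.image e) v)) = DualGr.ctrMk ends (univ.image e) v :=
    Quotient.out_eq _
  rcases (mk_eq_iff ends f e hC _ _).1 h with h1 | ⟨⟨i, hi⟩, ⟨j, hj⟩⟩
  · rw [h1]
  · rw [← hi, ← hj]
    exact hc j i

end Groth.Agent.Lib.Helper11.LabG
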