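import Mathlib
import Groth.Agent.Lib.Helper11.LabGB

/-!
# Connecting chains: graph facts
-/

set_option autoImplicit false
set_option linter.unusedSectionVars false
universe u
open Finset

namespace Groth.Agent.Lib.Helper11.LabG

variable {V E : Type u} [Fintype V] [Fintype E] [DecidableEq V] [DecidableEq E]
variable (ends : E → V × V) {m : ℕ} (f : Fin (m + 1) → V) (e : Fin m → E)

/-- a predicate on `Fin (m+1)` invariant along all steps except step `k` is constant on
both sides of `k`. -/
lemma pred_const (p : Fin (m + 1) → Prop) (k : Fin m)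
    (hp : ∀ l : Fin m, l ≠ k → (p l.castSucc ↔ p l.succ)) :
    ∀ (n : ℕ) (a b : Fin (m + 1)), b.val = a.val + n → (b.val ≤ k.val ∨ k.val < a.val) →
      (p a ↔ p b) := by
  intro n
  induction n with
  | zero =>
    intro a b hab _
    have : a = b := Fin.ext (by simpa using hab.symm)
    rw [this]
  | succ n ih =>
    intro a b hab hk
    have hb : a.val + n < m := by have := b.2; lia
    let l : Fin m := ⟨a.val + n, hb⟩
    have hl1 : l.succ = b := Fin.ext (by simp [l]; lia)
    have hlk : l ≠ k := by
      intro h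
      have : l.val = k.val := congrArg Fin.val h
      simp only [l] at this
      rcases hk with hk | hk <;> lia
    have h1 := ih a l.castSucc (by simp [l]) (by
      rcases hk with hk | hk
      · left; simp [l]; lia
      · right; exact hk)
    rw [h1, hp l hlk, hl1]

/-- vertices on the two sides of a connecting edge of the chain -/
lemma side (hC : LabGraph.IsChain ends f e) (k : Fin m) (S : Finset V)
    (hS : ∀ e' : E, ((ends e').1 ∈ S ↔ (ends e').2 ∉ S) ↔ e' = e k)
    (a b : Fin (m + 1)) (ha : a.val ≤ k.val) (hb : k.val < b.val) : f a ∈ S ↔ f b ∉ S := by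
  have hp : ∀ l : Fin m, l ≠ k → (f l.castSucc ∈ S ↔ f l.succ ∈ S) := by
    intro l hl
    have h1 : ¬ (((ends (e l)).1 ∈ S ↔ (ends (e l)).2 ∉ S)) := fun h =>
      hl (hC.2.1 ((hS (e l)).1 h))
    rcases hC.2.2 l with h2 | h2
    · rw [h2] at h1
      simp only at h1
      tauto
    · rw [h2] at h1
      simp only at h1
      tauto
  have hk : f k.castSucc ∈ S ↔ f k.succ ∉ S := by
    have h1 := (hS (e k)).2 rfl
    rcases hC.2.2 k with h2 | h2
    · rw [h2] at h1
      exact h1
    · rw [h2] at h1
      simp only at h1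
      tauto
  have h1 := pred_const (fun j => f j ∈ S) k hp (k.val - a.val) a k.castSucc
    (by simp; lia) (Or.inl (by simp))
  have h2 := pred_const (fun j => f j ∈ S) k hp (b.val - (k.val + 1)) k.succ b
    (by simp; lia) (Or.inr (by simp))
  exact h1.trans (hk.trans (not_congr h2))

lemma edge_eq (hC : LabGraph.IsChain ends f e) (hconn : ∀ i, LabGraph.IsConnecting ends (e i))
    {a b : Fin (m + 1)} {e' : E} (he' : ends e' = (f a, f b) ∨ ends e' = (f b, f a)) (k : Fin m)
    (h1 : a.val ≤ k.val) (h2 : k.val < b.val) : e' = e k := by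
  obtain ⟨S, hS⟩ := hconn k
  have h3 := side ends f e hC k S hS a b h1 h2
  refine (hS e').1 ?_
  rcases he' with h | h
  · rw [h]
    exact h3
  · rw [h]
    simp only
    tauto

lemma edgeMult_succ (hC : LabGraph.IsChain ends f e)
    (hconn : ∀ i, LabGraph.IsConnecting ends (e i)) (k : Fin m) :
    LabGraph.edgeMult ends (f k.castSucc) (f k.succ) = 1 := by
  unfold LabGraph.edgeMult
  rw [Finset.card_eq_one]
  refine ⟨e k, ?_⟩
  ext e'
  simp only [Finset.mem_filter, Finset.mem_univ, true_and, Finset.mem_singleton]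
  constructor
  · intro h
    exact edge_eq ends f e hC hconn h k (by simp) (by simp)
  · rintro rfl
    exact hC.2.2 k

lemma edgeMult_far (hC : LabGraph.IsChain ends f e)
    (hconn : ∀ i, LabGraph.IsConnecting ends (e i)) {a b : Fin (m + 1)}
    (hab : a.val + 2 ≤ b.val) : LabGraph.edgeMult ends (f a) (f b) = 0 := by
  unfold LabGraph.edgeMult
  rw [Finset.card_eq_zero, Finset.filter_eq_empty_iff]
  intro e' _ h
  have hb := b.2
  have h1 := edge_eq ends f e hC hconn h ⟨a.val, by lia⟩ (by simp) (by simp; lia)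
  have h2 := edge_eq ends f e hC hconn h ⟨a.val + 1, by lia⟩ (by simp) (by simp; lia)
  have := hC.2.1 (h1.symm.trans h2)
  simp at this

/-- chain vertices: multiplicity of edges between them -/
lemma edgeMult_chain (hC : LabGraph.IsChain ends f e)
    (hconn : ∀ i, LabGraph.IsConnecting ends (e i)) (a b : Fin (m + 1)) (hab : a ≠ b) :
    (LabGraph.edgeMult ends (f a) (f b) : ℤ) =
      if a.val + 1 = b.val ∨ b.val + 1 = a.val then 1 else 0 := by
  have hne : a.val ≠ b.val := fun h => hab (Fin.ext h)
  rcases lt_or_gt_of_ne hne with h | h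
  · by_cases h1 : a.val + 1 = b.val
    · rw [if_pos (Or.inl h1)]
      have hb := b.2
      have := edgeMult_succ ends f e hC hconn ⟨a.val, by lia⟩
      have e1 : (⟨a.val, by lia⟩ : Fin m).castSucc = a := Fin.ext rfl
      have e2 : (⟨a.val, by lia⟩ : Fin m).succ = b := Fin.ext (by simp; lia)
      rw [e1, e2] at this
      rw [this]; rfl
    · rw [if_neg (by lia), edgeMult_far ends f e hC hconn (by lia)]; rfl
  · by_cases h1 : b.val + 1 = a.val
    · rw [if_pos (Or.inr h1), edgeMult_comm]
      have ha := a.2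
      have := edgeMult_succ ends f e hC hconn ⟨b.val, by lia⟩
      have e1 : (⟨b.val, by lia⟩ : Fin m).castSucc = b := Fin.ext rfl
      have e2 : (⟨b.val, by lia⟩ : Fin m).succ = a := Fin.ext (by simp; lia)
      rw [e1, e2] at this
      rw [this]; rfl
    · rw [if_neg (by lia), edgeMult_comm, edgeMult_far ends f e hC hconn (by lia)]; rfl

lemma sum_split (hf : Function.Injective f) (F : V → ℤ) :
    ∑ v, F v = ∑ j, F (f j) + ∑ v, if v ∈ univ.image f then 0 else F v := by
  rw [← Finset.sum_image (s := univ) (g := f) (f := F) (fun a _ b _ h => hf h)]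
  rw [← Finset.sum_filter_add_sum_filter_not univ (· ∈ univ.image f) F]
  congr 1
  · refine Finset.sum_congr ?_ (fun _ _ => rfl)
    ext v
    simp
  · rw [Finset.sum_filter]
    refine Finset.sum_congr rfl ?_
    intro v _
    split_ifs <;> simp_all

/-- sum over the chain neighbours of position `i` -/
lemma nbr_sum (G : Fin (m + 1) → ℤ) (i : Fin (m + 1)) :
    (∑ j : Fin (m + 1), if i.val + 1 = j.val ∨ j.val + 1 = i.val then G j else 0) =
      (if h : 0 < i.val then G ⟨i.val - 1, by have := i.2; lia⟩ else 0) +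
      (if h : i.val < m then G ⟨i.val + 1, by lia⟩ else 0) := by
  have h1 : ∀ j : Fin (m + 1), (if i.val + 1 = j.val ∨ j.val + 1 = i.val then G j else 0) =
      (if j.val + 1 = i.val then G j else 0) + (if i.val + 1 = j.val then G j else 0) := by
    intro j
    by_cases h2 : j.val + 1 = i.val
    · rw [if_pos (Or.inr h2), if_pos h2, if_neg (by lia), add_zero]
    · by_cases h3 : i.val + 1 = j.val
      · rw [if_pos (Or.inl h3), if_neg h2, if_pos h3, zero_add]
      · rw [if_neg (by tauto), if_neg h2, if_neg h3, add_zero]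
  simp_rw [h1]
  rw [Finset.sum_add_distrib]
  congr 1
  · split_ifs with h
    · rw [Finset.sum_eq_single (⟨i.val - 1, by have := i.2; lia⟩ : Fin (m + 1))]
      · rw [if_pos (by simp; lia)]
      · intro j _ hj
        rw [if_neg]
        intro h2
        exact hj (Fin.ext (by simp; lia))
      · simp
    · refine Finset.sum_eq_zero fun j _ => ?_
      rw [if_neg (by lia)]
  · split_ifs with h
    · rw [Finset.sum_eq_single (⟨i.val + 1, by lia⟩ : Fin (m + 1))]
      · rw [if_pos (by simp)]
      · intro j _ hj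
        rw [if_neg]
        intro h2
        exact hj (Fin.ext (by simp; lia))
      · simp
    · refine Finset.sum_eq_zero fun j _ => ?_
      rw [if_neg]
      have := j.2
      lia

/-- the row of `α` at a chain vertex -/
lemma row_chain (hC : LabGraph.IsChain ends f e)
    (hconn : ∀ i, LabGraph.IsConnecting ends (e i)) (β : V → ℤ) (i : Fin (m + 1))
    (hα : LabGraph.mfMatrix ends β (f i) (f i) = -2) (z : V → ℤ) :
    ((LabGraph.mfMatrix ends β).mulVec z) (f i) =
      -2 * z (f i) + (if h : 0 < i.val then z (f ⟨i.val - 1, by have := i.2; lia⟩) else 0) +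
        (if h : i.val < m then z (f ⟨i.val + 1, by lia⟩) else 0) +
        ∑ v, if v ∈ univ.image f then 0 else (LabGraph.edgeMult ends (f i) v : ℤ) * z v := by
  rw [mulVec_apply', sum_split f hC.1]
  congr 1
  · have h1 : ∀ j : Fin (m + 1), LabGraph.mfMatrix ends β (f i) (f j) * z (f j) =
        (if j = i then -2 * z (f i) else 0) +
          (if i.val + 1 = j.val ∨ j.val + 1 = i.val then z (f j) else 0) := by
      intro j
      by_cases hji : j = i
      · subst hji
        rw [hα, if_pos rfl, if_neg (by lia), add_zero]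
      · rw [mfMatrix_off ends β (fun h => hji (hC.1 h).symm),
          edgeMult_chain ends f e hC hconn i j (Ne.symm hji), if_neg hji, zero_add]
        split_ifs <;> simp
    simp_rw [h1]
    rw [Finset.sum_add_distrib, Finset.sum_ite_eq' , if_pos (Finset.mem_univ _),
      nbr_sum (fun j => z (f j)) i, add_assoc]
  · refine Finset.sum_congr rfl fun v _ => ?_
    split_ifs with h
    · rfl
    · rw [mfMatrix_off]
      rintro rfl
      exact h (Finset.mem_image.2 ⟨i, Finset.mem_univ _, rfl⟩)

/-- the total weight of the edges leaving the chain at position `i` -/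
lemma outside_sum (hC : LabGraph.IsChain ends f e)
    (hconn : ∀ i, LabGraph.IsConnecting ends (e i)) {β : V → ℤ} (hβ : LabGraph.IsMultFn ends β)
    (hβm : ∀ i, β (f i) = m) (i : Fin (m + 1))
    (hα : LabGraph.mfMatrix ends β (f i) (f i) = -2) :
    (∑ v, if v ∈ univ.image f then 0 else (LabGraph.edgeMult ends (f i) v : ℤ) * β v) =
      2 * m - (if 0 < i.val then (m : ℤ) else 0) - (if i.val < m then (m : ℤ) else 0) := by
  have h1 := row_chain ends f e hC hconn β i hα β
  rw [mulVec_apply', mfMatrix_row ends hβ] at h1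
  simp only [hβm] at h1
  have h2 : (if h : 0 < i.val then (m : ℤ) else 0) = if 0 < i.val then (m : ℤ) else 0 := by
    split_ifs <;> rfl
  have h3 : (if h : i.val < m then (m : ℤ) else 0) = if i.val < m then (m : ℤ) else 0 := by
    split_ifs <;> rfl
  rw [h2, h3] at h1
  linarith

/-- interior chain vertices have no neighbours outside the chain -/
lemma edgeMult_interior (hC : LabGraph.IsChain ends f e)
    (hconn : ∀ i, LabGraph.IsConnecting ends (e i)) {β : V → ℤ} (hβ : LabGraph.IsMultFn ends β)
    (hβm : ∀ i, β (f i) = m) (i : Fin (m + 1))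
    (hα : LabGraph.mfMatrix ends β (f i) (f i) = -2) (h0 : 0 < i.val) (hm : i.val < m)
    (v : V) (hv : v ∉ univ.image f) : LabGraph.edgeMult ends (f i) v = 0 := by
  have h1 := outside_sum ends f e hC hconn hβ hβm i hα
  rw [if_pos h0, if_pos hm] at h1
  have h2 : (2 * (m : ℤ) - m - m) = 0 := by ring
  rw [h2] at h1
  have h3 := (Finset.sum_eq_zero_iff_of_nonneg (fun v _ => by
    split_ifs
    · exact le_rfl
    · exact mul_nonneg (Int.natCast_nonneg _) (hβ v).1.le)).1 h1 v (Finset.mem_univ v)
  rw [if_neg hv] at h3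
  have h4 := (hβ v).1
  rcases mul_eq_zero.1 h3 with h5 | h5
  · exact_mod_cast h5
  · lia

/-- the cut defined by the first edge of the chain -/
lemma exists_cut (hC : LabGraph.IsChain ends f e)
    (hconn : ∀ i, LabGraph.IsConnecting ends (e i)) (hm : 0 < m) :
    ∃ A : Finset V, f 0 ∈ A ∧ (∀ j : Fin (m + 1), 0 < j.val → f j ∉ A) ∧
      (∀ x y, x ∈ A → y ∉ A → (x ∉ univ.image f ∨ y ∉ univ.image f) →
        LabGraph.edgeMult ends x y = 0) := by
  obtain ⟨S, hS⟩ := hconn ⟨0, hm⟩
  have key : ∀ A : Finset V, (∀ e' : E, ((ends e').1 ∈ A ↔ (ends e').2 ∉ A) ↔ e' = e ⟨0, hm⟩) →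
      f 0 ∈ A → (f 0 ∈ A ∧ (∀ j : Fin (m + 1), 0 < j.val → f j ∉ A) ∧
      (∀ x y, x ∈ A → y ∉ A → (x ∉ univ.image f ∨ y ∉ univ.image f) →
        LabGraph.edgeMult ends x y = 0)) := by
    intro A hA h0
    refine ⟨h0, ?_, ?_⟩
    · intro j hj
      exact (side ends f e hC ⟨0, hm⟩ A hA 0 j (by simp) (by simpa using hj)).1 h0
    · intro x y hx hy hxy
      unfold LabGraph.edgeMult
      rw [Finset.card_eq_zero, Finset.filter_eq_empty_iff]
      intro e' _ he'
      have h1 : e' = e ⟨0, hm⟩ := by
        refine (hA e').1 ?_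
        rcases he' with h | h
        · rw [h]; simp only; tauto
        · rw [h]; simp only; tauto
      subst h1
      have h2 : x ∈ univ.image f ∧ y ∈ univ.image f := by
        rcases hC.2.2 ⟨0, hm⟩ with h3 | h3
        · rcases he' with h | h
          · rw [h3] at h
            obtain ⟨rfl, rfl⟩ := Prod.mk.inj h
            exact ⟨Finset.mem_image.2 ⟨_, Finset.mem_univ _, rfl⟩,
              Finset.mem_image.2 ⟨_, Finset.mem_univ _, rfl⟩⟩
          · rw [h3] at h
            obtain ⟨rfl, rfl⟩ := Prod.mk.inj h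
            exact ⟨Finset.mem_image.2 ⟨_, Finset.mem_univ _, rfl⟩,
              Finset.mem_image.2 ⟨_, Finset.mem_univ _, rfl⟩⟩
        · rcases he' with h | h
          · rw [h3] at h
            obtain ⟨rfl, rfl⟩ := Prod.mk.inj h
            exact ⟨Finset.mem_image.2 ⟨_, Finset.mem_univ _, rfl⟩,
              Finset.mem_image.2 ⟨_, Finset.mem_univ _, rfl⟩⟩
          · rw [h3] at h
            obtain ⟨rfl, rfl⟩ := Prod.mk.inj h
            exact ⟨Finset.mem_image.2 ⟨_, Finset.mem_univ _, rfl⟩,
              Finset.mem_image.2 ⟨_, Finset.mem_univ _, rfl⟩⟩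
      tauto
  by_cases h0 : f 0 ∈ S
  · exact ⟨S, key S hS h0⟩
  · refine ⟨univ \ S, key (univ \ S) ?_ (by simp [h0])⟩
    intro e'
    rw [← hS e']
    simp only [Finset.mem_sdiff, Finset.mem_univ, true_and, not_not]
    tauto

end Groth.Agent.Lib.Helper11.LabG
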