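import Mathlib
import Groth.Agent.Lib.Helper11.LabGC

/-!
# Connecting chains: the vector `u` with `α u = δ_{v_m} - δ_{v_0}`
-/

set_option autoImplicit false
set_option linter.unusedSectionVars false
universe u
open Finset

namespace Groth.Agent.Lib.Helper11.LabG

variable {V E : Type u} [Fintype V] [Fintype E] [DecidableEq V] [DecidableEq E]
variable (ends : E → V × V) {m : ℕ} (f : Fin (m + 1) → V) (e : Fin m → E)

/-- the vector `u`: `m - i` at the chain vertex `v_i`, `β` on the rest of the side `A` -/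
noncomputable def uVec (β : V → ℤ) (A : Finset V) (v : V) : ℤ :=
  (∑ j : Fin (m + 1), if f j = v then ((m : ℤ) - j.val) else 0) +
    (if v ∈ univ.image f then 0 else if v ∈ A then β v else 0)

lemma uVec_chain (hf : Function.Injective f) (β : V → ℤ) (A : Finset V) (i : Fin (m + 1)) :
    uVec f β A (f i) = (m : ℤ) - i.val := by
  unfold uVec
  rw [if_pos (Finset.mem_image.2 ⟨i, Finset.mem_univ _, rfl⟩), add_zero]
  rw [Finset.sum_eq_single i]
  · rw [if_pos rfl]
  · intro j _ hj
    rw [if_neg (fun h => hj (hf h))]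
  · simp

lemma uVec_off (β : V → ℤ) (A : Finset V) {v : V} (hv : v ∉ univ.image f) :
    uVec f β A v = if v ∈ A then β v else 0 := by
  unfold uVec
  rw [if_neg hv, Finset.sum_eq_zero, zero_add]
  intro j _
  rw [if_neg]
  rintro rfl
  exact hv (Finset.mem_image.2 ⟨j, Finset.mem_univ _, rfl⟩)

/-- value of `α u` at chain vertices -/
lemma mulVec_uVec_chain (hC : LabGraph.IsChain ends f e)
    (hconn : ∀ i, LabGraph.IsConnecting ends (e i)) {β : V → ℤ} (hβ : LabGraph.IsMultFn ends β)
    (hβm : ∀ i, β (f i) = m) (hα : ∀ i, LabGraph.mfMatrix ends β (f i) (f i) = -2)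
    (hm : 0 < m) (A : Finset V) (hA0 : f 0 ∈ A) (hA1 : ∀ j : Fin (m + 1), 0 < j.val → f j ∉ A)
    (hA2 : ∀ x y, x ∈ A → y ∉ A → (x ∉ univ.image f ∨ y ∉ univ.image f) →
        LabGraph.edgeMult ends x y = 0) (i : Fin (m + 1)) :
    ((LabGraph.mfMatrix ends β).mulVec (uVec f β A)) (f i) =
      (if i.val = m then 1 else 0) - (if i.val = 0 then 1 else 0) := by
  rw [row_chain ends f e hC hconn β i (hα i)]
  simp only [uVec_chain f hC.1]
  have hout : (∑ v, if v ∈ univ.image f then 0 else
      (LabGraph.edgeMult ends (f i) v : ℤ) * uVec f β A v) =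
      if i.val = 0 then (m : ℤ) else 0 := by
    by_cases hi : i.val = 0
    · rw [if_pos hi]
      have hi0 : i = 0 := Fin.ext hi
      subst hi0
      have h1 := outside_sum ends f e hC hconn hβ hβm 0 (hα 0)
      rw [if_neg (by simp), if_pos (by simpa using hm)] at h1
      rw [show (2 * (m : ℤ) - 0 - m) = m by ring] at h1
      rw [← h1]
      refine Finset.sum_congr rfl fun v _ => ?_
      split_ifs with hv
      · rfl
      · rw [uVec_off f β A hv]
        split_ifs with hvA
        · rfl
        · rw [hA2 (f 0) v hA0 hvA (Or.inr hv)]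
          simp
    · rw [if_neg hi]
      refine Finset.sum_eq_zero fun v _ => ?_
      split_ifs with hv
      · rfl
      · rw [uVec_off f β A hv]
        split_ifs with hvA
        · rw [edgeMult_comm, hA2 v (f i) hvA (hA1 i (by lia)) (Or.inl hv)]
          simp
        · simp
  rw [hout]
  have hi := i.2
  by_cases h0 : i.val = 0
  · rw [dif_neg (by lia), dif_pos (by lia), if_pos h0, if_neg (by lia), if_pos h0]
    simp only [h0]
    push_cast
    ring
  · by_cases h1 : i.val = m
    · rw [dif_pos (by lia), dif_neg (by lia), if_neg h0, if_pos h1, if_neg h0]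
      simp only [h1]
      have : ((m - 1 : ℕ) : ℤ) = (m : ℤ) - 1 := by
        rw [Nat.cast_sub (by lia)]; simp
      rw [this]
      ring
    · rw [dif_pos (by lia), dif_pos (by lia), if_neg h0, if_neg h1, if_neg h0]
      have : ((i.val - 1 : ℕ) : ℤ) = (i.val : ℤ) - 1 := by
        rw [Nat.cast_sub (by lia)]; simp
      simp only [this]
      push_cast
      ring

/-- value of `α u` off the chain -/
lemma mulVec_uVec_off (hC : LabGraph.IsChain ends f e)
    (hconn : ∀ i, LabGraph.IsConnecting ends (e i)) {β : V → ℤ} (hβ : LabGraph.IsMultFn ends β)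
    (hβm : ∀ i, β (f i) = m) (hα : ∀ i, LabGraph.mfMatrix ends β (f i) (f i) = -2)
    (hm : 0 < m) (A : Finset V) (hA0 : f 0 ∈ A) (hA1 : ∀ j : Fin (m + 1), 0 < j.val → f j ∉ A)
    (hA2 : ∀ x y, x ∈ A → y ∉ A → (x ∉ univ.image f ∨ y ∉ univ.image f) →
        LabGraph.edgeMult ends x y = 0) (w : V) (hw : w ∉ univ.image f) :
    ((LabGraph.mfMatrix ends β).mulVec (uVec f β A)) w = 0 := by
  have hwf : ∀ j, w ≠ f j := fun j h => hw (Finset.mem_image.2 ⟨j, Finset.mem_univ _, h.symm⟩)
  rw [mulVec_apply', sum_split f hC.1]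
  simp only [uVec_chain f hC.1]
  -- first part
  have h1 : (∑ j : Fin (m + 1), LabGraph.mfMatrix ends β w (f j) * ((m : ℤ) - j.val)) =
      (LabGraph.edgeMult ends w (f 0) : ℤ) * m := by
    rw [Finset.sum_eq_single (0 : Fin (m + 1))]
    · rw [mfMatrix_off ends β (hwf 0)]
      simp
    · intro j _ hj
      have hj0 : 0 < j.val := Nat.pos_of_ne_zero (fun h => hj (Fin.ext h))
      by_cases hjm : j.val = m
      · rw [hjm]; simp
      · rw [mfMatrix_off ends β (hwf j), edgeMult_comm,
          edgeMult_interior ends f e hC hconn hβ hβm j (hα j) hj0 (by have := j.2; lia) w hw]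
        simp
    · simp
  rw [h1]
  by_cases hwA : w ∈ A
  · have h2 := mfMatrix_row ends hβ w
    rw [sum_split f hC.1] at h2
    have h3 : (∑ j : Fin (m + 1), LabGraph.mfMatrix ends β w (f j) * β (f j)) =
        (LabGraph.edgeMult ends w (f 0) : ℤ) * m := by
      rw [Finset.sum_eq_single (0 : Fin (m + 1))]
      · rw [mfMatrix_off ends β (hwf 0), hβm]
      · intro j _ hj
        have hj0 : 0 < j.val := Nat.pos_of_ne_zero (fun h => hj (Fin.ext h))
        rw [mfMatrix_off ends β (hwf j), hA2 w (f j) hwA (hA1 j hj0) (Or.inl hw)]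
        simp
      · simp
    rw [h3] at h2
    refine Eq.trans ?_ h2
    congr 1
    refine Finset.sum_congr rfl fun v _ => ?_
    split_ifs with hv
    · rfl
    · rw [uVec_off f β A hv]
      split_ifs with hvA
      · rfl
      · have hvw : w ≠ v := fun h => hvA (h ▸ hwA)
        rw [mfMatrix_off ends β hvw, hA2 w v hwA hvA (Or.inl hw)]
        simp
  · rw [edgeMult_comm, hA2 (f 0) w hA0 hwA (Or.inr hw)]
    simp only [Nat.cast_zero, zero_mul, zero_add]
    refine Finset.sum_eq_zero fun v _ => ?_
    split_ifs with hv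
    · rfl
    · rw [uVec_off f β A hv]
      split_ifs with hvA
      · have hvw : w ≠ v := fun h => hwA (h ▸ hvA)
        rw [mfMatrix_off ends β hvw, edgeMult_comm, hA2 v w hvA hwA (Or.inl hv)]
        simp
      · simp

/-- **`δ_{v_m} - δ_{v_0}` is in the image of `α`.** -/
theorem exists_mulVec_eq (hC : LabGraph.IsChain ends f e)
    (hconn : ∀ i, LabGraph.IsConnecting ends (e i)) {β : V → ℤ} (hβ : LabGraph.IsMultFn ends β)
    (hβm : ∀ i, β (f i) = m) (hα : ∀ i, LabGraph.mfMatrix ends β (f i) (f i) = -2) :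
    ∃ u : V → ℤ, (∀ i : Fin (m + 1), u (f i) = (m : ℤ) - i.val) ∧
      (LabGraph.mfMatrix ends β).mulVec u =
        fun w => (if w = f (Fin.last m) then (1 : ℤ) else 0) - (if w = f 0 then 1 else 0) := by
  have hm : 0 < m := by
    have h1 := (hβ (f 0)).1
    rw [hβm] at h1
    exact_mod_cast h1
  obtain ⟨A, hA0, hA1, hA2⟩ := exists_cut ends f e hC hconn hm
  refine ⟨uVec f β A, uVec_chain f hC.1 β A, ?_⟩
  funext w
  by_cases hw : w ∈ univ.image f
  · obtain ⟨i, -, rfl⟩ := Finset.mem_image.1 hw
    rw [mulVec_uVec_chain ends f e hC hconn hβ hβm hα hm A hA0 hA1 hA2 i]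
    congr 1
    · by_cases h : i.val = m
      · rw [if_pos h, if_pos]
        congr 1
        exact Fin.ext (by simpa using h)
      · rw [if_neg h, if_neg]
        intro h2
        exact h (by simpa using congrArg Fin.val (hC.1 h2))
    · by_cases h : i.val = 0
      · rw [if_pos h, if_pos]
        congr 1
        exact Fin.ext (by simpa using h)
      · rw [if_neg h, if_neg]
        intro h2
        exact h (by simpa using congrArg Fin.val (hC.1 h2))
  · rw [mulVec_uVec_off ends f e hC hconn hβ hβm hα hm A hA0 hA1 hA2 w hw]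
    have h1 : w ≠ f (Fin.last m) := fun h => hw (Finset.mem_image.2 ⟨_, Finset.mem_univ _, h.symm⟩)
    have h2 : w ≠ f 0 := fun h => hw (Finset.mem_image.2 ⟨_, Finset.mem_univ _, h.symm⟩)
    rw [if_neg h1, if_neg h2, sub_zero]

end Groth.Agent.Lib.Helper11.LabG
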