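import Mathlib
import Groth.Agent.Lib.Helper11.LabGD

/-!
# Contraction of a chain: push-forward, lift, and the component group
-/

set_option autoImplicit false
set_option linter.unusedSectionVars false
universe u
open Finset

namespace Groth.Agent.Lib.Helper11.LabG

variable {V E : Type u} [Fintype V] [Fintype E] [DecidableEq V] [DecidableEq E]
variable (ends : E → V × V) {m : ℕ} (f : Fin (m + 1) → V) (e : Fin m → E)

lemma mem_image_iff (v : V) : v ∈ univ.image f ↔ v ∈ Set.range f := by
  simp

lemma mk_eq_zero_iff (hC : LabGraph.IsChain ends f e) (v : V) :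
    DualGr.ctrMk ends (univ.image e) v = DualGr.ctrMk ends (univ.image e) (f 0) ↔
      v ∈ univ.image f := by
  rw [mk_eq_iff ends f e hC, mem_image_iff]
  constructor
  · rintro (rfl | ⟨h, -⟩)
    · exact ⟨0, rfl⟩
    · exact h
  · intro h
    exact Or.inr ⟨h, ⟨0, rfl⟩⟩

lemma liftAt_apply (hC : LabGraph.IsChain ends f e) (x : DualGr.CtrVert ends (univ.image e) → ℤ)
    (v : V) : LabGraph.liftAt ends (univ.image e) (f 0) x v =
      if v ∈ univ.image f ∧ v ≠ f 0 then 0 else x (DualGr.ctrMk ends (univ.image e) v) := by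
  unfold LabGraph.liftAt
  simp only [mk_eq_zero_iff ends f e hC]

lemma liftAt_chain (hC : LabGraph.IsChain ends f e)
    (x : DualGr.CtrVert ends (univ.image e) → ℤ) (j : Fin (m + 1)) :
    LabGraph.liftAt ends (univ.image e) (f 0) x (f j) =
      if j = 0 then x (DualGr.ctrMk ends (univ.image e) (f 0)) else 0 := by
  rw [liftAt_apply ends f e hC]
  by_cases hj : j = 0
  · subst hj
    simp
  · rw [if_pos ⟨Finset.mem_image.2 ⟨j, Finset.mem_univ _, rfl⟩, fun h => hj (hC.1 h)⟩, if_neg hj]

lemma liftAt_off (hC : LabGraph.IsChain ends f e)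
    (x : DualGr.CtrVert ends (univ.image e) → ℤ) {v : V} (hv : v ∉ univ.image f) :
    LabGraph.liftAt ends (univ.image e) (f 0) x v = x (DualGr.ctrMk ends (univ.image e) v) := by
  rw [liftAt_apply ends f e hC, if_neg (fun h => hv h.1)]

lemma pushV_off (hC : LabGraph.IsChain ends f e) (w : V → ℤ) {v : V} (hv : v ∉ univ.image f) :
    DualGr.pushV ends (univ.image e) w (DualGr.ctrMk ends (univ.image e) v) = w v := by
  rw [pushV_apply, Finset.sum_eq_single v]
  · rw [if_pos rfl]
  · intro v' _ hv'
    rw [if_neg]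
    intro h
    rcases (mk_eq_iff ends f e hC v' v).1 h with h1 | ⟨-, h2⟩
    · exact hv' h1
    · exact hv ((mem_image_iff f v).2 h2)
  · simp

lemma pushV_zero (hC : LabGraph.IsChain ends f e) (w : V → ℤ) :
    DualGr.pushV ends (univ.image e) w (DualGr.ctrMk ends (univ.image e) (f 0)) =
      ∑ j, w (f j) := by
  rw [pushV_apply]
  simp_rw [mk_eq_zero_iff ends f e hC]
  rw [sum_split f hC.1]
  have h1 : (∑ v, if v ∈ univ.image f then 0 else if v ∈ univ.image f then w v else 0) = 0 := by
    refine Finset.sum_eq_zero fun v _ => ?_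
    split_ifs <;> rfl
  rw [h1, add_zero]
  refine Finset.sum_congr rfl fun j _ => ?_
  rw [if_pos (Finset.mem_image.2 ⟨j, Finset.mem_univ _, rfl⟩)]

/-- equality of vectors on the contraction can be checked at `[v]`, `v` off the chain, and `[v₀]` -/
lemma ctr_ext (hC : LabGraph.IsChain ends f e) {x y : DualGr.CtrVert ends (univ.image e) → ℤ}
    (h1 : ∀ v, v ∉ univ.image f → x (DualGr.ctrMk ends (univ.image e) v) =
      y (DualGr.ctrMk ends (univ.image e) v))
    (h2 : x (DualGr.ctrMk ends (univ.image e) (f 0)) = y (DualGr.ctrMk ends (univ.image e) (f 0))) :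
    x = y := by
  funext c
  obtain ⟨v, rfl⟩ := DualGr.ctrMk_surjective ends (univ.image e) c
  by_cases hv : v ∈ univ.image f
  · rw [(mk_eq_zero_iff ends f e hC v).2 hv]
    exact h2
  · exact h1 v hv

/-- `π_* ∘ liftAt = id` -/
lemma pushV_liftAt (hC : LabGraph.IsChain ends f e)
    (x : DualGr.CtrVert ends (univ.image e) → ℤ) :
    DualGr.pushV ends (univ.image e) (LabGraph.liftAt ends (univ.image e) (f 0) x) = x := by
  apply ctr_ext ends f e hC
  · intro v hv
    rw [pushV_off ends f e hC _ hv, liftAt_off ends f e hC x hv]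
  · rw [pushV_zero ends f e hC]
    simp_rw [liftAt_chain ends f e hC]
    rw [Finset.sum_ite_eq' , if_pos (Finset.mem_univ _)]

/-- vectors vanishing at `v_j`, `j ≥ 1`, are lifts -/
lemma liftAt_pushV (hC : LabGraph.IsChain ends f e) (y : V → ℤ)
    (hy : ∀ j : Fin (m + 1), 0 < j.val → y (f j) = 0) :
    LabGraph.liftAt ends (univ.image e) (f 0) (DualGr.pushV ends (univ.image e) y) = y := by
  funext v
  by_cases hv : v ∈ univ.image f
  · obtain ⟨j, -, rfl⟩ := Finset.mem_image.1 hv
    rw [liftAt_chain ends f e hC]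
    by_cases hj : j = 0
    · subst hj
      rw [if_pos rfl, pushV_zero ends f e hC, Finset.sum_eq_single (0 : Fin (m + 1))]
      · intro j _ hj
        exact hy j (Nat.pos_of_ne_zero fun h => hj (Fin.ext h))
      · simp
    · rw [if_neg hj, hy j (Nat.pos_of_ne_zero fun h => hj (Fin.ext h))]
  · rw [liftAt_off ends f e hC _ hv, pushV_off ends f e hC _ hv]

/-- rows of `α` at interior chain vertices -/
lemma interior_row (hC : LabGraph.IsChain ends f e)
    (hconn : ∀ i, LabGraph.IsConnecting ends (e i)) {β : V → ℤ} (hβ : LabGraph.IsMultFn ends β)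
    (hβm : ∀ i, β (f i) = m) (hα : ∀ i, LabGraph.mfMatrix ends β (f i) (f i) = -2)
    (z : V → ℤ) (i : Fin (m + 1)) (h0 : 0 < i.val) (hm : i.val < m) :
    ((LabGraph.mfMatrix ends β).mulVec z) (f i) =
      -2 * z (f i) + z (f ⟨i.val - 1, by lia⟩) + z (f ⟨i.val + 1, by lia⟩) := by
  rw [row_chain ends f e hC hconn β i (hα i), dif_pos h0, dif_pos hm]
  rw [Finset.sum_eq_zero, add_zero]
  intro v _
  split_ifs with hv
  · rfl
  · rw [edgeMult_interior ends f e hC hconn hβ hβm i (hα i) h0 hm v hv]
    simp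

lemma pushV_delta (hC : LabGraph.IsChain ends f e) :
    DualGr.pushV ends (univ.image e)
      (fun w => (if w = f (Fin.last m) then (1 : ℤ) else 0) - (if w = f 0 then 1 else 0)) = 0 := by
  apply ctr_ext ends f e hC
  · intro v hv
    rw [pushV_off ends f e hC _ hv]
    have h1 : v ≠ f (Fin.last m) := fun h => hv (Finset.mem_image.2 ⟨_, Finset.mem_univ _, h.symm⟩)
    have h2 : v ≠ f 0 := fun h => hv (Finset.mem_image.2 ⟨_, Finset.mem_univ _, h.symm⟩)
    rw [if_neg h1, if_neg h2]
    rfl
  · rw [pushV_zero ends f e hC, Finset.sum_sub_distrib]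
    have h1 : ∀ j : Fin (m + 1), (if f j = f (Fin.last m) then (1 : ℤ) else 0) =
        if j = Fin.last m then 1 else 0 := by
      intro j
      by_cases h : j = Fin.last m
      · rw [if_pos h, if_pos (by rw [h])]
      · rw [if_neg h, if_neg (fun h2 => h (hC.1 h2))]
    have h2 : ∀ j : Fin (m + 1), (if f j = f 0 then (1 : ℤ) else 0) = if j = 0 then 1 else 0 := by
      intro j
      by_cases h : j = 0
      · rw [if_pos h, if_pos (by rw [h])]
      · rw [if_neg h, if_neg (fun h2 => h (hC.1 h2))]
    simp_rw [h1, h2]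
    simp

/-- **Injectivity**: if the lift of `x` is in the image of `α` then `x` is in the image of `α'`. -/
theorem mem_range_of_liftAt_mem_range (hC : LabGraph.IsChain ends f e)
    (hconn : ∀ i, LabGraph.IsConnecting ends (e i)) {β : V → ℤ} (hβ : LabGraph.IsMultFn ends β)
    (hβm : ∀ i, β (f i) = m) (hα : ∀ i, LabGraph.mfMatrix ends β (f i) (f i) = -2)
    (x : DualGr.CtrVert ends (univ.image e) → ℤ) (z : V → ℤ)
    (hz : (LabGraph.mfMatrix ends β).mulVec z = LabGraph.liftAt ends (univ.image e) (f 0) x) :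
    ∃ y, (LabGraph.mfMatrix (DualGr.ctrEnds ends (univ.image e))
      (LabGraph.ctrFn ends (univ.image e) β)).mulVec y = x := by
  have hm : 0 < m := by
    have h1 := (hβ (f 0)).1
    rw [hβm] at h1
    exact_mod_cast h1
  set t : ℤ := z (f ⟨1, by lia⟩) - z (f 0) with ht
  -- arithmetic progression along the chain
  have hrec : ∀ n : ℕ, ∀ hn : n ≤ m, z (f ⟨n, by lia⟩) = z (f 0) + n * t := by
    intro n
    induction n using Nat.twoStepInduction with
    | zero =>
      intro _
      simp
    | one =>
      intro _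
      rw [ht]
      push_cast
      ring
    | more n ih1 ih2 =>
      intro hn
      have h1 := interior_row ends f e hC hconn hβ hβm hα z ⟨n + 1, by lia⟩ (by simp) (by simp; lia)
      rw [hz, liftAt_chain ends f e hC, if_neg (by
        intro h
        have := congrArg Fin.val h
        simp at this)] at h1
      have h2 := ih1 (by lia)
      have h3 := ih2 (by lia)
      have e1 : (⟨(⟨n + 1, by lia⟩ : Fin (m + 1)).val - 1, by simp; lia⟩ : Fin (m + 1)) =
          ⟨n, by lia⟩ := Fin.ext (by simp)
      have e2 : (⟨(⟨n + 1, by lia⟩ : Fin (m + 1)).val + 1, by simp; lia⟩ : Fin (m + 1)) =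
          ⟨n + 2, by lia⟩ := Fin.ext (by simp)
      rw [e1, e2, h2, h3] at h1
      push_cast
      push_cast at h1
      linarith
  obtain ⟨u, hu1, hu2⟩ := exists_mulVec_eq ends f e hC hconn hβ hβm hα
  set z' : V → ℤ := z + t • u with hz'
  have hconst : ∀ i j : Fin (m + 1), z' (f i) = z' (f j) := by
    have h1 : ∀ i : Fin (m + 1), z' (f i) = z (f 0) + m * t := by
      intro i
      have := hrec i.val (by have := i.2; lia)
      simp only [hz', Pi.add_apply, Pi.smul_apply, smul_eq_mul, hu1]
      have e1 : (⟨i.val, by have := i.2; lia⟩ : Fin (m + 1)) = i := Fin.ext rfl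
      rw [e1] at this
      rw [this]
      ring
    intro i j
    rw [h1 i, h1 j]
  have hpull := hconst_of ends f e hC z' hconst
  refine ⟨LabGraph.ctrFn ends (univ.image e) z', ?_⟩
  rw [mulVec_ctr ends (univ.image e) hβ (hconst_of ends f e hC β (fun i j => by rw [hβm, hβm]))]
  have h1 : (fun v => LabGraph.ctrFn ends (univ.image e) z' (DualGr.ctrMk ends (univ.image e) v)) =
      z' := by
    funext v
    exact (hpull v).symm
  rw [h1, hz', Matrix.mulVec_add, Matrix.mulVec_smul, hz, hu2, map_add, map_smul,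
    pushV_liftAt ends f e hC, pushV_delta ends f e hC, smul_zero, add_zero]

end Groth.Agent.Lib.Helper11.LabG
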