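import Mathlib
import Groth.Agent.Lib.Helper11.LabGE

/-!
# Contraction of a chain: the induced map of component groups is well defined and surjective
-/

set_option autoImplicit false
set_option linter.unusedSectionVars false
universe u
open Finset

namespace Groth.Agent.Lib.Helper11.LabG

variable {V E : Type u} [Fintype V] [Fintype E] [DecidableEq V] [DecidableEq E]
variable (ends : E → V × V) {m : ℕ} (f : Fin (m + 1) → V) (e : Fin m → E)

lemma sum_pushV (D : Finset E) (w : V → ℤ) : ∑ c, DualGr.pushV ends D w c = ∑ v, w v := by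
  simp_rw [pushV_apply]
  exact sum_mk ends D (fun v _ => w v)

/-- (W1) `β (liftAt x) = β' x` -/
lemma betaHom_liftAt (hC : LabGraph.IsChain ends f e) {β : V → ℤ}
    (hβm : ∀ i, β (f i) = m) (x : DualGr.CtrVert ends (univ.image e) → ℤ) :
    LabGraph.betaHom β (LabGraph.liftAt ends (univ.image e) (f 0) x) =
      LabGraph.betaHom (LabGraph.ctrFn ends (univ.image e) β) x := by
  have hconst := hconst_of ends f e hC β (fun i j => by rw [hβm, hβm])
  rw [betaHom_apply, betaHom_apply, ← sum_pushV ends (univ.image e)]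
  congr 1
  apply ctr_ext ends f e hC
  · intro v hv
    rw [pushV_off ends f e hC _ hv, liftAt_off ends f e hC x hv, ← hconst]
  · rw [pushV_zero ends f e hC]
    simp_rw [liftAt_chain ends f e hC]
    rw [Finset.sum_eq_single (0 : Fin (m + 1))]
    · rw [if_pos rfl, ← hconst]
    · intro j _ hj
      rw [if_neg hj, zero_mul]
    · simp

/-- (W2) the lift of an element of the image of `α'` is in the image of `α` -/
lemma liftAt_mulVec_mem (hC : LabGraph.IsChain ends f e)
    (hconn : ∀ i, LabGraph.IsConnecting ends (e i)) {β : V → ℤ} (hβ : LabGraph.IsMultFn ends β)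
    (hβm : ∀ i, β (f i) = m) (hα : ∀ i, LabGraph.mfMatrix ends β (f i) (f i) = -2)
    (y : DualGr.CtrVert ends (univ.image e) → ℤ) :
    ∃ z, (LabGraph.mfMatrix ends β).mulVec z = LabGraph.liftAt ends (univ.image e) (f 0)
      ((LabGraph.mfMatrix (DualGr.ctrEnds ends (univ.image e))
        (LabGraph.ctrFn ends (univ.image e) β)).mulVec y) := by
  have hm : 0 < m := by
    have h1 := (hβ (f 0)).1
    rw [hβm] at h1
    exact_mod_cast h1
  rw [mulVec_ctr ends (univ.image e) hβ (hconst_of ends f e hC β (fun i j => by rw [hβm, hβm]))]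
  set yp : V → ℤ := fun v => y (DualGr.ctrMk ends (univ.image e) v) with hyp
  set w : V → ℤ := (LabGraph.mfMatrix ends β).mulVec yp with hw
  have hw0 : ∀ i : Fin (m + 1), 0 < i.val → i.val < m → w (f i) = 0 := by
    intro i h0 h1
    rw [hw, interior_row ends f e hC hconn hβ hβm hα yp i h0 h1]
    simp only [hyp, mk_chain ends f e hC]
    ring
  obtain ⟨u, -, hu2⟩ := exists_mulVec_eq ends f e hC hconn hβ hβm hα
  refine ⟨yp - w (f (Fin.last m)) • u, ?_⟩
  rw [Matrix.mulVec_sub, Matrix.mulVec_smul, hu2, ← hw]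
  have h0l : (0 : Fin (m + 1)) ≠ Fin.last m := by
    intro h
    have := congrArg Fin.val h
    simp at this
    lia
  funext v
  simp only [Pi.sub_apply, Pi.smul_apply, smul_eq_mul]
  by_cases hv : v ∈ univ.image f
  · obtain ⟨j, -, rfl⟩ := Finset.mem_image.1 hv
    rw [liftAt_chain ends f e hC]
    by_cases hj : j = 0
    · subst hj
      rw [if_pos rfl, pushV_zero ends f e hC, if_neg (fun h => h0l (hC.1 h)), if_pos rfl]
      rw [Finset.sum_eq_add (0 : Fin (m + 1)) (Fin.last m) h0l]
      · ring
      · intro c _ hc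
        refine hw0 c (Nat.pos_of_ne_zero fun h => hc.1 (Fin.ext h)) ?_
        have h1 : c.val ≠ m := fun h => hc.2 (Fin.ext (by simpa using h))
        have := c.2
        lia
      · simp
      · simp
    · rw [if_neg hj, if_neg (fun h => hj (hC.1 h))]
      by_cases hjl : j = Fin.last m
      · subst hjl
        rw [if_pos rfl]
        ring
      · rw [if_neg (fun h => hjl (hC.1 h))]
        have h1 : j.val ≠ m := fun h => hjl (Fin.ext (by simpa using h))
        rw [hw0 j (Nat.pos_of_ne_zero fun h => hj (Fin.ext h)) (by have := j.2; lia)]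
        ring
  · rw [liftAt_off ends f e hC _ hv, pushV_off ends f e hC _ hv]
    have h1 : v ≠ f (Fin.last m) := fun h => hv (Finset.mem_image.2 ⟨_, Finset.mem_univ _, h.symm⟩)
    have h2 : v ≠ f 0 := fun h => hv (Finset.mem_image.2 ⟨_, Finset.mem_univ _, h.symm⟩)
    rw [if_neg h1, if_neg h2]
    ring

/-- vectors vanishing at the chain vertices `v_j`, `j ≥ 1` -/
def Jsub : Submodule ℤ (V → ℤ) where
  carrier := {y | ∀ j : Fin (m + 1), 0 < j.val → y (f j) = 0}
  add_mem' := by
    intro a b ha hb j hj
    simp [ha j hj, hb j hj]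
  zero_mem' := by
    intro j _
    rfl
  smul_mem' := by
    intro c a ha j hj
    simp [ha j hj]

lemma mulVec_single_apply (M : Matrix V V ℤ) (v w : V) :
    (M.mulVec (Pi.single v 1)) w = M w v := by
  rw [Matrix.mulVec_single_one]
  rfl

lemma single_chain (hf : Function.Injective f) (a j : Fin (m + 1)) :
    (Pi.single (f a) (1 : ℤ) : V → ℤ) (f j) = if j = a then 1 else 0 := by
  by_cases h : j = a
  · subst h
    simp
  · rw [if_neg h, Pi.single_apply, if_neg (fun h2 => h (hf h2))]

/-- basis vectors at chain vertices lie in `im α + J` -/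
lemma single_mem_sup (hC : LabGraph.IsChain ends f e)
    (hconn : ∀ i, LabGraph.IsConnecting ends (e i)) {β : V → ℤ}
    (hα : ∀ i, LabGraph.mfMatrix ends β (f i) (f i) = -2) :
    ∀ n : ℕ, ∀ hn : n ≤ m, (Pi.single (f ⟨n, by lia⟩) (1 : ℤ) : V → ℤ) ∈
      LinearMap.range (Matrix.mulVecLin (LabGraph.mfMatrix ends β)) ⊔ Jsub f := by
  intro n
  induction n using Nat.twoStepInduction with
  | zero =>
    intro _
    refine Submodule.mem_sup_right ?_
    intro j hj
    rw [single_chain f hC.1]
    rw [if_neg]
    intro h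
    rw [h] at hj
    simp at hj
  | one =>
    intro hn
    set r : V → ℤ := Pi.single (f ⟨1, by lia⟩) 1 -
      (LabGraph.mfMatrix ends β).mulVec (Pi.single (f ⟨0, by lia⟩) 1) -
      (2 : ℤ) • Pi.single (f ⟨0, by lia⟩) 1 with hr
    have hrJ : r ∈ Jsub f := by
      intro j hj
      have hj0 : j ≠ ⟨0, by lia⟩ := fun h => by rw [h] at hj; simp at hj
      simp only [hr, Pi.sub_apply, Pi.smul_apply, smul_eq_mul, mulVec_single_apply,
        single_chain f hC.1]
      rw [mfMatrix_off ends β (fun h => hj0 (hC.1 h)),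
        edgeMult_chain ends f e hC hconn j ⟨0, by lia⟩ hj0, if_neg hj0]
      by_cases h1 : j = ⟨1, by lia⟩
      · rw [if_pos h1, if_pos (by rw [h1]; simp)]
        ring
      · rw [if_neg h1, if_neg]
        · ring
        · rintro (h | h)
          · simp at h
          · exact h1 (Fin.ext (by simpa using h.symm))
    have h2 : (Pi.single (f ⟨1, by lia⟩) (1 : ℤ) : V → ℤ) = r +
        ((LabGraph.mfMatrix ends β).mulVec (Pi.single (f ⟨0, by lia⟩) 1) +
          (2 : ℤ) • Pi.single (f ⟨0, by lia⟩) 1) := by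
      rw [hr]; abel
    rw [h2]
    refine Submodule.add_mem _ (Submodule.mem_sup_right hrJ) (Submodule.add_mem _ ?_ ?_)
    · exact Submodule.mem_sup_left ⟨_, rfl⟩
    · refine Submodule.smul_mem _ _ (Submodule.mem_sup_right ?_)
      intro j hj
      rw [single_chain f hC.1, if_neg]
      intro h
      rw [h] at hj
      simp at hj
  | more n ih1 ih2 =>
    intro hn
    set r : V → ℤ := Pi.single (f ⟨n + 2, by lia⟩) 1 -
      (LabGraph.mfMatrix ends β).mulVec (Pi.single (f ⟨n + 1, by lia⟩) 1) -
      (2 : ℤ) • Pi.single (f ⟨n + 1, by lia⟩) 1 + Pi.single (f ⟨n, by lia⟩) 1 with hr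
    have hrJ : r ∈ Jsub f := by
      intro j hj
      simp only [hr, Pi.sub_apply, Pi.add_apply, Pi.smul_apply, smul_eq_mul, mulVec_single_apply,
        single_chain f hC.1]
      by_cases h1 : j = ⟨n + 1, by lia⟩
      · subst h1
        rw [hα]
        simp
      · rw [mfMatrix_off ends β (fun h => h1 (hC.1 h)),
          edgeMult_chain ends f e hC hconn j ⟨n + 1, by lia⟩ h1, if_neg h1]
        by_cases h2 : j = ⟨n + 2, by lia⟩
        · subst h2
          simp
        · by_cases h3 : j = ⟨n, by lia⟩
          · subst h3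
            simp
          · rw [if_neg h2, if_neg h3, if_neg]
            · ring
            · rintro (h | h)
              · exact h3 (Fin.ext (by simpa using h))
              · exact h2 (Fin.ext (by simpa using h.symm))
    have h2 : (Pi.single (f ⟨n + 2, by lia⟩) (1 : ℤ) : V → ℤ) = r +
        ((LabGraph.mfMatrix ends β).mulVec (Pi.single (f ⟨n + 1, by lia⟩) 1) +
          ((2 : ℤ) • Pi.single (f ⟨n + 1, by lia⟩) 1 - Pi.single (f ⟨n, by lia⟩) 1)) := by
      rw [hr]; abel
    rw [h2]
    refine Submodule.add_mem _ (Submodule.mem_sup_right hrJ) (Submodule.add_mem _ ?_ ?_)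
    · exact Submodule.mem_sup_left ⟨_, rfl⟩
    · exact Submodule.sub_mem _ (Submodule.smul_mem _ _ (ih2 (by lia))) (ih1 (by lia))

/-- (W3) every vector is the sum of an element of `im α` and a lift -/
theorem exists_add_liftAt (hC : LabGraph.IsChain ends f e)
    (hconn : ∀ i, LabGraph.IsConnecting ends (e i)) {β : V → ℤ}
    (hα : ∀ i, LabGraph.mfMatrix ends β (f i) (f i) = -2) (z : V → ℤ) :
    ∃ (a : V → ℤ) (x : DualGr.CtrVert ends (univ.image e) → ℤ),
      z = (LabGraph.mfMatrix ends β).mulVec a + LabGraph.liftAt ends (univ.image e) (f 0) x := by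
  have h1 : z ∈ LinearMap.range (Matrix.mulVecLin (LabGraph.mfMatrix ends β)) ⊔ Jsub f := by
    have hs : ∀ v : V, (fun j => if v = j then (1 : ℤ) else 0) = Pi.single v 1 := by
      intro v
      funext j
      rw [Pi.single_apply]
      by_cases h : v = j
      · rw [if_pos h, if_pos h.symm]
      · rw [if_neg h, if_neg (Ne.symm h)]
    rw [pi_eq_sum_univ z]
    refine Submodule.sum_mem _ fun v _ => Submodule.smul_mem _ _ ?_
    rw [hs]
    by_cases hv : v ∈ univ.image f
    · obtain ⟨j, -, rfl⟩ := Finset.mem_image.1 hv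
      exact single_mem_sup ends f e hC hconn hα j.val (by have := j.2; lia)
    · refine Submodule.mem_sup_right ?_
      intro j _
      rw [Pi.single_apply, if_neg]
      rintro rfl
      exact hv (Finset.mem_image.2 ⟨j, Finset.mem_univ _, rfl⟩)
  obtain ⟨a', ⟨a, rfl⟩, b, hb, rfl⟩ := Submodule.mem_sup.1 h1
  refine ⟨a, DualGr.pushV ends (univ.image e) b, ?_⟩
  rw [liftAt_pushV ends f e hC b hb]
  rfl

/-- `liftAt` as a linear map -/
noncomputable def liftLin (D : Finset E) (v₀ : V) :
    (DualGr.CtrVert ends D → ℤ) →ₗ[ℤ] (V → ℤ) where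
  toFun := LabGraph.liftAt ends D v₀
  map_add' x y := by
    funext v
    simp only [LabGraph.liftAt, Pi.add_apply]
    split_ifs <;> simp
  map_smul' c x := by
    funext v
    simp only [LabGraph.liftAt, Pi.smul_apply, smul_eq_mul, RingHom.id_apply]
    split_ifs <;> simp

/-- **The map of component groups induced by the lift is well defined and surjective.** -/
theorem exists_surjective_compGrp (hC : LabGraph.IsChain ends f e)
    (hconn : ∀ i, LabGraph.IsConnecting ends (e i)) {β : V → ℤ} (hβ : LabGraph.IsMultFn ends β)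
    (hβm : ∀ i, β (f i) = m) (hα : ∀ i, LabGraph.mfMatrix ends β (f i) (f i) = -2) :
    ∃ φ : LabGraph.CompGrp (DualGr.ctrEnds ends (univ.image e))
        (LabGraph.ctrFn ends (univ.image e) β) →+ LabGraph.CompGrp ends β,
      Function.Surjective φ ∧
      ∀ (x : LinearMap.ker (LabGraph.betaHom (LabGraph.ctrFn ends (univ.image e) β)))
        (y : LinearMap.ker (LabGraph.betaHom β)),
        (y : V → ℤ) = LabGraph.liftAt ends (univ.image e) (f 0)
          (x : DualGr.CtrVert ends (univ.image e) → ℤ) →
        φ (Submodule.Quotient.mk x) = Submodule.Quotient.mk y := by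
  have hW1 := fun x => betaHom_liftAt ends f e hC hβm x
  let F : LinearMap.ker (LabGraph.betaHom (LabGraph.ctrFn ends (univ.image e) β)) →ₗ[ℤ]
      LinearMap.ker (LabGraph.betaHom β) :=
    LinearMap.codRestrict _ ((liftLin ends (univ.image e) (f 0)).comp (Submodule.subtype _))
      (fun x => by
        rw [LinearMap.mem_ker]
        change LabGraph.betaHom β (LabGraph.liftAt ends (univ.image e) (f 0) x.1) = 0
        rw [hW1]
        exact x.2)
  have hF : ∀ x, (F x : V → ℤ) = LabGraph.liftAt ends (univ.image e) (f 0) x.1 := fun x => rfl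
  have hle : (LinearMap.range (Matrix.mulVecLin (LabGraph.mfMatrix (DualGr.ctrEnds ends (univ.image e))
      (LabGraph.ctrFn ends (univ.image e) β)))).comap (LinearMap.ker (LabGraph.betaHom
        (LabGraph.ctrFn ends (univ.image e) β))).subtype ≤
      ((LinearMap.range (Matrix.mulVecLin (LabGraph.mfMatrix ends β))).comap
        (LinearMap.ker (LabGraph.betaHom β)).subtype).comap F := by
    intro x hx
    obtain ⟨y, hy⟩ := hx
    obtain ⟨z, hz⟩ := liftAt_mulVec_mem ends f e hC hconn hβ hβm hα y
    change LabGraph.liftAt ends (univ.image e) (f 0) x.1 ∈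
      LinearMap.range (Matrix.mulVecLin (LabGraph.mfMatrix ends β))
    refine ⟨z, ?_⟩
    rw [Matrix.mulVecLin_apply, hz]
    congr 1
  refine ⟨(Submodule.mapQ _ _ F hle).toAddMonoidHom, ?_, ?_⟩
  · intro ybar
    obtain ⟨y, rfl⟩ := Submodule.Quotient.mk_surjective _ ybar
    obtain ⟨a, x, hax⟩ := exists_add_liftAt ends f e hC hconn hα y.1
    have hx : x ∈ LinearMap.ker (LabGraph.betaHom (LabGraph.ctrFn ends (univ.image e) β)) := by
      rw [LinearMap.mem_ker, ← hW1 x]
      have h1 : LabGraph.liftAt ends (univ.image e) (f 0) x =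
          y.1 - (LabGraph.mfMatrix ends β).mulVec a := by
        rw [hax]; abel
      rw [h1, map_sub, betaHom_mulVec ends hβ, sub_zero]
      exact y.2
    refine ⟨Submodule.Quotient.mk ⟨x, hx⟩, ?_⟩
    change Submodule.mapQ _ _ F hle (Submodule.Quotient.mk ⟨x, hx⟩) = Submodule.Quotient.mk y
    rw [Submodule.mapQ_apply, Submodule.Quotient.eq]
    rw [Submodule.mem_comap]
    refine ⟨-a, ?_⟩
    rw [Matrix.mulVecLin_apply, Matrix.mulVec_neg]
    change _ = (F ⟨x, hx⟩ : V → ℤ) - (y : V → ℤ)
    rw [hF, hax]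
    abel
  · intro x y hxy
    change Submodule.mapQ _ _ F hle (Submodule.Quotient.mk x) = _
    rw [Submodule.mapQ_apply]
    congr 1
    exact Subtype.ext hxy.symm

end Groth.Agent.Lib.Helper11.LabG
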