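import Mathlib.AlgebraicGeometry.AffineTransitionLimit
import Mathlib.AlgebraicGeometry.Morphisms.QuasiSeparated

set_option autoImplicit false
universe u

open CategoryTheory AlgebraicGeometry Limits

namespace Groth.Agent.Lib.Helper11

variable {I : Type u} [SmallCategory I] [IsCofiltered I]
    (D : I ⥤ Scheme.{u}) (c : Limits.Cone D) (hc : Limits.IsLimit c)
    [∀ (i j : I) (f : i ⟶ j), IsAffineHom (D.map f)]

include hc in
theorem compactSpace_pt_of_stage (i₀ : I) [CompactSpace (D.obj i₀)] : CompactSpace c.pt := by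
  have := isAffineHom_π_app D c hc
  exact QuasiCompact.compactSpace_of_compactSpace (c.π.app i₀)

omit [IsCofiltered I] in
theorem compactSpace_of_hom {i i₀ : I} (f : i ⟶ i₀) [CompactSpace (D.obj i₀)] :
    CompactSpace (D.obj i) :=
  QuasiCompact.compactSpace_of_compactSpace (D.map f)

omit [IsCofiltered I] in
theorem quasiSeparatedSpace_of_hom {i i₀ : I} (f : i ⟶ i₀) [QuasiSeparatedSpace (D.obj i₀)] :
    QuasiSeparatedSpace (D.obj i) :=
  quasiSeparatedSpace_of_quasiSeparated (D.map f)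

include hc in
/-- Two disjoint compact opens of the limit descend to disjoint compact opens at some stage. -/
theorem exists_disjoint_opens_stage (i₀ : I) [CompactSpace (D.obj i₀)]
    [QuasiSeparatedSpace (D.obj i₀)] (U V : c.pt.Opens) (hU : IsCompact (U : Set c.pt))
    (hV : IsCompact (V : Set c.pt)) (hUV : U ⊓ V = ⊥) :
    ∃ (i : I) (_ : i ⟶ i₀) (U' V' : (D.obj i).Opens), U' ⊓ V' = ⊥ ∧
      c.π.app i ⁻¹ᵁ U' = U ∧ c.π.app i ⁻¹ᵁ V' = V ∧ (U ⊔ V = ⊤ → U' ⊔ V' = ⊤) := by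
  obtain ⟨i₁, U₁, hU₁c, hU₁⟩ := exists_preimage_eq D c hc U hU
  obtain ⟨i₂, V₂, hV₂c, hV₂⟩ := exists_preimage_eq D c hc V hV
  obtain ⟨i, a, b, d, -⟩ : ∃ (i : I) (_ : i ⟶ i₁) (_ : i ⟶ i₂) (_ : i ⟶ i₀), True :=
    ⟨IsCofiltered.min (IsCofiltered.min i₁ i₂) i₀,
      IsCofiltered.minToLeft _ _ ≫ IsCofiltered.minToLeft _ _,
      IsCofiltered.minToLeft _ _ ≫ IsCofiltered.minToRight _ _,
      IsCofiltered.minToRight _ _, trivial⟩
  have : CompactSpace (D.obj i) := compactSpace_of_hom D d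
  have : QuasiSeparatedSpace (D.obj i) := quasiSeparatedSpace_of_hom D d
  set U' : (D.obj i).Opens := D.map a ⁻¹ᵁ U₁ with hU'
  set V' : (D.obj i).Opens := D.map b ⁻¹ᵁ V₂ with hV'
  have hU'c : IsCompact (U' : Set (D.obj i)) :=
    QuasiCompact.isCompact_preimage (f := D.map a) _ U₁.2 hU₁c
  have hV'c : IsCompact (V' : Set (D.obj i)) :=
    QuasiCompact.isCompact_preimage (f := D.map b) _ V₂.2 hV₂c
  have hπU : c.π.app i ⁻¹ᵁ U' = U := by
    rw [hU', ← Scheme.Hom.comp_preimage, c.w, hU₁]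
  have hπV : c.π.app i ⁻¹ᵁ V' = V := by
    rw [hV', ← Scheme.Hom.comp_preimage, c.w, hV₂]
  have hinter : IsCompact ((U' ⊓ V' : (D.obj i).Opens) : Set (D.obj i)) :=
    QuasiSeparatedSpace.inter_isCompact _ _ U'.2 hU'c V'.2 hV'c
  have hunion : IsCompact ((U' ⊔ V' : (D.obj i).Opens) : Set (D.obj i)) := hU'c.union hV'c
  obtain ⟨j₁, f₁, e₁⟩ := exists_map_preimage_eq_map_preimage D c hc hinter
    (V := ⊥) (by simp) (by
      rw [Scheme.Hom.preimage_inf, hπU, hπV, hUV]; rfl)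
  by_cases htop : U ⊔ V = ⊤
  · obtain ⟨j₂, f₂, e₂⟩ := exists_map_preimage_eq_map_preimage D c hc hunion
      (V := ⊤) (by simpa using isCompact_univ) (by
        rw [Scheme.Hom.preimage_sup, hπU, hπV, htop]; rfl)
    obtain ⟨k, g₁, g₂, e⟩ := IsCofiltered.cospan f₁ f₂
    refine ⟨k, (g₁ ≫ f₁) ≫ d, D.map (g₁ ≫ f₁) ⁻¹ᵁ U', D.map (g₁ ≫ f₁) ⁻¹ᵁ V', ?_, ?_, ?_, ?_⟩
    · rw [← Scheme.Hom.preimage_inf, Functor.map_comp, Scheme.Hom.comp_preimage, e₁]; rfl
    · rw [← Scheme.Hom.comp_preimage, c.w, hπU]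
    · rw [← Scheme.Hom.comp_preimage, c.w, hπV]
    · intro _
      rw [← Scheme.Hom.preimage_sup, e, Functor.map_comp, Scheme.Hom.comp_preimage, e₂]; rfl
  · refine ⟨j₁, f₁ ≫ d, D.map f₁ ⁻¹ᵁ U', D.map f₁ ⁻¹ᵁ V', ?_, ?_, ?_, fun h => absurd h htop⟩
    · rw [← Scheme.Hom.preimage_inf, e₁]; rfl
    · rw [← Scheme.Hom.comp_preimage, c.w, hπU]
    · rw [← Scheme.Hom.comp_preimage, c.w, hπV]

include hc in
theorem eventually_not_preconnectedSpace (i₀ : I)
    [CompactSpace (D.obj i₀)] [QuasiSeparatedSpace (D.obj i₀)] (h : ¬ PreconnectedSpace c.pt) :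
    ∃ (i : I) (_ : i ⟶ i₀), ∀ (j : I) (_ : j ⟶ i), ¬ PreconnectedSpace (D.obj j) := by
  have := compactSpace_pt_of_stage D c hc i₀
  rw [preconnectedSpace_iff_clopen] at h
  push Not at h
  obtain ⟨s, hs, hne, hnu⟩ := h
  let U : c.pt.Opens := ⟨s, hs.isOpen⟩
  let V : c.pt.Opens := ⟨sᶜ, hs.compl.isOpen⟩
  have hU : IsCompact (U : Set c.pt) := hs.isClosed.isCompact
  have hV : IsCompact (V : Set c.pt) := hs.compl.isClosed.isCompact
  have hUV : U ⊓ V = ⊥ := by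
    ext x; simp [U, V]
  have hUVt : U ⊔ V = ⊤ := by
    ext x; simp [U, V]
  obtain ⟨i, f, U', V', hinf, hπU, hπV, hsup⟩ :=
    exists_disjoint_opens_stage D c hc i₀ U V hU hV hUV
  replace hsup := hsup hUVt
  refine ⟨i, f, fun j g hj => ?_⟩
  obtain ⟨x, hx⟩ := hne
  obtain ⟨y, hy⟩ := Set.nonempty_compl.2 hnu
  have hxU : c.π.app j x ∈ D.map g ⁻¹ᵁ U' := by
    have : x ∈ c.π.app j ⁻¹ᵁ (D.map g ⁻¹ᵁ U') := by
      rw [← Scheme.Hom.comp_preimage, c.w, hπU]; exact hx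
    exact this
  have hyV : c.π.app j y ∈ D.map g ⁻¹ᵁ V' := by
    have : y ∈ c.π.app j ⁻¹ᵁ (D.map g ⁻¹ᵁ V') := by
      rw [← Scheme.Hom.comp_preimage, c.w, hπV]; exact hy
    exact this
  have hinf' : D.map g ⁻¹ᵁ U' ⊓ D.map g ⁻¹ᵁ V' = ⊥ := by
    rw [← Scheme.Hom.preimage_inf, hinf]; rfl
  have hsup' : D.map g ⁻¹ᵁ U' ⊔ D.map g ⁻¹ᵁ V' = ⊤ := by
    rw [← Scheme.Hom.preimage_sup, hsup]; rfl
  have hcompl : ((D.map g ⁻¹ᵁ U' : (D.obj j).Opens) : Set (D.obj j))ᶜ =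
      (D.map g ⁻¹ᵁ V' : (D.obj j).Opens) := by
    have h1 := congrArg (fun W : (D.obj j).Opens => (W : Set (D.obj j))) hinf'
    have h2 := congrArg (fun W : (D.obj j).Opens => (W : Set (D.obj j))) hsup'
    simp only [TopologicalSpace.Opens.coe_inf, TopologicalSpace.Opens.coe_sup,
      TopologicalSpace.Opens.coe_bot, TopologicalSpace.Opens.coe_top] at h1 h2
    exact (compl_unique h1 h2).symm ▸ rfl
  have hclopen : IsClopen ((D.map g ⁻¹ᵁ U' : (D.obj j).Opens) : Set (D.obj j)) :=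
    ⟨by rw [← isOpen_compl_iff, hcompl]; exact (D.map g ⁻¹ᵁ V').2, (D.map g ⁻¹ᵁ U').2⟩
  rcases (preconnectedSpace_iff_clopen.1 hj) _ hclopen with h0 | h1
  · have hxU' : c.π.app j x ∈ ((D.map g ⁻¹ᵁ U' : (D.obj j).Opens) : Set (D.obj j)) := hxU
    rw [h0] at hxU'; exact hxU'
  · have : c.π.app j y ∈ ((D.map g ⁻¹ᵁ U' : (D.obj j).Opens) : Set (D.obj j))ᶜ := by
      rw [hcompl]; exact hyV
    rw [h1] at this; exact this (Set.mem_univ _)

include hc in
/-- If the limit is empty then some stage over a quasi-compact stage is empty. -/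
theorem exists_isEmpty_stage (i₀ : I) [CompactSpace (D.obj i₀)] (h : IsEmpty c.pt) :
    ∃ (i : I) (_ : i ⟶ i₀), IsEmpty (D.obj i) := by
  obtain ⟨j, f, e⟩ := exists_map_preimage_eq_map_preimage D c hc (i := i₀) (U := ⊤) (V := ⊥)
    (by simpa using isCompact_univ) (by simp) (by ext x; exact (h.false x).elim)
  refine ⟨j, f, ⟨fun x => ?_⟩⟩
  have : x ∈ D.map f ⁻¹ᵁ (⊤ : (D.obj i₀).Opens) := trivial
  rw [e] at this
  exact this

include hc in
theorem eventually_not_irreducibleSpace (i₀ : I)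
    [CompactSpace (D.obj i₀)] [QuasiSeparatedSpace (D.obj i₀)]
    [TopologicalSpace.NoetherianSpace c.pt] (h : ¬ IrreducibleSpace c.pt) :
    ∃ (i : I) (_ : i ⟶ i₀), ∀ (j : I) (_ : j ⟶ i), ¬ IrreducibleSpace (D.obj j) := by
  by_cases hne : Nonempty c.pt
  · have hpre : ¬ PreirreducibleSpace c.pt := fun hp => h { toPreirreducibleSpace := hp, toNonempty := hne }
    have hpre' : ¬ IsPreirreducible (Set.univ : Set c.pt) := fun hp => hpre ⟨hp⟩
    simp only [IsPreirreducible, Set.univ_inter] at hpre'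
    push Not at hpre'
    obtain ⟨u, v, hu, hv, ⟨x, hx⟩, ⟨y, hy⟩, huv⟩ := hpre'
    let U : c.pt.Opens := ⟨u, hu⟩
    let V : c.pt.Opens := ⟨v, hv⟩
    have hU : IsCompact (U : Set c.pt) := TopologicalSpace.NoetherianSpace.isCompact _
    have hV : IsCompact (V : Set c.pt) := TopologicalSpace.NoetherianSpace.isCompact _
    have hUV : U ⊓ V = ⊥ := by
      ext z
      simp only [TopologicalSpace.Opens.coe_inf, TopologicalSpace.Opens.coe_bot, U, V,
        TopologicalSpace.Opens.coe_mk]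
      rw [huv]
    obtain ⟨i, f, U', V', hinf, hπU, hπV, -⟩ :=
      exists_disjoint_opens_stage D c hc i₀ U V hU hV hUV
    refine ⟨i, f, fun j g hj => ?_⟩
    have hxU : c.π.app j x ∈ D.map g ⁻¹ᵁ U' := by
      have : x ∈ c.π.app j ⁻¹ᵁ (D.map g ⁻¹ᵁ U') := by
        rw [← Scheme.Hom.comp_preimage, c.w, hπU]; exact hx
      exact this
    have hyV : c.π.app j y ∈ D.map g ⁻¹ᵁ V' := by
      have : y ∈ c.π.app j ⁻¹ᵁ (D.map g ⁻¹ᵁ V') := by
        rw [← Scheme.Hom.comp_preimage, c.w, hπV]; exact hy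
      exact this
    have hinf' : D.map g ⁻¹ᵁ U' ⊓ D.map g ⁻¹ᵁ V' = ⊥ := by
      rw [← Scheme.Hom.preimage_inf, hinf]; rfl
    obtain ⟨z, hz⟩ := nonempty_preirreducible_inter (D.map g ⁻¹ᵁ U').2 (D.map g ⁻¹ᵁ V').2
      ⟨_, hxU⟩ ⟨_, hyV⟩
    have : z ∈ D.map g ⁻¹ᵁ U' ⊓ D.map g ⁻¹ᵁ V' := hz
    rw [hinf'] at this
    exact this
  · rw [not_nonempty_iff] at hne
    obtain ⟨i, f, hi⟩ := exists_isEmpty_stage D c hc i₀ hne
    refine ⟨i, f, fun j g hj => ?_⟩
    obtain ⟨x⟩ := hj.toNonempty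
    exact hi.false (D.map g x)

include hc in
/-- The projections from a limit with dominant affine transition maps are dominant. -/
theorem denseRange_π_app (hd : ∀ (i j : I) (φ : i ⟶ j), IsDominant (D.map φ)) (j : I) :
    DenseRange (c.π.app j) := by
  rw [DenseRange, dense_iff_inter_open]
  rintro W hW ⟨x, hx⟩
  obtain ⟨_, ⟨W', hW'aff, rfl⟩, hxW', hW'W⟩ :=
    (D.obj j).isBasis_affineOpens.exists_subset_of_mem_open hx hW
  let W'' : (D.obj j).affineOpens := ⟨W', hW'aff⟩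
  have hne : ∀ k : Over j, Nonempty ((opensDiagram D j W'').obj k) := by
    intro k
    have := hd _ _ k.hom
    obtain ⟨y, hy⟩ := (D.map k.hom).denseRange.exists_mem_open W''.1.2 ⟨x, hxW'⟩
    exact ⟨⟨y, hy⟩⟩
  have haff : ∀ k : Over j, IsAffine ((opensDiagram D j W'').obj k) := fun k =>
    W''.2.preimage (D.map k.hom)
  have : Nonempty ↥(c.π.app j ⁻¹ᵁ W''.1) :=
    Scheme.nonempty_of_isLimit (opensDiagram D j W'') (opensCone D c j W'')
      (isLimitOpensCone D c hc j W'')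
  obtain ⟨⟨z, hz⟩⟩ := this
  exact ⟨c.π.app j z, hW'W hz, z, rfl⟩

include hc in
/-- If eventually all stages are nonempty (over a quasi-compact stage), so is the limit. -/
theorem nonempty_pt_of_eventually (i₀ i : I) (f : i ⟶ i₀) [CompactSpace (D.obj i₀)]
    (h : ∀ (j : I) (_ : j ⟶ i), Nonempty (D.obj j)) : Nonempty c.pt := by
  have haff : ∀ {i₁ i₂ : Over i} (g : i₁ ⟶ i₂), IsAffineHom ((Over.forget i ⋙ D).map g) := by
    intro i₁ i₂ g; dsimp; infer_instance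
  have hne : ∀ k : Over i, Nonempty ((Over.forget i ⋙ D).obj k) := fun k => h k.left k.hom
  have hcpt : ∀ k : Over i, CompactSpace ((Over.forget i ⋙ D).obj k) := fun k =>
    compactSpace_of_hom D (k.hom ≫ f)
  exact Scheme.nonempty_of_isLimit (Over.forget i ⋙ D) (c.whisker (Over.forget i))
    ((Functor.Initial.isLimitWhiskerEquiv (Over.forget i) c).symm hc)

theorem irreducibleSpace_of_denseRange {X Y : Type*} [TopologicalSpace X] [TopologicalSpace Y]
    [IrreducibleSpace X] {f : X → Y} (hf : DenseRange f) (hcont : Continuous f) :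
    IrreducibleSpace Y := by
  rw [irreducibleSpace_def]
  have h1 : IsIrreducible (Set.univ : Set X) := (irreducibleSpace_def X).1 inferInstance
  have h2 := (h1.image f hcont.continuousOn).closure
  rwa [Set.image_univ, hf.closure_range] at h2

include hc in
theorem irreducibleSpace_iff_eventually_of_isDominant (i₀ : I) [CompactSpace (D.obj i₀)]
    (hd : ∀ (i j : I) (φ : i ⟶ j), IsDominant (D.map φ)) :
    IrreducibleSpace c.pt ↔
      ∃ (i : I) (_ : i ⟶ i₀), ∀ (j : I) (_ : j ⟶ i), IrreducibleSpace (D.obj j) := by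
  constructor
  · intro h
    exact ⟨i₀, 𝟙 _, fun j _ =>
      irreducibleSpace_of_denseRange (X := c.pt) (denseRange_π_app D c hc hd j)
        (c.π.app j).continuous⟩
  · rintro ⟨i, f, h⟩
    have hne : Nonempty c.pt :=
      nonempty_pt_of_eventually D c hc i₀ i f fun j g => (h j g).toNonempty
    refine { toNonempty := hne, toPreirreducibleSpace := ⟨?_⟩ }
    rintro u v hu hv ⟨x, -, hx⟩ ⟨y, -, hy⟩
    obtain ⟨_, ⟨_, ⟨k, Wk, -, rfl⟩, rfl⟩, hxW, hWu⟩ :=
      (isBasis_preimage_isAffineOpen D c hc).exists_subset_of_mem_open hx hu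
    obtain ⟨_, ⟨_, ⟨l, Wl, -, rfl⟩, rfl⟩, hyW, hWv⟩ :=
      (isBasis_preimage_isAffineOpen D c hc).exists_subset_of_mem_open hy hv
    obtain ⟨m, a, b, d, -⟩ : ∃ (m : I) (_ : m ⟶ k) (_ : m ⟶ l) (_ : m ⟶ i), True :=
      ⟨IsCofiltered.min (IsCofiltered.min k l) i,
        IsCofiltered.minToLeft _ _ ≫ IsCofiltered.minToLeft _ _,
        IsCofiltered.minToLeft _ _ ≫ IsCofiltered.minToRight _ _,
        IsCofiltered.minToRight _ _, trivial⟩
    have := h m d
    have hxm : c.π.app m x ∈ D.map a ⁻¹ᵁ Wk := by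
      have : x ∈ c.π.app m ⁻¹ᵁ (D.map a ⁻¹ᵁ Wk) := by
        rw [← Scheme.Hom.comp_preimage, c.w]; exact hxW
      exact this
    have hym : c.π.app m y ∈ D.map b ⁻¹ᵁ Wl := by
      have : y ∈ c.π.app m ⁻¹ᵁ (D.map b ⁻¹ᵁ Wl) := by
        rw [← Scheme.Hom.comp_preimage, c.w]; exact hyW
      exact this
    obtain ⟨z, hz⟩ := nonempty_preirreducible_inter (D.map a ⁻¹ᵁ Wk).2 (D.map b ⁻¹ᵁ Wl).2
      ⟨_, hxm⟩ ⟨_, hym⟩
    obtain ⟨w, hw⟩ := (denseRange_π_app D c hc hd m).exists_mem_open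
      ((D.map a ⁻¹ᵁ Wk).2.inter (D.map b ⁻¹ᵁ Wl).2) ⟨z, hz⟩
    refine ⟨w, Set.mem_univ _, hWu ?_, hWv ?_⟩
    · have : w ∈ c.π.app m ⁻¹ᵁ (D.map a ⁻¹ᵁ Wk) := hw.1
      rwa [← Scheme.Hom.comp_preimage, c.w] at this
    · have : w ∈ c.π.app m ⁻¹ᵁ (D.map b ⁻¹ᵁ Wl) := hw.2
      rwa [← Scheme.Hom.comp_preimage, c.w] at this

theorem not_preconnectedSpace_of_opens {X : Type*} [TopologicalSpace X]
    (U V : TopologicalSpace.Opens X) (hinf : U ⊓ V = ⊥) (hsup : U ⊔ V = ⊤)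
    (hU : (U : Set X).Nonempty) (hV : (V : Set X).Nonempty) : ¬ PreconnectedSpace X := by
  intro hj
  have hcompl : (U : Set X)ᶜ = V := by
    have h1 := congrArg (fun W : TopologicalSpace.Opens X => (W : Set X)) hinf
    have h2 := congrArg (fun W : TopologicalSpace.Opens X => (W : Set X)) hsup
    simp only [TopologicalSpace.Opens.coe_inf, TopologicalSpace.Opens.coe_sup,
      TopologicalSpace.Opens.coe_bot, TopologicalSpace.Opens.coe_top] at h1 h2
    exact (compl_unique h1 h2).symm ▸ rfl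
  have hclopen : IsClopen (U : Set X) :=
    ⟨by rw [← isOpen_compl_iff, hcompl]; exact V.2, U.2⟩
  obtain ⟨x, hx⟩ := hU
  obtain ⟨y, hy⟩ := hV
  rcases (preconnectedSpace_iff_clopen.1 hj) _ hclopen with h0 | h1
  · rw [h0] at hx; exact hx
  · have : y ∈ (U : Set X)ᶜ := by rw [hcompl]; exact hy
    rw [h1] at this; exact this (Set.mem_univ _)

include hc in
theorem connectedSpace_iff_eventually_of_isDominant (i₀ : I) [CompactSpace (D.obj i₀)]
    (hd : ∀ (i j : I) (φ : i ⟶ j), IsDominant (D.map φ)) :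
    ConnectedSpace c.pt ↔
      ∃ (i : I) (_ : i ⟶ i₀), ∀ (j : I) (_ : j ⟶ i), ConnectedSpace (D.obj j) := by
  constructor
  · intro h
    refine ⟨i₀, 𝟙 _, fun j _ => ?_⟩
    have := DenseRange.preconnectedSpace (α := c.pt) (denseRange_π_app D c hc hd j)
      (c.π.app j).continuous
    exact { toNonempty := ⟨c.π.app j (Classical.arbitrary c.pt)⟩ }
  · rintro ⟨i, f, h⟩
    have hne : Nonempty c.pt :=
      nonempty_pt_of_eventually D c hc i₀ i f fun j g => (h j g).toNonempty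
    have hcpt := compactSpace_pt_of_stage D c hc i₀
    suffices PreconnectedSpace c.pt from { toNonempty := hne }
    by_contra hnot
    rw [preconnectedSpace_iff_clopen] at hnot
    push Not at hnot
    obtain ⟨s, hs, ⟨x, hx⟩, hnu⟩ := hnot
    obtain ⟨y, hy⟩ := Set.nonempty_compl.2 hnu
    let U : c.pt.Opens := ⟨s, hs.isOpen⟩
    let V : c.pt.Opens := ⟨sᶜ, hs.compl.isOpen⟩
    have hU : IsCompact (U : Set c.pt) := hs.isClosed.isCompact
    have hV : IsCompact (V : Set c.pt) := hs.compl.isClosed.isCompact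
    have hUV : U ⊓ V = ⊥ := by
      ext x; simp [U, V]
    have hUVt : U ⊔ V = ⊤ := by
      ext x; simp [U, V]
    obtain ⟨i₁, U₁, hU₁c, hU₁⟩ := exists_preimage_eq D c hc U hU
    obtain ⟨i₂, V₂, hV₂c, hV₂⟩ := exists_preimage_eq D c hc V hV
    obtain ⟨m, a, b, d, -⟩ : ∃ (m : I) (_ : m ⟶ i₁) (_ : m ⟶ i₂) (_ : m ⟶ i), True :=
      ⟨IsCofiltered.min (IsCofiltered.min i₁ i₂) i,
        IsCofiltered.minToLeft _ _ ≫ IsCofiltered.minToLeft _ _,
        IsCofiltered.minToLeft _ _ ≫ IsCofiltered.minToRight _ _,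
        IsCofiltered.minToRight _ _, trivial⟩
    have : CompactSpace (D.obj m) := compactSpace_of_hom D (d ≫ f)
    set U' : (D.obj m).Opens := D.map a ⁻¹ᵁ U₁ with hU'
    set V' : (D.obj m).Opens := D.map b ⁻¹ᵁ V₂ with hV'
    have hU'c : IsCompact (U' : Set (D.obj m)) :=
      QuasiCompact.isCompact_preimage (f := D.map a) _ U₁.2 hU₁c
    have hV'c : IsCompact (V' : Set (D.obj m)) :=
      QuasiCompact.isCompact_preimage (f := D.map b) _ V₂.2 hV₂c
    have hπU : c.π.app m ⁻¹ᵁ U' = U := by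
      rw [hU', ← Scheme.Hom.comp_preimage, c.w, hU₁]
    have hπV : c.π.app m ⁻¹ᵁ V' = V := by
      rw [hV', ← Scheme.Hom.comp_preimage, c.w, hV₂]
    have hinf : U' ⊓ V' = ⊥ := by
      by_contra hne'
      obtain ⟨z, hz⟩ : ((U' ⊓ V' : (D.obj m).Opens) : Set (D.obj m)).Nonempty := by
        rw [Set.nonempty_iff_ne_empty]
        intro h0
        exact hne' (TopologicalSpace.Opens.ext h0)
      obtain ⟨w, hw⟩ := (denseRange_π_app D c hc hd m).exists_mem_open (U' ⊓ V').2 ⟨z, hz⟩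
      have : w ∈ c.π.app m ⁻¹ᵁ (U' ⊓ V') := hw
      rw [Scheme.Hom.preimage_inf, hπU, hπV, hUV] at this
      exact this
    have hunion : IsCompact ((U' ⊔ V' : (D.obj m).Opens) : Set (D.obj m)) := hU'c.union hV'c
    obtain ⟨n, g, e⟩ := exists_map_preimage_eq_map_preimage D c hc hunion
      (V := ⊤) (by simpa using isCompact_univ) (by
        rw [Scheme.Hom.preimage_sup, hπU, hπV, hUVt]; rfl)
    have hconn := h n (g ≫ d)
    refine not_preconnectedSpace_of_opens (D.map g ⁻¹ᵁ U') (D.map g ⁻¹ᵁ V') ?_ ?_ ?_ ?_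
      hconn.toPreconnectedSpace
    · rw [← Scheme.Hom.preimage_inf, hinf]; rfl
    · rw [← Scheme.Hom.preimage_sup, e]; rfl
    · refine ⟨c.π.app n x, ?_⟩
      have : x ∈ c.π.app n ⁻¹ᵁ (D.map g ⁻¹ᵁ U') := by
        rw [← Scheme.Hom.comp_preimage, c.w, hπU]; exact hx
      exact this
    · refine ⟨c.π.app n y, ?_⟩
      have : y ∈ c.π.app n ⁻¹ᵁ (D.map g ⁻¹ᵁ V') := by
        rw [← Scheme.Hom.comp_preimage, c.w, hπV]; exact hy
      exact this

end Groth.Agent.Lib.Helper11
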