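import Groth.Agent.Lib.Helper11.LimConn
import Mathlib.Topology.NoetherianSpace

set_option autoImplicit false
universe u

open CategoryTheory AlgebraicGeometry Limits

namespace Groth.Agent.Lib.Helper11

section Topology

variable {X Y : Type*} [TopologicalSpace X] [TopologicalSpace Y]

/-- In a Noetherian space, connected components are open. -/
theorem isOpen_connectedComponent_of_noetherianSpace [TopologicalSpace.NoetherianSpace X]
    (x : X) : IsOpen (connectedComponent x) := by
  have hfin : (irreducibleComponents X).Finite :=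
    TopologicalSpace.NoetherianSpace.finite_irreducibleComponents
  have hcl : IsClosed (⋃₀ {Z ∈ irreducibleComponents X | ¬ Z ⊆ connectedComponent x}) := by
    rw [Set.sUnion_eq_biUnion]
    apply Set.Finite.isClosed_biUnion (hfin.subset (Set.sep_subset _ _))
    intro Z hZ
    exact isClosed_of_mem_irreducibleComponents Z hZ.1
  have heq : (connectedComponent x)ᶜ =
      ⋃₀ {Z ∈ irreducibleComponents X | ¬ Z ⊆ connectedComponent x} := by
    ext y
    constructor
    · intro hy
      refine ⟨irreducibleComponent y, ⟨irreducibleComponent_mem_irreducibleComponents y, ?_⟩,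
        mem_irreducibleComponent⟩
      intro hsub
      exact hy (hsub mem_irreducibleComponent)
    · rintro ⟨Z, ⟨hZ, hZsub⟩, hyZ⟩ hy
      apply hZsub
      have h1 : Z ⊆ connectedComponent y :=
        hZ.1.isConnected.isPreconnected.subset_connectedComponent hyZ
      rwa [← connectedComponent_eq hy] at h1
  rw [← isClosed_compl_iff, heq]
  exact hcl

theorem finite_range_connectedComponent_of_noetherianSpace
    [TopologicalSpace.NoetherianSpace X] :
    (Set.range (connectedComponent : X → Set X)).Finite := by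
  have hfin : (irreducibleComponents X).Finite :=
    TopologicalSpace.NoetherianSpace.finite_irreducibleComponents
  apply (hfin.image fun Z : Set X => ⋃ z ∈ Z, connectedComponent z).subset
  rintro _ ⟨x, rfl⟩
  refine ⟨irreducibleComponent x, irreducibleComponent_mem_irreducibleComponents x, ?_⟩
  apply Set.Subset.antisymm
  · intro y hy
    simp only [Set.mem_iUnion] at hy
    obtain ⟨z, hz, hyz⟩ := hy
    have h1 : irreducibleComponent x ⊆ connectedComponent x :=
      isIrreducible_irreducibleComponent.isConnected.isPreconnected.subset_connectedComponent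
        mem_irreducibleComponent
    rwa [connectedComponent_eq (h1 hz)]
  · intro y hy
    simp only [Set.mem_iUnion]
    exact ⟨x, mem_irreducibleComponent, hy⟩

/-- Pure topology: bijection on connected components for a map with dense range, given a
compatible open cover of the target. -/
theorem bijOn_connectedComponents_of_denseRange (p : X → Y) (hp : Continuous p)
    (hd : DenseRange p) (W : Set X → Set Y)
    (hWo : ∀ C ∈ Set.range (connectedComponent : X → Set X), IsOpen (W C))
    (hWp : ∀ C ∈ Set.range (connectedComponent : X → Set X), p ⁻¹' (W C) = C)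
    (hcov : ∀ y, ∃ C ∈ Set.range (connectedComponent : X → Set X), y ∈ W C) :
    Set.BijOn (fun C : Set X => closure (p '' C))
      (Set.range (connectedComponent : X → Set X))
      (Set.range (connectedComponent : Y → Set Y)) := by
  have hdisj : ∀ C ∈ Set.range (connectedComponent : X → Set X),
      ∀ C' ∈ Set.range (connectedComponent : X → Set X), (W C ∩ W C').Nonempty → C = C' := by
    intro C hC C' hC' hne
    obtain ⟨x, hx⟩ := hd.exists_mem_open ((hWo C hC).inter (hWo C' hC')) hne
    have h1 : x ∈ C := by rw [← hWp C hC]; exact hx.1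
    have h2 : x ∈ C' := by rw [← hWp C' hC']; exact hx.2
    obtain ⟨a, rfl⟩ := hC
    obtain ⟨b, rfl⟩ := hC'
    rw [connectedComponent_eq h1, connectedComponent_eq h2]
  have hclosed : ∀ C ∈ Set.range (connectedComponent : X → Set X), IsClosed (W C) := by
    intro C hC
    rw [← isOpen_compl_iff, isOpen_iff_forall_mem_open]
    intro y hy
    obtain ⟨C', hC', hyC'⟩ := hcov y
    refine ⟨W C', ?_, hWo C' hC', hyC'⟩
    intro z hz hzC
    have := hdisj C hC C' hC' ⟨z, hzC, hz⟩
    subst this
    exact hy hyC'
  have hcl : ∀ C ∈ Set.range (connectedComponent : X → Set X), closure (p '' C) = W C := by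
    intro C hC
    apply Set.Subset.antisymm
    · apply (hclosed C hC).closure_subset_iff.2
      rintro _ ⟨x, hx, rfl⟩
      have : x ∈ p ⁻¹' (W C) := by rw [hWp C hC]; exact hx
      exact this
    · intro y hy
      rw [mem_closure_iff]
      intro N hN hyN
      obtain ⟨x, hx⟩ := hd.exists_mem_open (hN.inter (hWo C hC)) ⟨y, hyN, hy⟩
      have : x ∈ C := by rw [← hWp C hC]; exact hx.2
      exact ⟨p x, hx.1, x, this, rfl⟩
  have hcc : ∀ C ∈ Set.range (connectedComponent : X → Set X), ∀ y ∈ W C,
      W C = connectedComponent y := by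
    intro C hC y hy
    apply Set.Subset.antisymm
    · have hconn : IsConnected (W C) := by
        rw [← hcl C hC]
        obtain ⟨a, rfl⟩ := hC
        exact (isConnected_connectedComponent.image p hp.continuousOn).closure
      exact hconn.isPreconnected.subset_connectedComponent hy
    · exact IsClopen.connectedComponent_subset ⟨hclosed C hC, hWo C hC⟩ hy
  refine ⟨?_, ?_, ?_⟩
  · intro C hC
    show closure (p '' C) ∈ _
    rw [hcl C hC]
    obtain ⟨a, rfl⟩ := id hC
    have ha : p a ∈ W (connectedComponent a) := by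
      have : a ∈ p ⁻¹' (W (connectedComponent a)) := by
        rw [hWp _ hC]; exact mem_connectedComponent
      exact this
    exact ⟨p a, (hcc _ hC _ ha).symm⟩
  · intro C hC C' hC' h
    simp only [hcl C hC, hcl C' hC'] at h
    apply hdisj C hC C' hC'
    obtain ⟨a, rfl⟩ := id hC
    have ha : p a ∈ W (connectedComponent a) := by
      have : a ∈ p ⁻¹' (W (connectedComponent a)) := by
        rw [hWp _ hC]; exact mem_connectedComponent
      exact this
    exact ⟨p a, ha, h ▸ ha⟩
  · rintro _ ⟨y, rfl⟩
    obtain ⟨C, hC, hyC⟩ := hcov y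
    refine ⟨C, hC, ?_⟩
    show closure (p '' C) = _
    rw [hcl C hC, hcc C hC y hyC]

end Topology

variable {I : Type u} [SmallCategory I] [IsCofiltered I]
    (D : I ⥤ Scheme.{u}) (c : Limits.Cone D) (hc : Limits.IsLimit c)
    [∀ (i j : I) (f : i ⟶ j), IsAffineHom (D.map f)]

include hc in
theorem eventually_bijOn_connectedComponents (i₀ : I)
    [CompactSpace (D.obj i₀)] [TopologicalSpace.NoetherianSpace c.pt]
    (hd : ∀ (i j : I) (φ : i ⟶ j), IsDominant (D.map φ)) :
    ∃ (i : I) (_ : i ⟶ i₀), ∀ (j : I) (_ : j ⟶ i),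
      Set.BijOn (fun C : Set c.pt => closure (⇑(c.π.app j) '' (C : Set c.pt) : Set (D.obj j)))
        (Set.range (connectedComponent : c.pt → Set c.pt))
        (Set.range (connectedComponent : D.obj j → Set (D.obj j))) := by
  classical
  set 𝒞 := Set.range (connectedComponent : c.pt → Set c.pt) with h𝒞
  have hfin : 𝒞.Finite := finite_range_connectedComponent_of_noetherianSpace
  have : Finite 𝒞 := hfin.to_subtype
  have := Fintype.ofFinite 𝒞
  have hopen : ∀ C : 𝒞, IsOpen (C.1 : Set c.pt) := by
    rintro ⟨_, x, rfl⟩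
    exact isOpen_connectedComponent_of_noetherianSpace x
  have key : ∀ C : 𝒞, ∃ (k : I) (V : (D.obj k).Opens), IsCompact (V : Set (D.obj k)) ∧
      c.π.app k ⁻¹ᵁ V = ⟨C.1, hopen C⟩ := fun C =>
    exists_preimage_eq D c hc ⟨C.1, hopen C⟩ (TopologicalSpace.NoetherianSpace.isCompact _)
  choose k V hVc hV using key
  obtain ⟨m, hm⟩ := IsCofiltered.inf_objs_exists (insert i₀ (Finset.univ.image k))
  have hmk : ∀ C : 𝒞, Nonempty (m ⟶ k C) := fun C =>
    hm (Finset.mem_insert_of_mem (Finset.mem_image_of_mem _ (Finset.mem_univ _)))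
  let a : ∀ C : 𝒞, m ⟶ k C := fun C => (hmk C).some
  let d : m ⟶ i₀ := (hm (Finset.mem_insert_self _ _)).some
  have : CompactSpace (D.obj m) := compactSpace_of_hom D d
  let V' : 𝒞 → (D.obj m).Opens := fun C => D.map (a C) ⁻¹ᵁ V C
  have hV'c : ∀ C, IsCompact (V' C : Set (D.obj m)) := fun C =>
    QuasiCompact.isCompact_preimage (f := D.map (a C)) _ (V C).2 (hVc C)
  have hπV' : ∀ C : 𝒞, c.π.app m ⁻¹ᵁ V' C = ⟨C.1, hopen C⟩ := by
    intro C
    rw [← hV C, ← Scheme.Hom.comp_preimage, c.w]
  have hunion : IsCompact ((⨆ C, V' C : (D.obj m).Opens) : Set (D.obj m)) := by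
    simp only [TopologicalSpace.Opens.coe_iSup]
    exact isCompact_iUnion hV'c
  have hpre : c.π.app m ⁻¹ᵁ (⨆ C, V' C) = c.π.app m ⁻¹ᵁ ⊤ := by
    rw [Scheme.Hom.preimage_iSup]
    simp only [hπV', Scheme.Hom.preimage_top]
    ext x
    simp only [TopologicalSpace.Opens.coe_iSup, TopologicalSpace.Opens.coe_mk, Set.mem_iUnion,
      TopologicalSpace.Opens.coe_top, Set.mem_univ, iff_true]
    exact ⟨⟨connectedComponent x, x, rfl⟩, mem_connectedComponent⟩
  obtain ⟨n, g, e⟩ := exists_map_preimage_eq_map_preimage D c hc hunion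
    (V := ⊤) (by simpa using isCompact_univ) hpre
  refine ⟨n, g ≫ d, fun j f => ?_⟩
  let W : Set c.pt → Set (D.obj j) := fun C =>
    if h : C ∈ 𝒞 then ((D.map (f ≫ g) ⁻¹ᵁ V' ⟨C, h⟩ : (D.obj j).Opens) : Set (D.obj j)) else ∅
  have hW : ∀ (C : Set c.pt) (h : C ∈ 𝒞),
      W C = ((D.map (f ≫ g) ⁻¹ᵁ V' ⟨C, h⟩ : (D.obj j).Opens) : Set (D.obj j)) := by
    intro C h; simp only [W, dif_pos h]
  apply bijOn_connectedComponents_of_denseRange (X := c.pt) _ (c.π.app j).continuous
    (denseRange_π_app D c hc hd j) W
  · intro C hC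
    rw [hW C hC]
    exact (D.map (f ≫ g) ⁻¹ᵁ V' ⟨C, hC⟩).2
  · intro C hC
    rw [hW C hC]
    have := congrArg (fun U : c.pt.Opens => (U : Set c.pt)) (hπV' ⟨C, hC⟩)
    simp only [TopologicalSpace.Opens.coe_mk] at this
    refine Eq.trans ?_ this
    rw [← c.w (f ≫ g), Scheme.Hom.comp_preimage]
    rfl
  · intro y
    have hy : y ∈ D.map (f ≫ g) ⁻¹ᵁ (⨆ C, V' C) := by
      rw [Functor.map_comp, Scheme.Hom.comp_preimage, e]
      trivial
    rw [Scheme.Hom.preimage_iSup] at hy
    obtain ⟨C, hC⟩ := TopologicalSpace.Opens.mem_iSup.1 hy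
    exact ⟨C.1, C.2, by rw [hW C.1 C.2]; exact hC⟩

end Groth.Agent.Lib.Helper11
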