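import Mathlib.AlgebraicGeometry.AffineTransitionLimit
import Mathlib.AlgebraicGeometry.Properties
import Mathlib.AlgebraicGeometry.Morphisms.Flat

set_option autoImplicit false
universe u

open CategoryTheory AlgebraicGeometry Limits

namespace Groth.Agent.Lib.Helper11

section Affine

variable {K : Type u} [SmallCategory K] [IsCofiltered K]
    (E : K ⥤ Scheme.{u}) (cE : Limits.Cone E) (hE : Limits.IsLimit cE)

include hE in
/-- Affine case: if the limit of affine schemes is not reduced, eventually the stages are not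
reduced. -/
theorem eventually_not_isReduced_of_isAffine [∀ k, IsAffine (E.obj k)]
    (h : ¬ IsReduced cE.pt) :
    ∃ (k : K), ∀ (l : K) (_ : l ⟶ k), ¬ IsReduced (E.obj l) := by
  have : IsAffine cE.pt := Scheme.isAffine_of_isLimit cE hE
  have h1 : ¬ _root_.IsReduced Γ(cE.pt, ⊤) := fun hr => h (isReduced_of_isAffine_isReduced cE.pt)
  rw [isReduced_iff] at h1
  push Not at h1
  obtain ⟨s, ⟨n, hn⟩, hs0⟩ := h1
  obtain ⟨k, t, ht⟩ := exists_appTop_π_eq_of_isAffine_of_isLimit E cE hE s
  have htn : (cE.π.app k).appTop (t ^ n) = 0 := by rw [map_pow, ht, hn]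
  obtain ⟨l, f, hl⟩ := exists_appTop_map_eq_zero_of_isAffine_of_isLimit E cE hE k (t ^ n) htn
  refine ⟨l, fun m g hm => ?_⟩
  set t'' := (E.map (g ≫ f)).appTop t with ht''
  have h2 : t'' ^ n = 0 := by
    rw [ht'', ← map_pow, Functor.map_comp, Scheme.Hom.comp_appTop]
    simp only [CommRingCat.hom_comp, RingHom.coe_comp, Function.comp_apply]
    rw [hl, map_zero]
  have h3 : (cE.π.app m).appTop t'' = s := by
    rw [ht'', ← ht, ← cE.w (g ≫ f), Scheme.Hom.comp_appTop]
    simp only [CommRingCat.hom_comp, RingHom.coe_comp, Function.comp_apply]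
  have h4 : t'' = 0 := (IsReduced.component_reduced (X := E.obj m) ⊤).eq_zero _ ⟨n, h2⟩
  rw [h4, map_zero] at h3
  exact hs0 h3.symm

include hE in
/-- Affine case with faithfully flat transition maps: if the limit is reduced, so is every
stage. -/
theorem isReduced_of_isAffine_of_flat_surjective [∀ k, IsAffine (E.obj k)]
    (hf : ∀ (k l : K) (φ : k ⟶ l), Flat (E.map φ) ∧ Surjective (E.map φ))
    [IsReduced cE.pt] (k : K) : IsReduced (E.obj k) := by
  have hinj : Function.Injective (cE.π.app k).appTop := by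
    rw [injective_iff_map_eq_zero]
    intro s hs
    obtain ⟨l, f, hl⟩ := exists_appTop_map_eq_zero_of_isAffine_of_isLimit E cE hE k s hs
    have hff : (E.map f).appTop.hom.FaithfullyFlat :=
      (Flat.flat_and_surjective_iff_faithfullyFlat_of_isAffine (E.map f)).1 (hf _ _ f)
    exact (injective_iff_map_eq_zero _).1 hff.injective s hl
  have hR : _root_.IsReduced ↑Γ(((Functor.const K).obj cE.pt).obj k, ⊤) :=
    (inferInstance : _root_.IsReduced Γ(cE.pt, ⊤))
  have : _root_.IsReduced Γ(E.obj k, ⊤) :=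
    isReduced_of_injective (cE.π.app k).appTop.hom hinj
  exact isReduced_of_isAffine_isReduced (E.obj k)

end Affine

theorem surjective_resLE {X Y : Scheme.{u}} (f : X ⟶ Y) [Surjective f] (U : Y.Opens)
    (V : X.Opens) (e : V ≤ f ⁻¹ᵁ U) (e' : f ⁻¹ᵁ U ≤ V) : Surjective (f.resLE U V e) := by
  refine ⟨fun q => ?_⟩
  obtain ⟨x, hx⟩ := f.surjective q.1
  have hxV : x ∈ V := e' (by show f x ∈ U; rw [hx]; exact q.2)
  refine ⟨⟨x, hxV⟩, ?_⟩
  apply Subtype.ext
  have := congr($(Scheme.Hom.resLE_comp_ι f (U := U) (V := V) e) ⟨x, hxV⟩)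
  simp only [Scheme.Hom.comp_apply, Scheme.Opens.ι_apply] at this
  rw [this, hx]

variable {I : Type u} [SmallCategory I] [IsCofiltered I]
    (D : I ⥤ Scheme.{u}) (c : Limits.Cone D) (hc : Limits.IsLimit c)
    [∀ (i j : I) (f : i ⟶ j), IsAffineHom (D.map f)]

omit [IsCofiltered I] [∀ (i j : I) (f : i ⟶ j), IsAffineHom (D.map f)] in
theorem exists_affineOpen_not_isReduced (i₁ : I) (h : ¬ IsReduced c.pt) :
    ∃ V : (D.obj i₁).affineOpens, ¬ IsReduced (c.π.app i₁ ⁻¹ᵁ V.1 : Scheme) := by
  by_contra hcon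
  push Not at hcon
  apply h
  have hcov : TopologicalSpace.IsOpenCover
      (fun V : (D.obj i₁).affineOpens => c.π.app i₁ ⁻¹ᵁ V.1) := by
    rw [TopologicalSpace.IsOpenCover, ← Scheme.Hom.preimage_iSup, iSup_affineOpens_eq_top]
    rfl
  have : ∀ V, IsReduced ((c.pt.openCoverOfIsOpenCover _ hcov).X V) := fun V => hcon V
  exact IsReduced.of_openCover c.pt (c.pt.openCoverOfIsOpenCover _ hcov)

include hc in
theorem eventually_not_isReduced (h : ¬ IsReduced c.pt) :
    ∃ (i : I), ∀ (j : I) (_ : j ⟶ i), ¬ IsReduced (D.obj j) := by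
  obtain ⟨i₁⟩ := IsCofiltered.nonempty (C := I)
  obtain ⟨V, hV⟩ := exists_affineOpen_not_isReduced D c i₁ h
  have haff : ∀ k : Over i₁, IsAffine ((opensDiagram D i₁ V.1).obj k) := fun k =>
    V.2.preimage (D.map k.hom)
  obtain ⟨k, hk⟩ := eventually_not_isReduced_of_isAffine (opensDiagram D i₁ V.1)
    (opensCone D c i₁ V.1) (isLimitOpensCone D c hc i₁ V.1) hV
  refine ⟨k.left, fun j g hj => ?_⟩
  have := hk (Over.mk (g ≫ k.hom)) (Over.homMk g)
  apply this
  show IsReduced (D.map (g ≫ k.hom) ⁻¹ᵁ V.1 : Scheme)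
  infer_instance

include hc in
theorem isReduced_stage_of_flat_surjective
    (hf : ∀ (i j : I) (φ : i ⟶ j), Flat (D.map φ) ∧ Surjective (D.map φ))
    [IsReduced c.pt] (i : I) : IsReduced (D.obj i) := by
  have hcov : TopologicalSpace.IsOpenCover
      (fun V : (D.obj i).affineOpens => V.1) := iSup_affineOpens_eq_top _
  suffices ∀ V : (D.obj i).affineOpens, IsReduced (V.1 : Scheme) by
    have : ∀ V, IsReduced (((D.obj i).openCoverOfIsOpenCover _ hcov).X V) := fun V => this V
    exact IsReduced.of_openCover (D.obj i) ((D.obj i).openCoverOfIsOpenCover _ hcov)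
  intro V
  have haff : ∀ k : Over i, IsAffine ((opensDiagram D i V.1).obj k) := fun k =>
    V.2.preimage (D.map k.hom)
  have hfs : ∀ (k l : Over i) (φ : k ⟶ l), Flat ((opensDiagram D i V.1).map φ) ∧
      Surjective ((opensDiagram D i V.1).map φ) := by
    intro k l φ
    have h1 := (hf _ _ φ.left).1
    have h2 := (hf _ _ φ.left).2
    refine ⟨by dsimp [opensDiagram]; infer_instance, ?_⟩
    dsimp [opensDiagram]
    apply surjective_resLE
    rw [← Scheme.Hom.comp_preimage, ← D.map_comp, Over.w φ]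
  have hred : IsReduced (opensCone D c i V.1).pt := by
    have : IsReduced (((Functor.const I).obj c.pt).obj i) := ‹IsReduced c.pt›
    show IsReduced (c.π.app i ⁻¹ᵁ V.1 : Scheme)
    infer_instance
  have key := isReduced_of_isAffine_of_flat_surjective (opensDiagram D i V.1)
    (opensCone D c i V.1) (isLimitOpensCone D c hc i V.1) hfs (Over.mk (𝟙 i))
  have e : D.map (𝟙 i) ⁻¹ᵁ V.1 = V.1 := by simp
  have key' : IsReduced (D.map (𝟙 i) ⁻¹ᵁ V.1 : Scheme) := key
  rwa [e] at key'

include hc in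
theorem isReduced_iff_forall_of_flat_surjective
    (hf : ∀ (i j : I) (φ : i ⟶ j), Flat (D.map φ) ∧ Surjective (D.map φ)) :
    IsReduced c.pt ↔ ∀ (i : I), IsReduced (D.obj i) := by
  constructor
  · intro h i
    exact isReduced_stage_of_flat_surjective D c hc hf i
  · intro h
    by_contra hnot
    obtain ⟨i, hi⟩ := eventually_not_isReduced D c hc hnot
    exact hi i (𝟙 i) (h i)

end Groth.Agent.Lib.Helper11
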