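import Groth.Agent.Lib.Helper11.LimConn
import Groth.Agent.Lib.Helper11.LimReduced

set_option autoImplicit false
universe u

open CategoryTheory AlgebraicGeometry Limits

namespace Groth.Agent.Lib.Helper11

variable {I : Type u} [SmallCategory I] [IsCofiltered I]
    (D : I ⥤ Scheme.{u}) (c : Limits.Cone D) (hc : Limits.IsLimit c)
    [∀ (i j : I) (f : i ⟶ j), IsAffineHom (D.map f)]

include hc in
theorem isIntegral_iff_eventually_of_flat_surjective (i₀ : I)
    [CompactSpace (D.obj i₀)]
    (hf : ∀ (i j : I) (φ : i ⟶ j), Flat (D.map φ) ∧ Surjective (D.map φ)) :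
    IsIntegral c.pt ↔ ∃ (i : I) (_ : i ⟶ i₀), ∀ (j : I) (_ : j ⟶ i), IsIntegral (D.obj j) := by
  have hd : ∀ (i j : I) (φ : i ⟶ j), IsDominant (D.map φ) := fun i j φ =>
    have := (hf i j φ).2
    inferInstance
  have hirr := irreducibleSpace_iff_eventually_of_isDominant D c hc i₀ hd
  constructor
  · intro h
    obtain ⟨i, f, hi⟩ := hirr.1 inferInstance
    refine ⟨i, f, fun j g => ?_⟩
    have := hi j g
    have := isReduced_stage_of_flat_surjective D c hc hf j
    exact isIntegral_of_irreducibleSpace_of_isReduced _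
  · rintro ⟨i, f, hi⟩
    have h1 : IrreducibleSpace c.pt := hirr.2 ⟨i, f, fun j g => by
      have := hi j g; infer_instance⟩
    have h2 : IsReduced c.pt := by
      by_contra hnot
      obtain ⟨i', hi'⟩ := eventually_not_isReduced D c hc hnot
      have := hi (IsCofiltered.min i i') (IsCofiltered.minToLeft _ _)
      exact hi' (IsCofiltered.min i i') (IsCofiltered.minToRight _ _) inferInstance
    exact isIntegral_of_irreducibleSpace_of_isReduced _

end Groth.Agent.Lib.Helper11
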