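import Groth.Agent.Lib.Helper11.LimConn
import Mathlib.Topology.NoetherianSpace

set_option autoImplicit false
universe u

open CategoryTheory AlgebraicGeometry Limits

namespace Groth.Agent.Lib.Helper11

/-- Pure topology: a continuous map with dense range from a space with finitely many irreducible
components, separating the closures of images of distinct components, induces a bijection on
irreducible components. -/
theorem bijOn_irreducibleComponents_of_denseRange {X Y : Type*} [TopologicalSpace X]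
    [TopologicalSpace Y] (p : X → Y) (hp : Continuous p) (hd : DenseRange p)
    (hfin : (irreducibleComponents X).Finite)
    (hsep : ∀ Z ∈ irreducibleComponents X, ∀ Z' ∈ irreducibleComponents X,
      closure (p '' Z) ⊆ closure (p '' Z') → Z = Z') :
    Set.BijOn (fun Z : Set X => closure (p '' Z)) (irreducibleComponents X)
      (irreducibleComponents Y) := by
  classical
  have hirr : ∀ Z ∈ irreducibleComponents X, IsIrreducible (closure (p '' Z)) := fun Z hZ =>
    (hZ.1.image p hp.continuousOn).closure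
  have hcov : ⋃ Z ∈ irreducibleComponents X, closure (p '' Z) = Set.univ := by
    rw [← hfin.closure_biUnion, ← Set.image_iUnion₂, ← Set.sUnion_eq_biUnion,
      sUnion_irreducibleComponents, Set.image_univ]
    exact hd.closure_range
  have hsub : ∀ W : Set Y, IsIrreducible W →
      ∃ Z ∈ irreducibleComponents X, W ⊆ closure (p '' Z) := by
    intro W hW
    obtain ⟨T, hT, hWT⟩ := isIrreducible_iff_sUnion_isClosed.1 hW
      (hfin.toFinset.image fun Z => closure (p '' Z))
      (by
        intro z hz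
        obtain ⟨Z, -, rfl⟩ := Finset.mem_image.1 hz
        exact isClosed_closure)
      (by
        intro y _
        have : y ∈ ⋃ Z ∈ irreducibleComponents X, closure (p '' Z) := by
          rw [hcov]; trivial
        simp only [Set.mem_iUnion] at this
        obtain ⟨Z, hZ, hy⟩ := this
        refine Set.mem_sUnion.2 ⟨closure (p '' Z), ?_, hy⟩
        simp only [Finset.coe_image, Set.Finite.coe_toFinset]
        exact ⟨Z, hZ, rfl⟩)
    obtain ⟨Z, hZ, rfl⟩ := Finset.mem_image.1 hT
    exact ⟨Z, hfin.mem_toFinset.1 hZ, hWT⟩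
  refine ⟨?_, ?_, ?_⟩
  · intro Z hZ
    refine ⟨hirr Z hZ, fun W hW hZW => ?_⟩
    obtain ⟨Z', hZ', hWZ'⟩ := hsub W hW
    have := hsep Z hZ Z' hZ' (hZW.trans hWZ')
    subst this
    exact hWZ'
  · intro Z hZ Z' hZ' h
    exact hsep Z hZ Z' hZ' (le_of_eq h)
  · intro W hW
    obtain ⟨Z, hZ, hWZ⟩ := hsub W hW.1
    exact ⟨Z, hZ, (hW.2 (hirr Z hZ) hWZ).antisymm hWZ |>.symm ▸ rfl⟩

variable {I : Type u} [SmallCategory I] [IsCofiltered I]
    (D : I ⥤ Scheme.{u}) (c : Limits.Cone D) (hc : Limits.IsLimit c)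
    [∀ (i j : I) (f : i ⟶ j), IsAffineHom (D.map f)]

include hc in
/-- Distinct irreducible components of the limit are eventually separated. -/
theorem exists_stage_separating (Z Z' : Set c.pt) (hZ : Z ∈ irreducibleComponents c.pt)
    (hZ' : Z' ∈ irreducibleComponents c.pt) (hne : Z ≠ Z') :
    ∃ k : I, ∀ (j : I) (_ : j ⟶ k),
      ¬ closure (⇑(c.π.app j) '' Z) ⊆ closure (⇑(c.π.app j) '' Z') := by
  have hnot : ¬ Z ⊆ Z' := fun h => hne ((hZ.2 hZ'.1 h).antisymm h |>.symm ▸ rfl)
  obtain ⟨x, hxZ, hxZ'⟩ := Set.not_subset.1 hnot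
  have hcl : IsClosed Z' := isClosed_of_mem_irreducibleComponents Z' hZ'
  obtain ⟨_, ⟨_, ⟨k, V, -, rfl⟩, rfl⟩, hxV, hVU⟩ :=
    (isBasis_preimage_isAffineOpen D c hc).exists_subset_of_mem_open
      (show x ∈ Z'ᶜ from hxZ') hcl.isOpen_compl
  refine ⟨k, fun j g hsub => ?_⟩
  have hxj : c.π.app j x ∈ D.map g ⁻¹ᵁ V := by
    have : x ∈ c.π.app j ⁻¹ᵁ (D.map g ⁻¹ᵁ V) := by
      rw [← Scheme.Hom.comp_preimage, c.w]; exact hxV
    exact this
  have hmem : c.π.app j x ∈ closure (⇑(c.π.app j) '' Z') :=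
    hsub (subset_closure ⟨x, hxZ, rfl⟩)
  obtain ⟨y, hyV, z, hzZ', rfl⟩ := mem_closure_iff.1 hmem _ (D.map g ⁻¹ᵁ V).2 hxj
  have : z ∈ c.π.app j ⁻¹ᵁ (D.map g ⁻¹ᵁ V) := hyV
  rw [← Scheme.Hom.comp_preimage, c.w] at this
  exact hVU this hzZ'

include hc in
theorem eventually_bijOn_irreducibleComponents (i₀ : I)
    [TopologicalSpace.NoetherianSpace c.pt]
    (hd : ∀ (i j : I) (φ : i ⟶ j), IsDominant (D.map φ)) :
    ∃ (i : I) (_ : i ⟶ i₀), ∀ (j : I) (_ : j ⟶ i),
      Set.BijOn (fun Y : Set c.pt => closure (⇑(c.π.app j) '' (Y : Set c.pt) : Set (D.obj j)))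
        (irreducibleComponents c.pt) (irreducibleComponents (D.obj j)) := by
  classical
  have hfin : (irreducibleComponents c.pt).Finite :=
    TopologicalSpace.NoetherianSpace.finite_irreducibleComponents
  have : Finite (irreducibleComponents c.pt) := hfin.to_subtype
  have key : ∀ q : irreducibleComponents c.pt × irreducibleComponents c.pt,
      ∃ k : I, q.1 ≠ q.2 → ∀ (j : I) (_ : j ⟶ k),
        ¬ closure (⇑(c.π.app j) '' q.1.1) ⊆ closure (⇑(c.π.app j) '' q.2.1) := by
    intro q
    by_cases h : q.1 = q.2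
    · exact ⟨i₀, fun h' => absurd h h'⟩
    · obtain ⟨k, hk⟩ := exists_stage_separating D c hc q.1.1 q.2.1 q.1.2 q.2.2
        (fun h' => h (Subtype.ext h'))
      exact ⟨k, fun _ => hk⟩
  choose k hk using key
  have := Fintype.ofFinite (irreducibleComponents c.pt × irreducibleComponents c.pt)
  obtain ⟨i, hi⟩ := IsCofiltered.inf_objs_exists (insert i₀ (Finset.univ.image k))
  refine ⟨i, (hi (Finset.mem_insert_self _ _)).some, fun j g => ?_⟩
  apply bijOn_irreducibleComponents_of_denseRange (X := c.pt) _ (c.π.app j).continuous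
    (denseRange_π_app D c hc hd j) hfin
  intro Z hZ Z' hZ' hsub
  by_contra hne
  have hmem : k (⟨Z, hZ⟩, ⟨Z', hZ'⟩) ∈ insert i₀ (Finset.univ.image k) :=
    Finset.mem_insert_of_mem (Finset.mem_image_of_mem _ (Finset.mem_univ _))
  exact hk (⟨Z, hZ⟩, ⟨Z', hZ'⟩) (fun h => hne (congrArg Subtype.val h)) j
    (g ≫ (hi hmem).some) hsub

end Groth.Agent.Lib.Helper11
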