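import Mathlib
import Groth.Prelude.Def_LocRes

/-!
# Laurent series: decomposition `g = X^a · unit`, logarithmic residue, valuation = exp (-order)
-/

set_option autoImplicit false

namespace Groth.Agent.Lib.Helper11.LocResLib

open LaurentSeries HahnSeries LocRes

universe w

variable {F : Type w} [Field F]

/-- Decomposition of a nonzero Laurent series over a field. -/
lemma exists_decomp (g : F⸨X⸩) (hg : g ≠ 0) :
    ∃ (P Q : PowerSeries F), P * Q = 1 ∧ g = single g.order (1 : F) * (P : F⸨X⸩) ∧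
      g⁻¹ = single (-g.order) (1 : F) * (Q : F⸨X⸩) := by
  set P := g.powerSeriesPart with hP
  have hc : PowerSeries.constantCoeff P ≠ 0 := by
    rw [← PowerSeries.coeff_zero_eq_constantCoeff_apply, hP, powerSeriesPart_coeff]
    simpa using (HahnSeries.coeff_order_eq_zero (x := g)).not.mpr hg
  have hPQ : P * P⁻¹ = 1 := PowerSeries.mul_inv_cancel P hc
  have hdec : g = single g.order (1 : F) * (P : F⸨X⸩) :=
    (single_order_mul_powerSeriesPart g).symm
  refine ⟨P, P⁻¹, hPQ, hdec, ?_⟩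
  apply inv_eq_of_mul_eq_one_right
  have h1 : single g.order (1 : F) * single (-g.order) (1 : F) = 1 := by
    rw [single_mul_single]; simp
  have h2 : ((P : PowerSeries F) : F⸨X⸩) * ((P⁻¹ : PowerSeries F) : F⸨X⸩) = 1 := by
    rw [← PowerSeries.coe_mul, hPQ, PowerSeries.coe_one]
  calc g * (single (-g.order) (1 : F) * ((P⁻¹ : PowerSeries F) : F⸨X⸩))
      = (single g.order (1 : F) * (P : F⸨X⸩)) *
          (single (-g.order) (1 : F) * ((P⁻¹ : PowerSeries F) : F⸨X⸩)) := by rw [← hdec]
    _ = (single g.order (1 : F) * single (-g.order) (1 : F)) *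
          (((P : PowerSeries F) : F⸨X⸩) * ((P⁻¹ : PowerSeries F) : F⸨X⸩)) := by ring
    _ = 1 := by rw [h1, h2, one_mul]

lemma val_coe_of_mul_eq_one (P Q : PowerSeries F) (h : P * Q = 1) :
    Valued.v ((P : PowerSeries F) : F⸨X⸩) = 1 := by
  have hP : Valued.v ((P : PowerSeries F) : F⸨X⸩) ≤ 1 :=
    (val_le_one_iff_eq_coe F _).mpr ⟨P, rfl⟩
  have hQ : Valued.v ((Q : PowerSeries F) : F⸨X⸩) ≤ 1 :=
    (val_le_one_iff_eq_coe F _).mpr ⟨Q, rfl⟩
  have h1 : Valued.v ((P : PowerSeries F) : F⸨X⸩) * Valued.v ((Q : PowerSeries F) : F⸨X⸩) = 1 := by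
    rw [← map_mul, ← PowerSeries.coe_mul, h, PowerSeries.coe_one, map_one]
  refine le_antisymm hP ?_
  calc (1 : WithZero (Multiplicative ℤ))
      = Valued.v ((P : PowerSeries F) : F⸨X⸩) * Valued.v ((Q : PowerSeries F) : F⸨X⸩) := h1.symm
    _ ≤ Valued.v ((P : PowerSeries F) : F⸨X⸩) * 1 := mul_le_mul_right hQ _
    _ = _ := mul_one _

/-- The `X`-adic valuation of a nonzero Laurent series is `exp (-order)`. -/
lemma val_eq_exp_neg_order (g : F⸨X⸩) (hg : g ≠ 0) :
    Valued.v g = WithZero.exp (-g.order) := by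
  obtain ⟨P, Q, hPQ, hdec, -⟩ := exists_decomp g hg
  conv_lhs => rw [hdec]
  rw [map_mul, valuation_single_zpow, val_coe_of_mul_eq_one P Q hPQ, mul_one]

/-- The logarithmic residue: `res (g⁻¹ g') = order g`. -/
lemma res_inv_mul_D (g : F⸨X⸩) (hg : g ≠ 0) :
    res F (g⁻¹ * D F g) = ((g.order : ℤ) : F) := by
  obtain ⟨P, Q, hPQ, hdec, hinv⟩ := exists_decomp g hg
  set a := g.order with ha
  have h1 : single a (1 : F) * single (-a) (1 : F) = 1 := by
    rw [single_mul_single]; simp
  have h2 : ((P : PowerSeries F) : F⸨X⸩) * ((Q : PowerSeries F) : F⸨X⸩) = 1 := by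
    rw [← PowerSeries.coe_mul, hPQ, PowerSeries.coe_one]
  have hT : single (a - 1) (a • (1 : F)) = single a (1 : F) * single (-1) (a • (1 : F)) := by
    rw [single_mul_single]; congr 1
    ring
  have hD : D F g = single a (1 : F) * ((PowerSeries.derivative F P : PowerSeries F) : F⸨X⸩) +
      single a (1 : F) * single (-1) (a • (1 : F)) * (P : F⸨X⸩) := by
    conv_lhs => rw [hdec]
    rw [D_apply, derivative_single_mul, derivative_coe, hT]
  have key : g⁻¹ * D F g =
      ((Q * PowerSeries.derivative F P : PowerSeries F) : F⸨X⸩) + single (-1) (a • (1 : F)) := by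
    rw [hinv, hD, PowerSeries.coe_mul]
    linear_combination
      (((Q : PowerSeries F) : F⸨X⸩) * ((PowerSeries.derivative F P : PowerSeries F) : F⸨X⸩) +
        single (-1) (a • (1 : F)) * ((P : PowerSeries F) : F⸨X⸩) * ((Q : PowerSeries F) : F⸨X⸩)) * h1 +
      single (-1) (a • (1 : F)) * h2
  rw [key, map_add, res_apply, res_apply, PowerSeries.coeff_coe]
  simp

end Groth.Agent.Lib.Helper11.LocResLib
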