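import Mathlib

set_option autoImplicit false
set_option linter.unusedSectionVars false
set_option linter.unusedVariables false
set_option linter.style.haveILetI false

open Module Submodule

universe u v w

namespace Groth.Agent.Lib.Helper11.Matr

variable {K : Type u} [Field K] {Ω : Type v} [DecidableEq Ω]

/-- Rank of the subfamily indexed by `A`. -/
noncomputable def rk {U : Type w} [AddCommGroup U] [Module K U] (u : Ω → U) (A : Finset Ω) : ℕ :=
  finrank K (span K (u '' (A : Set Ω)))

section
variable {U : Type w} [AddCommGroup U] [Module K U] (u : Ω → U)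

instance finiteDimensional_span (A : Finset Ω) :
    FiniteDimensional K (span K (u '' (A : Set Ω))) :=
  FiniteDimensional.span_of_finite K (A.finite_toSet.image u)

lemma rk_mono {A B : Finset Ω} (h : A ⊆ B) : rk (K := K) u A ≤ rk (K := K) u B :=
  Submodule.finrank_mono (span_mono (Set.image_mono (Finset.coe_subset.mpr h)))

lemma rk_submod (A B : Finset Ω) :
    rk (K := K) u (A ∩ B) + rk (K := K) u (A ∪ B) ≤ rk (K := K) u A + rk (K := K) u B := by
  unfold rk
  have h1 : span K (u '' ((A ∪ B : Finset Ω) : Set Ω)) =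
      span K (u '' (A : Set Ω)) ⊔ span K (u '' (B : Set Ω)) := by
    rw [Finset.coe_union, Set.image_union, span_union]
  have h2 : span K (u '' ((A ∩ B : Finset Ω) : Set Ω)) ≤
      span K (u '' (A : Set Ω)) ⊓ span K (u '' (B : Set Ω)) := by
    rw [Finset.coe_inter]
    exact le_inf (span_mono (Set.image_mono Set.inter_subset_left))
      (span_mono (Set.image_mono Set.inter_subset_right))
  have h3 := Submodule.finrank_sup_add_finrank_inf_eq (span K (u '' (A : Set Ω)))
    (span K (u '' (B : Set Ω)))
  have h4 := Submodule.finrank_mono h2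
  rw [h1]
  omega

lemma le_rk_of_indep {T A : Finset Ω} (hTA : T ⊆ A) (h : LinearIndepOn K u (T : Set Ω)) :
    T.card ≤ rk (K := K) u A := by
  unfold rk
  have h1 : finrank K (span K (Set.range (fun t : (T : Set Ω) => u t))) =
      Fintype.card (T : Set Ω) := finrank_span_eq_card h
  have h2 : span K (Set.range (fun t : (T : Set Ω) => u t)) ≤ span K (u '' (A : Set Ω)) := by
    apply span_mono
    rintro _ ⟨t, rfl⟩
    exact ⟨t, Finset.coe_subset.mpr hTA t.2, rfl⟩
  have h3 := Submodule.finrank_mono h2
  rw [h1] at h3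
  simpa using h3

/-- Rank after contracting `e`. -/
lemma rk_contract (e : Ω) (he : u e ≠ 0) (A : Finset Ω) :
    rk (K := K) (fun x => (span K {u e}).mkQ (u x)) A + 1 = rk (K := K) u (insert e A) := by
  unfold rk
  set N : Submodule K U := span K {u e} with hN
  set P : Submodule K U := span K (u '' ((insert e A : Finset Ω) : Set Ω)) with hP
  have hNP : N ≤ P := by
    rw [hN, span_singleton_le_iff_mem]
    exact subset_span ⟨e, by simp, rfl⟩
  have h1 : span K ((fun x => N.mkQ (u x)) '' (A : Set Ω)) = P.map N.mkQ := by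
    rw [hP, Submodule.map_span, Finset.coe_insert, Set.image_insert_eq, Set.image_insert_eq]
    have : N.mkQ (u e) = 0 := by
      rw [Submodule.mkQ_apply, Submodule.Quotient.mk_eq_zero]
      exact mem_span_singleton_self _
    rw [this, span_insert_zero, ← Set.image_comp]
    rfl
  rw [h1]
  -- rank nullity for mkQ restricted to P
  have h2 := LinearMap.finrank_range_add_finrank_ker (N.mkQ.domRestrict P)
  have h3 : LinearMap.range (N.mkQ.domRestrict P) = P.map N.mkQ := LinearMap.range_domRestrict _ _
  have h4 : LinearMap.ker (N.mkQ.domRestrict P) = N.comap P.subtype := by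
    ext x
    simp [LinearMap.domRestrict_apply]
  have h5 : finrank K (N.comap P.subtype) = finrank K N :=
    (Submodule.comapSubtypeEquivOfLe hNP).finrank_eq
  have h6 : finrank K N = 1 := finrank_span_singleton he
  rw [h3, h4, h5, h6] at h2
  exact h2

/-- Independence lifts from the contraction. -/
lemma indep_insert_of_contract (e : Ω) (he : u e ≠ 0) (I : Finset Ω) (heI : e ∉ I)
    (h : LinearIndepOn K (fun x => (span K {u e}).mkQ (u x)) (I : Set Ω)) :
    LinearIndepOn K u ((insert e I : Finset Ω) : Set Ω) := by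
  rw [Finset.coe_insert, linearIndepOn_insert (by simpa using heI)]
  have h1 : LinearIndepOn K u (I : Set Ω) := by
    have : (fun x => (span K {u e}).mkQ (u x)) = (span K {u e}).mkQ ∘ u := rfl
    rw [this] at h
    exact LinearIndependent.of_comp _ h
  refine ⟨h1, ?_⟩
  intro hmem
  -- u e in span (u '' I) → contradiction
  obtain ⟨l, hl, hle⟩ := (Finsupp.mem_span_image_iff_linearCombination K).mp hmem
  have h2 : Finsupp.linearCombination K (fun x => (span K {u e}).mkQ (u x)) l = 0 := by
    have : (fun x => (span K {u e}).mkQ (u x)) = (span K {u e}).mkQ ∘ u := rfl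
    rw [this, ← LinearMap.map_finsupp_linearCombination, hle, Submodule.mkQ_apply,
      Submodule.Quotient.mk_eq_zero]
    exact mem_span_singleton_self _
  have h3 := (linearIndepOn_iff.mp h) l hl h2
  rw [h3, map_zero] at hle
  exact he hle.symm

lemma rk_eq_zero_of_forall {A : Finset Ω} (h : ∀ a ∈ A, u a = 0) : rk (K := K) u A = 0 := by
  unfold rk
  have : span K (u '' (A : Set Ω)) = ⊥ := by
    rw [span_eq_bot]
    rintro _ ⟨a, ha, rfl⟩
    exact h a (by simpa using ha)
  rw [this, finrank_bot]

end

universe w'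

/-- **Linear matroid intersection theorem** (Edmonds), existence half. -/
theorem exists_common_indep_aux (n : ℕ) :
    ∀ (U : Type w) (W : Type w') [AddCommGroup U] [Module K U] [AddCommGroup W] [Module K W]
      (u : Ω → U) (w : Ω → W) (S : Finset Ω), S.card = n → ∀ (k : ℕ),
      (∀ A ⊆ S, k ≤ rk (K := K) u A + rk (K := K) w (S \ A)) →
      ∃ I ⊆ S, I.card = k ∧ LinearIndepOn K u (I : Set Ω) ∧ LinearIndepOn K w (I : Set Ω) := by
  classical
  induction n with
  | zero =>
    intro U W _ _ _ _ u w S hS k h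
    have hS' : S = ∅ := Finset.card_eq_zero.mp hS
    subst hS'
    have h0 := h ∅ (subset_refl _)
    have r1 : rk (K := K) u ∅ = 0 := rk_eq_zero_of_forall u (by simp)
    have r2 : rk (K := K) w (∅ \ ∅) = 0 := rk_eq_zero_of_forall w (by simp)
    rw [r1, r2] at h0
    have hk : k = 0 := by omega
    subst hk
    exact ⟨∅, subset_refl _, rfl, by simp, by simp⟩
  | succ n ih =>
    intro U W _ _ _ _ u w S hS k h
    by_cases hk : k = 0
    · subst hk
      exact ⟨∅, Finset.empty_subset _, rfl, by simp, by simp⟩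
    by_cases hall : ∀ e ∈ S, u e = 0 ∨ w e = 0
    · exfalso
      have h0 := h (S.filter (fun e => u e = 0)) (Finset.filter_subset _ _)
      have r1 : rk (K := K) u (S.filter (fun e => u e = 0)) = 0 :=
        rk_eq_zero_of_forall u (fun a ha => (Finset.mem_filter.mp ha).2)
      have r2 : rk (K := K) w (S \ S.filter (fun e => u e = 0)) = 0 := by
        apply rk_eq_zero_of_forall
        intro a ha
        rw [Finset.mem_sdiff, Finset.mem_filter] at ha
        rcases hall a ha.1 with h1 | h1
        · exact absurd ⟨ha.1, h1⟩ ha.2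
        · exact h1
      omega
    push Not at hall
    obtain ⟨e, heS, hue, hwe⟩ := hall
    set Z := S.erase e with hZdef
    have hZ : Z.card = n := by
      rw [hZdef, Finset.card_erase_of_mem heS, hS]; rfl
    have heZ : e ∉ Z := Finset.notMem_erase e S
    have hSZ : S = insert e Z := (Finset.insert_erase heS).symm
    by_cases h1 : ∀ A ⊆ Z, k ≤ rk (K := K) u A + rk (K := K) w (Z \ A)
    · obtain ⟨I, hI, hc, hIu, hIw⟩ := ih U W u w Z hZ k h1
      exact ⟨I, hI.trans (Finset.erase_subset _ _), hc, hIu, hIw⟩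
    push Not at h1
    obtain ⟨A₁, hA₁, hlt₁⟩ := h1
    by_cases h2 : ∀ A ⊆ Z, k - 1 ≤ rk (K := K) (fun x => (span K {u e}).mkQ (u x)) A +
        rk (K := K) (fun x => (span K {w e}).mkQ (w x)) (Z \ A)
    · obtain ⟨I', hI', hc, hIu, hIw⟩ := ih (U ⧸ span K {u e}) (W ⧸ span K {w e})
        (fun x => (span K {u e}).mkQ (u x)) (fun x => (span K {w e}).mkQ (w x)) Z hZ (k - 1) h2
      have heI' : e ∉ I' := fun h' => heZ (hI' h')
      refine ⟨insert e I', ?_, ?_, indep_insert_of_contract u e hue I' heI' hIu,
        indep_insert_of_contract w e hwe I' heI' hIw⟩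
      · rw [hSZ]
        exact Finset.insert_subset_insert e hI'
      · rw [Finset.card_insert_of_notMem heI', hc]
        omega
    push Not at h2
    obtain ⟨A₂, hA₂, hlt₂⟩ := h2
    exfalso
    have heA₁ : e ∉ A₁ := fun h' => heZ (hA₁ h')
    have heA₂ : e ∉ A₂ := fun h' => heZ (hA₂ h')
    have c1 := rk_contract (K := K) u e hue A₂
    have c2 := rk_contract (K := K) w e hwe (Z \ A₂)
    have s1 := rk_submod (K := K) u A₁ (insert e A₂)
    have s2 := rk_submod (K := K) w (Z \ A₁) (insert e (Z \ A₂))
    have e1 : A₁ ∩ insert e A₂ = A₁ ∩ A₂ := by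
      ext x
      simp only [Finset.mem_inter, Finset.mem_insert]
      constructor
      · rintro ⟨hx1, rfl | hx2⟩
        · exact absurd hx1 heA₁
        · exact ⟨hx1, hx2⟩
      · rintro ⟨hx1, hx2⟩
        exact ⟨hx1, Or.inr hx2⟩
    have e2 : A₁ ∪ insert e A₂ = insert e (A₁ ∪ A₂) := by
      ext x
      simp only [Finset.mem_union, Finset.mem_insert]
      tauto
    have e3 : (Z \ A₁) ∩ insert e (Z \ A₂) = Z \ (A₁ ∪ A₂) := by
      ext x
      simp only [Finset.mem_inter, Finset.mem_insert, Finset.mem_sdiff, Finset.mem_union]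
      constructor
      · rintro ⟨⟨hx1, hx2⟩, rfl | ⟨hx3, hx4⟩⟩
        · exact absurd hx1 heZ
        · exact ⟨hx1, fun h' => h'.elim hx2 hx4⟩
      · rintro ⟨hx1, hx2⟩
        exact ⟨⟨hx1, fun h' => hx2 (Or.inl h')⟩, Or.inr ⟨hx1, fun h' => hx2 (Or.inr h')⟩⟩
    have e4 : (Z \ A₁) ∪ insert e (Z \ A₂) = insert e (Z \ (A₁ ∩ A₂)) := by
      ext x
      simp only [Finset.mem_union, Finset.mem_insert, Finset.mem_sdiff, Finset.mem_inter]
      tauto
    have g1 := h (A₁ ∩ A₂) ((Finset.inter_subset_left).trans (hA₁.trans (Finset.erase_subset _ _)))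
    have e5 : S \ (A₁ ∩ A₂) = insert e (Z \ (A₁ ∩ A₂)) := by
      rw [hSZ]
      ext x
      simp only [Finset.mem_sdiff, Finset.mem_insert, Finset.mem_inter]
      constructor
      · rintro ⟨rfl | hx1, hx2⟩
        · exact Or.inl rfl
        · exact Or.inr ⟨hx1, hx2⟩
      · rintro (rfl | ⟨hx1, hx2⟩)
        · exact ⟨Or.inl rfl, fun h' => heA₁ h'.1⟩
        · exact ⟨Or.inr hx1, hx2⟩
    have g2 := h (insert e (A₁ ∪ A₂)) (by
      rw [hSZ]
      exact Finset.insert_subset_insert e (Finset.union_subset hA₁ hA₂))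
    have e6 : S \ insert e (A₁ ∪ A₂) = Z \ (A₁ ∪ A₂) := by
      rw [hSZ]
      ext x
      simp only [Finset.mem_sdiff, Finset.mem_insert, Finset.mem_union]
      constructor
      · rintro ⟨rfl | hx1, hx2⟩
        · exact absurd (Or.inl rfl) hx2
        · exact ⟨hx1, fun h' => hx2 (Or.inr h')⟩
      · rintro ⟨hx1, hx2⟩
        refine ⟨Or.inr hx1, ?_⟩
        rintro (rfl | h')
        · exact heZ hx1
        · exact hx2 h'
    rw [e1, e2] at s1
    rw [e3, e4] at s2
    rw [e5] at g1
    rw [e6] at g2
    omega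

theorem exists_common_indep {U : Type w} {W : Type w'} [AddCommGroup U] [Module K U]
    [AddCommGroup W] [Module K W] (u : Ω → U) (w : Ω → W) (S : Finset Ω) (k : ℕ)
    (h : ∀ A ⊆ S, k ≤ rk (K := K) u A + rk (K := K) w (S \ A)) :
    ∃ I ⊆ S, I.card = k ∧ LinearIndepOn K u (I : Set Ω) ∧ LinearIndepOn K w (I : Set Ω) :=
  exists_common_indep_aux S.card U W u w S rfl k h

end Groth.Agent.Lib.Helper11.Matr
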