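import Mathlib
import Groth.Agent.Lib.Helper11.Matr1

set_option autoImplicit false
set_option linter.unusedSectionVars false
set_option linter.unusedVariables false
set_option linter.style.haveILetI false

open Module Submodule

universe u v w

namespace Groth.Agent.Lib.Helper11.Matr

variable {K : Type u} [Field K]

lemma exists_indep_subset {E : Type v} [DecidableEq E] {V : Type w} [AddCommGroup V] [Module K V]
    (v : E → V) (J : Finset E) :
    ∃ J' ⊆ J, LinearIndepOn K v (J' : Set E) ∧ J'.card = rk (K := K) v J := by
  classical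
  have h0 : LinearIndepOn K v (∅ : Set E) := linearIndepOn_empty K v
  have hsub : (∅ : Set E) ⊆ (J : Set E) := Set.empty_subset _
  set B := h0.extend hsub with hB
  have hBJ : B ⊆ (J : Set E) := h0.extend_subset hsub
  have hBfin : B.Finite := J.finite_toSet.subset hBJ
  have hBi : LinearIndepOn K v B := h0.linearIndepOn_extend hsub
  have hspan : span K (v '' B) = span K (v '' (J : Set E)) :=
    h0.span_image_extend_eq_span_image hsub
  refine ⟨hBfin.toFinset, ?_, ?_, ?_⟩
  · intro x hx
    have := hBJ (hBfin.mem_toFinset.mp hx)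
    simpa using this
  · rwa [Set.Finite.coe_toFinset]
  · have h1 := le_rk_of_indep (K := K) v (T := hBfin.toFinset) (A := hBfin.toFinset)
      (subset_refl _) (by rwa [Set.Finite.coe_toFinset])
    unfold rk at h1 ⊢
    rw [Set.Finite.coe_toFinset, hspan] at h1
    apply le_antisymm h1
    rw [← hspan]
    have h2 := finrank_span_finset_le_card (R := K) (hBfin.toFinset.image v)
    rw [Finset.coe_image, Set.Finite.coe_toFinset] at h2
    exact h2.trans Finset.card_image_le

section partition

variable {E : Type v} [Fintype E] [DecidableEq E] {V : Type w} [AddCommGroup V] [Module K V]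

/-- the two families on `E × Fin M` -/
noncomputable def uFam (v : E → V) (M : ℕ) : E × Fin M → (Fin M → V) :=
  fun p => Pi.single p.2 (v p.1)

noncomputable def wFam (E : Type v) [DecidableEq E] (K : Type u) [Field K] (M : ℕ) :
    E × Fin M → (E → K) :=
  fun p => Pi.single p.1 1

lemma le_rk_uFam (v : E → V) (M : ℕ) (A : Finset (E × Fin M)) (J : Finset E)
    (hJ : ∀ e ∈ J, ∀ a, (e, a) ∈ A) : M * rk (K := K) v J ≤ rk (K := K) (uFam v M) A := by
  classical
  obtain ⟨J', hJ'J, hJ'i, hJ'c⟩ := exists_indep_subset (K := K) v J
  rw [← hJ'c]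
  have hT : (J' ×ˢ (Finset.univ : Finset (Fin M))) ⊆ A := by
    intro p hp
    rw [Finset.mem_product] at hp
    exact hJ p.1 (hJ'J hp.1) p.2
  have hind : LinearIndepOn K (uFam v M) ((J' ×ˢ (Finset.univ : Finset (Fin M)) :
      Finset (E × Fin M)) : Set (E × Fin M)) := by
    have h1 := Pi.linearIndependent_single (R := K) (η := Fin M) (ιs := fun _ => (J' : Set E))
      (Ms := fun _ => V) (fun (_ : Fin M) (e : (J' : Set E)) => v e) (fun _ => hJ'i)
    have hf : Function.Injective (fun t : ((J' ×ˢ (Finset.univ : Finset (Fin M)) :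
        Finset (E × Fin M)) : Set (E × Fin M)) =>
        (⟨t.1.2, ⟨t.1.1, by
          have := t.2
          simp only [Finset.coe_product, Set.mem_prod] at this
          exact this.1⟩⟩ : Σ _ : Fin M, (J' : Set E))) := by
      rintro ⟨⟨e, a⟩, h⟩ ⟨⟨e', a'⟩, h'⟩ heq
      simp only [Sigma.mk.injEq] at heq
      obtain ⟨h1, h2⟩ := heq
      subst h1
      simp only [heq_eq_eq, Subtype.mk.injEq] at h2
      subst h2
      rfl
    exact h1.comp _ hf
  have := le_rk_of_indep (K := K) (uFam v M) hT hind
  rw [Finset.card_product, Finset.card_univ, Fintype.card_fin] at this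
  rwa [mul_comm]

lemma le_rk_wFam (M : ℕ) (B : Finset (E × Fin M)) (J : Finset E)
    (hJ : ∀ e, e ∉ J → ∃ a, (e, a) ∈ B) :
    Fintype.card E - J.card ≤ rk (K := K) (wFam E K M) B := by
  classical
  choose g hg using hJ
  set T : Finset (E × Fin M) :=
    Finset.image (fun e : {e // e ∉ J} => (e.1, g e.1 e.2)) Finset.univ with hT
  have hTB : T ⊆ B := by
    intro p hp
    rw [hT, Finset.mem_image] at hp
    obtain ⟨e, _, rfl⟩ := hp
    exact hg e.1 e.2
  have hcard : T.card = Fintype.card E - J.card := by
    rw [hT, Finset.card_image_of_injective]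
    · rw [Finset.card_univ, Fintype.card_subtype_compl, Fintype.card_coe]
    · intro e e' h
      simp only [Prod.mk.injEq] at h
      exact Subtype.ext h.1
  have hind : LinearIndepOn K (wFam E K M) (T : Set (E × Fin M)) := by
    have h1 := Pi.linearIndependent_single_one E K
    have hf : Function.Injective (fun t : (T : Set (E × Fin M)) => t.1.1) := by
      rintro ⟨p, hp⟩ ⟨q, hq⟩ h
      simp only at h
      rw [Finset.mem_coe, hT, Finset.mem_image] at hp hq
      obtain ⟨e, _, rfl⟩ := hp
      obtain ⟨e', _, rfl⟩ := hq
      simp only at h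
      have : e = e' := Subtype.ext h
      subst this
      rfl
    exact h1.comp _ hf
  rw [← hcard]
  exact le_rk_of_indep (K := K) (wFam E K M) hTB hind

/-- **Rado–Horn / Edmonds partition theorem** for vector configurations. -/
theorem exists_partition (v : E → V) (M : ℕ)
    (h : ∀ J : Finset E, J.card ≤ M * rk (K := K) v J) :
    ∃ c : E → Fin M, ∀ a, LinearIndepOn K v {e | c e = a} := by
  classical
  have key : ∀ A ⊆ (Finset.univ : Finset (E × Fin M)), Fintype.card E ≤
      rk (K := K) (uFam v M) A + rk (K := K) (wFam E K M) (Finset.univ \ A) := by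
    intro A _
    set J : Finset E := Finset.univ.filter (fun e => ∀ a, (e, a) ∈ A) with hJ
    have h1 := le_rk_uFam (K := K) v M A J (fun e he a => (Finset.mem_filter.mp he).2 a)
    have h2 := le_rk_wFam (K := K) M (Finset.univ \ A) J (by
      intro e he
      rw [hJ, Finset.mem_filter] at he
      push Not at he
      obtain ⟨a, ha⟩ := he (Finset.mem_univ _)
      exact ⟨a, by simp [ha]⟩)
    have h3 := h J
    have h4 : J.card ≤ Fintype.card E := Finset.card_le_univ _
    omega
  obtain ⟨I, _, hIc, hIu, hIw⟩ := exists_common_indep (K := K) (uFam v M) (wFam E K M)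
    Finset.univ (Fintype.card E) key
  -- the first projection is injective on I
  have hinj : Set.InjOn (fun p : E × Fin M => p.1) (I : Set (E × Fin M)) := by
    intro p hp q hq hpq
    apply hIw.injOn hp hq
    simp only [wFam]
    simp only at hpq
    rw [hpq]
  have himg : I.image (fun p : E × Fin M => p.1) = Finset.univ := by
    apply Finset.eq_univ_of_card
    rw [Finset.card_image_of_injOn hinj, hIc]
  have hex : ∀ e : E, ∃ a : Fin M, (e, a) ∈ I := by
    intro e
    have : e ∈ I.image (fun p : E × Fin M => p.1) := by rw [himg]; exact Finset.mem_univ _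
    rw [Finset.mem_image] at this
    obtain ⟨p, hp, rfl⟩ := this
    exact ⟨p.2, hp⟩
  choose c hc using hex
  refine ⟨c, fun a => ?_⟩
  -- independence of the colour class
  have hf : Function.Injective (fun e : {e | c e = a} =>
      (⟨(e.1, a), by
        have := hc e.1
        rw [e.2] at this
        exact this⟩ : (I : Set (E × Fin M)))) := by
    intro e e' h
    simp only [Subtype.mk.injEq, Prod.mk.injEq] at h
    exact Subtype.ext h.1
  have h1 : LinearIndependent K ((fun t : (I : Set (E × Fin M)) => uFam v M t) ∘ _) :=
    hIu.comp _ hf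
  have h2 : ((fun t : (I : Set (E × Fin M)) => uFam v M t) ∘
      (fun e : {e | c e = a} => (⟨(e.1, a), by
        have := hc e.1
        rw [e.2] at this
        exact this⟩ : (I : Set (E × Fin M))))) =
      (LinearMap.single K (fun _ : Fin M => V) a) ∘ (fun e : {e | c e = a} => v e) := by
    funext e
    rfl
  rw [h2] at h1
  exact LinearIndependent.of_comp _ h1

end partition

end Groth.Agent.Lib.Helper11.Matr
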