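import Mathlib
import Groth.Agent.Lib.Helper11.Matr2

set_option autoImplicit false
set_option linter.unusedSectionVars false
set_option linter.unusedVariables false
set_option linter.style.haveILetI false

open Module Submodule

universe u v w

namespace Groth.Agent.Lib.Helper11.Matr

/-- Double counting. -/
lemma sum_card_inter {ι : Type v} [DecidableEq ι] (P : Multiset (Finset ι)) (T : Finset ι) :
    (P.map (fun S => (S ∩ T).card)).sum =
      ∑ j ∈ T, Multiset.card (P.filter (fun S => j ∈ S)) := by
  induction P using Multiset.induction_on with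
  | empty => simp
  | cons S P ih =>
    rw [Multiset.map_cons, Multiset.sum_cons, ih]
    have : ∀ j ∈ T, Multiset.card ((S ::ₘ P).filter (fun S => j ∈ S)) =
        (if j ∈ S then 1 else 0) + Multiset.card (P.filter (fun S => j ∈ S)) := by
      intro j _
      by_cases hj : j ∈ S
      · rw [Multiset.filter_cons_of_pos (p := fun S => j ∈ S) _ hj, Multiset.card_cons, if_pos hj,
          add_comm]
      · rw [Multiset.filter_cons_of_neg (p := fun S => j ∈ S) _ hj, if_neg hj, zero_add]
    rw [Finset.sum_congr rfl this, Finset.sum_add_distrib]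
    congr 1
    rw [Finset.sum_boole, Finset.inter_comm]
    simp [Finset.filter_mem_eq_inter]

variable {K : Type u} [Field K] {V : Type w} [AddCommGroup V] [Module K V]

lemma card_inter_le_finrank {ι : Type v} [DecidableEq ι] (x : ι → V) (S T : Finset ι)
    (hS : LinearIndependent K (fun j : S => x j)) (L : Submodule K V) [FiniteDimensional K L]
    (hT : ∀ j ∈ T, x j ∈ L) : (S ∩ T).card ≤ finrank K L := by
  classical
  have hf : Function.Injective (fun j : (S ∩ T : Finset ι) =>
      (⟨j.1, (Finset.mem_inter.mp j.2).1⟩ : S)) := by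
    intro j j' h
    simp only [Subtype.mk.injEq] at h
    exact Subtype.ext h
  have h1 := hS.comp _ hf
  have h2 : LinearIndependent K (fun j : (S ∩ T : Finset ι) =>
      (⟨x j.1, hT j.1 (Finset.mem_inter.mp j.2).2⟩ : L)) := by
    apply LinearIndependent.of_comp L.subtype
    exact h1
  have := h2.fintype_card_le_finrank
  simpa using this

lemma sum_weights (m : ℕ) (i : Fin (m + 1)) (N N₀ : ℕ) (hN : N₀ ≤ N) :
    (∑ j : Fin (m + 1), (if j = i then N - N₀ else N)) + N₀ = (m + 1) * N := by
  have h1 : ∀ j : Fin (m + 1), (if j = i then N - N₀ else N) + (if j = i then N₀ else 0) = N := by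
    intro j
    by_cases hj : j = i
    · simp only [if_pos hj]; omega
    · simp only [if_neg hj]; omega
  have h2 : ∑ j : Fin (m + 1), ((if j = i then N - N₀ else N) + (if j = i then N₀ else 0)) =
      ∑ _j : Fin (m + 1), N := Finset.sum_congr rfl (fun j _ => h1 j)
  rw [Finset.sum_add_distrib, Finset.sum_ite_eq' Finset.univ i, if_pos (Finset.mem_univ _),
    Finset.sum_const, Finset.card_univ, Fintype.card_fin, smul_eq_mul] at h2
  exact h2

theorem stable_of_monomials [FiniteDimensional K V] (m : ℕ) (x : Fin (m + 1) → V)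
    (N N₀ : ℕ) (hN₀ : 0 < N₀) (hN : N₀ ≤ N)
    (hP : ∀ i : Fin (m + 1), ∃ P : Multiset (Finset (Fin (m + 1))), P ≠ 0 ∧
          (∀ S ∈ P, S.card = Module.finrank K V ∧ LinearIndependent K (fun j : S => x j)) ∧
          ∀ j : Fin (m + 1),
            Multiset.card (P.filter (fun S => j ∈ S)) = if j = i then N - N₀ else N)
    (L : Submodule K V) (hL0 : L ≠ ⊥) (hL1 : L ≠ ⊤) :
    Set.ncard {i : Fin (m + 1) | x i ∈ L} * Module.finrank K V <
      Module.finrank K L * (m + 1) := by
  classical
  set T : Finset (Fin (m + 1)) := Finset.univ.filter (fun i => x i ∈ L) with hT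
  have hnc : Set.ncard {i : Fin (m + 1) | x i ∈ L} = T.card := by
    rw [← Set.ncard_coe_finset T]
    congr 1
    ext i
    simp [hT]
  rw [hnc]
  have hl1 : 1 ≤ finrank K L := by
    rcases Nat.eq_zero_or_pos (finrank K L) with h0 | h0
    · exact absurd (Submodule.finrank_eq_zero.mp h0) hL0
    · exact h0
  have hln : finrank K L < finrank K V := Submodule.finrank_lt hL1
  have hTL : ∀ j ∈ T, x j ∈ L := fun j hj => (Finset.mem_filter.mp hj).2
  by_cases hall : ∀ i, x i ∈ L
  · exfalso
    obtain ⟨P, hP0, hPS, _⟩ := hP 0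
    obtain ⟨S, hS⟩ := Multiset.exists_mem_of_ne_zero hP0
    have h1 := card_inter_le_finrank (K := K) x S Finset.univ (hPS S hS).2 L
      (fun j _ => hall j)
    rw [Finset.inter_univ, (hPS S hS).1] at h1
    omega
  · push Not at hall
    obtain ⟨i, hi⟩ := hall
    obtain ⟨P, hP0, hPS, hPc⟩ := hP i
    have hiT : i ∉ T := fun h => hi (hTL i h)
    -- count over T
    have h1 := sum_card_inter P T
    have h2 : ∑ j ∈ T, Multiset.card (P.filter (fun S => j ∈ S)) = T.card * N := by
      rw [Finset.sum_congr rfl (fun j hj => by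
        rw [hPc j, if_neg (fun h : j = i => hiT (h ▸ hj))] : ∀ j ∈ T,
          Multiset.card (P.filter (fun S => j ∈ S)) = N)]
      rw [Finset.sum_const, smul_eq_mul]
    have h3 : (P.map (fun S => (S ∩ T).card)).sum ≤ Multiset.card P * finrank K L := by
      have := Multiset.sum_le_card_nsmul (P.map (fun S => (S ∩ T).card)) (finrank K L) (by
        intro c hc
        rw [Multiset.mem_map] at hc
        obtain ⟨S, hS, rfl⟩ := hc
        exact card_inter_le_finrank (K := K) x S T (hPS S hS).2 L hTL)
      rwa [Multiset.card_map, smul_eq_mul] at this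
    -- total count
    have h4 := sum_card_inter P (Finset.univ : Finset (Fin (m + 1)))
    have h5 : (P.map (fun S => (S ∩ (Finset.univ : Finset (Fin (m + 1)))).card)).sum =
        Multiset.card P * finrank K V := by
      rw [Multiset.map_congr rfl (fun S hS => by
        rw [Finset.inter_univ, (hPS S hS).1] : ∀ S ∈ P,
          (S ∩ (Finset.univ : Finset (Fin (m + 1)))).card = finrank K V)]
      rw [Multiset.map_const', Multiset.sum_replicate, smul_eq_mul]
    have h6 : ∑ j ∈ (Finset.univ : Finset (Fin (m + 1))),
        Multiset.card (P.filter (fun S => j ∈ S)) + N₀ = (m + 1) * N := by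
      rw [Finset.sum_congr rfl (fun j _ => hPc j)]
      exact sum_weights m i N N₀ hN
    rw [h5] at h4
    rw [← h4] at h6
    rw [h2] at h1
    rw [h1] at h3
    -- arithmetic
    set t := T.card
    set p := Multiset.card P
    set l := finrank K L
    set n := finrank K V
    by_contra hcon
    push Not at hcon
    have e1 := Nat.mul_le_mul_left n h3
    have e2 : l * (p * n + N₀) = l * ((m + 1) * N) := congrArg (fun z => l * z) h6
    have e3 := Nat.mul_le_mul_right N hcon
    have e4 := Nat.mul_pos hl1 hN₀
    nlinarith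

/-- Weighted decomposition into bases. -/
theorem exists_bases_of_weights [FiniteDimensional K V] (m : ℕ) (x : Fin (m + 1) → V)
    (wt : Fin (m + 1) → ℕ) (M : ℕ) (hM : 0 < M)
    (hsum : ∑ j, wt j = finrank K V * M)
    (hcond : ∀ T : Finset (Fin (m + 1)), ∑ j ∈ T, wt j ≤ M * rk (K := K) x T) :
    ∃ P : Multiset (Finset (Fin (m + 1))), P ≠ 0 ∧
      (∀ S ∈ P, S.card = finrank K V ∧ LinearIndependent K (fun j : S => x j)) ∧
      ∀ j : Fin (m + 1), Multiset.card (P.filter (fun S => j ∈ S)) = wt j := by
  classical
  set n := finrank K V with hn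
  let E := Σ j : Fin (m + 1), Fin (wt j)
  let v : E → V := fun p => x p.1
  have hRH : ∀ J : Finset E, J.card ≤ M * rk (K := K) v J := by
    intro J
    set T : Finset (Fin (m + 1)) := J.image Sigma.fst with hT
    have h1 : J ⊆ T.sigma (fun _ => Finset.univ) := by
      intro p hp
      rw [Finset.mem_sigma]
      exact ⟨Finset.mem_image_of_mem _ hp, Finset.mem_univ _⟩
    have h2 := Finset.card_le_card h1
    rw [Finset.card_sigma] at h2
    simp only [Finset.card_univ, Fintype.card_fin] at h2
    have h3 : rk (K := K) v J = rk (K := K) x T := by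
      unfold rk
      have : v '' (J : Set E) = x '' (T : Set (Fin (m + 1))) := by
        rw [hT, Finset.coe_image, Set.image_image]
      rw [this]
    rw [h3]
    exact h2.trans (hcond T)
  obtain ⟨c, hc⟩ := exists_partition (K := K) v M hRH
  set C : Fin M → Finset E := fun a => Finset.univ.filter (fun p => c p = a) with hC
  have hCi : ∀ a, LinearIndepOn K v (C a : Set E) := by
    intro a
    have : (C a : Set E) = {e | c e = a} := by
      ext e; simp [hC]
    rw [this]
    exact hc a
  have hinj : ∀ a, Set.InjOn (Sigma.fst : E → Fin (m + 1)) (C a : Set E) := by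
    intro a p hp p' hp' h
    apply (hCi a).injOn hp hp'
    show x p.1 = x p'.1
    rw [h]
  have hle : ∀ a, (C a).card ≤ n := by
    intro a
    have := (hCi a).fintype_card_le_finrank
    simpa using this
  have htot : ∑ a, (C a).card = n * M := by
    have h1 := Finset.card_eq_sum_card_fiberwise (f := c) (s := (Finset.univ : Finset E))
      (t := (Finset.univ : Finset (Fin M))) (fun p _ => Finset.mem_univ _)
    rw [← hsum, ← h1, Finset.card_univ, Fintype.card_sigma]
    simp
  have heq : ∀ a, (C a).card = n := by
    intro a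
    by_contra hne
    have hlt : (C a).card < n := lt_of_le_of_ne (hle a) hne
    have := Finset.sum_lt_sum (fun b _ => hle b) ⟨a, Finset.mem_univ _, hlt⟩
    rw [htot, Finset.sum_const, Finset.card_univ, Fintype.card_fin, smul_eq_mul] at this
    rw [mul_comm] at this
    exact lt_irrefl _ this
  set S : Fin M → Finset (Fin (m + 1)) := fun a => (C a).image Sigma.fst with hS
  have hScard : ∀ a, (S a).card = n := by
    intro a
    rw [hS]
    simp only
    rw [Finset.card_image_of_injOn (hinj a), heq a]
  have hSind : ∀ a, LinearIndependent K (fun j : S a => x j) := by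
    intro a
    have hmem : ∀ j : S a, ∃ p : E, p ∈ C a ∧ p.1 = j.1 := by
      intro j
      have h' : j.1 ∈ (C a).image Sigma.fst := j.2
      rw [Finset.mem_image] at h'
      exact h'
    choose g hg1 hg2 using hmem
    have hf : Function.Injective (fun j : S a => (⟨g j, hg1 j⟩ : (C a : Set E))) := by
      intro j j' h
      simp only [Subtype.mk.injEq] at h
      apply Subtype.ext
      rw [← hg2 j, ← hg2 j', h]
    have h1 := (hCi a).comp _ hf
    have h2 : ((fun p : (C a : Set E) => v p) ∘ (fun j : S a => (⟨g j, hg1 j⟩ : (C a : Set E)))) =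
        fun j : S a => x j := by
      funext j
      show x (g j).1 = x j
      rw [hg2 j]
    rw [← h2]
    exact h1
  refine ⟨(Finset.univ : Finset (Fin M)).val.map S, ?_, ?_, ?_⟩
  · intro h0
    have := congrArg Multiset.card h0
    rw [Multiset.card_map] at this
    simp at this
    omega
  · intro S' hS'
    rw [Multiset.mem_map] at hS'
    obtain ⟨a, _, rfl⟩ := hS'
    exact ⟨hScard a, hSind a⟩
  · intro j
    rw [Multiset.filter_map, Multiset.card_map]
    have h1 : Multiset.filter ((fun S' => j ∈ S') ∘ S) (Finset.univ : Finset (Fin M)).val =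
        (Finset.univ.filter (fun a => j ∈ S a)).val := rfl
    rw [h1]
    show (Finset.univ.filter (fun a => j ∈ S a)).card = wt j
    have h2 : Finset.univ.filter (fun a => j ∈ S a) =
        (Finset.univ : Finset (Fin (wt j))).image (fun b => c ⟨j, b⟩) := by
      ext a
      simp only [Finset.mem_filter, Finset.mem_univ, true_and, Finset.mem_image, hS, hC]
      constructor
      · rintro ⟨p, hp, hpj⟩
        obtain ⟨j', b⟩ := p
        simp only at hpj
        subst hpj
        exact ⟨b, hp⟩
      · rintro ⟨b, hb⟩
        exact ⟨⟨j, b⟩, hb, rfl⟩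
    rw [h2, Finset.card_image_of_injective, Finset.card_univ, Fintype.card_fin]
    intro b b' hbb
    have h3 : (⟨j, b⟩ : E) = ⟨j, b'⟩ := by
      apply hinj (c ⟨j, b⟩)
      · show (⟨j, b⟩ : E) ∈ ((C (c ⟨j, b⟩) : Finset E) : Set E)
        rw [Finset.mem_coe, hC]
        exact Finset.mem_filter.mpr ⟨Finset.mem_univ _, rfl⟩
      · show (⟨j, b'⟩ : E) ∈ ((C (c ⟨j, b⟩) : Finset E) : Set E)
        rw [Finset.mem_coe, hC]
        exact Finset.mem_filter.mpr ⟨Finset.mem_univ _, hbb.symm⟩
      · rfl
    simpa using h3

theorem monomials_of_stable [FiniteDimensional K V] (m : ℕ) (x : Fin (m + 1) → V)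
    (hx : ∀ i, x i ≠ 0)
    (hst : ∀ L : Submodule K V, L ≠ ⊥ → L ≠ ⊤ →
        Set.ncard {i : Fin (m + 1) | x i ∈ L} * Module.finrank K V <
          Module.finrank K L * (m + 1)) :
    ∃ N N₀ : ℕ, 0 < N₀ ∧ N₀ ≤ N ∧
        ∀ i : Fin (m + 1), ∃ P : Multiset (Finset (Fin (m + 1))), P ≠ 0 ∧
          (∀ S ∈ P, S.card = Module.finrank K V ∧ LinearIndependent K (fun j : S => x j)) ∧
          ∀ j : Fin (m + 1),
            Multiset.card (P.filter (fun S => j ∈ S)) = if j = i then N - N₀ else N := by
  classical
  set n := finrank K V with hn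
  have hn1 : 1 ≤ n := by
    haveI : Nontrivial V := ⟨⟨x 0, 0, hx 0⟩⟩
    exact Module.finrank_pos
  set q := 2 * n with hq
  set N := n * q with hN
  set M := (m + 1) * q - 1 with hM
  have hM1 : 1 ≤ (m + 1) * q := by
    have : 1 ≤ m + 1 := by omega
    have : 1 ≤ q := by omega
    exact Nat.one_le_iff_ne_zero.mpr (Nat.mul_ne_zero (by omega) (by omega))
  have hMpos : 0 < M := by
    have : 2 ≤ (m + 1) * q := by
      calc 2 ≤ q := by omega
        _ = 1 * q := (one_mul q).symm
        _ ≤ (m + 1) * q := Nat.mul_le_mul_right q (by omega)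
    omega
  have hnN : n ≤ N := by
    rw [hN]
    calc n = n * 1 := (mul_one n).symm
      _ ≤ n * q := Nat.mul_le_mul_left n (by omega)
  refine ⟨N, n, hn1, hnN, fun i => ?_⟩
  set wt : Fin (m + 1) → ℕ := fun j => if j = i then N - n else N with hwt
  have hsum : ∑ j, wt j = n * M := by
    have h1 := sum_weights m i N n hnN
    have h2 : n * M + n = (m + 1) * N := by
      rw [hM, hN]
      have : n * ((m + 1) * q - 1) + n = n * ((m + 1) * q) := by
        rw [Nat.mul_sub, mul_one]
        have : n ≤ n * ((m + 1) * q) := by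
          calc n = n * 1 := (mul_one n).symm
            _ ≤ n * ((m + 1) * q) := Nat.mul_le_mul_left n hM1
        omega
      rw [this]
      ring
    have h3 : ∑ j, wt j = ∑ j : Fin (m + 1), (if j = i then N - n else N) := rfl
    omega
  have hwtle : ∀ j, wt j ≤ N := by
    intro j
    simp only [hwt]
    split_ifs <;> omega
  have hcond : ∀ T : Finset (Fin (m + 1)), ∑ j ∈ T, wt j ≤ M * rk (K := K) x T := by
    intro T
    rcases T.eq_empty_or_nonempty with hT | hT
    · subst hT
      simp
    set L : Submodule K V := span K (x '' (T : Set (Fin (m + 1)))) with hL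
    have hrk : rk (K := K) x T = finrank K L := rfl
    rw [hrk]
    have hL0 : L ≠ ⊥ := by
      obtain ⟨j, hj⟩ := hT
      intro h0
      have : x j ∈ L := subset_span ⟨j, hj, rfl⟩
      rw [h0, Submodule.mem_bot] at this
      exact hx j this
    by_cases hL1 : L = ⊤
    · rw [hL1, finrank_top]
      calc ∑ j ∈ T, wt j ≤ ∑ j, wt j :=
            Finset.sum_le_sum_of_subset (Finset.subset_univ T)
        _ = n * M := hsum
        _ = M * n := mul_comm _ _
    · have h1 := hst L hL0 hL1
      set t' := Set.ncard {i : Fin (m + 1) | x i ∈ L} with ht'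
      have h2 : T.card ≤ t' := by
        rw [ht', ← Set.ncard_coe_finset T]
        apply Set.ncard_le_ncard
        · intro j hj
          exact subset_span ⟨j, hj, rfl⟩
        · exact Set.toFinite _
      have h3 : ∑ j ∈ T, wt j ≤ T.card * N := by
        calc ∑ j ∈ T, wt j ≤ ∑ _j ∈ T, N := Finset.sum_le_sum (fun j _ => hwtle j)
          _ = T.card * N := by rw [Finset.sum_const, smul_eq_mul]
      have hl : finrank K L ≤ n := Submodule.finrank_le L
      set l := finrank K L
      -- arithmetic
      have a1 : T.card * N ≤ t' * N := Nat.mul_le_mul_right N h2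
      have a2 : (t' * n + 1) * q ≤ (l * (m + 1)) * q := Nat.mul_le_mul_right q h1
      have a3 : t' * N = t' * n * q := by rw [hN]; ring
      have a4 : M * l + l = (m + 1) * q * l := by
        rw [hM, Nat.sub_mul, one_mul]
        have : l ≤ (m + 1) * q * l := by
          calc l = 1 * l := (one_mul l).symm
            _ ≤ (m + 1) * q * l := Nat.mul_le_mul_right l hM1
        omega
      have a5 : l ≤ q := by omega
      have a6 : (t' * n + 1) * q = t' * n * q + q := by ring
      have a7 : l * (m + 1) * q = (m + 1) * q * l := by ring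
      omega
  exact exists_bases_of_weights (K := K) m x wt M hMpos hsum hcond

theorem main (K : Type u) [Field K]
    (V : Type u) [AddCommGroup V] [Module K V] [FiniteDimensional K V]
    (m : ℕ) (x : Fin (m + 1) → V) (hx : ∀ i, x i ≠ 0) :
    (∀ L : Submodule K V, L ≠ ⊥ → L ≠ ⊤ →
        Set.ncard {i : Fin (m + 1) | x i ∈ L} * Module.finrank K V < Module.finrank K L * (m + 1)) ↔
      ∃ N N₀ : ℕ, 0 < N₀ ∧ N₀ ≤ N ∧
        ∀ i : Fin (m + 1), ∃ P : Multiset (Finset (Fin (m + 1))), P ≠ 0 ∧
          (∀ S ∈ P, S.card = Module.finrank K V ∧ LinearIndependent K (fun j : S => x j)) ∧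
          ∀ j : Fin (m + 1),
            Multiset.card (P.filter (fun S => j ∈ S)) = if j = i then N - N₀ else N := by
  constructor
  · exact monomials_of_stable m x hx
  · rintro ⟨N, N₀, hN₀, hN, hP⟩ L hL0 hL1
    exact stable_of_monomials m x N N₀ hN₀ hN hP L hL0 hL1

end Groth.Agent.Lib.Helper11.Matr
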