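import Mathlib

set_option autoImplicit false

namespace Groth.Agent.Lib.Helper11.NilCone

open Module

universe u v

variable {k : Type u} [Field k]

/-- A nilpotent endomorphism of a finite-dimensional space has an adapted basis: `f (b i)` lies in
the span of the later basis vectors. -/
theorem exists_basis_of_isNilpotent : ∀ (n : ℕ) (V : Type v) [AddCommGroup V] [Module k V]
    [FiniteDimensional k V] (f : V →ₗ[k] V), IsNilpotent f → finrank k V = n →
    ∃ b : Basis (Fin n) k V, ∀ i, f (b i) ∈ Submodule.span k (b '' {j | i < j}) := by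
  intro n
  induction n with
  | zero =>
    intro V _ _ _ f _ hV
    exact ⟨Module.finBasisOfFinrankEq k V hV, fun i => i.elim0⟩
  | succ n ih =>
    intro V _ _ _ f hf hV
    obtain ⟨m, hm⟩ := hf
    have hne : LinearMap.range f ≠ ⊤ := by
      intro htop
      have hsurj : Function.Surjective f := LinearMap.range_eq_top.mp htop
      have hs : Function.Surjective (f ^ m) := by
        rw [Module.End.coe_pow]
        exact Function.Surjective.iterate hsurj m
      have : Subsingleton V := by
        refine ⟨fun a b => ?_⟩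
        obtain ⟨a', rfl⟩ := hs a
        obtain ⟨b', rfl⟩ := hs b
        simp [hm]
      have := finrank_zero_of_subsingleton (R := k) (M := V)
      omega
    obtain ⟨ψ, hψ0, hψ⟩ := Submodule.exists_le_ker_of_lt_top _ (lt_top_iff_ne_top.mpr hne)
    have hψs : Function.Surjective ψ := by
      obtain ⟨w, hw⟩ : ∃ w, ψ w ≠ 0 := by
        by_contra h
        push Not at h
        exact hψ0 (LinearMap.ext h)
      intro c
      exact ⟨(c / ψ w) • w, by simp [hw]⟩
    obtain ⟨w, hw⟩ : ∃ w, ψ w ≠ 0 := by
      by_contra h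
      push Not at h
      exact hψ0 (LinearMap.ext h)
    have hH : finrank k (LinearMap.ker ψ) = n := by
      have h1 := LinearMap.finrank_range_add_finrank_ker ψ
      rw [LinearMap.range_eq_top.mpr hψs, finrank_top, finrank_self, hV] at h1
      omega
    have hfH : ∀ x ∈ LinearMap.ker ψ, f x ∈ LinearMap.ker ψ :=
      fun x _ => hψ (LinearMap.mem_range_self f x)
    have hnil : IsNilpotent (f.restrict hfH) := by
      refine ⟨m, ?_⟩
      rw [Module.End.pow_restrict m]
      ext x
      simp [hm]
    obtain ⟨b', hb'⟩ := ih (LinearMap.ker ψ) (f.restrict hfH) hnil hH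
    have hli : ∀ (c : k), ∀ x ∈ LinearMap.ker ψ, c • w + x = 0 → c = 0 := by
      intro c x hx h
      have h2 := congrArg ψ h
      rw [map_add, map_smul, LinearMap.mem_ker.mp hx, map_zero, add_zero, smul_eq_mul] at h2
      exact (mul_eq_zero.mp h2).resolve_right hw
    have hsp : ∀ z : V, ∃ c : k, z + c • w ∈ LinearMap.ker ψ := by
      intro z
      refine ⟨-(ψ z / ψ w), ?_⟩
      rw [LinearMap.mem_ker, map_add, map_smul, smul_eq_mul]
      field_simp
      ring
    refine ⟨Basis.mkFinCons w b' hli hsp, ?_⟩
    have hcoe : ∀ j : Fin n, Basis.mkFinCons w b' hli hsp j.succ = (b' j : V) := by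
      intro j
      rw [Basis.coe_mkFinCons]
      simp
    have hcoe0 : Basis.mkFinCons w b' hli hsp 0 = w := by
      rw [Basis.coe_mkFinCons]
      simp
    intro i
    refine Fin.cases ?_ (fun i' => ?_) i
    · -- f w ∈ H ⊆ span of later vectors
      rw [hcoe0]
      have h1 : f w ∈ LinearMap.ker ψ := hψ (LinearMap.mem_range_self f w)
      have h2 : (⟨f w, h1⟩ : LinearMap.ker ψ) ∈ Submodule.span k (Set.range b') := by
        rw [b'.span_eq]; trivial
      have h3 : f w ∈ Submodule.map (LinearMap.ker ψ).subtype (Submodule.span k (Set.range b')) :=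
        ⟨_, h2, rfl⟩
      rw [Submodule.map_span] at h3
      refine Submodule.span_mono ?_ h3
      rintro _ ⟨_, ⟨j, rfl⟩, rfl⟩
      exact ⟨j.succ, Fin.succ_pos j, hcoe j⟩
    · rw [hcoe]
      have h2 := hb' i'
      have h3 : f (b' i' : V) ∈ Submodule.map (LinearMap.ker ψ).subtype
          (Submodule.span k (b' '' {j | i' < j})) := ⟨_, h2, rfl⟩
      rw [Submodule.map_span] at h3
      refine Submodule.span_mono ?_ h3
      rintro _ ⟨_, ⟨j, hj, rfl⟩, rfl⟩
      exact ⟨j.succ, Fin.succ_lt_succ_iff.mpr hj, hcoe j⟩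

/-- A nilpotent square matrix over a field is conjugate to a strictly lower triangular one. -/
theorem exists_conj_strictLower {n : ℕ} (N : Matrix (Fin n) (Fin n) k) (hN : IsNilpotent N) :
    ∃ g L : Matrix (Fin n) (Fin n) k, IsUnit g.det ∧ (∀ i j, i ≤ j → L i j = 0) ∧
      N * g = g * L := by
  have hf : IsNilpotent (Matrix.toLin' N) := by
    obtain ⟨m, hm⟩ := hN
    refine ⟨m, ?_⟩
    have := map_pow (Matrix.toLinAlgEquiv' (R := k) (n := Fin n)) N m
    rw [hm, map_zero] at this
    exact this.symm
  obtain ⟨b, hb⟩ := exists_basis_of_isNilpotent n (Fin n → k) (Matrix.toLin' N) hf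
    (Module.finrank_fin_fun k)
  refine ⟨Matrix.of (fun i j => b j i),
    Matrix.of (fun i j => b.repr (Matrix.toLin' N (b j)) i), ?_, ?_, ?_⟩
  · have h1 : Matrix.of (fun i j => b j i) = (Pi.basisFun k (Fin n)).toMatrix b := by
      ext i j
      simp [Basis.toMatrix_apply]
    rw [h1, ← Basis.det_apply]
    exact Basis.isUnit_det _ _
  · intro i j hij
    have h1 := (Basis.mem_span_image b).mp (hb j)
    by_contra hne
    have h2 : i ∈ (b.repr (Matrix.toLin' N (b j))).support := by
      rw [Finsupp.mem_support_iff]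
      exact hne
    have h3 : j < i := h1 h2
    omega
  · ext i j
    rw [Matrix.mul_apply, Matrix.mul_apply]
    have h1 := b.sum_repr (Matrix.toLin' N (b j))
    have h2 := congrFun h1 i
    rw [Finset.sum_apply] at h2
    simp only [Matrix.of_apply]
    rw [Matrix.toLin'_apply] at h2 ⊢
    rw [Matrix.mulVec, dotProduct] at h2
    rw [← h2]
    refine Finset.sum_congr rfl fun l _ => ?_
    simp [mul_comm]

end Groth.Agent.Lib.Helper11.NilCone
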