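import Mathlib
import Groth.Agent.Lib.Helper11.NilCone1

set_option autoImplicit false

namespace Groth.Agent.Lib.Helper11.NilCone

open Module MvPolynomial

universe u

/-- A nilpotent square matrix over a field is conjugate to a strictly upper triangular one. -/
theorem exists_conj_strictUpper {k : Type u} [Field k] {n : ℕ} (N : Matrix (Fin n) (Fin n) k)
    (hN : IsNilpotent N) :
    ∃ h U : Matrix (Fin n) (Fin n) k, IsUnit h.det ∧ (∀ i j, j ≤ i → U i j = 0) ∧
      N * h = h * U := by
  have hNt : IsNilpotent N.transpose := by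
    obtain ⟨m, hm⟩ := hN
    exact ⟨m, by rw [← Matrix.transpose_pow, hm, Matrix.transpose_zero]⟩
  obtain ⟨g, L, hg, hL, hgL⟩ := exists_conj_strictLower N.transpose hNt
  have hgt : IsUnit g.transpose.det := by rwa [Matrix.det_transpose]
  refine ⟨g.transpose⁻¹, L.transpose, ?_, fun i j hij => hL j i hij, ?_⟩
  · exact Matrix.isUnit_nonsing_inv_det _ hgt
  · have e : g.transpose * N = L.transpose * g.transpose := by
      have := congrArg Matrix.transpose hgL
      rwa [Matrix.transpose_mul, Matrix.transpose_mul, Matrix.transpose_transpose] at this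
    have h1 : g.transpose⁻¹ * g.transpose = 1 := Matrix.nonsing_inv_mul _ hgt
    have h2 : g.transpose * g.transpose⁻¹ = 1 := Matrix.mul_nonsing_inv _ hgt
    calc N * g.transpose⁻¹ = (g.transpose⁻¹ * g.transpose) * N * g.transpose⁻¹ := by
          rw [h1, Matrix.one_mul]
      _ = g.transpose⁻¹ * (g.transpose * N) * g.transpose⁻¹ := by
          simp only [Matrix.mul_assoc]
      _ = g.transpose⁻¹ * (L.transpose * g.transpose) * g.transpose⁻¹ := by rw [e]
      _ = g.transpose⁻¹ * L.transpose * (g.transpose * g.transpose⁻¹) := by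
          simp only [Matrix.mul_assoc]
      _ = g.transpose⁻¹ * L.transpose := by rw [h2, Matrix.mul_one]

variable (k : Type u) [Field k] (n : ℕ)

/-- the parameter ring `k[g_ij, u_ij]`. -/
abbrev DD := MvPolynomial ((Fin n × Fin n) ⊕ (Fin n × Fin n)) k

/-- generic matrix `G`. -/
noncomputable def Gm : Matrix (Fin n) (Fin n) (DD k n) :=
  Matrix.of fun i j => X (Sum.inl (i, j))

/-- generic strictly upper triangular matrix `U`. -/
noncomputable def Um : Matrix (Fin n) (Fin n) (DD k n) :=
  Matrix.of fun i j => if i < j then X (Sum.inr (i, j)) else 0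

/-- the parametrization `X ↦ G U adj(G)`. -/
noncomputable def phi : MvPolynomial (Fin n × Fin n) k →ₐ[k] DD k n :=
  aeval fun ij => (Gm k n * Um k n * (Gm k n).adjugate) ij.1 ij.2

theorem map_phi_mvPolynomialX :
    (Matrix.mvPolynomialX (Fin n) (Fin n) k).map (phi k n) =
      Gm k n * Um k n * (Gm k n).adjugate := by
  ext i j
  simp [phi, Matrix.mvPolynomialX_apply]

/-- strictly upper triangular matrices (indexed by `Fin n`) are nilpotent. -/
theorem pow_eq_zero_of_strictUpper {R : Type*} [CommRing R] (U : Matrix (Fin n) (Fin n) R)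
    (hU : ∀ i j, j ≤ i → U i j = 0) : U ^ n = 0 := by
  have hbt : U.BlockTriangular id := fun i j hij => hU i j (le_of_lt hij)
  have h1 := Matrix.charpoly_of_isUpperTriangular U hbt
  have h2 : U.charpoly = Polynomial.X ^ n := by
    rw [h1]
    simp [hU]
  have h3 := Matrix.aeval_self_charpoly U
  rw [h2] at h3
  simpa using h3

theorem conj_pow {R : Type*} [CommRing R] (G U : Matrix (Fin n) (Fin n) R) (m : ℕ) :
    (G * U * G.adjugate) ^ (m + 1) = G.det ^ m • (G * U ^ (m + 1) * G.adjugate) := by
  induction m with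
  | zero => simp
  | succ m ih =>
    rw [pow_succ, ih]
    calc G.det ^ m • (G * U ^ (m + 1) * G.adjugate) * (G * U * G.adjugate)
        = G.det ^ m • (G * U ^ (m + 1) * (G.adjugate * G) * U * G.adjugate) := by
          simp only [Matrix.mul_assoc, Matrix.smul_mul]
      _ = G.det ^ m • (G * U ^ (m + 1) * (G.det • 1) * U * G.adjugate) := by
          rw [Matrix.adjugate_mul]
      _ = G.det ^ (m + 1) • (G * U ^ (m + 1 + 1) * G.adjugate) := by
          rw [pow_succ G.det, pow_succ U (m + 1)]
          simp only [Matrix.mul_smul, Matrix.smul_mul, Matrix.mul_one, smul_smul, Matrix.mul_assoc]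

theorem isNilpotent_conj {R : Type*} [CommRing R] (G U : Matrix (Fin n) (Fin n) R)
    (hU : ∀ i j, j ≤ i → U i j = 0) : IsNilpotent (G * U * G.adjugate) := by
  refine ⟨n + 1, ?_⟩
  rw [conj_pow, pow_succ U, pow_eq_zero_of_strictUpper n U hU]
  simp

/-- charpoly of a nilpotent matrix over a domain is `X ^ n`. -/
theorem charpoly_eq_of_isNilpotent {R : Type*} [CommRing R] [IsDomain R]
    (M : Matrix (Fin n) (Fin n) R) (hM : IsNilpotent M) : M.charpoly = Polynomial.X ^ n := by
  have h := Matrix.isNilpotent_charpoly_sub_pow_of_isNilpotent hM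
  have h2 := h.eq_zero
  rw [Fintype.card_fin] at h2
  exact sub_eq_zero.mp h2

theorem phi_coeff_eq_zero (i : ℕ) (hi : i < n) :
    phi k n ((Matrix.charpoly (Matrix.mvPolynomialX (Fin n) (Fin n) k)).coeff i) = 0 := by
  have h1 : phi k n ((Matrix.charpoly (Matrix.mvPolynomialX (Fin n) (Fin n) k)).coeff i) =
      (((Matrix.mvPolynomialX (Fin n) (Fin n) k).map (phi k n)).charpoly).coeff i := by
    have := Matrix.charpoly_map (Matrix.mvPolynomialX (Fin n) (Fin n) k) (phi k n).toRingHom
    change ((Matrix.mvPolynomialX (Fin n) (Fin n) k).map (phi k n)).charpoly = _ at this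
    rw [this, Polynomial.coeff_map]
    rfl
  rw [h1, map_phi_mvPolynomialX]
  have hU : ∀ i j : Fin n, j ≤ i → Um k n i j = 0 := by
    intro i j hij
    simp [Um, not_lt.mpr hij]
  rw [charpoly_eq_of_isNilpotent n _ (isNilpotent_conj n (Gm k n) (Um k n) hU)]
  rw [Polynomial.coeff_X_pow, if_neg (by omega)]

/-- the ideal of the nilpotent cone. -/
noncomputable def II : Ideal (MvPolynomial (Fin n × Fin n) k) :=
  Ideal.span (Set.range (fun i : Fin n =>
    (Matrix.charpoly (Matrix.mvPolynomialX (Fin n) (Fin n) k)).coeff (i : ℕ)))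

theorem II_le_ker : II k n ≤ RingHom.ker (phi k n) := by
  rw [II, Ideal.span_le]
  rintro _ ⟨i, rfl⟩
  exact phi_coeff_eq_zero k n i i.2

theorem charpoly_eq_X_pow_of_coeff {R : Type*} [CommRing R] [Nontrivial R]
    (N : Matrix (Fin n) (Fin n) R) (h : ∀ i < n, N.charpoly.coeff i = 0) :
    N.charpoly = Polynomial.X ^ n := by
  have hdeg : N.charpoly.natDegree = n := by
    rw [Matrix.charpoly_natDegree_eq_dim, Fintype.card_fin]
  have hmon : N.charpoly.Monic := Matrix.charpoly_monic N
  ext j
  rw [Polynomial.coeff_X_pow]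
  rcases lt_trichotomy j n with hj | hj | hj
  · rw [if_neg (by omega), h j hj]
  · rw [if_pos hj, hj]
    have := hmon.coeff_natDegree
    rwa [hdeg] at this
  · rw [if_neg (by omega)]
    exact Polynomial.coeff_eq_zero_of_natDegree_lt (by omega)

theorem isNilpotent_of_mem_zeroLocus (x : Fin n × Fin n → k)
    (hx : x ∈ zeroLocus k (II k n)) :
    IsNilpotent (Matrix.of fun i j => x (i, j) : Matrix (Fin n) (Fin n) k) := by
  set N : Matrix (Fin n) (Fin n) k := Matrix.of fun i j => x (i, j) with hN
  have h1 : (Matrix.mvPolynomialX (Fin n) (Fin n) k).map (aeval x) = N := by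
    ext i j
    simp [hN, Matrix.mvPolynomialX_apply]
  have h2 : N.charpoly = (Matrix.charpoly (Matrix.mvPolynomialX (Fin n) (Fin n) k)).map
      (aeval x).toRingHom := by
    rw [← h1]
    exact Matrix.charpoly_map (Matrix.mvPolynomialX (Fin n) (Fin n) k) (aeval x).toRingHom
  have h3 : N.charpoly = Polynomial.X ^ n := by
    refine charpoly_eq_X_pow_of_coeff n N fun i hi => ?_
    rw [h2, Polynomial.coeff_map]
    exact hx _ (Ideal.subset_span ⟨⟨i, hi⟩, rfl⟩)
  have h4 := Matrix.aeval_self_charpoly N
  rw [h3] at h4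
  exact ⟨n, by simpa using h4⟩

variable [IsAlgClosed k]

theorem ker_le_radical : RingHom.ker (phi k n) ≤ (II k n).radical := by
  intro f hf
  rw [← MvPolynomial.vanishingIdeal_zeroLocus_eq_radical (K := k),
    MvPolynomial.mem_vanishingIdeal_iff]
  intro x hx
  obtain ⟨h, U, hh, hU, hNU⟩ :=
    exists_conj_strictUpper _ (isNilpotent_of_mem_zeroLocus k n x hx)
  let y : (Fin n × Fin n) ⊕ (Fin n × Fin n) → k :=
    Sum.elim (fun ij => h ij.1 ij.2) (fun ij => (h.det)⁻¹ * U ij.1 ij.2)
  have hG : (Gm k n).map (aeval y) = h := by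
    ext i j
    simp [Gm, y]
  have hUm : (Um k n).map (aeval y) = (h.det)⁻¹ • U := by
    ext i j
    simp only [Um, Matrix.map_apply, Matrix.of_apply, Matrix.smul_apply, smul_eq_mul]
    split_ifs with hij
    · simp [y]
    · rw [hU i j (not_lt.mp hij)]
      simp
  have hadj : (Gm k n).adjugate.map (aeval y) = h.adjugate := by
    rw [← hG]
    exact AlgHom.map_adjugate (aeval y) (Gm k n)
  have hdet : h.det ≠ 0 := hh.ne_zero
  have key : (aeval y).comp (phi k n) = aeval x := by
    apply MvPolynomial.algHom_ext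
    intro ij
    rw [AlgHom.comp_apply, aeval_X]
    simp only [phi, aeval_X]
    have e1 : aeval y ((Gm k n * Um k n * (Gm k n).adjugate) ij.1 ij.2) =
        ((Gm k n * Um k n * (Gm k n).adjugate).map (aeval y)) ij.1 ij.2 := rfl
    rw [e1, Matrix.map_mul, Matrix.map_mul, hG, hUm, hadj]
    have e2 : h * (h.det)⁻¹ • U * h.adjugate = Matrix.of fun i j => x (i, j) := by
      rw [Matrix.mul_smul, Matrix.smul_mul, ← hNU, Matrix.mul_assoc, Matrix.mul_adjugate,
        Matrix.mul_smul, Matrix.mul_one, smul_smul, inv_mul_cancel₀ hdet, one_smul]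
    rw [e2]
    rfl
  have : aeval x f = aeval y (phi k n f) := by
    rw [← key]
    rfl
  rw [this, (RingHom.mem_ker).mp hf, map_zero]

theorem radical_eq_ker : (II k n).radical = RingHom.ker (phi k n) := by
  apply le_antisymm
  · have hp : (RingHom.ker (phi k n)).IsPrime := RingHom.ker_isPrime _
    exact (Ideal.IsPrime.radical_le_iff hp).mpr (II_le_ker k n)
  · exact ker_le_radical k n

theorem radical_isPrime : (II k n).radical.IsPrime := by
  rw [radical_eq_ker]
  exact RingHom.ker_isPrime _

theorem irreducibleSpace_quotient :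
    IrreducibleSpace (PrimeSpectrum (MvPolynomial (Fin n × Fin n) k ⧸ II k n)) := by
  rw [PrimeSpectrum.irreducibleSpace_iff_isPrime_nilradical]
  have h1 : nilradical (MvPolynomial (Fin n × Fin n) k ⧸ II k n) =
      (II k n).radical.map (Ideal.Quotient.mk (II k n)) := by
    rw [nilradical, Ideal.map_radical_of_surjective Ideal.Quotient.mk_surjective
      (by rw [Ideal.mk_ker]), Ideal.map_quotient_self]
    rfl
  rw [h1]
  have := radical_isPrime k n
  exact Ideal.map_isPrime_of_surjective Ideal.Quotient.mk_surjective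
    (by rw [Ideal.mk_ker]; exact Ideal.le_radical)

end Groth.Agent.Lib.Helper11.NilCone
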