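import Mathlib
import Groth.Agent.Lib.Helper11.NilCone2
import Groth.Agent.Lib.Helper12.IntegralDim

set_option autoImplicit false

namespace Groth.Agent.Lib.Helper11.NilCone

open Module MvPolynomial

universe u

/-- A nilpotent matrix over a field whose off-diagonal entries lie in a valuation subring has its
diagonal entries in that valuation subring. -/
theorem diag_mem_of_isNilpotent {K : Type*} [Field K] (V : ValuationSubring K) {n : ℕ}
    (M : Matrix (Fin n) (Fin n) K) (hM : IsNilpotent M)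
    (hoff : ∀ i j, i ≠ j → M i j ∈ V) (i : Fin n) : M i i ∈ V := by
  by_contra hi
  obtain ⟨i₀, -, hmax⟩ := Finset.exists_max_image Finset.univ (fun j => V.valuation (M j j))
    ⟨i, Finset.mem_univ i⟩
  set d := M i₀ i₀ with hd
  have hdV : d ∉ V := by
    intro h
    apply hi
    rw [← ValuationSubring.valuation_le_one_iff] at h ⊢
    exact (hmax i (Finset.mem_univ i)).trans h
  have hd0 : d ≠ 0 := fun h => hdV (h ▸ V.zero_mem)
  have hdinv : d⁻¹ ∈ V := (V.mem_or_inv_mem d).resolve_left hdV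
  have hnu : (⟨d⁻¹, hdinv⟩ : V) ∈ IsLocalRing.maximalIdeal V := by
    rw [IsLocalRing.mem_maximalIdeal, mem_nonunits_iff]
    intro hu
    obtain ⟨u, hu⟩ := hu
    apply hdV
    have h1 : ((u⁻¹ : Vˣ) : V) * ⟨d⁻¹, hdinv⟩ = 1 := by
      rw [← hu]; exact u.inv_mul
    have h2 := congrArg (Subtype.val) h1
    simp only [MulMemClass.coe_mul, OneMemClass.coe_one] at h2
    have h3 : (((u⁻¹ : Vˣ) : V) : K) = d := by
      field_simp at h2
      exact h2
    rw [← h3]
    exact ((u⁻¹ : Vˣ) : V).2
  have hent : ∀ j l, d⁻¹ * M j l ∈ V := by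
    intro j l
    by_cases hjl : j = l
    · subst hjl
      rw [← ValuationSubring.valuation_le_one_iff, map_mul, map_inv₀]
      have h1 := hmax j (Finset.mem_univ j)
      have h2 : V.valuation d ≠ 0 := (Valuation.ne_zero_iff _).mpr hd0
      exact inv_mul_le_one_of_le₀ h1 zero_le
    · exact V.mul_mem _ _ hdinv (hoff j l hjl)
  let M'' : Matrix (Fin n) (Fin n) V := Matrix.of fun j l => ⟨d⁻¹ * M j l, hent j l⟩
  have hM'' : M''.map V.subtype = d⁻¹ • M := by
    ext j l
    simp [M'']
  obtain ⟨m, hm⟩ := hM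
  have hnil : M'' ^ m = 0 := by
    have h1 : (M'' ^ m).map V.subtype = 0 := by
      have := map_pow (V.subtype.mapMatrix (m := Fin n)) M'' m
      rw [RingHom.mapMatrix_apply, RingHom.mapMatrix_apply] at this
      rw [this, hM'', smul_pow, hm, smul_zero]
    ext j l
    have := congrFun (congrFun h1 j) l
    simpa using this
  let res := IsLocalRing.residue V
  have hdiag : M''.map res = Matrix.diagonal (fun j => res (M'' j j)) := by
    ext j l
    by_cases hjl : j = l
    · subst hjl
      simp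
    · rw [Matrix.diagonal_apply_ne _ hjl, Matrix.map_apply]
      rw [IsLocalRing.residue_eq_zero_iff]
      have : M'' j l = ⟨d⁻¹, hdinv⟩ * ⟨M j l, hoff j l hjl⟩ := rfl
      rw [this]
      exact Ideal.mul_mem_right _ _ hnu
  have h2 : (M''.map res) ^ m = 0 := by
    have := map_pow (res.mapMatrix (m := Fin n)) M'' m
    rw [RingHom.mapMatrix_apply, RingHom.mapMatrix_apply] at this
    rw [← this, hnil]
    simp
  rw [hdiag, Matrix.diagonal_pow] at h2
  have h3 := congrFun (congrFun h2 i₀) i₀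
  rw [Matrix.diagonal_apply_eq] at h3
  have h4 : M'' i₀ i₀ = 1 := by
    apply Subtype.ext
    change d⁻¹ * M i₀ i₀ = 1
    rw [← hd]
    exact inv_mul_cancel₀ hd0
  simp only [Pi.pow_apply] at h3
  rw [h4, map_one, one_pow] at h3
  exact one_ne_zero h3

/-- the index type of off-diagonal entries. -/
abbrev OffDiag (n : ℕ) := {ij : Fin n × Fin n // ij.1 ≠ ij.2}

theorem card_offDiag (n : ℕ) : Nat.card (OffDiag n) = n ^ 2 - n := by
  rw [Nat.card_eq_fintype_card]
  have h1 : Fintype.card {ij : Fin n × Fin n // ij.1 = ij.2} = n := by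
    have e : {ij : Fin n × Fin n // ij.1 = ij.2} ≃ Fin n :=
      ⟨fun x => x.1.1, fun i => ⟨(i, i), rfl⟩, fun x => by
        obtain ⟨⟨a, b⟩, h⟩ := x
        simp only at h
        subst h
        rfl, fun i => rfl⟩
    rw [Fintype.card_congr e, Fintype.card_fin]
  have h2 := Fintype.card_subtype_compl (fun ij : Fin n × Fin n => ij.1 = ij.2)
  rw [h1, Fintype.card_prod, Fintype.card_fin] at h2
  rw [h2, sq]

theorem isIntegral_of_nilpotent {k : Type u} [Field k] {n : ℕ} (R' : Type u) [CommRing R']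
    [IsDomain R'] [Algebra k R'] (xb : Fin n × Fin n → R')
    (hnil : IsNilpotent (Matrix.of fun i j => xb (i, j) : Matrix (Fin n) (Fin n) R'))
    (A₀ : Subalgebra k R') (hA₀ : ∀ ij : Fin n × Fin n, ij.1 ≠ ij.2 → xb ij ∈ A₀)
    (ij : Fin n × Fin n) : IsIntegral A₀ (xb ij) := by
  by_cases hij : ij.1 = ij.2
  · obtain ⟨i, j⟩ := ij
    simp only at hij
    subst hij
    let K := FractionRing R'
    rw [← isIntegral_algebraMap_iff (IsFractionRing.injective R' K)]
    by_contra hx
    have hx' : algebraMap R' K (xb (i, i)) ∉ (integralClosure A₀ K).toSubring := hx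
    obtain ⟨V, hV, hxV⟩ := Subring.exists_le_valuationSubring_of_isIntegrallyClosedIn hx'
    apply hxV
    let M : Matrix (Fin n) (Fin n) K := Matrix.of fun i j => algebraMap R' K (xb (i, j))
    have hM : IsNilpotent M := by
      obtain ⟨m, hm⟩ := hnil
      refine ⟨m, ?_⟩
      have h1 : M = (algebraMap R' K).mapMatrix (Matrix.of fun i j => xb (i, j)) := by
        ext a b
        simp [M]
      rw [h1, ← map_pow, hm, map_zero]
    refine diag_mem_of_isNilpotent V M hM (fun a b hab => ?_) i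
    apply hV
    have h2 : M a b = algebraMap A₀ K ⟨xb (a, b), hA₀ (a, b) hab⟩ := rfl
    rw [h2]
    exact isIntegral_algebraMap
  · have : xb ij = algebraMap A₀ R' ⟨xb ij, hA₀ ij hij⟩ := rfl
    rw [this]
    exact isIntegral_algebraMap

theorem ringKrullDim_le_of_nilpotent {k : Type u} [Field k] {n : ℕ} (R' : Type u) [CommRing R']
    [IsDomain R'] [Algebra k R'] (xb : Fin n × Fin n → R')
    (hgen : Algebra.adjoin k (Set.range xb) = ⊤)
    (hnil : IsNilpotent (Matrix.of fun i j => xb (i, j) : Matrix (Fin n) (Fin n) R')) :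
    ringKrullDim R' ≤ ((n ^ 2 - n : ℕ) : WithBot ℕ∞) := by
  let ψ : MvPolynomial (OffDiag n) k →ₐ[k] R' := aeval fun s => xb s.1
  let A₀ : Subalgebra k R' := ψ.range
  have hA₀ : ∀ ij : Fin n × Fin n, ij.1 ≠ ij.2 → xb ij ∈ A₀ := by
    intro ij hij
    exact ⟨X ⟨ij, hij⟩, by simp [ψ]⟩
  have hint : Algebra.IsIntegral A₀ R' := by
    refine ⟨fun r => ?_⟩
    have hr : r ∈ Algebra.adjoin k (Set.range xb) := by rw [hgen]; trivial
    have hle : Algebra.adjoin k (Set.range xb) ≤ (integralClosure A₀ R').restrictScalars k := by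
      apply Algebra.adjoin_le
      rintro _ ⟨ij, rfl⟩
      exact isIntegral_of_nilpotent R' xb hnil A₀ hA₀ ij
    exact hle hr
  have h1 : ringKrullDim R' ≤ ringKrullDim A₀ :=
    Groth.Agent.Lib.Helper12.ringKrullDim_le_of_isIntegral A₀ R'
  have h2 : ringKrullDim A₀ ≤ ringKrullDim (MvPolynomial (OffDiag n) k) :=
    ringKrullDim_le_of_surjective ψ.rangeRestrict.toRingHom ψ.rangeRestrict_surjective
  have h3 : ringKrullDim (MvPolynomial (OffDiag n) k) = ((n ^ 2 - n : ℕ) : WithBot ℕ∞) := by
    rw [MvPolynomial.ringKrullDim_of_isNoetherianRing, ringKrullDim_eq_zero_of_field, zero_add,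
      card_offDiag]
  exact h1.trans (h2.trans h3.le)

theorem ringKrullDim_le_of_surjective_of_ker_le_nilradical {A B : Type*} [CommRing A]
    [CommRing B] (f : A →+* B) (hf : Function.Surjective f) (hN : RingHom.ker f ≤ nilradical A) :
    ringKrullDim A ≤ ringKrullDim B := by
  have hker : ∀ P : PrimeSpectrum A, RingHom.ker f ≤ P.asIdeal :=
    fun P => hN.trans (nilradical_le_prime P.asIdeal)
  have hcm : ∀ P : PrimeSpectrum A, (P.asIdeal.map f).comap f = P.asIdeal := by
    intro P
    rw [Ideal.comap_map_of_surjective _ hf, ← RingHom.ker_eq_comap_bot]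
    exact sup_eq_left.2 (hker P)
  let g : PrimeSpectrum A → PrimeSpectrum B := fun P =>
    ⟨P.asIdeal.map f, Ideal.map_isPrime_of_surjective hf (hker P)⟩
  refine Order.krullDim_le_of_strictMono g ?_
  intro P Q hPQ
  have hPQ' : P.asIdeal < Q.asIdeal := (PrimeSpectrum.asIdeal_lt_asIdeal P Q).mpr hPQ
  rw [← PrimeSpectrum.asIdeal_lt_asIdeal]
  refine lt_of_le_of_ne (Ideal.map_mono hPQ'.le) ?_
  intro heq
  have h1 : P.asIdeal = Q.asIdeal := by
    rw [← hcm P, ← hcm Q]
    exact congrArg (Ideal.comap f) heq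
  exact hPQ'.ne h1

theorem ringKrullDim_quotient_le_radical {R : Type*} [CommRing R] (I : Ideal R) :
    ringKrullDim (R ⧸ I) ≤ ringKrullDim (R ⧸ I.radical) := by
  refine ringKrullDim_le_of_surjective_of_ker_le_nilradical
    (Ideal.Quotient.factor (Ideal.le_radical (I := I)))
    (Ideal.Quotient.factor_surjective _) ?_
  intro x hx
  obtain ⟨r, rfl⟩ := Ideal.Quotient.mk_surjective x
  rw [RingHom.mem_ker, Ideal.Quotient.factor_mk, Ideal.Quotient.eq_zero_iff_mem] at hx
  obtain ⟨m, hm⟩ := hx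
  rw [mem_nilradical]
  refine ⟨m, ?_⟩
  rw [← map_pow, Ideal.Quotient.eq_zero_iff_mem]
  exact hm

section

variable (k : Type u) [Field k] (n : ℕ)

theorem isNilpotent_map_of_coeff {S : Type*} [CommRing S] [Nontrivial S]
    (ψ : MvPolynomial (Fin n × Fin n) k →+* S)
    (h : ∀ i : Fin n,
      ψ ((Matrix.charpoly (Matrix.mvPolynomialX (Fin n) (Fin n) k)).coeff (i : ℕ)) = 0) :
    IsNilpotent ((Matrix.mvPolynomialX (Fin n) (Fin n) k).map ψ) := by
  set N := (Matrix.mvPolynomialX (Fin n) (Fin n) k).map ψ with hN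
  have h2 : N.charpoly = (Matrix.charpoly (Matrix.mvPolynomialX (Fin n) (Fin n) k)).map ψ :=
    Matrix.charpoly_map (Matrix.mvPolynomialX (Fin n) (Fin n) k) ψ
  have h3 : N.charpoly = Polynomial.X ^ n := by
    refine charpoly_eq_X_pow_of_coeff n N fun i hi => ?_
    rw [h2, Polynomial.coeff_map]
    exact h ⟨i, hi⟩
  have h4 := Matrix.aeval_self_charpoly N
  rw [h3] at h4
  exact ⟨n, by simpa using h4⟩

variable [IsAlgClosed k]

theorem ringKrullDim_quotient_le :
    ringKrullDim (MvPolynomial (Fin n × Fin n) k ⧸ II k n) ≤ ((n ^ 2 - n : ℕ) : WithBot ℕ∞) := by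
  refine (ringKrullDim_quotient_le_radical (II k n)).trans ?_
  have hp := radical_isPrime k n
  have hdom : IsDomain (MvPolynomial (Fin n × Fin n) k ⧸ (II k n).radical) :=
    Ideal.Quotient.isDomain _
  let mk := Ideal.Quotient.mkₐ k (II k n).radical
  refine ringKrullDim_le_of_nilpotent (k := k) _ (fun ij => mk (X ij)) ?_ ?_
  · have h1 : Set.range (fun ij => mk (X ij)) =
        mk '' Set.range (X : Fin n × Fin n → MvPolynomial (Fin n × Fin n) k) := by
      rw [← Set.range_comp]; rfl
    rw [h1, ← AlgHom.map_adjoin, MvPolynomial.adjoin_range_X, Algebra.map_top,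
      AlgHom.range_eq_top]
    exact Ideal.Quotient.mkₐ_surjective k _
  · have := isNilpotent_map_of_coeff k n (Ideal.Quotient.mk (II k n).radical) (fun i => by
      rw [Ideal.Quotient.eq_zero_iff_mem]
      exact Ideal.le_radical (Ideal.subset_span ⟨i, rfl⟩))
    convert this using 1
    ext i j
    simp [mk, Matrix.mvPolynomialX_apply]

end

end Groth.Agent.Lib.Helper11.NilCone
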