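import Mathlib
import Groth.Agent.Lib.Helper11.NilCone3
import Groth.Agent.Lib.Helper7.DimFT

set_option autoImplicit false

namespace Groth.Agent.Lib.Helper11.NilCone

open Module MvPolynomial

universe u

variable (k : Type u) [Field k] (n : ℕ)

/-- every maximal ideal of `k[x_ij]` has height `n * n`. -/
theorem height_eq_of_isMaximal (M : Ideal (MvPolynomial (Fin n × Fin n) k)) (hM : M.IsMaximal) :
    M.height = (n * n : ℕ) := by
  let e : MvPolynomial (Fin n × Fin n) k ≃+* MvPolynomial (Fin (n * n)) k :=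
    (renameEquiv k finProdFinEquiv).toRingEquiv
  have hM' : (M.map e).IsMaximal := Ideal.map_isMaximal_of_equiv e
  have h1 := Groth.Agent.Lib.Helper7.DimFT.height_eq_of_isMaximal_mvPolynomial k (n * n) _ hM'
  rw [e.height_map] at h1
  exact h1

theorem coeff_mem_ker_zero (i : Fin n) :
    (Matrix.charpoly (Matrix.mvPolynomialX (Fin n) (Fin n) k)).coeff (i : ℕ) ∈
      RingHom.ker (aeval (0 : Fin n × Fin n → k) : MvPolynomial (Fin n × Fin n) k →ₐ[k] k) := by
  rw [RingHom.mem_ker]
  have h0 : (Matrix.mvPolynomialX (Fin n) (Fin n) k).map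
      (aeval (0 : Fin n × Fin n → k) : MvPolynomial (Fin n × Fin n) k →ₐ[k] k) = 0 := by
    ext a b
    simp [Matrix.mvPolynomialX_apply]
  have h1 := Matrix.charpoly_map (Matrix.mvPolynomialX (Fin n) (Fin n) k)
    (aeval (0 : Fin n × Fin n → k) : MvPolynomial (Fin n × Fin n) k →ₐ[k] k).toRingHom
  have h2 : ((Matrix.mvPolynomialX (Fin n) (Fin n) k).map
      (aeval (0 : Fin n × Fin n → k) : MvPolynomial (Fin n × Fin n) k →ₐ[k] k).toRingHom) = 0 := h0
  rw [h2, Matrix.charpoly_zero, Fintype.card_fin] at h1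
  have h3 := congrArg (fun p => Polynomial.coeff p (i : ℕ)) h1
  simp only [Polynomial.coeff_map, Polynomial.coeff_X_pow] at h3
  rw [if_neg (by have := i.2; omega)] at h3
  exact h3.symm

theorem le_ringKrullDim_quotient :
    ((n ^ 2 - n : ℕ) : WithBot ℕ∞) ≤ ringKrullDim (MvPolynomial (Fin n × Fin n) k ⧸ II k n) := by
  let m₀ : Ideal (MvPolynomial (Fin n × Fin n) k) :=
    RingHom.ker (aeval (0 : Fin n × Fin n → k) : MvPolynomial (Fin n × Fin n) k →ₐ[k] k)
  have hmax : m₀.IsMaximal := by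
    refine RingHom.ker_isMaximal_of_surjective _ fun c => ⟨C c, ?_⟩
    simp
  have hprime : m₀.IsPrime := hmax.isPrime
  have hht := height_eq_of_isMaximal k n m₀ hmax
  set s : Set (MvPolynomial (Fin n × Fin n) k) := Set.range (fun i : Fin n =>
    (Matrix.charpoly (Matrix.mvPolynomialX (Fin n) (Fin n) k)).coeff (i : ℕ)) with hs
  have hsub : s ⊆ m₀ := by
    rintro _ ⟨i, rfl⟩
    exact coeff_mem_ker_zero k n i
  have h1 := Ideal.height_le_ringKrullDim_quotient_add_encard (p := m₀) s hsub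
  have h2 : s.encard ≤ (n : ℕ∞) := by
    rw [hs, ← Set.image_univ]
    refine (Set.encard_image_le _ _).trans ?_
    rw [Set.encard_univ]
    simp
  rw [hht] at h1
  change _ ≤ ringKrullDim (MvPolynomial (Fin n × Fin n) k ⧸ II k n) + _ at h1
  generalize ringKrullDim (MvPolynomial (Fin n × Fin n) k ⧸ II k n) = d at h1 ⊢
  have h3 : (((n * n : ℕ) : ℕ∞) : WithBot ℕ∞) ≤ d + ((n : ℕ∞) : WithBot ℕ∞) := by
    refine h1.trans ?_
    gcongr
    exact_mod_cast h2
  induction d using WithBot.recBotCoe with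
  | bot =>
    rw [WithBot.bot_add, le_bot_iff] at h3
    exact absurd h3 (WithBot.coe_ne_bot)
  | coe d =>
    induction d using ENat.recTopCoe with
    | top => exact le_top
    | coe d =>
      have h4 : n * n ≤ d + n := by exact_mod_cast h3
      have h5 : n ^ 2 - n ≤ d := by
        rw [sq]; omega
      have h6 : ((n ^ 2 - n : ℕ) : WithBot ℕ∞) = (((n ^ 2 - n : ℕ) : ℕ∞) : WithBot ℕ∞) := rfl
      rw [h6]
      exact WithBot.coe_le_coe.mpr (by exact_mod_cast h5)

theorem main [IsAlgClosed k] (I : Ideal (MvPolynomial (Fin n × Fin n) k))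
    (hI : I = Ideal.span (Set.range (fun i : Fin n =>
      (Matrix.charpoly (Matrix.mvPolynomialX (Fin n) (Fin n) k)).coeff (i : ℕ)))) :
    IrreducibleSpace (PrimeSpectrum (MvPolynomial (Fin n × Fin n) k ⧸ I)) ∧
      ringKrullDim (MvPolynomial (Fin n × Fin n) k ⧸ I) = ((n ^ 2 - n : ℕ) : WithBot ℕ∞) := by
  have hI' : I = II k n := hI
  subst hI'
  exact ⟨irreducibleSpace_quotient k n,
    le_antisymm (ringKrullDim_quotient_le k n) (le_ringKrullDim_quotient k n)⟩

end Groth.Agent.Lib.Helper11.NilCone
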