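import Mathlib

set_option autoImplicit false
set_option linter.style.haveILetI false

namespace Groth.Agent.Lib.Helper11.Node

open Polynomial

/-- Extension of a derivation along a formally étale algebra. -/
theorem exists_derivation_extend (R S T : Type*) [CommRing R] [CommRing S] [CommRing T]
    [Algebra R S] [Algebra R T] [Algebra S T] [IsScalarTower R S T] [Algebra.FormallyEtale S T]
    (θ : Derivation R S S) :
    ∃ θ' : Derivation R T T, ∀ s, θ' (algebraMap S T s) = algebraMap S T (θ s) := by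
  have hbc := KaehlerDifferential.isBaseChange_of_formallyEtale R S T
  let g : Ω[S⁄R] →ₗ[S] T := (Algebra.linearMap S T).comp θ.liftKaehlerDifferential
  let G : Ω[T⁄R] →ₗ[T] T := hbc.lift g
  refine ⟨G.compDer (KaehlerDifferential.D R T), fun s => ?_⟩
  have h1 := hbc.lift_eq g (KaehlerDifferential.D R S s)
  rw [KaehlerDifferential.map_D] at h1
  simpa [G, g] using h1

/-- If `V[X] → B'` is formally unramified, then for any `V`-derivation `θ'` of `B'` the ideal
generated by `θ'(f)` (`f` the image of `X`) contains the image of `θ'`. -/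
theorem isUnit_of_formallyUnramified {V B' : Type*} [CommRing V] [CommRing B'] [Algebra V B']
    (φ : V[X] →+* B') (hφC : ∀ v, φ (C v) = algebraMap V B' v)
    (hunr : φ.FormallyUnramified)
    (θ' : Derivation V B' B') (u : B') (hu : IsUnit (θ' u)) : IsUnit (θ' (φ X)) := by
  classical
  set f := φ X with hf
  let J : Ideal B' := Ideal.span {θ' f}
  let D1 : Derivation V B' (B' ⧸ J) := ((Ideal.Quotient.mkₐ B' J).toLinearMap).compDer θ'
  have hD1 : ∀ b, D1 b = Ideal.Quotient.mk J (θ' b) := fun b => rfl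
  have hDf : D1 f = 0 := by
    rw [hD1, Ideal.Quotient.eq_zero_iff_mem]
    exact Ideal.subset_span rfl
  have hDφ : ∀ p, D1 (φ p) = 0 := by
    intro p
    induction p using Polynomial.induction_on' with
    | add p q hp hq => rw [map_add, map_add, hp, hq, add_zero]
    | monomial n a =>
      rw [← C_mul_X_pow_eq_monomial, map_mul, map_pow, hφC, ← hf, ← Algebra.smul_def,
        D1.map_smul, Derivation.leibniz_pow, hDf]
      simp
  letI := φ.toAlgebra
  haveI : IsScalarTower V V[X] B' := IsScalarTower.of_algebraMap_eq (fun v => (hφC v).symm)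
  have hunr' : Algebra.FormallyUnramified V[X] B' := hunr
  let D2 : Derivation V[X] B' (B' ⧸ J) :=
    { toLinearMap :=
        { toFun := D1
          map_add' := D1.map_add
          map_smul' := fun p b => by
            change D1 (p • b) = p • D1 b
            rw [Algebra.smul_def, D1.leibniz, show algebraMap V[X] B' p = φ p from rfl, hDφ,
              smul_zero, add_zero, ← algebraMap_smul B' p (D1 b)]
            rfl }
      map_one_eq_zero' := D1.map_one_eq_zero
      leibniz' := D1.leibniz }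
  have hD2 : ∀ b, D2 b = 0 := by
    intro b
    have := D2.liftKaehlerDifferential_comp_D b
    rw [← this, Subsingleton.elim (KaehlerDifferential.D V[X] B' b) 0, map_zero]
  have hu' : θ' u ∈ J := by
    rw [← Ideal.Quotient.eq_zero_iff_mem, ← hD1]
    exact hD2 u
  have hJ : J = ⊤ := Ideal.eq_top_of_isUnit_mem _ hu' hu
  exact Ideal.span_singleton_eq_top.mp hJ

/-- Divisibility lemma. -/
theorem dvd_or_dvd_or_isUnit {B : Type*} [CommRing B] (x y : B)
    (hx : x ∈ nonZeroDivisors B) (hy : y ∈ nonZeroDivisors B) (px : Prime x) (py : Prime y)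
    (g w : B) (N : ℕ) (h : g * w = (x * y) ^ N) : x ∣ g ∨ y ∣ g ∨ IsUnit g := by
  by_cases hxg : x ∣ g
  · exact Or.inl hxg
  by_cases hyg : y ∣ g
  · exact Or.inr (Or.inl hyg)
  refine Or.inr (Or.inr ?_)
  have key : ∀ n : ℕ, ∀ a b : ℕ, a + b = n → ∀ w : B, g * w = x ^ a * y ^ b → ∃ w', g * w' = 1 := by
    intro n
    induction n with
    | zero =>
      intro a b hab w hw
      obtain ⟨rfl, rfl⟩ : a = 0 ∧ b = 0 := by omega
      exact ⟨w, by simpa using hw⟩
    | succ n ih =>
      intro a b hab w hw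
      rcases Nat.eq_zero_or_pos a with ha | ha
      · subst ha
        obtain ⟨b', rfl⟩ : ∃ b', b = b' + 1 := ⟨b - 1, by omega⟩
        have h1 : y ∣ g * w := ⟨x ^ 0 * y ^ b', by rw [hw]; ring⟩
        rcases py.dvd_or_dvd h1 with h2 | ⟨w1, rfl⟩
        · exact absurd h2 hyg
        · refine ih 0 b' (by omega) w1 ?_
          apply (mul_cancel_left_mem_nonZeroDivisors hy).mp
          rw [← mul_assoc, mul_comm y g, mul_assoc, hw]; ring
      · obtain ⟨a', rfl⟩ : ∃ a', a = a' + 1 := ⟨a - 1, by omega⟩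
        have h1 : x ∣ g * w := ⟨x ^ a' * y ^ b, by rw [hw]; ring⟩
        rcases px.dvd_or_dvd h1 with h2 | ⟨w1, rfl⟩
        · exact absurd h2 hxg
        · refine ih a' b (by omega) w1 ?_
          apply (mul_cancel_left_mem_nonZeroDivisors hx).mp
          rw [← mul_assoc, mul_comm x g, mul_assoc, hw]; ring
  obtain ⟨w', hw'⟩ := key (N + N) N N rfl w (by rw [h, mul_pow])
  exact IsUnit.of_mul_eq_one _ hw'


/-- One side of the abstract node: `x y = ϖ`, `x` regular and prime, `y ∉ (x)`, `(x, y)` proper,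
and `x, y` generate. -/
structure Side (V Q : Type*) [CommRing V] [CommRing Q] [Algebra V Q] (ϖ : V) (x y : Q) : Prop where
  hxy : x * y = algebraMap V Q ϖ
  gen : Algebra.adjoin V {x, y} = ⊤
  reg : x ∈ nonZeroDivisors Q
  prime : (Ideal.span {x}).IsPrime
  not_mem : y ∉ Ideal.span {x}
  proper : Ideal.span {x, y} ≠ ⊤

section
variable {V Q : Type*} [CommRing V] [CommRing Q] [Algebra V Q] {ϖ : V} {x y : Q}

theorem Side.exists_const (S : Side V Q ϖ x y) (q : Q) :
    ∃ c : V, q - algebraMap V Q c ∈ Ideal.span {x, y} := by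
  have hq : q ∈ Algebra.adjoin V {x, y} := S.gen ▸ Algebra.mem_top
  induction hq using Algebra.adjoin_induction with
  | mem z hz =>
    refine ⟨0, ?_⟩
    rw [map_zero, sub_zero]
    exact Ideal.subset_span hz
  | algebraMap r => exact ⟨r, by simp⟩
  | add a b _ _ ha hb =>
    obtain ⟨c1, h1⟩ := ha
    obtain ⟨c2, h2⟩ := hb
    refine ⟨c1 + c2, ?_⟩
    rw [map_add]
    have : a + b - (algebraMap V Q c1 + algebraMap V Q c2)
        = (a - algebraMap V Q c1) + (b - algebraMap V Q c2) := by ring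
    rw [this]
    exact Ideal.add_mem _ h1 h2
  | mul a b _ _ ha hb =>
    obtain ⟨c1, h1⟩ := ha
    obtain ⟨c2, h2⟩ := hb
    refine ⟨c1 * c2, ?_⟩
    rw [map_mul]
    have : a * b - algebraMap V Q c1 * algebraMap V Q c2
        = a * (b - algebraMap V Q c2) + algebraMap V Q c2 * (a - algebraMap V Q c1) := by ring
    rw [this]
    exact Ideal.add_mem _ (Ideal.mul_mem_left _ _ h2) (Ideal.mul_mem_left _ _ h1)

theorem Side.algebraMap_mem (S : Side V Q ϖ x y) (c : V) :
    algebraMap V Q (ϖ * c) ∈ Ideal.span {x, y} := by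
  rw [map_mul, ← S.hxy, mul_assoc]
  exact Ideal.mul_mem_right _ _ (Ideal.subset_span (by simp))

theorem Side.isUnit_const (S : Side V Q ϖ x y) (hV : ∀ v : V, v ∉ Ideal.span {ϖ} → IsUnit v)
    {q : Q} (hq : q ∉ Ideal.span {x, y}) {c : V}
    (hc : q - algebraMap V Q c ∈ Ideal.span {x, y}) : IsUnit c := by
  apply hV
  intro hcϖ
  obtain ⟨c', rfl⟩ := Ideal.mem_span_singleton.mp hcϖ
  apply hq
  have := Ideal.add_mem _ hc (S.algebraMap_mem c')
  simpa using this

theorem Side.isMaximal (S : Side V Q ϖ x y) (hV : ∀ v : V, v ∉ Ideal.span {ϖ} → IsUnit v) :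
    (Ideal.span {x, y}).IsMaximal := by
  rw [Ideal.isMaximal_iff]
  refine ⟨fun h1 => S.proper ((Ideal.eq_top_iff_one _).mpr h1), fun J q hJ hq hqJ => ?_⟩
  obtain ⟨c, hc⟩ := S.exists_const q
  have hcu : IsUnit c := S.isUnit_const hV hq hc
  obtain ⟨c', hc'⟩ := hcu.exists_right_inv
  have h1 : (1 : Q) = q * algebraMap V Q c' - (q - algebraMap V Q c) * algebraMap V Q c' := by
    rw [sub_mul, sub_sub_cancel, ← map_mul, hc', map_one]
  rw [h1]
  exact Ideal.sub_mem _ (Ideal.mul_mem_right _ _ hqJ) (hJ (Ideal.mul_mem_right _ _ hc))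

section Loc
variable {B : Type*} [CommRing B] [Algebra V B] [Algebra Q B] [IsScalarTower V Q B]

theorem Side.notMem_span_x (S : Side V Q ϖ x y) {h : Q} (hh : h ∉ Ideal.span {x, y}) :
    h ∉ Ideal.span {x} := fun h1 =>
  hh (Ideal.span_mono (by simp) h1)

theorem Side.span_xB_isPrime (S : Side V Q ϖ x y) (h : Q) (hh : h ∉ Ideal.span {x, y})
    [IsLocalization.Away h B] : (Ideal.span {algebraMap Q B x}).IsPrime := by
  haveI := S.prime
  have hd : Disjoint (Submonoid.powers h : Set Q) ↑(Ideal.span {x}) :=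
    (Ideal.disjoint_powers_iff_notMem_of_isPrime h).mpr (S.notMem_span_x hh)
  have := IsLocalization.isPrime_of_isPrime_disjoint (Submonoid.powers h) B _ S.prime hd
  rwa [Ideal.map_span, Set.image_singleton] at this

theorem Side.yB_notMem (S : Side V Q ϖ x y) (h : Q) (hh : h ∉ Ideal.span {x, y})
    [IsLocalization.Away h B] : algebraMap Q B y ∉ Ideal.span {algebraMap Q B x} := by
  haveI := S.prime
  have hd : Disjoint (Submonoid.powers h : Set Q) ↑(Ideal.span {x}) :=
    (Ideal.disjoint_powers_iff_notMem_of_isPrime h).mpr (S.notMem_span_x hh)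
  have h1 := IsLocalization.under_map_of_isPrime_disjoint (Submonoid.powers h) B S.prime hd
  rw [Ideal.map_span, Set.image_singleton] at h1
  intro h2
  apply S.not_mem
  rw [← h1]
  exact h2

theorem Side.xB_mem_nonZeroDivisors (S : Side V Q ϖ x y) (h : Q) [IsLocalization.Away h B] :
    algebraMap Q B x ∈ nonZeroDivisors B :=
  IsLocalization.map_nonZeroDivisors_le (Submonoid.powers h) B
    (Submonoid.mem_map_of_mem _ S.reg)

theorem Side.span_xyB_isPrime (S : Side V Q ϖ x y)
    (hV : ∀ v : V, v ∉ Ideal.span {ϖ} → IsUnit v) (h : Q) (hh : h ∉ Ideal.span {x, y})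
    [IsLocalization.Away h B] :
    (Ideal.span {algebraMap Q B x, algebraMap Q B y}).IsPrime := by
  haveI := (S.isMaximal hV).isPrime
  have hd : Disjoint (Submonoid.powers h : Set Q) ↑(Ideal.span {x, y}) :=
    (Ideal.disjoint_powers_iff_notMem_of_isPrime h).mpr hh
  have := IsLocalization.isPrime_of_isPrime_disjoint (Submonoid.powers h) B _
    (S.isMaximal hV).isPrime hd
  rwa [Ideal.map_span, Set.image_pair] at this

theorem Side.exists_constB (S : Side V Q ϖ x y)
    (hV : ∀ v : V, v ∉ Ideal.span {ϖ} → IsUnit v) (h : Q) (hh : h ∉ Ideal.span {x, y})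
    [IsLocalization.Away h B] (b : B) :
    ∃ c : V, b - algebraMap V B c ∈ Ideal.span {algebraMap Q B x, algebraMap Q B y} := by
  set mB : Ideal B := Ideal.span {algebraMap Q B x, algebraMap Q B y} with hmB
  have hmap : ∀ q : Q, q ∈ Ideal.span {x, y} → algebraMap Q B q ∈ mB := by
    intro q hq
    have := Ideal.mem_map_of_mem (algebraMap Q B) hq
    rwa [Ideal.map_span, Set.image_pair] at this
  obtain ⟨⟨q, ⟨m, n, rfl⟩⟩, hq⟩ := IsLocalization.surj (Submonoid.powers h) b
  simp only at hq
  obtain ⟨ch, hch⟩ := S.exists_const h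
  have hchu : IsUnit ch := S.isUnit_const hV hh hch
  obtain ⟨cq, hcq⟩ := S.exists_const q
  obtain ⟨u, hu⟩ := (hchu.pow n).exists_right_inv
  refine ⟨cq * u, ?_⟩
  have e1 : Ideal.Quotient.mk mB (algebraMap Q B h) = Ideal.Quotient.mk mB (algebraMap V B ch) := by
    rw [Ideal.Quotient.eq]
    have := hmap _ hch
    rwa [map_sub, ← IsScalarTower.algebraMap_apply] at this
  have e2 : Ideal.Quotient.mk mB (algebraMap Q B q) = Ideal.Quotient.mk mB (algebraMap V B cq) := by
    rw [Ideal.Quotient.eq]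
    have := hmap _ hcq
    rwa [map_sub, ← IsScalarTower.algebraMap_apply] at this
  rw [← Ideal.Quotient.eq]
  have e3 : Ideal.Quotient.mk mB b * Ideal.Quotient.mk mB (algebraMap V B ch) ^ n
      = Ideal.Quotient.mk mB (algebraMap V B cq) := by
    rw [← e1, ← e2, ← hq, map_mul, map_pow, map_pow]
  calc Ideal.Quotient.mk mB b
      = Ideal.Quotient.mk mB b * Ideal.Quotient.mk mB (algebraMap V B (ch ^ n * u)) := by
        rw [hu, map_one, map_one, mul_one]
    _ = (Ideal.Quotient.mk mB b * Ideal.Quotient.mk mB (algebraMap V B ch) ^ n)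
          * Ideal.Quotient.mk mB (algebraMap V B u) := by
        rw [map_mul, map_mul, map_pow, map_pow, mul_assoc]
    _ = Ideal.Quotient.mk mB (algebraMap V B (cq * u)) := by
        rw [e3, map_mul, map_mul]

/-- The derivation `θB` (with `θ x = x`, `θ y = -y`) maps `B` into `(x, y) B`. -/
theorem Side.deriv_mem (S : Side V Q ϖ x y) (h : Q) [IsLocalization.Away h B]
    (θB : Derivation V B B)
    (hθx : θB (algebraMap Q B x) = algebraMap Q B x)
    (hθy : θB (algebraMap Q B y) = - algebraMap Q B y) (b : B) :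
    θB b ∈ Ideal.span {algebraMap Q B x, algebraMap Q B y} := by
  set mB : Ideal B := Ideal.span {algebraMap Q B x, algebraMap Q B y} with hmB
  have hxm : algebraMap Q B x ∈ mB := Ideal.subset_span (by simp)
  have hym : algebraMap Q B y ∈ mB := Ideal.subset_span (by simp)
  have hQ : ∀ q : Q, θB (algebraMap Q B q) ∈ mB := by
    intro q
    have hq : q ∈ Algebra.adjoin V {x, y} := S.gen ▸ Algebra.mem_top
    induction hq using Algebra.adjoin_induction with
    | mem z hz =>
      rcases hz with rfl | rfl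
      · rw [hθx]; exact hxm
      · rw [hθy]; exact neg_mem hym
    | algebraMap r =>
      rw [← IsScalarTower.algebraMap_apply, Derivation.map_algebraMap]
      exact zero_mem _
    | add a b _ _ ha hb => rw [map_add, map_add]; exact add_mem ha hb
    | mul a b _ _ ha hb =>
      rw [map_mul, Derivation.leibniz, smul_eq_mul, smul_eq_mul]
      exact add_mem (Ideal.mul_mem_left _ _ hb) (Ideal.mul_mem_left _ _ ha)
  obtain ⟨⟨q, ⟨m, n, rfl⟩⟩, hq⟩ := IsLocalization.surj (Submonoid.powers h) b
  simp only at hq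
  have hunit : IsUnit (algebraMap Q B (h ^ n)) :=
    IsLocalization.map_units B (⟨h ^ n, n, rfl⟩ : Submonoid.powers h)
  have h1 : θB (b * algebraMap Q B (h ^ n)) ∈ mB := by rw [hq]; exact hQ q
  rw [Derivation.leibniz, smul_eq_mul, smul_eq_mul] at h1
  have h2 : algebraMap Q B (h ^ n) * θB b ∈ mB := by
    have := Ideal.sub_mem _ h1 (Ideal.mul_mem_left _ b (hQ (h ^ n)))
    simpa using this
  obtain ⟨v, hv⟩ := hunit.exists_left_inv
  have : θB b = v * (algebraMap Q B (h ^ n) * θB b) := by rw [← mul_assoc, hv, one_mul]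
  rw [this]
  exact Ideal.mul_mem_left _ _ h2


/-- The induced derivation on `B ⧸ (x)`. -/
theorem Side.exists_derivC (h : Q) [IsLocalization.Away h B]
    (θB : Derivation V B B)
    (hθx : θB (algebraMap Q B x) = algebraMap Q B x) :
    ∃ θC : Derivation V (B ⧸ Ideal.span {algebraMap Q B x}) (B ⧸ Ideal.span {algebraMap Q B x}),
      ∀ b, θC (Ideal.Quotient.mk _ b) = Ideal.Quotient.mk _ (θB b) := by
  set I : Ideal B := Ideal.span {algebraMap Q B x} with hI
  have hd : ∀ b, Ideal.Quotient.mkₐ V I b = 0 → Ideal.Quotient.mkₐ V I (θB b) = 0 := by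
    intro b hb
    rw [Ideal.Quotient.mkₐ_eq_mk, Ideal.Quotient.eq_zero_iff_mem] at hb ⊢
    obtain ⟨b', rfl⟩ := Ideal.mem_span_singleton.mp hb
    rw [Derivation.leibniz, hθx, smul_eq_mul, smul_eq_mul]
    exact add_mem (Ideal.mul_mem_right _ _ (Ideal.subset_span rfl))
      (Ideal.mul_mem_left _ _ (Ideal.subset_span rfl))
  refine ⟨Derivation.liftOfSurjective (f := Ideal.Quotient.mkₐ V I)
    (Ideal.Quotient.mkₐ_surjective V I) hd, fun b => ?_⟩
  exact Derivation.liftOfSurjective_apply (f := Ideal.Quotient.mkₐ V I)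
    (Ideal.Quotient.mkₐ_surjective V I) hd b

/-- `Ω_{(B/x)/V}` is generated by `dy`. -/
theorem Side.D_mem_span (S : Side V Q ϖ x y) (h : Q) [IsLocalization.Away h B] (b : B) :
    KaehlerDifferential.D V (B ⧸ Ideal.span {algebraMap Q B x}) (Ideal.Quotient.mk _ b) ∈
      Submodule.span (B ⧸ Ideal.span {algebraMap Q B x})
        {KaehlerDifferential.D V (B ⧸ Ideal.span {algebraMap Q B x})
          (Ideal.Quotient.mk _ (algebraMap Q B y))} := by
  set I : Ideal B := Ideal.span {algebraMap Q B x} with hI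
  set N : Submodule (B ⧸ I) (Ω[(B ⧸ I)⁄V]) := Submodule.span (B ⧸ I)
        {KaehlerDifferential.D V (B ⧸ I) (Ideal.Quotient.mk I (algebraMap Q B y))} with hN
  have hQ : ∀ q : Q,
      KaehlerDifferential.D V (B ⧸ I) (Ideal.Quotient.mk I (algebraMap Q B q)) ∈ N := by
    intro q
    have hq : q ∈ Algebra.adjoin V {x, y} := S.gen ▸ Algebra.mem_top
    induction hq using Algebra.adjoin_induction with
    | mem z hz =>
      rcases hz with rfl | rfl
      · have : Ideal.Quotient.mk I (algebraMap Q B z) = 0 :=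
          Ideal.Quotient.eq_zero_iff_mem.mpr (Ideal.subset_span rfl)
        rw [this, map_zero]; exact zero_mem _
      · exact Submodule.subset_span rfl
    | algebraMap r =>
      rw [← IsScalarTower.algebraMap_apply V Q B, Ideal.Quotient.mk_algebraMap,
        Derivation.map_algebraMap]
      exact zero_mem _
    | add a b _ _ ha hb => rw [map_add, map_add, map_add]; exact add_mem ha hb
    | mul a b _ _ ha hb =>
      rw [map_mul, map_mul, Derivation.leibniz]
      exact add_mem (N.smul_mem _ hb) (N.smul_mem _ ha)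
  obtain ⟨⟨q, ⟨m, n, rfl⟩⟩, hq⟩ := IsLocalization.surj (Submonoid.powers h) b
  simp only at hq
  have hunit : IsUnit (Ideal.Quotient.mk I (algebraMap Q B (h ^ n))) :=
    (IsLocalization.map_units B (⟨h ^ n, n, rfl⟩ : Submonoid.powers h)).map _
  have h1 := hQ q
  rw [← hq, map_mul, Derivation.leibniz] at h1
  have h2 : Ideal.Quotient.mk I (algebraMap Q B (h ^ n)) •
      KaehlerDifferential.D V (B ⧸ I) (Ideal.Quotient.mk I b) ∈ N := by
    have := N.sub_mem h1 (N.smul_mem (Ideal.Quotient.mk I b) (hQ (h ^ n)))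
    simpa using this
  obtain ⟨v, hv⟩ := hunit.exists_left_inv
  have : KaehlerDifferential.D V (B ⧸ I) (Ideal.Quotient.mk I b)
      = v • (Ideal.Quotient.mk I (algebraMap Q B (h ^ n)) •
        KaehlerDifferential.D V (B ⧸ I) (Ideal.Quotient.mk I b)) := by
    rw [smul_smul, hv, one_smul]
  rw [this]
  exact N.smul_mem _ h2

theorem Side.D_eq_zero (S : Side V Q ϖ x y) (h : Q) (hh : h ∉ Ideal.span {x, y})
    [IsLocalization.Away h B] (θB : Derivation V B B)
    (hθx : θB (algebraMap Q B x) = algebraMap Q B x)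
    (hθy : θB (algebraMap Q B y) = - algebraMap Q B y)
    (f : B) (hf : θB f ∈ Ideal.span {algebraMap Q B x}) :
    KaehlerDifferential.D V (B ⧸ Ideal.span {algebraMap Q B x}) (Ideal.Quotient.mk _ f) = 0 := by
  obtain ⟨θC, hθC⟩ := Side.exists_derivC (V := V) h θB hθx
  haveI : (Ideal.span {algebraMap Q B x}).IsPrime := S.span_xB_isPrime h hh
  obtain ⟨c, hc⟩ := Submodule.mem_span_singleton.mp (S.D_mem_span (B := B) h f)
  have h3 := congrArg θC.liftKaehlerDifferential hc
  rw [map_smul, Derivation.liftKaehlerDifferential_comp_D,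
    Derivation.liftKaehlerDifferential_comp_D, hθC, hθC, hθy,
    Ideal.Quotient.eq_zero_iff_mem.mpr hf, map_neg, smul_eq_mul, mul_neg, neg_eq_zero] at h3
  rcases mul_eq_zero.mp h3 with h4 | h4
  · rw [← hc, h4, zero_smul]
  · exact absurd (Ideal.Quotient.eq_zero_iff_mem.mp h4) (S.yB_notMem h hh)


theorem Side.mem_or_mem {B' : Type*} [CommRing B'] [Algebra V B'] [Algebra B B']
    [IsScalarTower V B B']
    (S : Side V Q ϖ x y) (S' : Side V Q ϖ y x) (hV : ∀ v : V, v ∉ Ideal.span {ϖ} → IsUnit v)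
    (h : Q) (hh : h ∉ Ideal.span {x, y}) [IsLocalization.Away h B]
    [IsLocalization.Away (algebraMap V B ϖ) B']
    (θB : Derivation V B B) (hθx : θB (algebraMap Q B x) = algebraMap Q B x)
    (hθy : θB (algebraMap Q B y) = - algebraMap Q B y)
    (f : B)
    (hunr : ((algebraMap B B').comp
      (Polynomial.aeval f : Polynomial V →ₐ[V] B).toRingHom).FormallyUnramified) :
    θB f ∈ Ideal.span {algebraMap Q B x} ∨ θB f ∈ Ideal.span {algebraMap Q B y} := by
  have hh' : h ∉ Ideal.span {y, x} := by rwa [Set.pair_comm]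
  have hxyB : algebraMap Q B x * algebraMap Q B y = algebraMap V B ϖ := by
    rw [← map_mul, S.hxy, ← IsScalarTower.algebraMap_apply]
  haveI : Algebra.FormallyEtale B B' :=
    Algebra.FormallyEtale.of_isLocalization (Rₘ := B') (Submonoid.powers (algebraMap V B ϖ))
  obtain ⟨θ', hθ'⟩ := exists_derivation_extend V B B' θB
  have hϖu : IsUnit (algebraMap B B' (algebraMap V B ϖ)) :=
    IsLocalization.map_units B' (⟨_, 1, pow_one _⟩ : Submonoid.powers (algebraMap V B ϖ))
  have hxu : IsUnit (algebraMap B B' (algebraMap Q B x)) := by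
    rw [← hxyB, map_mul] at hϖu
    exact isUnit_of_mul_isUnit_left hϖu
  have hu : IsUnit (θ' (algebraMap B B' (algebraMap Q B x))) := by rw [hθ', hθx]; exact hxu
  have key := isUnit_of_formallyUnramified _ (fun v => by
    simp [← IsScalarTower.algebraMap_apply]) hunr θ' _ hu
  have key2 : IsUnit (algebraMap B B' (θB f)) := by
    rw [← hθ']
    simpa using key
  obtain ⟨n, w, hw⟩ := (IsLocalization.Away.algebraMap_isUnit_iff (algebraMap V B ϖ)).mp key2
  haveI px := S.span_xB_isPrime (B := B) h hh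
  haveI py := S'.span_xB_isPrime (B := B) h hh'
  haveI : Nontrivial B :=
    ⟨⟨0, 1, fun h01 => px.ne_top ((Ideal.eq_top_iff_one _).mpr (h01 ▸ zero_mem _))⟩⟩
  have hx0 : algebraMap Q B x ≠ 0 :=
    nonZeroDivisors.ne_zero (S.xB_mem_nonZeroDivisors (B := B) h)
  have hy0 : algebraMap Q B y ≠ 0 :=
    nonZeroDivisors.ne_zero (S'.xB_mem_nonZeroDivisors (B := B) h)
  have hm := S.span_xyB_isPrime (B := B) hV h hh
  have hg := S.deriv_mem (B := B) h θB hθx hθy f
  rcases dvd_or_dvd_or_isUnit (algebraMap Q B x) (algebraMap Q B y)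
    (S.xB_mem_nonZeroDivisors h) (S'.xB_mem_nonZeroDivisors h)
    ((Ideal.span_singleton_prime hx0).mp px) ((Ideal.span_singleton_prime hy0).mp py)
    (θB f) w n (by rw [hxyB, hw]) with h1 | h1 | h1
  · exact Or.inl (Ideal.mem_span_singleton.mpr h1)
  · exact Or.inr (Ideal.mem_span_singleton.mpr h1)
  · exact absurd (Ideal.eq_top_of_isUnit_mem _ hg h1) hm.ne_top


theorem Side.not_quasiFinite (S : Side V Q ϖ x y)
    (hV : ∀ v : V, v ∉ Ideal.span {ϖ} → IsUnit v)
    (hn : ∀ n : ℕ, n ≠ 0 → IsUnit (n : V))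
    (h : Q) (hh : h ∉ Ideal.span {x, y}) [IsLocalization.Away h B] [IsNoetherianRing B]
    (θB : Derivation V B B) (hθx : θB (algebraMap Q B x) = algebraMap Q B x)
    (hθy : θB (algebraMap Q B y) = - algebraMap Q B y)
    (f : B) (hf : θB f ∈ Ideal.span {algebraMap Q B x}) :
    ¬ (Polynomial.aeval f : Polynomial V →ₐ[V] B).toRingHom.QuasiFinite := by
  set I : Ideal B := Ideal.span {algebraMap Q B x} with hI
  set mB : Ideal B := Ideal.span {algebraMap Q B x, algebraMap Q B y} with hmB
  haveI pI : I.IsPrime := S.span_xB_isPrime h hh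
  haveI pm : mB.IsPrime := S.span_xyB_isPrime hV h hh
  have hIm : I ≤ mB := Ideal.span_mono (by simp)
  obtain ⟨θC, hθC⟩ := Side.exists_derivC (V := V) h θB hθx
  obtain ⟨c, hc⟩ := S.exists_constB (B := B) hV h hh f
  set yC : B ⧸ I := Ideal.Quotient.mk I (algebraMap Q B y) with hyC
  have hyC0 : yC ≠ 0 := fun h0 => S.yB_notMem h hh (Ideal.Quotient.eq_zero_iff_mem.mp h0)
  have hxI : algebraMap Q B x ∈ I := Ideal.subset_span rfl
  have hmy : ∀ b ∈ mB, Ideal.Quotient.mk I b ∈ Ideal.span {yC} := by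
    intro b hb
    obtain ⟨a, a', rfl⟩ := Ideal.mem_span_pair.mp hb
    rw [map_add, map_mul, map_mul, Ideal.Quotient.eq_zero_iff_mem.mpr hxI, mul_zero, zero_add]
    exact Ideal.mul_mem_left _ _ (Ideal.subset_span rfl)
  have hθCy : ∀ z : B ⧸ I, θC z ∈ Ideal.span {yC} := by
    intro z
    obtain ⟨b, rfl⟩ := Ideal.Quotient.mk_surjective z
    rw [hθC]
    exact hmy _ (S.deriv_mem h θB hθx hθy b)
  have hθCyC : θC yC = - yC := by rw [hyC, hθC, hθy, map_neg]
  have hyCnu : Ideal.span {yC} ≠ ⊤ := by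
    intro htop
    rw [Ideal.span_singleton_eq_top] at htop
    obtain ⟨z, hz⟩ := htop.exists_right_inv
    obtain ⟨b, rfl⟩ := Ideal.Quotient.mk_surjective z
    rw [hyC, ← map_mul, ← map_one (Ideal.Quotient.mk I), Ideal.Quotient.eq] at hz
    apply pm.ne_top
    rw [Ideal.eq_top_iff_one]
    have h1 : algebraMap Q B y * b ∈ mB :=
      Ideal.mul_mem_right _ _ (Ideal.subset_span (by simp))
    have := Ideal.sub_mem _ h1 (hIm hz)
    simpa using this
  set e : B ⧸ I := Ideal.Quotient.mk I (f - algebraMap V B c) with he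
  have hey : e ∈ Ideal.span {yC} := hmy _ hc
  have hθe : θC e = 0 := by
    rw [he, hθC, map_sub, Derivation.map_algebraMap, sub_zero]
    exact Ideal.Quotient.eq_zero_iff_mem.mpr hf
  have he0 : e = 0 := by
    by_contra hne
    have hkrull : (⨅ n : ℕ, (Ideal.span {yC}) ^ n) = ⊥ :=
      Ideal.iInf_pow_eq_bot_of_isDomain _ hyCnu
    have hex : ∃ n : ℕ, e ∉ (Ideal.span {yC}) ^ n := by
      by_contra hall
      push_neg at hall
      apply hne
      have : e ∈ (⨅ n : ℕ, (Ideal.span {yC}) ^ n) := by simpa [Ideal.mem_iInf] using hall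
      rw [hkrull] at this
      simpa using this
    classical
    have hn1 : e ∉ (Ideal.span {yC}) ^ (Nat.find hex) := Nat.find_spec hex
    obtain ⟨m, hm⟩ : ∃ m, Nat.find hex = m + 1 :=
      Nat.exists_eq_succ_of_ne_zero (by
        intro h0; apply hn1; rw [h0, pow_zero, Ideal.one_eq_top]; exact Submodule.mem_top)
    have hm1 : m ≠ 0 := by
      intro h0; apply hn1; rw [hm, h0, zero_add, pow_one]; exact hey
    have hem : e ∈ (Ideal.span {yC}) ^ m := by
      by_contra h'
      exact Nat.find_min hex (by omega : m < Nat.find hex) h'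
    rw [Ideal.span_singleton_pow, Ideal.mem_span_singleton] at hem
    obtain ⟨u, hu⟩ := hem
    have h1 : θC (yC ^ m) = - ((m : B ⧸ I) * yC ^ m) := by
      rw [Derivation.leibniz_pow, hθCyC]
      obtain ⟨m', rfl⟩ := Nat.exists_eq_succ_of_ne_zero hm1
      simp only [Nat.succ_eq_add_one, add_tsub_cancel_right, smul_eq_mul, nsmul_eq_mul]
      ring
    have h2 : yC ^ m * (θC u - (m : B ⧸ I) * u) = 0 := by
      have := hθe
      rw [hu, Derivation.leibniz, h1, smul_eq_mul, smul_eq_mul] at this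
      rw [← this]; ring
    have h3 : θC u = (m : B ⧸ I) * u := by
      rcases mul_eq_zero.mp h2 with h4 | h4
      · exact absurd (pow_eq_zero_iff hm1 |>.mp h4) hyC0
      · exact sub_eq_zero.mp h4
    obtain ⟨u', hu'⟩ := Ideal.mem_span_singleton.mp (hθCy u)
    have hmu : IsUnit ((m : B ⧸ I)) := by
      have := (hn m hm1).map (algebraMap V (B ⧸ I))
      simpa using this
    obtain ⟨mi, hmi⟩ := hmu.exists_left_inv
    apply hn1
    rw [hm, Ideal.span_singleton_pow, Ideal.mem_span_singleton]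
    refine ⟨mi * u', ?_⟩
    calc e = yC ^ m * u := hu
      _ = yC ^ m * (mi * ((m : B ⧸ I) * u)) := by rw [← mul_assoc mi, hmi, one_mul]
      _ = yC ^ (m + 1) * (mi * u') := by rw [← h3, hu']; ring
  have hfI : f - algebraMap V B c ∈ I := Ideal.Quotient.eq_zero_iff_mem.mp he0
  intro hqf
  letI := (Polynomial.aeval f : Polynomial V →ₐ[V] B).toRingHom.toAlgebra
  haveI : Algebra.QuasiFinite V[X] B := hqf
  have hund : I.under V[X] = mB.under V[X] := by
    apply le_antisymm (Ideal.comap_mono hIm)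
    intro p hp
    rw [Ideal.mem_comap] at hp
    rw [Ideal.mem_comap]
    change aeval f p ∈ mB at hp
    change aeval f p ∈ I
    have h1 : Ideal.Quotient.mk I (aeval f p)
        = Ideal.Quotient.mk I (algebraMap V B (p.eval c)) := by
      have e1 := Polynomial.aeval_algHom_apply (Ideal.Quotient.mkₐ V I) f p
      have e2 := Polynomial.aeval_algHom_apply (Ideal.Quotient.mkₐ V I) (algebraMap V B c) p
      have e3 : Ideal.Quotient.mkₐ V I f = Ideal.Quotient.mkₐ V I (algebraMap V B c) :=
        Ideal.Quotient.eq.mpr hfI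
      rw [e3, e2] at e1
      rw [Polynomial.aeval_algebraMap_apply, Polynomial.coe_aeval_eq_eval] at e1
      exact e1.symm
    rw [Ideal.Quotient.eq] at h1
    have h2 : algebraMap V B (p.eval c) ∈ mB := by
      have := Ideal.sub_mem _ hp (hIm h1)
      simpa using this
    have h3 : p.eval c ∈ Ideal.span {ϖ} := by
      by_contra h3
      exact pm.ne_top (Ideal.eq_top_of_isUnit_mem _ h2 ((hV _ h3).map _))
    obtain ⟨c', hc'⟩ := Ideal.mem_span_singleton.mp h3
    have h4 : algebraMap V B (p.eval c) ∈ I := by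
      rw [hc', map_mul, IsScalarTower.algebraMap_apply V Q B ϖ, ← S.hxy, map_mul, mul_assoc]
      exact Ideal.mul_mem_right _ _ hxI
    have := Ideal.add_mem _ h1 h4
    simpa using this
  have := Algebra.QuasiFinite.eq_of_le_of_under_eq (R := V[X]) I mB hIm hund
  apply S.yB_notMem (B := B) h hh
  change algebraMap Q B y ∈ I
  rw [this]
  exact Ideal.subset_span (by simp)

end Loc
end

end Groth.Agent.Lib.Helper11.Node
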