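import Groth.Agent.Lib.Helper11.Node1

set_option autoImplicit false
set_option linter.style.haveILetI false

namespace Groth.Agent.Lib.Helper11.Node

open MvPolynomial

section Concrete
variable {V : Type*} [CommRing V] [IsDomain V] (ϖ : V) (hϖ : Prime ϖ)

include hϖ in
theorem X_not_dvd_F (i j : Fin 2) :
    ¬ (X i : MvPolynomial (Fin 2) V) ∣ X i * X j - C ϖ := by
  intro hd
  have h1 : (X i : MvPolynomial (Fin 2) V) ∣ C ϖ := by
    have := dvd_sub (Dvd.intro _ rfl : (X i : MvPolynomial (Fin 2) V) ∣ X i * X j) hd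
    simpa using this
  obtain ⟨t, ht⟩ := h1
  have := congrArg (MvPolynomial.eval (fun _ => (0 : V))) ht
  simp at this
  exact hϖ.ne_zero this

include hϖ in
theorem side_concrete (J : Ideal (MvPolynomial (Fin 2) V)) (i j : Fin 2) (hij : i ≠ j)
    (hJ : J = Ideal.span {(X i * X j - C ϖ : MvPolynomial (Fin 2) V)}) :
    Side V (MvPolynomial (Fin 2) V ⧸ J) ϖ (Ideal.Quotient.mk J (X i)) (Ideal.Quotient.mk J (X j)) := by
  subst hJ
  set F : MvPolynomial (Fin 2) V := X i * X j - C ϖ with hF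
  set J : Ideal (MvPolynomial (Fin 2) V) := Ideal.span {F} with hJ
  have hFJ : F ∈ J := Ideal.subset_span rfl
  have hxy : Ideal.Quotient.mk J (X i) * Ideal.Quotient.mk J (X j)
      = algebraMap V (MvPolynomial (Fin 2) V ⧸ J) ϖ := by
    rw [← map_mul, ← Ideal.Quotient.mk_algebraMap, MvPolynomial.algebraMap_eq, Ideal.Quotient.eq]
    exact hFJ
  have hcases : ∀ n : Fin 2, n = i ∨ n = j := by
    intro n; fin_cases n <;> fin_cases i <;> fin_cases j <;> simp_all
  -- the residue ring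
  haveI : (Ideal.span {ϖ}).IsPrime := (Ideal.span_singleton_prime hϖ.ne_zero).mpr hϖ
  let k := V ⧸ Ideal.span {ϖ}
  let ρ : MvPolynomial (Fin 2) V →+* MvPolynomial (Fin 2) k :=
    MvPolynomial.map (Ideal.Quotient.mk (Ideal.span {ϖ}))
  have hρsurj : Function.Surjective ρ := MvPolynomial.map_surjective _ Ideal.Quotient.mk_surjective
  have hρker : RingHom.ker ρ = Ideal.span {C ϖ} := by
    rw [MvPolynomial.ker_map, Ideal.mk_ker, Ideal.map_span, Set.image_singleton]
  have hρF : ρ F = X i * X j := by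
    simp [ρ, hF, Ideal.Quotient.eq_zero_iff_mem.mpr (Ideal.subset_span rfl : ϖ ∈ Ideal.span {ϖ})]
  refine ⟨hxy, ?_, ?_, ?_, ?_, ?_⟩
  · -- generation
    rw [eq_top_iff]
    rintro q -
    obtain ⟨p, rfl⟩ := Ideal.Quotient.mk_surjective q
    induction p using MvPolynomial.induction_on with
    | C a =>
      rw [← MvPolynomial.algebraMap_eq, Ideal.Quotient.mk_algebraMap]
      exact Subalgebra.algebraMap_mem _ a
    | add p q hp hq => rw [map_add]; exact add_mem hp hq
    | mul_X p n hp =>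
      rw [map_mul]
      refine mul_mem hp (Algebra.subset_adjoin ?_)
      rcases hcases n with rfl | rfl <;> simp
  · -- regular
    rw [mem_nonZeroDivisors_iff_right]
    intro z hz
    obtain ⟨q, rfl⟩ := Ideal.Quotient.mk_surjective z
    rw [← map_mul, Ideal.Quotient.eq_zero_iff_mem, hJ, Ideal.mem_span_singleton] at hz
    obtain ⟨r, hr⟩ := hz
    have hXp : Prime (X i : MvPolynomial (Fin 2) V) := MvPolynomial.X_prime
    have h1 : (X i : MvPolynomial (Fin 2) V) ∣ F * r := ⟨q, by rw [← hr, mul_comm]⟩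
    rcases hXp.dvd_or_dvd h1 with h2 | ⟨r', rfl⟩
    · exact absurd h2 (X_not_dvd_F ϖ hϖ i j)
    · have h3 : q = F * r' := by
        apply mul_right_cancel₀ (MvPolynomial.X_ne_zero i : (X i : MvPolynomial (Fin 2) V) ≠ 0)
        rw [hr]; ring
      rw [h3, Ideal.Quotient.eq_zero_iff_mem]
      exact Ideal.mul_mem_right _ _ hFJ
  · -- prime
    have hXk : (Ideal.span {(X i : MvPolynomial (Fin 2) k)}).IsPrime :=
      (Ideal.span_singleton_prime (MvPolynomial.X_ne_zero i)).mpr MvPolynomial.X_prime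
    let 𝔭 : Ideal (MvPolynomial (Fin 2) V) := Ideal.comap ρ (Ideal.span {X i})
    haveI : 𝔭.IsPrime := Ideal.comap_isPrime ρ _
    have hJ𝔭 : J ≤ 𝔭 := by
      rw [hJ, Ideal.span_singleton_le_iff_mem, Ideal.mem_comap, hρF]
      exact Ideal.mul_mem_right _ _ (Ideal.subset_span rfl)
    have hpr : (Ideal.map (Ideal.Quotient.mk J) 𝔭).IsPrime :=
      Ideal.map_isPrime_of_surjective Ideal.Quotient.mk_surjective (by rwa [Ideal.mk_ker])
    have heq : Ideal.map (Ideal.Quotient.mk J) 𝔭 = Ideal.span {Ideal.Quotient.mk J (X i)} := by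
      apply le_antisymm
      · rw [Ideal.map_le_iff_le_comap]
        intro p hp
        rw [Ideal.mem_comap, Ideal.mem_span_singleton] at hp
        obtain ⟨t, ht⟩ := hp
        obtain ⟨t', rfl⟩ := hρsurj t
        have h1 : p - X i * t' ∈ RingHom.ker ρ := by
          rw [RingHom.mem_ker, map_sub, ht, map_mul]
          simp [ρ]
        rw [hρker, Ideal.mem_span_singleton] at h1
        obtain ⟨s, hs⟩ := h1
        rw [Ideal.mem_comap]
        have h2 : p = X i * t' + C ϖ * s := by rw [← hs]; ring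
        rw [h2, map_add, map_mul, map_mul]
        have h3 : Ideal.Quotient.mk J (C ϖ) = Ideal.Quotient.mk J (X i) * Ideal.Quotient.mk J (X j) := by
          rw [hxy, ← Ideal.Quotient.mk_algebraMap, MvPolynomial.algebraMap_eq]
        rw [h3, mul_assoc]
        exact add_mem (Ideal.mul_mem_right _ _ (Ideal.subset_span rfl))
          (Ideal.mul_mem_right _ _ (Ideal.subset_span rfl))
      · rw [Ideal.span_singleton_le_iff_mem]
        apply Ideal.mem_map_of_mem
        rw [Ideal.mem_comap]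
        have : ρ (X i) = X i := by simp [ρ]
        rw [this]
        exact Ideal.subset_span rfl
    rwa [heq] at hpr
  · -- y ∉ (x)
    intro hmem
    rw [Ideal.mem_span_singleton] at hmem
    obtain ⟨t, ht⟩ := hmem
    obtain ⟨t', rfl⟩ := Ideal.Quotient.mk_surjective t
    rw [← map_mul, Ideal.Quotient.eq, hJ, Ideal.mem_span_singleton] at ht
    obtain ⟨r, hr⟩ := ht
    let ev : MvPolynomial (Fin 2) V →+* k :=
      MvPolynomial.eval₂Hom (Ideal.Quotient.mk (Ideal.span {ϖ})) (fun l => if l = i then 0 else 1)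
    have h1 := congrArg ev hr
    have hϖ0 : Ideal.Quotient.mk (Ideal.span {ϖ}) ϖ = 0 :=
      Ideal.Quotient.eq_zero_iff_mem.mpr (Ideal.subset_span rfl)
    simp [ev, hF, hij.symm, hϖ0] at h1
  · -- proper
    intro htop
    let ε : MvPolynomial (Fin 2) V →+* k :=
      MvPolynomial.eval₂Hom (Ideal.Quotient.mk (Ideal.span {ϖ})) (fun _ => 0)
    have hϖ0 : Ideal.Quotient.mk (Ideal.span {ϖ}) ϖ = 0 :=
      Ideal.Quotient.eq_zero_iff_mem.mpr (Ideal.subset_span rfl)
    have hεJ : ∀ a ∈ J, ε a = 0 := by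
      intro a ha
      rw [hJ, Ideal.mem_span_singleton] at ha
      obtain ⟨r, rfl⟩ := ha
      rw [map_mul]
      have : ε F = 0 := by simp [ε, hF, hϖ0]
      rw [this, zero_mul]
    let ε' : MvPolynomial (Fin 2) V ⧸ J →+* k := Ideal.Quotient.lift J ε hεJ
    have hle : Ideal.span {Ideal.Quotient.mk J (X i), Ideal.Quotient.mk J (X j)} ≤ RingHom.ker ε' := by
      rw [Ideal.span_le]
      rintro z (rfl | rfl) <;> simp [ε', ε]
    have h1 : (1 : MvPolynomial (Fin 2) V ⧸ J) ∈ RingHom.ker ε' := hle (htop ▸ Submodule.mem_top)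
    rw [RingHom.mem_ker, map_one] at h1
    exact one_ne_zero h1

end Concrete

theorem exists_thetaQ {V : Type*} [CommRing V] (ϖ : V) :
    ∃ θ : Derivation V
        (MvPolynomial (Fin 2) V ⧸ Ideal.span {(X 0 * X 1 - C ϖ : MvPolynomial (Fin 2) V)})
        (MvPolynomial (Fin 2) V ⧸ Ideal.span {(X 0 * X 1 - C ϖ : MvPolynomial (Fin 2) V)}),
      θ (Ideal.Quotient.mk _ (X 0)) = Ideal.Quotient.mk _ (X 0) ∧
      θ (Ideal.Quotient.mk _ (X 1)) = - Ideal.Quotient.mk _ (X 1) := by
  set F : MvPolynomial (Fin 2) V := X 0 * X 1 - C ϖ with hF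
  set J : Ideal (MvPolynomial (Fin 2) V) := Ideal.span {F} with hJ
  let θ₀ : Derivation V (MvPolynomial (Fin 2) V) (MvPolynomial (Fin 2) V) :=
    MvPolynomial.mkDerivation V (fun l => if l = 0 then X 0 else - X 1)
  have h0 : θ₀ (X 0) = X 0 := by simp [θ₀, mkDerivation_X]
  have h1 : θ₀ (X 1) = - X 1 := by simp [θ₀, mkDerivation_X]
  have hF0 : θ₀ F = 0 := by
    rw [hF, map_sub, Derivation.leibniz, h0, h1, MvPolynomial.derivation_C, smul_eq_mul,
      smul_eq_mul]
    ring
  have hd : ∀ p, Ideal.Quotient.mkₐ V J p = 0 → Ideal.Quotient.mkₐ V J (θ₀ p) = 0 := by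
    intro p hp
    rw [Ideal.Quotient.mkₐ_eq_mk, Ideal.Quotient.eq_zero_iff_mem] at hp ⊢
    obtain ⟨r, rfl⟩ := Ideal.mem_span_singleton.mp hp
    rw [Derivation.leibniz, hF0, smul_zero, add_zero, smul_eq_mul]
    exact Ideal.mul_mem_right _ _ (Ideal.subset_span rfl)
  refine ⟨Derivation.liftOfSurjective (f := Ideal.Quotient.mkₐ V J)
    (Ideal.Quotient.mkₐ_surjective V J) hd, ?_, ?_⟩
  · have := Derivation.liftOfSurjective_apply (f := Ideal.Quotient.mkₐ V J)
      (Ideal.Quotient.mkₐ_surjective V J) hd (X 0)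
    rw [h0] at this
    exact this
  · have := Derivation.liftOfSurjective_apply (f := Ideal.Quotient.mkₐ V J)
      (Ideal.Quotient.mkₐ_surjective V J) hd (X 1)
    rw [h1, map_neg] at this
    exact this

universe u

set_option maxHeartbeats 1600000 in
theorem main (V : Type u) [CommRing V] [IsDomain V] [IsDiscreteValuationRing V]
    (ϖ : V) (hϖ : Irreducible ϖ)
    (h : (MvPolynomial (Fin 2) V ⧸ Ideal.span {(MvPolynomial.X 0 * MvPolynomial.X 1 - MvPolynomial.C ϖ : MvPolynomial (Fin 2) V)}))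
    (hh : h ∉ Ideal.span ({(Ideal.Quotient.mk (Ideal.span {(MvPolynomial.X 0 * MvPolynomial.X 1 - MvPolynomial.C ϖ : MvPolynomial (Fin 2) V)}) (MvPolynomial.X 0 : MvPolynomial (Fin 2) V)), (Ideal.Quotient.mk (Ideal.span {(MvPolynomial.X 0 * MvPolynomial.X 1 - MvPolynomial.C ϖ : MvPolynomial (Fin 2) V)}) (MvPolynomial.X 1 : MvPolynomial (Fin 2) V))} : Set (MvPolynomial (Fin 2) V ⧸ Ideal.span {(MvPolynomial.X 0 * MvPolynomial.X 1 - MvPolynomial.C ϖ : MvPolynomial (Fin 2) V)})))
    (f : Localization.Away h)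
    (hf : ((algebraMap (Localization.Away h)
        (Localization.Away (algebraMap V (Localization.Away h) ϖ))).comp
          (Polynomial.aeval f : Polynomial V →ₐ[V] Localization.Away h).toRingHom).Etale) :
    (KaehlerDifferential.D V (Localization.Away h ⧸ Ideal.span
        ({algebraMap (MvPolynomial (Fin 2) V ⧸ Ideal.span {(MvPolynomial.X 0 * MvPolynomial.X 1 - MvPolynomial.C ϖ : MvPolynomial (Fin 2) V)}) (Localization.Away h) (Ideal.Quotient.mk (Ideal.span {(MvPolynomial.X 0 * MvPolynomial.X 1 - MvPolynomial.C ϖ : MvPolynomial (Fin 2) V)}) (MvPolynomial.X 0 : MvPolynomial (Fin 2) V))} : Set (Localization.Away h)))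
        (Ideal.Quotient.mk _ f) = 0 ∨
     KaehlerDifferential.D V (Localization.Away h ⧸ Ideal.span
        ({algebraMap (MvPolynomial (Fin 2) V ⧸ Ideal.span {(MvPolynomial.X 0 * MvPolynomial.X 1 - MvPolynomial.C ϖ : MvPolynomial (Fin 2) V)}) (Localization.Away h) (Ideal.Quotient.mk (Ideal.span {(MvPolynomial.X 0 * MvPolynomial.X 1 - MvPolynomial.C ϖ : MvPolynomial (Fin 2) V)}) (MvPolynomial.X 1 : MvPolynomial (Fin 2) V))} : Set (Localization.Away h)))
        (Ideal.Quotient.mk _ f) = 0) ∧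
    (CharZero (IsLocalRing.ResidueField V) →
      ¬ (Polynomial.aeval f : Polynomial V →ₐ[V] Localization.Away h).toRingHom.QuasiFinite) := by
  have hprime : Prime ϖ := hϖ.prime
  have hV : ∀ v : V, v ∉ Ideal.span {ϖ} → IsUnit v := by
    intro v hv
    rw [← hϖ.maximalIdeal_eq] at hv
    exact IsLocalRing.notMem_maximalIdeal.mp hv
  have S := side_concrete ϖ hprime _ 0 1 (by decide) rfl
  have S' := side_concrete ϖ hprime
    (Ideal.span {(MvPolynomial.X 0 * MvPolynomial.X 1 - MvPolynomial.C ϖ : MvPolynomial (Fin 2) V)})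
    1 0 (by decide) (by rw [mul_comm])
  have hh' : h ∉ Ideal.span ({(Ideal.Quotient.mk (Ideal.span {(MvPolynomial.X 0 * MvPolynomial.X 1 - MvPolynomial.C ϖ : MvPolynomial (Fin 2) V)}) (MvPolynomial.X 1 : MvPolynomial (Fin 2) V)), (Ideal.Quotient.mk (Ideal.span {(MvPolynomial.X 0 * MvPolynomial.X 1 - MvPolynomial.C ϖ : MvPolynomial (Fin 2) V)}) (MvPolynomial.X 0 : MvPolynomial (Fin 2) V))} : Set (MvPolynomial (Fin 2) V ⧸ Ideal.span {(MvPolynomial.X 0 * MvPolynomial.X 1 - MvPolynomial.C ϖ : MvPolynomial (Fin 2) V)})) := by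
    rwa [Set.pair_comm]
  obtain ⟨θQ, hθ0, hθ1⟩ := exists_thetaQ ϖ
  haveI : Algebra.FormallyEtale
      (MvPolynomial (Fin 2) V ⧸ Ideal.span {(MvPolynomial.X 0 * MvPolynomial.X 1 - MvPolynomial.C ϖ : MvPolynomial (Fin 2) V)})
      (Localization.Away h) :=
    Algebra.FormallyEtale.of_isLocalization (Rₘ := Localization.Away h) (Submonoid.powers h)
  obtain ⟨θB, hθB⟩ := exists_derivation_extend V _ (Localization.Away h) θQ
  have hθx : θB (algebraMap _ (Localization.Away h) (Ideal.Quotient.mk (Ideal.span {(MvPolynomial.X 0 * MvPolynomial.X 1 - MvPolynomial.C ϖ : MvPolynomial (Fin 2) V)}) (MvPolynomial.X 0 : MvPolynomial (Fin 2) V)))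
      = algebraMap _ (Localization.Away h) (Ideal.Quotient.mk (Ideal.span {(MvPolynomial.X 0 * MvPolynomial.X 1 - MvPolynomial.C ϖ : MvPolynomial (Fin 2) V)}) (MvPolynomial.X 0 : MvPolynomial (Fin 2) V)) := by
    rw [hθB, hθ0]
  have hθy : θB (algebraMap _ (Localization.Away h) (Ideal.Quotient.mk (Ideal.span {(MvPolynomial.X 0 * MvPolynomial.X 1 - MvPolynomial.C ϖ : MvPolynomial (Fin 2) V)}) (MvPolynomial.X 1 : MvPolynomial (Fin 2) V)))
      = - algebraMap _ (Localization.Away h) (Ideal.Quotient.mk (Ideal.span {(MvPolynomial.X 0 * MvPolynomial.X 1 - MvPolynomial.C ϖ : MvPolynomial (Fin 2) V)}) (MvPolynomial.X 1 : MvPolynomial (Fin 2) V)) := by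
    rw [hθB, hθ1, map_neg]
  haveI : IsNoetherianRing (Localization.Away h) :=
    IsLocalization.isNoetherianRing (Submonoid.powers h) _ inferInstance
  have hn : CharZero (IsLocalRing.ResidueField V) → ∀ n : ℕ, n ≠ 0 → IsUnit (n : V) := by
    intro hc n hn0
    rw [← IsLocalRing.notMem_maximalIdeal, ← IsLocalRing.residue_eq_zero_iff, map_natCast]
    exact_mod_cast hn0
  rcases S.mem_or_mem S' hV h hh θB hθx hθy f hf.formallyUnramified with hmem | hmem
  · exact ⟨Or.inl (S.D_eq_zero h hh θB hθx hθy f hmem),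
      fun hc => S.not_quasiFinite hV (hn hc) h hh θB hθx hθy f hmem⟩
  · have hθx' : (-θB) (algebraMap _ (Localization.Away h) (Ideal.Quotient.mk (Ideal.span {(MvPolynomial.X 0 * MvPolynomial.X 1 - MvPolynomial.C ϖ : MvPolynomial (Fin 2) V)}) (MvPolynomial.X 1 : MvPolynomial (Fin 2) V)))
        = algebraMap _ (Localization.Away h) (Ideal.Quotient.mk (Ideal.span {(MvPolynomial.X 0 * MvPolynomial.X 1 - MvPolynomial.C ϖ : MvPolynomial (Fin 2) V)}) (MvPolynomial.X 1 : MvPolynomial (Fin 2) V)) := by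
      rw [Derivation.neg_apply, hθy, neg_neg]
    have hθy' : (-θB) (algebraMap _ (Localization.Away h) (Ideal.Quotient.mk (Ideal.span {(MvPolynomial.X 0 * MvPolynomial.X 1 - MvPolynomial.C ϖ : MvPolynomial (Fin 2) V)}) (MvPolynomial.X 0 : MvPolynomial (Fin 2) V)))
        = - algebraMap _ (Localization.Away h) (Ideal.Quotient.mk (Ideal.span {(MvPolynomial.X 0 * MvPolynomial.X 1 - MvPolynomial.C ϖ : MvPolynomial (Fin 2) V)}) (MvPolynomial.X 0 : MvPolynomial (Fin 2) V)) := by
      rw [Derivation.neg_apply, hθx]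
    have hmem' : (-θB) f ∈ Ideal.span {algebraMap _ (Localization.Away h) (Ideal.Quotient.mk (Ideal.span {(MvPolynomial.X 0 * MvPolynomial.X 1 - MvPolynomial.C ϖ : MvPolynomial (Fin 2) V)}) (MvPolynomial.X 1 : MvPolynomial (Fin 2) V))} := by
      rw [Derivation.neg_apply]
      exact neg_mem hmem
    exact ⟨Or.inr (S'.D_eq_zero h hh' (-θB) hθx' hθy' f hmem'),
      fun hc => S'.not_quasiFinite hV (hn hc) h hh' (-θB) hθx' hθy' f hmem'⟩

end Groth.Agent.Lib.Helper11.Node
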