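import Mathlib

set_option autoImplicit false
universe u
open TensorProduct

namespace Groth.Agent.Lib.Helper11.NormDet

section toolkit
variable {A : Type*} [CommRing A] {X Y : Type*} [AddCommGroup X] [Module A X] [AddCommGroup Y] [Module A Y]

theorem eq_zero_of_forall_prime (y : Y)
    (h : ∀ p : Ideal A, p.IsPrime → ∃ s : A, s ∉ p ∧ s • y = 0) : y = 0 := by
  by_contra hy
  let I : Ideal A := LinearMap.ker (LinearMap.toSpanSingleton A Y y)
  have hI : I ≠ ⊤ := by
    intro h1
    have : (1 : A) ∈ I := h1 ▸ Submodule.mem_top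
    simp [I, LinearMap.mem_ker] at this
    exact hy this
  obtain ⟨m, hm, hIm⟩ := Ideal.exists_le_maximal I hI
  obtain ⟨s, hs, hsy⟩ := h m hm.isPrime
  exact hs (hIm (by simpa [I, LinearMap.mem_ker] using hsy))

theorem eq_top_of_forall_prime (X' : Submodule A X)
    (h : ∀ p : Ideal A, p.IsPrime → ∃ s : A, s ∉ p ∧ ∀ x : X, s • x ∈ X') : X' = ⊤ := by
  by_contra hX
  let I : Ideal A := X'.colon (⊤ : Submodule A X)
  have hI : I ≠ ⊤ := by
    intro h1
    have : (1 : A) ∈ I := h1 ▸ Submodule.mem_top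
    rw [Submodule.mem_colon] at this
    apply hX
    rw [eq_top_iff]
    intro x _
    simpa using this x Submodule.mem_top
  obtain ⟨m, hm, hIm⟩ := Ideal.exists_le_maximal I hI
  obtain ⟨s, hs, hsx⟩ := h m hm.isPrime
  exact hs (hIm (by rw [Submodule.mem_colon]; intro x _; exact hsx x))

theorem exists_linearMap_of_local {G : Type*} (g : G → X) (t : G → Y)
    (hg : Submodule.span A (Set.range g) = ⊤)
    (h : ∀ p : Ideal A, p.IsPrime → ∃ s : A, s ∉ p ∧ ∃ Φ : X →ₗ[A] Y, ∀ i, Φ (g i) = s • t i) :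
    ∃ φ : X →ₗ[A] Y, ∀ i, φ (g i) = t i := by
  classical
  let ψX : (G →₀ A) →ₗ[A] X := Finsupp.linearCombination A g
  let ψY : (G →₀ A) →ₗ[A] Y := Finsupp.linearCombination A t
  have hsurj : Function.Surjective ψX := by
    rw [← LinearMap.range_eq_top, Finsupp.range_linearCombination, hg]
  have hker : LinearMap.ker ψX ≤ LinearMap.ker ψY := by
    intro l hl
    rw [LinearMap.mem_ker] at hl ⊢
    apply eq_zero_of_forall_prime (A := A)
    intro p hp
    obtain ⟨s, hs, Φ, hΦ⟩ := h p hp
    refine ⟨s, hs, ?_⟩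
    have : Φ ∘ₗ ψX = s • ψY := by
      apply Finsupp.lhom_ext'
      intro i
      apply LinearMap.ext_ring
      simp [ψX, ψY, hΦ]
    have h2 := LinearMap.congr_fun this l
    simp only [LinearMap.comp_apply, hl, map_zero, LinearMap.smul_apply] at h2
    exact h2.symm
  refine ⟨((LinearMap.ker ψX).liftQ ψY hker) ∘ₗ (ψX.quotKerEquivOfSurjective hsurj).symm.toLinearMap, ?_⟩
  intro i
  have : g i = ψX (Finsupp.single i 1) := by simp [ψX]
  rw [this, LinearMap.comp_apply]
  have h3 : (ψX.quotKerEquivOfSurjective hsurj).symm (ψX (Finsupp.single i 1))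
      = Submodule.Quotient.mk (Finsupp.single i 1) := by
    rw [LinearEquiv.symm_apply_eq]
    rfl
  rw [LinearEquiv.coe_coe, h3, Submodule.liftQ_apply]
  simp [ψY]

theorem exists_linearEquiv_of_local {G : Type*} (g : G → X) (t : G → Y)
    (hg : Submodule.span A (Set.range g) = ⊤) (ht : Submodule.span A (Set.range t) = ⊤)
    (h : ∀ p : Ideal A, p.IsPrime → ∃ s : A, s ∉ p ∧ ∃ Φ : X →ₗ[A] Y, ∀ i, Φ (g i) = s • t i)
    (h' : ∀ p : Ideal A, p.IsPrime → ∃ s : A, s ∉ p ∧ ∃ Ψ : Y →ₗ[A] X, ∀ i, Ψ (t i) = s • g i) :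
    ∃ φ : X ≃ₗ[A] Y, ∀ i, φ (g i) = t i := by
  obtain ⟨φ, hφ⟩ := exists_linearMap_of_local g t hg h
  obtain ⟨ψ, hψ⟩ := exists_linearMap_of_local t g ht h'
  have h1 : ψ ∘ₗ φ = LinearMap.id := by
    apply LinearMap.ext_on_range hg
    intro i
    simp [hφ, hψ]
  have h2 : φ ∘ₗ ψ = LinearMap.id := by
    apply LinearMap.ext_on_range ht
    intro i
    simp [hφ, hψ]
  exact ⟨LinearEquiv.ofLinear φ ψ h2 h1, hφ⟩

end toolkit

section frame

theorem finite_maximalSpectrum_of_finite (A : Type u) [CommRing A] [IsLocalRing A] (C : Type u) [CommRing C]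
    [Algebra A C] [Module.Finite A C] : Finite (MaximalSpectrum C) := by
  have hfin := Algebra.QuasiFinite.finite_primesOver (R := A) (S := C) (IsLocalRing.maximalIdeal A)
  have := hfin.to_subtype
  have hcm : ∀ m : MaximalSpectrum C, m.asIdeal.comap (algebraMap A C) = IsLocalRing.maximalIdeal A := by
    intro m
    have := m.isMaximal
    exact IsLocalRing.eq_maximalIdeal (Ideal.isMaximal_comap_of_isIntegral_of_isMaximal _)
  refine Finite.of_injective
    (fun m : MaximalSpectrum C => (⟨m.asIdeal, m.isMaximal.isPrime, ⟨(hcm m).symm⟩⟩ :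
      (IsLocalRing.maximalIdeal A).primesOver C)) ?_
  intro m m' h
  ext1
  exact congrArg Subtype.val h

theorem finrank_quotient_tensor_eq_rankAtStalk (R : Type u) [CommRing R] (M : Type u) [AddCommGroup M] [Module R M]
    [Module.Finite R M] [Module.Flat R M] (P : Ideal R) [hP : P.IsMaximal] :
    Module.finrank (R ⧸ P) ((R ⧸ P) ⊗[R] M) = Module.rankAtStalk M ⟨P, hP.isPrime⟩ := by
  let _ := Ideal.Quotient.field P
  rw [Module.rankAtStalk_eq]
  let k := P.ResidueField
  let e : k ⊗[R ⧸ P] ((R ⧸ P) ⊗[R] M) ≃ₗ[k] k ⊗[R] M :=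
    AlgebraTensorModule.cancelBaseChange _ _ _ _ _
  show _ = Module.finrank k (k ⊗[R] M)
  rw [← e.finrank_eq]
  exact (Module.finrank_baseChange (R := k) (S := R ⧸ P) (M' := (R ⧸ P) ⊗[R] M)).symm

theorem exists_local_frame (A B : Type u) [CommRing A] [CommRing B] [Algebra A B] [Module.Finite A B]
    (M : Type u) [AddCommGroup M] [Module B M] [Module.Finite B M] [Module.Projective B M]
    (k : ℕ) (hM : ∀ q : PrimeSpectrum B, Module.finrank (Localization.AtPrime q.asIdeal)
      (LocalizedModule q.asIdeal.primeCompl M) = k)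
    (p : Ideal A) [p.IsPrime] :
    ∃ (e : Fin k → M) (v : M →ₗ[B] (Fin k →₀ B)) (s : A), s ∉ p ∧
      (∀ x : Fin k →₀ B, v (Finsupp.linearCombination B e x) = algebraMap A B s • x) ∧
      ∀ m : M, Finsupp.linearCombination B e (v m) = algebraMap A B s • m := by
  classical
  have : Module.FinitePresentation B M := Module.finitePresentation_of_projective B M
  let S : Submonoid B := Algebra.algebraMapSubmonoid B p.primeCompl
  let Bp := Localization S
  let Ap := Localization.AtPrime p
  have : Module.Finite Ap Bp := Module.Finite.of_isLocalization A B p.primeCompl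
  have : Finite (MaximalSpectrum Bp) := finite_maximalSpectrum_of_finite Ap Bp
  let M' := Bp ⊗[B] M
  have rk : ∀ P : MaximalSpectrum Bp, Module.finrank (Bp ⧸ P.1) ((Bp ⧸ P.1) ⊗[Bp] M') = k := by
    intro P
    have := P.isMaximal
    rw [finrank_quotient_tensor_eq_rankAtStalk, Module.rankAtStalk_baseChange]
    exact hM _
  obtain ⟨b⟩ := Module.nonempty_basis_of_flat_of_finrank_eq Bp M' k rk
  let f : M →ₗ[B] M' := TensorProduct.mk B Bp M 1
  let ι : (Fin k →₀ B) →ₗ[B] (Fin k →₀ Bp) := Finsupp.mapRange.linearMap (Algebra.linearMap B Bp)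
  let u' : (Fin k →₀ B) →ₗ[B] M' := (b.repr.symm.toLinearMap.restrictScalars B) ∘ₗ ι
  obtain ⟨u, σ, hu⟩ := Module.FinitePresentation.exists_lift_of_isLocalizedModule S f u'
  let ρ : M →ₗ[B] (Fin k →₀ Bp) := (b.repr.toLinearMap.restrictScalars B) ∘ₗ f
  obtain ⟨v, σ', hv⟩ := Module.FinitePresentation.exists_lift_of_isLocalizedModule S ι ρ
  have hbs : ∀ (c : B) (y : Fin k →₀ Bp), b.repr.symm (c • y) = c • b.repr.symm y := fun c y =>
    (b.repr.symm.toLinearMap.restrictScalars B).map_smul c y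
  have hbr : ∀ (c : B) (y : M'), b.repr (c • y) = c • b.repr y := fun c y =>
    (b.repr.toLinearMap.restrictScalars B).map_smul c y
  have h1 : ι ∘ₗ (v ∘ₗ u) = ι ∘ₗ ((σ' * σ) • LinearMap.id) := by
    refine LinearMap.ext fun x => ?_
    have hux : f (u x) = (σ : B) • b.repr.symm (ι x) := LinearMap.congr_fun hu x
    have hvx : ι (v (u x)) = (σ' : B) • b.repr (f (u x)) := LinearMap.congr_fun hv (u x)
    simp only [LinearMap.comp_apply, LinearMap.smul_apply, LinearMap.id_apply]
    rw [hvx, hux, hbr, LinearEquiv.apply_symm_apply, Submonoid.smul_def, map_smul, Submonoid.coe_mul,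
      mul_smul]
  have h2 : f ∘ₗ (u ∘ₗ v) = f ∘ₗ ((σ * σ') • LinearMap.id) := by
    refine LinearMap.ext fun x => ?_
    have hvx : ι (v x) = (σ' : B) • b.repr (f x) := LinearMap.congr_fun hv x
    have hux : f (u (v x)) = (σ : B) • b.repr.symm (ι (v x)) := LinearMap.congr_fun hu (v x)
    simp only [LinearMap.comp_apply, LinearMap.smul_apply, LinearMap.id_apply]
    rw [hux, hvx, hbs, LinearEquiv.symm_apply_apply, Submonoid.smul_def, map_smul, Submonoid.coe_mul,
      mul_smul]
  obtain ⟨τ, hτ⟩ := Module.Finite.exists_smul_of_comp_eq_of_isLocalizedModule S ι _ _ h1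
  obtain ⟨τ', hτ'⟩ := Module.Finite.exists_smul_of_comp_eq_of_isLocalizedModule S f _ _ h2
  obtain ⟨s, hs, hsθ⟩ : ∃ s ∈ p.primeCompl, algebraMap A B s = ((τ * τ' * σ' * σ : S) : B) :=
    (τ * τ' * σ' * σ).2
  refine ⟨fun i => u (Finsupp.single i 1), ((τ * τ' : S) : B) • v, s, hs, ?_, ?_⟩
  · intro x
    have hlc : Finsupp.linearCombination B (fun i => u (Finsupp.single i 1)) = u := by
      apply Finsupp.lhom_ext'
      intro i
      apply LinearMap.ext_ring
      simp
    rw [hlc, hsθ]
    have := LinearMap.congr_fun hτ x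
    simp only [LinearMap.smul_apply, LinearMap.comp_apply, LinearMap.id_apply] at this
    simp only [LinearMap.smul_apply, Submonoid.coe_mul, mul_smul]
    rw [smul_comm (τ : B) (τ' : B), ← Submonoid.smul_def τ, this]
    simp only [Submonoid.smul_def, Submonoid.coe_mul, mul_smul]
    rw [smul_comm (τ' : B) (τ : B)]
  · intro m
    have hlc : Finsupp.linearCombination B (fun i => u (Finsupp.single i 1)) = u := by
      apply Finsupp.lhom_ext'
      intro i
      apply LinearMap.ext_ring
      simp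
    rw [hlc, hsθ]
    have := LinearMap.congr_fun hτ' m
    simp only [LinearMap.smul_apply, LinearMap.comp_apply, LinearMap.id_apply] at this
    simp only [LinearMap.smul_apply, Submonoid.coe_mul, mul_smul, map_smul]
    rw [← Submonoid.smul_def τ', this]
    simp only [Submonoid.smul_def, Submonoid.coe_mul, mul_smul]
    rw [smul_comm (σ : B) (σ' : B)]

end frame

end Groth.Agent.Lib.Helper11.NormDet
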