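import Groth.Agent.Lib.Helper11.Norm1

set_option autoImplicit false
universe u
open TensorProduct

namespace Groth.Agent.Lib.Helper11.NormDet

section ext
variable {A : Type*} [CommRing A]

/-- top exterior power of `Aⁿ`: swap on the tensor square is trivial -/
theorem tmul_comm_free (n : ℕ) (ξ η : ⋀[A]^n (Fin n → A)) : ξ ⊗ₜ[A] η = η ⊗ₜ[A] ξ := by
  rcases subsingleton_or_nontrivial A with hA | hA
  · have := Module.subsingleton A ((⋀[A]^n (Fin n → A)) ⊗[A] (⋀[A]^n (Fin n → A)))
    exact Subsingleton.elim _ _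
  have h1 : Module.finrank A (⋀[A]^n (Fin n → A)) = 1 := by
    rw [exteriorPower.finrank_eq]
    simp
  let b := Module.finBasisOfFinrankEq A _ h1
  have hx : ∀ x : ⋀[A]^n (Fin n → A), x = (b.repr x 0) • b 0 := by
    intro x
    conv_lhs => rw [← b.sum_repr x]
    simp
  rw [hx ξ, hx η, TensorProduct.smul_tmul_smul, TensorProduct.smul_tmul_smul, mul_comm]

variable {B : Type*} [AddCommGroup B] [Module A B]

theorem tmul_comm_exteriorPower (n : ℕ)
    (hloc : ∀ p : Ideal A, p.IsPrime → ∃ (β : Fin n → B) (s : A), s ∉ p ∧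
      ∀ b : B, s • b ∈ Submodule.span A (Set.range β))
    (ξ η : ⋀[A]^n B) : ξ ⊗ₜ[A] η = η ⊗ₜ[A] ξ := by
  -- reduce to generators
  have hgen : ∀ x y : Fin n → B, exteriorPower.ιMulti A n x ⊗ₜ[A] exteriorPower.ιMulti A n y
      = exteriorPower.ιMulti A n y ⊗ₜ[A] exteriorPower.ιMulti A n x := by
    intro x y
    rw [← sub_eq_zero]
    apply eq_zero_of_forall_prime (A := A)
    intro p hp
    obtain ⟨β, s, hs, hβ⟩ := hloc p hp
    refine ⟨s ^ n * s ^ n, fun h => hs (hp.mem_of_pow_mem _ ((hp.mem_or_mem h).elim id id)), ?_⟩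
    let ℓ : (Fin n → A) →ₗ[A] B := Fintype.linearCombination A β
    have hlift : ∀ b : B, ∃ c : Fin n → A, ℓ c = s • b := by
      intro b
      obtain ⟨c, hc⟩ := (Submodule.mem_span_range_iff_exists_fun A).mp (hβ b)
      exact ⟨c, by simpa [ℓ, Fintype.linearCombination_apply] using hc⟩
    choose lift hlift using hlift
    have hpow : ∀ z : Fin n → B, s ^ n • exteriorPower.ιMulti A n z
        = exteriorPower.map n ℓ (exteriorPower.ιMulti A n (fun i => lift (z i))) := by
      intro z
      rw [exteriorPower.map_apply_ιMulti]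
      have : (ℓ ∘ fun i => lift (z i)) = fun i => s • z i := by
        funext i
        exact hlift (z i)
      rw [this, AlternatingMap.map_smul_univ]
      simp
    rw [smul_sub, ← TensorProduct.smul_tmul_smul, ← TensorProduct.smul_tmul_smul, hpow x, hpow y,
      ← TensorProduct.map_tmul, ← TensorProduct.map_tmul, tmul_comm_free, sub_self]
  have hgen2 : ∀ (x : Fin n → B) (η : ⋀[A]^n B), exteriorPower.ιMulti A n x ⊗ₜ[A] η
      = η ⊗ₜ[A] exteriorPower.ιMulti A n x := by
    intro x η
    have hη : η ∈ Submodule.span A (Set.range (exteriorPower.ιMulti A n (M := B))) := by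
      rw [exteriorPower.ιMulti_span]; trivial
    induction hη using Submodule.span_induction with
    | mem _ h => obtain ⟨y, rfl⟩ := h; exact hgen x y
    | zero => simp
    | add a b _ _ ha hb => rw [TensorProduct.tmul_add, TensorProduct.add_tmul, ha, hb]
    | smul c a _ ha => rw [TensorProduct.tmul_smul, ha, TensorProduct.smul_tmul']
  have hξ : ξ ∈ Submodule.span A (Set.range (exteriorPower.ιMulti A n (M := B))) := by
    rw [exteriorPower.ιMulti_span]; trivial
  induction hξ using Submodule.span_induction with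
  | mem _ h => obtain ⟨x, rfl⟩ := h; exact hgen2 x η
  | zero => simp
  | add a b _ _ ha hb => rw [TensorProduct.tmul_add, TensorProduct.add_tmul, ha, hb]
  | smul c a _ ha => rw [← TensorProduct.smul_tmul', ha, ← TensorProduct.tmul_smul]

theorem map_tmul_comm (n : ℕ)
    (hloc : ∀ p : Ideal A, p.IsPrime → ∃ (β : Fin n → B) (s : A), s ∉ p ∧
      ∀ b : B, s • b ∈ Submodule.span A (Set.range β))
    (T : ⋀[A]^n B →ₗ[A] ⋀[A]^n B) (ξ η : ⋀[A]^n B) : T ξ ⊗ₜ[A] η = ξ ⊗ₜ[A] T η := by
  rw [tmul_comm_exteriorPower n hloc (T ξ) η]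
  have : ξ ⊗ₜ[A] T η = TensorProduct.map LinearMap.id T (ξ ⊗ₜ[A] η) := by simp
  rw [this, tmul_comm_exteriorPower n hloc ξ η]
  simp

end ext

end Groth.Agent.Lib.Helper11.NormDet
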