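import Groth.Agent.Lib.Helper11.Norm1
import Groth.Agent.Lib.Helper11.Norm2

set_option autoImplicit false
universe u
open TensorProduct

namespace Groth.Agent.Lib.Helper11.NormDet

section gens
variable {A B : Type u} [CommRing A] [CommRing B] [Algebra A B]

/-- multiplication by `x : B` on a `B`-module, as an `A`-linear map -/
noncomputable abbrev lam (P : Type*) [AddCommGroup P] [Module B P] [Module A P] [IsScalarTower A B P] (x : B) :
    P →ₗ[A] P := (LinearMap.lsmul B P x).restrictScalars A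

/-- `b ↦ b • e` as an `A`-linear map -/
noncomputable abbrev uu {P : Type*} [AddCommGroup P] [Module B P] [Module A P] [IsScalarTower A B P] (e : P) :
    B →ₗ[A] P := (LinearMap.toSpanSingleton B P e).restrictScalars A

theorem exists_local_gen [Module.Finite A B]
    (M : Type u) [AddCommGroup M] [Module B M] [Module A M] [IsScalarTower A B M]
    [Module.Finite B M] [Module.Projective B M]
    (hM : ∀ q : PrimeSpectrum B, Module.finrank (Localization.AtPrime q.asIdeal)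
      (LocalizedModule q.asIdeal.primeCompl M) = 1)
    (p : Ideal A) [p.IsPrime] :
    ∃ (e : M) (v : M →ₗ[B] B) (s : A), s ∉ p ∧ ∀ m : M, v m • e = s • m := by
  obtain ⟨e, v, s, hs, -, h2⟩ := exists_local_frame A B M 1 hM p
  refine ⟨e 0, (Finsupp.lapply 0) ∘ₗ v, s, hs, ?_⟩
  intro m
  have := h2 m
  rw [Finsupp.linearCombination_unique, algebraMap_smul] at this
  exact this

theorem exists_local_span [Module.Finite A B] [Module.Projective A B] (n : ℕ)
    (hn : ∀ q : PrimeSpectrum A, Module.finrank (Localization.AtPrime q.asIdeal)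
      (LocalizedModule q.asIdeal.primeCompl B) = n) :
    ∀ p : Ideal A, p.IsPrime → ∃ (β : Fin n → B) (s : A), s ∉ p ∧
      ∀ b : B, s • b ∈ Submodule.span A (Set.range β) := by
  intro p hp
  obtain ⟨e, v, s, hs, -, h2⟩ := exists_local_frame A A B n hn p
  refine ⟨e, s, hs, fun b => ?_⟩
  have := h2 b
  rw [Algebra.algebraMap_self, RingHom.id_apply] at this
  rw [← this]
  exact Finsupp.mem_span_range_iff_exists_finsupp.mpr ⟨v b, rfl⟩

end gens

section main18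
variable (A B : Type u) [CommRing A] [CommRing B] [Algebra A B] [Module.Finite A B] [Module.Projective A B]
    (n : ℕ) (hn : ∀ q : PrimeSpectrum A, Module.finrank (Localization.AtPrime q.asIdeal) (LocalizedModule q.asIdeal.primeCompl B) = n)
    (M₁ M₂ : Type u) [AddCommGroup M₁] [Module B M₁] [Module A M₁] [IsScalarTower A B M₁]
    [AddCommGroup M₂] [Module B M₂] [Module A M₂] [IsScalarTower A B M₂]
    [Module.Finite B M₁] [Module.Projective B M₁] [Module.Finite B M₂] [Module.Projective B M₂]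
    (h₁ : ∀ q : PrimeSpectrum B, Module.finrank (Localization.AtPrime q.asIdeal) (LocalizedModule q.asIdeal.primeCompl M₁) = 1)
    (h₂ : ∀ q : PrimeSpectrum B, Module.finrank (Localization.AtPrime q.asIdeal) (LocalizedModule q.asIdeal.primeCompl M₂) = 1)

/-- generators on the `X` side -/
noncomputable def gX (i : M₁ × M₂ × (Fin n → B) × (Fin n → B)) : (⋀[A]^n M₁) ⊗[A] (⋀[A]^n M₂) :=
  exteriorPower.ιMulti A n (fun j => i.2.2.1 j • i.1) ⊗ₜ[A] exteriorPower.ιMulti A n (fun j => i.2.2.2 j • i.2.1)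

/-- generators on the `Y` side -/
noncomputable def gY (i : M₁ × M₂ × (Fin n → B) × (Fin n → B)) :
    (⋀[A]^n B) ⊗[A] (⋀[A]^n (M₁ ⊗[B] M₂)) :=
  exteriorPower.ιMulti A n i.2.2.1 ⊗ₜ[A] exteriorPower.ιMulti A n (fun j => i.2.2.2 j • (i.1 ⊗ₜ[B] i.2.1))

variable {A B n M₁ M₂}

omit [Module.Finite A B] [Module.Projective A B] [Module.Finite B M₁] [Module.Projective B M₁]
  [Module.Finite B M₂] [Module.Projective B M₂] in
theorem ιMulti_smul_eq {P : Type*} [AddCommGroup P] [Module B P] [Module A P] [IsScalarTower A B P]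
    (e : P) (b : Fin n → B) :
    exteriorPower.ιMulti A n (fun j => b j • e) = exteriorPower.map n (uu (A := A) e) (exteriorPower.ιMulti A n b) := by
  rw [exteriorPower.map_apply_ιMulti]
  rfl

omit [Module.Finite A B] [Module.Projective A B] [Module.Finite B M₁] [Module.Projective B M₁]
  [Module.Finite B M₂] [Module.Projective B M₂] in
theorem ιMulti_mul_eq (x : B) (b : Fin n → B) :
    exteriorPower.ιMulti A n (fun j => x * b j) = exteriorPower.map n (lam (A := A) B x) (exteriorPower.ιMulti A n b) := by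
  rw [exteriorPower.map_apply_ιMulti]
  rfl

section local_data
variable (e₁ : M₁) (v₁ : M₁ →ₗ[B] B) (s₁ : A) (hv₁ : ∀ m : M₁, v₁ m • e₁ = s₁ • m)
  (e₂ : M₂) (v₂ : M₂ →ₗ[B] B) (s₂ : A) (hv₂ : ∀ m : M₂, v₂ m • e₂ = s₂ • m)

/-- `v' (m ⊗ m') = v₁ m * v₂ m'` -/
noncomputable def vv : M₁ ⊗[B] M₂ →ₗ[B] B := (LinearMap.mul' B B) ∘ₗ (TensorProduct.map v₁ v₂)

omit [Module.Finite A B] [Module.Projective A B] [Module.Finite B M₁] [Module.Projective B M₁]
  [Module.Finite B M₂] [Module.Projective B M₂] in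
include hv₁ hv₂ in
theorem vv_smul (z : M₁ ⊗[B] M₂) : vv v₁ v₂ z • (e₁ ⊗ₜ[B] e₂) = (s₁ * s₂) • z := by
  induction z using TensorProduct.induction_on with
  | zero => simp
  | tmul m m' =>
    simp only [vv, LinearMap.comp_apply, TensorProduct.map_tmul, LinearMap.mul'_apply]
    calc (v₁ m * v₂ m') • (e₁ ⊗ₜ[B] e₂) = (v₁ m • e₁) ⊗ₜ[B] (v₂ m' • e₂) := by
          rw [mul_smul, ← TensorProduct.tmul_smul, TensorProduct.smul_tmul']
      _ = (s₁ • m) ⊗ₜ[B] (s₂ • m') := by rw [hv₁, hv₂]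
      _ = (s₁ * s₂) • (m ⊗ₜ[B] m') := by
          have a1 : (s₁ • m) ⊗ₜ[B] (s₂ • m') = s₁ • (m ⊗ₜ[B] (s₂ • m')) :=
            (TensorProduct.smul_tmul' s₁ m (s₂ • m')).symm
          have a2 : m ⊗ₜ[B] (s₂ • m') = (s₂ • m) ⊗ₜ[B] m' := (TensorProduct.smul_tmul s₂ m m').symm
          have a3 : (s₂ • m) ⊗ₜ[B] m' = s₂ • (m ⊗ₜ[B] m') := (TensorProduct.smul_tmul' s₂ m m').symm
          rw [a1, a2, a3, ← mul_smul]
  | add z₁ z₂ h₁ h₂ => rw [map_add, add_smul, h₁, h₂, smul_add]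

omit [Module.Finite B M₁] [Module.Projective B M₁] [Module.Finite B M₂] [Module.Projective B M₂] in
include hn hv₁ hv₂ in
theorem local_XY : ∃ Φ : (⋀[A]^n M₁) ⊗[A] (⋀[A]^n M₂) →ₗ[A] (⋀[A]^n B) ⊗[A] (⋀[A]^n (M₁ ⊗[B] M₂)),
    ∀ i, Φ (gX A B n M₁ M₂ i) = (s₁ * s₂) ^ n • gY A B n M₁ M₂ i := by
  have hloc := exists_local_span (A := A) (B := B) n hn
  refine ⟨TensorProduct.map (exteriorPower.map n (v₁.restrictScalars A))
    (exteriorPower.map n ((uu (A := A) (e₁ ⊗ₜ[B] e₂)) ∘ₗ (v₂.restrictScalars A))), ?_⟩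
  rintro ⟨m₁, m₂, b, c⟩
  simp only [gX, gY, TensorProduct.map_tmul, exteriorPower.map_apply_ιMulti]
  have e1 : ((v₁.restrictScalars A) ∘ fun j => b j • m₁) = fun j => v₁ m₁ * b j := by
    funext j; simp [mul_comm]
  have e2 : ((uu (A := A) (e₁ ⊗ₜ[B] e₂) ∘ₗ v₂.restrictScalars A) ∘ fun j => c j • m₂)
      = fun j => (v₂ m₂ * c j) • (e₁ ⊗ₜ[B] e₂) := by
    funext j; simp [mul_comm]
  rw [e1, e2, ιMulti_mul_eq, ιMulti_smul_eq, ιMulti_mul_eq]
  -- move T₁ across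
  have key := map_tmul_comm n hloc (exteriorPower.map n (lam (A := A) B (v₁ m₁)))
    (exteriorPower.ιMulti A n b) (exteriorPower.map n (lam (A := A) B (v₂ m₂)) (exteriorPower.ιMulti A n c))
  have key2 := congrArg (TensorProduct.map LinearMap.id (exteriorPower.map n (uu (A := A) (e₁ ⊗ₜ[B] e₂)))) key
  simp only [TensorProduct.map_tmul, LinearMap.id_apply] at key2
  rw [key2, ← ιMulti_mul_eq, ← ιMulti_mul_eq, ← ιMulti_smul_eq, ← TensorProduct.tmul_smul]
  congr 1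
  have : (fun j => (v₁ m₁ * (v₂ m₂ * c j)) • (e₁ ⊗ₜ[B] e₂))
      = fun j => (s₁ * s₂) • (c j • (m₁ ⊗ₜ[B] m₂)) := by
    funext j
    have h := vv_smul e₁ v₁ s₁ hv₁ e₂ v₂ s₂ hv₂ (c j • (m₁ ⊗ₜ[B] m₂))
    rw [← h]
    congr 1
    simp only [vv, map_smul, LinearMap.comp_apply, TensorProduct.map_tmul, LinearMap.mul'_apply, smul_eq_mul]
    ring
  rw [this, AlternatingMap.map_smul_univ]
  simp

omit [Module.Finite B M₁] [Module.Projective B M₁] [Module.Finite B M₂] [Module.Projective B M₂] in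
include hn hv₁ hv₂ in
theorem local_YX : ∃ Ψ : (⋀[A]^n B) ⊗[A] (⋀[A]^n (M₁ ⊗[B] M₂)) →ₗ[A] (⋀[A]^n M₁) ⊗[A] (⋀[A]^n M₂),
    ∀ i, Ψ (gY A B n M₁ M₂ i) = (s₁ * s₂) ^ n • gX A B n M₁ M₂ i := by
  have hloc := exists_local_span (A := A) (B := B) n hn
  refine ⟨TensorProduct.map (exteriorPower.map n (uu (A := A) e₁))
    (exteriorPower.map n ((uu (A := A) e₂) ∘ₗ ((vv v₁ v₂).restrictScalars A))), ?_⟩
  rintro ⟨m₁, m₂, b, c⟩
  simp only [gX, gY, TensorProduct.map_tmul, exteriorPower.map_apply_ιMulti]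
  have e2 : ((uu (A := A) e₂ ∘ₗ (vv v₁ v₂).restrictScalars A) ∘ fun j => c j • (m₁ ⊗ₜ[B] m₂))
      = fun j => (v₁ m₁ * (v₂ m₂ * c j)) • e₂ := by
    funext j
    simp only [vv, Function.comp_apply, LinearMap.comp_apply, LinearMap.coe_restrictScalars, map_smul,
      TensorProduct.map_tmul, LinearMap.mul'_apply, smul_eq_mul, LinearMap.toSpanSingleton_apply]
    congr 1
    ring
  have e1 : (uu (A := A) e₁ ∘ b) = fun j => b j • e₁ := rfl
  rw [e1, e2, ιMulti_smul_eq, ιMulti_smul_eq, ιMulti_mul_eq, ιMulti_mul_eq]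
  have key := map_tmul_comm n hloc (exteriorPower.map n (lam (A := A) B (v₁ m₁)))
    (exteriorPower.ιMulti A n b) (exteriorPower.map n (lam (A := A) B (v₂ m₂)) (exteriorPower.ιMulti A n c))
  have key2 := congrArg (TensorProduct.map (exteriorPower.map n (uu (A := A) e₁))
    (exteriorPower.map n (uu (A := A) e₂))) key
  simp only [TensorProduct.map_tmul] at key2
  rw [← key2, ← ιMulti_mul_eq, ← ιMulti_mul_eq, ← ιMulti_smul_eq, ← ιMulti_smul_eq]
  have t1 : (fun j => (v₁ m₁ * b j) • e₁) = fun j => s₁ • (b j • m₁) := by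
    funext j
    rw [mul_comm, mul_smul, hv₁, smul_comm]
  have t2 : (fun j => (v₂ m₂ * c j) • e₂) = fun j => s₂ • (c j • m₂) := by
    funext j
    rw [mul_comm, mul_smul, hv₂, smul_comm]
  rw [t1, t2, AlternatingMap.map_smul_univ, AlternatingMap.map_smul_univ, TensorProduct.smul_tmul_smul]
  simp [mul_pow]

omit [Module.Finite A B] [Module.Projective A B] [Module.Finite B M₁] [Module.Projective B M₁]
  [Module.Finite B M₂] [Module.Projective B M₂] in
include hv₁ hv₂ in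
theorem local_span_X (x : (⋀[A]^n M₁) ⊗[A] (⋀[A]^n M₂)) :
    (s₁ * s₂) ^ n • x ∈ Submodule.span A (Set.range (gX A B n M₁ M₂)) := by
  have htop : (⊤ : Submodule A ((⋀[A]^n M₁) ⊗[A] (⋀[A]^n M₂))) =
      Submodule.span A (Set.image2 (fun a b => TensorProduct.mk A _ _ a b) (Set.range (exteriorPower.ιMulti A n (M := M₁)))
        (Set.range (exteriorPower.ιMulti A n (M := M₂)))) := by
    rw [← Submodule.map₂_span_span, exteriorPower.ιMulti_span, exteriorPower.ιMulti_span]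
    exact (TensorProduct.map₂_mk_top_top_eq_top A _ _).symm
  have hx : x ∈ (⊤ : Submodule A ((⋀[A]^n M₁) ⊗[A] (⋀[A]^n M₂))) := trivial
  rw [htop] at hx
  induction hx using Submodule.span_induction with
  | mem _ h =>
    obtain ⟨_, ⟨μ, rfl⟩, _, ⟨μ', rfl⟩, rfl⟩ := h
    apply Submodule.subset_span
    refine ⟨(e₁, e₂, fun j => v₁ (μ j), fun j => v₂ (μ' j)), ?_⟩
    simp only [gX, TensorProduct.mk_apply]
    have t1 : (fun j => v₁ (μ j) • e₁) = fun j => s₁ • μ j := funext fun j => hv₁ _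
    have t2 : (fun j => v₂ (μ' j) • e₂) = fun j => s₂ • μ' j := funext fun j => hv₂ _
    rw [t1, t2, AlternatingMap.map_smul_univ, AlternatingMap.map_smul_univ, TensorProduct.smul_tmul_smul]
    simp [mul_pow]
  | zero => simp
  | add a b _ _ ha hb => rw [smul_add]; exact Submodule.add_mem _ ha hb
  | smul c a _ ha => rw [smul_comm]; exact Submodule.smul_mem _ _ ha

omit [Module.Finite A B] [Module.Projective A B] [Module.Finite B M₁] [Module.Projective B M₁]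
  [Module.Finite B M₂] [Module.Projective B M₂] in
include hv₁ hv₂ in
theorem local_span_Y (y : (⋀[A]^n B) ⊗[A] (⋀[A]^n (M₁ ⊗[B] M₂))) :
    (s₁ * s₂) ^ n • y ∈ Submodule.span A (Set.range (gY A B n M₁ M₂)) := by
  have htop : (⊤ : Submodule A ((⋀[A]^n B) ⊗[A] (⋀[A]^n (M₁ ⊗[B] M₂)))) =
      Submodule.span A (Set.image2 (fun a b => TensorProduct.mk A _ _ a b) (Set.range (exteriorPower.ιMulti A n (M := B)))
        (Set.range (exteriorPower.ιMulti A n (M := M₁ ⊗[B] M₂)))) := by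
    rw [← Submodule.map₂_span_span, exteriorPower.ιMulti_span, exteriorPower.ιMulti_span]
    exact (TensorProduct.map₂_mk_top_top_eq_top A _ _).symm
  have hy : y ∈ (⊤ : Submodule A ((⋀[A]^n B) ⊗[A] (⋀[A]^n (M₁ ⊗[B] M₂)))) := trivial
  rw [htop] at hy
  induction hy using Submodule.span_induction with
  | mem _ h =>
    obtain ⟨_, ⟨b, rfl⟩, _, ⟨ν, rfl⟩, rfl⟩ := h
    apply Submodule.subset_span
    refine ⟨(e₁, e₂, b, fun j => vv v₁ v₂ (ν j)), ?_⟩
    simp only [gY, TensorProduct.mk_apply]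
    have t1 : (fun j => vv v₁ v₂ (ν j) • (e₁ ⊗ₜ[B] e₂)) = fun j => (s₁ * s₂) • ν j :=
      funext fun j => vv_smul e₁ v₁ s₁ hv₁ e₂ v₂ s₂ hv₂ _
    rw [t1, AlternatingMap.map_smul_univ, TensorProduct.tmul_smul]
    simp
  | zero => simp
  | add a b _ _ ha hb => rw [smul_add]; exact Submodule.add_mem _ ha hb
  | smul c a _ ha => rw [smul_comm]; exact Submodule.smul_mem _ _ ha

end local_data

include hn h₁ h₂ in
theorem main18 : Nonempty ((⋀[A]^n B) ⊗[A] (⋀[A]^n (M₁ ⊗[B] M₂)) ≃ₗ[A] (⋀[A]^n M₁) ⊗[A] (⋀[A]^n M₂)) := by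
  have hdata : ∀ p : Ideal A, p.IsPrime → ∃ (e₁ : M₁) (v₁ : M₁ →ₗ[B] B) (s₁ : A) (e₂ : M₂) (v₂ : M₂ →ₗ[B] B)
      (s₂ : A), (s₁ * s₂) ^ n ∉ p ∧ (∀ m : M₁, v₁ m • e₁ = s₁ • m) ∧ ∀ m : M₂, v₂ m • e₂ = s₂ • m := by
    intro p hp
    obtain ⟨e₁, v₁, s₁, hs₁, hv₁⟩ := exists_local_gen (A := A) (B := B) M₁ h₁ p
    obtain ⟨e₂, v₂, s₂, hs₂, hv₂⟩ := exists_local_gen (A := A) (B := B) M₂ h₂ p
    exact ⟨e₁, v₁, s₁, e₂, v₂, s₂, fun h => (hp.mem_or_mem (hp.mem_of_pow_mem _ h)).elim hs₁ hs₂, hv₁, hv₂⟩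
  have hgY : Submodule.span A (Set.range (gY A B n M₁ M₂)) = ⊤ := by
    refine eq_top_of_forall_prime (A := A) (Submodule.span A (Set.range (gY A B n M₁ M₂))) (fun p hp => ?_)
    obtain ⟨e₁, v₁, s₁, e₂, v₂, s₂, hs, hv₁, hv₂⟩ := hdata p hp
    exact ⟨_, hs, local_span_Y e₁ v₁ s₁ hv₁ e₂ v₂ s₂ hv₂⟩
  have hgX : Submodule.span A (Set.range (gX A B n M₁ M₂)) = ⊤ := by
    refine eq_top_of_forall_prime (A := A) (Submodule.span A (Set.range (gX A B n M₁ M₂))) (fun p hp => ?_)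
    obtain ⟨e₁, v₁, s₁, e₂, v₂, s₂, hs, hv₁, hv₂⟩ := hdata p hp
    exact ⟨_, hs, local_span_X e₁ v₁ s₁ hv₁ e₂ v₂ s₂ hv₂⟩
  obtain ⟨φ, -⟩ := exists_linearEquiv_of_local (gY A B n M₁ M₂) (gX A B n M₁ M₂) hgY hgX
    (fun p hp => by
      obtain ⟨e₁, v₁, s₁, e₂, v₂, s₂, hs, hv₁, hv₂⟩ := hdata p hp
      exact ⟨_, hs, local_YX hn e₁ v₁ s₁ hv₁ e₂ v₂ s₂ hv₂⟩)
    (fun p hp => by
      obtain ⟨e₁, v₁, s₁, e₂, v₂, s₂, hs, hv₁, hv₂⟩ := hdata p hp
      exact ⟨_, hs, local_XY hn e₁ v₁ s₁ hv₁ e₂ v₂ s₂ hv₂⟩)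
  exact ⟨φ⟩

end main18

end Groth.Agent.Lib.Helper11.NormDet
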