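import Groth.Agent.Lib.Helper11.Norm1

set_option autoImplicit false
universe u
open TensorProduct

namespace Groth.Agent.Lib.Helper11.NormDet

section toolkit2
variable {A : Type*} [CommRing A] {X Y : Type*} [AddCommGroup X] [Module A X] [AddCommGroup Y] [Module A Y]

theorem exists_linearMap_of_local' {G : Type*} (g : G → X) (t : G → Y)
    (hg : Submodule.span A (Set.range g) = ⊤)
    (h : ∀ p : Ideal A, p.IsPrime → ∃ s : A, s ∉ p ∧ ∃ Φ : X →ₗ[A] Y,
      ∀ i, ∃ s' : A, s' ∉ p ∧ s' • Φ (g i) = s' • s • t i) :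
    ∃ φ : X →ₗ[A] Y, ∀ i, φ (g i) = t i := by
  classical
  let ψX : (G →₀ A) →ₗ[A] X := Finsupp.linearCombination A g
  let ψY : (G →₀ A) →ₗ[A] Y := Finsupp.linearCombination A t
  have hsurj : Function.Surjective ψX := by
    rw [← LinearMap.range_eq_top, Finsupp.range_linearCombination, hg]
  have hker : LinearMap.ker ψX ≤ LinearMap.ker ψY := by
    intro l hl
    rw [LinearMap.mem_ker] at hl ⊢
    apply eq_zero_of_forall_prime (A := A)
    intro p hp
    obtain ⟨s, hs, Φ, hΦ⟩ := h p hp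
    choose s' hs' hΦ' using hΦ
    let σ : A := ∏ i ∈ l.support, s' i
    have hσ : σ ∉ p := by
      intro hmem
      obtain ⟨i, -, hi⟩ := (hp.prod_mem_iff).mp hmem
      exact hs' i hi
    have hσi : ∀ i ∈ l.support, σ • Φ (g i) = σ • s • t i := by
      intro i hi
      have : σ = (∏ j ∈ l.support.erase i, s' j) * s' i := by
        rw [Finset.prod_erase_mul _ _ hi]
      rw [this, mul_smul, mul_smul, hΦ' i]
    refine ⟨σ * s, fun hmem => (hp.mem_or_mem hmem).elim hσ hs, ?_⟩
    have h1 : σ • Φ (ψX l) = (σ * s) • ψY l := by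
      simp only [ψX, ψY, Finsupp.linearCombination_apply, Finsupp.sum, map_sum, map_smul,
        Finset.smul_sum]
      apply Finset.sum_congr rfl
      intro i hi
      rw [smul_comm σ (l i), hσi i hi, smul_comm (σ * s), mul_smul]
    rw [← h1, hl, map_zero, smul_zero]
  refine ⟨((LinearMap.ker ψX).liftQ ψY hker) ∘ₗ (ψX.quotKerEquivOfSurjective hsurj).symm.toLinearMap, ?_⟩
  intro i
  have : g i = ψX (Finsupp.single i 1) := by simp [ψX]
  rw [this, LinearMap.comp_apply]
  have h3 : (ψX.quotKerEquivOfSurjective hsurj).symm (ψX (Finsupp.single i 1))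
      = Submodule.Quotient.mk (Finsupp.single i 1) := by
    rw [LinearEquiv.symm_apply_eq]
    rfl
  rw [LinearEquiv.coe_coe, h3, Submodule.liftQ_apply]
  simp [ψY]

theorem exists_linearEquiv_of_local' {G : Type*} (g : G → X) (t : G → Y)
    (hg : Submodule.span A (Set.range g) = ⊤) (ht : Submodule.span A (Set.range t) = ⊤)
    (h : ∀ p : Ideal A, p.IsPrime → ∃ s : A, s ∉ p ∧ ∃ Φ : X →ₗ[A] Y,
      ∀ i, ∃ s' : A, s' ∉ p ∧ s' • Φ (g i) = s' • s • t i)
    (h' : ∀ p : Ideal A, p.IsPrime → ∃ s : A, s ∉ p ∧ ∃ Ψ : Y →ₗ[A] X,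
      ∀ i, ∃ s' : A, s' ∉ p ∧ s' • Ψ (t i) = s' • s • g i) :
    ∃ φ : X ≃ₗ[A] Y, ∀ i, φ (g i) = t i := by
  obtain ⟨φ, hφ⟩ := exists_linearMap_of_local' g t hg h
  obtain ⟨ψ, hψ⟩ := exists_linearMap_of_local' t g ht h'
  have h1 : ψ ∘ₗ φ = LinearMap.id := by
    apply LinearMap.ext_on_range hg
    intro i
    simp [hφ, hψ]
  have h2 : φ ∘ₗ ψ = LinearMap.id := by
    apply LinearMap.ext_on_range ht
    intro i
    simp [hφ, hψ]
  exact ⟨LinearEquiv.ofLinear φ ψ h2 h1, hφ⟩

/-- `P` is approximately free of rank one: generator `g`, coordinate `d`, scalar `s`. -/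
def ARank1 {P : Type*} [AddCommGroup P] [Module A P] (g : P) (d : P →ₗ[A] A) (s : A) : Prop :=
  ∀ x, d x • g = s • x

theorem exists_linearEquiv_of_ARank1 {G : Type*} (gX : G → X) (gY : G → Y)
    (h : ∀ p : Ideal A, p.IsPrime → ∃ (i₀ : G) (dX : X →ₗ[A] A) (sX : A) (dY : Y →ₗ[A] A) (sY : A),
      sX ∉ p ∧ sY ∉ p ∧ ARank1 (gX i₀) dX sX ∧ ARank1 (gY i₀) dY sY ∧
      ∀ i, ∃ s' : A, s' ∉ p ∧ s' * dX (gX i) = s' * dY (gY i)) :
    ∃ φ : X ≃ₗ[A] Y, ∀ i, φ (gX i) = gY i := by
  have hgX : Submodule.span A (Set.range gX) = ⊤ := by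
    refine eq_top_of_forall_prime (A := A) (Submodule.span A (Set.range gX)) (fun p hp => ?_)
    obtain ⟨i₀, dX, sX, dY, sY, hsX, hsY, hX, hY, -⟩ := h p hp
    refine ⟨sX, hsX, fun x => ?_⟩
    rw [← hX x]
    exact Submodule.smul_mem _ _ (Submodule.subset_span ⟨i₀, rfl⟩)
  have hgY : Submodule.span A (Set.range gY) = ⊤ := by
    refine eq_top_of_forall_prime (A := A) (Submodule.span A (Set.range gY)) (fun p hp => ?_)
    obtain ⟨i₀, dX, sX, dY, sY, hsX, hsY, hX, hY, -⟩ := h p hp
    refine ⟨sY, hsY, fun x => ?_⟩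
    rw [← hY x]
    exact Submodule.smul_mem _ _ (Submodule.subset_span ⟨i₀, rfl⟩)
  refine exists_linearEquiv_of_local' gX gY hgX hgY (fun p hp => ?_) (fun p hp => ?_)
  · obtain ⟨i₀, dX, sX, dY, sY, hsX, hsY, hX, hY, hrel⟩ := h p hp
    refine ⟨sY, hsY, (LinearMap.toSpanSingleton A Y (gY i₀)) ∘ₗ dX, fun i => ?_⟩
    obtain ⟨s', hs', hi⟩ := hrel i
    refine ⟨s', hs', ?_⟩
    rw [LinearMap.comp_apply, LinearMap.toSpanSingleton_apply, ← mul_smul, hi, ← hY (gY i), mul_smul]
  · obtain ⟨i₀, dX, sX, dY, sY, hsX, hsY, hX, hY, hrel⟩ := h p hp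
    refine ⟨sX, hsX, (LinearMap.toSpanSingleton A X (gX i₀)) ∘ₗ dY, fun i => ?_⟩
    obtain ⟨s', hs', hi⟩ := hrel i
    refine ⟨s', hs', ?_⟩
    rw [LinearMap.comp_apply, LinearMap.toSpanSingleton_apply, ← mul_smul, ← hi, ← hX (gX i), mul_smul]

end toolkit2

section alt
variable {R : Type*} [CommRing R] {P : Type*} [AddCommGroup P] [Module R P]
  {Q : Type*} [AddCommGroup Q] [Module R Q]

theorem alt_expand {N : ℕ} (g : P [⋀^Fin N]→ₗ[R] Q) (u : Fin N → P) (q : Matrix (Fin N) (Fin N) R) :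
    g (fun a => ∑ b, q a b • u b) = q.det • g u := by
  classical
  let G : (Fin N → R) [⋀^Fin N]→ₗ[R] Q := g.compLinearMap (Fintype.linearCombination R u)
  have hG : G = (Matrix.detRowAlternating (n := Fin N) (R := R)).smulRight (g u) := by
    refine Module.Basis.ext_alternating (Pi.basisFun R (Fin N)) fun σ hσ => ?_
    let τ : Equiv.Perm (Fin N) := Equiv.ofBijective σ (Finite.injective_iff_bijective.1 hσ)
    change G ((Pi.basisFun R (Fin N)) ∘ τ) = (Matrix.detRowAlternating.smulRight (g u)) ((Pi.basisFun R (Fin N)) ∘ τ)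
    rw [AlternatingMap.map_perm, AlternatingMap.map_perm]
    congr 1
    have h1 : G (Pi.basisFun R (Fin N)) = g u := by
      simp only [G, AlternatingMap.compLinearMap_apply]
      congr 1
      funext a
      simp [Fintype.linearCombination_apply, Pi.basisFun_apply, Pi.single_apply]
    rw [h1, AlternatingMap.smulRight_apply]
    have h2 : Matrix.detRowAlternating (fun i => (Pi.basisFun R (Fin N)) i) = (1 : R) := by
      have : (fun i => (Pi.basisFun R (Fin N)) i) = (1 : Matrix (Fin N) (Fin N) R) := by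
        funext i j
        simp [Pi.basisFun_apply, Matrix.one_apply, Pi.single_apply, eq_comm]
      rw [this]
      exact Matrix.det_one
    rw [h2, one_smul]
  have := congrArg (fun F => F (fun a => q a)) hG
  simp only [G, AlternatingMap.compLinearMap_apply, AlternatingMap.smulRight_apply] at this
  simp only [Fintype.linearCombination_apply] at this
  exact this

/-- the coordinate functional on the top exterior power defined by a coordinate map -/
noncomputable def dTop (N : ℕ) (w : P →ₗ[R] (Fin N → R)) : ⋀[R]^N P →ₗ[R] R :=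
  exteriorPower.alternatingMapLinearEquiv
    ((Matrix.detRowAlternating (n := Fin N) (R := R)).compLinearMap w)

theorem dTop_ιMulti (N : ℕ) (w : P →ₗ[R] (Fin N → R)) (z : Fin N → P) :
    dTop N w (exteriorPower.ιMulti R N z) = Matrix.det (Matrix.of fun a b => w (z a) b) := by
  rw [dTop, exteriorPower.alternatingMapLinearEquiv_apply_ιMulti]
  rfl

theorem ARank1_top (N : ℕ) (u : Fin N → P) (w : P →ₗ[R] (Fin N → R)) (s : R)
    (h : ∀ x, ∑ b, w x b • u b = s • x) :
    ARank1 (exteriorPower.ιMulti R N u) (dTop N w) (s ^ N) := by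
  intro x
  have hx : x ∈ Submodule.span R (Set.range (exteriorPower.ιMulti R N (M := P))) := by
    rw [exteriorPower.ιMulti_span]; trivial
  induction hx using Submodule.span_induction with
  | mem _ hm =>
    obtain ⟨z, rfl⟩ := hm
    rw [dTop_ιMulti, ← alt_expand]
    have : (fun a => ∑ b, (Matrix.of fun a b => w (z a) b) a b • u b) = fun a => s • z a := by
      funext a
      simpa using h (z a)
    rw [this, AlternatingMap.map_smul_univ]
    simp
  | zero => simp
  | add a b _ _ ha hb => rw [map_add, add_smul, ha, hb, smul_add]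
  | smul c a _ ha => rw [map_smul, smul_assoc, ha, smul_comm]

end alt

section tens
variable {A : Type*} [CommRing A] {P P' : Type*} [AddCommGroup P] [Module A P] [AddCommGroup P'] [Module A P']

theorem ARank1_tmul {g : P} {d : P →ₗ[A] A} {s : A} {g' : P'} {d' : P' →ₗ[A] A} {s' : A}
    (h : ARank1 g d s) (h' : ARank1 g' d' s') :
    ARank1 (g ⊗ₜ[A] g') ((LinearMap.mul' A A) ∘ₗ (TensorProduct.map d d')) (s * s') := by
  intro x
  induction x using TensorProduct.induction_on with
  | zero => simp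
  | tmul x x' =>
    rw [LinearMap.comp_apply, TensorProduct.map_tmul, LinearMap.mul'_apply, ← TensorProduct.smul_tmul_smul,
      h x, h' x', TensorProduct.smul_tmul_smul]
  | add a b ha hb => rw [map_add, add_smul, ha, hb, smul_add]

/-- coordinate functional on a tensor power -/
noncomputable def dPi (K : ℕ) (d : P →ₗ[A] A) : (⨂[A] _ : Fin K, P) →ₗ[A] A :=
  PiTensorProduct.lift ((MultilinearMap.mkPiAlgebra A (Fin K) A).compLinearMap (fun _ => d))

theorem dPi_tprod (K : ℕ) (d : P →ₗ[A] A) (ξ : Fin K → P) :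
    dPi K d (PiTensorProduct.tprod A ξ) = ∏ i, d (ξ i) := by
  rw [dPi, PiTensorProduct.lift.tprod]
  simp

theorem ARank1_pi (K : ℕ) {g : P} {d : P →ₗ[A] A} {s : A} (h : ARank1 g d s) :
    ARank1 (PiTensorProduct.tprod A (fun _ : Fin K => g)) (dPi K d) (s ^ K) := by
  intro x
  induction x using PiTensorProduct.induction_on with
  | smul_tprod r ξ =>
    rw [map_smul, dPi_tprod, smul_assoc, smul_comm (s ^ K)]
    congr 1
    have h1 : (∏ i, d (ξ i)) • PiTensorProduct.tprod A (fun _ : Fin K => g)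
        = PiTensorProduct.tprod A (fun i => d (ξ i) • g) :=
      (MultilinearMap.map_smul_univ (PiTensorProduct.tprod A) (fun i => d (ξ i)) (fun _ => g)).symm
    rw [h1]
    have h2 : (fun i => d (ξ i) • g) = fun i => s • ξ i := funext fun i => h (ξ i)
    rw [h2, MultilinearMap.map_smul_univ]
    simp
  | add a b ha hb => rw [map_add, add_smul, ha, hb, smul_add]

end tens

end Groth.Agent.Lib.Helper11.NormDet
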