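import Mathlib

set_option autoImplicit false
universe u
open TensorProduct

namespace Groth.Agent.Lib.Helper11.NormDet

section scalar
variable {A B : Type*} [CommRing A] [CommRing B] [Algebra A B] {n : ℕ}
  (β : Fin n → B) (c : B →ₗ[A] (Fin n → A)) (s : A)

/-- approximate regular representation -/
def f1 (x : B) : Matrix (Fin n) (Fin n) A := Matrix.of fun l l' => c (β l * x) l'

variable {β c s}
variable (hc1 : ∀ l l', c (β l) l' = if l = l' then s else 0)
  (hc2 : ∀ y : B, ∑ l, c y l • β l = s • y)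

include hc2 in
theorem key1 (y x : B) (l' : Fin n) : s * c (y * x) l' = ∑ l, c y l * c (β l * x) l' := by
  have := congrArg (fun z => c (z * x) l') (hc2 y)
  simp only [Finset.sum_mul, smul_mul_assoc, map_sum, map_smul, Finset.sum_apply, Pi.smul_apply,
    smul_eq_mul] at this
  exact this.symm

include hc1 in
theorem f1_one : f1 β c (1 : B) = s • (1 : Matrix (Fin n) (Fin n) A) := by
  ext l l'
  simp [f1, hc1, Matrix.one_apply]

include hc2 in
theorem f1_mul (x y : B) : f1 β c x * f1 β c y = s • f1 β c (x * y) := by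
  ext l l'
  simp only [f1, Matrix.mul_apply, Matrix.of_apply, Matrix.smul_apply, smul_eq_mul]
  rw [← mul_assoc, key1 hc2]

theorem f1_add (x y : B) : f1 β c (x + y) = f1 β c x + f1 β c y := by
  ext l l'
  simp [f1, mul_add]

theorem f1_zero : f1 β c (0 : B) = 0 := by
  ext l l'
  simp [f1]

/-- the honest ring homomorphism after inverting `s` -/
noncomputable def fT : B →+* Matrix (Fin n) (Fin n) (Localization.Away s) where
  toFun x := (IsLocalization.Away.invSelf (S := Localization.Away s) s) •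
    (f1 β c x).map (algebraMap A (Localization.Away s))
  map_one' := by
    rw [f1_one hc1]
    ext l l'
    simp only [Matrix.smul_apply, Matrix.map_apply, Matrix.one_apply, smul_eq_mul]
    split_ifs with h
    · rw [mul_one, mul_comm]
      exact IsLocalization.Away.mul_invSelf s
    · simp
  map_mul' x y := by
    have h := f1_mul hc2 x y
    have h2 : (f1 β c x).map (algebraMap A (Localization.Away s)) * (f1 β c y).map (algebraMap A (Localization.Away s))
        = algebraMap A (Localization.Away s) s • (f1 β c (x * y)).map (algebraMap A (Localization.Away s)) := by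
      rw [← Matrix.map_mul, h]
      ext l l'
      simp
    rw [Matrix.smul_mul, Matrix.mul_smul, h2, smul_smul, smul_smul]
    congr 1
    rw [mul_assoc, mul_comm _ (algebraMap A (Localization.Away s) s), IsLocalization.Away.mul_invSelf, mul_one]
  map_zero' := by
    rw [f1_zero]
    simp
  map_add' x y := by
    rw [f1_add, Matrix.map_add, smul_add]
    · intro a b; simp

include hc1 hc2 in
theorem fT_apply (x : B) : fT hc1 hc2 x = (IsLocalization.Away.invSelf (S := Localization.Away s) s) •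
    (f1 β c x).map (algebraMap A (Localization.Away s)) := rfl

include hc1 hc2 in
theorem det_det_approx {k : ℕ} (μ : Matrix (Fin k) (Fin k) B) :
    ∃ N : ℕ, s ^ N * (s ^ (k * n) * (f1 β c μ.det).det)
      = s ^ N * (s ^ n * (Matrix.comp (Fin k) (Fin k) (Fin n) (Fin n) A (μ.map (f1 β c))).det) := by
  classical
  let A' := Localization.Away s
  let ι := algebraMap A A'
  let inv : A' := IsLocalization.Away.invSelf (S := A') s
  have hinv : ι s * inv = 1 := IsLocalization.Away.mul_invSelf s
  have hdd := Matrix.det_det μ (fT hc1 hc2)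
  have hL : (fT hc1 hc2 μ.det).det = inv ^ n * ι (f1 β c μ.det).det := by
    rw [fT_apply, Matrix.det_smul, Fintype.card_fin, RingHom.map_det]
    rfl
  have hR : (Matrix.comp (Fin k) (Fin k) (Fin n) (Fin n) A' (μ.map (fT hc1 hc2)))
      = inv • (Matrix.comp (Fin k) (Fin k) (Fin n) (Fin n) A (μ.map (f1 β c))).map ι := by
    ext ⟨i, l⟩ ⟨i', l'⟩
    simp [Matrix.comp, fT_apply, inv, ι]
    rfl
  have hR' : (Matrix.comp (Fin k) (Fin k) (Fin n) (Fin n) A' (μ.map (fT hc1 hc2))).det
      = inv ^ (k * n) * ι (Matrix.comp (Fin k) (Fin k) (Fin n) (Fin n) A (μ.map (f1 β c))).det := by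
    rw [hR, Matrix.det_smul, Fintype.card_prod, Fintype.card_fin, Fintype.card_fin, RingHom.map_det]
    rfl
  rw [hL, hR'] at hdd
  have h3 : ι (s ^ (k * n) * (f1 β c μ.det).det)
      = ι (s ^ n * (Matrix.comp (Fin k) (Fin k) (Fin n) (Fin n) A (μ.map (f1 β c))).det) := by
    rw [map_mul, map_mul, map_pow, map_pow]
    have hn : ι s ^ n * inv ^ n = 1 := by rw [← mul_pow, hinv, one_pow]
    have hkn : ι s ^ (k * n) * inv ^ (k * n) = 1 := by rw [← mul_pow, hinv, one_pow]
    linear_combination (ι s ^ (k * n) * ι s ^ n) * hdd - (ι s ^ (k * n) * ι (f1 β c μ.det).det) * hn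
      + (ι s ^ n * ι (Matrix.comp (Fin k) (Fin k) (Fin n) (Fin n) A (μ.map (f1 β c))).det) * hkn
  obtain ⟨⟨_, N, rfl⟩, hN⟩ := (IsLocalization.eq_iff_exists (Submonoid.powers s) A').mp h3
  exact ⟨N, hN⟩

include hc1 hc2 in
theorem scalar_identity {k' : ℕ} (μ : Matrix (Fin (k' + 1)) (Fin (k' + 1)) B) (b : Fin (k' + 1) → Fin n → B) :
    ∃ N : ℕ, s ^ N * (Matrix.of (fun (q q' : Fin n × Fin (k' + 1)) => c (b q.2 q.1 * μ q.2 q'.2) q'.1)).det
      = s ^ N * ((∏ i : Fin k', (Matrix.of fun j l => c (b (Fin.castSucc i) j) l).det) *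
          (Matrix.of fun j j' => c (b (Fin.last k') j * μ.det) j').det) := by
  classical
  let P : Fin (k' + 1) → Matrix (Fin n) (Fin n) A := fun i => Matrix.of fun j l => c (b i j) l
  let W : Matrix (Fin n × Fin (k' + 1)) (Fin n × Fin (k' + 1)) A :=
    Matrix.of (fun q q' => c (b q.2 q.1 * μ q.2 q'.2) q'.1)
  let 𝒢 : Matrix (Fin n × Fin (k' + 1)) (Fin n × Fin (k' + 1)) A :=
    Matrix.of (fun q q' => f1 β c (μ q.2 q'.2) q.1 q'.1)
  let D' : Matrix (Fin n) (Fin n) A := Matrix.of fun j j' => c (b (Fin.last k') j * μ.det) j'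
  have hW : s • W = Matrix.blockDiagonal P * 𝒢 := by
    ext ⟨j, i⟩ ⟨j', i'⟩
    rw [Matrix.smul_apply, Matrix.mul_apply, Fintype.sum_prod_type]
    simp only [Matrix.blockDiagonal_apply, Matrix.of_apply, ite_mul, zero_mul, Finset.sum_ite_eq,
      Finset.mem_univ, if_true, W, 𝒢, P, f1, smul_eq_mul]
    exact key1 hc2 _ _ _
  have h1 : s ^ (n * (k' + 1)) * W.det = (∏ i, (P i).det) * 𝒢.det := by
    have := congrArg Matrix.det hW
    rw [Matrix.det_smul, Fintype.card_prod, Fintype.card_fin, Fintype.card_fin, Matrix.det_mul,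
      Matrix.det_blockDiagonal] at this
    exact this
  have h2 : 𝒢.det = (Matrix.comp (Fin (k' + 1)) (Fin (k' + 1)) (Fin n) (Fin n) A (μ.map (f1 β c))).det := by
    have : 𝒢 = (Matrix.comp (Fin (k' + 1)) (Fin (k' + 1)) (Fin n) (Fin n) A (μ.map (f1 β c))).submatrix
        (Equiv.prodComm _ _) (Equiv.prodComm _ _) := by
      ext ⟨j, i⟩ ⟨j', i'⟩
      simp [𝒢, Matrix.comp]
    rw [this, Matrix.det_submatrix_equiv_self]
  have hD : s • D' = P (Fin.last k') * f1 β c μ.det := by
    ext j j'
    rw [Matrix.smul_apply, Matrix.mul_apply]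
    simp only [Matrix.of_apply, D', P, f1, smul_eq_mul]
    exact key1 hc2 _ _ _
  have h3 : s ^ n * D'.det = (P (Fin.last k')).det * (f1 β c μ.det).det := by
    have := congrArg Matrix.det hD
    rw [Matrix.det_smul, Fintype.card_fin, Matrix.det_mul] at this
    exact this
  obtain ⟨N, h4⟩ := det_det_approx hc1 hc2 μ
  rw [mul_comm (k' + 1) n] at h4
  have h5 : (∏ i, (P i).det) = (∏ i : Fin k', (P (Fin.castSucc i)).det) * (P (Fin.last k')).det :=
    Fin.prod_univ_castSucc _
  rw [h5] at h1
  refine ⟨N + n + n * (k' + 1), ?_⟩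
  rw [pow_add, pow_add]
  show s ^ N * s ^ n * s ^ (n * (k' + 1)) * W.det
    = s ^ N * s ^ n * s ^ (n * (k' + 1)) * ((∏ i : Fin k', (P (Fin.castSucc i)).det) * D'.det)
  linear_combination (s ^ N * s ^ n) * h1
    + (s ^ N * s ^ n * (∏ i : Fin k', (P (Fin.castSucc i)).det) * (P (Fin.last k')).det) * h2
    - ((∏ i : Fin k', (P (Fin.castSucc i)).det) * (P (Fin.last k')).det) * h4
    - ((∏ i : Fin k', (P (Fin.castSucc i)).det) * s ^ N * s ^ (n * (k' + 1))) * h3

end scalar

end Groth.Agent.Lib.Helper11.NormDet
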