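import Groth.Agent.Lib.Helper11.Norm1
import Groth.Agent.Lib.Helper11.Norm4
import Groth.Agent.Lib.Helper11.Norm5

set_option autoImplicit false
set_option linter.unusedSectionVars false
universe u
open TensorProduct

namespace Groth.Agent.Lib.Helper11.NormDet

theorem exists_local_frame' (A B : Type u) [CommRing A] [CommRing B] [Algebra A B] [Module.Finite A B]
    (M : Type u) [AddCommGroup M] [Module B M] [Module.Finite B M] [Module.Projective B M]
    (k : ℕ) (hM : ∀ q : PrimeSpectrum B, Module.finrank (Localization.AtPrime q.asIdeal)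
      (LocalizedModule q.asIdeal.primeCompl M) = k)
    (p : Ideal A) [p.IsPrime] :
    ∃ (e : Fin k → M) (v : M →ₗ[B] (Fin k → B)) (s : A), s ∉ p ∧
      (∀ i i', v (e i) i' = if i = i' then algebraMap A B s else 0) ∧
      ∀ m : M, ∑ i, v m i • e i = algebraMap A B s • m := by
  classical
  obtain ⟨e, v₀, s, hs, h1, h2⟩ := exists_local_frame A B M k hM p
  refine ⟨e, (Finsupp.linearEquivFunOnFinite B B (Fin k)).toLinearMap ∘ₗ v₀, s, hs, ?_, ?_⟩
  · intro i i'
    have := h1 (Finsupp.single i 1)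
    rw [Finsupp.linearCombination_single, one_smul] at this
    simp only [LinearMap.comp_apply, LinearEquiv.coe_coe, Finsupp.linearEquivFunOnFinite_apply, this,
      Finsupp.smul_apply, Finsupp.single_apply, smul_eq_mul]
    split_ifs <;> simp
  · intro m
    rw [← h2 m, Finsupp.linearCombination_apply]
    rw [Finsupp.sum_fintype (v₀ m) (fun i a => a • e i) (fun i => zero_smul _ _)]
    rfl

section main19
variable {A B : Type u} [CommRing A] [CommRing B] [Algebra A B]
  {M : Type u} [AddCommGroup M] [Module B M] [Module A M] [IsScalarTower A B M]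
  {n k' : ℕ}

/-- index type of the generating families -/
abbrev GG (B M : Type u) (n k' : ℕ) := (Fin (k' + 1) → M) × (Fin (k' + 1) → Fin n → B)

variable (A) in
noncomputable def gX19 (i : GG B M n k') : ⋀[A]^(n * (k' + 1)) M :=
  exteriorPower.ιMulti A (n * (k' + 1)) (fun q =>
    i.2 (finProdFinEquiv.symm q).2 (finProdFinEquiv.symm q).1 • i.1 (finProdFinEquiv.symm q).2)

variable (A) in
noncomputable def gY19 (i : GG B M n k') :
    (⋀[A]^n (⋀[B]^(k' + 1) M)) ⊗[A] (⨂[A] _ : Fin k', ⋀[A]^n B) :=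
  exteriorPower.ιMulti A n (fun j => i.2 (Fin.last k') j • exteriorPower.ιMulti B (k' + 1) i.1) ⊗ₜ[A]
    PiTensorProduct.tprod A (fun t : Fin k' => exteriorPower.ιMulti A n (i.2 (Fin.castSucc t)))

section local_data
variable (e : Fin (k' + 1) → M) (v : M →ₗ[B] (Fin (k' + 1) → B)) (s₁ : A)
  (hv : ∀ m : M, ∑ i, v m i • e i = algebraMap A B s₁ • m)
  (β : Fin n → B) (c : B →ₗ[A] (Fin n → A)) (s₂ : A)
  (hc1 : ∀ l l', c (β l) l' = if l = l' then s₂ else 0)
  (hc2 : ∀ y : B, ∑ l, c y l • β l = s₂ • y)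

/-- approximate `A`-frame of `M` -/
noncomputable def uM : Fin (n * (k' + 1)) → M :=
  fun q => β (finProdFinEquiv.symm q).1 • e (finProdFinEquiv.symm q).2

noncomputable def wM : M →ₗ[A] (Fin (n * (k' + 1)) → A) :=
  LinearMap.pi fun q => (LinearMap.proj (finProdFinEquiv.symm q).1) ∘ₗ c ∘ₗ
    ((LinearMap.proj (finProdFinEquiv.symm q).2) ∘ₗ v).restrictScalars A

theorem wM_apply (x : M) (q : Fin (n * (k' + 1))) :
    wM v c x q = c (v x (finProdFinEquiv.symm q).2) (finProdFinEquiv.symm q).1 := rfl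

include hv hc2 in
theorem hM_frame (x : M) : ∑ q, wM v c x q • uM e β q = (s₂ * s₁) • x := by
  have h1 : ∑ q, wM v c x q • uM e β q
      = ∑ ji : Fin n × Fin (k' + 1), c (v x ji.2) ji.1 • (β ji.1 • e ji.2) :=
    Fintype.sum_equiv finProdFinEquiv.symm _ _ (fun q => rfl)
  rw [h1, Fintype.sum_prod_type, Finset.sum_comm]
  have h2 : ∀ i : Fin (k' + 1), ∑ j, c (v x i) j • (β j • e i) = s₂ • (v x i • e i) := by
    intro i
    have : ∑ j, c (v x i) j • (β j • e i) = (∑ j, c (v x i) j • β j) • e i := by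
      rw [Finset.sum_smul]
      exact Finset.sum_congr rfl fun j _ => (smul_assoc _ _ _).symm
    rw [this, hc2, smul_assoc]
  rw [Finset.sum_congr rfl fun i _ => h2 i, ← Finset.smul_sum, hv, algebraMap_smul, mul_smul]

/-- generator of `⋀[B]^k M` -/
noncomputable def dL : ⋀[B]^(k' + 1) M →ₗ[B] B := dTop (k' + 1) v

include hv in
theorem hL : ARank1 (A := B) (exteriorPower.ιMulti B (k' + 1) e) (dL v) ((algebraMap A B s₁) ^ (k' + 1)) :=
  ARank1_top (k' + 1) e v _ hv

noncomputable def uL : Fin n → ⋀[B]^(k' + 1) M := fun j => β j • exteriorPower.ιMulti B (k' + 1) e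

noncomputable def wL : ⋀[B]^(k' + 1) M →ₗ[A] (Fin n → A) := c ∘ₗ (dL v).restrictScalars A

include hv hc2 in
theorem hL_frame (y : ⋀[B]^(k' + 1) M) : ∑ j, wL v c y j • uL e β j = (s₂ * s₁ ^ (k' + 1)) • y := by
  have h1 : ∑ j, wL v c y j • uL e β j = (∑ j, c (dL v y) j • β j) • exteriorPower.ιMulti B (k' + 1) e := by
    rw [Finset.sum_smul]
    exact Finset.sum_congr rfl fun j _ => (smul_assoc _ _ _).symm
  rw [h1, hc2, smul_assoc, hL e v s₁ hv y, ← map_pow, algebraMap_smul, mul_smul]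

theorem dX_gX (i : GG B M n k') :
    dTop (n * (k' + 1)) (wM v c) (gX19 A i)
      = (Matrix.of (fun (q q' : Fin n × Fin (k' + 1)) =>
          c (i.2 q.2 q.1 * (Matrix.of fun a a' => v (i.1 a) a') q.2 q'.2) q'.1)).det := by
  classical
  rw [gX19, dTop_ιMulti]
  rw [← Matrix.det_submatrix_equiv_self finProdFinEquiv.symm
    (Matrix.of (fun (q q' : Fin n × Fin (k' + 1)) =>
          c (i.2 q.2 q.1 * (Matrix.of fun a a' => v (i.1 a) a') q.2 q'.2) q'.1))]
  congr 1
  ext a a'
  simp [wM_apply]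

theorem dY_gY (i : GG B M n k') :
    ((LinearMap.mul' A A) ∘ₗ (TensorProduct.map (dTop n (wL v c)) (dPi k' (dTop n c)))) (gY19 A i)
      = (∏ t : Fin k', (Matrix.of fun j l => c (i.2 (Fin.castSucc t) j) l).det) *
          (Matrix.of fun j j' => c (i.2 (Fin.last k') j * (Matrix.of fun a a' => v (i.1 a) a').det) j').det := by
  classical
  rw [gY19, LinearMap.comp_apply, TensorProduct.map_tmul, LinearMap.mul'_apply, dPi_tprod, dTop_ιMulti,
    mul_comm]
  congr 1
  · exact Finset.prod_congr rfl fun t _ => dTop_ιMulti _ _ _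
  · congr 1
    ext j j'
    simp only [Matrix.of_apply, wL, LinearMap.comp_apply, LinearMap.restrictScalars_apply, map_smul, dL,
      dTop_ιMulti, smul_eq_mul]

end local_data

variable [Module.Finite A B] [Module.Projective A B] [Module.Finite B M] [Module.Projective B M]

theorem main19
    (hn : ∀ q : PrimeSpectrum A, Module.finrank (Localization.AtPrime q.asIdeal)
      (LocalizedModule q.asIdeal.primeCompl B) = n)
    (hM : ∀ q : PrimeSpectrum B, Module.finrank (Localization.AtPrime q.asIdeal)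
      (LocalizedModule q.asIdeal.primeCompl M) = k' + 1) :
    Nonempty ((⋀[A]^(n * (k' + 1)) M) ≃ₗ[A]
      (⨂[A] _ : Fin k', ⋀[A]^n B) ⊗[A] (⋀[A]^n (⋀[B]^(k' + 1) M))) := by
  obtain ⟨φ, -⟩ := exists_linearEquiv_of_ARank1 (A := A) (gX19 A (B := B) (M := M) (n := n) (k' := k'))
    (gY19 A) (fun p hp => by
      obtain ⟨e, v, s₁, hs₁, -, hv⟩ := exists_local_frame' A B M (k' + 1) hM p
      obtain ⟨β, c, s₂, hs₂, hc1, hc2⟩ := exists_local_frame' A A B n hn p
      simp only [Algebra.algebraMap_self, RingHom.id_apply] at hc1 hc2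
      refine ⟨(e, fun _ => β), dTop (n * (k' + 1)) (wM v c), (s₂ * s₁) ^ (n * (k' + 1)),
        (LinearMap.mul' A A) ∘ₗ (TensorProduct.map (dTop n (wL v c)) (dPi k' (dTop n c))),
        (s₂ * s₁ ^ (k' + 1)) ^ n * (s₂ ^ n) ^ k', ?_, ?_, ?_, ?_, ?_⟩
      · exact fun h => (hp.mem_or_mem (hp.mem_of_pow_mem _ h)).elim hs₂ hs₁
      · intro h
        rcases hp.mem_or_mem h with h | h
        · exact (hp.mem_or_mem (hp.mem_of_pow_mem _ h)).elim hs₂ (fun h' => hs₁ (hp.mem_of_pow_mem _ h'))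
        · exact hs₂ (hp.mem_of_pow_mem _ (hp.mem_of_pow_mem _ h))
      · exact ARank1_top _ (uM e β) (wM v c) _ (hM_frame e v s₁ hv β c s₂ hc2)
      · exact ARank1_tmul (ARank1_top n (uL e β) (wL v c) _ (hL_frame e v s₁ hv β c s₂ hc2))
          (ARank1_pi k' (ARank1_top n β c s₂ hc2))
      · intro i
        obtain ⟨N, hN⟩ := scalar_identity hc1 hc2 (Matrix.of fun a a' => v (i.1 a) a') i.2
        refine ⟨s₂ ^ N, fun h => hs₂ (hp.mem_of_pow_mem _ h), ?_⟩
        rw [dX_gX, dY_gY]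
        exact hN)
  exact ⟨φ ≪≫ₗ TensorProduct.comm A _ _⟩

end main19

end Groth.Agent.Lib.Helper11.NormDet
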