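import Mathlib
set_option autoImplicit false
universe u
open AlgebraicGeometry CategoryTheory TensorProduct

namespace Groth.Agent.Lib.Helper11.OpenFactor

theorem bijective_productMap (R S T : Type u) [CommRing R] [CommRing S] [CommRing T]
    [Algebra R S] [Algebra R T] [Algebra T S] [IsScalarTower R T S]
    [Module.Flat R S] [Algebra.IsEpi R S] (hinj : Function.Injective (algebraMap T S)) :
    Function.Bijective (Algebra.TensorProduct.productMap (AlgHom.id R S) (IsScalarTower.toAlgHom R T S)) := by
  constructor
  · have h1 : Function.Injective (LinearMap.lTensor S (IsScalarTower.toAlgHom R T S).toLinearMap) :=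
      Module.Flat.lTensor_preserves_injective_linearMap _ hinj
    have h2 := Algebra.IsEpi.injective_lift_mul (R := R) (A := S)
    have : ∀ x : S ⊗[R] T, Algebra.TensorProduct.productMap (AlgHom.id R S) (IsScalarTower.toAlgHom R T S) x
        = TensorProduct.lift (LinearMap.mul R S) (LinearMap.lTensor S (IsScalarTower.toAlgHom R T S).toLinearMap x) := by
      intro x
      induction x using TensorProduct.induction_on with
      | zero => simp
      | tmul a b => simp
      | add a b ha hb => simp only [map_add, ha, hb]
    intro x y hxy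
    rw [this, this] at hxy
    exact h1 (h2 hxy)
  · intro s
    exact ⟨s ⊗ₜ 1, by simp⟩

theorem isOpenImmersion_of_factor (R S T : Type u) [CommRing R] [CommRing S] [CommRing T]
    [Algebra R S] [Algebra R T] [Algebra T S] [IsScalarTower R T S]
    (h : IsOpenImmersion (Spec.map (CommRingCat.ofHom (algebraMap R S))))
    (hinj : Function.Injective (algebraMap T S)) :
    IsOpenImmersion (Spec.map (CommRingCat.ofHom (algebraMap T S))) := by
  have hflat : Module.Flat R S := by
    have : Flat (Spec.map (CommRingCat.ofHom (algebraMap R S))) := inferInstance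
    rw [Flat.SpecMap_iff] at this
    exact RingHom.flat_algebraMap_iff.mp this
  have hepi : Algebra.IsEpi R S := by
    rw [← CommRingCat.epi_iff_epi]
    have : Mono (Spec.map (CommRingCat.ofHom (algebraMap R S))) := inferInstance
    have h2 : Mono (CommRingCat.ofHom (algebraMap R S)).op := Scheme.Spec.mono_of_mono_map this
    exact unop_epi_of_mono (CommRingCat.ofHom (algebraMap R S)).op
  have hbij := bijective_productMap R S T hinj
  let e : (S ⊗[R] T) ≃ₐ[R] S := AlgEquiv.ofBijective _ hbij
  have hiso : IsIso (Spec.map (CommRingCat.ofHom (e : (S ⊗[R] T) →+* S))) := by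
    have : IsIso (CommRingCat.ofHom (e : (S ⊗[R] T) →+* S)) :=
      (e.toRingEquiv.toCommRingCatIso).isIso_hom
    infer_instance
  have key : Spec.map (CommRingCat.ofHom (algebraMap T S)) =
      Spec.map (CommRingCat.ofHom (e : (S ⊗[R] T) →+* S)) ≫ (pullbackSpecIso R S T).inv ≫
        Limits.pullback.snd _ _ := by
    rw [pullbackSpecIso_inv_snd, ← Spec.map_comp, ← CommRingCat.ofHom_comp]
    congr 2
    ext t
    simp [e]
  rw [key]
  infer_instance

theorem main (A B B' B'' : Type u) [CommRing A] [CommRing B] [CommRing B'] [CommRing B''] [Algebra A B] [Algebra A B'] [Algebra A B''] [Algebra B' B] [Algebra B'' B] [IsScalarTower A B' B] [IsScalarTower A B'' B] [Module.Finite A B'] [Module.Finite A B''] (h' : IsOpenImmersion (Spec.map (CommRingCat.ofHom (algebraMap B' B)))) (h'' : IsOpenImmersion (Spec.map (CommRingCat.ofHom (algebraMap B'' B)))) : ∃ C : Subalgebra A B, Module.Finite A C ∧ Set.range (algebraMap B' B) ⊆ (C : Set B) ∧ Set.range (algebraMap B'' B) ⊆ (C : Set B) ∧ IsOpenImmersion (Spec.map (CommRingCat.ofHom C.val.toRingHom)) := by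
  have hf1 : Module.Finite A (IsScalarTower.toAlgHom A B' B).range :=
    Module.Finite.range (IsScalarTower.toAlgHom A B' B).toLinearMap
  have hf2 : Module.Finite A (IsScalarTower.toAlgHom A B'' B).range :=
    Module.Finite.range (IsScalarTower.toAlgHom A B'' B).toLinearMap
  have hle1 : Set.range (algebraMap B' B) ⊆
      (((IsScalarTower.toAlgHom A B' B).range ⊔ (IsScalarTower.toAlgHom A B'' B).range : Subalgebra A B) : Set B) := by
    rintro _ ⟨x, rfl⟩
    exact (le_sup_left : (IsScalarTower.toAlgHom A B' B).range ≤ _) ⟨x, rfl⟩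
  have hle2 : Set.range (algebraMap B'' B) ⊆
      (((IsScalarTower.toAlgHom A B' B).range ⊔ (IsScalarTower.toAlgHom A B'' B).range : Subalgebra A B) : Set B) := by
    rintro _ ⟨x, rfl⟩
    exact (le_sup_right : (IsScalarTower.toAlgHom A B'' B).range ≤ _) ⟨x, rfl⟩
  refine ⟨(IsScalarTower.toAlgHom A B' B).range ⊔ (IsScalarTower.toAlgHom A B'' B).range,
    Subalgebra.finite_sup _ _, hle1, hle2, ?_⟩
  set C : Subalgebra A B := (IsScalarTower.toAlgHom A B' B).range ⊔ (IsScalarTower.toAlgHom A B'' B).range with hC
  let ψ : B' →+* C := (algebraMap B' B).codRestrict C.toSubring (fun x => hle1 ⟨x, rfl⟩)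
  let _ : Algebra B' C := ψ.toAlgebra
  have : IsScalarTower B' C B := IsScalarTower.of_algebraMap_eq (fun x => rfl)
  exact isOpenImmersion_of_factor B' B C h' Subtype.val_injective

end Groth.Agent.Lib.Helper11.OpenFactor
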