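import Mathlib
import Groth.Agent.Lib.Helper13.DRingPC
import Groth.Agent.Lib.Helper13.DRingTor
import Groth.Prelude.Def_MoreMor

/-!
# Pseudo-coherence of `P ⊗_{P₀} N₀` for `P = A ⊗_{R₀} P₀`, `P₀` Noetherian, `N₀` finite and `R₀`-flat (helper11)
-/

set_option autoImplicit false
set_option linter.unusedSectionVars false
set_option linter.unusedVariables false
universe u
open CategoryTheory CategoryTheory.Limits TensorProduct

attribute [local instance] HasDerivedCategory.standard

namespace Groth.Agent.Lib.Helper11.PCFlatBC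

open Groth.Agent.Lib.Helper13.DR Groth.Agent.Lib.Helper13.PC PCoh

section Step

variable {P : Type u} [CommRing P]

/-- step: if the kernel of a surjection from a finite free module is `(m+1)`-pseudo-coherent, the
target is `m`-pseudo-coherent -/
theorem isNPC_of_surjective_of_ker {N : Type u} [AddCommGroup N] [Module P N] {r : ℕ}
    (f : (Fin r → P) →ₗ[P] N) (hf : Function.Surjective f) (m : ℤ)
    (hK : IsNPC (Pff P) (m + 1)
      ((DerivedCategory.singleFunctor (ModuleCat.{u} P) 0).obj (ModuleCat.of P (LinearMap.ker f)))) :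
    IsNPC (Pff P) m ((DerivedCategory.singleFunctor (ModuleCat.{u} P) 0).obj (ModuleCat.of P N)) := by
  let π : ModuleCat.of P (Fin r → P) ⟶ ModuleCat.of P N := ModuleCat.ofHom f
  have : Epi π := (ModuleCat.epi_iff_surjective _).2 hf
  have hS := shortExact_kernel π
  have hK' : IsNPC (Pff P) (m + 1) hS.singleTriangle.obj₁ :=
    hK.of_iso ((DerivedCategory.singleFunctor (ModuleCat.{u} P) 0).mapIso
      (ModuleCat.kernelIsoKer π).symm)
  exact isNPC_obj₃ Pff_prod hqs_Pff hql_Pff _ hS.singleTriangle_distinguished hK'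
    (isNPC_single 0 (X := ModuleCat.of P (Fin r → P)) ⟨inferInstance, inferInstance⟩ _)

/-- base: a module in degree `0` is `m`-pseudo-coherent for `m ≥ 1` -/
theorem isNPC_single_of_pos (N : ModuleCat.{u} P) (m : ℤ) (hm : 1 ≤ m) :
    IsNPC (Pff P) m ((DerivedCategory.singleFunctor (ModuleCat.{u} P) 0).obj N) :=
  isNPC_of_acyclic fun i hi => isZero_homology_single 0 i (by lia) N

end Step

section Main

variable {R₀ A P₀ P : Type u} [CommRing R₀] [CommRing A] [CommRing P₀] [CommRing P]
  [Algebra R₀ A] [Algebra R₀ P₀] [Algebra R₀ P] [Algebra A P] [Algebra P₀ P]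
  [IsScalarTower R₀ P₀ P] [IsScalarTower R₀ A P] [Algebra.IsPushout R₀ A P₀ P]

/-- `P ⊗[P₀] -` is injective on `g` as soon as `A ⊗[R₀] -` is (for `P = A ⊗[R₀] P₀`). -/
lemma lTensor_injective_of_restrict {M M' : Type u} [AddCommGroup M] [Module P₀ M] [Module R₀ M]
    [IsScalarTower R₀ P₀ M] [AddCommGroup M'] [Module P₀ M'] [Module R₀ M']
    [IsScalarTower R₀ P₀ M'] (g : M →ₗ[P₀] M')
    (hg : Function.Injective ((g.restrictScalars R₀).lTensor A)) :
    Function.Injective (g.lTensor P) := by
  have key : ∀ x, (Algebra.IsPushout.cancelBaseChange R₀ A P₀ P M').symm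
      (((g.restrictScalars R₀).lTensor A) x) =
      g.lTensor P ((Algebra.IsPushout.cancelBaseChange R₀ A P₀ P M).symm x) := by
    intro x
    induction x with
    | zero => simp
    | add x y hx hy => simp only [map_add, hx, hy]
    | tmul a m => simp
  intro x y hxy
  obtain ⟨x', rfl⟩ := (Algebra.IsPushout.cancelBaseChange R₀ A P₀ P M).symm.surjective x
  obtain ⟨y', rfl⟩ := (Algebra.IsPushout.cancelBaseChange R₀ A P₀ P M).symm.surjective y
  rw [← key, ← key] at hxy
  rw [hg ((Algebra.IsPushout.cancelBaseChange R₀ A P₀ P M').symm.injective hxy)]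

/-- Main induction: for `P = A ⊗[R₀] P₀` with `P₀` Noetherian and `R₀`-flat, and `N₀` a finite
`P₀`-module flat over `R₀`, the `P`-module `P ⊗[P₀] N₀` is pseudo-coherent. -/
theorem isNPC_tensor (R₀ A P₀ P : Type u) [CommRing R₀] [CommRing A] [CommRing P₀] [CommRing P]
    [Algebra R₀ A] [Algebra R₀ P₀] [Algebra R₀ P] [Algebra A P] [Algebra P₀ P]
    [IsScalarTower R₀ P₀ P] [IsScalarTower R₀ A P] [Algebra.IsPushout R₀ A P₀ P]
    [IsNoetherianRing P₀] [Module.Flat R₀ P₀] (k : ℕ) :
    ∀ (m : ℤ) (_ : 1 - m ≤ k) (N₀ : Type u) [AddCommGroup N₀] [Module P₀ N₀] [Module R₀ N₀]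
      [IsScalarTower R₀ P₀ N₀] [Module.Finite P₀ N₀] [Module.Flat R₀ N₀],
      IsNPC (Pff P) m ((DerivedCategory.singleFunctor (ModuleCat.{u} P) 0).obj
        (ModuleCat.of P (P ⊗[P₀] N₀))) := by
  induction k with
  | zero =>
    intro m hm N₀ _ _ _ _ _ _
    exact isNPC_single_of_pos _ m (by lia)
  | succ k ih =>
    intro m hm N₀ _ _ _ _ _ _
    obtain ⟨r, f₀, hf₀⟩ := Module.Finite.exists_fin' P₀ N₀
    let K₀ : Submodule P₀ (Fin r → P₀) := LinearMap.ker f₀
    have hex₀ : Function.Exact (K₀.subtype.restrictScalars R₀) (f₀.restrictScalars R₀) :=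
      LinearMap.exact_subtype_ker_map f₀
    haveI : Module.Flat R₀ (Fin r → P₀) :=
      Module.Flat.of_linearEquiv (DirectSum.linearEquivFunOnFintype R₀ (Fin r) (fun _ => P₀)).symm
    haveI : Module.Flat R₀ K₀ :=
      flat_of_exact (K₀.subtype.restrictScalars R₀) (Submodule.injective_subtype _)
        (f₀.restrictScalars R₀) hf₀ hex₀
    have hinj : Function.Injective (K₀.subtype.lTensor P) :=
      lTensor_injective_of_restrict (R₀ := R₀) (A := A) K₀.subtype
        (LinearMap.lTensor_injective_of_exact_of_flat (f₀.restrictScalars R₀) hf₀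
          (K₀.subtype.restrictScalars R₀) (Submodule.injective_subtype _) hex₀ A)
    have hex : Function.Exact (K₀.subtype.lTensor P) (f₀.lTensor P) :=
      lTensor_exact P (LinearMap.exact_subtype_ker_map f₀) hf₀
    let e : P ⊗[P₀] (Fin r → P₀) ≃ₗ[P] (Fin r → P) := TensorProduct.piScalarRight P₀ P P (Fin r)
    let f : (Fin r → P) →ₗ[P] P ⊗[P₀] N₀ := (f₀.baseChange P) ∘ₗ e.symm.toLinearMap
    have hf : Function.Surjective f := by
      intro y
      obtain ⟨x, hx⟩ := LinearMap.lTensor_surjective P hf₀ y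
      exact ⟨e x, by simp [f, LinearMap.baseChange_eq_ltensor, hx]⟩
    let j : P ⊗[P₀] K₀ →ₗ[P] (Fin r → P) := e.toLinearMap ∘ₗ (K₀.subtype.baseChange P)
    have hj : Function.Injective j := by
      intro x y hxy
      apply hinj
      have := e.injective hxy
      simpa [LinearMap.baseChange_eq_ltensor] using this
    have hrange : LinearMap.range j = LinearMap.ker f := by
      ext x
      simp only [LinearMap.mem_range, LinearMap.mem_ker]
      constructor
      · rintro ⟨y, rfl⟩
        have := hex.apply_apply_eq_zero y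
        simpa [f, j, LinearMap.baseChange_eq_ltensor] using this
      · intro hx
        have hx' : f₀.lTensor P (e.symm x) = 0 := by
          simpa [f, LinearMap.baseChange_eq_ltensor] using hx
        obtain ⟨y, hy⟩ := (hex (e.symm x)).1 hx'
        exact ⟨y, by simp [j, LinearMap.baseChange_eq_ltensor, hy]⟩
    let eqv : (P ⊗[P₀] K₀) ≃ₗ[P] LinearMap.ker f :=
      (LinearEquiv.ofInjective j hj).trans (LinearEquiv.ofEq _ _ hrange)
    have hKer := ih (m + 1) (by push_cast at hm; lia) K₀
    exact isNPC_of_surjective_of_ker f hf m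
      (hKer.of_iso ((DerivedCategory.singleFunctor (ModuleCat.{u} P) 0).mapIso
        (LinearEquiv.toModuleIso eqv)))

end Main

section Final

attribute [local instance] MvPolynomial.algebraMvPolynomial

/-- If `A → B` is the base change of `R₀ → S₀` (`R₀` Noetherian, `S₀` of finite type), and `B` is the
base change of a finite `S₀`-module `M₀` flat over `R₀`, then `A → B` is pseudo-coherent. -/
theorem isPseudoCoherentHom_of_model (R₀ A S₀ B : Type u) [CommRing R₀] [CommRing A] [CommRing S₀]
    [CommRing B] [Algebra R₀ A] [Algebra R₀ S₀] [Algebra S₀ B] [Algebra A B] [Algebra R₀ B]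
    [IsScalarTower R₀ A B] [IsScalarTower R₀ S₀ B] [Algebra.IsPushout R₀ A S₀ B]
    [IsNoetherianRing R₀] [Algebra.FiniteType R₀ S₀]
    (M₀ : Type u) [AddCommGroup M₀] [Module S₀ M₀] [Module R₀ M₀] [IsScalarTower R₀ S₀ M₀]
    [Module.Finite S₀ M₀] [Module.Flat R₀ M₀] (f : M₀ →ₗ[S₀] B) (hf : IsBaseChange B f) :
    MoreMor.IsPseudoCoherentHom A B := by
  obtain ⟨n, ψ₀, hψ₀⟩ :=
    (Algebra.FiniteType.iff_quotient_mvPolynomial'' (R := R₀) (S := S₀)).1 inferInstance
  let φ : MvPolynomial (Fin n) A →ₐ[A] B :=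
    MvPolynomial.aeval (fun i => algebraMap S₀ B (ψ₀ (MvPolynomial.X i)))
  have hcomp : (φ : MvPolynomial (Fin n) A →+* B).comp (MvPolynomial.map (algebraMap R₀ A)) =
      (algebraMap S₀ B).comp (ψ₀ : MvPolynomial (Fin n) R₀ →+* S₀) := by
    apply MvPolynomial.ringHom_ext
    · intro a
      simp only [RingHom.comp_apply, MvPolynomial.map_C]
      change φ (MvPolynomial.C (algebraMap R₀ A a)) = algebraMap S₀ B (ψ₀ (MvPolynomial.C a))
      rw [← MvPolynomial.algebraMap_eq, ← MvPolynomial.algebraMap_eq, φ.commutes, ψ₀.commutes,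
        ← IsScalarTower.algebraMap_apply, ← IsScalarTower.algebraMap_apply]
    · intro i
      simp only [RingHom.comp_apply, MvPolynomial.map_X]
      change φ (MvPolynomial.X i) = _
      simp [φ]
  have hφ : Function.Surjective φ := by
    intro z
    have hz : z ∈ (φ.range : Subalgebra A B) := by
      refine (Algebra.IsPushout.out (R := R₀) (S := A) (R' := S₀) (S' := B)).inductionOn z
        (fun z => z ∈ (φ.range : Subalgebra A B)) (zero_mem _) ?_ ?_ ?_
      · intro b
        obtain ⟨p, rfl⟩ := hψ₀ b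
        exact ⟨MvPolynomial.map (algebraMap R₀ A) p, RingHom.congr_fun hcomp p⟩
      · intro a y hy
        exact Subalgebra.smul_mem _ hy a
      · intro y₁ y₂ h₁ h₂
        exact add_mem h₁ h₂
    exact hz
  refine ⟨n, φ, hφ, ?_⟩
  letI : Algebra (MvPolynomial (Fin n) A) B := φ.toRingHom.toAlgebra
  letI : Module (MvPolynomial (Fin n) R₀) M₀ :=
    Module.compHom M₀ (ψ₀ : MvPolynomial (Fin n) R₀ →+* S₀)
  haveI : IsScalarTower R₀ (MvPolynomial (Fin n) R₀) M₀ := ⟨fun r p m => by
    change ψ₀ (r • p) • m = r • (ψ₀ p • m)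
    rw [map_smul, smul_assoc]⟩
  letI : Algebra (MvPolynomial (Fin n) R₀) S₀ := (ψ₀ : MvPolynomial (Fin n) R₀ →+* S₀).toAlgebra
  haveI : IsScalarTower (MvPolynomial (Fin n) R₀) S₀ M₀ := ⟨fun p s m => by
    change (ψ₀ p * s) • m = ψ₀ p • (s • m)
    rw [mul_smul]⟩
  haveI : Module.Finite (MvPolynomial (Fin n) R₀) S₀ :=
    Module.Finite.of_surjective (Algebra.linearMap (MvPolynomial (Fin n) R₀) S₀) hψ₀
  haveI : Module.Finite (MvPolynomial (Fin n) R₀) M₀ :=
    Module.Finite.trans S₀ M₀
  letI : Algebra (MvPolynomial (Fin n) R₀) B :=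
    ((algebraMap (MvPolynomial (Fin n) A) B).comp
      (algebraMap (MvPolynomial (Fin n) R₀) (MvPolynomial (Fin n) A))).toAlgebra
  haveI : IsScalarTower (MvPolynomial (Fin n) R₀) (MvPolynomial (Fin n) A) B :=
    IsScalarTower.of_algebraMap_eq (fun x => rfl)
  let f' : M₀ →ₗ[MvPolynomial (Fin n) R₀] B :=
    { toFun := f
      map_add' := f.map_add
      map_smul' := fun p m => by
        change f (ψ₀ p • m) = (algebraMap (MvPolynomial (Fin n) A) B
          (algebraMap (MvPolynomial (Fin n) R₀) (MvPolynomial (Fin n) A) p)) * f m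
        rw [f.map_smul, Algebra.smul_def]
        congr 1
        exact (RingHom.congr_fun hcomp p).symm }
  let g : MvPolynomial (Fin n) A ⊗[MvPolynomial (Fin n) R₀] M₀ →ₗ[MvPolynomial (Fin n) A] B :=
    LinearMap.liftBaseChange (MvPolynomial (Fin n) A) f'
  let c₁ := Algebra.IsPushout.cancelBaseChange R₀ A (MvPolynomial (Fin n) R₀)
    (MvPolynomial (Fin n) A) M₀
  let c₂ := Algebra.IsPushout.cancelBaseChange R₀ A S₀ B M₀
  have key : ∀ x, g (c₁.symm x) = hf.equiv (c₂.symm x) := by
    intro x
    induction x with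
    | zero => simp
    | add x y hx hy => simp only [map_add, hx, hy]
    | tmul a m =>
      simp only [c₁, c₂, Algebra.IsPushout.cancelBaseChange_symm_tmul, g,
        LinearMap.liftBaseChange_tmul, IsBaseChange.equiv_tmul]
      change (algebraMap (MvPolynomial (Fin n) A) B (algebraMap A (MvPolynomial (Fin n) A) a)) * f m
        = algebraMap A B a * f m
      congr 1
      exact φ.commutes a
  have hg : Function.Bijective g := by
    have : (g : _ → B) = (hf.equiv ∘ c₂.symm) ∘ c₁ := by
      funext x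
      obtain ⟨y, rfl⟩ := c₁.symm.surjective x
      simp [key]
    rw [this]
    exact (hf.equiv.bijective.comp c₂.symm.bijective).comp c₁.bijective
  let eqv : (MvPolynomial (Fin n) A ⊗[MvPolynomial (Fin n) R₀] M₀) ≃ₗ[MvPolynomial (Fin n) A] B :=
    LinearEquiv.ofBijective g hg
  haveI : IsNoetherianRing (MvPolynomial (Fin n) R₀) := inferInstance
  haveI : Module.Flat R₀ (MvPolynomial (Fin n) R₀) := inferInstance
  change DRing.IsPseudoCoherent' _ _
  rw [isPseudoCoherent'_iff]
  intro m
  exact (isNPC_tensor R₀ A (MvPolynomial (Fin n) R₀) (MvPolynomial (Fin n) A) (1 - m).toNat m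
    (by lia) M₀).of_iso ((DerivedCategory.singleFunctor (ModuleCat.{u} (MvPolynomial (Fin n) A)) 0).mapIso
      (LinearEquiv.toModuleIso eqv))

end Final

end Groth.Agent.Lib.Helper11.PCFlatBC
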