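import Mathlib
import Groth.Agent.Lib.Helper11.PDegJ
import Groth.Agent.Helper19.ProjDim4

/-!
# Bézout's theorem for a hypersurface section (helper11)
-/

set_option autoImplicit false
set_option linter.unusedSectionVars false
set_option linter.unusedVariables false
set_option linter.style.haveILetI false
universe u v

namespace Groth.Agent.Lib.Helper11.PDeg

open Groth.Agent.Lib.Helper11.GrHt Groth.Agent.Helper19.ProjDim MvPolynomial Polynomial
open Groth.Agent.Lib.Helper11.HS Groth.Agent.Lib.Helper11.NFlat Filter Topology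

variable (k : Type u) [Field k] (n : ℕ) (I : Ideal (MvPolynomial (Fin (n + 1)) k))

/-- the Hilbert polynomial of a hypersurface section -/
theorem hilbertPoly_section (hIh : I.IsHomogeneous (CohB1.polyGrading n k)) [I.IsPrime]
    (f : MvPolynomial (Fin (n + 1)) k) (d : ℕ) (hf : f.IsHomogeneous d) (hfI : f ∉ I)
    (P : ℚ[X])
    (hP : ∃ m₀ : ℕ, ∀ m : ℕ, m₀ ≤ m → P.eval (m : ℚ) =
      (Module.finrank k ↥(CohB1.polyGrading n k m) : ℚ) -
        Module.finrank k ↥(Submodule.restrictScalars k I ⊓ CohB1.polyGrading n k m)) :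
    ∃ m₀ : ℕ, ∀ m : ℕ, m₀ ≤ m →
      (P - P.comp (Polynomial.X - Polynomial.C (d : ℚ))).eval (m : ℚ) =
      (Module.finrank k ↥(CohB1.polyGrading n k m) : ℚ) -
        Module.finrank k ↥(Submodule.restrictScalars k (I ⊔ Ideal.span {f}) ⊓
          CohB1.polyGrading n k m) := by
  obtain ⟨m₀, hm₀⟩ := hP
  refine ⟨m₀ + d, fun m hm => ?_⟩
  have h4 : d ≤ m := by omega
  have hc := Groth.Agent.S10904.dim_count I hIh f d hf hfI m h4
  have hc' := congrArg (fun x : ℕ => (x : ℚ)) hc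
  simp only [Nat.cast_add] at hc'
  have hcast : ((m - d : ℕ) : ℚ) = (m : ℚ) - d := by rw [Nat.cast_sub h4]
  simp only [Polynomial.eval_sub, Polynomial.eval_comp, Polynomial.eval_X, Polynomial.eval_C]
  rw [hm₀ m (by omega), ← hcast, hm₀ (m - d) (by omega)]
  linarith

theorem bezout (hIh : I.IsHomogeneous (CohB1.polyGrading n k)) [I.IsPrime]
    (f : MvPolynomial (Fin (n + 1)) k) (d : ℕ) (hd : 0 < d) (hf : f.IsHomogeneous d) (hfI : f ∉ I)
    (P : ℚ[X])
    (hP : ∃ m₀ : ℕ, ∀ m : ℕ, m₀ ≤ m → P.eval (m : ℚ) =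
      (Module.finrank k ↥(CohB1.polyGrading n k m) : ℚ) -
        Module.finrank k ↥(Submodule.restrictScalars k I ⊓ CohB1.polyGrading n k m))
    (hdim : 1 ≤ P.natDegree)
    (r : ℕ) (p : Fin r → Ideal (MvPolynomial (Fin (n + 1)) k)) [hp : ∀ i, (p i).IsPrime]
    (hpinj : Function.Injective p)
    (hpmin : ∀ q : Ideal (MvPolynomial (Fin (n + 1)) k),
      q ∈ (I ⊔ Ideal.span {f}).minimalPrimes ↔ ∃ i, q = p i)
    (Qp : Fin r → ℚ[X])
    (hQp : ∀ i, ∃ m₀ : ℕ, ∀ m : ℕ, m₀ ≤ m → (Qp i).eval (m : ℚ) =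
      (Module.finrank k ↥(CohB1.polyGrading n k m) : ℚ) -
        Module.finrank k ↥(Submodule.restrictScalars k (p i) ⊓ CohB1.polyGrading n k m)) :
    (d : ℚ) * ((P.natDegree.factorial : ℚ) * P.leadingCoeff) =
      ∑ i : Fin r, ((Qp i).natDegree.factorial : ℚ) * (Qp i).leadingCoeff *
        (Module.length (Localization.AtPrime (p i))
          (LocalizedModule (p i).primeCompl
            (MvPolynomial (Fin (n + 1)) k ⧸ (I ⊔ Ideal.span {f})))).toNat := by
  have hP0 : P ≠ 0 := by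
    rintro rfl
    simp at hdim
  set Q := P - P.comp (Polynomial.X - Polynomial.C (d : ℚ)) with hQdef
  have hQ := hilbertPoly_section k n I hIh f d hf hfI P hP
  obtain ⟨hdeg, hlc⟩ := Groth.Agent.S10904.result k n I hIh f d hd hf hfI P Q hP hQ hdim
  have hI'h : (I ⊔ Ideal.span {f}).IsHomogeneous (CohB1.polyGrading n k) :=
    hIh.sup (Groth.Agent.Helper19.ProjDim.span_singleton_isHomogeneous k n f d hf)
  have hassoc := assoc_formula k n (I ⊔ Ideal.span {f}) hI'h Q hQ r p hpinj hpmin Qp hQp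
  rw [← hlc, hassoc]
  have hmem : ∀ i, p i ∈ (I ⊔ Ideal.span {f}).minimalPrimes := fun i => (hpmin _).mpr ⟨i, rfl⟩
  have hhom : ∀ i, (p i).IsHomogeneous (CohB1.polyGrading n k) := fun i =>
    isHomogeneous_of_mem_minimalPrimes _ hI'h (hmem i)
  have hdimI := ringKrullDim_eq k n I hIh P hP0 hP
  refine Finset.sum_congr rfl fun i _ => ?_
  have hdrop := dim_drop k n I f hfI (p i) (hmem i)
  have hQi : Qp i ≠ 0 := by
    intro h0
    have hDi : (SP k (n + 1) (p i)).natDegree = 0 :=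
      natDegree_SP_of_zero k n (p i) (hhom i) (h0 ▸ hQp i)
    have h2 := natDegree_SP_eq_dim k n (p i) (hhom i) (hp i).ne_top
    rw [hDi] at h2
    rw [hdimI, ← h2] at hdrop
    have h3 : ((P.natDegree + 1 : ℕ) : WithBot ℕ∞) = ((0 + 1 : ℕ) : WithBot ℕ∞) := by
      push_cast
      exact hdrop
    have h4 : P.natDegree + 1 = 0 + 1 := by exact_mod_cast h3
    omega
  have hdimi := ringKrullDim_eq k n (p i) (hhom i) (Qp i) hQi (hQp i)
  rw [hdimI, hdimi] at hdrop
  have h3 : ((P.natDegree + 1 : ℕ) : WithBot ℕ∞) = (((Qp i).natDegree + 1 + 1 : ℕ) : WithBot ℕ∞) := by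
    push_cast
    exact hdrop
  have h4 : P.natDegree + 1 = (Qp i).natDegree + 1 + 1 := by exact_mod_cast h3
  rw [if_pos (by omega)]

end Groth.Agent.Lib.Helper11.PDeg
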