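import Mathlib
import Groth.Agent.Lib.Helper26.NormalSurf
import Groth.Agent.Lib.Helper18.CatHt
import Groth.Prelude.Def_Found

/-!
# Principal radical ideals in catenary Noetherian normal local domains (helper11)

Generalises `Helper26.NormalSurf.exists_reduced` (dimension two) to arbitrary dimension under
the catenary hypothesis (Stacks "Principal radical ideals").
-/

set_option autoImplicit false
set_option linter.style.haveILetI false

namespace Groth.Agent.Lib.Helper11.PRad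

open IsLocalRing Groth.Agent.Lib.Helper26.NormalSurf

section Count

variable {L : Type*} [CommRing L] [IsNoetherianRing L] [IsLocalRing L]

/-- Chain lemma: pairwise incomparable primes not containing `y ∈ m`. -/
theorem card_le_coheight (y : L) (hy : y ∈ maximalIdeal L) (T : Finset (Ideal L))
    (hT : ∀ q ∈ T, q.IsPrime ∧ y ∉ q) (hinc : ∀ q ∈ T, ∀ q' ∈ T, q ≤ q' → q = q') :
    (T.card : ℕ∞) ≤ Order.coheight (T.inf id ⊔ Ideal.span {y} : Ideal L) := by
  classical
  induction T using Finset.induction_on with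
  | empty => simp
  | insert q T' hq ih =>
    have hT' : ∀ q ∈ T', q.IsPrime ∧ y ∉ q := fun p hp => hT p (Finset.mem_insert_of_mem hp)
    have hinc' : ∀ q ∈ T', ∀ q' ∈ T', q ≤ q' → q = q' := fun p hp p' hp' =>
      hinc p (Finset.mem_insert_of_mem hp) p' (Finset.mem_insert_of_mem hp')
    have ih' := ih hT' hinc'
    rw [Finset.card_insert_of_notMem hq, Finset.inf_insert, id]
    set I := T'.inf id with hI
    have hqp : q.IsPrime := (hT q (Finset.mem_insert_self _ _)).1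
    have hle : (q ⊓ I) ⊔ Ideal.span {y} ≤ I ⊔ Ideal.span {y} := sup_le_sup_right inf_le_right _
    have hne : (q ⊓ I) ⊔ Ideal.span {y} ≠ I ⊔ Ideal.span {y} := by
      intro heq
      have h1 : I ≤ (q ⊓ I) ⊔ maximalIdeal L • I := by
        intro a ha
        have h2 : a ∈ (q ⊓ I) ⊔ Ideal.span {y} := heq ▸ Ideal.mem_sup_left ha
        obtain ⟨b, hb, c, hc, rfl⟩ := Submodule.mem_sup.mp h2
        obtain ⟨t, rfl⟩ := Ideal.mem_span_singleton'.mp hc
        have hty : t * y ∈ I := by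
          have := I.sub_mem ha (inf_le_right (a := q) hb)
          simpa using this
        have ht : t ∈ I := by
          rw [hI, Submodule.mem_finsetInf] at hty ⊢
          intro p hp
          exact ((hT' p hp).1.mem_or_mem (hty p hp)).resolve_right (hT' p hp).2
        refine Submodule.mem_sup.mpr ⟨b, hb, t * y, ?_, rfl⟩
        rw [mul_comm]
        exact Submodule.smul_mem_smul hy ht
      have h3 : I ≤ q ⊓ I :=
        Submodule.le_of_le_smul_of_le_jacobson_bot (IsNoetherian.noetherian _)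
          (IsLocalRing.maximalIdeal_le_jacobson ⊥) h1
      have h4 : T'.inf id ≤ q := h3.trans inf_le_left
      obtain ⟨p, hp, hpq⟩ := (Ideal.IsPrime.inf_le' hqp).mp h4
      have := hinc p (Finset.mem_insert_of_mem hp) q (Finset.mem_insert_self _ _) hpq
      exact hq (this ▸ hp)
    have hlt : (q ⊓ I) ⊔ Ideal.span {y} < I ⊔ Ideal.span {y} := lt_of_le_of_ne hle hne
    have h5 := Order.coheight_add_one_le hlt
    calc ((T'.card + 1 : ℕ) : ℕ∞) = (T'.card : ℕ∞) + 1 := by push_cast; rfl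
      _ ≤ Order.coheight (I ⊔ Ideal.span {y}) + 1 := by gcongr
      _ ≤ _ := h5

end Count

section Loc

variable {R : Type*} [CommRing R] [IsNoetherianRing R]

theorem exists_bound_atPrime (J' : Ideal R) (Q : Ideal R) (hQ : Q ∈ J'.minimalPrimes) (y : R)
    (hyQ : y ∈ Q) :
    ∃ N : ℕ, ∀ T : Finset (Ideal R), (∀ q ∈ T, q.IsPrime ∧ q ≤ Q ∧ y ∉ q) →
      (∀ q ∈ T, ∀ q' ∈ T, q ≤ q' → q = q') → J' ≤ T.inf id ⊔ Ideal.span {y} → T.card ≤ N := by
  classical
  haveI : Q.IsPrime := hQ.1.1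
  set L := Localization.AtPrime Q with hL
  have hmin : maximalIdeal L ∈ (J'.map (algebraMap R L)).minimalPrimes := by
    rw [IsLocalization.minimalPrimes_map Q.primeCompl L J', Set.mem_preimage,
      IsLocalization.AtPrime.comap_maximalIdeal L Q]
    exact hQ
  haveI : IsArtinianRing (L ⧸ J'.map (algebraMap R L)) :=
    IsLocalRing.quotient_artinian_of_mem_minimalPrimes_of_isLocalRing _ hmin
  haveI : IsArtinian L (L ⧸ J'.map (algebraMap R L)) :=
    isArtinian_of_surjective_algebraMap (R := L ⧸ J'.map (algebraMap R L))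
      (M := L ⧸ J'.map (algebraMap R L)) Ideal.Quotient.mk_surjective
  have hfin : Order.coheight (J'.map (algebraMap R L)) ≠ ⊤ := by
    rw [← Module.length_quotient]
    exact Module.length_ne_top
  refine ⟨(Order.coheight (J'.map (algebraMap R L))).toNat, fun T hT hinc hJ' => ?_⟩
  have hdisj : ∀ q ∈ T, Disjoint (Q.primeCompl : Set R) (q : Set R) := by
    intro q hq
    rw [Set.disjoint_left]
    intro x hx hxq
    exact hx ((hT q hq).2.1 hxq)
  have hcm : ∀ q ∈ T, (q.map (algebraMap R L)).comap (algebraMap R L) = q := by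
    intro q hq
    haveI := (hT q hq).1
    exact IsLocalization.comap_map_of_isPrime_disjoint Q.primeCompl L (hT q hq).1 (hdisj q hq)
  set T' := T.image (Ideal.map (algebraMap R L)) with hT'
  have hcard : T'.card = T.card := by
    rw [hT']
    apply Finset.card_image_of_injOn
    intro q hq q' hq' h
    have h' : q.map (algebraMap R L) = q'.map (algebraMap R L) := h
    rw [← hcm q hq, ← hcm q' hq', h']
  have hy' : algebraMap R L y ∈ maximalIdeal L :=
    (IsLocalization.AtPrime.to_map_mem_maximal_iff L Q y).mpr hyQ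
  have h1 : ∀ q ∈ T', q.IsPrime ∧ algebraMap R L y ∉ q := by
    intro q' hq'
    rw [hT', Finset.mem_image] at hq'
    obtain ⟨q, hq, rfl⟩ := hq'
    haveI := (hT q hq).1
    refine ⟨IsLocalization.isPrime_of_isPrime_disjoint Q.primeCompl L _ (hT q hq).1 (hdisj q hq), ?_⟩
    intro hmem
    have : y ∈ (q.map (algebraMap R L)).comap (algebraMap R L) := hmem
    rw [hcm q hq] at this
    exact (hT q hq).2.2 this
  have h2 : ∀ q ∈ T', ∀ q' ∈ T', q ≤ q' → q = q' := by
    intro p hp p' hp' hle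
    rw [hT', Finset.mem_image] at hp hp'
    obtain ⟨q, hq, rfl⟩ := hp
    obtain ⟨q', hq', rfl⟩ := hp'
    have : q ≤ q' := by
      rw [← hcm q hq, ← hcm q' hq']
      exact Ideal.comap_mono hle
    rw [hinc q hq q' hq' this]
  have h3 := card_le_coheight (algebraMap R L y) hy' T' h1 h2
  have h4 : J'.map (algebraMap R L) ≤ T'.inf id ⊔ Ideal.span {algebraMap R L y} := by
    refine (Ideal.map_mono hJ').trans ?_
    rw [Ideal.map_sup, Ideal.map_span, Set.image_singleton]
    refine sup_le_sup_right ?_ _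
    rw [Finset.le_inf_iff]
    intro p hp
    rw [hT', Finset.mem_image] at hp
    obtain ⟨q, hq, rfl⟩ := hp
    exact Ideal.map_mono (Finset.inf_le (f := id) hq)
  have h5 := h3.trans (Order.coheight_anti h4)
  rw [hcard] at h5
  have h6 := ENat.toNat_le_toNat h5 hfin
  simpa using h6

end Loc

section Main

universe u

variable {R : Type u} [CommRing R] [IsDomain R] [IsNoetherianRing R] [IsIntegrallyClosed R]

theorem H1_mem_minimalPrimes {J : Ideal R} (hJ0 : J ≠ ⊥) {q : Ideal R} (hq : H1 q) (hJq : J ≤ q) :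
    q ∈ J.minimalPrimes := by
  haveI := hq.1
  refine ⟨⟨hq.1, hJq⟩, fun p hp hpq => ?_⟩
  haveI := hp.1
  by_contra hne
  have hlt : p < q := lt_of_le_of_ne hpq (fun h => hne (h ▸ le_rfl))
  have h1 := Ideal.height_add_one_le_of_lt_of_isPrime hlt
  rw [hq.2] at h1
  have h2 : p.height = 0 := by
    by_contra h0
    have : 1 ≤ p.height := Order.one_le_iff_ne_zero.mpr h0
    have h3 : (1 : ℕ∞) + 1 ≤ 1 := (add_le_add_left this 1).trans h1
    exact absurd h3 (by decide)
  rw [Ideal.height_eq_zero_iff_eq_bot] at h2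
  exact hJ0 (le_bot_iff.mp (h2 ▸ hp.2))

theorem exists_ord_eq_one_mem (J : Ideal R) (hJ : J.IsRadical) (hJ0 : J ≠ ⊥) (q : Ideal R)
    (hq : H1 q) : ∃ π ∈ J, π ∈ q ∧ ord q hq π = 1 := by
  haveI := hq.1
  obtain ⟨π0, hπq, hπ⟩ := exists_ord_eq_one q hq
  by_cases hJq : J ≤ q
  · have hmin := H1_mem_minimalPrimes hJ0 hq hJq
    set L := Localization.AtPrime q
    have hrad := IsLocalization.AtPrime.radical_map_of_mem_minimalPrimes (A := L) q J hmin
    have h1 : algebraMap R L π0 ∈ (J.map (algebraMap R L)).radical := by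
      rw [hrad]; exact Ideal.mem_map_of_mem _ hπq
    obtain ⟨n, hn⟩ := h1
    rw [← map_pow, IsLocalization.mem_map_algebraMap_iff q.primeCompl] at hn
    obtain ⟨⟨⟨j, hj⟩, s⟩, hjs⟩ := hn
    have h2 : π0 ^ n * (s : R) = j := by
      apply IsLocalization.injective L q.primeCompl_le_nonZeroDivisors
      rw [map_mul]; exact hjs
    have hs0 : ord q hq (s : R) = 0 := (ord_eq_zero_iff q hq _).mpr s.2
    refine ⟨π0 * s, hJ ⟨n + 1, ?_⟩, Ideal.mul_mem_right _ _ hπq, ?_⟩
    · have : (π0 * (s : R)) ^ (n + 1) = (π0 ^ n * s) * (π0 * s ^ n) := by ring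
      rw [this, h2]
      exact Ideal.mul_mem_right _ _ hj
    · rw [ord_mul, hπ, hs0, add_zero]
  · obtain ⟨j, hjJ, hjq⟩ := SetLike.not_le_iff_exists.mp hJq
    refine ⟨π0 * j, Ideal.mul_mem_left _ _ hjJ, Ideal.mul_mem_right _ _ hπq, ?_⟩
    rw [ord_mul, hπ, (ord_eq_zero_iff q hq j).mpr hjq, add_zero]

theorem step' (J : Ideal R) (hJ : J.IsRadical) (hJ0 : J ≠ ⊥)
    (f y : R) (hf : f ≠ 0) (hyZ : ∀ q ∈ Z f, y ∉ q) (q1 : Ideal R) (hq1 : H1 q1)
    (hfq1 : f ∈ q1) (hbad : ord q1 hq1 f ≠ 1) :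
    ∃ g : R, g ∈ J ∧ (∀ q ∈ Z f, g ∈ q) ∧ ord q1 hq1 (f + y * g) = 1 ∧
      ∀ (q : Ideal R) (hq : H1 q), f ∈ q → ord q hq f = 1 → ord q hq (f + y * g) = 1 := by
  classical
  haveI := hq1.1
  set S := (Z_finite f hf).toFinset.erase q1 with hS
  have hSmem : ∀ q, q ∈ S ↔ q ≠ q1 ∧ q ∈ Z f := by
    intro q; simp [hS]
  have hex : ∀ q : Ideal R, ∃ c : R, q ∈ S → c ∈ q ∧ c ∉ q1 := by
    intro q
    by_cases hqS : q ∈ S
    · obtain ⟨hne, hqZ⟩ := (hSmem q).mp hqS
      have hnle : ¬ q ≤ q1 := fun hle => hne (hqZ.1.eq_of_le hq1 hle)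
      obtain ⟨c, hcq, hcq1⟩ := SetLike.not_le_iff_exists.mp hnle
      exact ⟨c, fun _ => ⟨hcq, hcq1⟩⟩
    · exact ⟨0, fun h => absurd h hqS⟩
  choose c hc using hex
  obtain ⟨π, hπJ, hπq, hπ⟩ := exists_ord_eq_one_mem J hJ hJ0 q1 hq1
  set P := ∏ q ∈ S, (c q) ^ 2 with hP
  have hPq1 : P ∉ q1 := by
    rw [hP, Ideal.IsPrime.prod_mem_iff]
    rintro ⟨q, hqS, hmem⟩
    exact (hc q hqS).2 (hq1.1.mem_of_pow_mem _ hmem)
  have hy1 : y ∉ q1 := hyZ q1 ⟨hq1, hfq1⟩
  refine ⟨π * P, Ideal.mul_mem_right _ _ hπJ, ?_, ?_, ?_⟩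
  · intro q hqZ
    by_cases hqq : q = q1
    · rw [hqq]; exact Ideal.mul_mem_right _ _ hπq
    · have hqS : q ∈ S := (hSmem q).mpr ⟨hqq, hqZ⟩
      refine Ideal.mul_mem_left _ _ ?_
      have hdvd : (c q) ^ 2 ∣ P := Finset.dvd_prod_of_mem (fun q => (c q) ^ 2) hqS
      obtain ⟨k, hk⟩ := hdvd
      rw [hk]
      exact Ideal.mul_mem_right _ _ (Ideal.pow_mem_of_mem _ (hc q hqS).1 2 (by norm_num))
  · have h1 : ord q1 hq1 (y * (π * P)) = 1 := by
      rw [ord_mul, ord_mul, (ord_eq_zero_iff q1 hq1 y).mpr hy1,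
        (ord_eq_zero_iff q1 hq1 P).mpr hPq1, hπ, zero_add, add_zero]
    have h2 : 1 ≤ ord q1 hq1 f := (one_le_ord_iff q1 hq1 f).mpr hfq1
    have h3 : ord q1 hq1 (y * (π * P)) < ord q1 hq1 f := by
      rw [h1]; exact lt_of_le_of_ne h2 (Ne.symm hbad)
    rw [ord_add_eq_of_lt q1 hq1 h3, h1]
  · intro q hq hfq ho
    by_cases hqq : q = q1
    · subst hqq
      exact absurd ho hbad
    · have hqS : q ∈ S := (hSmem q).mpr ⟨hqq, ⟨hq, hfq⟩⟩
      have hdvd : (c q) ^ 2 ∣ y * (π * P) :=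
        Dvd.dvd.mul_left (Dvd.dvd.mul_left (Finset.dvd_prod_of_mem (fun q => (c q) ^ 2) hqS) π) y
      have h1 : ord q hq ((c q) ^ 2) ≤ ord q hq (y * (π * P)) := ord_le_of_dvd q hq hdvd
      have h2 : 1 ≤ ord q hq (c q) := (one_le_ord_iff q hq _).mpr (hc q hqS).1
      have h3 : (2 : ℕ∞) ≤ ord q hq ((c q) ^ 2) := by
        rw [ord_pow]
        calc (2 : ℕ∞) = 2 • (1 : ℕ∞) := by norm_num
          _ ≤ 2 • ord q hq (c q) := nsmul_le_nsmul_right h2 2
      have h4 : ord q hq f < ord q hq (y * (π * P)) := by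
        rw [ho]
        exact lt_of_lt_of_le (by norm_num) (h3.trans h1)
      rw [add_comm, ord_add_eq_of_lt q hq h4, ho]

theorem exists_reduced_of_bound [IsLocalRing R] (J : Ideal R) (hJ : J.IsRadical) (hJ0 : J ≠ ⊥) (f0 y : R)
    (hf0 : f0 ≠ 0) (hf0J : f0 ∈ J) (hy : ∀ q ∈ Z f0, y ∉ q) (B : ℕ)
    (hB : ∀ f, f ≠ 0 → f ∈ J → f - f0 ∈ Ideal.span {y} → ∀ T : Finset (Ideal R),
      (↑T ⊆ Z f) → T.card ≤ B) :
    ∃ f ∈ J, f ≠ 0 ∧ IsReduced (R ⧸ Ideal.span {f}) := by
  classical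
  by_contra hcon
  push Not at hcon
  let Fam : R → Prop := fun f => f ≠ 0 ∧ f ∈ J ∧ f - f0 ∈ Ideal.span {y}
  have hyF : ∀ f, Fam f → ∀ q ∈ Z f, y ∉ q := by
    intro f hF q hq hyq
    have h1 : f - f0 ∈ q := ((Ideal.span_singleton_le_iff_mem (I := q)).mpr hyq) hF.2.2
    have h2 : f0 ∈ q := by
      have : f0 = f - (f - f0) := by ring
      rw [this]; exact q.sub_mem hq.2 h1
    exact hy q ⟨hq.1, h2⟩ hyq
  have key : ∀ n : ℕ, ∃ f, Fam f ∧ ∃ T : Finset (Ideal R), ↑T ⊆ Gd f ∧ T.card = n := by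
    intro n
    induction n with
    | zero => exact ⟨f0, ⟨hf0, hf0J, by simp⟩, ∅, by simp, rfl⟩
    | succ n ih =>
      obtain ⟨f, hF, T, hT, hTn⟩ := ih
      have hnr : ¬ IsReduced (R ⧸ Ideal.span {f}) := hcon f hF.2.1 hF.1
      have hex : ∃ (q1 : Ideal R) (hq1 : H1 q1), f ∈ q1 ∧ ord q1 hq1 f ≠ 1 := by
        by_contra hno
        push Not at hno
        exact hnr (isReduced_quotient_of_forall_ord_eq_one f hF.1 hno)
      obtain ⟨q1, hq1, hfq1, hbad⟩ := hex
      obtain ⟨g, hgJ, hgZ, hg1, hgood⟩ :=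
        step' J hJ hJ0 f y hF.1 (hyF f hF) q1 hq1 hfq1 hbad
      have hf'0 : f + y * g ≠ 0 := by
        intro h0
        rw [h0, (ord_eq_top_iff q1 hq1 0).mpr rfl] at hg1
        exact absurd hg1 (by simp)
      have hF' : Fam (f + y * g) := by
        refine ⟨hf'0, J.add_mem hF.2.1 (J.mul_mem_left _ hgJ), ?_⟩
        have : f + y * g - f0 = (f - f0) + g * y := by ring
        rw [this]
        exact Ideal.add_mem _ hF.2.2 (Ideal.mul_mem_left _ _ (Ideal.mem_span_singleton_self y))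
      have hGd : Gd f ⊆ Gd (f + y * g) := by
        rintro q ⟨hq, hfq, ho⟩
        exact ⟨hq, q.add_mem hfq (q.mul_mem_left _ (hgZ q ⟨hq, hfq⟩)), hgood q hq hfq ho⟩
      have hq1G : q1 ∈ Gd (f + y * g) :=
        ⟨hq1, q1.add_mem hfq1 (q1.mul_mem_left _ (hgZ q1 ⟨hq1, hfq1⟩)), hg1⟩
      have hq1T : q1 ∉ T := by
        intro hmem
        obtain ⟨hq, _, ho⟩ := hT hmem
        exact hbad ho
      refine ⟨f + y * g, hF', insert q1 T, ?_, ?_⟩
      · intro q hq
        rw [Finset.coe_insert, Set.mem_insert_iff] at hq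
        rcases hq with rfl | hq
        · exact hq1G
        · exact hGd (hT hq)
      · rw [Finset.card_insert_of_notMem hq1T, hTn]
  obtain ⟨f, hF, T, hT, hTn⟩ := key (B + 1)
  have := hB f hF.1 hF.2.1 hF.2.2 T (hT.trans (Gd_subset_Z f))
  omega

theorem main [IsLocalRing R] (hc : CAlg.IsCatenary R) (J : Ideal R) (hJ : J.IsRadical)
    (hJ0 : J ≠ ⊥) : ∃ f ∈ J, f ≠ 0 ∧ IsReduced (R ⧸ Ideal.span {f}) := by
  classical
  obtain ⟨f0, hf0J, hf0⟩ := Submodule.exists_mem_ne_zero_of_ne_bot hJ0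
  by_cases hm : ∃ y ∈ maximalIdeal R, ∀ q ∈ Z f0, y ∉ q
  · obtain ⟨y, hym, hy⟩ := hm
    set J' := Ideal.span {f0, y} with hJ'
    have hfinQ : (J'.minimalPrimes).Finite := Ideal.finite_minimalPrimes_of_isNoetherianRing R _
    have hyJ' : y ∈ J' := Ideal.subset_span (by simp)
    have hf0J' : f0 ∈ J' := Ideal.subset_span (by simp)
    have hN : ∀ Q : Ideal R, ∃ N : ℕ, Q ∈ J'.minimalPrimes → ∀ T : Finset (Ideal R),
        (∀ q ∈ T, q.IsPrime ∧ q ≤ Q ∧ y ∉ q) →
        (∀ q ∈ T, ∀ q' ∈ T, q ≤ q' → q = q') → J' ≤ T.inf id ⊔ Ideal.span {y} → T.card ≤ N := by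
      intro Q
      by_cases hQ : Q ∈ J'.minimalPrimes
      · obtain ⟨N, hN⟩ := exists_bound_atPrime J' Q hQ y (hQ.1.2 hyJ')
        exact ⟨N, fun _ => hN⟩
      · exact ⟨0, fun h => absurd h hQ⟩
    choose N hN using hN
    refine exists_reduced_of_bound J hJ hJ0 f0 y hf0 hf0J hy (∑ Q ∈ hfinQ.toFinset, N Q) ?_
    intro f hf hfJ hfy T hT
    have hyF : ∀ q ∈ Z f, y ∉ q := by
      intro q hq hyq
      have h1 : f - f0 ∈ q := ((Ideal.span_singleton_le_iff_mem (I := q)).mpr hyq) hfy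
      have h2 : f0 ∈ q := by
        have : f0 = f - (f - f0) := by ring
        rw [this]; exact q.sub_mem hq.2 h1
      exact hy q ⟨hq.1, h2⟩ hyq
    have hf0mem : ∀ I : Ideal R, f ∈ I → f0 ∈ I ⊔ Ideal.span {y} := by
      intro I hfI
      have : f0 = f - (f - f0) := by ring
      rw [this]
      exact Ideal.sub_mem _ (Ideal.mem_sup_left hfI) (Ideal.mem_sup_right hfy)
    have hcov : ∀ q ∈ T, ∃ Q ∈ hfinQ.toFinset, q ≤ Q := by
      intro q hqT
      have hqZ : q ∈ Z f := hT hqT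
      haveI := hqZ.1.1
      have hle : q ⊔ Ideal.span {y} ≤ maximalIdeal R :=
        sup_le (IsLocalRing.le_maximalIdeal hqZ.1.1.ne_top)
          ((Ideal.span_singleton_le_iff_mem _).mpr hym)
      obtain ⟨Q, hQmin, _⟩ := Ideal.exists_minimalPrimes_le hle
      haveI : Q.IsPrime := hQmin.1.1
      have hht : Q.height ≤ q.height + 1 :=
        Groth.Agent.Lib.Helper18.CatHt.height_le_succ_of_mem_minimalPrimes R hc
          (Groth.Agent.Lib.Helper18.CatHt.isEquidim_of_isDomain R) y q Q hQmin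
      rw [hqZ.1.2] at hht
      have hqQ : q ≤ Q := le_sup_left.trans hQmin.1.2
      have hyQ : y ∈ Q := hQmin.1.2 (Ideal.mem_sup_right (Ideal.mem_span_singleton_self y))
      have hJ'Q : J' ≤ Q := by
        rw [hJ', Ideal.span_le]
        rintro z hz
        rcases hz with hz | hz
        · rw [hz]; exact hQmin.1.2 (hf0mem q hqZ.2)
        · rw [Set.mem_singleton_iff] at hz
          rw [hz]; exact hyQ
      obtain ⟨Q', hQ'min, hQ'Q⟩ := Ideal.exists_minimalPrimes_le hJ'Q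
      haveI : Q'.IsPrime := hQ'min.1.1
      have hf0Q' : f0 ∈ Q' := hQ'min.1.2 hf0J'
      have hyQ' : y ∈ Q' := hQ'min.1.2 hyJ'
      obtain ⟨q', hq'Z, hq'Q'⟩ := exists_mem_Z_le f0 hf0 Q' hf0Q'
      haveI := hq'Z.1.1
      have hlt : q' < Q' := lt_of_le_of_ne hq'Q' (fun h => hy q' hq'Z (h ▸ hyQ'))
      have h2 : q'.height + 1 ≤ Q'.height := Ideal.height_add_one_le_of_lt_of_isPrime hlt
      rw [hq'Z.1.2] at h2
      have hQQ : Q' = Q := by
        by_contra hne
        have hlt' : Q' < Q := lt_of_le_of_ne hQ'Q hne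
        have h3 : Q'.height + 1 ≤ Q.height := Ideal.height_add_one_le_of_lt_of_isPrime hlt'
        have h4 : (1 : ℕ∞) + 1 + 1 ≤ 1 + 1 := (add_le_add_left h2 1).trans (h3.trans hht)
        exact absurd h4 (by decide)
      refine ⟨Q, ?_, hqQ⟩
      rw [Set.Finite.mem_toFinset, ← hQQ]
      exact hQ'min
    have hsub : T ⊆ hfinQ.toFinset.biUnion (fun Q => T.filter (· ≤ Q)) := by
      intro q hqT
      obtain ⟨Q, hQ, hqQ⟩ := hcov q hqT
      rw [Finset.mem_biUnion]
      exact ⟨Q, hQ, Finset.mem_filter.mpr ⟨hqT, hqQ⟩⟩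
    calc T.card ≤ (hfinQ.toFinset.biUnion (fun Q => T.filter (· ≤ Q))).card :=
          Finset.card_le_card hsub
      _ ≤ ∑ Q ∈ hfinQ.toFinset, (T.filter (· ≤ Q)).card := Finset.card_biUnion_le
      _ ≤ ∑ Q ∈ hfinQ.toFinset, N Q := by
          refine Finset.sum_le_sum fun Q hQ => ?_
          rw [Set.Finite.mem_toFinset] at hQ
          refine hN Q hQ _ ?_ ?_ ?_
          · intro q hq
            rw [Finset.mem_filter] at hq
            have hqZ : q ∈ Z f := hT hq.1
            exact ⟨hqZ.1.1, hq.2, hyF q hqZ⟩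
          · intro q hq q' hq' hle
            rw [Finset.mem_filter] at hq hq'
            exact (hT hq.1).1.eq_of_le (hT hq'.1).1 hle
          · rw [hJ', Ideal.span_le]
            rintro z hz
            rcases hz with hz | hz
            · rw [hz]
              apply hf0mem
              rw [Submodule.mem_finsetInf]
              intro q hq
              rw [Finset.mem_filter] at hq
              exact (hT hq.1).2
            · rw [Set.mem_singleton_iff] at hz
              rw [hz]; exact Ideal.mem_sup_right (Ideal.mem_span_singleton_self y)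
  · push Not at hm
    have hmH1 : H1 (maximalIdeal R) := by
      set S := (Z_finite f0 hf0).toFinset with hS
      have hsub : ((maximalIdeal R : Ideal R) : Set R) ⊆
          ⋃ i ∈ (↑S : Set (Ideal R)), ((fun i => i) i : Ideal R) := by
        intro y hy
        obtain ⟨q, hq, hyq⟩ := hm y hy
        simp only [Set.mem_iUnion]
        exact ⟨q, by simpa [hS] using hq, hyq⟩
      obtain ⟨q, hqS, hmq⟩ := (Ideal.subset_union_prime (f := fun i : Ideal R => i) ⊥ ⊥
        (fun i hi _ _ => by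
          have : i ∈ Z f0 := by simpa [hS] using hi
          exact this.1.1)).mp hsub
      have hqZ : q ∈ Z f0 := by simpa [hS] using hqS
      haveI := hqZ.1.1
      have : q = maximalIdeal R := le_antisymm (IsLocalRing.le_maximalIdeal hqZ.1.1.ne_top) hmq
      rw [← this]; exact hqZ.1
    refine exists_reduced_of_bound J hJ hJ0 f0 1 hf0 hf0J
      (fun q hq h1 => hq.1.1.ne_top ((Ideal.eq_top_iff_one _).mpr h1)) 1 ?_
    intro f hf hfJ _ T hT
    rw [Finset.card_le_one]
    intro a ha b hb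
    have h1 : ∀ q ∈ T, q = maximalIdeal R := fun q hq =>
      (hT hq).1.eq_of_le hmH1 (IsLocalRing.le_maximalIdeal (hT hq).1.1.ne_top)
    rw [h1 a ha, h1 b hb]

end Main

end Groth.Agent.Lib.Helper11.PRad
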