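import Mathlib
import Groth.Prelude.Def_EGA41
import Groth.Agent.Lib.Helper23.PBasisDer

/-!
# Towers of `p`-bases (helper11)

A set-theoretic formulation of linear independence / spanning with coefficients in a subset of a
commutative ring, tower lemmas for it, and the translation to `EGA41.IsPIndependent` /
`EGA41.IsPGenerating`.
-/

set_option autoImplicit false
universe u
open EGA41

namespace Groth.Agent.Lib.Helper11.PTower

section Framework

variable {B : Type*} [CommRing B]

/-- `v` is linearly independent with respect to coefficients in the set `S`. -/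
def LIO {ι : Type*} (S : Set B) (v : ι → B) : Prop :=
  ∀ (s : Finset ι) (g : ι → B), (∀ i ∈ s, g i ∈ S) → ∑ i ∈ s, g i * v i = 0 → ∀ i ∈ s, g i = 0

/-- every element of `T` is a combination of the `v i` with coefficients in the set `S`. -/
def SPO {ι : Type*} (S : Set B) (v : ι → B) (T : Set B) : Prop :=
  ∀ b ∈ T, ∃ (s : Finset ι) (g : ι → B), (∀ i ∈ s, g i ∈ S) ∧ b = ∑ i ∈ s, g i * v i

theorem linearIndependent_iff_LIO {R : Type*} [CommRing R] [Algebra R B] (S : Subalgebra R B)
    {ι : Type*} (v : ι → B) : LinearIndependent S v ↔ LIO (S : Set B) v := by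
  classical
  rw [linearIndependent_iff']
  constructor
  · intro h s g hg hsum
    let g' : ι → S := fun i => if hi : g i ∈ S then ⟨g i, hi⟩ else 0
    have hg' : ∀ i ∈ s, (g' i : B) = g i := fun i hi => by
      have : g i ∈ S := hg i hi
      simp [g', this]
    have h1 := h s g' (by
      rw [← hsum]
      refine Finset.sum_congr rfl fun i hi => ?_
      rw [Subalgebra.smul_def, hg' i hi, smul_eq_mul])
    intro i hi
    rw [← hg' i hi, h1 i hi]; rfl
  · intro h s g hsum i hi
    have h1 := h s (fun i => (g i : B)) (fun i _ => (g i).2) (by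
      rw [← hsum]
      refine Finset.sum_congr rfl fun i _ => ?_
      rw [Subalgebra.smul_def, smul_eq_mul]) i hi
    exact Subtype.ext h1

theorem span_eq_top_iff_SPO {R : Type*} [CommRing R] [Algebra R B] (S : Subalgebra R B)
    {ι : Type*} (v : ι → B) :
    Submodule.span S (Set.range v) = ⊤ ↔ SPO (S : Set B) v Set.univ := by
  classical
  constructor
  · intro h b _
    have hb : b ∈ Submodule.span S (Set.range v) := by rw [h]; trivial
    obtain ⟨c, rfl⟩ := (Finsupp.mem_span_range_iff_exists_finsupp).1 hb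
    refine ⟨c.support, fun i => (c i : B), fun i _ => (c i).2, ?_⟩
    rw [Finsupp.sum]
    refine Finset.sum_congr rfl fun i _ => ?_
    rw [Subalgebra.smul_def, smul_eq_mul]
  · intro h
    rw [Submodule.eq_top_iff']
    intro b
    obtain ⟨s, g, hg, rfl⟩ := h b trivial
    refine Submodule.sum_mem _ fun i hi => ?_
    have : g i * v i = (⟨g i, hg i hi⟩ : S) • v i := by
      rw [Subalgebra.smul_def, smul_eq_mul]
    rw [this]
    exact Submodule.smul_mem _ _ (Submodule.subset_span ⟨i, rfl⟩)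

theorem LIO.congr_set {ι : Type*} {S S' : Set B} {v : ι → B} (h : LIO S v) (hS : S' ⊆ S) :
    LIO S' v := fun s g hg hsum => h s g (fun i hi => hS (hg i hi)) hsum

theorem SPO.mono {ι : Type*} {S S' T T' : Set B} {v : ι → B} (h : SPO S v T) (hS : S ⊆ S')
    (hT : T' ⊆ T) : SPO S' v T' := fun b hb => by
  obtain ⟨s, g, hg, rfl⟩ := h b (hT hb)
  exact ⟨s, g, fun i hi => hS (hg i hi), rfl⟩

theorem LIO.reindex {ι κ : Type*} {S : Set B} {v : ι → B} (σ : κ ≃ ι) (h : LIO S v) :
    LIO S (v ∘ σ) := by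
  classical
  intro s g hg hsum i hi
  have := h (s.map σ.toEmbedding) (g ∘ σ.symm) (by
    intro j hj
    obtain ⟨i, hi, rfl⟩ := Finset.mem_map.1 hj
    simpa using hg i hi) (by
    rw [Finset.sum_map]
    simpa using hsum) (σ i) (Finset.mem_map_of_mem _ hi)
  simpa using this

theorem SPO.reindex {ι κ : Type*} {S T : Set B} {v : ι → B} (σ : κ ≃ ι) (h : SPO S v T) :
    SPO S (v ∘ σ) T := by
  classical
  intro b hb
  obtain ⟨s, g, hg, rfl⟩ := h b hb
  refine ⟨s.map σ.symm.toEmbedding, g ∘ σ, ?_, ?_⟩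
  · intro j hj
    obtain ⟨i, hi, rfl⟩ := Finset.mem_map.1 hj
    simpa using hg i hi
  · rw [Finset.sum_map]
    simp

section Tower

variable {E F : Type*}

/-- spanning in towers -/
theorem SPO.tower {S₀ S₁ T : Set B} {u : E → B} {v : F → B} (h0 : (0 : B) ∈ S₀)
    (hu : SPO S₀ u S₁) (hv : SPO S₁ v T) :
    SPO S₀ (fun ef : E × F => u ef.1 * v ef.2) T := by
  classical
  intro b hb
  obtain ⟨s₂, t, ht, rfl⟩ := hv b hb
  have h : ∀ f : F, ∃ (sf : Finset E) (gf : E → B), (∀ e ∈ sf, gf e ∈ S₀) ∧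
      (f ∈ s₂ → t f = ∑ e ∈ sf, gf e * u e) := by
    intro f
    by_cases hf : f ∈ s₂
    · obtain ⟨sf, gf, hgf, h1⟩ := hu (t f) (ht f hf)
      exact ⟨sf, gf, hgf, fun _ => h1⟩
    · exact ⟨∅, fun _ => 0, by simp, fun h => absurd h hf⟩
  choose sf gf hgf hsum using h
  let s₁ : Finset E := s₂.biUnion sf
  let G : E × F → B := fun ef => if ef.1 ∈ sf ef.2 then gf ef.2 ef.1 else 0
  refine ⟨s₁ ×ˢ s₂, G, ?_, ?_⟩
  · intro ef _
    by_cases h1 : ef.1 ∈ sf ef.2
    · simp only [G, h1, if_true]; exact hgf _ _ h1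
    · simp only [G, h1, if_false]; exact h0
  · rw [Finset.sum_product_right]
    refine Finset.sum_congr rfl fun f hf => ?_
    rw [hsum f hf, Finset.sum_mul]
    have hsub : sf f ⊆ s₁ := Finset.subset_biUnion_of_mem sf hf
    rw [← Finset.sum_subset hsub]
    · refine Finset.sum_congr rfl fun e he => ?_
      simp only [G, he, if_true]; ring
    · intro e _ he
      simp only [G, he, if_false]; ring

/-- independence in towers -/
theorem LIO.tower {S₀ : Set B} (S₁ : Subring B) {u : E → B} {v : F → B} (h0 : (0 : B) ∈ S₀)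
    (hsub : S₀ ⊆ S₁) (hu1 : ∀ e, u e ∈ S₁) (hu : LIO S₀ u) (hv : LIO (S₁ : Set B) v) :
    LIO S₀ (fun ef : E × F => u ef.1 * v ef.2) := by
  classical
  intro s g hg hsum
  let s₁ : Finset E := s.image Prod.fst
  let s₂ : Finset F := s.image Prod.snd
  let g' : E × F → B := fun ef => if ef ∈ s then g ef else 0
  have hss : s ⊆ s₁ ×ˢ s₂ := fun ef hef =>
    Finset.mem_product.2 ⟨Finset.mem_image_of_mem _ hef, Finset.mem_image_of_mem _ hef⟩
  have hsum' : ∑ ef ∈ s₁ ×ˢ s₂, g' ef * (u ef.1 * v ef.2) = 0 := by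
    rw [← Finset.sum_subset hss]
    · rw [← hsum]
      refine Finset.sum_congr rfl fun ef hef => ?_
      simp only [g', hef, if_true]
    · intro ef _ hef
      simp only [g', hef, if_false, zero_mul]
  have hg' : ∀ ef, g' ef ∈ S₀ := fun ef => by
    by_cases h1 : ef ∈ s
    · simp only [g', h1, if_true]; exact hg ef h1
    · simp only [g', h1, if_false]; exact h0
  rw [Finset.sum_product_right] at hsum'
  have hc : ∀ f ∈ s₂, ∑ e ∈ s₁, g' (e, f) * u e = 0 := by
    refine hv s₂ (fun f => ∑ e ∈ s₁, g' (e, f) * u e) (fun f _ => ?_) ?_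
    · exact Subring.sum_mem _ fun e _ => Subring.mul_mem _ (hsub (hg' _)) (hu1 e)
    · rw [← hsum']
      refine Finset.sum_congr rfl fun f _ => ?_
      rw [Finset.sum_mul]
      refine Finset.sum_congr rfl fun e _ => ?_
      ring
  intro ef hef
  have h1 := hu s₁ (fun e => g' (e, ef.2)) (fun e _ => hg' _)
    (hc ef.2 (Finset.mem_image_of_mem _ hef)) ef.1 (Finset.mem_image_of_mem _ hef)
  simpa [g', hef] using h1

/-- independence descends from a tower when the bottom family spans -/
theorem LIO.of_tower {S₀ S₁ : Set B} {u : E → B} {v : F → B} (h0 : (0 : B) ∈ S₀)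
    (hu : SPO S₀ u S₁) (huv : LIO S₀ (fun ef : E × F => u ef.1 * v ef.2)) : LIO S₁ v := by
  classical
  intro s₂ t ht hsum0
  have h : ∀ f : F, ∃ (sf : Finset E) (gf : E → B), (∀ e ∈ sf, gf e ∈ S₀) ∧
      (f ∈ s₂ → t f = ∑ e ∈ sf, gf e * u e) := by
    intro f
    by_cases hf : f ∈ s₂
    · obtain ⟨sf, gf, hgf, h1⟩ := hu (t f) (ht f hf)
      exact ⟨sf, gf, hgf, fun _ => h1⟩
    · exact ⟨∅, fun _ => 0, by simp, fun h => absurd h hf⟩
  choose sf gf hgf hsum using h
  let s₁ : Finset E := s₂.biUnion sf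
  let G : E × F → B := fun ef => if ef.1 ∈ sf ef.2 then gf ef.2 ef.1 else 0
  have hG : ∀ ef ∈ s₁ ×ˢ s₂, G ef = 0 := by
    refine huv (s₁ ×ˢ s₂) G ?_ ?_
    · intro ef _
      by_cases h1 : ef.1 ∈ sf ef.2
      · simp only [G, h1, if_true]; exact hgf _ _ h1
      · simp only [G, h1, if_false]; exact h0
    · rw [← hsum0, Finset.sum_product_right]
      refine Finset.sum_congr rfl fun f hf => ?_
      rw [hsum f hf, Finset.sum_mul]
      have hsub : sf f ⊆ s₁ := Finset.subset_biUnion_of_mem sf hf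
      rw [← Finset.sum_subset hsub]
      · refine Finset.sum_congr rfl fun e he => ?_
        simp only [G, he, if_true]; ring
      · intro e _ he
        simp only [G, he, if_false]; ring
  intro f hf
  rw [hsum f hf]
  refine Finset.sum_eq_zero fun e he => ?_
  have hsub : sf f ⊆ s₁ := Finset.subset_biUnion_of_mem sf hf
  have := hG (e, f) (Finset.mem_product.2 ⟨hsub he, hf⟩)
  simp only [G, he, if_true] at this
  rw [this, zero_mul]

end Tower

section Transfer

variable {B' : Type*} [CommRing B'] {ι : Type*}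

theorem LIO.map (φ : B →+* B') (hφ : Function.Injective φ) {S : Set B} {v : ι → B}
    (h : LIO S v) : LIO (φ '' S) (fun i => φ (v i)) := by
  classical
  intro s g hg hsum
  have hpre : ∀ i, ∃ a : B, i ∈ s → (a ∈ S ∧ φ a = g i) := fun i => by
    by_cases hi : i ∈ s
    · obtain ⟨a, ha, h1⟩ := hg i hi
      exact ⟨a, fun _ => ⟨ha, h1⟩⟩
    · exact ⟨0, fun h => absurd h hi⟩
  choose a ha using hpre
  have h1 : ∑ i ∈ s, a i * v i = 0 := by
    apply hφ
    rw [map_sum, map_zero, ← hsum]
    refine Finset.sum_congr rfl fun i hi => ?_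
    rw [map_mul, (ha i hi).2]
  intro i hi
  rw [← (ha i hi).2, h s a (fun i hi => (ha i hi).1) h1 i hi, map_zero]

theorem LIO.comap (φ : B →+* B') (hφ : Function.Injective φ) {S : Set B} {v : ι → B}
    (h : LIO (φ '' S) (fun i => φ (v i))) : LIO S v := by
  intro s g hg hsum i hi
  apply hφ
  rw [map_zero]
  refine h s (fun i => φ (g i)) (fun i hi => ⟨g i, hg i hi, rfl⟩) ?_ i hi
  rw [← map_zero φ, ← hsum, map_sum]
  refine Finset.sum_congr rfl fun i _ => ?_
  rw [map_mul]

theorem SPO.map (φ : B →+* B') {S T : Set B} {v : ι → B} (h : SPO S v T) :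
    SPO (φ '' S) (fun i => φ (v i)) (φ '' T) := by
  rintro _ ⟨b, hb, rfl⟩
  obtain ⟨s, g, hg, rfl⟩ := h b hb
  refine ⟨s, fun i => φ (g i), fun i hi => ⟨g i, hg i hi, rfl⟩, ?_⟩
  rw [map_sum]
  refine Finset.sum_congr rfl fun i _ => ?_
  rw [map_mul]

theorem SPO.comap (φ : B →+* B') (hφ : Function.Injective φ) {S T : Set B} {v : ι → B}
    (h : SPO (φ '' S) (fun i => φ (v i)) (φ '' T)) : SPO S v T := by
  classical
  intro b hb
  obtain ⟨s, g, hg, hsum⟩ := h (φ b) ⟨b, hb, rfl⟩
  have hpre : ∀ i, ∃ a : B, i ∈ s → (a ∈ S ∧ φ a = g i) := fun i => by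
    by_cases hi : i ∈ s
    · obtain ⟨a, ha, h1⟩ := hg i hi
      exact ⟨a, fun _ => ⟨ha, h1⟩⟩
    · exact ⟨0, fun h => absurd h hi⟩
  choose a ha using hpre
  refine ⟨s, a, fun i hi => (ha i hi).1, ?_⟩
  apply hφ
  rw [hsum, map_sum]
  refine Finset.sum_congr rfl fun i hi => ?_
  rw [map_mul, (ha i hi).2]

end Transfer

end Framework

section PB

variable (p : ℕ)

/-- reduced exponent vectors -/
abbrev Red (ι : Type u) : Type u := {e : ι →₀ ℕ // ∀ i, e i < p}

theorem isPIndependent_iff_LIO {A B : Type u} [CommRing A] [CommRing B] [Algebra A B]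
    {ι : Type u} (x : ι → B) :
    IsPIndependent p A x ↔
      LIO (pPowerSubalgebra p A B : Set B) (fun e : Red p ι => pMonomial x e.1) :=
  linearIndependent_iff_LIO _ _

theorem isPGenerating_iff_SPO {A B : Type u} [CommRing A] [CommRing B] [Algebra A B]
    {ι : Type u} (x : ι → B) :
    IsPGenerating p A x ↔
      SPO (pPowerSubalgebra p A B : Set B) (fun e : Red p ι => pMonomial x e.1) Set.univ :=
  span_eq_top_iff_SPO _ _

theorem pMonomial_sumElim {B : Type u} [CommRing B] {ι κ : Type u} (a : ι → B) (b : κ → B)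
    (e : ι →₀ ℕ) (f : κ →₀ ℕ) :
    pMonomial (Sum.elim a b) (Finsupp.sumElim e f) = pMonomial a e * pMonomial b f := by
  unfold pMonomial
  rw [Finsupp.prod_sumElim]
  rfl

/-- the index equivalence for sums of families -/
noncomputable def sumIdx (ι κ : Type u) : (Red p ι × Red p κ) ≃ Red p (ι ⊕ κ) where
  toFun ef := ⟨Finsupp.sumElim ef.1.1 ef.2.1, fun i => by
    rcases i with i | i
    · exact ef.1.2 i
    · exact ef.2.2 i⟩
  invFun g := (⟨(Finsupp.sumFinsuppEquivProdFinsupp g.1).1, fun i => by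
      rw [Finsupp.fst_sumFinsuppEquivProdFinsupp]; exact g.2 _⟩,
    ⟨(Finsupp.sumFinsuppEquivProdFinsupp g.1).2, fun i => by
      rw [Finsupp.snd_sumFinsuppEquivProdFinsupp]; exact g.2 _⟩)
  left_inv ef := by
    rcases ef with ⟨⟨e, he⟩, ⟨f, hf⟩⟩
    ext <;> simp
  right_inv g := by
    rcases g with ⟨g, hg⟩
    ext (i | i) <;> simp

theorem sumIdx_apply_val (ι κ : Type u) (ef : Red p ι × Red p κ) :
    (sumIdx p ι κ ef).1 = Finsupp.sumElim ef.1.1 ef.2.1 := rfl

theorem LIO_sum_iff {B : Type u} [CommRing B] {ι κ : Type u} (S : Set B) (a : ι → B)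
    (b : κ → B) :
    LIO S (fun g : Red p (ι ⊕ κ) => pMonomial (Sum.elim a b) g.1) ↔
      LIO S (fun ef : Red p ι × Red p κ => pMonomial a ef.1.1 * pMonomial b ef.2.1) := by
  have key : (fun g : Red p (ι ⊕ κ) => pMonomial (Sum.elim a b) g.1) ∘ (sumIdx p ι κ) =
      fun ef : Red p ι × Red p κ => pMonomial a ef.1.1 * pMonomial b ef.2.1 := by
    funext ef
    simp only [Function.comp_apply, sumIdx_apply_val, pMonomial_sumElim]
  constructor
  · intro h
    rw [← key]
    exact h.reindex (sumIdx p ι κ)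
  · intro h
    have h2 := h.reindex (sumIdx p ι κ).symm
    rw [← key] at h2
    convert h2 using 1
    funext g
    simp

theorem SPO_sum_iff {B : Type u} [CommRing B] {ι κ : Type u} (S T : Set B) (a : ι → B)
    (b : κ → B) :
    SPO S (fun g : Red p (ι ⊕ κ) => pMonomial (Sum.elim a b) g.1) T ↔
      SPO S (fun ef : Red p ι × Red p κ => pMonomial a ef.1.1 * pMonomial b ef.2.1) T := by
  have key : (fun g : Red p (ι ⊕ κ) => pMonomial (Sum.elim a b) g.1) ∘ (sumIdx p ι κ) =
      fun ef : Red p ι × Red p κ => pMonomial a ef.1.1 * pMonomial b ef.2.1 := by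
    funext ef
    simp only [Function.comp_apply, sumIdx_apply_val, pMonomial_sumElim]
  constructor
  · intro h
    rw [← key]
    exact h.reindex (sumIdx p ι κ)
  · intro h
    have h2 := h.reindex (sumIdx p ι κ).symm
    rw [← key] at h2
    convert h2 using 1
    funext g
    simp

end PB

section Main

open Groth.Agent.Lib.Helper23.PBasis Groth.Agent.Lib.Helper23.PBasisDer

variable (p : ℕ) {A C B : Type u} [CommRing A] [CommRing C] [CommRing B] [Algebra A C]
  [Algebra C B] [Algebra A B] [IsScalarTower A C B]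

theorem coe_pPower_eq_range {A B : Type u} [CommRing A] [CommRing B] [Algebra A B]
    (hpow : ∀ b : B, b ^ p ∈ Set.range (algebraMap A B)) :
    (pPowerSubalgebra p A B : Set B) = Set.range (algebraMap A B) :=
  Set.ext fun b => mem_pPower_iff p hpow b

include A in
theorem hpow_mid (hpow : ∀ b : B, b ^ p ∈ Set.range (algebraMap A B)) (b : B) :
    b ^ p ∈ Set.range (algebraMap C B) := by
  obtain ⟨a, ha⟩ := hpow b
  exact ⟨algebraMap A C a, by rw [← IsScalarTower.algebraMap_apply, ha]⟩

theorem image_pPower_eq_range (hpow : ∀ b : B, b ^ p ∈ Set.range (algebraMap A B)) :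
    (algebraMap C B) '' (pPowerSubalgebra p A C : Set C) = Set.range (algebraMap A B) := by
  apply Set.Subset.antisymm
  · rintro _ ⟨c, hc, rfl⟩
    have hle : pPowerSubalgebra p A C ≤
        Subalgebra.comap (IsScalarTower.toAlgHom A C B) (⊥ : Subalgebra A B) := by
      apply Algebra.adjoin_le
      rintro _ ⟨c, rfl⟩
      show (IsScalarTower.toAlgHom A C B) (c ^ p) ∈ (⊥ : Subalgebra A B)
      rw [map_pow]
      exact Algebra.mem_bot.mpr (hpow _)
    exact Algebra.mem_bot.mp (hle hc)
  · rintro _ ⟨a, rfl⟩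
    exact ⟨algebraMap A C a, Subalgebra.algebraMap_mem _ a,
      (IsScalarTower.algebraMap_apply A C B a).symm⟩

variable {ι κ : Type u} (x : ι → C) (y : κ → B)

theorem map_pMonomial_fun :
    (fun e : Red p ι => algebraMap C B (pMonomial x e.1)) =
      fun e : Red p ι => pMonomial (fun i => algebraMap C B (x i)) e.1 := by
  funext e
  exact map_pMonomial (algebraMap C B) x e.1

/-- EGA 0_IV 21.1.x (i): p-generators in a tower. -/
theorem isPGenerating_tower (hpow : ∀ b : B, b ^ p ∈ Set.range (algebraMap A B))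
    (hx : IsPGenerating p A x) (hy : IsPGenerating p C y) :
    IsPGenerating p A (Sum.elim (fun i => algebraMap C B (x i)) y) := by
  rw [isPGenerating_iff_SPO] at hx hy ⊢
  rw [SPO_sum_iff, coe_pPower_eq_range p hpow]
  rw [coe_pPower_eq_range p (hpow_mid (A := A) p hpow)] at hy
  have hx' := hx.map (algebraMap C B)
  rw [image_pPower_eq_range p hpow, Set.image_univ, map_pMonomial_fun] at hx'
  exact SPO.tower (u := fun e : Red p ι => pMonomial (fun i => algebraMap C B (x i)) e.1) (v := fun f : Red p κ => pMonomial y f.1) (Set.mem_range.2 ⟨0, map_zero _⟩) hx' hy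

/-- EGA 0_IV 21.1.x (ii): p-independence in a tower over a p-basis. -/
theorem isPIndependent_tower_iff (hinj : Function.Injective (algebraMap C B))
    (hpow : ∀ b : B, b ^ p ∈ Set.range (algebraMap A B)) (hx : IsPBasis p A x) :
    IsPIndependent p C y ↔
      IsPIndependent p A (Sum.elim (fun i => algebraMap C B (x i)) y) := by
  obtain ⟨hx1, hx2⟩ := hx
  rw [isPIndependent_iff_LIO] at hx1 ⊢
  rw [isPGenerating_iff_SPO] at hx2
  rw [isPIndependent_iff_LIO, LIO_sum_iff, coe_pPower_eq_range p hpow,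
    coe_pPower_eq_range p (hpow_mid (A := A) p hpow)]
  have hx1' := hx1.map (algebraMap C B) hinj
  rw [image_pPower_eq_range p hpow, map_pMonomial_fun] at hx1'
  have hx2' := hx2.map (algebraMap C B)
  rw [image_pPower_eq_range p hpow, Set.image_univ, map_pMonomial_fun] at hx2'
  constructor
  · intro hy
    refine LIO.tower (u := fun e : Red p ι => pMonomial (fun i => algebraMap C B (x i)) e.1) (v := fun f : Red p κ => pMonomial y f.1) (algebraMap C B).range (Set.mem_range.2 ⟨0, map_zero _⟩) ?_ ?_ hx1' ?_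
    · rintro _ ⟨a, rfl⟩
      exact ⟨algebraMap A C a, (IsScalarTower.algebraMap_apply A C B a).symm⟩
    · intro e
      rw [← map_pMonomial]
      exact ⟨_, rfl⟩
    · simpa using hy
  · intro h
    exact LIO.of_tower (u := fun e : Red p ι => pMonomial (fun i => algebraMap C B (x i)) e.1) (v := fun f : Red p κ => pMonomial y f.1) (Set.mem_range.2 ⟨0, map_zero _⟩) hx2' h

end Main

end Groth.Agent.Lib.Helper11.PTower
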