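import Mathlib
import Groth.Prelude.Def_EGA41
import Groth.Agent.Lib.Helper11.PTower

/-!
# p-bases and absolute differentials (helper11)

* `exists_basis_kaehler_int`: if `x` is a `p`-basis of `B` over `K` and the image of `K` consists
  of `p`-th powers, then the `d x_i` form a basis of `Ω[B⁄ℤ]`.
* `exists_basis_ker`: kernel of a linear map killing the left half of a basis and sending the right
  half to an independent family.
-/

set_option autoImplicit false
universe u
open EGA41

namespace Groth.Agent.Lib.Helper11.PTower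

open Groth.Agent.Lib.Helper23.PBasis Groth.Agent.Lib.Helper23.PBasisDer

section KaehlerInt

variable (p : ℕ) [Fact p.Prime] {K B : Type u} [CommRing K] [CommRing B] [Algebra K B] [CharP B p]
  {ι : Type u} (x : ι → B)

omit [Fact p.Prime] in
theorem intDerivation_eq_zero_of_mem_pPower {L : Type u} [AddCommGroup L] [Module B L]
    (hK : ∀ k : K, ∃ b : B, algebraMap K B k = b ^ p) (d : Derivation ℤ B L) (b : B)
    (hb : b ∈ pPowerSubalgebra p K B) : d b = 0 := by
  have hpow : ∀ c : B, d (c ^ p) = 0 := fun c => by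
    rw [Derivation.leibniz_pow]
    have : (p : ℕ) • (c ^ (p - 1) • d c) = ((p : ℕ) : B) • (c ^ (p - 1) • d c) := by
      rw [Nat.cast_smul_eq_nsmul]
    rw [this, CharP.cast_eq_zero, zero_smul]
  unfold pPowerSubalgebra at hb
  induction hb using Algebra.adjoin_induction with
  | mem b hb =>
    obtain ⟨c, rfl⟩ := hb
    exact hpow c
  | algebraMap a =>
    obtain ⟨c, hc⟩ := hK a
    rw [hc]; exact hpow c
  | add b c _ _ hb hc => rw [map_add, hb, hc, add_zero]
  | mul b c _ _ hb hc => rw [Derivation.leibniz, hb, hc, smul_zero, smul_zero, add_zero]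

/-- the differentials of a `p`-basis over a ring of `p`-th powers form a basis of `Ω[B⁄ℤ]`. -/
theorem exists_basis_kaehler_int (hK : ∀ k : K, ∃ b : B, algebraMap K B k = b ^ p)
    (hx : IsPBasis p K x) :
    ∃ b : Module.Basis ι B (Ω[B⁄ℤ]), ∀ i, b i = KaehlerDifferential.D ℤ B (x i) := by
  classical
  obtain ⟨D₀, hD₀0, hD₀⟩ := exists_derivation_of_pBasis p x hx (L := ι →₀ B) 0
    (by intro s t; simp) (by intro q; simp) (fun i => Finsupp.single i 1)
  let ψ : Ω[B⁄ℤ] →ₗ[B] (ι →₀ B) := D₀.liftKaehlerDifferential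
  let φ : (ι →₀ B) →ₗ[B] Ω[B⁄ℤ] :=
    Finsupp.linearCombination B (fun i => KaehlerDifferential.D ℤ B (x i))
  have hψ : ∀ b, ψ (KaehlerDifferential.D ℤ B b) = D₀ b := fun b =>
    Derivation.liftKaehlerDifferential_comp_D D₀ b
  have h1 : ψ ∘ₗ φ = LinearMap.id := by
    apply Finsupp.lhom_ext'
    intro i
    apply LinearMap.ext_ring
    simp [φ, hψ, hD₀]
  have h2 : φ ∘ₗ ψ = LinearMap.id := by
    have hder : (φ ∘ₗ ψ).compDer (KaehlerDifferential.D ℤ B) = KaehlerDifferential.D ℤ B := by
      apply derivation_ext_of_pGenerating p x hx.2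
      · intro s
        rw [intDerivation_eq_zero_of_mem_pPower p hK _ s.1 s.2,
          intDerivation_eq_zero_of_mem_pPower p hK _ s.1 s.2]
      · intro i
        simp [φ, hψ, hD₀]
    apply LinearMap.ext
    intro ω
    have hω : ω ∈ Submodule.span B (Set.range (KaehlerDifferential.D ℤ B)) := by
      rw [KaehlerDifferential.span_range_derivation]; trivial
    induction hω using Submodule.span_induction with
    | mem ω hω =>
      obtain ⟨b, rfl⟩ := hω
      exact congrArg (fun d : Derivation ℤ B (Ω[B⁄ℤ]) => d b) hder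
    | zero => simp
    | add ω₁ ω₂ _ _ h₁ h₂ => rw [map_add, h₁, h₂, map_add]
    | smul c ω _ h => rw [map_smul, h, map_smul]
  refine ⟨Module.Basis.ofRepr (LinearEquiv.ofLinearMap ψ φ h1 h2), fun i => ?_⟩
  simp [Module.Basis.ofRepr, φ]

end KaehlerInt

section KerBasis

variable {B N P : Type*} [CommRing B] [AddCommGroup N] [Module B N] [AddCommGroup P] [Module B P]
  {Λ M : Type*}

/-- a linear map killing the left half of a basis and sending the right half to an independent
family has kernel with basis the left half. -/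
theorem exists_basis_ker (f : N →ₗ[B] P) (bN : Module.Basis (Λ ⊕ M) B N)
    (h0 : ∀ l, f (bN (Sum.inl l)) = 0)
    (hli : LinearIndependent B (fun m => f (bN (Sum.inr m)))) :
    ∃ b : Module.Basis Λ B (LinearMap.ker f), ∀ l, (b l : N) = bN (Sum.inl l) := by
  classical
  let v : Λ → LinearMap.ker f := fun l => ⟨bN (Sum.inl l), h0 l⟩
  have hv : LinearIndependent B v := by
    apply LinearIndependent.of_comp (LinearMap.ker f).subtype
    have : (LinearMap.ker f).subtype ∘ v = bN ∘ Sum.inl := rfl
    rw [this]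
    exact bN.linearIndependent.comp _ Sum.inl_injective
  have hsp : ⊤ ≤ Submodule.span B (Set.range v) := by
    rintro ⟨n, hn⟩ -
    set c := bN.repr n with hc
    have hn' : n = ∑ j ∈ c.support, c j • bN j := by
      conv_lhs => rw [← bN.linearCombination_repr n]
      rw [Finsupp.linearCombination_apply, Finsupp.sum]
    have hsplit : c.support = c.support.toLeft.disjSum c.support.toRight :=
      (Finset.toLeft_disjSum_toRight).symm
    have hfn : ∑ m ∈ c.support.toRight, c (Sum.inr m) • f (bN (Sum.inr m)) = 0 := by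
      have h1 : f n = 0 := hn
      rw [hn', map_sum, hsplit, Finset.sum_disjSum] at h1
      have h2 : ∑ l ∈ c.support.toLeft, f (c (Sum.inl l) • bN (Sum.inl l)) = 0 :=
        Finset.sum_eq_zero fun l _ => by rw [map_smul, h0, smul_zero]
      rw [h2, zero_add] at h1
      rw [← h1]
      refine Finset.sum_congr rfl fun m _ => ?_
      rw [map_smul]
    have hcr : ∀ m ∈ c.support.toRight, c (Sum.inr m) = 0 :=
      linearIndependent_iff'.1 hli _ (fun m => c (Sum.inr m)) hfn
    have hempty : c.support.toRight = ∅ := by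
      apply Finset.eq_empty_of_forall_notMem
      intro m hm
      have h1 := hcr m hm
      rw [Finset.mem_toRight, Finsupp.mem_support_iff] at hm
      exact hm h1
    have hn'' : n = ∑ l ∈ c.support.toLeft, c (Sum.inl l) • bN (Sum.inl l) := by
      conv_lhs => rw [hn', hsplit, Finset.sum_disjSum, hempty, Finset.sum_empty, add_zero]
    have hmem : (⟨n, hn⟩ : LinearMap.ker f) =
        ∑ l ∈ c.support.toLeft, c (Sum.inl l) • v l := by
      apply Subtype.ext
      rw [Submodule.coe_sum]
      show n = _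
      rw [hn'']
      rfl
    rw [hmem]
    exact Submodule.sum_mem _ fun l _ =>
      Submodule.smul_mem _ _ (Submodule.subset_span ⟨l, rfl⟩)
  refine ⟨Module.Basis.mk hv hsp, fun l => ?_⟩
  rw [Module.Basis.mk_apply]

end KerBasis

section Frob

variable (p : ℕ) [Fact p.Prime] {R A B : Type u} [CommRing R] [CommRing A] [CommRing B]
  [IsReduced B] [Algebra R A] [Algebra A B] [Algebra R B] [IsScalarTower R A B] [CharP B p]
  [CharP A p]

/-- the subring of `p`-th powers of a ring of characteristic `p` -/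
abbrev PthPowers (A : Type u) [CommRing A] [CharP A p] : Subring A := (frobenius A p).range

theorem range_algebraMap_pthPowers :
    Set.range (algebraMap (PthPowers p A) A) = Set.range (fun a : A => a ^ p) := by
  ext a
  constructor
  · rintro ⟨⟨_, b, rfl⟩, rfl⟩
    exact ⟨b, rfl⟩
  · rintro ⟨b, rfl⟩
    exact ⟨⟨b ^ p, b, rfl⟩, rfl⟩

theorem coe_pPower_pthPowers :
    (pPowerSubalgebra p (PthPowers p A) A : Set A) = Set.range (fun a : A => a ^ p) := by
  rw [coe_pPower_eq_range p (fun a => ⟨⟨a ^ p, a, rfl⟩, rfl⟩), range_algebraMap_pthPowers]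

variable {Λ M : Type u}

theorem isPBasis_pthPowers (hinj : Function.Injective (algebraMap A B))
    (hpow : ∀ b : B, b ^ p ∈ Set.range (algebraMap A B))
    (hR : Set.range (algebraMap R B) = Set.range fun b : B => b ^ p)
    (x : Λ → B) (hx : IsPBasis p A x) (x' : Λ → A)
    (hx' : ∀ i, algebraMap A B (x' i) = x i ^ p) (y : M → A) (hy : IsPBasis p R y) :
    IsPBasis p (PthPowers p A) (Sum.elim x' y) := by
  -- the sets
  set S₀ : Set A := Set.range (fun a : A => a ^ p) with hS₀
  set S₁ : Set A := Set.range (algebraMap R A) with hS₁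
  have hpowRA : ∀ a : A, a ^ p ∈ Set.range (algebraMap R A) := by
    intro a
    have h1 : (algebraMap A B a) ^ p ∈ Set.range (algebraMap R B) := by
      rw [hR]; exact ⟨_, rfl⟩
    obtain ⟨r, hr⟩ := h1
    refine ⟨r, hinj ?_⟩
    rw [← IsScalarTower.algebraMap_apply, hr, map_pow]
  have hS01 : S₀ ⊆ S₁ := by
    rintro _ ⟨a, rfl⟩
    exact hpowRA a
  -- (1) y
  obtain ⟨hy1, hy2⟩ := hy
  rw [isPIndependent_iff_LIO, coe_pPower_eq_range p hpowRA] at hy1
  rw [isPGenerating_iff_SPO, coe_pPower_eq_range p hpowRA] at hy2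
  -- (2) x
  obtain ⟨hx1, hx2⟩ := hx
  rw [isPIndependent_iff_LIO, coe_pPower_eq_range p hpow] at hx1
  rw [isPGenerating_iff_SPO, coe_pPower_eq_range p hpow] at hx2
  -- (3) Frobenius
  have hφ : Function.Injective (frobenius B p) := frobenius_inj B p
  have himg0 : (frobenius B p) '' Set.range (algebraMap A B) = (algebraMap A B) '' S₀ := by
    ext b
    constructor
    · rintro ⟨_, ⟨a, rfl⟩, rfl⟩
      exact ⟨a ^ p, ⟨a, rfl⟩, by rw [map_pow, frobenius_def]⟩
    · rintro ⟨_, ⟨a, rfl⟩, rfl⟩
      exact ⟨algebraMap A B a, ⟨a, rfl⟩, by rw [map_pow, frobenius_def]⟩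
  have himg1 : (frobenius B p) '' Set.univ = (algebraMap A B) '' S₁ := by
    rw [Set.image_univ]
    have : Set.range (frobenius B p) = Set.range fun b : B => b ^ p := rfl
    rw [this, ← hR]
    ext b
    constructor
    · rintro ⟨r, rfl⟩
      exact ⟨algebraMap R A r, ⟨r, rfl⟩, (IsScalarTower.algebraMap_apply R A B r).symm⟩
    · rintro ⟨_, ⟨r, rfl⟩, rfl⟩
      exact ⟨r, IsScalarTower.algebraMap_apply R A B r⟩
  have hmon : (fun e : Red p Λ => frobenius B p (pMonomial x e.1)) =
      fun e : Red p Λ => algebraMap A B (pMonomial x' e.1) := by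
    funext e
    rw [map_pMonomial (frobenius B p) x e.1, map_pMonomial (algebraMap A B) x' e.1]
    congr 1
    funext i
    rw [hx' i, frobenius_def]
  have hx1' := hx1.map (frobenius B p) hφ
  rw [himg0, hmon] at hx1'
  have hx2' := hx2.map (frobenius B p)
  rw [himg0, himg1, hmon] at hx2'
  -- (4) pull back
  have hu : LIO S₀ (fun e : Red p Λ => pMonomial x' e.1) := LIO.comap (algebraMap A B) hinj hx1'
  have hu' : SPO S₀ (fun e : Red p Λ => pMonomial x' e.1) S₁ :=
    SPO.comap (algebraMap A B) hinj hx2'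
  have hu1 : ∀ e : Red p Λ, pMonomial x' e.1 ∈ S₁ := by
    intro e
    have h1 : algebraMap A B (pMonomial x' e.1) ∈ (algebraMap A B) '' S₁ := by
      rw [← himg1, ← congrFun hmon e]
      exact ⟨_, trivial, rfl⟩
    obtain ⟨a, ha, h2⟩ := h1
    rw [← hinj h2]; exact ha
  have h0 : (0 : A) ∈ S₀ := ⟨0, zero_pow (Fact.out : p.Prime).ne_zero⟩
  -- (5) towers
  constructor
  · rw [isPIndependent_iff_LIO, coe_pPower_pthPowers, LIO_sum_iff]
    exact LIO.tower (u := fun e : Red p Λ => pMonomial x' e.1)
      (v := fun f : Red p M => pMonomial y f.1) (algebraMap R A).range h0 hS01 hu1 hu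
      (by simpa using hy1)
  · rw [isPGenerating_iff_SPO, coe_pPower_pthPowers, SPO_sum_iff]
    exact SPO.tower (u := fun e : Red p Λ => pMonomial x' e.1)
      (v := fun f : Red p M => pMonomial y f.1) h0 hu' hy2

end Frob

end Groth.Agent.Lib.Helper11.PTower
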