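import Groth.Statements.S6955
import Mathlib.CategoryTheory.Abelian.Projective.Extend
import Mathlib.Algebra.Homology.Embedding.TruncLEHomology
import Mathlib.Algebra.Homology.DerivedCategory.FullyFaithful
import Mathlib.Algebra.Homology.DerivedCategory.TStructure

set_option autoImplicit false
universe u
open CategoryTheory CategoryTheory.Limits
attribute [local instance] HasDerivedCategory.standard

namespace Groth.Agent.Lib.Helper11.PerfRes

variable {R : Type u} [CommRing R]

lemma projective_iff (M : ModuleCat.{u} R) : Projective M ↔ Module.Projective R M :=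
  (IsProjective.iff_projective (R := R) (P := M)).symm

/-- (⟸) a finite-length resolution by finite projectives gives perfectness. -/
theorem isPerfectModule_of_resolution (M : Type u) [AddCommGroup M] [Module R M]
    (P : ProjectiveResolution (ModuleCat.of R M)) (d : ℕ)
    (hz : ∀ i : ℕ, d < i → IsZero (P.complex.X i))
    (hf : ∀ i : ℕ, Module.Finite R (P.complex.X i)) :
    DRing.IsPerfectModule R M := by
  refine ⟨P.cochainComplex, -d, 0, ?_, ?_, ⟨?_⟩⟩
  · intro i hi
    rcases hi with hi | hi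
    · obtain ⟨k, rfl⟩ : ∃ k : ℕ, i = -k := ⟨i.natAbs, by omega⟩
      exact IsZero.of_iso (hz k (by omega)) (P.cochainComplexXIso (-k) k rfl)
    · exact CochainComplex.isZero_of_isStrictlyLE _ 0 _ hi
  · intro i
    by_cases hi : i ≤ 0
    · obtain ⟨k, rfl⟩ := Int.exists_eq_neg_ofNat hi
      let e := (P.cochainComplexXIso (-k) k rfl)
      have := hf k
      have hp : Module.Projective R (P.complex.X k) := (projective_iff _).1 (P.projective k)
      exact ⟨Module.Finite.equiv e.toLinearEquiv.symm, Module.Projective.of_equiv e.toLinearEquiv.symm⟩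
    · have hzero : IsZero (P.cochainComplex.X i) :=
        CochainComplex.isZero_of_isStrictlyLE _ 0 _ (by omega)
      have : Subsingleton (P.cochainComplex.X i) := ModuleCat.subsingleton_of_isZero hzero
      exact ⟨inferInstance, inferInstance⟩
  · exact asIso (DerivedCategory.Q.map P.π') ≪≫
      ((DerivedCategory.singleFunctorIsoCompQ (ModuleCat.{u} R) 0).app _).symm


abbrev Cx (R : Type u) [CommRing R] := CochainComplex (ModuleCat.{u} R) ℤ

/-- If `E` is exact at `j` and `Z^j` is projective, `Z^{j-1}` is a retract of `E^{j-1}`. -/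
lemma exists_retract_cycles (E : Cx R) (i j : ℤ) (hij : (ComplexShape.up ℤ).prev j = i)
    (hex : E.ExactAt j) (hproj : Projective (E.cycles j)) :
    ∃ r : E.X i ⟶ E.cycles i, E.iCycles i ≫ r = 𝟙 _ := by
  subst hij
  have hepi : Epi (E.toCycles ((ComplexShape.up ℤ).prev j) j) :=
    (ShortComplex.exact_iff_epi_toCycles (S := E.sc j)).1 hex
  let s : E.cycles j ⟶ E.X ((ComplexShape.up ℤ).prev j) :=
    Projective.factorThru (𝟙 _) (E.toCycles ((ComplexShape.up ℤ).prev j) j)
  have hs : s ≫ E.toCycles ((ComplexShape.up ℤ).prev j) j = 𝟙 _ := Projective.factorThru_comp _ _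
  let p : E.X ((ComplexShape.up ℤ).prev j) ⟶ E.X ((ComplexShape.up ℤ).prev j) :=
    𝟙 _ - E.toCycles ((ComplexShape.up ℤ).prev j) j ≫ s
  have hp1 : p ≫ E.toCycles ((ComplexShape.up ℤ).prev j) j = 0 := by
    simp only [p, Preadditive.sub_comp, Category.id_comp, Category.assoc, hs, Category.comp_id,
      sub_self]
  have hp : p ≫ E.d ((ComplexShape.up ℤ).prev j) j = 0 := by
    rw [← E.toCycles_i ((ComplexShape.up ℤ).prev j) j, reassoc_of% hp1, zero_comp]
  have hnext : (ComplexShape.up ℤ).next ((ComplexShape.up ℤ).prev j) = j := by simp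
  refine ⟨E.liftCycles p j hnext hp, ?_⟩
  rw [← cancel_mono (E.iCycles _), Category.assoc, HomologicalComplex.liftCycles_i, Category.id_comp]
  have h0 : E.iCycles ((ComplexShape.up ℤ).prev j) ≫ E.toCycles ((ComplexShape.up ℤ).prev j) j = 0 := by
    rw [← cancel_mono (E.iCycles j), Category.assoc, HomologicalComplex.toCycles_i,
      HomologicalComplex.iCycles_d, zero_comp]
  simp only [p, Preadditive.comp_sub, Category.comp_id, reassoc_of% h0, zero_comp, sub_zero]


def FinProj (M : ModuleCat.{u} R) : Prop := Module.Finite R M ∧ Module.Projective R M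

lemma FinProj.of_iso {M N : ModuleCat.{u} R} (h : FinProj M) (e : M ≅ N) : FinProj N := by
  obtain ⟨h1, h2⟩ := h
  exact ⟨Module.Finite.equiv e.toLinearEquiv, Module.Projective.of_equiv e.toLinearEquiv⟩

lemma FinProj.of_retract {M N : ModuleCat.{u} R} (h : FinProj M) (i : N ⟶ M) (r : M ⟶ N)
    (hir : i ≫ r = 𝟙 _) : FinProj N := by
  have hx : ∀ x, r.hom (i.hom x) = x := fun x => by
    have := congrArg (fun f => f.hom x) hir
    simpa using this
  obtain ⟨h1, h2⟩ := h
  refine ⟨Module.Finite.of_surjective r.hom (fun x => ⟨i.hom x, hx x⟩), ?_⟩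
  exact Module.Projective.of_split i.hom r.hom (by ext x; exact hx x)

lemma finProj_cycles (E : Cx R) (b : ℤ) (hb : ∀ i, b < i → IsZero (E.X i))
    (hP : ∀ i, FinProj (E.X i)) (hex : ∀ i, 0 < i → E.ExactAt i) :
    ∀ (k : ℕ) (i : ℤ), 0 ≤ i → b ≤ i + k → FinProj (E.cycles i) := by
  intro k
  induction k with
  | zero =>
    intro i _ hbi
    have hd : E.d i (i + 1) = 0 := (hb (i + 1) (by push_cast at hbi; omega)).eq_of_tgt _ _
    have : IsIso (E.iCycles i) := E.isIso_iCycles i (i + 1) (by simp) hd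
    exact (hP i).of_iso (asIso (E.iCycles i)).symm
  | succ k ih =>
    intro i hi hbi
    have h1 : FinProj (E.cycles (i + 1)) := ih (i + 1) (by omega) (by push_cast at hbi ⊢; omega)
    obtain ⟨r, hr⟩ := exists_retract_cycles E i (i + 1) (by simp) (hex (i + 1) (by omega))
      ((projective_iff _).2 h1.2)
    exact (hP i).of_retract (E.iCycles i) r hr


abbrev e0 : (ComplexShape.down ℕ).Embedding (ComplexShape.up ℤ) := ComplexShape.embeddingUpIntLE 0

lemma bdry0 : e0.BoundaryLE 0 := (ComplexShape.boundaryLE_embeddingUpIntLE_iff 0 0).2 rfl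

lemma not_bdry (n : ℕ) : ¬ e0.BoundaryLE (n + 1) := by
  rw [ComplexShape.boundaryLE_embeddingUpIntLE_iff]; omega

section main

variable (E : Cx R)

/-- The truncated chain complex. -/
noncomputable abbrev F : ChainComplex (ModuleCat.{u} R) ℕ := E.truncLE' e0

noncomputable def iso0 : (F E).X 0 ≅ E.cycles 0 :=
  E.truncLE'XIsoCycles e0 (i := 0) (i' := 0) (by simp) bdry0

noncomputable def isoS (n : ℕ) (j : ℤ) (hj : -((n : ℤ) + 1) = j) : (F E).X (n + 1) ≅ E.X j :=
  E.truncLE'XIso e0 (i := n + 1) (i' := j) (by simp [← hj]) (not_bdry n)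

lemma F_d_one_zero : (F E).d 1 0 = (isoS E 0 (-1) (by simp)).hom ≫ E.toCycles (-1) 0 ≫ (iso0 E).inv :=
  E.truncLE'_d_eq_toCycles e0 (i := 1) (j := 0) (by simp) (by simp) (by simp) bdry0

lemma exactAt_F_succ (n : ℕ) (h : E.ExactAt (-((n : ℤ) + 1))) : (F E).ExactAt (n + 1) := by
  have h1 : (HomologicalComplex.truncLE E e0).ExactAt (-((n : ℤ) + 1)) := by
    have : QuasiIsoAt (HomologicalComplex.ιTruncLE E e0) (-((n : ℤ) + 1)) :=
      HomologicalComplex.quasiIsoAt_ιTruncLE E e0 (j := n + 1) (by simp)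
    exact (exactAt_iff_of_quasiIsoAt (HomologicalComplex.ιTruncLE E e0) _).2 h
  have h2 : ((F E).extend e0).ExactAt (-((n : ℤ) + 1)) :=
    h1.of_iso (HomologicalComplex.truncLEIso E e0)
  exact ((F E).extend_exactAt_iff e0 (j := n + 1) (by simp)).1 h2


variable (M : Type u) [AddCommGroup M] [Module R M]

theorem exists_resolution (a b : ℤ) (hv : DRing.VanishesOutside E a b)
    (hP : DRing.TermwiseFiniteProjective E) (e : DRing.toD E ≅ Dual.inD R M) :
    ∃ (P : ProjectiveResolution (ModuleCat.of R M)) (d : ℕ),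
      (∀ i : ℕ, d < i → IsZero (P.complex.X i)) ∧ ∀ i : ℕ, Module.Finite R (P.complex.X i) := by
  have hex : ∀ i : ℤ, i ≠ 0 → E.ExactAt i := by
    intro i hi
    rw [HomologicalComplex.exactAt_iff_isZero_homology]
    have e1 := (DerivedCategory.homologyFunctorFactors (ModuleCat.{u} R) i).app E
    have e2 := (DerivedCategory.homologyFunctor (ModuleCat.{u} R) i).mapIso e
    refine IsZero.of_iso ?_ (e1.symm ≪≫ e2)
    rcases lt_or_gt_of_ne hi with h | h
    · exact DerivedCategory.isZero_of_isGE _ 0 i h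
    · exact DerivedCategory.isZero_of_isLE _ 0 i h
  let φ : E.homology 0 ≅ ModuleCat.of R M :=
    ((DerivedCategory.homologyFunctorFactors (ModuleCat.{u} R) 0).app E).symm ≪≫
      (DerivedCategory.homologyFunctor (ModuleCat.{u} R) 0).mapIso e ≪≫
      (DerivedCategory.singleFunctorCompHomologyFunctorIso (ModuleCat.{u} R) 0).app _
  have hFP : ∀ i, FinProj (E.X i) := fun i => hP i
  have hZ0 : FinProj (E.cycles 0) :=
    finProj_cycles E b (fun i hi => hv i (Or.inr hi)) hFP (fun i hi => hex i (by omega))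
      b.toNat 0 le_rfl (by omega)
  have hX : ∀ n : ℕ, FinProj ((F E).X n) := by
    intro n
    cases n with
    | zero => exact hZ0.of_iso (iso0 E).symm
    | succ n => exact (hFP _).of_iso (isoS E n _ rfl).symm
  let f0 : (F E).X 0 ⟶ ModuleCat.of R M := (iso0 E).hom ≫ E.homologyπ 0 ≫ φ.hom
  have hf0 : (F E).d 1 0 ≫ f0 = 0 := by
    simp only [f0, F_d_one_zero, Category.assoc, Iso.inv_hom_id_assoc,
      HomologicalComplex.toCycles_comp_homologyπ_assoc, zero_comp, comp_zero]
  let π : F E ⟶ (ChainComplex.single₀ (ModuleCat.{u} R)).obj (ModuleCat.of R M) :=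
    (ChainComplex.toSingle₀Equiv _ _).symm ⟨f0, hf0⟩
  have hq : QuasiIso π := ⟨fun n => by
    cases n with
    | zero =>
      rw [ChainComplex.quasiIsoAt₀_iff, ShortComplex.quasiIso_iff_of_zeros']
      · have hS' : (ShortComplex.mk (E.toCycles (-1) 0) (E.homologyπ 0)
            (E.toCycles_comp_homologyπ (-1) 0)).Exact :=
          ShortComplex.exact_of_g_is_cokernel _ (E.homologyIsCokernel (-1) 0 (by simp))
        refine (ShortComplex.exact_and_epi_g_iff_of_iso ?_).2
          ⟨hS', by dsimp; infer_instance⟩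
        refine ShortComplex.isoMk (isoS E 0 (-1) (by simp)) (iso0 E) φ.symm ?_ ?_
        · change (isoS E 0 (-1) (by simp)).hom ≫ E.toCycles (-1) 0 = (F E).d 1 0 ≫ (iso0 E).hom
          rw [F_d_one_zero]
          simp
        · change (iso0 E).hom ≫ E.homologyπ 0 = π.f 0 ≫ φ.inv
          simp [π, f0]
      all_goals first | rfl | (simp; rfl)
    | succ n =>
      rw [quasiIsoAt_iff_exactAt']
      · exact exactAt_F_succ E n (hex _ (by omega))
      · apply ChainComplex.exactAt_succ_single_obj⟩
  refine ⟨{ complex := F E, projective := fun n => (projective_iff _).2 (hX n).2, π := π,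
            quasiIso := hq }, (-a).toNat, ?_, fun i => (hX i).1⟩
  intro i hi
  obtain ⟨n, rfl⟩ : ∃ n, i = n + 1 := ⟨i - 1, by omega⟩
  exact IsZero.of_iso (hv _ (Or.inl (by omega))) (isoS E n _ rfl)

end main

end Groth.Agent.Lib.Helper11.PerfRes
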