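import Mathlib

/-!
# Power perturbations and fibre dimension: pointwise tower lemmas

For a prime `q` of an `A`-algebra `S` we consider the extension of domains
`A ⧸ q.under A → S ⧸ q` and its transcendence degree.
-/

set_option autoImplicit false
set_option linter.unusedSectionVars false
set_option linter.style.haveILetI false
set_option linter.deprecated false
universe u
open Polynomial Cardinal Topology

namespace Groth.Agent.Lib.Helper11.Pert

section Tower

variable {A B S : Type u} [CommRing A] [CommRing B] [CommRing S] [Algebra A B] [Algebra A S]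
  [Algebra B S] [IsScalarTower A B S]

/-- the tower of residue domains at a prime of `S`. -/
theorem tower_quot (q : Ideal S) [q.IsPrime] :
    IsScalarTower (A ⧸ q.under A) (B ⧸ q.under B) (S ⧸ q) := by
  refine IsScalarTower.of_algebraMap_eq ?_
  intro x
  obtain ⟨x, rfl⟩ := Ideal.Quotient.mk_surjective x
  rw [Ideal.Quotient.algebraMap_mk_of_liesOver, Ideal.Quotient.algebraMap_mk_of_liesOver,
    Ideal.Quotient.algebraMap_mk_of_liesOver, IsScalarTower.algebraMap_apply A B S]

/-- additivity of the residual transcendence degree in a tower. -/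
theorem trdeg_tower (q : Ideal S) [q.IsPrime] :
    Algebra.trdeg (A ⧸ q.under A) (B ⧸ q.under B) + Algebra.trdeg (B ⧸ q.under B) (S ⧸ q) =
      Algebra.trdeg (A ⧸ q.under A) (S ⧸ q) := by
  haveI := tower_quot (A := A) (B := B) q
  exact trdeg_add_eq (A ⧸ q.under A) (B ⧸ q.under B) (A := S ⧸ q)

end Tower


section OneVar

variable {A S : Type u} [CommRing A] [CommRing S] [Algebra A S] [Algebra A[X] S]
  [IsScalarTower A A[X] S]

/-- the class of `X` in the residue domain of `A[X]` maps to the class of `algebraMap X`. -/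
theorem algebraMap_mk_X (q : Ideal S) [q.IsPrime] :
    algebraMap (A[X] ⧸ q.under A[X]) (S ⧸ q) (Ideal.Quotient.mk _ X) =
      Ideal.Quotient.mk q (algebraMap A[X] S X) :=
  Ideal.Quotient.algebraMap_mk_of_liesOver _ _ _

/-- the evaluation `(A/P)[X] → A[X]/P'` at the class of `X` sends the reduction of `f` to the
class of `f`. -/
theorem aeval_mk_X_map (P : Ideal A) (P' : Ideal A[X]) [P'.LiesOver P] (f : A[X]) :
    aeval (Ideal.Quotient.mk P' X) (f.map (algebraMap A (A ⧸ P))) = Ideal.Quotient.mk P' f := by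
  rw [aeval_map_algebraMap]
  have h := Polynomial.aeval_algHom_apply (Ideal.Quotient.mkₐ A P') (X : A[X]) f
  rw [aeval_X_left_apply] at h
  simpa using h

theorem aeval_mk_X_surjective (P : Ideal A) (P' : Ideal A[X]) [P'.LiesOver P] :
    Function.Surjective (aeval (R := A ⧸ P) (Ideal.Quotient.mk P' X)) := by
  intro y
  obtain ⟨f, rfl⟩ := Ideal.Quotient.mk_surjective y
  exact ⟨f.map (algebraMap A (A ⧸ P)), aeval_mk_X_map P P' f⟩

/-- **(T1)** one variable adds at most one to the transcendence degree. -/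
theorem trdeg_poly_le_one (P : Ideal A) [P.IsPrime] (P' : Ideal A[X]) [P'.LiesOver P] :
    Algebra.trdeg (A ⧸ P) (A[X] ⧸ P') ≤ 1 := by
  have h := _root_.trdeg_le_of_surjective (aeval (R := A ⧸ P) (Ideal.Quotient.mk P' X))
    (aeval_mk_X_surjective P P')
  rwa [Polynomial.trdeg_of_isDomain] at h

/-- **(T3)** a transcendental class forces transcendence degree at least one. -/
theorem one_le_trdeg_poly (q : Ideal S) [q.IsPrime]
    (h : Transcendental (A ⧸ q.under A) (Ideal.Quotient.mk q (algebraMap A[X] S X))) :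
    1 ≤ Algebra.trdeg (A ⧸ q.under A) (A[X] ⧸ q.under A[X]) := by
  haveI := tower_quot (A := A) (B := A[X]) q
  have hX : Transcendental (A ⧸ q.under A) (Ideal.Quotient.mk (q.under A[X]) (X : A[X])) := by
    intro halg
    apply h
    rw [← algebraMap_mk_X]
    exact halg.algebraMap
  haveI : Algebra.Transcendental (A ⧸ q.under A) (A[X] ⧸ q.under A[X]) := ⟨⟨_, hX⟩⟩
  exact Cardinal.one_le_iff_pos.mpr (_root_.trdeg_pos _ _)

/-- **(T2)** an algebraic class forces transcendence degree zero. -/
theorem trdeg_poly_eq_zero (q : Ideal S) [q.IsPrime]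
    (h : IsAlgebraic (A ⧸ q.under A) (Ideal.Quotient.mk q (algebraMap A[X] S X))) :
    Algebra.trdeg (A ⧸ q.under A) (A[X] ⧸ q.under A[X]) = 0 := by
  haveI := tower_quot (A := A) (B := A[X]) q
  have hinj : Function.Injective (algebraMap (A[X] ⧸ q.under A[X]) (S ⧸ q)) :=
    FaithfulSMul.algebraMap_injective _ _
  have hX : IsAlgebraic (A ⧸ q.under A) (Ideal.Quotient.mk (q.under A[X]) (X : A[X])) := by
    rw [← algebraMap_mk_X] at h
    exact (isAlgebraic_algebraMap_iff hinj).mp h
  rw [_root_.trdeg_eq_zero_iff]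
  refine ⟨fun y => ?_⟩
  obtain ⟨f, rfl⟩ := aeval_mk_X_surjective (q.under A) (q.under A[X]) y
  exact Algebra.isAlgebraic_adjoin_singleton_iff.mpr hX _
    (Polynomial.aeval_mem_adjoin_singleton _ _)

end OneVar


section Constructible

variable {S : Type u} [CommRing S]

/-- basic constructible subsets of the spectrum. -/
def Cset (F h : S) : Set (PrimeSpectrum S) := {q | F ∈ q.asIdeal ∧ h ∉ q.asIdeal}

theorem mem_cset {F h : S} {q : PrimeSpectrum S} :
    q ∈ Cset F h ↔ F ∈ q.asIdeal ∧ h ∉ q.asIdeal := Iff.rfl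

theorem isOpen_cset (F h : S) :
    IsOpen[constructibleTopology (PrimeSpectrum S)] (Cset F h) := by
  have h1 : IsOpen[constructibleTopology (PrimeSpectrum S)]
      (PrimeSpectrum.basicOpen h : Set (PrimeSpectrum S)) :=
    (PrimeSpectrum.isCompact_basicOpen h).isOpen_constructibleTopology_of_isOpen
      PrimeSpectrum.isOpen_basicOpen
  have h2 : IsOpen[constructibleTopology (PrimeSpectrum S)]
      (PrimeSpectrum.zeroLocus ({F} : Set S)) := by
    refine IsCompact.isOpen_constructibleTopology_of_isClosed ?_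
      (PrimeSpectrum.isClosed_zeroLocus _)
    rw [← PrimeSpectrum.basicOpen_eq_zeroLocus_compl]
    exact PrimeSpectrum.isCompact_basicOpen F
  have h3 : Cset F h = PrimeSpectrum.zeroLocus ({F} : Set S) ∩
      (PrimeSpectrum.basicOpen h : Set (PrimeSpectrum S)) := by
    ext q
    simp [Cset, PrimeSpectrum.mem_zeroLocus]
  rw [h3]
  exact @IsOpen.inter _ (constructibleTopology (PrimeSpectrum S)) _ _ h2 h1

theorem compactSpace_constructible :
    @CompactSpace (PrimeSpectrum S) (constructibleTopology (PrimeSpectrum S)) :=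
  @Function.Surjective.compactSpace (WithConstructibleTopology (PrimeSpectrum S))
    (PrimeSpectrum S) _ (constructibleTopology (PrimeSpectrum S)) _
    (WithTopology.continuous_ofTopology _) _ (WithTopology.ofTopology_surjective _)

/-- **Uniformity from compactness of the constructible topology.** -/
theorem exists_uniform (Good : ℕ → PrimeSpectrum S → Prop)
    (h : ∀ q₀ : PrimeSpectrum S, ∃ N : Set (PrimeSpectrum S),
      IsOpen[constructibleTopology (PrimeSpectrum S)] N ∧ q₀ ∈ N ∧
        ∃ n₀ : ℕ, ∀ n ≥ n₀, ∀ q ∈ N, Good n q) :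
    ∃ n₀ : ℕ, ∀ n ≥ n₀, ∀ q, Good n q := by
  choose N hNo hNm n₀ hn₀ using h
  letI : TopologicalSpace (PrimeSpectrum S) := constructibleTopology (PrimeSpectrum S)
  haveI : CompactSpace (PrimeSpectrum S) := compactSpace_constructible
  obtain ⟨t, ht⟩ := isCompact_univ.elim_finite_subcover N hNo
    (fun q _ => Set.mem_iUnion.mpr ⟨q, hNm q⟩)
  refine ⟨t.sup n₀, fun n hn q => ?_⟩
  have hq := ht (Set.mem_univ q)
  simp only [Set.mem_iUnion] at hq
  obtain ⟨q₀, hq₀t, hq₀⟩ := hq
  exact hn₀ q₀ n (le_trans (Finset.le_sup hq₀t) hn) q hq₀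

end Constructible


section AlgNbhd

variable {A S : Type u} [CommRing A] [CommRing S] [Algebra A S]

/-- reduction of coefficients commutes with evaluation at a class. -/
theorem aeval_mk_map (q : Ideal S) [q.IsPrime] (s : S) (G : A[X]) :
    aeval (Ideal.Quotient.mk q s) (G.map (algebraMap A (A ⧸ q.under A))) =
      Ideal.Quotient.mk q (aeval s G) := by
  rw [aeval_map_algebraMap]
  have h := Polynomial.aeval_algHom_apply (Ideal.Quotient.mkₐ A q) s G
  simpa using h

theorem algebraMap_mem_iff (q : Ideal S) (a : A) :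
    algebraMap A S a ∈ q ↔ a ∈ q.under A := by
  rw [Ideal.under_def, Ideal.mem_comap]

/-- a relation with leading coefficient outside `q` makes the class algebraic. -/
theorem isAlgebraic_of_rel (q : Ideal S) [q.IsPrime] (s : S) (G : A[X]) (h1 : aeval s G ∈ q)
    (h2 : algebraMap A S G.leadingCoeff ∉ q) :
    IsAlgebraic (A ⧸ q.under A) (Ideal.Quotient.mk q s) := by
  refine ⟨G.map (algebraMap A (A ⧸ q.under A)), ?_, ?_⟩
  · intro h0
    have := congrArg (fun f => f.coeff G.natDegree) h0
    simp only [coeff_map, coeff_natDegree, coeff_zero] at this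
    rw [Ideal.Quotient.algebraMap_eq, Ideal.Quotient.eq_zero_iff_mem, ← algebraMap_mem_iff] at this
    exact h2 this
  · rw [aeval_mk_map, Ideal.Quotient.eq_zero_iff_mem]
    exact h1

/-- an algebraic class is witnessed by a relation with leading coefficient outside `q`. -/
theorem exists_rel_of_isAlgebraic (q : Ideal S) [q.IsPrime] (s : S)
    (h : IsAlgebraic (A ⧸ q.under A) (Ideal.Quotient.mk q s)) :
    ∃ G : A[X], aeval s G ∈ q ∧ algebraMap A S G.leadingCoeff ∉ q := by
  obtain ⟨g, hg0, hg⟩ := h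
  have hl : g ∈ Polynomial.lifts (algebraMap A (A ⧸ q.under A)) :=
    Polynomial.mem_lifts_of_surjective Ideal.Quotient.mk_surjective g
  obtain ⟨G, hGg, hdeg⟩ := Polynomial.exists_natDegree_eq_of_mem_lifts hl
  refine ⟨G, ?_, ?_⟩
  · rw [← Ideal.Quotient.eq_zero_iff_mem, ← aeval_mk_map, hGg, hg]
  · intro hmem
    rw [algebraMap_mem_iff, ← Ideal.Quotient.eq_zero_iff_mem, ← Ideal.Quotient.algebraMap_eq] at hmem
    have h1 : g.coeff g.natDegree = 0 := by
      rw [← hdeg, ← hGg, coeff_map]
      exact hmem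
    exact hg0 (leadingCoeff_eq_zero.mp h1)


/-- if the classes of a generating set are algebraic, the residue domain is algebraic over the
residue domain of the base. -/
theorem isAlgebraic_quot_of_generators (q : Ideal S) [q.IsPrime] (t : Set S)
    (ht : Algebra.adjoin A t = ⊤)
    (h : ∀ x ∈ t, IsAlgebraic (A ⧸ q.under A) (Ideal.Quotient.mk q x)) :
    Algebra.IsAlgebraic (A ⧸ q.under A) (S ⧸ q) := by
  let T : Subalgebra A S :=
    ((Subalgebra.algebraicClosure (A ⧸ q.under A) (S ⧸ q)).restrictScalars A).comap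
      (Ideal.Quotient.mkₐ A q)
  have hT : Algebra.adjoin A t ≤ T := Algebra.adjoin_le fun x hx => h x hx
  rw [ht] at hT
  refine ⟨fun y => ?_⟩
  obtain ⟨z, rfl⟩ := Ideal.Quotient.mk_surjective y
  exact hT (Algebra.mem_top (x := z))

/-- **(P2')** algebraicity of the residue domain spreads to a constructible neighbourhood. -/
theorem exists_nbhd_isAlgebraic [Algebra.FiniteType A S] (q₀ : PrimeSpectrum S)
    (h : Algebra.IsAlgebraic (A ⧸ q₀.asIdeal.under A) (S ⧸ q₀.asIdeal)) :
    ∃ N : Set (PrimeSpectrum S), IsOpen[constructibleTopology (PrimeSpectrum S)] N ∧ q₀ ∈ N ∧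
      ∀ q ∈ N, Algebra.IsAlgebraic (A ⧸ q.asIdeal.under A) (S ⧸ q.asIdeal) := by
  classical
  obtain ⟨t, ht⟩ := (Algebra.FiniteType.out : (⊤ : Subalgebra A S).FG)
  have hG : ∀ x : S, ∃ G : A[X], aeval x G ∈ q₀.asIdeal ∧
      algebraMap A S G.leadingCoeff ∉ q₀.asIdeal :=
    fun x => exists_rel_of_isAlgebraic q₀.asIdeal x (h.isAlgebraic _)
  choose G hG1 hG2 using hG
  refine ⟨⋂ x ∈ t, Cset (aeval x (G x)) (algebraMap A S (G x).leadingCoeff), ?_, ?_, ?_⟩
  · exact @isOpen_biInter_finset _ _ (constructibleTopology (PrimeSpectrum S)) t _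
      (fun x _ => isOpen_cset _ _)
  · simp only [Set.mem_iInter]
    exact fun x _ => ⟨hG1 x, hG2 x⟩
  · intro q hq
    simp only [Set.mem_iInter] at hq
    refine isAlgebraic_quot_of_generators q.asIdeal (t : Set S) ht fun x hx => ?_
    exact isAlgebraic_of_rel q.asIdeal x (G x) (hq x hx).1 (hq x hx).2

end AlgNbhd

end Groth.Agent.Lib.Helper11.Pert
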