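import Mathlib
import Groth.Agent.Lib.Helper11.Pert1

/-!
# Power perturbations and fibre dimension: semicontinuity in the constructible topology
-/

set_option autoImplicit false
set_option linter.unusedSectionVars false
set_option linter.style.haveILetI false
set_option linter.deprecated false
universe u
open Polynomial Cardinal Topology

namespace Groth.Agent.Lib.Helper11.Pert

theorem card_le_of_add_le {a b : Cardinal.{u}} {m : ℕ} (h : a + b ≤ ((m + 1 : ℕ) : Cardinal.{u}))
    (ha : 1 ≤ a) : b ≤ (m : Cardinal.{u}) := by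
  have hb : b < ℵ₀ := lt_of_le_of_lt (le_trans (self_le_add_left b a) h) (Cardinal.nat_lt_aleph0 _)
  obtain ⟨n, rfl⟩ := Cardinal.lt_aleph0.mp hb
  have h1 : (1 : Cardinal.{u}) + (n : Cardinal.{u}) ≤ ((m + 1 : ℕ) : Cardinal.{u}) :=
    le_trans (add_le_add_left ha _) h
  have h2 : 1 + n ≤ m + 1 := by exact_mod_cast h1
  have h3 : n ≤ m := by omega
  exact_mod_cast h3

/-- the structure of `A[X]`-algebra on `S` given by an element. -/
noncomputable abbrev polyAlg {A S : Type u} [CommRing A] [CommRing S] [Algebra A S] (s : S) :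
    Algebra A[X] S := (aeval (R := A) s).toRingHom.toAlgebra

theorem polyAlg_tower {A S : Type u} [CommRing A] [CommRing S] [Algebra A S] (s : S) :
    letI := polyAlg (A := A) s
    IsScalarTower A A[X] S := by
  letI := polyAlg (A := A) s
  exact IsScalarTower.of_algebraMap_eq fun r => (aeval_C s r).symm

theorem polyAlg_X {A S : Type u} [CommRing A] [CommRing S] [Algebra A S] (s : S) :
    letI := polyAlg (A := A) s
    algebraMap A[X] S X = s := by
  letI := polyAlg (A := A) s
  exact aeval_X s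

theorem polyAlg_finiteType {A S : Type u} [CommRing A] [CommRing S] [Algebra A S]
    [Algebra.FiniteType A S] (s : S) :
    letI := polyAlg (A := A) s
    Algebra.FiniteType A[X] S := by
  letI := polyAlg (A := A) s
  haveI := polyAlg_tower (A := A) s
  exact Algebra.FiniteType.of_restrictScalars_finiteType A A[X] S

/-- **Upper semicontinuity of the residual transcendence degree in the constructible topology.** -/
theorem exists_nbhd_trdeg_le (m : ℕ) : ∀ (A S : Type u) [CommRing A] [CommRing S] [Algebra A S]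
    [Algebra.FiniteType A S] (q₀ : PrimeSpectrum S),
    Algebra.trdeg (A ⧸ q₀.asIdeal.under A) (S ⧸ q₀.asIdeal) ≤ (m : Cardinal.{u}) →
    ∃ N : Set (PrimeSpectrum S), IsOpen[constructibleTopology (PrimeSpectrum S)] N ∧ q₀ ∈ N ∧
      ∀ q ∈ N, Algebra.trdeg (A ⧸ q.asIdeal.under A) (S ⧸ q.asIdeal) ≤ (m : Cardinal.{u}) := by
  induction m with
  | zero =>
    intro A S _ _ _ _ q₀ h
    have h0 : Algebra.trdeg (A ⧸ q₀.asIdeal.under A) (S ⧸ q₀.asIdeal) = 0 := by
      simpa using h
    obtain ⟨N, hN1, hN2, hN3⟩ := exists_nbhd_isAlgebraic (A := A) q₀ (trdeg_eq_zero_iff.mp h0)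
    refine ⟨N, hN1, hN2, fun q hq => ?_⟩
    haveI := hN3 q hq
    rw [trdeg_eq_zero]
    exact zero_le
  | succ m ih =>
    intro A S _ _ _ _ q₀ h
    by_cases halg : Algebra.IsAlgebraic (A ⧸ q₀.asIdeal.under A) (S ⧸ q₀.asIdeal)
    · obtain ⟨N, hN1, hN2, hN3⟩ := exists_nbhd_isAlgebraic (A := A) q₀ halg
      refine ⟨N, hN1, hN2, fun q hq => ?_⟩
      haveI := hN3 q hq
      rw [trdeg_eq_zero]
      exact zero_le
    · rw [← Algebra.transcendental_iff_not_isAlgebraic] at halg
      obtain ⟨y, hy⟩ := halg.transcendental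
      obtain ⟨s, rfl⟩ := Ideal.Quotient.mk_surjective y
      letI := polyAlg (A := A) s
      haveI := polyAlg_tower (A := A) s
      haveI := polyAlg_finiteType (A := A) s
      have hX : algebraMap A[X] S X = s := polyAlg_X (A := A) s
      have h1 : 1 ≤ Algebra.trdeg (A ⧸ q₀.asIdeal.under A) (A[X] ⧸ q₀.asIdeal.under A[X]) :=
        one_le_trdeg_poly q₀.asIdeal (by rw [hX]; exact hy)
      have h2 := trdeg_tower (A := A) (B := A[X]) q₀.asIdeal
      have h3 : Algebra.trdeg (A[X] ⧸ q₀.asIdeal.under A[X]) (S ⧸ q₀.asIdeal) ≤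
          (m : Cardinal.{u}) := card_le_of_add_le (h2 ▸ h) h1
      obtain ⟨N, hN1, hN2, hN3⟩ := ih A[X] S q₀ h3
      refine ⟨N, hN1, hN2, fun q hq => ?_⟩
      rw [← trdeg_tower (A := A) (B := A[X]) q.asIdeal]
      have h4 := trdeg_poly_le_one (q.asIdeal.under A) (q.asIdeal.under A[X])
      calc _ ≤ (1 : Cardinal.{u}) + (m : Cardinal.{u}) := add_le_add h4 (hN3 q hq)
        _ = ((m + 1 : ℕ) : Cardinal.{u}) := by push_cast; rw [add_comm]


section AlgLemmas

/-- a polynomial in `Y` over `K[X]` whose coefficients have degree less than `deg z` and which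
vanishes at `Y = z` is zero. -/
theorem eq_zero_of_eval_eq_zero {K : Type u} [CommRing K] [IsDomain K] (z : K[X]) :
    ∀ (N : ℕ) (H : K[X][X]), H.natDegree = N → (∀ j, (H.coeff j).degree < z.degree) →
      H.eval z = 0 → H = 0 := by
  intro N
  induction N with
  | zero =>
    intro H hN hdeg h0
    rw [eq_C_of_natDegree_eq_zero hN] at h0 ⊢
    rw [eval_C] at h0
    rw [h0, C_0]
  | succ N ih =>
    intro H hN hdeg h0
    have hz : z ≠ 0 := by
      intro hz
      have := hdeg 0
      rw [hz, degree_zero] at this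
      exact not_lt_bot this
    have hH := Polynomial.divX_mul_X_add H
    have h1 : H.divX.eval z * z + H.coeff 0 = 0 := by
      rw [← hH] at h0
      simpa using h0
    have h2 : H.coeff 0 = 0 := by
      refine Polynomial.eq_zero_of_dvd_of_degree_lt ⟨-(H.divX.eval z), ?_⟩ (hdeg 0)
      linear_combination h1
    have h3 : H.divX.eval z = 0 := by
      rw [h2, add_zero] at h1
      exact (mul_eq_zero.mp h1).resolve_right hz
    have h4 : H.divX = 0 := by
      refine ih H.divX ?_ (fun j => ?_) h3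
      · rw [Polynomial.natDegree_divX_eq_natDegree_tsub_one, hN]; rfl
      · rw [Polynomial.coeff_divX]; exact hdeg _
    rw [← hH, h4, h2]
    simp


/-- abstract form of the degree argument. -/
theorem leadingCoeff_map_eq_zero {R K D : Type u} [CommRing R] [CommRing K] [IsDomain K]
    [CommRing D] [Algebra K D] (ρ₀ : R →+* K) (x y : D) (c : K) (n : ℕ)
    (hc : algebraMap K D c = x ^ n + y) (hx : Transcendental K x) (G : R[X][X])
    (hn : ∀ j, (G.coeff j).natDegree < n)
    (hrel : G.eval₂ ((aeval (R := K) x).toRingHom.comp (Polynomial.mapRingHom ρ₀)) y = 0) :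
    Polynomial.map ρ₀ G.leadingCoeff = 0 := by
  have hn0 : 0 < n := lt_of_le_of_lt (Nat.zero_le _) (hn 0)
  have hgz : (aeval (R := K) x).toRingHom (C c - X ^ n) = y := by
    change aeval (R := K) x (C c - X ^ n) = y
    rw [map_sub, aeval_C, map_pow, aeval_X, hc]
    ring
  have hev : aeval x ((G.map (Polynomial.mapRingHom ρ₀)).eval (C c - X ^ n)) = 0 := by
    change (aeval (R := K) x).toRingHom _ = 0
    rw [eval_map, Polynomial.hom_eval₂, hgz]
    exact hrel
  have hG'z : (G.map (Polynomial.mapRingHom ρ₀)).eval (C c - X ^ n) = 0 :=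
    (transcendental_iff.mp hx) _ hev
  have hzdeg : (C c - X ^ n : K[X]).degree = n := by
    rw [← neg_sub, degree_neg, degree_X_pow_sub_C hn0]
  have hG' : G.map (Polynomial.mapRingHom ρ₀) = 0 := by
    refine eq_zero_of_eval_eq_zero (C c - X ^ n) _ _ rfl (fun j => ?_) hG'z
    rw [coeff_map, hzdeg]
    calc ((Polynomial.mapRingHom ρ₀) (G.coeff j)).degree ≤ (G.coeff j).degree := degree_map_le
      _ ≤ ((G.coeff j).natDegree : WithBot ℕ) := degree_le_natDegree
      _ < (n : WithBot ℕ) := by exact_mod_cast hn j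
  have h2 : Polynomial.map ρ₀ G.leadingCoeff =
      (G.map (Polynomial.mapRingHom ρ₀)).coeff G.natDegree := by
    rw [coeff_map]; rfl
  rw [h2, hG', coeff_zero]

/-- **(C3)** if `b` is algebraic over `R[a]` at `q` through a relation `G(a, b) ∈ q` whose
coefficients have `X`-degree `< n`, and `a` is transcendental at `q`, then `a ^ n + b` is
transcendental at `q`. -/
theorem transcendental_pow_add_of_rel {R S : Type u} [CommRing R] [CommRing S] [Algebra R S]
    (q : Ideal S) [q.IsPrime] (a b : S) (G : R[X][X])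
    (hrel : G.eval₂ (aeval (R := R) a).toRingHom b ∈ q)
    (hlc : aeval a G.leadingCoeff ∉ q)
    (n : ℕ) (hn : ∀ j, (G.coeff j).natDegree < n)
    (ha : Transcendental (R ⧸ q.under R) (Ideal.Quotient.mk q a)) :
    Transcendental (R ⧸ q.under R) (Ideal.Quotient.mk q (a ^ n + b)) := by
  intro hc
  have ha' : Transcendental (Subalgebra.algebraicClosure (R ⧸ q.under R) (S ⧸ q))
      (Ideal.Quotient.mk q a) := ha.subalgebraAlgebraicClosure
  obtain ⟨ρ₀, hρ₀⟩ : ∃ ρ₀ : R →+* (Subalgebra.algebraicClosure (R ⧸ q.under R) (S ⧸ q)),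
      ρ₀ = (algebraMap (R ⧸ q.under R) _).comp (algebraMap R (R ⧸ q.under R)) := ⟨_, rfl⟩
  have hcomp : ((aeval (R := Subalgebra.algebraicClosure (R ⧸ q.under R) (S ⧸ q))
      (Ideal.Quotient.mk q a)).toRingHom.comp (Polynomial.mapRingHom ρ₀)) =
      (Ideal.Quotient.mk q).comp (aeval (R := R) a).toRingHom := by
    apply Polynomial.ringHom_ext
    · intro r
      have h1 : (aeval (R := Subalgebra.algebraicClosure (R ⧸ q.under R) (S ⧸ q))
          (Ideal.Quotient.mk q a)).toRingHom (Polynomial.mapRingHom ρ₀ (C r)) =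
          algebraMap _ (S ⧸ q) (ρ₀ r) := by
        change aeval (Ideal.Quotient.mk q a) (Polynomial.map ρ₀ (C r)) = _
        rw [Polynomial.map_C, aeval_C]
      have h2 : algebraMap (Subalgebra.algebraicClosure (R ⧸ q.under R) (S ⧸ q)) (S ⧸ q) (ρ₀ r) =
          algebraMap (R ⧸ q.under R) (S ⧸ q) (algebraMap R (R ⧸ q.under R) r) := by
        rw [hρ₀]; rfl
      have h3 : (aeval (R := R) a).toRingHom (C r) = algebraMap R S r := aeval_C a r
      rw [RingHom.comp_apply, RingHom.comp_apply, h1, h2, h3,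
        ← IsScalarTower.algebraMap_apply R (R ⧸ q.under R) (S ⧸ q), Ideal.Quotient.mk_algebraMap]
    · have h1 : (aeval (R := Subalgebra.algebraicClosure (R ⧸ q.under R) (S ⧸ q))
          (Ideal.Quotient.mk q a)).toRingHom (Polynomial.mapRingHom ρ₀ X) =
          Ideal.Quotient.mk q a := by
        change aeval (Ideal.Quotient.mk q a) (Polynomial.map ρ₀ X) = _
        rw [Polynomial.map_X, aeval_X]
      have h3 : (aeval (R := R) a).toRingHom X = a := aeval_X a
      rw [RingHom.comp_apply, RingHom.comp_apply, h1, h3]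
  have hrel' : G.eval₂ ((aeval (R := Subalgebra.algebraicClosure (R ⧸ q.under R) (S ⧸ q))
      (Ideal.Quotient.mk q a)).toRingHom.comp (Polynomial.mapRingHom ρ₀))
      (Ideal.Quotient.mk q b) = 0 := by
    rw [hcomp, ← Polynomial.hom_eval₂, Ideal.Quotient.eq_zero_iff_mem]
    exact hrel
  have h0 := leadingCoeff_map_eq_zero ρ₀ (Ideal.Quotient.mk q a) (Ideal.Quotient.mk q b)
    (⟨Ideal.Quotient.mk q (a ^ n + b), hc⟩ :
      Subalgebra.algebraicClosure (R ⧸ q.under R) (S ⧸ q)) n
    (by
      change Ideal.Quotient.mk q (a ^ n + b) = _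
      rw [map_add, map_pow]) ha' G hn hrel'
  apply hlc
  rw [← Ideal.Quotient.eq_zero_iff_mem]
  have h1 : (aeval (R := Subalgebra.algebraicClosure (R ⧸ q.under R) (S ⧸ q))
      (Ideal.Quotient.mk q a)).toRingHom (Polynomial.mapRingHom ρ₀ G.leadingCoeff) =
      Ideal.Quotient.mk q (aeval a G.leadingCoeff) := by
    rw [← RingHom.comp_apply, hcomp]; rfl
  rw [← h1]
  change (aeval (R := Subalgebra.algebraicClosure (R ⧸ q.under R) (S ⧸ q))
      (Ideal.Quotient.mk q a)).toRingHom (Polynomial.map ρ₀ G.leadingCoeff) = 0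
  rw [h0, map_zero]

end AlgLemmas

end Groth.Agent.Lib.Helper11.Pert
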