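import Mathlib
import Groth.Agent.Lib.Helper11.Pert2

/-!
# Power perturbations and fibre dimension: the uniform perturbation lemma
-/

set_option autoImplicit false
set_option linter.unusedSectionVars false
set_option linter.style.haveILetI false
set_option linter.deprecated false
universe u
open Polynomial Cardinal Topology

namespace Groth.Agent.Lib.Helper11.Pert

theorem exists_nat_of_le {c : Cardinal.{u}} {m : ℕ} (h : c ≤ (m : Cardinal.{u})) :
    ∃ n : ℕ, c = (n : Cardinal.{u}) ∧ n ≤ m := by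
  have hb : c < ℵ₀ := lt_of_le_of_lt h (Cardinal.nat_lt_aleph0 _)
  obtain ⟨n, rfl⟩ := Cardinal.lt_aleph0.mp hb
  exact ⟨n, rfl, by exact_mod_cast h⟩

/-- **(C4)** if `b` is transcendental over the residue domain of `R[X]` (acting through `a`), then
`a ^ n + b` is transcendental over the residue domain of `R`. -/
theorem transcendental_pow_add_of_transcendental {R S : Type u} [CommRing R] [CommRing S]
    [Algebra R S] [Algebra R[X] S] [IsScalarTower R R[X] S] (q : Ideal S) [q.IsPrime] (b : S)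
    (n : ℕ) (hb : Transcendental (R[X] ⧸ q.under R[X]) (Ideal.Quotient.mk q b)) :
    Transcendental (R ⧸ q.under R) (Ideal.Quotient.mk q ((algebraMap R[X] S X) ^ n + b)) := by
  intro hc
  haveI := tower_quot (A := R) (B := R[X]) q
  have hc' : IsAlgebraic (R[X] ⧸ q.under R[X])
      (Ideal.Quotient.mk q ((algebraMap R[X] S X) ^ n + b)) :=
    hc.extendScalars (FaithfulSMul.algebraMap_injective _ _)
  have hX : IsAlgebraic (R[X] ⧸ q.under R[X]) (Ideal.Quotient.mk q ((algebraMap R[X] S X) ^ n)) := by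
    have : Ideal.Quotient.mk q ((algebraMap R[X] S X) ^ n) =
        algebraMap (R[X] ⧸ q.under R[X]) (S ⧸ q) (Ideal.Quotient.mk _ (X ^ n)) := by
      rw [Ideal.Quotient.algebraMap_mk_of_liesOver, map_pow (algebraMap R[X] S)]
    rw [this]
    exact isAlgebraic_algebraMap _
  apply hb
  have : Ideal.Quotient.mk q b = Ideal.Quotient.mk q ((algebraMap R[X] S X) ^ n + b) -
      Ideal.Quotient.mk q ((algebraMap R[X] S X) ^ n) := by
    rw [map_add]; ring
  rw [this]
  exact hc'.sub hX


/-- **Uniform power perturbation.**  If all residual transcendence degrees of `S` over `R` are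
`≤ D`, then for `n ≫ 0`: at every prime of residual transcendence degree exactly `D` at which `a`
is transcendental, `a ^ n + b` is transcendental as well. -/
theorem core (R S : Type u) [CommRing R] [CommRing S] [Algebra R S] [Algebra.FiniteType R S]
    (D : ℕ) (a b : S)
    (hD : ∀ q : PrimeSpectrum S,
      Algebra.trdeg (R ⧸ q.asIdeal.under R) (S ⧸ q.asIdeal) ≤ (D : Cardinal.{u})) :
    ∃ n₀ : ℕ, ∀ n ≥ n₀, ∀ q : PrimeSpectrum S,
      (Algebra.trdeg (R ⧸ q.asIdeal.under R) (S ⧸ q.asIdeal) = (D : Cardinal.{u}) →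
      Transcendental (R ⧸ q.asIdeal.under R) (Ideal.Quotient.mk q.asIdeal a) →
      Transcendental (R ⧸ q.asIdeal.under R) (Ideal.Quotient.mk q.asIdeal (a ^ n + b))) := by
  apply exists_uniform
  intro q₀
  by_cases h1 : Algebra.trdeg (R ⧸ q₀.asIdeal.under R) (S ⧸ q₀.asIdeal) = (D : Cardinal.{u})
  swap
  · -- (C1)
    obtain ⟨k, hk, hkD⟩ := exists_nat_of_le (hD q₀)
    have hkD' : k ≠ D := fun h => h1 (by rw [hk, h])
    obtain ⟨m, rfl⟩ : ∃ m, D = m + 1 := Nat.exists_eq_succ_of_ne_zero (by omega)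
    obtain ⟨N, hN1, hN2, hN3⟩ := exists_nbhd_trdeg_le m R S q₀
      (by rw [hk]; exact_mod_cast (by omega : k ≤ m))
    refine ⟨N, hN1, hN2, 0, fun n _ q hq hqD => ?_⟩
    exfalso
    have h := hN3 q hq
    rw [hqD] at h
    have : m + 1 ≤ m := by exact_mod_cast h
    omega
  by_cases h2 : Transcendental (R ⧸ q₀.asIdeal.under R) (Ideal.Quotient.mk q₀.asIdeal a)
  swap
  · -- (C2)
    rw [Transcendental, not_not] at h2
    obtain ⟨G, hG1, hG2⟩ := exists_rel_of_isAlgebraic (A := R) q₀.asIdeal a h2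
    refine ⟨Cset (aeval a G) (algebraMap R S G.leadingCoeff), isOpen_cset _ _, ⟨hG1, hG2⟩, 0,
      fun n _ q hq _ hqa => ?_⟩
    exact absurd (isAlgebraic_of_rel q.asIdeal a G hq.1 hq.2) hqa
  letI := polyAlg (A := R) a
  haveI := polyAlg_tower (A := R) a
  haveI := polyAlg_finiteType (A := R) a
  have hXa : algebraMap R[X] S X = a := polyAlg_X (A := R) a
  by_cases h3 : IsAlgebraic (R[X] ⧸ q₀.asIdeal.under R[X]) (Ideal.Quotient.mk q₀.asIdeal b)
  · -- (C3)
    obtain ⟨G, hG1, hG2⟩ := exists_rel_of_isAlgebraic (A := R[X]) q₀.asIdeal b h3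
    refine ⟨Cset (aeval b G) (algebraMap R[X] S G.leadingCoeff), isOpen_cset _ _, ⟨hG1, hG2⟩,
      (G.support.sup fun j => (G.coeff j).natDegree) + 1, fun n hn q hq _ hqa => ?_⟩
    refine transcendental_pow_add_of_rel q.asIdeal a b G hq.1 hq.2 n (fun j => ?_) hqa
    by_cases hj : j ∈ G.support
    · have := Finset.le_sup (f := fun j => (G.coeff j).natDegree) hj
      omega
    · rw [notMem_support_iff.mp hj, natDegree_zero]
      omega
  · -- (C4)
    letI := polyAlg (A := R[X]) b
    haveI := polyAlg_tower (A := R[X]) b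
    haveI := polyAlg_finiteType (A := R[X]) b
    have hXb : algebraMap R[X][X] S X = b := polyAlg_X (A := R[X]) b
    have ta : 1 ≤ Algebra.trdeg (R ⧸ q₀.asIdeal.under R) (R[X] ⧸ q₀.asIdeal.under R[X]) :=
      one_le_trdeg_poly q₀.asIdeal (by rw [hXa]; exact h2)
    have tb : 1 ≤ Algebra.trdeg (R[X] ⧸ q₀.asIdeal.under R[X])
        (R[X][X] ⧸ q₀.asIdeal.under R[X][X]) :=
      one_le_trdeg_poly q₀.asIdeal (by rw [hXb]; exact h3)
    have e1 := trdeg_tower (A := R) (B := R[X]) q₀.asIdeal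
    have e2 := trdeg_tower (A := R[X]) (B := R[X][X]) q₀.asIdeal
    rw [h1] at e1
    obtain ⟨y1, hy1, hy1D⟩ := exists_nat_of_le (le_trans (self_le_add_left _ _) e1.le)
    obtain ⟨x1, hx1, -⟩ := exists_nat_of_le (le_trans (self_le_add_right _ _) e1.le)
    rw [hy1] at e2
    obtain ⟨y2, hy2, -⟩ := exists_nat_of_le (le_trans (self_le_add_left _ _) e2.le)
    obtain ⟨x2, hx2, -⟩ := exists_nat_of_le (le_trans (self_le_add_right _ _) e2.le)
    rw [hx1, hy1] at e1
    rw [hx2, hy2] at e2
    rw [hx1] at ta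
    rw [hx2] at tb
    have e1' : x1 + y1 = D := by exact_mod_cast e1
    have e2' : x2 + y2 = y1 := by exact_mod_cast e2
    have ta' : 1 ≤ x1 := by exact_mod_cast ta
    have tb' : 1 ≤ x2 := by exact_mod_cast tb
    obtain ⟨m, rfl⟩ : ∃ m, D = m + 2 := ⟨D - 2, by omega⟩
    obtain ⟨N, hN1, hN2, hN3⟩ := exists_nbhd_trdeg_le m R[X][X] S q₀
      (by rw [hy2]; exact_mod_cast (by omega : y2 ≤ m))
    refine ⟨N, hN1, hN2, 0, fun n _ q hq hqD hqa => ?_⟩
    have f1 := trdeg_tower (A := R) (B := R[X]) q.asIdeal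
    have f2 := trdeg_tower (A := R[X]) (B := R[X][X]) q.asIdeal
    rw [hqD] at f1
    have g1 := trdeg_poly_le_one (q.asIdeal.under R) (q.asIdeal.under R[X])
    have g2 := trdeg_poly_le_one (q.asIdeal.under R[X]) (q.asIdeal.under R[X][X])
    have g3 := hN3 q hq
    have hbq : Transcendental (R[X] ⧸ q.asIdeal.under R[X]) (Ideal.Quotient.mk q.asIdeal b) := by
      intro halg
      have g4 := trdeg_poly_eq_zero (A := R[X]) q.asIdeal (by rw [hXb]; exact halg)
      rw [g4, zero_add] at f2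
      rw [← f2] at f1
      have : ((m + 2 : ℕ) : Cardinal.{u}) ≤ (1 : Cardinal.{u}) + (m : Cardinal.{u}) := by
        rw [← f1]
        exact add_le_add g1 g3
      have : m + 2 ≤ 1 + m := by exact_mod_cast this
      omega
    have := transcendental_pow_add_of_transcendental (R := R) q.asIdeal b n hbq
    rwa [hXa] at this

end Groth.Agent.Lib.Helper11.Pert
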