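import Mathlib
import Groth.Agent.Lib.Helper11.Pert3
import Groth.Agent.Lib.Helper9.DimTrdeg
import Groth.Agent.Lib.Helper21.FibDimR1

/-!
# Power perturbations and fibre dimension: translation to Krull dimension of fibre rings
-/

set_option autoImplicit false
set_option linter.unusedSectionVars false
set_option linter.style.haveILetI false
set_option linter.deprecated false
universe u
open Polynomial Cardinal Topology

namespace Groth.Agent.Lib.Helper11.Pert

/-- the dimension of a finite type algebra over a field is the supremum of the transcendence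
degrees of its residue domains. -/
theorem ringKrullDim_le_iff_trdeg (k F : Type u) [Field k] [CommRing F] [Algebra k F]
    [Algebra.FiniteType k F] (d : ℕ) :
    ringKrullDim F ≤ (d : WithBot ℕ∞) ↔
      ∀ Q : Ideal F, Q.IsPrime → Algebra.trdeg k (F ⧸ Q) ≤ (d : Cardinal.{u}) := by
  constructor
  · intro h Q hQ
    haveI : IsDomain (F ⧸ Q) := Ideal.Quotient.isDomain Q
    haveI : Algebra.FiniteType k (F ⧸ Q) :=
      Algebra.FiniteType.of_surjective (Ideal.Quotient.mkₐ k Q) (Ideal.Quotient.mkₐ_surjective k Q)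
    obtain ⟨s, hs1, hs2⟩ := Groth.Agent.Lib.Helper9.DimTrdeg.exists_nat_dim_eq_trdeg k (F ⧸ Q)
    have h1 : ringKrullDim (F ⧸ Q) ≤ (d : WithBot ℕ∞) := le_trans (ringKrullDim_quotient_le Q) h
    rw [hs1] at h1
    have h2 : s ≤ d := by exact_mod_cast h1
    rw [hs2]
    exact_mod_cast h2
  · intro h
    rcases subsingleton_or_nontrivial F with hF | hF
    · rw [ringKrullDim_eq_bot_of_subsingleton]; exact bot_le
    obtain ⟨s, g, hginj, hgfin⟩ := exists_finite_inj_algHom_of_fg k F
    letI : Algebra (MvPolynomial (Fin s) k) F := g.toRingHom.toAlgebra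
    have hfin : Module.Finite (MvPolynomial (Fin s) k) F := hgfin
    have hint : Algebra.IsIntegral (MvPolynomial (Fin s) k) F := inferInstance
    have h1 := Groth.Agent.Lib.Helper12.ringKrullDim_eq_of_isIntegral_of_injective
      (MvPolynomial (Fin s) k) F hginj
    have h2 : ringKrullDim (MvPolynomial (Fin s) k) = ringKrullDim k + Nat.card (Fin s) :=
      MvPolynomial.ringKrullDim_of_isNoetherianRing
    rw [ringKrullDim_eq_zero_of_field, zero_add, Nat.card_fin] at h2
    rw [← h1, h2]
    have hmin : (⊥ : Ideal (MvPolynomial (Fin s) k)) ∈ minimalPrimes (MvPolynomial (Fin s) k) := by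
      rw [IsDomain.minimalPrimes_eq_singleton_bot]; rfl
    obtain ⟨Q, hQ, hQc⟩ := Ideal.exists_comap_eq_of_mem_minimalPrimes_of_injective
      (f := g.toRingHom) hginj ⊥ hmin
    have hdom : IsDomain (F ⧸ Q) := Ideal.Quotient.isDomain Q
    let χ : MvPolynomial (Fin s) k →ₐ[k] F ⧸ Q := (Ideal.Quotient.mkₐ k Q).comp g
    have hχ : Function.Injective χ := by
      rw [injective_iff_map_eq_zero]
      intro p hp
      have : g p ∈ Q := Ideal.Quotient.eq_zero_iff_mem.mp hp
      have : p ∈ Ideal.comap g.toRingHom Q := this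
      rw [hQc] at this
      exact this
    have hai : AlgebraicIndependent k (fun i : Fin s => χ (MvPolynomial.X i)) := by
      rw [algebraicIndependent_iff_injective_aeval]
      have : MvPolynomial.aeval (fun i : Fin s => χ (MvPolynomial.X i)) = χ := by
        apply MvPolynomial.algHom_ext
        intro i
        simp
      rw [this]
      exact hχ
    have h3 := hai.lift_cardinalMk_le_trdeg
    rw [Cardinal.lift_uzero] at h3
    simp only [mk_fintype, Fintype.card_fin, lift_natCast] at h3
    have h4 := le_trans h3 (h Q hQ)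
    have h5 : s ≤ d := by exact_mod_cast h4
    exact_mod_cast h5


section Fibre

variable {A S : Type u} [CommRing A] [CommRing S] [Algebra A S]

theorem trdeg_liesOver_eq (P : Ideal A) [P.IsPrime] (q : Ideal S) [q.IsPrime] [h : q.LiesOver P] :
    Algebra.trdeg (A ⧸ P) (S ⧸ q) = Algebra.trdeg (A ⧸ q.under A) (S ⧸ q) := by
  obtain rfl : P = q.under A := h.over
  rfl

variable [Algebra.FiniteType A S]

/-- a bound on the dimension of the fibre ring bounds the residual transcendence degrees. -/
theorem trdeg_le_of_fiber_dim_le (d : ℕ) (q : Ideal S) [q.IsPrime]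
    (h : ringKrullDim ((q.under A).Fiber S) ≤ (d : WithBot ℕ∞)) :
    Algebra.trdeg (A ⧸ q.under A) (S ⧸ q) ≤ (d : Cardinal.{u}) := by
  let e := PrimeSpectrum.primesOverOrderIsoFiber A S (q.under A)
  let qq : (q.under A).primesOver S := ⟨q, ⟨inferInstance, inferInstance⟩⟩
  have hq : (e qq).asIdeal.comap Algebra.TensorProduct.includeRight.toRingHom = q := by
    have h1 := PrimeSpectrum.coe_primesOverOrderIsoFiber_symm_apply (R := A) (S := S)
      (p := q.under A) (e qq)
    rw [e.symm_apply_apply] at h1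
    exact h1.symm
  haveI : (e qq).asIdeal.IsPrime := (e qq).2
  have h2 := Groth.Agent.Lib.Helper21.FibDim.trdeg_fiber_quotient A S (q.under A)
    (e qq).asIdeal q hq
  rw [← h2]
  exact (ringKrullDim_le_iff_trdeg (q.under A).ResidueField ((q.under A).Fiber S) d).mp h _
    inferInstance

/-- bounds on the residual transcendence degrees bound the dimension of the fibre ring. -/
theorem fiber_dim_le_of_trdeg_le (d : ℕ) (P : Ideal A) [P.IsPrime]
    (h : ∀ (q : Ideal S) [q.IsPrime] [q.LiesOver P],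
      Algebra.trdeg (A ⧸ q.under A) (S ⧸ q) ≤ (d : Cardinal.{u})) :
    ringKrullDim (P.Fiber S) ≤ (d : WithBot ℕ∞) := by
  rw [ringKrullDim_le_iff_trdeg P.ResidueField (P.Fiber S) d]
  intro Q hQ
  let e := PrimeSpectrum.primesOverOrderIsoFiber A S P
  let qq : P.primesOver S := e.symm ⟨Q, hQ⟩
  haveI : qq.1.IsPrime := qq.2.1
  haveI : qq.1.LiesOver P := qq.2.2
  have hq : Q.comap Algebra.TensorProduct.includeRight.toRingHom = qq.1 :=
    (PrimeSpectrum.coe_primesOverOrderIsoFiber_symm_apply (R := A) (S := S) (p := P)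
      ⟨Q, hQ⟩).symm
  have h2 := Groth.Agent.Lib.Helper21.FibDim.trdeg_fiber_quotient A S P Q qq.1 hq
  rw [h2, trdeg_liesOver_eq]
  exact h qq.1

end Fibre


section Main

variable {R S : Type u} [CommRing R] [CommRing S] [Algebra R S] [Algebra.FiniteType R S]

/-- fibre dimension `≤ d` over `R[x]` (acting through `a`) bounds the residual transcendence
degree over `R` by `d + 1`, with equality only where `a` is transcendental. -/
theorem facts_of_fiber_dim_le (d : ℕ) (a : S)
    (ha : ∀ P : PrimeSpectrum R[X], letI := polyAlg (A := R) a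
      ringKrullDim (P.asIdeal.Fiber S) ≤ (d : WithBot ℕ∞)) (q : PrimeSpectrum S) :
    Algebra.trdeg (R ⧸ q.asIdeal.under R) (S ⧸ q.asIdeal) ≤ ((d + 1 : ℕ) : Cardinal.{u}) ∧
    (Algebra.trdeg (R ⧸ q.asIdeal.under R) (S ⧸ q.asIdeal) = ((d + 1 : ℕ) : Cardinal.{u}) →
      Transcendental (R ⧸ q.asIdeal.under R) (Ideal.Quotient.mk q.asIdeal a)) := by
  letI := polyAlg (A := R) a
  haveI := polyAlg_tower (A := R) a
  haveI := polyAlg_finiteType (A := R) a
  have hXa : algebraMap R[X] S X = a := polyAlg_X (A := R) a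
  have h1 : Algebra.trdeg (R[X] ⧸ q.asIdeal.under R[X]) (S ⧸ q.asIdeal) ≤ (d : Cardinal.{u}) :=
    trdeg_le_of_fiber_dim_le (A := R[X]) d q.asIdeal (ha ⟨q.asIdeal.under R[X], inferInstance⟩)
  have h2 := trdeg_tower (A := R) (B := R[X]) q.asIdeal
  have h3 := trdeg_poly_le_one (q.asIdeal.under R) (q.asIdeal.under R[X])
  constructor
  · rw [← h2]
    calc _ ≤ (1 : Cardinal.{u}) + (d : Cardinal.{u}) := add_le_add h3 h1
      _ = ((d + 1 : ℕ) : Cardinal.{u}) := by push_cast; rw [add_comm]
  · intro hq halg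
    have h4 := trdeg_poly_eq_zero (A := R) q.asIdeal (by rw [hXa]; exact halg)
    rw [h4, zero_add, hq] at h2
    rw [h2] at h1
    have : d + 1 ≤ d := by exact_mod_cast h1
    omega

/-- **Stability of the fibre dimension bound under power perturbations.** -/
theorem s1430_main (d : ℕ) (a b : S)
    (ha : ∀ P : PrimeSpectrum R[X], letI := polyAlg (A := R) a
      ringKrullDim (P.asIdeal.Fiber S) ≤ (d : WithBot ℕ∞)) :
    ∃ n₀ : ℕ, ∀ n ≥ n₀, ∀ P : PrimeSpectrum R[X], letI := polyAlg (A := R) (a ^ n + b)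
      ringKrullDim (P.asIdeal.Fiber S) ≤ (d : WithBot ℕ∞) := by
  obtain ⟨n₀, hn₀⟩ := core R S (d + 1) a b fun q => (facts_of_fiber_dim_le d a ha q).1
  refine ⟨n₀, fun n hn P => ?_⟩
  letI := polyAlg (A := R) (a ^ n + b)
  haveI := polyAlg_tower (A := R) (a ^ n + b)
  haveI := polyAlg_finiteType (A := R) (a ^ n + b)
  have hXc : algebraMap R[X] S X = a ^ n + b := polyAlg_X (A := R) (a ^ n + b)
  refine fiber_dim_le_of_trdeg_le (A := R[X]) d P.asIdeal fun q _ _ => ?_
  have f1 := trdeg_tower (A := R) (B := R[X]) q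
  obtain ⟨hle, htr⟩ := facts_of_fiber_dim_le d a ha ⟨q, inferInstance⟩
  by_cases hq : Algebra.trdeg (R ⧸ q.under R) (S ⧸ q) = ((d + 1 : ℕ) : Cardinal.{u})
  · have hc := hn₀ n hn ⟨q, inferInstance⟩ hq (htr hq)
    have tc : 1 ≤ Algebra.trdeg (R ⧸ q.under R) (R[X] ⧸ q.under R[X]) :=
      one_le_trdeg_poly q (by rw [hXc]; exact hc)
    rw [hq] at f1
    exact card_le_of_add_le f1.le tc
  · obtain ⟨k, hk, hkd⟩ := exists_nat_of_le hle
    have hk' : k ≠ d + 1 := fun h => hq (by rw [hk, h])
    have : Algebra.trdeg (R[X] ⧸ q.under R[X]) (S ⧸ q) ≤ Algebra.trdeg (R ⧸ q.under R) (S ⧸ q) := by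
      rw [← f1]; exact self_le_add_left _ _
    refine le_trans this ?_
    rw [hk]
    exact_mod_cast (by omega : k ≤ d)

end Main

end Groth.Agent.Lib.Helper11.Pert
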