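import Mathlib
import Groth.Agent.Lib.Helper11.Pert4

/-!
# Weak relative Noether normalization
-/

set_option autoImplicit false
set_option linter.unusedSectionVars false
set_option linter.style.haveILetI false
set_option linter.deprecated false
universe u
open Polynomial Cardinal Topology

namespace Groth.Agent.Lib.Helper11.Pert

section QF

variable {A S : Type u} [CommRing A] [CommRing S] [Algebra A S] [Algebra.FiniteType A S]

/-- residual transcendence degree zero everywhere means quasi-finite. -/
theorem quasiFinite_of_trdeg_le_zero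
    (h : ∀ q : PrimeSpectrum S,
      Algebra.trdeg (A ⧸ q.asIdeal.under A) (S ⧸ q.asIdeal) ≤ ((0 : ℕ) : Cardinal.{u})) :
    Algebra.QuasiFinite A S := by
  refine ⟨fun P _ => ?_⟩
  rw [Module.finite_iff_krullDimLE_zero, Ring.krullDimLE_iff]
  exact fiber_dim_le_of_trdeg_le (A := A) 0 P fun q _ _ => h ⟨q, inferInstance⟩

end QF

section Choose

variable {R S : Type u} [CommRing R] [CommRing S] [Algebra R S] [Algebra.FiniteType R S]

/-- an element which is transcendental at all primes of maximal residual transcendence degree at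
which some element of `t` is transcendental. -/
theorem exists_transcendental_of_finset (D : ℕ)
    (hD : ∀ q : PrimeSpectrum S,
      Algebra.trdeg (R ⧸ q.asIdeal.under R) (S ⧸ q.asIdeal) ≤ (D : Cardinal.{u}))
    (t : Finset S) :
    ∃ a : S, ∀ q : PrimeSpectrum S,
      Algebra.trdeg (R ⧸ q.asIdeal.under R) (S ⧸ q.asIdeal) = (D : Cardinal.{u}) →
      (∃ x ∈ t, Transcendental (R ⧸ q.asIdeal.under R) (Ideal.Quotient.mk q.asIdeal x)) →
      Transcendental (R ⧸ q.asIdeal.under R) (Ideal.Quotient.mk q.asIdeal a) := by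
  classical
  induction t using Finset.induction_on with
  | empty =>
    refine ⟨0, fun q _ h => ?_⟩
    obtain ⟨x, hx, _⟩ := h
    simp at hx
  | insert x t hxt ih =>
    obtain ⟨a, ha⟩ := ih
    obtain ⟨n₀, hn₀⟩ := core R S D a x hD
    refine ⟨a ^ n₀ + x, fun q hq h => ?_⟩
    by_cases hqa : Transcendental (R ⧸ q.asIdeal.under R) (Ideal.Quotient.mk q.asIdeal a)
    · exact hn₀ n₀ le_rfl q hq hqa
    · have hx : Transcendental (R ⧸ q.asIdeal.under R) (Ideal.Quotient.mk q.asIdeal x) := by
        obtain ⟨y, hy, hytr⟩ := h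
        rcases Finset.mem_insert.mp hy with rfl | hyt
        · exact hytr
        · exact absurd (ha q hq ⟨y, hyt, hytr⟩) hqa
      rw [Transcendental, not_not] at hqa
      intro hsum
      apply hx
      have : Ideal.Quotient.mk q.asIdeal x = Ideal.Quotient.mk q.asIdeal (a ^ n₀ + x) -
          (Ideal.Quotient.mk q.asIdeal a) ^ n₀ := by
        rw [map_add, map_pow]; ring
      rw [this]
      exact hsum.sub (hqa.pow n₀)

/-- an element which is transcendental at all primes of maximal residual transcendence degree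
`D ≥ 1`. -/
theorem exists_transcendental (D : ℕ) (hD0 : 0 < D)
    (hD : ∀ q : PrimeSpectrum S,
      Algebra.trdeg (R ⧸ q.asIdeal.under R) (S ⧸ q.asIdeal) ≤ (D : Cardinal.{u})) :
    ∃ a : S, ∀ q : PrimeSpectrum S,
      Algebra.trdeg (R ⧸ q.asIdeal.under R) (S ⧸ q.asIdeal) = (D : Cardinal.{u}) →
      Transcendental (R ⧸ q.asIdeal.under R) (Ideal.Quotient.mk q.asIdeal a) := by
  obtain ⟨t, ht⟩ := (Algebra.FiniteType.out : (⊤ : Subalgebra R S).FG)
  obtain ⟨a, ha⟩ := exists_transcendental_of_finset D hD t
  refine ⟨a, fun q hq => ha q hq ?_⟩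
  by_contra hcon
  push Not at hcon
  have halg : Algebra.IsAlgebraic (R ⧸ q.asIdeal.under R) (S ⧸ q.asIdeal) :=
    isAlgebraic_quot_of_generators q.asIdeal (t : Set S) ht fun x hx => by
      have := hcon x hx
      rwa [Transcendental, not_not] at this
  rw [trdeg_eq_zero] at hq
  have : (0 : ℕ) = D := by exact_mod_cast hq
  omega

end Choose


section Normalization

/-- **Weak relative Noether normalization** in terms of residual transcendence degrees. -/
theorem exists_quasiFinite_of_trdeg_le (d : ℕ) : ∀ (R S : Type u) [CommRing R] [CommRing S]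
    [Algebra R S] [Algebra.FiniteType R S],
    (∀ q : PrimeSpectrum S,
      Algebra.trdeg (R ⧸ q.asIdeal.under R) (S ⧸ q.asIdeal) ≤ (d : Cardinal.{u})) →
    ∃ φ : MvPolynomial (Fin d) R →ₐ[R] S, φ.toRingHom.QuasiFinite := by
  induction d with
  | zero =>
    intro R S _ _ _ _ h
    haveI : Algebra.QuasiFinite R S := quasiFinite_of_trdeg_le_zero h
    refine ⟨(Algebra.ofId R S).comp (MvPolynomial.isEmptyAlgEquiv R (Fin 0)).toAlgHom, ?_⟩
    have h1 : ((Algebra.ofId R S).comp (MvPolynomial.isEmptyAlgEquiv R (Fin 0)).toAlgHom).toRingHom =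
        (algebraMap R S).comp (MvPolynomial.isEmptyAlgEquiv R (Fin 0)).toRingEquiv.toRingHom := rfl
    rw [h1]
    refine RingHom.QuasiFinite.comp ?_ ?_
    · exact RingHom.quasiFinite_algebraMap.mpr inferInstance
    · exact RingHom.QuasiFinite.of_finite
        (RingHom.Finite.of_surjective _ (MvPolynomial.isEmptyAlgEquiv R (Fin 0)).surjective)
  | succ d ih =>
    intro R S _ _ _ _ h
    obtain ⟨a, ha⟩ := exists_transcendental (R := R) (S := S) (d + 1) (Nat.succ_pos d) h
    letI := polyAlg (A := R) a
    haveI := polyAlg_tower (A := R) a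
    haveI := polyAlg_finiteType (A := R) a
    have hXa : algebraMap R[X] S X = a := polyAlg_X (A := R) a
    have h' : ∀ q : PrimeSpectrum S,
        Algebra.trdeg (R[X] ⧸ q.asIdeal.under R[X]) (S ⧸ q.asIdeal) ≤ (d : Cardinal.{u}) := by
      intro q
      have f1 := trdeg_tower (A := R) (B := R[X]) q.asIdeal
      by_cases hq : Algebra.trdeg (R ⧸ q.asIdeal.under R) (S ⧸ q.asIdeal) =
          ((d + 1 : ℕ) : Cardinal.{u})
      · have tc : 1 ≤ Algebra.trdeg (R ⧸ q.asIdeal.under R) (R[X] ⧸ q.asIdeal.under R[X]) :=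
          one_le_trdeg_poly q.asIdeal (by rw [hXa]; exact ha q hq)
        rw [hq] at f1
        exact card_le_of_add_le f1.le tc
      · obtain ⟨k, hk, hkd⟩ := exists_nat_of_le (h q)
        have hk' : k ≠ d + 1 := fun h => hq (by rw [hk, h])
        have : Algebra.trdeg (R[X] ⧸ q.asIdeal.under R[X]) (S ⧸ q.asIdeal) ≤
            Algebra.trdeg (R ⧸ q.asIdeal.under R) (S ⧸ q.asIdeal) := by
          rw [← f1]; exact self_le_add_left _ _
        refine le_trans this ?_
        rw [hk]
        exact_mod_cast (by omega : k ≤ d)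
    obtain ⟨φ', hφ'⟩ := ih R[X] S h'
    let e : MvPolynomial (Fin (d + 1)) R ≃ₐ[R] MvPolynomial (Fin d) R[X] :=
      (MvPolynomial.renameEquiv R (finSuccEquiv d)).trans (MvPolynomial.optionEquivRight R (Fin d))
    refine ⟨(φ'.restrictScalars R).comp e.toAlgHom, ?_⟩
    have h1 : ((φ'.restrictScalars R).comp e.toAlgHom).toRingHom =
        φ'.toRingHom.comp e.toRingEquiv.toRingHom := rfl
    rw [h1]
    exact RingHom.QuasiFinite.comp hφ'
      (RingHom.QuasiFinite.of_finite (RingHom.Finite.of_surjective _ e.surjective))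

end Normalization

end Groth.Agent.Lib.Helper11.Pert
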