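import Mathlib

/-!
# Perfect rings of characteristic `p`, predicate form (helper11)

`IsPerf p R`: `p = 0` in `R` and `x ↦ x ^ p` is bijective.  No `CharP` instance is needed, so the
zero ring is allowed.  Root-closed ideals and the ideals `(f^{1/p^∞})`.
-/

set_option autoImplicit false
set_option linter.unusedSectionVars false
set_option linter.unusedVariables false
universe u v

namespace Groth.Agent.Lib.Helper11.Pf

/-- `R` is a perfect ring of characteristic `p` (possibly the zero ring) -/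
structure IsPerf (p : ℕ) (R : Type*) [CommRing R] : Prop where
  char : (p : R) = 0
  bij : Function.Bijective (fun x : R => x ^ p)

namespace IsPerf

variable {p : ℕ} [hp : Fact p.Prime] {R : Type u} [CommRing R]

theorem add_pow (h : IsPerf p R) (x y : R) : (x + y) ^ p = x ^ p + y ^ p := by
  obtain ⟨r, hr⟩ := exists_add_pow_prime_eq hp.out x y
  rw [hr, h.char]
  ring

/-- Frobenius as a ring homomorphism -/
def frobHom (h : IsPerf p R) : R →+* R where
  toFun x := x ^ p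
  map_one' := one_pow p
  map_mul' x y := mul_pow x y p
  map_zero' := zero_pow hp.out.ne_zero
  map_add' := h.add_pow

/-- Frobenius as a ring automorphism -/
noncomputable def frobEquiv (h : IsPerf p R) : R ≃+* R := RingEquiv.ofBijective h.frobHom h.bij

/-- the `p`-th root -/
noncomputable def rt (h : IsPerf p R) : R ≃+* R := h.frobEquiv.symm

theorem rt_pow (h : IsPerf p R) (x : R) : (h.rt x) ^ p = x := h.frobEquiv.apply_symm_apply x

theorem rt_pow_self (h : IsPerf p R) (x : R) : h.rt (x ^ p) = x := h.frobEquiv.symm_apply_apply x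

theorem eq_of_pow_eq (h : IsPerf p R) {x y : R} (hxy : x ^ p = y ^ p) : x = y := h.bij.1 hxy

theorem eq_zero_of_pow_eq_zero (h : IsPerf p R) {x : R} (hx : x ^ p = 0) : x = 0 :=
  h.eq_of_pow_eq (by rw [hx, zero_pow hp.out.ne_zero])

theorem map_rt (h : IsPerf p R) {S : Type v} [CommRing S] (hS : IsPerf p S) (φ : R →+* S) (x : R) :
    φ (h.rt x) = hS.rt (φ x) := by
  apply hS.eq_of_pow_eq
  rw [hS.rt_pow, ← map_pow, h.rt_pow]

/-- an ideal closed under `p`-th roots -/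
def RootClosed (h : IsPerf p R) (𝔠 : Ideal R) : Prop := ∀ x ∈ 𝔠, h.rt x ∈ 𝔠

theorem RootClosed.mem_of_pow_mem {h : IsPerf p R} {𝔠 : Ideal R} (hc : h.RootClosed 𝔠) {c : R}
    (hcp : c ^ p ∈ 𝔠) : c ∈ 𝔠 := by
  have := hc _ hcp
  rwa [h.rt_pow_self] at this

theorem RootClosed.good {h : IsPerf p R} {𝔠 : Ideal R} (hc : h.RootClosed 𝔠) {g c : R}
    (hg : g ^ p * c ∈ 𝔠) : g ^ (p - 1) * c ∈ 𝔠 := by
  apply hc.mem_of_pow_mem
  obtain ⟨k, hk⟩ : ∃ k, p = k + 2 := ⟨p - 2, by have := hp.out.two_le; omega⟩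
  have e1 : p - 1 = k + 1 := by omega
  have h1 : (g ^ (p - 1) * c) ^ p = (g ^ (k * (k + 2)) * c ^ (k + 1)) * (g ^ p * c) := by
    rw [e1, hk]
    ring
  rw [h1]
  exact Ideal.mul_mem_left _ _ hg

theorem rootClosed_bot (h : IsPerf p R) : h.RootClosed ⊥ := by
  intro x hx
  rw [Ideal.mem_bot] at hx ⊢
  rw [hx, map_zero]

theorem rootClosed_span (h : IsPerf p R) {T : Set R} (hT : ∀ t ∈ T, h.rt t ∈ T) :
    h.RootClosed (Ideal.span T) := by
  intro x hx
  have h1 : h.rt x ∈ Ideal.map (h.rt : R →+* R) (Ideal.span T) := Ideal.mem_map_of_mem _ hx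
  rw [Ideal.map_span] at h1
  refine Ideal.span_mono ?_ h1
  rintro _ ⟨t, ht, rfl⟩
  exact hT t ht

theorem RootClosed.sup {h : IsPerf p R} {𝔠 𝔡 : Ideal R} (hc : h.RootClosed 𝔠) (hd : h.RootClosed 𝔡) :
    h.RootClosed (𝔠 ⊔ 𝔡) := by
  intro x hx
  obtain ⟨a, ha, b, hb, rfl⟩ := Submodule.mem_sup.1 hx
  rw [map_add]
  exact Submodule.add_mem_sup (hc a ha) (hd b hb)

theorem RootClosed.map {h : IsPerf p R} {S : Type v} [CommRing S] {hS : IsPerf p S} (φ : R →+* S) {𝔠 : Ideal R}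
    (hc : h.RootClosed 𝔠) : hS.RootClosed (Ideal.map φ 𝔠) := by
  refine hS.rootClosed_span ?_
  rintro _ ⟨c, hc', rfl⟩
  exact ⟨h.rt c, hc c hc', h.map_rt hS φ c⟩

/-- the sequence `f^{1/pⁿ}` -/
noncomputable def rootSeq (h : IsPerf p R) (f : R) (n : ℕ) : R := (h.rt)^[n] f

theorem rootSeq_zero (h : IsPerf p R) (f : R) : h.rootSeq f 0 = f := rfl

theorem rootSeq_succ (h : IsPerf p R) (f : R) (n : ℕ) : h.rootSeq f (n + 1) = h.rt (h.rootSeq f n) :=
  Function.iterate_succ_apply' _ _ _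

theorem rootSeq_succ_pow (h : IsPerf p R) (f : R) (n : ℕ) : (h.rootSeq f (n + 1)) ^ p = h.rootSeq f n := by
  rw [rootSeq_succ, rt_pow]

theorem rootSeq_dvd (h : IsPerf p R) (f : R) {n m : ℕ} (hnm : n ≤ m) : h.rootSeq f m ∣ h.rootSeq f n := by
  induction m, hnm using Nat.le_induction with
  | base => exact dvd_rfl
  | succ m _ ih =>
    refine dvd_trans ?_ ih
    rw [← rootSeq_succ_pow h f m]
    exact dvd_pow_self (h.rootSeq f (m + 1)) hp.out.ne_zero

/-- the ideal `(f^{1/p^∞})` -/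
noncomputable def rootIdeal (h : IsPerf p R) (f : R) : Ideal R := Ideal.span (Set.range (h.rootSeq f))

theorem rootClosed_rootIdeal (h : IsPerf p R) (f : R) : h.RootClosed (h.rootIdeal f) := by
  refine h.rootClosed_span ?_
  rintro _ ⟨n, rfl⟩
  exact ⟨n + 1, rootSeq_succ h f n⟩

theorem mem_rootIdeal (h : IsPerf p R) (f : R) : f ∈ h.rootIdeal f :=
  Ideal.subset_span ⟨0, rfl⟩

theorem RootClosed.rootIdeal_le {h : IsPerf p R} {𝔠 : Ideal R} (hc : h.RootClosed 𝔠) {f : R} (hf : f ∈ 𝔠) :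
    h.rootIdeal f ≤ 𝔠 := by
  rw [rootIdeal, Ideal.span_le]
  rintro _ ⟨n, rfl⟩
  induction n with
  | zero => exact hf
  | succ n ih =>
    rw [rootSeq_succ]
    exact hc _ ih

theorem exists_eq_mul_rootSeq (h : IsPerf p R) (f : R) {a : R} (ha : a ∈ h.rootIdeal f) :
    ∃ (n : ℕ) (c : R), a = c * h.rootSeq f n := by
  unfold rootIdeal at ha
  induction ha using Submodule.span_induction with
  | mem x hx =>
    obtain ⟨n, rfl⟩ := hx
    exact ⟨n, 1, (one_mul _).symm⟩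
  | zero => exact ⟨0, 0, (zero_mul _).symm⟩
  | add x y _ _ hx hy =>
    obtain ⟨n, c, rfl⟩ := hx
    obtain ⟨m, c', rfl⟩ := hy
    obtain ⟨q, hq⟩ := h.rootSeq_dvd f (le_max_left n m)
    obtain ⟨q', hq'⟩ := h.rootSeq_dvd f (le_max_right n m)
    refine ⟨max n m, c * q + c' * q', ?_⟩
    rw [hq, hq']
    ring
  | smul r x _ hx =>
    obtain ⟨n, c, rfl⟩ := hx
    exact ⟨n, r * c, by rw [smul_eq_mul, mul_assoc]⟩

/-- elements of `(f^{1/p^∞}) F` have the shape `f^{1/pⁿ} y` -/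
theorem exists_eq_rootSeq_smul (h : IsPerf p R) (f : R) {F : Type v} [AddCommGroup F] [Module R F] {v : F}
    (hv : v ∈ (h.rootIdeal f • ⊤ : Submodule R F)) :
    ∃ (n : ℕ) (y : F), v = h.rootSeq f n • y := by
  refine Submodule.smul_induction_on hv ?_ ?_
  · intro a ha m _
    obtain ⟨n, c, rfl⟩ := h.exists_eq_mul_rootSeq f ha
    exact ⟨n, c • m, by rw [smul_smul, mul_comm]⟩
  · rintro x y ⟨n, x', rfl⟩ ⟨m, y', rfl⟩
    obtain ⟨q, hq⟩ := h.rootSeq_dvd f (le_max_left n m)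
    obtain ⟨q', hq'⟩ := h.rootSeq_dvd f (le_max_right n m)
    refine ⟨max n m, q • x' + q' • y', ?_⟩
    rw [smul_add, smul_smul, smul_smul, ← hq, ← hq']

end IsPerf

end Groth.Agent.Lib.Helper11.Pf
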