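import Mathlib
import Groth.Agent.Lib.Helper11.PfA

/-!
# Perfect rings: `Z ∩ IF = IZ` for root-closed ideals (helper11)
-/

set_option autoImplicit false
set_option linter.unusedSectionVars false
set_option linter.unusedVariables false
universe u v w

namespace Groth.Agent.Lib.Helper11.Pf

variable {p : ℕ} [hp : Fact p.Prime] {A : Type u} [CommRing A]

/-- `gᵖ x ∈ IX → gᵖ⁻¹ x ∈ IX` -/
def Good (p : ℕ) (I : Ideal A) (X : Type v) [AddCommGroup X] [Module A X] : Prop :=
  ∀ (g : A) (x : X), g ^ p • x ∈ (I • ⊤ : Submodule A X) →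
    g ^ (p - 1) • x ∈ (I • ⊤ : Submodule A X)

/-- `Z ∩ IF ⊆ IZ` -/
def Inj (I : Ideal A) {F : Type v} [AddCommGroup F] [Module A F] (Z : Submodule A F) : Prop :=
  Z ⊓ (I • ⊤ : Submodule A F) ≤ I • Z

theorem map_mem_smul_top {X Y : Type*} [AddCommGroup X] [Module A X] [AddCommGroup Y]
    [Module A Y] (φ : X →ₗ[A] Y) (I : Ideal A) {x : X} (hx : x ∈ (I • ⊤ : Submodule A X)) :
    φ x ∈ (I • ⊤ : Submodule A Y) := by
  have h1 : Submodule.map φ (I • ⊤ : Submodule A X) ≤ I • ⊤ := by
    rw [Submodule.map_smul'']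
    exact Submodule.smul_mono le_rfl le_top
  exact h1 ⟨x, hx, rfl⟩

theorem mem_smul_top_finsupp {T : Type v} (I : Ideal A) (v : T →₀ A) :
    v ∈ (I • ⊤ : Submodule A (T →₀ A)) ↔ ∀ t, v t ∈ I := by
  constructor
  · intro hv
    refine Submodule.smul_induction_on hv ?_ ?_
    · intro a ha m _ t
      rw [Finsupp.smul_apply, smul_eq_mul]
      exact Ideal.mul_mem_right _ _ ha
    · intro x y hx hy t
      rw [Finsupp.add_apply]
      exact Ideal.add_mem _ (hx t) (hy t)
  · intro hv
    rw [← Finsupp.sum_single v]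
    refine Submodule.sum_mem _ fun t _ => ?_
    have : Finsupp.single t (v t) = (v t) • Finsupp.single t (1 : A) := by
      rw [Finsupp.smul_single, smul_eq_mul, mul_one]
    rw [this]
    exact Submodule.smul_mem_smul (hv t) Submodule.mem_top

theorem good_finsupp (h : IsPerf p A) {I : Ideal A} (hI : h.RootClosed I) (T : Type v) :
    Good p I (T →₀ A) := by
  intro g x hx
  rw [mem_smul_top_finsupp] at hx ⊢
  intro t
  have := hx t
  rw [Finsupp.smul_apply, smul_eq_mul] at this ⊢
  exact hI.good this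

theorem good_projective (h : IsPerf p A) {I : Ideal A} (hI : h.RootClosed I) (F : Type v)
    [AddCommGroup F] [Module A F] [Module.Projective A F] : Good p I F := by
  obtain ⟨s, hs⟩ := Module.projective_def'.1 (inferInstance : Module.Projective A F)
  intro g x hx
  have h1 : g ^ p • s x ∈ (I • ⊤ : Submodule A (F →₀ A)) := by
    rw [← map_smul]
    exact map_mem_smul_top s I hx
  have h2 := good_finsupp h hI F g (s x) h1
  have h3 := map_mem_smul_top (Finsupp.linearCombination A (id : F → F)) I h2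
  rw [map_smul] at h3
  have h4 : Finsupp.linearCombination A (id : F → F) (s x) = x := by
    have := congrArg (fun φ : F →ₗ[A] F => φ x) hs
    simpa using this
  rwa [h4] at h3

theorem good_algebra (h : IsPerf p A) {I : Ideal A} (hI : h.RootClosed I) (C : Type v)
    [CommRing C] [Algebra A C] (hC : IsPerf p C) : Good p I C := by
  intro g c hc
  rw [Ideal.smul_top_eq_map, Submodule.restrictScalars_mem] at hc ⊢
  rw [Algebra.smul_def, map_pow] at hc ⊢
  exact (IsPerf.RootClosed.map (hS := hC) (algebraMap A C) hI).good hc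

theorem good_submodule {I : Ideal A} {F : Type v} [AddCommGroup F] [Module A F]
    (Z : Submodule A F) (hF : Good p I F) (hinj : Inj I Z) : Good p I ↥Z := by
  have hmap : Submodule.map Z.subtype (I • ⊤ : Submodule A ↥Z) = I • Z := by
    rw [Submodule.map_smul'', Submodule.map_subtype_top]
  intro g x hx
  have h1 : ((g ^ p • x : ↥Z) : F) ∈ I • Z := by
    rw [← hmap]
    exact ⟨_, hx, rfl⟩
  have h2 : g ^ p • (x : F) ∈ (I • ⊤ : Submodule A F) :=
    (Submodule.smul_mono le_rfl le_top : I • Z ≤ I • ⊤) h1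
  have h3 := hF g (x : F) h2
  have h4 : g ^ (p - 1) • (x : F) ∈ I • Z :=
    hinj ⟨Z.smul_mem _ x.2, h3⟩
  rw [← hmap] at h4
  obtain ⟨y, hy, hyx⟩ := h4
  have : y = g ^ (p - 1) • x := Subtype.ext hyx
  rwa [this] at hy

theorem inj_bot {F : Type v} [AddCommGroup F] [Module A F] (Z : Submodule A F) :
    Inj (⊥ : Ideal A) Z := by
  intro z hz
  have : z ∈ ((⊥ : Ideal A) • ⊤ : Submodule A F) := hz.2
  rw [Submodule.bot_smul, Submodule.mem_bot] at this
  rw [this]
  exact Submodule.zero_mem _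

/-- the one-generator step -/
theorem inj_step (h : IsPerf p A) {I₁ : Ideal A} (f : A) {F X : Type v} [AddCommGroup F]
    [Module A F] [AddCommGroup X] [Module A X] (π : F →ₗ[A] X) (hπ : Function.Surjective π)
    (hgood : Good p I₁ X) (hinj : Inj I₁ (LinearMap.ker π)) :
    Inj (I₁ ⊔ h.rootIdeal f) (LinearMap.ker π) := by
  intro z hz
  rw [Submodule.mem_inf] at hz
  obtain ⟨hzk, hzI⟩ := hz
  rw [Submodule.sup_smul] at hzI ⊢
  obtain ⟨u, hu, v, hv, rfl⟩ := Submodule.mem_sup.1 hzI
  obtain ⟨n, y, rfl⟩ := h.exists_eq_rootSeq_smul f hv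
  set g := h.rootSeq f (n + 1) with hg
  have hgp : h.rootSeq f n = g ^ p := (h.rootSeq_succ_pow f n).symm
  have hgg : g * g ^ (p - 1) = g ^ p := by
    rw [← pow_succ', Nat.sub_add_cancel hp.out.pos]
  have hgJ : g ∈ h.rootIdeal f := Ideal.subset_span ⟨n + 1, rfl⟩
  rw [hgp] at hzk ⊢
  rw [LinearMap.mem_ker, map_add, map_smul] at hzk
  have h1 : g ^ p • π y ∈ (I₁ • ⊤ : Submodule A X) := by
    have : g ^ p • π y = - π u := by
      rw [eq_neg_iff_add_eq_zero, add_comm]
      exact hzk
    rw [this]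
    exact Submodule.neg_mem _ (map_mem_smul_top π I₁ hu)
  have h2 := hgood g (π y) h1
  have hmap : (I₁ • ⊤ : Submodule A X) = Submodule.map π (I₁ • ⊤ : Submodule A F) := by
    rw [Submodule.map_smul'', Submodule.map_top, LinearMap.range_eq_top.2 hπ]
  rw [hmap] at h2
  obtain ⟨u', hu', hπu'⟩ := h2
  set w := g ^ (p - 1) • y - u' with hw
  have hwk : w ∈ LinearMap.ker π := by
    rw [LinearMap.mem_ker, hw, map_sub, map_smul, hπu', sub_self]
  have h3 : u + g • u' ∈ LinearMap.ker π ⊓ (I₁ • ⊤ : Submodule A F) := by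
    constructor
    · have : u + g • u' = (u + g ^ p • y) - g • w := by
        rw [hw, smul_sub, smul_smul, hgg]
        abel
      rw [this]
      refine Submodule.sub_mem _ ?_ (Submodule.smul_mem _ _ hwk)
      rw [LinearMap.mem_ker, map_add, map_smul]
      exact hzk
    · exact Submodule.add_mem _ hu (Submodule.smul_mem _ _ hu')
  have h4 := hinj h3
  have h5 : u + g ^ p • y = (u + g • u') + g • w := by
    rw [hw, smul_sub, smul_smul, hgg]
    abel
  rw [h5]
  exact Submodule.add_mem_sup h4 (Submodule.smul_mem_smul hgJ hwk)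

/-- the ideal generated by all `p`-power roots of the members of a list -/
noncomputable def listIdeal (h : IsPerf p A) (l : List A) : Ideal A :=
  Ideal.span {x | ∃ a ∈ l, ∃ n, h.rootSeq a n = x}

theorem listIdeal_nil (h : IsPerf p A) : listIdeal h [] = ⊥ := by
  unfold listIdeal
  rw [Ideal.span_eq_bot]
  rintro x ⟨a, ha, _⟩
  simp at ha

theorem listIdeal_cons (h : IsPerf p A) (f : A) (l : List A) :
    listIdeal h (f :: l) = listIdeal h l ⊔ h.rootIdeal f := by
  unfold listIdeal IsPerf.rootIdeal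
  rw [← Ideal.span_union]
  congr 1
  ext x
  simp only [List.mem_cons, Set.mem_setOf_eq, Set.mem_union, Set.mem_range]
  constructor
  · rintro ⟨a, ha | ha, n, rfl⟩
    · right
      exact ⟨n, by rw [ha]⟩
    · left
      exact ⟨a, ha, n, rfl⟩
  · rintro (⟨a, ha, n, rfl⟩ | ⟨n, rfl⟩)
    · exact ⟨a, Or.inr ha, n, rfl⟩
    · exact ⟨f, Or.inl rfl, n, rfl⟩

theorem listIdeal_mono (h : IsPerf p A) {l l' : List A} (hl : ∀ a ∈ l, a ∈ l') :
    listIdeal h l ≤ listIdeal h l' := by
  apply Ideal.span_mono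
  rintro x ⟨a, ha, n, rfl⟩
  exact ⟨a, hl a ha, n, rfl⟩

theorem mem_listIdeal (h : IsPerf p A) {l : List A} {a : A} (ha : a ∈ l) : a ∈ listIdeal h l :=
  Ideal.subset_span ⟨a, ha, 0, rfl⟩

theorem rootClosed_listIdeal (h : IsPerf p A) (l : List A) : h.RootClosed (listIdeal h l) := by
  refine h.rootClosed_span ?_
  rintro _ ⟨a, ha, n, rfl⟩
  exact ⟨a, ha, n + 1, h.rootSeq_succ a n⟩

theorem listIdeal_le (h : IsPerf p A) {I : Ideal A} (hI : h.RootClosed I) {l : List A}
    (hl : ∀ a ∈ l, a ∈ I) : listIdeal h l ≤ I := by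
  unfold listIdeal
  rw [Ideal.span_le]
  rintro _ ⟨a, ha, n, rfl⟩
  exact hI.rootIdeal_le (hl a ha) (Ideal.subset_span ⟨n, rfl⟩)

theorem exists_list_of_mem_smul_top (h : IsPerf p A) (I : Ideal A) {F : Type v}
    [AddCommGroup F] [Module A F] {z : F} (hz : z ∈ (I • ⊤ : Submodule A F)) :
    ∃ l : List A, (∀ a ∈ l, a ∈ I) ∧ z ∈ (listIdeal h l • ⊤ : Submodule A F) := by
  refine Submodule.smul_induction_on hz ?_ ?_
  · intro a ha m _
    refine ⟨[a], ?_, Submodule.smul_mem_smul (mem_listIdeal h (List.mem_singleton.2 rfl))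
      Submodule.mem_top⟩
    intro b hb
    rw [List.mem_singleton.1 hb]
    exact ha
  · rintro x y ⟨l, hl, hx⟩ ⟨l', hl', hy⟩
    refine ⟨l ++ l', ?_, ?_⟩
    · intro a ha
      rcases List.mem_append.1 ha with ha | ha
      · exact hl a ha
      · exact hl' a ha
    · refine Submodule.add_mem _ ?_ ?_
      · exact Submodule.smul_mono (listIdeal_mono h fun a ha => List.mem_append_left _ ha)
          le_rfl hx
      · exact Submodule.smul_mono (listIdeal_mono h fun a ha => List.mem_append_right _ ha)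
          le_rfl hy

/-- if `X = F/Z` is good for all root-closed ideals then `Z ∩ IF = IZ` for all of them -/
theorem inj_of_good (h : IsPerf p A) {F X : Type v} [AddCommGroup F] [Module A F]
    [AddCommGroup X] [Module A X] (π : F →ₗ[A] X) (hπ : Function.Surjective π)
    (hgood : ∀ I : Ideal A, h.RootClosed I → Good p I X) (I : Ideal A) (hI : h.RootClosed I) :
    Inj I (LinearMap.ker π) := by
  have hlist : ∀ l : List A, Inj (listIdeal h l) (LinearMap.ker π) := by
    intro l
    induction l with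
    | nil =>
      rw [listIdeal_nil]
      exact inj_bot _
    | cons f l ih =>
      rw [listIdeal_cons]
      exact inj_step h f π hπ (hgood _ (rootClosed_listIdeal h l)) ih
  intro z hz
  obtain ⟨l, hl, hzl⟩ := exists_list_of_mem_smul_top h I hz.2
  exact Submodule.smul_mono (listIdeal_le h hI hl) le_rfl (hlist l ⟨hz.1, hzl⟩)

/-- exactness modulo `I` -/
theorem exact_mod {I : Ideal A} {F'' F' F : Type v} [AddCommGroup F''] [Module A F'']
    [AddCommGroup F'] [Module A F'] [AddCommGroup F] [Module A F]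
    (d' : F'' →ₗ[A] F') (d : F' →ₗ[A] F) (hex : LinearMap.range d' = LinearMap.ker d)
    (hinj : Inj I (LinearMap.range d)) (z : F') (hz : d z ∈ (I • ⊤ : Submodule A F)) :
    ∃ w, z - d' w ∈ (I • ⊤ : Submodule A F') := by
  have h1 : d z ∈ I • LinearMap.range d := hinj ⟨⟨z, rfl⟩, hz⟩
  have h2 : I • LinearMap.range d = Submodule.map d (I • ⊤ : Submodule A F') := by
    rw [Submodule.map_smul'', Submodule.map_top]
  rw [h2] at h1
  obtain ⟨u, hu, hdu⟩ := h1
  have h3 : z - u ∈ LinearMap.ker d := by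
    rw [LinearMap.mem_ker, map_sub, hdu, sub_self]
  rw [← hex] at h3
  obtain ⟨w, hw⟩ := h3
  refine ⟨w, ?_⟩
  rw [hw, sub_sub_cancel]
  exact hu

end Groth.Agent.Lib.Helper11.Pf
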