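import Mathlib
import Groth.Agent.Lib.Helper11.PfA

/-!
# Tensor products of perfect rings are perfect (helper11)
-/

set_option autoImplicit false
set_option linter.unusedSectionVars false
set_option linter.unusedVariables false
universe u v w

namespace Groth.Agent.Lib.Helper11.Pf

open TensorProduct

variable {p : ℕ} [hp : Fact p.Prime]

theorem add_pow_of_char {R : Type*} [CommRing R] (hchar : (p : R) = 0) (x y : R) :
    (x + y) ^ p = x ^ p + y ^ p := by
  obtain ⟨r, hr⟩ := exists_add_pow_prime_eq hp.out x y
  rw [hr, hchar]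
  ring

section Tensor

variable (k : Type u) (B : Type v) (C : Type w) [CommRing k] [CommRing B] [CommRing C]
  [Algebra k B] [Algebra k C] (hk : IsPerf p k) (hB : IsPerf p B) (hC : IsPerf p C)

theorem char_tensor (hk : IsPerf p k) : ((p : ℕ) : B ⊗[k] C) = 0 := by
  rw [← map_natCast (algebraMap k (B ⊗[k] C)) p, hk.char, map_zero]

/-- the additive map `b ⊗ c ↦ b^{1/p} ⊗ c^{1/p}` -/
noncomputable def rtTensor : B ⊗[k] C →+ B ⊗[k] C :=
  TensorProduct.liftAddHom
    (AddMonoidHom.mk' (fun b : B => AddMonoidHom.mk' (fun c : C => (hB.rt b ⊗ₜ[k] hC.rt c))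
      (fun c c' => by rw [map_add, TensorProduct.tmul_add]))
      (fun b b' => by
        ext c
        simp only [AddMonoidHom.mk'_apply, AddMonoidHom.add_apply, map_add,
          TensorProduct.add_tmul]))
    (fun r b c => by
      simp only [AddMonoidHom.mk'_apply]
      have h1 : hB.rt (r • b) = hk.rt r • hB.rt b := by
        rw [Algebra.smul_def, map_mul, ← hk.map_rt hB (algebraMap k B) r, ← Algebra.smul_def]
      have h2 : hC.rt (r • c) = hk.rt r • hC.rt c := by
        rw [Algebra.smul_def, map_mul, ← hk.map_rt hC (algebraMap k C) r, ← Algebra.smul_def]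
      rw [h1, h2, TensorProduct.smul_tmul])

theorem rtTensor_tmul (b : B) (c : C) :
    rtTensor k B C hk hB hC (b ⊗ₜ[k] c) = hB.rt b ⊗ₜ[k] hC.rt c := rfl

theorem rtTensor_pow (x : B ⊗[k] C) : rtTensor k B C hk hB hC (x ^ p) = x := by
  induction x using TensorProduct.induction_on with
  | zero => rw [zero_pow hp.out.ne_zero, map_zero]
  | tmul b c =>
    rw [Algebra.TensorProduct.tmul_pow, rtTensor_tmul, hB.rt_pow_self, hC.rt_pow_self]
  | add x y hx hy =>
    rw [add_pow_of_char (char_tensor k B C hk), map_add, hx, hy]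

include hk hB hC in
theorem isPerf_tensor : IsPerf p (B ⊗[k] C) where
  char := char_tensor k B C hk
  bij := by
    constructor
    · intro x y hxy
      have hxy' : x ^ p = y ^ p := hxy
      rw [← rtTensor_pow k B C hk hB hC x, ← rtTensor_pow k B C hk hB hC y, hxy']
    · intro x
      induction x using TensorProduct.induction_on with
      | zero => exact ⟨0, zero_pow hp.out.ne_zero⟩
      | tmul b c =>
        refine ⟨hB.rt b ⊗ₜ[k] hC.rt c, ?_⟩
        show (hB.rt b ⊗ₜ[k] hC.rt c) ^ p = _
        rw [Algebra.TensorProduct.tmul_pow, hB.rt_pow, hC.rt_pow]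
      | add x y hx hy =>
        obtain ⟨u, hu⟩ := hx
        obtain ⟨v, hv⟩ := hy
        refine ⟨u + v, ?_⟩
        show (u + v) ^ p = _
        rw [add_pow_of_char (char_tensor k B C hk)]
        exact congrArg₂ (· + ·) hu hv

end Tensor

theorem isPerf_zmod : IsPerf p (ZMod p) where
  char := CharP.cast_eq_zero (ZMod p) p
  bij := by
    have : (fun x : ZMod p => x ^ p) = id := by
      funext x
      exact ZMod.pow_card x
    rw [this]
    exact Function.bijective_id

end Groth.Agent.Lib.Helper11.Pf
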