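import Mathlib
import Groth.Agent.Lib.Helper11.PfB
import Groth.Agent.Lib.Helper28.TorBC

/-!
# Perfect rings: `Tor_n^A(A/I, C) = 0` for root-closed `I` and perfect `C` (helper11)
-/

set_option autoImplicit false
set_option linter.unusedSectionVars false
set_option linter.unusedVariables false
universe u

namespace Groth.Agent.Lib.Helper11.Pf

open CategoryTheory CategoryTheory.Limits MonoidalCategory TensorProduct

variable {p : ℕ} [hp : Fact p.Prime] {A : Type u} [CommRing A]

theorem good_of_equiv {I : Ideal A} {X Y : Type u} [AddCommGroup X] [Module A X]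
    [AddCommGroup Y] [Module A Y] (e : X ≃ₗ[A] Y) (hX : Good p I X) : Good p I Y := by
  intro g y hy
  have h1 : g ^ p • e.symm y ∈ (I • ⊤ : Submodule A X) := by
    rw [← map_smul]
    exact map_mem_smul_top e.symm.toLinearMap I hy
  have h2 := map_mem_smul_top e.toLinearMap I (hX g (e.symm y) h1)
  rwa [LinearEquiv.coe_coe, map_smul, e.apply_symm_apply] at h2

section Resolution

variable (h : IsPerf p A) (C : Type u) [CommRing C] [Algebra A C] (hC : IsPerf p C)
  (P : ProjectiveResolution (ModuleCat.of A C))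

theorem exact₀ : (ShortComplex.mk (P.complex.d 1 0) (P.π.f 0) P.complex_d_comp_π_f_zero).Exact :=
  ShortComplex.exact_of_g_is_cokernel _ P.isColimitCokernelCofork

include hC in
/-- `Z ∩ IF = IZ` along the whole resolution -/
theorem inj_range_d (m : ℕ) : ∀ (I : Ideal A), h.RootClosed I →
    Inj I (LinearMap.range (P.complex.d (m + 1) m).hom) := by
  induction m with
  | zero =>
    intro I hI
    have hex := (exact₀ C P).moduleCat_range_eq_ker
    have hsurj : Function.Surjective (P.π.f 0).hom :=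
      (ModuleCat.epi_iff_surjective _).1 inferInstance
    have hgood : ∀ J : Ideal A, h.RootClosed J →
        Good p J ↑(((ChainComplex.single₀ (ModuleCat.{u} A)).obj (ModuleCat.of A C)).X 0) := by
      intro J hJ
      exact good_of_equiv
        (HomologicalComplex.singleObjXSelf (ComplexShape.down ℕ) 0
          (ModuleCat.of A C)).toLinearEquiv.symm (good_algebra h hJ C hC)
    have := inj_of_good h (P.π.f 0).hom hsurj hgood I hI
    rw [show LinearMap.range (P.complex.d (0 + 1) 0).hom = LinearMap.ker (P.π.f 0).hom from hex]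
    exact this
  | succ m ih =>
    intro I hI
    have hex := (P.exact_succ m).moduleCat_range_eq_ker
    have hproj : Module.Projective A ↑(P.complex.X m) := by
      haveI := P.projective m
      exact ModuleCat.projective_of_module_projective (P.complex.X m)
    have hgood : ∀ J : Ideal A, h.RootClosed J →
        Good p J ↥(LinearMap.range (P.complex.d (m + 1) m).hom) := by
      intro J hJ
      exact good_submodule _ (good_projective h hJ _) (ih J hJ)
    have := inj_of_good h (P.complex.d (m + 1) m).hom.rangeRestrict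
      (LinearMap.surjective_rangeRestrict _) hgood I hI
    rw [LinearMap.ker_rangeRestrict] at this
    rw [show LinearMap.range (P.complex.d (m + 1 + 1) (m + 1)).hom =
      LinearMap.ker (P.complex.d (m + 1) m).hom from hex]
    exact this

end Resolution

theorem tmul_one_eq_zero_iff (I : Ideal A) (F : Type u) [AddCommGroup F] [Module A F] (z : F) :
    ((1 : A ⧸ I) ⊗ₜ[A] z : (A ⧸ I) ⊗[A] F) = 0 ↔ z ∈ (I • ⊤ : Submodule A F) := by
  rw [← (TensorProduct.quotTensorEquivQuotSMul F I).map_eq_zero_iff]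
  have : (TensorProduct.quotTensorEquivQuotSMul F I) ((1 : A ⧸ I) ⊗ₜ[A] z) =
      Submodule.Quotient.mk z := by
    have := TensorProduct.quotTensorEquivQuotSMul_mk_tmul (M := F) I (1 : A) z
    rw [one_smul] at this
    exact this
  rw [this, Submodule.Quotient.mk_eq_zero]

/-- `Tor_n^A(A/I, C) = 0` for `n > 0`, `A`, `C` perfect and `I` root-closed -/
theorem isZero_tor_quot (h : IsPerf p A) (C : Type u) [CommRing C] [Algebra A C]
    (hC : IsPerf p C) (I : Ideal A) (hI : h.RootClosed I) (n : ℕ) (hn : 0 < n) :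
    IsZero (((Tor (ModuleCat.{u} A) n).obj (ModuleCat.of A (A ⧸ I))).obj (ModuleCat.of A C)) := by
  obtain ⟨m, rfl⟩ : ∃ m, n = m + 1 := ⟨n - 1, by omega⟩
  let P := projectiveResolution (ModuleCat.of A C)
  refine IsZero.of_iso ?_
    (Groth.Agent.Lib.Helper28.TorBC.torIso (ModuleCat.of A (A ⧸ I)) P (m + 1))
  set K := ((tensorLeft (ModuleCat.of A (A ⧸ I))).mapHomologicalComplex
    (ComplexShape.down ℕ)).obj P.complex with hK
  rw [← HomologicalComplex.exactAt_iff_isZero_homology,
    HomologicalComplex.exactAt_iff' K (m + 2) (m + 1) m (by simp) (by simp),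
    ShortComplex.moduleCat_exact_iff]
  intro x₂ hx₂
  -- `x₂ = 1 ⊗ z`
  obtain ⟨z, rfl⟩ : ∃ z : ↑(P.complex.X (m + 1)),
      ((1 : A ⧸ I) ⊗ₜ[A] z : (A ⧸ I) ⊗[A] ↑(P.complex.X (m + 1))) = x₂ :=
    TensorProduct.mk_surjective A _ (A ⧸ I) Ideal.Quotient.mk_surjective x₂
  have hd : ∀ (i j : ℕ) (y : ↑(P.complex.X i)),
      (K.d i j).hom ((1 : A ⧸ I) ⊗ₜ[A] y : (A ⧸ I) ⊗[A] ↑(P.complex.X i)) =
        ((1 : A ⧸ I) ⊗ₜ[A] ((P.complex.d i j).hom y) : (A ⧸ I) ⊗[A] ↑(P.complex.X j)) := by
    intro i j y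
    rfl
  have h1 : ((1 : A ⧸ I) ⊗ₜ[A] ((P.complex.d (m + 1) m).hom z) :
      (A ⧸ I) ⊗[A] ↑(P.complex.X m)) = 0 := by
    rw [← hd]
    exact hx₂
  rw [tmul_one_eq_zero_iff] at h1
  obtain ⟨w, hw⟩ := exact_mod (P.complex.d (m + 2) (m + 1)).hom (P.complex.d (m + 1) m).hom
    (P.exact_succ m).moduleCat_range_eq_ker (inj_range_d h C hC P m I hI) z h1
  refine ⟨((1 : A ⧸ I) ⊗ₜ[A] w : (A ⧸ I) ⊗[A] ↑(P.complex.X (m + 2))), ?_⟩
  rw [← tmul_one_eq_zero_iff, TensorProduct.tmul_sub, sub_eq_zero] at hw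
  show (K.d (m + 2) (m + 1)).hom _ = _
  rw [hd]
  exact hw.symm

end Groth.Agent.Lib.Helper11.Pf
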