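import Mathlib
import Groth.Agent.Lib.Helper11.PfC
import Groth.Agent.Lib.Helper11.PfD

/-!
# `Tor_i^A(B, C) = 0` for perfect rings of characteristic `p` (helper11)
-/

set_option autoImplicit false
set_option linter.unusedSectionVars false
set_option linter.unusedVariables false
set_option linter.style.haveILetI false
universe u

namespace Groth.Agent.Lib.Helper11.Pf

open CategoryTheory CategoryTheory.Limits MonoidalCategory TensorProduct

variable {p : ℕ} [hp : Fact p.Prime]

/-- the case of a surjection `A' → B` -/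
theorem isZero_tor_of_surjective {A' : Type u} [CommRing A'] (hA' : IsPerf p A')
    (B : Type u) [CommRing B] [Algebra A' B] (hB : IsPerf p B)
    (hsurj : Function.Surjective (algebraMap A' B))
    (C' : Type u) [CommRing C'] [Algebra A' C'] (hC' : IsPerf p C') (E : ModuleCat.{u} A')
    (e : E ≃ₗ[A'] C') (i : ℕ) (hi : 0 < i) :
    IsZero (((Tor (ModuleCat.{u} A') i).obj (ModuleCat.of A' B)).obj E) := by
  let I : Ideal A' := RingHom.ker (Algebra.ofId A' B)
  have hI : hA'.RootClosed I := by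
    intro x hx
    have hx' : algebraMap A' B x = 0 := hx
    show algebraMap A' B (hA'.rt x) = 0
    apply hB.eq_zero_of_pow_eq_zero
    rw [← map_pow, hA'.rt_pow, hx']
  have hz := isZero_tor_quot hA' C' hC' I hI i hi
  let e₁ : ModuleCat.of A' (A' ⧸ I) ≅ ModuleCat.of A' B :=
    (Ideal.quotientKerAlgEquivOfSurjective (f := Algebra.ofId A' B) hsurj).toLinearEquiv.toModuleIso
  let e₂ : ModuleCat.of A' C' ≅ E := e.symm.toModuleIso
  exact IsZero.of_iso hz
    ((((Tor (ModuleCat.{u} A') i).mapIso e₁).app _).symm ≪≫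
      (((Tor (ModuleCat.{u} A') i).obj (ModuleCat.of A' (A' ⧸ I))).mapIso e₂).symm)

theorem isZero_tor_of_isPerf (A B C : Type u) [CommRing A] [CommRing B] [CommRing C]
    [CharP A p] [Algebra A B] [Algebra A C]
    (hA : Function.Bijective fun a : A => a ^ p) (hB : Function.Bijective fun b : B => b ^ p)
    (hC : Function.Bijective fun c : C => c ^ p) (i : ℕ) (hi : 0 < i) :
    IsZero (((Tor (ModuleCat.{u} A) i).obj (ModuleCat.of A B)).obj (ModuleCat.of A C)) := by
  have hPA : IsPerf p A := ⟨CharP.cast_eq_zero A p, hA⟩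
  have hPB : IsPerf p B :=
    ⟨by rw [← map_natCast (algebraMap A B), CharP.cast_eq_zero, map_zero], hB⟩
  have hPC : IsPerf p C :=
    ⟨by rw [← map_natCast (algebraMap A C), CharP.cast_eq_zero, map_zero], hC⟩
  letI algA : Algebra (ZMod p) A := ZMod.algebra A p
  letI algB : Algebra (ZMod p) B := ((algebraMap A B).comp (algebraMap (ZMod p) A)).toAlgebra
  haveI : IsScalarTower (ZMod p) A B := IsScalarTower.of_algebraMap_eq (fun _ => rfl)
  have hPA' : IsPerf p (A ⊗[ZMod p] B) := isPerf_tensor (ZMod p) A B isPerf_zmod hPA hPB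
  let μ : A ⊗[ZMod p] B →ₐ[ZMod p] B :=
    Algebra.TensorProduct.productMap (IsScalarTower.toAlgHom (ZMod p) A B) (AlgHom.id (ZMod p) B)
  letI algA'B : Algebra (A ⊗[ZMod p] B) B := μ.toRingHom.toAlgebra
  haveI : IsScalarTower A (A ⊗[ZMod p] B) B := IsScalarTower.of_algebraMap_eq (fun a => by
    show algebraMap A B a = μ (algebraMap A (A ⊗[ZMod p] B) a)
    rw [Algebra.TensorProduct.algebraMap_apply, Algebra.TensorProduct.productMap_apply_tmul]
    simp)
  have hsurj : Function.Surjective (algebraMap (A ⊗[ZMod p] B) B) := by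
    intro b
    refine ⟨(1 : A) ⊗ₜ[ZMod p] b, ?_⟩
    show μ ((1 : A) ⊗ₜ[ZMod p] b) = b
    rw [Algebra.TensorProduct.productMap_apply_tmul]
    simp
  have hPC' : IsPerf p ((A ⊗[ZMod p] B) ⊗[A] C) :=
    isPerf_tensor A (A ⊗[ZMod p] B) C hPA hPA' hPC
  obtain ⟨e⟩ := Groth.Agent.Lib.Helper28.TorBC.nonempty_restrict_tor_iso A (A ⊗[ZMod p] B) B
    (ModuleCat.of A C) i
  refine IsZero.of_iso ?_ e.symm
  refine Functor.map_isZero _ ?_
  exact isZero_tor_of_surjective hPA' B hPB hsurj ((A ⊗[ZMod p] B) ⊗[A] C) hPC' _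
    (Groth.Agent.Lib.Helper28.FlatCx.extendScalarsEquiv (A ⊗[ZMod p] B) (ModuleCat.of A C)) i hi

end Groth.Agent.Lib.Helper11.Pf
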