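import Mathlib
import Groth.Agent.Lib.Helper16.PDRegular
import Groth.Agent.Lib.Helper16.Depth
import Groth.Agent.Lib.Helper20.SyzygyFree

/-!
# Modules over a quotient of a two-dimensional regular local ring

For a surjection `S → R` of rings with `S` local noetherian and a finite `R`-module `M` whose
projective dimension over `S` is at most one, we construct a presentation
`R^a --G--> R^b --ψ--> M → 0` such that every element of the annihilator of `M` acts on `G` as
`H ∘ G` for some `H` (so that `ker G` is killed by the annihilator of `M`).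
-/

set_option autoImplicit false
universe u
open CategoryTheory

namespace Groth.Agent.Lib.Helper11.Planar

section BC

variable {S R : Type u} [CommRing S] [CommRing R] (π : S →+* R)

/-- base change of a map of finite free modules along a ring map -/
noncomputable def bc {m n : ℕ} (T : (Fin m → S) →ₗ[S] (Fin n → S)) :
    (Fin m → R) →ₗ[R] (Fin n → R) :=
  Matrix.toLin' ((LinearMap.toMatrix' T).map π)

theorem bc_comp {m n k : ℕ} (T : (Fin n → S) →ₗ[S] (Fin k → S))
    (U : (Fin m → S) →ₗ[S] (Fin n → S)) : bc π (T ∘ₗ U) = bc π T ∘ₗ bc π U := by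
  unfold bc
  rw [LinearMap.toMatrix'_comp, Matrix.map_mul, Matrix.toLin'_mul]

theorem bc_smul_id {m : ℕ} (c : S) :
    bc π (c • (LinearMap.id : (Fin m → S) →ₗ[S] (Fin m → S))) = π c • LinearMap.id := by
  unfold bc
  rw [map_smul, LinearMap.toMatrix'_id]
  have : (c • (1 : Matrix (Fin m) (Fin m) S)).map π = π c • (1 : Matrix (Fin m) (Fin m) R) := by
    ext i j
    simp [Matrix.one_apply, apply_ite π]
  rw [this, map_smul, Matrix.toLin'_one]

theorem bc_apply {m n : ℕ} (T : (Fin m → S) →ₗ[S] (Fin n → S)) (v : Fin m → S) :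
    bc π T (fun i => π (v i)) = fun i => π (T v i) := by
  unfold bc
  rw [Matrix.toLin'_apply]
  funext i
  have h := RingHom.map_mulVec π (LinearMap.toMatrix' T) v i
  rw [LinearMap.toMatrix'_mulVec] at h
  rw [h]
  rfl

end BC

section Pres

variable {S R : Type u} [CommRing S] [IsLocalRing S] [IsNoetherianRing S] [CommRing R]
  [Algebra S R] (hπ : Function.Surjective (algebraMap S R))
  (M : Type u) [AddCommGroup M] [Module R M] [Module.Finite R M] [Module S M]
  [IsScalarTower S R M]

include hπ in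
theorem exists_presentation (hpd : HasProjectiveDimensionLT (ModuleCat.of S M) 2) :
    ∃ (a b : ℕ) (ψ : (Fin b → R) →ₗ[R] M) (G : (Fin a → R) →ₗ[R] (Fin b → R)),
      Function.Surjective ψ ∧ LinearMap.range G = LinearMap.ker ψ ∧
      ∀ α ∈ Module.annihilator R M, ∃ H : (Fin b → R) →ₗ[R] (Fin a → R),
        H ∘ₗ G = α • LinearMap.id := by
  obtain ⟨b, ψ, hψ⟩ := Module.Finite.exists_fin' R M
  have hlift : ∀ {m : ℕ} (v : Fin m → R), ∃ w : Fin m → S, v = fun i => algebraMap S R (w i) := by
    intro m v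
    choose w hw using fun i => hπ (v i)
    exact ⟨w, funext fun i => (hw i).symm⟩
  let ψS : (Fin b → S) →ₗ[S] M :=
    (ψ.restrictScalars S) ∘ₗ (LinearMap.compLeft (Algebra.linearMap S R) (Fin b))
  have hψS_apply : ∀ v : Fin b → S, ψS v = ψ (fun i => algebraMap S R (v i)) := fun v => rfl
  have hψS : Function.Surjective ψS := by
    intro m
    obtain ⟨v, rfl⟩ := hψ m
    obtain ⟨w, rfl⟩ := hlift v
    exact ⟨w, rfl⟩
  haveI : Module.Finite S (LinearMap.ker ψS) :=
    Module.Finite.iff_fg.2 (IsNoetherian.noetherian _)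
  have hpdK : HasProjectiveDimensionLT (ModuleCat.of S (LinearMap.ker ψS)) 1 :=
    Groth.Agent.Lib.Helper20.SyzygyFree.pd_ker_of_surjective ψS hψS 2 1 le_rfl le_rfl hpd
  have hproj : Projective (ModuleCat.of S (LinearMap.ker ψS)) :=
    projective_iff_hasProjectiveDimensionLT_one.2 hpdK
  haveI : Module.Projective S (LinearMap.ker ψS) := by
    rw [← IsProjective.iff_projective] at hproj
    exact hproj
  haveI : Module.Free S (LinearMap.ker ψS) := Module.free_of_flat_of_isLocalRing
  let bK := Module.finBasis S (LinearMap.ker ψS)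
  let Gt : (Fin (Module.finrank S (LinearMap.ker ψS)) → S) →ₗ[S] (Fin b → S) :=
    (LinearMap.ker ψS).subtype ∘ₗ bK.equivFun.symm.toLinearMap
  have hGt : ∀ v, ψS (Gt v) = 0 := fun v => (bK.equivFun.symm v).2
  refine ⟨Module.finrank S (LinearMap.ker ψS), b, ψ, bc (algebraMap S R) Gt, hψ, ?_, ?_⟩
  · apply le_antisymm
    · rintro _ ⟨v, rfl⟩
      obtain ⟨w, rfl⟩ := hlift v
      rw [bc_apply, LinearMap.mem_ker, ← hψS_apply, hGt]
    · intro ω hω
      obtain ⟨w, rfl⟩ := hlift ω
      rw [LinearMap.mem_ker, ← hψS_apply] at hω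
      refine ⟨fun i => algebraMap S R (bK.equivFun ⟨w, hω⟩ i), ?_⟩
      rw [bc_apply]
      have : Gt (bK.equivFun ⟨w, hω⟩) = w := by
        change ((bK.equivFun.symm (bK.equivFun ⟨w, hω⟩) : LinearMap.ker ψS) : Fin b → S) = w
        rw [LinearEquiv.symm_apply_apply]
      rw [this]
  · intro α hα
    obtain ⟨αt, rfl⟩ := hπ α
    have hmem : ∀ t : Fin b → S, (αt • (LinearMap.id : (Fin b → S) →ₗ[S] (Fin b → S))) t ∈
        LinearMap.ker ψS := by
      intro t
      rw [LinearMap.mem_ker, LinearMap.smul_apply, LinearMap.id_apply, map_smul,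
        ← algebraMap_smul R αt (ψS t)]
      exact Module.mem_annihilator.1 hα _
    let h : (Fin b → S) →ₗ[S] LinearMap.ker ψS :=
      LinearMap.codRestrict (LinearMap.ker ψS) (αt • LinearMap.id) hmem
    let Ht : (Fin b → S) →ₗ[S] (Fin (Module.finrank S (LinearMap.ker ψS)) → S) :=
      bK.equivFun.toLinearMap ∘ₗ h
    have hHG : Ht ∘ₗ Gt = αt • LinearMap.id := by
      refine LinearMap.ext fun v => ?_
      change bK.equivFun (h ((bK.equivFun.symm v : LinearMap.ker ψS) : Fin b → S)) = αt • v
      have : h ((bK.equivFun.symm v : LinearMap.ker ψS) : Fin b → S) = αt • bK.equivFun.symm v := by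
        apply Subtype.ext
        rfl
      rw [this, map_smul, LinearEquiv.apply_symm_apply]
    refine ⟨bc (algebraMap S R) Ht, ?_⟩
    rw [← bc_comp, hHG, bc_smul_id]

end Pres

section Reg

open IsLocalRing Groth.Agent.Lib.Helper16.Depth

theorem pd_lt_two (S : Type u) [CommRing S] [IsRegularLocalRing S] (hS : ringKrullDim S = 2)
    (M : Type u) [AddCommGroup M] [Module S M] [Module.Finite S M] (x : S)
    (hx : x ∈ maximalIdeal S) (hxM : IsSMulRegular M x) :
    HasProjectiveDimensionLT (ModuleCat.of S M) 2 := by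
  apply Groth.Agent.Lib.Helper16.PDR.hasProjectiveDimensionLT_succ_of_le_depth S 2
    (by rw [hS]; rfl) 1 M
  have h1 : ((1 : ℕ) : ℕ∞) ≤ LocCoh.depth S M := by
    unfold LocCoh.depth
    rw [le_idealDepth_iff]
    right
    refine ⟨[x], rfl, (RingTheory.Sequence.isWeaklyRegular_singleton_iff M x).2 hxM, ?_⟩
    intro r hr
    rw [List.mem_singleton] at hr
    rw [hr]
    exact hx
  calc ((2 : ℕ) : ℕ∞) = ((1 : ℕ) : ℕ∞) + ((1 : ℕ) : ℕ∞) := by norm_num
    _ ≤ ((1 : ℕ) : ℕ∞) + LocCoh.depth S M := add_le_add le_rfl h1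

/-- the presentation in the setting of a quotient of a two-dimensional regular local ring -/
theorem exists_presentation_of_regular (S : Type u) [CommRing S] [IsRegularLocalRing S]
    (hS : ringKrullDim S = 2) (R : Type u) [CommRing R] [IsLocalRing R] (π : S →+* R)
    (hπ : Function.Surjective π)
    (M : Type u) [AddCommGroup M] [Module R M] [Module.Finite R M]
    (x : R) (hx : x ∈ maximalIdeal R) (hxM : IsSMulRegular M x) :
    ∃ (a b : ℕ) (ψ : (Fin b → R) →ₗ[R] M) (G : (Fin a → R) →ₗ[R] (Fin b → R)),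
      Function.Surjective ψ ∧ LinearMap.range G = LinearMap.ker ψ ∧
      ∀ α ∈ Module.annihilator R M, ∃ H : (Fin b → R) →ₗ[R] (Fin a → R),
        H ∘ₗ G = α • LinearMap.id := by
  letI : Algebra S R := π.toAlgebra
  letI : Module S M := Module.compHom M π
  haveI : IsScalarTower S R M := IsScalarTower.of_algebraMap_smul (fun r m => rfl)
  haveI : Module.Finite S R := Module.Finite.of_surjective (Algebra.linearMap S R) hπ
  haveI : Module.Finite S M := Module.Finite.trans R M
  obtain ⟨xt, rfl⟩ := hπ x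
  have hxt : xt ∈ maximalIdeal S := by
    rw [mem_maximalIdeal, mem_nonunits_iff] at hx ⊢
    exact fun h => hx (h.map π)
  have hxtM : IsSMulRegular M xt := fun m1 m2 h => hxM h
  exact exists_presentation (S := S) (R := R) hπ M (pd_lt_two S hS M xt hxt hxtM)

end Reg

end Groth.Agent.Lib.Helper11.Planar
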