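import Mathlib
import Groth.Agent.Lib.Helper11.Planar
import Groth.Agent.Lib.Helper2.TorBalance

/-!
# `Tor₁` vanishing over quotients of two-dimensional regular local rings
-/

set_option autoImplicit false
universe u
open CategoryTheory CategoryTheory.Limits MonoidalCategory TensorProduct IsLocalRing

namespace Groth.Agent.Lib.Helper11.Planar

section Reduced

variable (R : Type u) [CommRing R] [IsLocalRing R] [IsNoetherianRing R] [IsReduced R]

theorem sInf_minimalPrimes_eq_bot : sInf (minimalPrimes R) = ⊥ := by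
  have h : sInf (⊥ : Ideal R).minimalPrimes = (⊥ : Ideal R).radical := Ideal.sInf_minimalPrimes
  have h2 : (⊥ : Ideal R).radical = ⊥ := by
    have := nilradical_eq_zero R
    exact this
  exact h.trans h2

theorem maximalIdeal_eq_bot_of_mem_minimalPrimes (hm : maximalIdeal R ∈ minimalPrimes R) :
    maximalIdeal R = ⊥ := by
  rw [eq_bot_iff, ← sInf_minimalPrimes_eq_bot R]
  apply le_sInf
  intro q hq
  have hqp : q.IsPrime := hq.1.1
  exact hm.2 ⟨hqp, bot_le⟩ (le_maximalIdeal hqp.ne_top)

theorem exists_regular (hm : maximalIdeal R ∉ minimalPrimes R) :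
    ∃ z ∈ maximalIdeal R, IsSMulRegular R z := by
  by_contra hcon
  push Not at hcon
  have hfin := minimalPrimes.finite_of_isNoetherianRing R
  have hsub : ((maximalIdeal R : Ideal R) : Set R) ⊆
      ⋃ p ∈ ((hfin.toFinset : Finset (Ideal R)) : Set (Ideal R)), ((id p : Ideal R) : Set R) := by
    intro z hz
    have hnr := hcon z hz
    have : ∃ w : R, w ≠ 0 ∧ z * w = 0 := by
      by_contra hno
      push Not at hno
      apply hnr
      intro w1 w2 h
      have h0 : z * (w1 - w2) = 0 := by
        have : z * w1 = z * w2 := h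
        rw [mul_sub, this, sub_self]
      by_contra hne
      exact hno (w1 - w2) (sub_ne_zero.2 hne) h0
    obtain ⟨w, hw, hzw⟩ := this
    have hw' : w ∉ sInf (minimalPrimes R) := by
      rw [sInf_minimalPrimes_eq_bot]
      exact hw
    rw [Submodule.mem_sInf] at hw'
    push Not at hw'
    obtain ⟨p, hp, hwp⟩ := hw'
    have hpp : Ideal.IsPrime p := hp.1.1
    have hzp : z ∈ p := by
      have h0 : z * w ∈ p := by rw [hzw]; exact zero_mem p
      exact (hpp.mem_or_mem h0).resolve_right hwp
    simp only [Set.mem_iUnion]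
    exact ⟨p, by simpa using hp, hzp⟩
  rw [Ideal.subset_union_prime ⊤ ⊤ (fun i hi _ _ => by
    have : i ∈ minimalPrimes R := by simpa using hi
    exact this.1.1)] at hsub
  obtain ⟨p, hp, hle⟩ := hsub
  have hp' : p ∈ minimalPrimes R := by simpa using hp
  have hpp : p.IsPrime := hp'.1.1
  have : maximalIdeal R = p :=
    le_antisymm hle (le_maximalIdeal hpp.ne_top)
  exact hm (this ▸ hp')

end Reduced

section Tor

variable {R : Type u} [CommRing R]

theorem isSMulRegular_dual (N : Type u) [AddCommGroup N] [Module R N] (z : R)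
    (hz : IsSMulRegular R z) : IsSMulRegular (Module.Dual R N) z := by
  intro φ1 φ2 h
  refine LinearMap.ext fun n => ?_
  apply hz
  exact LinearMap.congr_fun h n

/-- the abstract injectivity statement -/
theorem rTensor_injective {a b : ℕ} {M : Type u} [AddCommGroup M] [Module R M]
    (ψ : (Fin b → R) →ₗ[R] M) (G : (Fin a → R) →ₗ[R] (Fin b → R))
    (hG : LinearMap.range G = LinearMap.ker ψ)
    (L : Type u) [AddCommGroup L] [Module R L]
    (z : R) (k : ℕ) (hzL : IsSMulRegular L z)
    (hH : ∃ α β : R, z ^ k = α + β ∧ (∀ l : L, β • l = 0) ∧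
      ∃ H : (Fin b → R) →ₗ[R] (Fin a → R), H ∘ₗ G = α • LinearMap.id) :
    Function.Injective (LinearMap.rTensor L (LinearMap.ker ψ).subtype) := by
  obtain ⟨α, β, hαβ, hβ, H, hHG⟩ := hH
  have hGmem : ∀ v, G v ∈ LinearMap.ker ψ := fun v => hG ▸ LinearMap.mem_range_self G v
  let g : (Fin a → R) →ₗ[R] LinearMap.ker ψ := LinearMap.codRestrict (LinearMap.ker ψ) G hGmem
  have hg : Function.Surjective g := by
    rintro ⟨ω, hω⟩
    rw [← hG] at hω
    obtain ⟨v, rfl⟩ := hω
    exact ⟨v, Subtype.ext rfl⟩
  have hcomp : (LinearMap.ker ψ).subtype ∘ₗ g = G := rfl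
  have hgL : Function.Surjective (LinearMap.rTensor L g) := LinearMap.rTensor_surjective L hg
  have hzT : IsSMulRegular ((Fin a → R) ⊗[R] L) (z ^ k) :=
    (IsSMulRegular.lTensor (Fin a → R) hzL).pow k
  have hβT : ∀ t : (Fin a → R) ⊗[R] L, β • t = 0 := by
    intro t
    induction t using TensorProduct.induction_on with
    | zero => exact smul_zero _
    | tmul v l => rw [← TensorProduct.tmul_smul, hβ, TensorProduct.tmul_zero]
    | add t1 t2 h1 h2 => rw [smul_add, h1, h2, add_zero]
  have hGinj : Function.Injective (LinearMap.rTensor L G) := by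
    rw [← LinearMap.ker_eq_bot, eq_bot_iff]
    intro t ht
    rw [LinearMap.mem_ker] at ht
    rw [Submodule.mem_bot]
    apply hzT
    change z ^ k • t = z ^ k • 0
    rw [smul_zero, hαβ, add_smul, hβT, add_zero]
    have h1 : LinearMap.rTensor L (H ∘ₗ G) t = α • t := by
      rw [hHG, LinearMap.rTensor_smul, LinearMap.rTensor_id]
      rfl
    rw [← h1, LinearMap.rTensor_comp, LinearMap.comp_apply, ht, map_zero]
  intro w1 w2 h
  obtain ⟨v1, rfl⟩ := hgL w1
  obtain ⟨v2, rfl⟩ := hgL w2
  have h' : LinearMap.rTensor L G v1 = LinearMap.rTensor L G v2 := by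
    rw [← hcomp, LinearMap.rTensor_comp]
    exact h
  rw [hGinj h']

/-- `Tor₁` vanishes when the syzygy tensor map is injective -/
theorem isZero_tor_one_of_injective {F M : Type u} [AddCommGroup F] [Module R F]
    [AddCommGroup M] [Module R M] (ψ : F →ₗ[R] M) (hψ : Function.Surjective ψ)
    [Module.Projective R F] (L : Type u) [AddCommGroup L] [Module R L]
    (hinj : Function.Injective (LinearMap.rTensor L (LinearMap.ker ψ).subtype)) :
    IsZero (((Tor (ModuleCat.{u} R) 1).obj (ModuleCat.of R M)).obj (ModuleCat.of R L)) := by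
  haveI : Module.Flat R (ModuleCat.of R F) := (inferInstance : Module.Flat R F)
  obtain ⟨e⟩ := Groth.Agent.Lib.Helper2.TorBalance.tor_one_iso_kernel ψ.shortComplexKer
    (ModuleCat.of R L) (LinearMap.shortExact_shortComplexKer hψ)
    (Groth.Agent.Lib.Helper4.isZero_tor_of_flat _ _ 1 Nat.one_pos)
  have e2 := e.toLinearEquiv ≪≫ₗ (ModuleCat.kernelIsoKer _).toLinearEquiv
  haveI : Subsingleton (LinearMap.ker (LinearMap.rTensor L (LinearMap.ker ψ).subtype)) := by
    rw [Submodule.subsingleton_iff_eq_bot]
    exact LinearMap.ker_eq_bot.2 hinj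
  haveI : Subsingleton (((Tor (ModuleCat.{u} R) 1).obj (ModuleCat.of R M)).obj
      (ModuleCat.of R L)) := e2.toEquiv.subsingleton
  exact ModuleCat.isZero_of_subsingleton _

end Tor

end Groth.Agent.Lib.Helper11.Planar
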