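import Mathlib

/-!
# Characters with open kernel on locally compact totally disconnected abelian groups

* `exists_nhds_add_subset`: a compact open set `W` in a topological additive group is stable under
  translation by a neighbourhood of `0`.
* `exists_open_addSubgroup_subset`: in a Hausdorff locally compact totally disconnected topological
  additive group, every neighbourhood of `0` contains an open subgroup (van Dantzig).
* `torsion_QZ`, `finiteIndex_ker_of_compactlyGenerated`: characters with open kernel on a compactly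
  generated group have kernels of finite index.
* `exists_character_extension`: a character `χ` of `A` vanishing on `i ⁻¹ U`, `U` an open subgroup of
  `B`, extends along `i : A → B` to a character of `B` with open kernel (injectivity of `ℚ/ℤ`).
-/

set_option autoImplicit false

namespace Groth.Agent.Lib.Helper11.ProCompl

open Set Topology

theorem exists_nhds_add_subset {G : Type*} [AddGroup G] [TopologicalSpace G]
    [IsTopologicalAddGroup G] {W : Set G} (hWc : IsCompact W) (hWo : IsOpen W) :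
    ∃ T ∈ 𝓝 (0 : G), ∀ w ∈ W, ∀ t ∈ T, w + t ∈ W := by
  refine hWc.induction_on (p := fun S => ∃ T ∈ 𝓝 (0 : G), ∀ w ∈ S, ∀ t ∈ T, w + t ∈ W)
    ⟨Set.univ, Filter.univ_mem, by simp⟩ ?_ ?_ ?_
  · rintro s t hst ⟨T, hT, h⟩
    exact ⟨T, hT, fun w hw => h w (hst hw)⟩
  · rintro s t ⟨T₁, hT₁, h₁⟩ ⟨T₂, hT₂, h₂⟩
    refine ⟨T₁ ∩ T₂, Filter.inter_mem hT₁ hT₂, ?_⟩
    rintro w (hw | hw) t ⟨ht1, ht2⟩
    · exact h₁ w hw t ht1
    · exact h₂ w hw t ht2
  · intro x hx
    have h1 : (fun p : G × G => p.1 + p.2) ⁻¹' W ∈ 𝓝 (x, (0 : G)) :=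
      (continuous_add.continuousAt).preimage_mem_nhds (by simpa using hWo.mem_nhds hx)
    rw [nhds_prod_eq, Filter.mem_prod_iff] at h1
    obtain ⟨U, hU, V, hV, hUV⟩ := h1
    exact ⟨U, mem_nhdsWithin_of_mem_nhds hU, V, hV, fun w hw t ht => hUV (Set.mk_mem_prod hw ht)⟩

/-- van Dantzig: open subgroups form a neighbourhood basis of `0`. -/
theorem exists_open_addSubgroup_subset {B : Type*} [AddCommGroup B] [TopologicalSpace B]
    [IsTopologicalAddGroup B] [T2Space B] [LocallyCompactSpace B] [TotallyDisconnectedSpace B]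
    {V : Set B} (hV : V ∈ 𝓝 (0 : B)) :
    ∃ U : AddSubgroup B, IsOpen (U : Set B) ∧ (U : Set B) ⊆ V := by
  -- a compact open `W` with `0 ∈ W ⊆ V`
  obtain ⟨K, hKc, h0K, hKV⟩ := exists_compact_subset isOpen_interior (mem_interior_iff_mem_nhds.mpr hV)
  obtain ⟨W, hWclopen, h0W, hWK⟩ :=
    (loc_compact_Haus_tot_disc_of_zero_dim (H := B)).exists_subset_of_mem_open h0K isOpen_interior
  have hWclopen' : IsClopen W := hWclopen
  have hWc : IsCompact W := hKc.of_isClosed_subset hWclopen'.isClosed (hWK.trans interior_subset)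
  have hWV : W ⊆ V := (hWK.trans interior_subset).trans (hKV.trans interior_subset)
  obtain ⟨T, hT, hTW⟩ := exists_nhds_add_subset hWc hWclopen'.isOpen
  let H : AddSubgroup B :=
    { carrier := {g | ∀ w ∈ W, w + g ∈ W ∧ w - g ∈ W}
      zero_mem' := fun w hw => by simpa using hw
      add_mem' := by
        intro g h hg hh w hw
        refine ⟨?_, ?_⟩
        · rw [← add_assoc]
          exact (hh _ (hg w hw).1).1
        · rw [← sub_sub]
          exact (hh _ (hg w hw).2).2
      neg_mem' := by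
        intro g hg w hw
        refine ⟨?_, ?_⟩
        · rw [← sub_eq_add_neg]
          exact (hg w hw).2
        · rw [sub_neg_eq_add]
          exact (hg w hw).1 }
  refine ⟨H, ?_, ?_⟩
  · apply AddSubgroup.isOpen_of_mem_nhds H (g := 0)
    have hT' : Neg.neg ⁻¹' T ∈ 𝓝 (0 : B) := by
      have : Filter.Tendsto (Neg.neg : B → B) (𝓝 0) (𝓝 0) := by
        simpa using (continuous_neg (G := B)).tendsto 0
      exact this hT
    refine Filter.mem_of_superset (Filter.inter_mem hT hT') ?_
    rintro g ⟨hg1, hg2⟩ w hw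
    refine ⟨hTW w hw g hg1, ?_⟩
    rw [sub_eq_add_neg]
    exact hTW w hw (-g) hg2
  · intro g hg
    have := (hg 0 h0W).1
    rw [zero_add] at this
    exact hWV this

theorem torsion_QZ (x : ℚ ⧸ AddSubgroup.zmultiples (1 : ℚ)) : ∃ n : ℕ, 0 < n ∧ n • x = 0 := by
  obtain ⟨r, rfl⟩ := QuotientAddGroup.mk_surjective x
  refine ⟨r.den, r.den_pos, ?_⟩
  rw [← QuotientAddGroup.mk_nsmul, QuotientAddGroup.eq_zero_iff]
  refine ⟨r.num, ?_⟩
  show r.num • (1 : ℚ) = r.den • r
  rw [nsmul_eq_mul, zsmul_eq_mul, mul_one]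
  exact (Rat.den_mul_eq_num r).symm

theorem finiteIndex_ker_of_compactlyGenerated
    {B : Type*} [AddCommGroup B] [TopologicalSpace B] [IsTopologicalAddGroup B]
    (hcg : ∃ K : Set B, IsCompact K ∧ AddSubgroup.closure K = ⊤)
    (χ : B →+ ℚ ⧸ AddSubgroup.zmultiples (1 : ℚ)) (hχ : IsOpen (χ.ker : Set B)) :
    χ.ker.FiniteIndex := by
  obtain ⟨K, hK, hgen⟩ := hcg
  have hopen : ∀ c, IsOpen (χ ⁻¹' {c}) := by
    intro c
    rw [isOpen_iff_mem_nhds]
    intro b hb
    have h1 : IsOpen {x : B | x - b ∈ (χ.ker : Set B)} :=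
      hχ.preimage (continuous_id.sub continuous_const)
    refine Filter.mem_of_superset (h1.mem_nhds (by simp)) ?_
    intro x hx
    have : χ (x - b) = 0 := hx
    rw [map_sub, sub_eq_zero] at this
    rw [mem_preimage, mem_singleton_iff, this]
    exact hb
  have hfin : (χ '' K).Finite := by
    obtain ⟨t, ht⟩ := hK.elim_finite_subcover (fun c => χ ⁻¹' {c}) hopen
      (fun b _ => mem_iUnion.mpr ⟨χ b, rfl⟩)
    refine (t.finite_toSet).subset ?_
    rintro _ ⟨b, hb, rfl⟩
    obtain ⟨c, hc, hbc⟩ := mem_iUnion₂.mp (ht hb)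
    have : χ b = c := hbc
    rw [this]
    exact hc
  have hrange : χ.range = AddSubgroup.closure (χ '' K) := by
    rw [← AddMonoidHom.map_closure, hgen, AddMonoidHom.range_eq_map]
  have hfg : AddGroup.FG χ.range := by
    rw [AddGroup.fg_iff_addSubgroup_fg, hrange]
    exact ⟨hfin.toFinset, by simp⟩
  have htors : IsAddTorsion χ.range := by
    intro x
    obtain ⟨n, hn, hx⟩ := torsion_QZ (x : ℚ ⧸ AddSubgroup.zmultiples (1 : ℚ))
    rw [isOfFinAddOrder_iff_nsmul_eq_zero]
    refine ⟨n, hn, ?_⟩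
    apply Subtype.ext
    simpa using hx
  have : Finite χ.range := AddCommGroup.finite_of_fg_isAddTorsion _ htors
  infer_instance

theorem exists_character_extension {A B : Type*} [AddCommGroup A] [AddCommGroup B]
    [TopologicalSpace B] [IsTopologicalAddGroup B] (U : AddSubgroup B) (hU : IsOpen (U : Set B))
    (i : A →+ B) (χ : A →+ ℚ ⧸ AddSubgroup.zmultiples (1 : ℚ)) (h : U.comap i ≤ χ.ker) :
    ∃ ψ : B →+ ℚ ⧸ AddSubgroup.zmultiples (1 : ℚ), IsOpen (ψ.ker : Set B) ∧ ψ.comp i = χ := by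
  let N : AddSubgroup A := U.comap i
  let f : A ⧸ N →+ B ⧸ U := QuotientAddGroup.map N U i le_rfl
  have hf : Function.Injective f := by
    rw [injective_iff_map_eq_zero]
    intro x hx
    obtain ⟨a, rfl⟩ := QuotientAddGroup.mk_surjective x
    have : ((i a : B) : B ⧸ U) = 0 := hx
    rw [QuotientAddGroup.eq_zero_iff] at this ⊢
    exact this
  let g : A ⧸ N →+ ℚ ⧸ AddSubgroup.zmultiples (1 : ℚ) := QuotientAddGroup.lift N χ h
  obtain ⟨h', hh'⟩ := (Module.Baer.of_divisible (AddCircle (1 : ℚ))).extension_property_addMonoidHom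
    f hf g
  refine ⟨h'.comp (QuotientAddGroup.mk' U), ?_, ?_⟩
  · refine AddSubgroup.isOpen_mono (H₁ := U) ?_ hU
    intro u hu
    show h' ((u : B) : B ⧸ U) = 0
    rw [(QuotientAddGroup.eq_zero_iff u).mpr hu, map_zero]
  · ext a
    have := DFunLike.congr_fun hh' (a : A ⧸ N)
    exact this

end Groth.Agent.Lib.Helper11.ProCompl
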