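import Mathlib
import Groth.Prelude.Def_CAlg
import Groth.Agent.Lib.Helper16.GorFlat
import Groth.Agent.Lib.Helper8.CMQ1
import Groth.Agent.Lib.Helper11.FiltReesC
import Groth.Agent.Lib.Helper18.FibBridge

/-!
# Descent of Cohen–Macaulay / Gorenstein along "contracting" local homomorphisms (helper11)

A ring hom `φ : O → L` is *contracting* (`Contr φ`) if `J L ∩ O = J` for every ideal `J` of `O`
(e.g. `O` a direct summand, or `O = A_(𝔭) → A_𝔭`).

* `cm_descent` : `O → L` contracting, local rings, `𝔪_L ⊆ √(𝔪_O L)`, `L` CM ⇒ `O` CM.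
* `gor_descent` : `O → L` contracting, local rings, `𝔪_L = 𝔪_O L`, `L` Gorenstein ⇒ `O` Gorenstein.
-/

set_option autoImplicit false
universe u

open IsLocalRing

namespace Groth.Agent.Lib.Helper11.ProjCM

section general

variable {O L : Type u} [CommRing O] [CommRing L]

/-- contraction property: `J L ∩ O ⊆ J` for every ideal `J` of `O`. -/
def Contr (φ : O →+* L) : Prop := ∀ J : Ideal O, (J.map φ).comap φ ≤ J

variable {φ : O →+* L}

theorem Contr.injective (h : Contr φ) : Function.Injective φ := by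
  rw [injective_iff_map_eq_zero]
  intro a ha
  have h1 : a ∈ ((⊥ : Ideal O).map φ).comap φ := by
    rw [Ideal.mem_comap, ha]
    exact Ideal.zero_mem _
  simpa using h ⊥ h1

theorem Contr.isNoetherianRing (h : Contr φ) [IsNoetherianRing L] : IsNoetherianRing O := by
  rw [isNoetherianRing_iff, ← monotone_stabilizes_iff_noetherian]
  intro f
  let g : ℕ →o Ideal L := ⟨fun n => Ideal.map φ (f n), fun a b hab => Ideal.map_mono (f.monotone hab)⟩
  obtain ⟨n, hn⟩ := monotone_stabilizes_iff_noetherian.mpr (inferInstance : IsNoetherian L L) g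
  refine ⟨n, fun m hm => ?_⟩
  refine le_antisymm (f.monotone hm) ?_
  intro a ha
  apply h (f n)
  rw [Ideal.mem_comap]
  have h1 : g n = g m := hn m hm
  change φ a ∈ g n
  rw [h1]
  exact Ideal.mem_map_of_mem φ ha

/-- the induced map on quotients by `x` and `φ x`. -/
noncomputable def qmap (φ : O →+* L) (x : O) : O ⧸ Ideal.span {x} →+* L ⧸ Ideal.span {φ x} :=
  Ideal.quotientMap (Ideal.span {φ x}) φ (by
    rw [Ideal.span_le, Set.singleton_subset_iff]
    exact Ideal.mem_span_singleton_self (φ x))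

@[simp] theorem qmap_mk (φ : O →+* L) (x a : O) :
    qmap φ x (Ideal.Quotient.mk _ a) = Ideal.Quotient.mk _ (φ a) := by
  simp [qmap]

theorem qmap_comp_mk (φ : O →+* L) (x : O) :
    (qmap φ x).comp (Ideal.Quotient.mk (Ideal.span {x})) =
      (Ideal.Quotient.mk (Ideal.span {φ x})).comp φ := by
  ext a
  simp

theorem map_qmap (φ : O →+* L) (x : O) (J : Ideal O) :
    (J.map (Ideal.Quotient.mk (Ideal.span {x}))).map (qmap φ x) =
      (J.map φ).map (Ideal.Quotient.mk (Ideal.span {φ x})) := by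
  rw [Ideal.map_map, Ideal.map_map, qmap_comp_mk]

theorem Contr.quot (h : Contr φ) (x : O) : Contr (qmap φ x) := by
  intro J₁ c₁ hc₁
  obtain ⟨c, rfl⟩ := Ideal.Quotient.mk_surjective c₁
  rw [Ideal.mem_comap, qmap_mk] at hc₁
  set J : Ideal O := J₁.comap (Ideal.Quotient.mk (Ideal.span {x})) with hJ
  have hJ₁ : J₁ = J.map (Ideal.Quotient.mk (Ideal.span {x})) :=
    (Ideal.map_comap_of_surjective _ Ideal.Quotient.mk_surjective _).symm
  have hxJ : x ∈ J := by
    rw [hJ, Ideal.mem_comap]
    have : Ideal.Quotient.mk (Ideal.span {x}) x = 0 :=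
      Ideal.Quotient.eq_zero_iff_mem.mpr (Ideal.mem_span_singleton_self x)
    rw [this]
    exact Ideal.zero_mem _
  rw [hJ₁, map_qmap] at hc₁
  have h2 : φ c ∈ ((J.map φ).map (Ideal.Quotient.mk (Ideal.span {φ x}))).comap
      (Ideal.Quotient.mk (Ideal.span {φ x})) := hc₁
  rw [Ideal.comap_map_of_surjective _ Ideal.Quotient.mk_surjective, ← RingHom.ker_eq_comap_bot,
    Ideal.mk_ker] at h2
  have h3 : Ideal.span {φ x} ≤ J.map φ := by
    rw [Ideal.span_le, Set.singleton_subset_iff]
    exact Ideal.mem_map_of_mem φ hxJ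
  rw [sup_eq_left.mpr h3] at h2
  have h4 : c ∈ J := h J h2
  exact h4

end general

section loc

theorem maximalIdeal_eq_map_of_surjective {R R' : Type u} [CommRing R] [CommRing R'] [IsLocalRing R]
    [IsLocalRing R'] (π : R →+* R') (hπ : Function.Surjective π) :
    maximalIdeal R' = (maximalIdeal R).map π := by
  ext y
  obtain ⟨r, rfl⟩ := hπ y
  constructor
  · intro hy
    apply Ideal.mem_map_of_mem
    rw [mem_maximalIdeal, mem_nonunits_iff]
    intro hu
    exact hy (hu.map π)
  · intro hy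
    obtain ⟨r', hr', hr'y⟩ := (Ideal.mem_map_iff_of_surjective π hπ).mp hy
    rw [← hr'y, mem_maximalIdeal, mem_nonunits_iff]
    intro hu
    obtain ⟨w, hw⟩ := hu.exists_right_inv
    obtain ⟨s, rfl⟩ := hπ w
    have h1 : r' * s - 1 ∈ RingHom.ker π := by
      rw [RingHom.mem_ker, map_sub, map_mul, hw, map_one, sub_self]
    have h2 : RingHom.ker π ≤ maximalIdeal R := le_maximalIdeal (RingHom.ker_ne_top π)
    have h3 : r' * s ∈ maximalIdeal R := Ideal.mul_mem_right _ _ hr'
    have h4 : (1 : R) ∈ maximalIdeal R := by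
      have h5 := Ideal.sub_mem _ h3 (h2 h1)
      rw [sub_sub_cancel] at h5
      exact h5
    exact (Ideal.ne_top_iff_one _).mp (maximalIdeal.isMaximal R).ne_top h4

variable {O L : Type u} [CommRing O] [CommRing L] [IsLocalRing O] [IsLocalRing L] {φ : O →+* L}

theorem Contr.map_maximalIdeal_le (h : Contr φ) : (maximalIdeal O).map φ ≤ maximalIdeal L := by
  apply le_maximalIdeal
  intro htop
  have h1 := h (maximalIdeal O)
  rw [htop, Ideal.comap_top] at h1
  exact (maximalIdeal.isMaximal O).ne_top (top_le_iff.mp h1)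

theorem Contr.map_mem_maximalIdeal (h : Contr φ) {x : O} (hx : x ∈ maximalIdeal O) :
    φ x ∈ maximalIdeal L :=
  h.map_maximalIdeal_le (Ideal.mem_map_of_mem φ hx)

theorem rad_quot (x : O) [IsLocalRing (O ⧸ Ideal.span {x})] [IsLocalRing (L ⧸ Ideal.span {φ x})]
    (hrad : maximalIdeal L ≤ ((maximalIdeal O).map φ).radical) :
    maximalIdeal (L ⧸ Ideal.span {φ x}) ≤
      ((maximalIdeal (O ⧸ Ideal.span {x})).map (qmap φ x)).radical := by
  rw [maximalIdeal_eq_map_of_surjective (Ideal.Quotient.mk (Ideal.span {φ x}))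
      Ideal.Quotient.mk_surjective,
    maximalIdeal_eq_map_of_surjective (Ideal.Quotient.mk (Ideal.span {x}))
      Ideal.Quotient.mk_surjective, map_qmap]
  exact (Ideal.map_mono hrad).trans (Ideal.map_radical_le _)

theorem max_quot (x : O) [IsLocalRing (O ⧸ Ideal.span {x})] [IsLocalRing (L ⧸ Ideal.span {φ x})]
    (hmax : maximalIdeal L = (maximalIdeal O).map φ) :
    maximalIdeal (L ⧸ Ideal.span {φ x}) =
      (maximalIdeal (O ⧸ Ideal.span {x})).map (qmap φ x) := by
  rw [maximalIdeal_eq_map_of_surjective (Ideal.Quotient.mk (Ideal.span {φ x}))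
      Ideal.Quotient.mk_surjective,
    maximalIdeal_eq_map_of_surjective (Ideal.Quotient.mk (Ideal.span {x}))
      Ideal.Quotient.mk_surjective, map_qmap, hmax]

theorem exists_regular_lift [IsNoetherianRing L] (φ : O →+* L)
    (hrad : maximalIdeal L ≤ ((maximalIdeal O).map φ).radical) (hd : LocCoh.depth L L ≠ 0) :
    ∃ x ∈ maximalIdeal O, IsSMulRegular L (φ x) := by
  by_contra! hcon
  have hsub : ((maximalIdeal O : Ideal O) : Set O) ⊆
      ⋃ Q ∈ associatedPrimes L L, ((Q.comap φ : Ideal O) : Set O) := by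
    intro x hx
    have h1 : φ x ∈ ⋃ p ∈ associatedPrimes L L, (p : Set L) := by
      rw [biUnion_associatedPrimes_eq_compl_regular L L]
      exact hcon x hx
    obtain ⟨Q, hQ, hxQ⟩ := Set.mem_iUnion₂.mp h1
    exact Set.mem_iUnion₂.mpr ⟨Q, hQ, hxQ⟩
  obtain ⟨Q, hQ, hle⟩ := (Ideal.subset_union_prime_finite (associatedPrimes.finite L L)
    (f := fun Q => Q.comap φ) (maximalIdeal L) (maximalIdeal L)
    (fun Q hQ _ _ => by
      have : Q.IsPrime := IsAssociatedPrime.isPrime hQ
      exact Ideal.comap_isPrime φ Q)).mp hsub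
  have hQp : Q.IsPrime := IsAssociatedPrime.isPrime hQ
  have h1 : (maximalIdeal O).map φ ≤ Q := Ideal.map_le_iff_le_comap.mpr hle
  have h2 : maximalIdeal L ≤ Q := hrad.trans (hQp.radical_le_iff.mpr h1)
  have h3 : maximalIdeal L = Q := (maximalIdeal.isMaximal L).eq_of_le hQp.ne_top h2
  apply hd
  rw [Groth.Agent.Lib.Helper18.CM.depth_eq_zero_iff, h3]
  exact hQ

/-- if `L` is zero-dimensional local and `φ : O → L` is an injective local hom, then `O` is
zero-dimensional. -/
theorem krullDimLE_zero_of_injective (hinj : Function.Injective φ)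
    (hloc : ∀ x ∈ maximalIdeal O, φ x ∈ maximalIdeal L) [Ring.KrullDimLE 0 L] :
    Ring.KrullDimLE 0 O := by
  refine (((Ring.krullDimLE_zero_and_isLocalRing_tfae O).out 2 0 rfl rfl).mp ?_).1
  intro x
  constructor
  · intro hn hu
    obtain ⟨k, hk⟩ := hn
    have : IsUnit (x ^ k) := hu.pow k
    rw [hk] at this
    exact not_isUnit_zero this
  · intro hu
    have hx : x ∈ maximalIdeal O := hu
    have h1 : φ x ∈ maximalIdeal L := hloc x hx
    obtain ⟨k, hk⟩ := (Ring.KrullDimLE.isNilpotent_iff_mem_maximalIdeal (R := L)).mpr h1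
    refine ⟨k, hinj ?_⟩
    rw [map_pow, hk, map_zero]

end loc

end Groth.Agent.Lib.Helper11.ProjCM
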