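import Groth.Agent.Lib.Helper11.ProjCMA

/-!
# Descent of CM / Gorenstein along contracting local homs: main theorems (helper11)
-/

set_option autoImplicit false
universe u

open IsLocalRing

namespace Groth.Agent.Lib.Helper11.ProjCM

theorem isLocalRing_quot {R : Type u} [CommRing R] [IsLocalRing R] {x : R}
    (hx : x ∈ maximalIdeal R) : IsLocalRing (R ⧸ Ideal.span {x}) :=
  Groth.Agent.Lib.Helper16.GorFlat.isLocalRing_quot_of_le _ (by
    rw [Ideal.span_le, Set.singleton_subset_iff]; exact hx)

theorem regular_of_injective {O L : Type u} [CommRing O] [CommRing L] {φ : O →+* L}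
    (hinj : Function.Injective φ) {x : O} (h : IsSMulRegular L (φ x)) : IsSMulRegular O x := by
  intro a b hab
  apply hinj
  apply h
  simp only [smul_eq_mul] at hab ⊢
  rw [← map_mul, ← map_mul, hab]

theorem cm_descent_aux (n : ℕ) : ∀ (O L : Type u) [CommRing O] [CommRing L] [IsLocalRing O]
    [IsLocalRing L] (φ : O →+* L) (_ : Contr φ)
    (_ : maximalIdeal L ≤ ((maximalIdeal O).map φ).radical)
    [hL : LocCoh.IsCohenMacaulayLocalRing L] (_ : LocCoh.depth L L = n),
    LocCoh.IsCohenMacaulayLocalRing O := by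
  induction n with
  | zero =>
    intro O L _ _ _ _ φ hc hrad hL hd
    haveI : IsNoetherianRing O := hc.isNoetherianRing
    have hdimL : ringKrullDim L = 0 := by
      have := hL.supportDim_eq_depth
      rw [Module.supportDim_self_eq_ringKrullDim, hd] at this
      exact this
    haveI : Ring.KrullDimLE 0 L := ringKrullDimZero_iff_ringKrullDim_eq_zero.mpr hdimL
    haveI : Ring.KrullDimLE 0 O :=
      krullDimLE_zero_of_injective hc.injective (fun x hx => hc.map_mem_maximalIdeal hx)
    have hdimO : ringKrullDim O = 0 := ringKrullDimZero_iff_ringKrullDim_eq_zero.mp inferInstance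
    have hdO := Groth.Agent.Lib.Helper18.FibBridge.depth_eq_zero_of_ringKrullDim_eq_zero O hdimO
    exact { supportDim_eq_depth := by
              rw [Module.supportDim_self_eq_ringKrullDim, hdimO, hdO]; rfl }
  | succ n ih =>
    intro O L _ _ _ _ φ hc hrad hL hd
    haveI : IsNoetherianRing O := hc.isNoetherianRing
    have hd0 : LocCoh.depth L L ≠ 0 := by
      rw [hd]; exact_mod_cast Nat.succ_ne_zero n
    obtain ⟨x, hx, hreg⟩ := exists_regular_lift φ hrad hd0
    have hxO : IsSMulRegular O x := regular_of_injective hc.injective hreg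
    have hφx : φ x ∈ maximalIdeal L := hc.map_mem_maximalIdeal hx
    haveI : IsLocalRing (O ⧸ Ideal.span {x}) := isLocalRing_quot hx
    haveI : IsLocalRing (L ⧸ Ideal.span {φ x}) := isLocalRing_quot hφx
    haveI hL' : LocCoh.IsCohenMacaulayLocalRing (L ⧸ Ideal.span {φ x}) :=
      Groth.Agent.Lib.Helper8.CMQ.cm_local_quot (φ x) hφx hreg
    have hd' : LocCoh.depth (L ⧸ Ideal.span {φ x}) (L ⧸ Ideal.span {φ x}) = n := by
      have h1 := Groth.Agent.Lib.Helper16.GorFlat.depth_quot (Ideal.span {φ x}) (φ x) rfl hφx hreg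
      rw [hd] at h1
      have h2 : LocCoh.depth (L ⧸ Ideal.span {φ x}) (L ⧸ Ideal.span {φ x}) + 1 = (n : ℕ∞) + 1 := by
        rw [h1]; push_cast; rfl
      exact (ENat.add_left_injective_of_ne_top ENat.one_ne_top) h2
    have hO' : LocCoh.IsCohenMacaulayLocalRing (O ⧸ Ideal.span {x}) :=
      ih (O ⧸ Ideal.span {x}) (L ⧸ Ideal.span {φ x}) (qmap φ x) (hc.quot x) (rad_quot x hrad) hd'
    exact Groth.Agent.Lib.Helper11.FiltRees.cm_local_of_quot x hx hxO hO'

/-- **CM descent**: `φ : O → L` contracting hom of local rings with `𝔪_L ⊆ √(𝔪_O L)`;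
if `L` is Cohen–Macaulay then so is `O`. -/
theorem cm_descent {O L : Type u} [CommRing O] [CommRing L] [IsLocalRing O]
    [IsLocalRing L] (φ : O →+* L) (hc : Contr φ)
    (hrad : maximalIdeal L ≤ ((maximalIdeal O).map φ).radical)
    [hL : LocCoh.IsCohenMacaulayLocalRing L] :
    LocCoh.IsCohenMacaulayLocalRing O := by
  have hfin : LocCoh.depth L L ≠ ⊤ := by
    intro htop
    have h1 := hL.supportDim_eq_depth
    rw [Module.supportDim_self_eq_ringKrullDim, htop] at h1
    have h2 : ringKrullDim L < ⊤ := ringKrullDim_lt_top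
    rw [h1] at h2
    exact absurd h2 (by simp)
  obtain ⟨n, hn⟩ := ENat.ne_top_iff_exists.mp hfin
  exact cm_descent_aux n O L φ hc hrad hn.symm

end Groth.Agent.Lib.Helper11.ProjCM
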