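import Groth.Agent.Lib.Helper11.ProjCMB

/-!
# Descent of Gorenstein along contracting local homs with `𝔪_L = 𝔪_O L` (helper11)
-/

set_option autoImplicit false
set_option linter.style.haveILetI false
set_option linter.overlappingInstances false
universe u

open IsLocalRing

namespace Groth.Agent.Lib.Helper11.ProjCM

section socle

variable {O L : Type u} [CommRing O] [CommRing L] [IsLocalRing O] [IsLocalRing L] {φ : O →+* L}

theorem map_mem_socle (hmax : maximalIdeal L = (maximalIdeal O).map φ) {z : O}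
    (hz : z ∈ LocCoh.torsionBy (maximalIdeal O) O) :
    φ z ∈ LocCoh.torsionBy (maximalIdeal L) L := by
  rw [Submodule.mem_torsionBySet_iff] at hz ⊢
  have key : ∀ a ∈ (maximalIdeal O).map φ, a * φ z = 0 := by
    intro a ha'
    rw [Ideal.map] at ha'
    induction ha' using Submodule.span_induction with
    | mem y hy =>
      obtain ⟨u, hu, rfl⟩ := hy
      have := hz ⟨u, hu⟩
      change u * z = 0 at this
      rw [← map_mul, this, map_zero]
    | zero => simp
    | add y y' _ _ h1 h2 => rw [add_mul, h1, h2, add_zero]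
    | smul r y _ h1 => rw [smul_eq_mul, mul_assoc, h1, mul_zero]
  rintro ⟨a, ha⟩
  exact key a (hmax ▸ ha)

theorem socle_simple (hc : Contr φ) (hmax : maximalIdeal L = (maximalIdeal O).map φ)
    [Nontrivial (LocCoh.torsionBy (maximalIdeal O) O)]
    [hs : IsSimpleModule L (LocCoh.torsionBy (maximalIdeal L) L)] :
    IsSimpleModule O (LocCoh.torsionBy (maximalIdeal O) O) := by
  rw [isSimpleModule_iff_toSpanSingleton_surjective]
  refine ⟨inferInstance, ?_⟩
  rintro ⟨z, hz⟩ hz0 ⟨z', hz'⟩
  have hz0' : z ≠ 0 := fun h => hz0 (Subtype.ext h)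
  let ζ : LocCoh.torsionBy (maximalIdeal L) L := ⟨φ z, map_mem_socle hmax hz⟩
  let ζ' : LocCoh.torsionBy (maximalIdeal L) L := ⟨φ z', map_mem_socle hmax hz'⟩
  have hζ : ζ ≠ 0 := by
    intro h
    have h1 : φ z = 0 := congrArg Subtype.val h
    exact hz0' (hc.injective (by rw [h1, map_zero]))
  obtain ⟨l, hl⟩ := hs.toSpanSingleton_surjective L hζ ζ'
  have hl' : l * φ z = φ z' := congrArg Subtype.val hl
  have h1 : z' ∈ ((Ideal.span {z}).map φ).comap φ := by
    rw [Ideal.mem_comap, ← hl']
    exact Ideal.mul_mem_left _ _ (Ideal.mem_map_of_mem φ (Ideal.mem_span_singleton_self z))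
  obtain ⟨r, hr⟩ := Ideal.mem_span_singleton'.mp (hc _ h1)
  refine ⟨r, Subtype.ext ?_⟩
  exact hr

end socle

open Groth.Agent.Lib.Helper16.GorFlat in
theorem gor_descent_aux (n : ℕ) : ∀ (O L : Type u) [CommRing O] [CommRing L] [IsLocalRing O]
    [IsLocalRing L] (φ : O →+* L) (_ : Contr φ)
    (_ : maximalIdeal L = (maximalIdeal O).map φ)
    [hL : LocCoh.IsGorensteinLocalRing L] (_ : LocCoh.depth L L = n),
    LocCoh.IsGorensteinLocalRing O := by
  induction n with
  | zero =>
    intro O L _ _ _ _ φ hc hmax hL hd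
    haveI : IsNoetherianRing O := hc.isNoetherianRing
    have hdimL : ringKrullDim L = 0 := ringKrullDim_eq_zero_of_gorenstein_of_depth L hL hd
    haveI : Ring.KrullDimLE 0 L := ringKrullDimZero_iff_ringKrullDim_eq_zero.mpr hdimL
    haveI : Ring.KrullDimLE 0 O :=
      krullDimLE_zero_of_injective hc.injective (fun x hx => hc.map_mem_maximalIdeal hx)
    have hdimO : ringKrullDim O = 0 := ringKrullDimZero_iff_ringKrullDim_eq_zero.mp inferInstance
    have hdO := Groth.Agent.Lib.Helper18.FibBridge.depth_eq_zero_of_ringKrullDim_eq_zero O hdimO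
    rw [isGorenstein_iff_of_dim_zero O hdimO, Module.length_eq_one_iff]
    haveI : Nontrivial (LocCoh.torsionBy (maximalIdeal O) O) := by
      have h1 := (depth_eq_zero_iff_length_socle_ne_zero O).mp hdO
      rw [Ne, Module.length_eq_zero_iff, not_subsingleton_iff_nontrivial] at h1
      exact h1
    haveI : IsSimpleModule L (LocCoh.torsionBy (maximalIdeal L) L) :=
      Module.length_eq_one_iff.mp ((isGorenstein_iff_of_dim_zero L hdimL).mp hL)
    exact socle_simple hc hmax
  | succ n ih =>
    intro O L _ _ _ _ φ hc hmax hL hd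
    haveI : IsNoetherianRing O := hc.isNoetherianRing
    have hd0 : LocCoh.depth L L ≠ 0 := by
      rw [hd]; exact_mod_cast Nat.succ_ne_zero n
    have hrad : maximalIdeal L ≤ ((maximalIdeal O).map φ).radical := by
      rw [hmax]; exact Ideal.le_radical
    obtain ⟨x, hx, hreg⟩ := exists_regular_lift φ hrad hd0
    have hxO : IsSMulRegular O x := regular_of_injective hc.injective hreg
    have hφx : φ x ∈ maximalIdeal L := hc.map_mem_maximalIdeal hx
    haveI : IsLocalRing (O ⧸ Ideal.span {x}) := isLocalRing_quot hx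
    haveI : IsLocalRing (L ⧸ Ideal.span {φ x}) := isLocalRing_quot hφx
    haveI hL' : LocCoh.IsGorensteinLocalRing (L ⧸ Ideal.span {φ x}) :=
      (gor_iff_quot (Ideal.span {φ x}) (φ x) rfl hφx hreg).mp hL
    have hd' : LocCoh.depth (L ⧸ Ideal.span {φ x}) (L ⧸ Ideal.span {φ x}) = n := by
      have h1 := depth_quot (Ideal.span {φ x}) (φ x) rfl hφx hreg
      rw [hd] at h1
      have h2 : LocCoh.depth (L ⧸ Ideal.span {φ x}) (L ⧸ Ideal.span {φ x}) + 1 = (n : ℕ∞) + 1 := by
        rw [h1]; push_cast; rfl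
      exact (ENat.add_left_injective_of_ne_top ENat.one_ne_top) h2
    have hO' : LocCoh.IsGorensteinLocalRing (O ⧸ Ideal.span {x}) :=
      ih (O ⧸ Ideal.span {x}) (L ⧸ Ideal.span {φ x}) (qmap φ x) (hc.quot x) (max_quot x hmax) hd'
    exact (gor_iff_quot (Ideal.span {x}) x rfl hx hxO).mpr hO'

/-- **Gorenstein descent**: `φ : O → L` contracting hom of local rings with `𝔪_L = 𝔪_O L`;
if `L` is Gorenstein then so is `O`. -/
theorem gor_descent {O L : Type u} [CommRing O] [CommRing L] [IsLocalRing O]
    [IsLocalRing L] (φ : O →+* L) (hc : Contr φ)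
    (hmax : maximalIdeal L = (maximalIdeal O).map φ)
    [hL : LocCoh.IsGorensteinLocalRing L] :
    LocCoh.IsGorensteinLocalRing O := by
  haveI hCM : LocCoh.IsCohenMacaulayLocalRing L :=
    Groth.Agent.Lib.Helper11.GorCM.isCohenMacaulayLocalRing_of_gorenstein L
  have hfin : LocCoh.depth L L ≠ ⊤ := by
    intro htop
    have h1 := hCM.supportDim_eq_depth
    rw [Module.supportDim_self_eq_ringKrullDim, htop] at h1
    have h2 : ringKrullDim L < ⊤ := ringKrullDim_lt_top
    rw [h1] at h2
    exact absurd h2 (by simp)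
  obtain ⟨n, hn⟩ := ENat.ne_top_iff_exists.mp hfin
  exact gor_descent_aux n O L φ hc hmax hn.symm

end Groth.Agent.Lib.Helper11.ProjCM
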