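import Groth.Agent.Lib.Helper11.ProjCMC

/-!
# The homogeneous localization `A_(𝔭) → A_𝔭` is contracting (helper11)

For an `ℕ`-graded ring `A` and a prime `𝔭`, every ideal `J` of `A_(𝔭)` satisfies
`J A_𝔭 ∩ A_(𝔭) = J`  (`contr_val`).
-/

set_option autoImplicit false
universe u

open IsLocalRing HomogeneousLocalization DirectSum

namespace Groth.Agent.Lib.Helper11.ProjCM

variable {A : Type u} [CommRing A] (𝒜 : ℕ → AddSubgroup A) [GradedRing 𝒜]
  (𝔭 : Ideal A) [𝔭.IsPrime]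

/-- `b` (thought of in degree `n`) has all fractions `b r / s` in `J`. -/
def NumMem (J : Ideal (AtPrime 𝒜 𝔭)) (n : ℕ) (b : A) : Prop :=
  ∀ (e : ℕ) (r s : A), r ∈ 𝒜 e → s ∈ 𝒜 (n + e) → ∀ hs : s ∈ 𝔭.primeCompl,
    ∃ c ∈ J, c.val = Localization.mk (b * r) ⟨s, hs⟩

variable {𝒜 𝔭} {J : Ideal (AtPrime 𝒜 𝔭)}

theorem NumMem.zero (n : ℕ) : NumMem 𝒜 𝔭 J n 0 := by
  intro e r s _ _ hs
  refine ⟨0, J.zero_mem, ?_⟩
  rw [val_zero, zero_mul, Localization.mk_zero]

theorem NumMem.add {n : ℕ} {b b' : A} (h : NumMem 𝒜 𝔭 J n b) (h' : NumMem 𝒜 𝔭 J n b') :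
    NumMem 𝒜 𝔭 J n (b + b') := by
  intro e r s hr hs hs'
  obtain ⟨c, hc, hcv⟩ := h e r s hr hs hs'
  obtain ⟨c', hc', hcv'⟩ := h' e r s hr hs hs'
  refine ⟨c + c', J.add_mem hc hc', ?_⟩
  rw [val_add, hcv, hcv', Localization.add_mk_self, add_mul]

theorem NumMem.mul_left {i m : ℕ} {x b : A} (hx : x ∈ 𝒜 i) (h : NumMem 𝒜 𝔭 J m b) :
    NumMem 𝒜 𝔭 J (i + m) (x * b) := by
  intro e r s hr hs hs'
  have hs2 : s ∈ 𝒜 (m + (i + e)) := by
    rwa [show i + m + e = m + (i + e) by ring] at hs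
  obtain ⟨c, hc, hcv⟩ := h (i + e) (x * r) s (SetLike.mul_mem_graded hx hr) hs2 hs'
  refine ⟨c, hc, ?_⟩
  rw [hcv]
  congr 1
  ring

variable (𝒜 𝔭 J) in
/-- the ideal of `A` of "numerators" of `J`. -/
def numIdeal : Ideal A where
  carrier := {a | ∀ n, NumMem 𝒜 𝔭 J n (decompose 𝒜 a n)}
  zero_mem' := by
    intro n
    rw [decompose_zero, DirectSum.zero_apply, ZeroMemClass.coe_zero]
    exact NumMem.zero n
  add_mem' := by
    intro a b ha hb n
    rw [decompose_add, DirectSum.add_apply, AddMemClass.coe_add]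
    exact (ha n).add (hb n)
  smul_mem' := by
    intro x a ha
    rw [smul_eq_mul]
    revert a
    induction x using DirectSum.Decomposition.inductionOn 𝒜 with
    | zero =>
      intro a _ n
      rw [zero_mul, decompose_zero, DirectSum.zero_apply, ZeroMemClass.coe_zero]
      exact NumMem.zero n
    | @homogeneous i x =>
      intro a ha n
      by_cases hin : i ≤ n
      · rw [DirectSum.coe_decompose_mul_of_left_mem_of_le 𝒜 x.2 hin]
        have := (ha (n - i)).mul_left x.2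
        rwa [Nat.add_sub_cancel' hin] at this
      · rw [DirectSum.coe_decompose_mul_of_left_mem_of_not_le 𝒜 x.2 hin]
        exact NumMem.zero n
    | add x x' hx hx' =>
      intro a ha n
      rw [add_mul, decompose_add, DirectSum.add_apply, AddMemClass.coe_add]
      exact (hx ha n).add (hx' ha n)

theorem mem_numIdeal {a : A} :
    a ∈ numIdeal 𝒜 𝔭 J ↔ ∀ n, NumMem 𝒜 𝔭 J n (decompose 𝒜 a n) := Iff.rfl

/-- for homogeneous `a` of degree `n`: membership in the numerator ideal. -/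
theorem mem_numIdeal_of_mem {a : A} {n : ℕ} (ha : a ∈ 𝒜 n) :
    a ∈ numIdeal 𝒜 𝔭 J ↔ NumMem 𝒜 𝔭 J n a := by
  rw [mem_numIdeal]
  constructor
  · intro h
    have := h n
    rwa [decompose_of_mem_same 𝒜 ha] at this
  · intro h m
    by_cases hm : n = m
    · subst hm
      rwa [decompose_of_mem_same 𝒜 ha]
    · rw [decompose_of_mem_ne 𝒜 ha hm]
      exact NumMem.zero m

/-- numerators of elements of `J` lie in the numerator ideal. -/
theorem num_mem_numIdeal (y : NumDenSameDeg 𝒜 𝔭.primeCompl) (hy : mk y ∈ J) :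
    (y.num : A) ∈ numIdeal 𝒜 𝔭 J := by
  rw [mem_numIdeal_of_mem y.num.2]
  intro e r s hr hs hs'
  refine ⟨mk y * mk ⟨y.deg + e, ⟨y.den * r, SetLike.mul_mem_graded y.den.2 hr⟩, ⟨s, hs⟩, hs'⟩,
    J.mul_mem_right _ hy, ?_⟩
  rw [val_mul, val_mk, val_mk, Localization.mk_mul, Localization.mk_eq_mk_iff,
    Localization.r_iff_exists]
  refine ⟨1, ?_⟩
  simp only [Submonoid.coe_mul, Submonoid.coe_one]
  ring

/-- if the numerator lies in the numerator ideal then the fraction lies in `J`. -/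
theorem mk_mem_of_num_mem (y : NumDenSameDeg 𝒜 𝔭.primeCompl)
    (hy : (y.num : A) ∈ numIdeal 𝒜 𝔭 J) : mk y ∈ J := by
  rw [mem_numIdeal_of_mem y.num.2] at hy
  obtain ⟨c, hc, hcv⟩ := hy 0 1 y.den SetLike.GradedOne.one_mem (by simp) y.den_mem
  have : c = mk y := by
    apply val_injective
    rw [hcv, val_mk, mul_one]
  rwa [← this]

/-- saturation of the numerator ideal at homogeneous elements. -/
theorem mem_numIdeal_of_mul_mem {g a : A} {n : ℕ} (hg : g ∉ 𝔭)
    (ha : a ∈ 𝒜 n) (hga : g * a ∈ numIdeal 𝒜 𝔭 J) : a ∈ numIdeal 𝒜 𝔭 J := by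
  classical
  obtain ⟨k, hk⟩ : ∃ k, (decompose 𝒜 g k : A) ∉ 𝔭 := by
    by_contra! hall
    apply hg
    rw [← DirectSum.sum_support_decompose 𝒜 g]
    exact 𝔭.sum_mem fun k _ => hall k
  rw [mem_numIdeal_of_mem ha]
  intro e r s hr hs hs'
  have h1 := (mem_numIdeal.mp hga) (k + n)
  rw [DirectSum.coe_decompose_mul_add_of_right_mem 𝒜 ha] at h1
  have hs2 : (decompose 𝒜 g k : A) * s ∈ 𝒜 (k + n + e) := by
    rw [add_assoc]
    exact SetLike.mul_mem_graded (decompose 𝒜 g k).2 hs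
  have hs3 : (decompose 𝒜 g k : A) * s ∈ 𝔭.primeCompl := by
    intro hmem
    rcases (inferInstance : 𝔭.IsPrime).mem_or_mem hmem with h | h
    · exact hk h
    · exact hs' h
  obtain ⟨c, hc, hcv⟩ := h1 e r _ hr hs2 hs3
  refine ⟨c, hc, ?_⟩
  rw [hcv, Localization.mk_eq_mk_iff, Localization.r_iff_exists]
  refine ⟨1, ?_⟩
  simp only [Submonoid.coe_one]
  ring

theorem map_val_le (J : Ideal (AtPrime 𝒜 𝔭)) :
    J.map (algebraMap (AtPrime 𝒜 𝔭) (Localization.AtPrime 𝔭)) ≤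
      (numIdeal 𝒜 𝔭 J).map (algebraMap A (Localization.AtPrime 𝔭)) := by
  rw [Ideal.map_le_iff_le_comap]
  intro j hj
  obtain ⟨y, rfl⟩ := mk_surjective j
  rw [Ideal.mem_comap, HomogeneousLocalization.algebraMap_apply, val_mk, Localization.mk_eq_mk',
    IsLocalization.mk'_eq_mul_mk'_one]
  exact Ideal.mul_mem_right _ _ (Ideal.mem_map_of_mem _ (num_mem_numIdeal y hj))

/-- **contraction**: `J A_𝔭 ∩ A_(𝔭) = J`. -/
theorem contr_val :
    Contr (algebraMap (AtPrime 𝒜 𝔭) (Localization.AtPrime 𝔭)) := by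
  intro J c hc
  obtain ⟨y, rfl⟩ := mk_surjective c
  apply mk_mem_of_num_mem
  rw [Ideal.mem_comap] at hc
  have h1 := map_val_le J hc
  have h2 : algebraMap A (Localization.AtPrime 𝔭) y.num ∈
      (numIdeal 𝒜 𝔭 J).map (algebraMap A (Localization.AtPrime 𝔭)) := by
    have : algebraMap A (Localization.AtPrime 𝔭) y.num =
        algebraMap (AtPrime 𝒜 𝔭) (Localization.AtPrime 𝔭) (mk y) *
          algebraMap A (Localization.AtPrime 𝔭) y.den := by
      rw [HomogeneousLocalization.algebraMap_apply, val_mk, Localization.mk_eq_mk']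
      exact (IsLocalization.mk'_spec _ _ _).symm
    rw [this]
    exact Ideal.mul_mem_right _ _ h1
  rw [IsLocalization.mem_map_algebraMap_iff 𝔭.primeCompl] at h2
  obtain ⟨⟨⟨a', ha'⟩, ⟨m, hm⟩⟩, h3⟩ := h2
  simp only at h3
  rw [← map_mul, IsLocalization.eq_iff_exists 𝔭.primeCompl] at h3
  obtain ⟨⟨h, hh⟩, h4⟩ := h3
  simp only at h4
  have h5 : (h * m) * (y.num : A) ∈ numIdeal 𝒜 𝔭 J := by
    have : (h * m) * (y.num : A) = h * a' := by rw [← h4]; ring
    rw [this]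
    exact Ideal.mul_mem_left _ _ ha'
  exact mem_numIdeal_of_mul_mem (𝔭.primeCompl.mul_mem hh hm) y.num.2 h5

end Groth.Agent.Lib.Helper11.ProjCM
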