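import Groth.Agent.Lib.Helper11.ProjCMD

/-!
# CM / Gorenstein for homogeneous localizations `A_(𝔭)` (helper11)

* `rad_val` : if some homogeneous `f` of positive degree is not in the homogeneous prime `𝔭`, then
  `𝔪_{A_𝔭} ⊆ √(𝔪_{A_(𝔭)} A_𝔭)`.
* `max_val` : if there are homogeneous `g, g' ∉ 𝔭` of degrees `d`, `d+1`, then
  `𝔪_{A_𝔭} = 𝔪_{A_(𝔭)} A_𝔭`.
* `cm_atPrime`, `gor_atPrime`.
-/

set_option autoImplicit false
universe u

open IsLocalRing HomogeneousLocalization DirectSum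

namespace Groth.Agent.Lib.Helper11.ProjCM

variable {A : Type u} [CommRing A] {𝒜 : ℕ → AddSubgroup A} [GradedRing 𝒜]
  {𝔭 : Ideal A} [𝔭.IsPrime]

/-- a homogeneous fraction with numerator in `𝔭` lies in the maximal ideal of `A_(𝔭)`. -/
theorem mk_mem_maximalIdeal (y : NumDenSameDeg 𝒜 𝔭.primeCompl) (hy : (y.num : A) ∈ 𝔭) :
    (mk y : AtPrime 𝒜 𝔭) ∈ maximalIdeal (AtPrime 𝒜 𝔭) := by
  rw [mem_maximalIdeal, mem_nonunits_iff, ← isUnit_iff_isUnit_val, val_mk, Localization.mk_eq_mk',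
    IsLocalization.AtPrime.isUnit_mk'_iff (Localization.AtPrime 𝔭) 𝔭]
  exact fun h => h hy

/-- reduction: to show `𝔪_{A_𝔭} ≤ K` for an ideal `K` it suffices to treat homogeneous elements
of `𝔭`. -/
theorem maximalIdeal_le_of_homogeneous (h𝔭 : 𝔭.IsHomogeneous 𝒜)
    (K : Ideal (Localization.AtPrime 𝔭))
    (h : ∀ (k : ℕ) (b : A), b ∈ 𝒜 k → b ∈ 𝔭 → algebraMap A (Localization.AtPrime 𝔭) b ∈ K) :
    maximalIdeal (Localization.AtPrime 𝔭) ≤ K := by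
  classical
  rw [← Localization.AtPrime.map_eq_maximalIdeal, Ideal.map_le_iff_le_comap]
  intro b hb
  rw [← DirectSum.sum_support_decompose 𝒜 b]
  refine Ideal.sum_mem _ fun k _ => ?_
  rw [Ideal.mem_comap]
  exact h k _ (decompose 𝒜 b k).2 (h𝔭 k hb)

theorem rad_val (h𝔭 : 𝔭.IsHomogeneous 𝒜) {f : A} {m : ℕ} (hf : f ∈ 𝒜 m) (hm : 0 < m)
    (hfp : f ∉ 𝔭) :
    maximalIdeal (Localization.AtPrime 𝔭) ≤
      ((maximalIdeal (AtPrime 𝒜 𝔭)).map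
        (algebraMap (AtPrime 𝒜 𝔭) (Localization.AtPrime 𝔭))).radical := by
  apply maximalIdeal_le_of_homogeneous h𝔭
  intro k b hb hbp
  refine ⟨m, ?_⟩
  have hnum : b ^ m ∈ 𝒜 (m * k) := by
    have := SetLike.pow_mem_graded m hb
    rwa [smul_eq_mul] at this
  have hden : f ^ k ∈ 𝒜 (m * k) := by
    have := SetLike.pow_mem_graded k hf
    rwa [smul_eq_mul, mul_comm] at this
  have hden' : f ^ k ∈ 𝔭.primeCompl := 𝔭.primeCompl.pow_mem hfp k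
  let y : NumDenSameDeg 𝒜 𝔭.primeCompl := ⟨m * k, ⟨b ^ m, hnum⟩, ⟨f ^ k, hden⟩, hden'⟩
  have hy : (mk y : AtPrime 𝒜 𝔭) ∈ maximalIdeal (AtPrime 𝒜 𝔭) := by
    apply mk_mem_maximalIdeal
    have hm' : m ≠ 0 := hm.ne'
    exact Ideal.pow_mem_of_mem _ hbp m hm
  have h1 : algebraMap A (Localization.AtPrime 𝔭) b ^ m =
      algebraMap (AtPrime 𝒜 𝔭) (Localization.AtPrime 𝔭) (mk y) *
        algebraMap A (Localization.AtPrime 𝔭) (f ^ k) := by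
    rw [HomogeneousLocalization.algebraMap_apply, val_mk, Localization.mk_eq_mk', ← map_pow]
    exact (IsLocalization.mk'_spec _ _ _).symm
  rw [h1]
  exact Ideal.mul_mem_right _ _ (Ideal.mem_map_of_mem _ hy)

theorem max_val (h𝔭 : 𝔭.IsHomogeneous 𝒜) {g g' : A} {d : ℕ} (hg : g ∈ 𝒜 d) (hg' : g' ∈ 𝒜 (d + 1))
    (hgp : g ∉ 𝔭) (hg'p : g' ∉ 𝔭) :
    maximalIdeal (Localization.AtPrime 𝔭) =
      (maximalIdeal (AtPrime 𝒜 𝔭)).map (algebraMap (AtPrime 𝒜 𝔭) (Localization.AtPrime 𝔭)) := by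
  refine le_antisymm ?_ (contr_val.map_maximalIdeal_le)
  apply maximalIdeal_le_of_homogeneous h𝔭
  intro k b hb hbp
  have hnum : b * g ^ k ∈ 𝒜 (k * (d + 1)) := by
    have := SetLike.mul_mem_graded hb (SetLike.pow_mem_graded k hg)
    rwa [smul_eq_mul, show k + k * d = k * (d + 1) by ring] at this
  have hden : g' ^ k ∈ 𝒜 (k * (d + 1)) := by
    have := SetLike.pow_mem_graded k hg'
    rwa [smul_eq_mul] at this
  have hden' : g' ^ k ∈ 𝔭.primeCompl := 𝔭.primeCompl.pow_mem hg'p k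
  let y : NumDenSameDeg 𝒜 𝔭.primeCompl := ⟨k * (d + 1), ⟨b * g ^ k, hnum⟩, ⟨g' ^ k, hden⟩, hden'⟩
  have hy : (mk y : AtPrime 𝒜 𝔭) ∈ maximalIdeal (AtPrime 𝒜 𝔭) := by
    apply mk_mem_maximalIdeal
    exact Ideal.mul_mem_right _ _ hbp
  have hgk : g ^ k ∈ 𝔭.primeCompl := 𝔭.primeCompl.pow_mem hgp k
  have h1 : algebraMap A (Localization.AtPrime 𝔭) b =
      algebraMap (AtPrime 𝒜 𝔭) (Localization.AtPrime 𝔭) (mk y) *
        Localization.mk (g' ^ k) ⟨g ^ k, hgk⟩ := by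
    rw [HomogeneousLocalization.algebraMap_apply, val_mk, Localization.mk_mul,
      ← Localization.mk_one_eq_algebraMap, Localization.mk_eq_mk_iff, Localization.r_iff_exists]
    refine ⟨1, ?_⟩
    simp only [Submonoid.coe_mul, Submonoid.coe_one]
    ring
  rw [h1]
  exact Ideal.mul_mem_right _ _ (Ideal.mem_map_of_mem _ hy)

/-- `A_(𝔭)` is Cohen–Macaulay if `A_𝔭` is (`𝔭` a relevant homogeneous prime). -/
theorem cm_atPrime (h𝔭 : 𝔭.IsHomogeneous 𝒜) {f : A} {m : ℕ} (hf : f ∈ 𝒜 m) (hm : 0 < m)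
    (hfp : f ∉ 𝔭) [LocCoh.IsCohenMacaulayLocalRing (Localization.AtPrime 𝔭)] :
    LocCoh.IsCohenMacaulayLocalRing (AtPrime 𝒜 𝔭) :=
  cm_descent (algebraMap (AtPrime 𝒜 𝔭) (Localization.AtPrime 𝔭)) contr_val
    (rad_val h𝔭 hf hm hfp)

/-- `A_(𝔭)` is Gorenstein if `A_𝔭` is, provided there are homogeneous elements of consecutive
degrees outside `𝔭`. -/
theorem gor_atPrime (h𝔭 : 𝔭.IsHomogeneous 𝒜) {g g' : A} {d : ℕ} (hg : g ∈ 𝒜 d)
    (hg' : g' ∈ 𝒜 (d + 1)) (hgp : g ∉ 𝔭) (hg'p : g' ∉ 𝔭)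
    [LocCoh.IsGorensteinLocalRing (Localization.AtPrime 𝔭)] :
    LocCoh.IsGorensteinLocalRing (AtPrime 𝒜 𝔭) :=
  gor_descent (algebraMap (AtPrime 𝒜 𝔭) (Localization.AtPrime 𝔭)) contr_val
    (max_val h𝔭 hg hg' hgp hg'p)

end Groth.Agent.Lib.Helper11.ProjCM
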