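import Mathlib

set_option autoImplicit false
universe u
open Finset

namespace Groth.Agent.Lib.Helper11.PtCoc

section comb
variable {G : Type*} [AddCommGroup G]

/-- full alternating sum over subsets -/
noncomputable def Ev (n : ℕ) (f : G → ℝ) (x : Fin n → G) : ℝ :=
  ∑ I ∈ (univ : Finset (Fin n)).powerset, (-1 : ℝ) ^ I.card * f (∑ i ∈ I, x i)

/-- the deviation, in the form of the statement -/
noncomputable def Dv (n : ℕ) (f : G → ℝ) (x : Fin n → G) : ℝ :=
  ∑ I ∈ (univ : Finset (Fin n)).powerset.erase ∅, (-1 : ℝ) ^ (n + I.card) * f (∑ i ∈ I, x i)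

theorem Dv_eq (n : ℕ) (f : G → ℝ) (x : Fin n → G) : Dv n f x = (-1 : ℝ) ^ n * (Ev n f x - f 0) := by
  classical
  have h : ∅ ∈ (univ : Finset (Fin n)).powerset := by simp
  have h2 : Ev n f x = (∑ I ∈ (univ : Finset (Fin n)).powerset.erase ∅,
      (-1 : ℝ) ^ I.card * f (∑ i ∈ I, x i)) + f 0 := by
    rw [Ev, ← Finset.add_sum_erase _ _ h]
    simp [add_comm]
  rw [h2, add_sub_cancel_right, Dv, Finset.mul_sum]
  apply Finset.sum_congr rfl
  intro I _
  rw [pow_add, mul_assoc]

theorem sum_powerset_succ (n : ℕ) (F : Finset (Fin (n + 1)) → ℝ) :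
    ∑ I ∈ (univ : Finset (Fin (n + 1))).powerset, F I
      = ∑ K ∈ (univ : Finset (Fin n)).powerset,
          (F (K.map (Fin.succEmb n)) + F (insert 0 (K.map (Fin.succEmb n)))) := by
  classical
  have hu : (univ : Finset (Fin (n + 1))) = insert 0 ((univ : Finset (Fin n)).map (Fin.succEmb n)) := by
    ext i
    simp only [mem_univ, mem_insert, mem_map, true_and, Fin.coe_succEmb, true_iff]
    rcases Fin.eq_zero_or_eq_succ i with h | ⟨j, h⟩
    · exact Or.inl h
    · exact Or.inr ⟨j, h.symm⟩
  have h0 : (0 : Fin (n + 1)) ∉ (univ : Finset (Fin n)).map (Fin.succEmb n) := by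
    simp [Fin.succ_ne_zero]
  rw [hu, Finset.sum_powerset_insert h0, Finset.map_eq_image, Finset.powerset_image,
    Finset.sum_image, Finset.sum_image, ← Finset.sum_add_distrib]
  · apply Finset.sum_congr rfl
    intro K _
    rw [Finset.map_eq_image]
  · intro a _ b _ hab
    exact Finset.image_injective (Fin.succEmb n).injective hab
  · intro a _ b _ hab
    exact Finset.image_injective (Fin.succEmb n).injective hab

theorem Ev_cons (n : ℕ) (f : G → ℝ) (a : G) (z : Fin n → G) :
    Ev (n + 1) f (Fin.cons a z) = Ev n f z - Ev n (fun g => f (a + g)) z := by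
  classical
  rw [Ev, sum_powerset_succ, Ev, Ev, ← Finset.sum_sub_distrib]
  apply Finset.sum_congr rfl
  intro K _
  have h0 : (0 : Fin (n + 1)) ∉ K.map (Fin.succEmb n) := by
    simp [Fin.succ_ne_zero]
  rw [Finset.card_insert_of_notMem h0, Finset.card_map, Finset.sum_insert h0, Finset.sum_map]
  simp only [Fin.coe_succEmb, Fin.cons_succ, Fin.cons_zero]
  ring

theorem Ev_zero (f : G → ℝ) (z : Fin 0 → G) : Ev 0 f z = f 0 := by
  simp [Ev]

theorem Dv_one (f : G → ℝ) (x : Fin 1 → G) : Dv 1 f x = f (x 0) := by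
  have hx : x = Fin.cons (x 0) (fun i : Fin 0 => i.elim0) := by
    funext i
    have : i = 0 := Subsingleton.elim _ _
    subst this
    simp
  rw [Dv_eq, hx, Ev_cons, Ev_zero, Ev_zero]
  simp

/-- the basic recursion: merging two variables -/
theorem Dv_cons_cons (n : ℕ) (f : G → ℝ) (a b : G) (z : Fin n → G) :
    Dv (n + 2) f (Fin.cons a (Fin.cons b z))
      = Dv (n + 1) f (Fin.cons (a + b) z) - Dv (n + 1) f (Fin.cons a z) - Dv (n + 1) f (Fin.cons b z) := by
  simp only [Dv_eq, Ev_cons]
  have : (fun g => f (a + (b + g))) = fun g => f (a + b + g) := by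
    funext g; rw [add_assoc]
  rw [this]
  ring

theorem Dv_sub (n : ℕ) (f g : G → ℝ) (x : Fin n → G) :
    Dv n (fun t => f t - g t) x = Dv n f x - Dv n g x := by
  simp only [Dv, mul_sub, Finset.sum_sub_distrib]

theorem abs_Dv_le (n : ℕ) (f : G → ℝ) (C : ℝ) (hC : ∀ g, |f g| ≤ C) (x : Fin n → G) :
    |Dv n f x| ≤ 2 ^ n * C := by
  classical
  rw [Dv]
  refine (Finset.abs_sum_le_sum_abs _ _).trans ?_
  have h1 : ∀ I ∈ (univ : Finset (Fin n)).powerset.erase ∅,
      |(-1 : ℝ) ^ (n + I.card) * f (∑ i ∈ I, x i)| ≤ C := by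
    intro I _
    rw [abs_mul, abs_pow, abs_neg, abs_one, one_pow, one_mul]
    exact hC _
  refine (Finset.sum_le_card_nsmul _ _ _ h1).trans ?_
  have hC0 : 0 ≤ C := (abs_nonneg _).trans (hC 0)
  rw [nsmul_eq_mul]
  refine mul_le_mul_of_nonneg_right ?_ hC0
  have : ((univ : Finset (Fin n)).powerset.erase ∅).card ≤ 2 ^ n := by
    refine (Finset.card_erase_le).trans ?_
    simp
  exact_mod_cast this

/-- uniqueness: a bounded function with vanishing deviation is zero -/
theorem eq_zero_of_Dv_eq_zero (n : ℕ) (f : G → ℝ) (C : ℝ) (hC : ∀ g, |f g| ≤ C)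
    (h : ∀ x : Fin (n + 1) → G, Dv (n + 1) f x = 0) : ∀ g, f g = 0 := by
  induction n with
  | zero =>
    intro g
    have := h (fun _ => g)
    rwa [Dv_one] at this
  | succ n ih =>
    apply ih
    intro x
    have hx : x = Fin.cons (x 0) (Fin.tail x) := (Fin.cons_self_tail x).symm
    rw [hx]
    set z := Fin.tail x
    -- additive in the first variable
    have hadd : ∀ a b : G, Dv (n + 1) f (Fin.cons (a + b) z)
        = Dv (n + 1) f (Fin.cons a z) + Dv (n + 1) f (Fin.cons b z) := by
      intro a b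
      have := Dv_cons_cons n f a b z
      rw [h] at this
      linarith
    have hnsmul : ∀ (k : ℕ) (a : G), Dv (n + 1) f (Fin.cons (k • a) z)
        = k * Dv (n + 1) f (Fin.cons a z) := by
      intro k a
      induction k with
      | zero =>
        have h0 := hadd 0 0
        rw [add_zero] at h0
        simp only [zero_smul, Nat.cast_zero, zero_mul]
        linarith
      | succ k ihk =>
        rw [succ_nsmul, hadd, ihk]
        push_cast
        ring
    by_contra hne
    set v := Dv (n + 1) f (Fin.cons (x 0) z) with hv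
    have hvpos : 0 < |v| := abs_pos.mpr hne
    obtain ⟨k, hk⟩ := exists_nat_gt (2 ^ (n + 1) * C / |v|)
    have h1 := abs_Dv_le (n + 1) f C hC (Fin.cons (k • x 0) z)
    rw [hnsmul, abs_mul, Nat.abs_cast] at h1
    rw [div_lt_iff₀ hvpos] at hk
    linarith

end comb

end Groth.Agent.Lib.Helper11.PtCoc
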