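import Mathlib

set_option autoImplicit false
universe u
open MeasureTheory

namespace Groth.Agent.Lib.Helper11.PtCoc

section meas
variable {G : Type*} [TopologicalSpace G] [CompactSpace G] [T2Space G] [MeasurableSpace G] [BorelSpace G]
  {ι : Type*}

/-- A continuous real function on a product of compact Hausdorff spaces is measurable for the product
σ-algebra (Stone–Weierstrass). -/
theorem measurable_of_continuous_pi (F : (ι → G) → ℝ) (hF : Continuous F) : Measurable F := by
  classical
  let K := ι → G
  let gens : Set C(K, ℝ) := {Φ | ∃ (i : ι) (f : C(G, ℝ)), Φ = f.comp (ContinuousMap.eval i)}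
  let A : Subalgebra ℝ C(K, ℝ) := Algebra.adjoin ℝ gens
  have hsep : A.SeparatesPoints := by
    intro x y hxy
    obtain ⟨i, hi⟩ : ∃ i, x i ≠ y i := by
      by_contra h
      push_neg at h
      exact hxy (funext h)
    obtain ⟨f, hfx, hfy, -⟩ := exists_continuous_zero_one_of_isClosed
      (isClosed_singleton (x := x i)) (isClosed_singleton (x := y i))
      (by simpa [Set.disjoint_singleton] using hi)
    refine ⟨_, ⟨f.comp (ContinuousMap.eval i), Algebra.subset_adjoin ⟨i, f, rfl⟩, rfl⟩, ?_⟩
    have h1 : f (x i) = 0 := hfx (Set.mem_singleton _)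
    have h2 : f (y i) = 1 := hfy (Set.mem_singleton _)
    show ¬ f (x i) = f (y i)
    rw [h1, h2]
    exact zero_ne_one
  have htop := ContinuousMap.subalgebra_topologicalClosure_eq_top_of_separatesPoints A hsep
  have hA : ∀ Φ ∈ A, Measurable Φ := by
    intro Φ hΦ
    induction hΦ using Algebra.adjoin_induction with
    | mem Φ h =>
      obtain ⟨i, f, rfl⟩ := h
      exact f.continuous.measurable.comp (measurable_pi_apply i)
    | algebraMap r => exact measurable_const
    | add Φ Ψ _ _ h1 h2 => exact h1.add h2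
    | mul Φ Ψ _ _ h1 h2 => exact h1.mul h2
  have hmem : (⟨F, hF⟩ : C(K, ℝ)) ∈ A.topologicalClosure := by rw [htop]; trivial
  rw [Subalgebra.topologicalClosure, ← SetLike.mem_coe] at hmem
  change (⟨F, hF⟩ : C(K, ℝ)) ∈ closure (A : Set C(K, ℝ)) at hmem
  obtain ⟨Φ, hΦA, hΦ⟩ := mem_closure_iff_seq_limit.mp hmem
  refine measurable_of_tendsto_metrizable (f := fun k => (Φ k : K → ℝ)) (fun k => hA _ (hΦA k)) ?_
  rw [tendsto_pi_nhds]
  intro x
  exact ((continuous_eval_const x).tendsto _).comp hΦ

end meas

end Groth.Agent.Lib.Helper11.PtCoc
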