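import Groth.Agent.Lib.Helper11.PtCoc1
import Groth.Agent.Lib.Helper11.PtCoc2

set_option autoImplicit false
universe u
open MeasureTheory

namespace Groth.Agent.Lib.Helper11.PtCoc

section ana
variable {G : Type u} [AddCommGroup G] [TopologicalSpace G] [IsTopologicalAddGroup G] [CompactSpace G] [T2Space G]
  [MeasurableSpace G] [BorelSpace G] (μ : Measure G) [μ.IsAddHaarMeasure] [IsProbabilityMeasure μ]

/-- the 2-cocycle condition in every pair of variables -/
def Cocycle (n : ℕ) (ψ : (Fin n → G) → ℝ) : Prop :=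
  ∀ (i j : Fin n), i ≠ j → ∀ (x : Fin n → G) (a b c : G),
    ψ (Function.update (Function.update x i (a + b)) j c) + ψ (Function.update (Function.update x i a) j b) =
      ψ (Function.update (Function.update x i a) j (b + c)) + ψ (Function.update (Function.update x i b) j c)

noncomputable def phi (m : ℕ) (ψ : (Fin (m + 1) → G) → ℝ) (g : G) : ℝ :=
  (-1 : ℝ) ^ m * ∫ u, ψ (Fin.cons g u) ∂(Measure.pi (fun _ : Fin m => μ))

noncomputable def chi (m : ℕ) (ψ : (Fin (m + 2) → G) → ℝ) (y : Fin (m + 1) → G) : ℝ :=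
  - ∫ u, ψ (Fin.insertNth 1 u y) ∂μ

omit [AddCommGroup G] [IsTopologicalAddGroup G] [T2Space G] [μ.IsAddHaarMeasure] in
theorem integrable_of_continuous (h : G → ℝ) (hc : Continuous h) : Integrable h μ :=
  hc.integrable_of_hasCompactSupport (HasCompactSupport.of_compactSpace h)

omit [AddCommGroup G] [IsTopologicalAddGroup G] [T2Space G] [μ.IsAddHaarMeasure] in
theorem continuous_chi (m : ℕ) (ψ : (Fin (m + 2) → G) → ℝ) (hψ : Continuous ψ) : Continuous (chi μ m ψ) := by
  have h := continuousOn_integral_of_compact_support (μ := μ)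
    (f := fun (y : Fin (m + 1) → G) (u : G) => ψ (Fin.insertNth 1 u y)) (s := Set.univ) (k := Set.univ)
    isCompact_univ ?_ ?_
  · rw [continuousOn_univ] at h
    exact h.neg
  · apply Continuous.continuousOn
    show Continuous (fun p : (Fin (m + 1) → G) × G => ψ (Fin.insertNth 1 p.2 p.1))
    exact hψ.comp (Continuous.finInsertNth 1 continuous_snd continuous_fst)
  · intro p x _ hx
    exact absurd (Set.mem_univ x) hx

omit [IsTopologicalAddGroup G] [T2Space G] [μ.IsAddHaarMeasure] in
theorem cocycle_chi (m : ℕ) (ψ : (Fin (m + 2) → G) → ℝ) (hψ : Continuous ψ) (hc : Cocycle (m + 2) ψ) :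
    Cocycle (m + 1) (chi μ m ψ) := by
  intro i j hij x a b c
  have key : ∀ (A C : G) (u : G), (Fin.insertNth (α := fun _ => G) 1 u (Function.update (Function.update x i A) j C)
        : Fin (m + 2) → G)
      = Function.update (Function.update (Fin.insertNth (α := fun _ => G) (1 : Fin (m + 2)) u x : Fin (m + 2) → G)
          (Fin.succAbove 1 i) A) (Fin.succAbove 1 j) C := by
    intro A C u
    rw [Fin.insertNth_update, Fin.insertNth_update]
  have hne : Fin.succAbove (1 : Fin (m + 2)) i ≠ Fin.succAbove 1 j :=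
    fun h => hij (Fin.succAbove_right_injective h)
  have hint : ∀ (A C : G), Integrable (fun u => ψ (Function.update (Function.update
      ((Fin.insertNth (α := fun _ => G) (1 : Fin (m + 2)) u x : Fin (m + 2) → G)) (Fin.succAbove 1 i) A) (Fin.succAbove 1 j) C)) μ := by
    intro A C
    apply integrable_of_continuous
    refine hψ.comp ?_
    refine Continuous.update (Continuous.update ?_ _ continuous_const) _ continuous_const
    exact Continuous.finInsertNth 1 continuous_id continuous_const
  simp only [chi, key]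
  have h1 := fun u => hc _ _ hne ((Fin.insertNth (α := fun _ => G) (1 : Fin (m + 2)) u x : Fin (m + 2) → G)) a b c
  have h2 : ∫ u, (ψ (Function.update (Function.update ((Fin.insertNth (α := fun _ => G) (1 : Fin (m + 2)) u x : Fin (m + 2) → G))
        (Fin.succAbove 1 i) (a + b)) (Fin.succAbove 1 j) c) +
      ψ (Function.update (Function.update ((Fin.insertNth (α := fun _ => G) (1 : Fin (m + 2)) u x : Fin (m + 2) → G))
        (Fin.succAbove 1 i) a) (Fin.succAbove 1 j) b)) ∂μ
      = ∫ u, (ψ (Function.update (Function.update ((Fin.insertNth (α := fun _ => G) (1 : Fin (m + 2)) u x : Fin (m + 2) → G))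
        (Fin.succAbove 1 i) a) (Fin.succAbove 1 j) (b + c)) +
      ψ (Function.update (Function.update ((Fin.insertNth (α := fun _ => G) (1 : Fin (m + 2)) u x : Fin (m + 2) → G))
        (Fin.succAbove 1 i) b) (Fin.succAbove 1 j) c)) ∂μ :=
    integral_congr_ae (Filter.Eventually.of_forall h1)
  rw [integral_add (hint _ _) (hint _ _), integral_add (hint _ _) (hint _ _)] at h2
  linarith

omit [T2Space G] in
theorem key_rec (m : ℕ) (ψ : (Fin (m + 2) → G) → ℝ) (hψ : Continuous ψ) (hc : Cocycle (m + 2) ψ)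
    (a b : G) (z : Fin m → G) :
    ψ (Fin.cons a (Fin.cons b z))
      = chi μ m ψ (Fin.cons (a + b) z) - chi μ m ψ (Fin.cons a z) - chi μ m ψ (Fin.cons b z) := by
  have hins : ∀ (p u : G), (Fin.insertNth (α := fun _ => G) (1 : Fin (m + 2)) u (Fin.cons p z : Fin (m + 1) → G)
        : Fin (m + 2) → G)
      = (Fin.cons p (Fin.cons u z : Fin (m + 1) → G) : Fin (m + 2) → G) := by
    intro p u
    have : (1 : Fin (m + 2)) = Fin.succ 0 := rfl
    rw [this, Fin.insertNth_succ_cons, Fin.insertNth_zero']
  have hupd : ∀ (p q : G), Function.update (Function.update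
      (Fin.cons a (Fin.cons b z : Fin (m + 1) → G) : Fin (m + 2) → G) 0 p) 1 q
      = (Fin.cons p (Fin.cons q z : Fin (m + 1) → G) : Fin (m + 2) → G) := by
    intro p q
    have : (1 : Fin (m + 2)) = Fin.succ 0 := rfl
    rw [Fin.update_cons_zero, this, ← Fin.cons_update, Fin.update_cons_zero]
  have h1 := fun c => hc 0 1 (by simp [Fin.ext_iff]) (Fin.cons a (Fin.cons b z)) a b c
  simp only [hupd] at h1
  have hint : ∀ (p : G), Integrable (fun c => ψ (Fin.cons p (Fin.cons c z))) μ := by
    intro p
    apply integrable_of_continuous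
    refine hψ.comp ?_
    exact Continuous.finCons continuous_const (Continuous.finCons continuous_id continuous_const)
  have hint' : Integrable (fun c => ψ (Fin.cons a (Fin.cons (b + c) z))) μ := by
    apply integrable_of_continuous
    refine hψ.comp ?_
    exact Continuous.finCons continuous_const
      (Continuous.finCons (continuous_const.add continuous_id) continuous_const)
  have h2 : ∫ c, (ψ (Fin.cons (a + b) (Fin.cons c z)) + ψ (Fin.cons a (Fin.cons b z))) ∂μ
      = ∫ c, (ψ (Fin.cons a (Fin.cons (b + c) z)) + ψ (Fin.cons b (Fin.cons c z))) ∂μ :=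
    integral_congr_ae (Filter.Eventually.of_forall h1)
  rw [integral_add (hint _) (integrable_const _), integral_add hint' (hint _), integral_const] at h2
  have h3 : ∫ c, ψ (Fin.cons a (Fin.cons (b + c) z)) ∂μ = ∫ c, ψ (Fin.cons a (Fin.cons c z)) ∂μ :=
    integral_add_left_eq_self (fun c => ψ (Fin.cons a (Fin.cons c z))) b
  rw [h3] at h2
  simp only [chi, hins]
  simp at h2
  linarith

omit [AddCommGroup G] [IsTopologicalAddGroup G] [μ.IsAddHaarMeasure] in
theorem integrable_pi_of_continuous (n : ℕ) (H : (Fin n → G) → ℝ) (hH : Continuous H) :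
    Integrable H (Measure.pi (fun _ : Fin n => μ)) := by
  obtain ⟨C, hC⟩ := IsCompact.exists_bound_of_continuousOn isCompact_univ hH.continuousOn
  exact Integrable.of_bound (measurable_of_continuous_pi H hH).aestronglyMeasurable C
    (Filter.Eventually.of_forall fun x => hC x (Set.mem_univ x))

omit [AddCommGroup G] [IsTopologicalAddGroup G] [μ.IsAddHaarMeasure] in
theorem fubini_cons (m : ℕ) (H : (Fin (m + 1) → G) → ℝ) (hH : Continuous H) :
    ∫ v, H v ∂(Measure.pi (fun _ : Fin (m + 1) => μ))
      = ∫ u', ∫ u, H (Fin.cons u u') ∂μ ∂(Measure.pi (fun _ : Fin m => μ)) := by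
  let e := MeasurableEquiv.piFinSuccAbove (fun _ : Fin (m + 1) => G) 0
  have mp := measurePreserving_piFinSuccAbove (fun _ : Fin (m + 1) => μ) 0
  have h1 : ∫ p, H (e.symm p) ∂(μ.prod (Measure.pi (fun _ : Fin m => μ)))
      = ∫ v, H v ∂(Measure.pi (fun _ : Fin (m + 1) => μ)) := mp.symm.integral_comp' H
  have hint : Integrable (fun p => H (e.symm p)) (μ.prod (Measure.pi (fun _ : Fin m => μ))) :=
    (mp.symm.integrable_comp_emb e.symm.measurableEmbedding).mpr (integrable_pi_of_continuous μ _ H hH)
  rw [← h1, integral_prod_symm _ hint]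
  apply integral_congr_ae
  refine Filter.Eventually.of_forall fun u' => ?_
  apply integral_congr_ae
  refine Filter.Eventually.of_forall fun u => ?_
  show H (e.symm (u, u')) = H (Fin.cons u u')
  congr 1
  simp [e, MeasurableEquiv.piFinSuccAbove_symm_apply]
  rfl

omit [IsTopologicalAddGroup G] [μ.IsAddHaarMeasure] in
theorem phi_chi (m : ℕ) (ψ : (Fin (m + 2) → G) → ℝ) (hψ : Continuous ψ) (g : G) :
    phi μ m (chi μ m ψ) g = phi μ (m + 1) ψ g := by
  have hins : ∀ (u : G) (u' : Fin m → G),
      (Fin.insertNth (α := fun _ => G) (1 : Fin (m + 2)) u (Fin.cons g u' : Fin (m + 1) → G) : Fin (m + 2) → G)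
      = (Fin.cons g (Fin.cons u u' : Fin (m + 1) → G) : Fin (m + 2) → G) := by
    intro u u'
    have : (1 : Fin (m + 2)) = Fin.succ 0 := rfl
    rw [this, Fin.insertNth_succ_cons, Fin.insertNth_zero']
  have hH : Continuous (fun v : Fin (m + 1) → G => ψ (Fin.cons g v)) :=
    hψ.comp (Continuous.finCons continuous_const continuous_id)
  rw [phi, phi, fubini_cons μ m _ hH]
  simp only [chi, hins, integral_neg, pow_succ]
  ring

omit [AddCommGroup G] [IsTopologicalAddGroup G] [T2Space G] [CompactSpace G] [BorelSpace G] [μ.IsAddHaarMeasure] in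
theorem phi_zero (ψ : (Fin 1 → G) → ℝ) (g : G) : phi μ 0 ψ g = ψ (fun _ => g) := by
  rw [phi, integral_unique]
  have h1 : (Measure.pi (fun _ : Fin 0 => μ)).real Set.univ = 1 := by
    simp [Measure.real]
  rw [h1]
  have h2 : (Fin.cons g (default : Fin 0 → G) : Fin 1 → G) = fun _ => g := by
    funext i
    have h0 : (i : ℕ) = 0 := by have := i.isLt; omega
    have : i = 0 := Fin.ext (by simp [h0])
    subst this
    simp
  simp [h2]

theorem claim (m : ℕ) : ∀ (ψ : (Fin (m + 1) → G) → ℝ), Continuous ψ → Cocycle (m + 1) ψ →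
    (∀ x, ψ x = Dv (m + 1) (phi μ m ψ) x) ∧ Continuous (phi μ m ψ) := by
  induction m with
  | zero =>
    intro ψ hψ _
    refine ⟨fun x => ?_, ?_⟩
    · rw [Dv_one, phi_zero]
      congr 1
      funext i
      have h0 : (i : ℕ) = 0 := by have := i.isLt; omega
      have : i = 0 := Fin.ext (by simp [h0])
      rw [this]
    · have : phi μ 0 ψ = fun g => ψ (fun _ => g) := funext fun g => phi_zero μ ψ g
      rw [this]
      exact hψ.comp (continuous_pi fun _ => continuous_id)
  | succ m ih =>
    intro ψ hψ hc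
    obtain ⟨h1, h2⟩ := ih (chi μ m ψ) (continuous_chi μ m ψ hψ) (cocycle_chi μ m ψ hψ hc)
    have hphi : phi μ m (chi μ m ψ) = phi μ (m + 1) ψ := funext fun g => phi_chi μ m ψ hψ g
    rw [hphi] at h1 h2
    refine ⟨fun x => ?_, h2⟩
    have hx : x = Fin.cons (x 0) (Fin.cons (x 1) (Fin.tail (Fin.tail x))) := by
      funext i
      refine Fin.cases ?_ (fun i => ?_) i
      · simp
      · refine Fin.cases ?_ (fun k => ?_) i
        · simp
        · simp [Fin.tail]
    rw [hx, key_rec μ m ψ hψ hc, Dv_cons_cons, h1, h1, h1]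

theorem main97 (m : ℕ) (ψ : (Fin (m + 1) → G) → ℝ) (hψc : Continuous ψ)
    (hψ : ∀ (i j : Fin (m + 1)), i ≠ j → ∀ (x : Fin (m + 1) → G) (a b c : G),
      ψ (Function.update (Function.update x i (a + b)) j c) + ψ (Function.update (Function.update x i a) j b) =
        ψ (Function.update (Function.update x i a) j (b + c)) + ψ (Function.update (Function.update x i b) j c)) :
    (∀ x : Fin (m + 1) → G,
      ψ x = ∑ I ∈ ((Finset.univ : Finset (Fin (m + 1))).powerset.erase ∅),
        (-1 : ℝ) ^ (m + 1 + I.card) * ((-1 : ℝ) ^ m *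
          ∫ u, ψ (Fin.cons (∑ i ∈ I, x i) u) ∂(MeasureTheory.Measure.pi (fun _ : Fin m => μ)))) ∧
    Continuous (fun g : G => (-1 : ℝ) ^ m * ∫ u, ψ (Fin.cons g u) ∂(MeasureTheory.Measure.pi (fun _ : Fin m => μ))) ∧
    (∀ φ : G → ℝ, Continuous φ → (∀ x : Fin (m + 1) → G,
      ψ x = ∑ I ∈ ((Finset.univ : Finset (Fin (m + 1))).powerset.erase ∅), (-1 : ℝ) ^ (m + 1 + I.card) * φ (∑ i ∈ I, x i)) →
      φ = fun g => (-1 : ℝ) ^ m * ∫ u, ψ (Fin.cons g u) ∂(MeasureTheory.Measure.pi (fun _ : Fin m => μ))) := by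
  obtain ⟨h1, h2⟩ := claim μ m ψ hψc hψ
  refine ⟨h1, h2, ?_⟩
  intro φ hφ hφψ
  have hδc : Continuous (fun t => φ t - phi μ m ψ t) := hφ.sub h2
  obtain ⟨C, hC⟩ := IsCompact.exists_bound_of_continuousOn isCompact_univ hδc.continuousOn
  have hzero := eq_zero_of_Dv_eq_zero m (fun t => φ t - phi μ m ψ t) C
    (fun g => by simpa using hC g (Set.mem_univ g))
    (fun x => by
      rw [Dv_sub, ← h1 x]
      have := hφψ x
      rw [sub_eq_zero]
      exact this.symm)
  funext g
  have := hzero g
  exact sub_eq_zero.mp this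

end ana

end Groth.Agent.Lib.Helper11.PtCoc
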