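import Mathlib
import Groth.Prelude.Def_DCoh2
import Groth.Agent.Lib.Helper11.DerivStr7
import Groth.Agent.Lib.Helper17.CoprodRpush2
import Groth.Agent.Lib.Helper17.QcSec
import Groth.Agent.Lib.Helper5.CoprodBdd

set_option autoImplicit false
set_option linter.unusedSectionVars false
set_option linter.style.haveILetI false
universe w w' v v' u u'
open CategoryTheory CategoryTheory.Limits AlgebraicGeometry

namespace Groth.Agent.Lib.Helper11.PushQcAcyc

open Groth.Agent.Lib.Helper11.DerivStr Groth.Agent.Lib.Helper11.FAcyc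

section Formal
variable {C : Type*} [Category C]

/-- reindexing a colimit cofan along `ULift`. -/
def isColimitULift {f : ℕ → C} {pt : C} (inj : ∀ m, f m ⟶ pt) (h : IsColimit (Cofan.mk pt inj)) :
    IsColimit (Cofan.mk pt (fun i : ULift.{w} ℕ => inj i.down)) :=
  Cofan.IsColimit.mk _ (fun s => Cofan.IsColimit.desc h (fun m => s.inj ⟨m⟩))
    (fun s i => by
      change inj i.down ≫ _ = _
      exact Cofan.IsColimit.fac h _ i.down)
    (fun s m hm => by
      apply Cofan.IsColimit.hom_ext h
      intro j
      rw [Cofan.IsColimit.fac]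
      exact hm ⟨j⟩)

/-- reindexing back. -/
def isColimitOfULift {f : ℕ → C} {pt : C} (inj : ∀ m, f m ⟶ pt)
    (h : IsColimit (Cofan.mk pt (fun i : ULift.{w} ℕ => inj i.down))) :
    IsColimit (Cofan.mk pt inj) :=
  Cofan.IsColimit.mk _ (fun s => Cofan.IsColimit.desc h (fun i => s.inj i.down))
    (fun s m => by
      exact Cofan.IsColimit.fac h _ ⟨m⟩)
    (fun s m hm => by
      apply Cofan.IsColimit.hom_ext h
      intro j
      rw [Cofan.IsColimit.fac]
      exact hm j.down)

end Formal

section Coprod
open HomotopyCategory CochainComplex Pretriangulated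
variable {A : Type u} [Category.{v} A] [Abelian A] [IsGrothendieckAbelian.{v} A]
  [HasDerivedCategory.{w} A]

local notation "Kh" => HomotopyCategory A (ComplexShape.up ℤ)
local notation "qq" => HomotopyCategory.quotient A (ComplexShape.up ℤ)

variable {D : Type u'} [Category.{v'} D] (G : HomotopyCategory A (ComplexShape.up ℤ) ⥤ D)
  [G.HasRightDerivedFunctor (HomotopyCategory.quasiIso A (ComplexShape.up ℤ))]

/-- good objects are stable under those countable coproducts of complexes which are preserved by
`G` and `RG`. -/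
theorem good_coproduct' (X : ℕ → CochainComplex A ℤ) (hX : ∀ m, Good G ((qq).obj (X m)))
    (h₁ : IsColimit (Cofan.mk (G.obj ((qq).obj (∐ X))) (fun m => G.map ((qq).map (Sigma.ι X m)))))
    (h₂ : IsColimit (Cofan.mk
      ((G.totalRightDerived DerivedCategory.Qh
        (HomotopyCategory.quasiIso A (ComplexShape.up ℤ))).obj
          (DerivedCategory.Qh.obj ((qq).obj (∐ X))))
      (fun m => (G.totalRightDerived DerivedCategory.Qh
        (HomotopyCategory.quasiIso A (ComplexShape.up ℤ))).map
          (DerivedCategory.Qh.map ((qq).map (Sigma.ι X m)))))) :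
    Good G ((qq).obj (∐ X)) := by
  let α := G.totalRightDerivedUnit DerivedCategory.Qh
    (HomotopyCategory.quasiIso A (ComplexShape.up ℤ))
  let τ : Discrete.functor (fun m => G.obj ((qq).obj (X m))) ⟶
      Discrete.functor (fun m => (G.totalRightDerived DerivedCategory.Qh
        (HomotopyCategory.quasiIso A (ComplexShape.up ℤ))).obj
          (DerivedCategory.Qh.obj ((qq).obj (X m)))) :=
    Discrete.natTrans (fun j => α.app ((qq).obj (X j.as)))
  exact isIso_of_isColimit h₁ h₂ τ (fun j => hX j.as) (α.app ((qq).obj (∐ X)))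
    (fun j => α.naturality _)

end Coprod

section Sch
open HomotopyCategory CochainComplex Pretriangulated
attribute [local instance] HasDerivedCategory.standard
open Groth.Agent.Lib.Helper17.CoprodRpush

variable {X S : Scheme.{u}} (f : X ⟶ S) [QuasiCompact f] [QuasiSeparated f]

omit [QuasiCompact f] [QuasiSeparated f] in
lemma isQuasicoherent_of_isZero {Z M : X.Modules} (hZ : IsZero Z) (hM : M.IsQuasicoherent) :
    Z.IsQuasicoherent := by
  haveI := hM
  have h : (kernel (𝟙 M)).IsQuasicoherent :=
    Groth.Agent.Lib.Helper29.QCoh.isQuasicoherent_kernel (𝟙 M)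
  exact (SheafOfModules.isQuasicoherent X.ringCatSheaf).prop_of_iso
    ((isZero_kernel_of_mono (𝟙 M)).iso hZ) h

lemma isQCohD_Q (K : CochainComplex X.Modules ℤ) (hK : ∀ n, (K.X n).IsQuasicoherent) :
    DCoh.IsQCohD (DerivedCategory.Q.obj K) := by
  intro i
  have h := Groth.Agent.Lib.Helper17.QcSec.isQuasicoherent_homology K hK i
  exact (SheafOfModules.isQuasicoherent X.ringCatSheaf).prop_of_iso
    ((DerivedCategory.homologyFunctorFactors X.Modules i).app K).symm h

lemma preserves_push_nat :
    PreservesColimitsOfShape (Discrete ℕ) (Scheme.Modules.pushforward f) := by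
  haveI := Groth.Agent.Lib.Helper5.CoprodBdd.preservesCoproducts_pushforward f (ULift.{u} ℕ)
  exact preservesColimitsOfShape_of_equiv (Discrete.equivalence Equiv.ulift) _

variable [DCoh.HasRpush f]

/-- `Rf_*` preserves countable coproducts of complexes with quasi-coherent cohomology. -/
noncomputable def isColimitRpush (Y : ℕ → CochainComplex X.Modules ℤ)
    (hY : ∀ m, DCoh.IsQCohD (DerivedCategory.Q.obj (Y m))) :
    IsColimit (Cofan.mk ((DCoh.Rpush f).obj (DerivedCategory.Q.obj (∐ Y)))
      (fun m => (DCoh.Rpush f).map (DerivedCategory.Q.map (Sigma.ι Y m)))) := by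
  haveI := preserves_Q (A := X.Modules)
  have h0 : IsColimit (Cofan.mk (DerivedCategory.Q.obj (∐ Y))
      (fun m => DerivedCategory.Q.map (Sigma.ι Y m))) :=
    (isColimitMapCoconeCofanMkEquiv _ _ _)
      (isColimitOfPreserves (HomotopyCategory.quotient X.Modules (ComplexShape.up ℤ) ⋙
        DerivedCategory.Qh) (coproductIsCoproduct Y))
  let K : ULift.{u} ℕ → DCoh.D X := fun i => DerivedCategory.Q.obj (Y i.down)
  have h1 : IsColimit (Cofan.mk (DerivedCategory.Q.obj (∐ Y))
      (fun i : ULift.{u} ℕ => DerivedCategory.Q.map (Sigma.ι Y i.down))) :=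
    isColimitULift _ h0
  haveI : HasCoproduct K := ⟨⟨⟨_, h1⟩⟩⟩
  haveI : HasCoproductsOfShape (ULift.{u} ℕ) (DCoh.D S) :=
    Groth.Agent.Lib27.DCoprod.hasCoproductsOfShape DerivedCategory.Qh
      (HomotopyCategory.quasiIso S.Modules (ComplexShape.up ℤ))
  haveI : IsIso (sigmaComparison (DCoh.Rpush f) K) :=
    isIso_sigmaDesc_Rpush f K (fun i => hY i.down)
  haveI : PreservesColimit (Discrete.functor K) (DCoh.Rpush f) :=
    PreservesCoproduct.of_iso_comparison _ _
  have h2 := isColimitOfPreserves (DCoh.Rpush f) h1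
  have h3 := (isColimitMapCoconeCofanMkEquiv _ _ _) h2
  exact isColimitOfULift _ h3

/-- **S1035**: complexes of quasi-coherent `f_*`-acyclic modules compute `Rf_*` (`f` qcqs). -/
theorem good_push [HasInjectiveResolutions X.Modules] (F : CochainComplex X.Modules ℤ)
    (hq : ∀ n : ℤ, (F.X n).IsQuasicoherent)
    (hac : ∀ n : ℤ, FD (Scheme.Modules.pushforward f) 0 (F.X n)) :
    Good (DCoh.pushKh f) ((HomotopyCategory.quotient X.Modules (ComplexShape.up ℤ)).obj F) := by
  haveI hF := preserves_push_nat f
  haveI := preserves_mapHomologicalComplex (Scheme.Modules.pushforward f)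
  haveI := preserves_Qh (A := S.Modules)
  haveI : PreservesColimitsOfShape (Discrete ℕ)
      (HomotopyCategory.quotient X.Modules (ComplexShape.up ℤ) ⋙
        ((Scheme.Modules.pushforward f).mapHomotopyCategory (ComplexShape.up ℤ) ⋙
      (DerivedCategory.Qh : _ ⥤ DerivedCategory S.Modules))) := by
    have h : PreservesColimitsOfShape (Discrete ℕ)
        (((Scheme.Modules.pushforward f).mapHomologicalComplex (ComplexShape.up ℤ) ⋙
          HomotopyCategory.quotient S.Modules (ComplexShape.up ℤ)) ⋙
            (DerivedCategory.Qh : _ ⥤ DerivedCategory S.Modules)) := inferInstance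
    exact preservesColimitsOfShape_of_natIso
      (Functor.isoWhiskerRight
        ((Scheme.Modules.pushforward f).mapHomotopyCategoryFactors (ComplexShape.up ℤ)).symm
        (DerivedCategory.Qh : _ ⥤ DerivedCategory S.Modules))
  have hsig : ∀ (m : ℕ) (n : ℤ), FD (Scheme.Modules.pushforward f) 0 ((sig F m).X n) := by
    intro m n
    by_cases h : n < -(m : ℤ)
    · exact FD_of_isZero _ (isZero_sig_X F m n h)
    · haveI := isIso_sigι_f F m n (by omega)
      exact FD_of_iso _ (asIso ((sigι F m).f n)).symm (hac n)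
  have hsigq : ∀ (m : ℕ) (n : ℤ), ((sig F m).X n).IsQuasicoherent := by
    intro m n
    by_cases h : n < -(m : ℤ)
    · exact isQuasicoherent_of_isZero (isZero_sig_X F m n h) (hq 0)
    · haveI := isIso_sigι_f F m n (by omega)
      exact (SheafOfModules.isQuasicoherent X.ringCatSheaf).prop_of_iso
        (asIso ((sigι F m).f n)).symm (hq n)
  have h1 : ∀ m, Good (DCoh.pushKh f)
      ((HomotopyCategory.quotient X.Modules (ComplexShape.up ℤ)).obj (sig F m)) := fun m =>
    good_of_isStrictlyGE (Scheme.Modules.pushforward f) (sig F m) (-(m : ℤ)) (hsig m)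
  have h2 : Good (DCoh.pushKh f)
      ((HomotopyCategory.quotient X.Modules (ComplexShape.up ℤ)).obj (TT F)) :=
    good_coproduct' _ (sig F) h1
      ((isColimitMapCoconeCofanMkEquiv (HomotopyCategory.quotient X.Modules (ComplexShape.up ℤ) ⋙
          DCoh.pushKh f) _ _)
        (isColimitOfPreserves (HomotopyCategory.quotient X.Modules (ComplexShape.up ℤ) ⋙
          DCoh.pushKh f) (coproductIsCoproduct (sig F))))
      (isColimitRpush f (sig F) (fun m => isQCohD_Q _ (hsigq m)))
  exact good_of_distinguished _ _ (telTriangle_distinguished F) h2 h2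

end Sch

end Groth.Agent.Lib.Helper11.PushQcAcyc
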