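import Mathlib
import Groth.Prelude.Def_W4sga3xiixivxvCartan

set_option autoImplicit false
universe u
open scoped TensorProduct

namespace Groth.Agent.Lib.Helper11.RC

attribute [local instance 100] LieRing.ofAssociativeRing

theorem natTrailingDegree_map_of_injective {R S : Type*} [Semiring R] [Semiring S] (f : R →+* S)
    (hf : Function.Injective f) (p : Polynomial R) :
    (p.map f).natTrailingDegree = p.natTrailingDegree := by
  simp only [Polynomial.natTrailingDegree, Polynomial.trailingDegree,
    Polynomial.support_map_of_injective _ hf]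

section FieldBC
variable {K : Type*} [CommRing K] {K' : Type*} [CommRing K'] [Algebra K K']
variable {M : Type*} [LieRing M] [LieAlgebra K M]

/-- `ad` on the base change is the base change of `ad` (as linear families). -/
theorem ad_baseChange_eq :
    (LieAlgebra.ad K' (K' ⊗[K] M)).toLinearMap =
      LinearMap.tensorProduct K K' M M ∘ₗ (LieAlgebra.ad K M).toLinearMap.baseChange K' := by
  apply TensorProduct.AlgebraTensorModule.ext
  intro a x
  apply TensorProduct.AlgebraTensorModule.ext
  intro b y
  simp [LinearMap.tensorProduct, TensorProduct.smul_tmul']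


variable (K) in
theorem one_tmul_ad_pow (y z : M) (n : ℕ) :
    ((LieAlgebra.ad K' (K' ⊗[K] M) ((1 : K') ⊗ₜ[K] y)) ^ n) ((1 : K') ⊗ₜ[K] z) =
      (1 : K') ⊗ₜ[K] (((LieAlgebra.ad K M y) ^ n) z) := by
  induction n generalizing z with
  | zero => simp
  | succ n ih =>
    rw [pow_succ, Module.End.mul_apply, pow_succ, Module.End.mul_apply, ← ih]
    simp

variable [Module.Finite K M] [Module.Free K M] [Nontrivial K] [Nontrivial K']

open Polynomial in
theorem rank_baseChange (hinj : Function.Injective (algebraMap K K')) :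
    LieAlgebra.rank K' (K' ⊗[K] M) = LieAlgebra.rank K M := by
  classical
  let b := Module.Free.chooseBasis K M
  have h1 : LieAlgebra.rank K' (K' ⊗[K] M) =
      (LinearMap.polyCharpoly (LieAlgebra.ad K' (K' ⊗[K] M)).toLinearMap
        (Algebra.TensorProduct.basis K' b)).natTrailingDegree :=
    LinearMap.nilRank_eq_polyCharpoly_natTrailingDegree _ _
  have h2 : LieAlgebra.rank K M =
      (LinearMap.polyCharpoly (LieAlgebra.ad K M).toLinearMap b).natTrailingDegree :=
    LinearMap.nilRank_eq_polyCharpoly_natTrailingDegree _ _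
  rw [h1, h2, ad_baseChange_eq, LinearMap.polyCharpoly_baseChange]
  exact natTrailingDegree_map_of_injective _ (MvPolynomial.map_injective _ hinj) _

theorem isRegular_baseChange_iff (hinj : Function.Injective (algebraMap K K')) (x : M) :
    LieAlgebra.IsRegular K' ((1 : K') ⊗ₜ[K] x) ↔ LieAlgebra.IsRegular K x := by
  rw [LieAlgebra.isRegular_def, LieAlgebra.isRegular_def, rank_baseChange hinj]
  have : LieAlgebra.ad K' (K' ⊗[K] M) ((1 : K') ⊗ₜ[K] x) = (LieAlgebra.ad K M x).baseChange K' :=
    LieModule.toEnd_baseChange K K' M M x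
  rw [this, LinearMap.charpoly_baseChange, Polynomial.coeff_map]
  exact (map_ne_zero_iff _ hinj)

end FieldBC

section EngelNil
variable (K : Type*) [Field K] {M : Type*} [LieRing M] [LieAlgebra K M] [Module.Finite K M]

open LieSubalgebra LieAlgebra Cardinal Module in
theorem isNilpotent_engel_of_isRegular_of_finrank_le_card (h : finrank K M ≤ #K) (x : M)
    (hx : LieAlgebra.IsRegular K x) : LieRing.IsNilpotent (engel K x) := by
  apply isNilpotent_of_forall_le_engel
  intro y hy
  set Ex : {engel K z | z ∈ engel K x} := ⟨engel K x, x, self_mem_engel _ _, rfl⟩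
  suffices IsBot Ex from @this ⟨engel K y, y, hy, rfl⟩
  apply engel_isBot_of_isMin h (engel K x) Ex le_rfl
  rintro ⟨_, y, hy, rfl⟩ hyx
  suffices finrank K (engel K x) ≤ finrank K (engel K y) by
    suffices engel K y = engel K x from this.ge
    apply LieSubalgebra.toSubmodule_injective
    exact Submodule.eq_of_le_of_finrank_le hyx this
  rw [(isRegular_iff_finrank_engel_eq_rank K x).mp hx]
  apply rank_le_finrank_engel

open LieSubalgebra LieAlgebra Cardinal Module in
theorem isNilpotent_engel_of_isRegular (x : M)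
    (hx : LieAlgebra.IsRegular K x) : LieRing.IsNilpotent (engel K x) := by
  let K' := AlgebraicClosure K
  have hinj : Function.Injective (algebraMap K K') := (algebraMap K K').injective
  have hx' : LieAlgebra.IsRegular K' ((1 : K') ⊗ₜ[K] x) := (isRegular_baseChange_iff hinj x).mpr hx
  have hcard : finrank K' (K' ⊗[K] M) ≤ #K' :=
    natCast_le_aleph0.trans <| Cardinal.infinite_iff.mp inferInstance
  have hnil := isNilpotent_engel_of_isRegular_of_finrank_le_card K' hcard _ hx'
  obtain ⟨k, hk⟩ := LieAlgebra.nilpotent_ad_of_nilpotent_algebra K' (engel K' ((1 : K') ⊗ₜ[K] x))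
  have hmem : ∀ y ∈ engel K x, (1 : K') ⊗ₜ[K] y ∈ engel K' ((1 : K') ⊗ₜ[K] x) := by
    intro y hy
    rw [mem_engel_iff] at hy ⊢
    obtain ⟨n, hn⟩ := hy
    exact ⟨n, by rw [one_tmul_ad_pow, hn, TensorProduct.tmul_zero]⟩
  apply isNilpotent_of_forall_le_engel
  intro y hy z hz
  rw [mem_engel_iff]
  refine ⟨k, ?_⟩
  have h1 := hk ⟨_, hmem y hy⟩
  have h2 := congrArg (fun f => ((f ⟨_, hmem z hz⟩ : engel K' ((1 : K') ⊗ₜ[K] x)) : K' ⊗[K] M)) h1
  simp only [LieSubalgebra.coe_ad_pow, LinearMap.zero_apply, ZeroMemClass.coe_zero] at h2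
  rw [one_tmul_ad_pow] at h2
  have hinj2 := Module.FaithfullyFlat.tensorProduct_mk_injective (A := K) (B := K') M
  apply hinj2
  simpa using h2

end EngelNil

end Groth.Agent.Lib.Helper11.RC
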