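import Mathlib
import Groth.Agent.Lib.Helper11.RC1

set_option autoImplicit false
set_option linter.unusedSectionVars false
universe u
open scoped TensorProduct

namespace Groth.Agent.Lib.Helper11.RC

attribute [local instance 100] LieRing.ofAssociativeRing

section CartanReg
variable {K : Type*} [Field K] {M : Type*} [LieRing M] [LieAlgebra K M] [Module.Finite K M]

open LieSubalgebra Module Cardinal

/-- A nilpotent subalgebra lies in the Engel subalgebra of each of its elements. -/
theorem le_engel_of_isNilpotent (H : LieSubalgebra K M) [LieRing.IsNilpotent H] (x : M)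
    (hx : x ∈ H) : H ≤ engel K x := by
  obtain ⟨k, hk⟩ := LieAlgebra.nilpotent_ad_of_nilpotent_algebra K H
  intro y hy
  rw [mem_engel_iff]
  refine ⟨k, ?_⟩
  have h1 := LinearMap.congr_fun (hk ⟨x, hx⟩) ⟨y, hy⟩
  have h2 := congrArg (Subtype.val : H → M) h1
  rw [LieSubalgebra.coe_ad_pow] at h2
  simpa using h2

/-- The Engel subalgebra of `x₀ ∈ H`, as an `H`-submodule of `M`. -/
def engelSubmodule (H : LieSubalgebra K M) (x₀ : M) (hle : H ≤ engel K x₀) :
    LieSubmodule K H M :=
  { (engel K x₀).toSubmodule with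
    lie_mem := fun {y _} hm => (engel K x₀).lie_mem (hle y.2) hm }

theorem mem_engelSubmodule (H : LieSubalgebra K M) (x₀ : M) (hle : H ≤ engel K x₀) (m : M) :
    m ∈ engelSubmodule H x₀ hle ↔ m ∈ engel K x₀ := Iff.rfl

theorem toEnd_pow_engelSubmodule (H : LieSubalgebra K M) (x₀ : M) (hle : H ≤ engel K x₀)
    (y : H) (m : engelSubmodule H x₀ hle) (n : ℕ) :
    (((LieModule.toEnd K H (engelSubmodule H x₀ hle) y) ^ n) m : M) =
      ((LieAlgebra.ad K M (y : M)) ^ n) (m : M) := by
  induction n generalizing m with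
  | zero => simp
  | succ n ih =>
    rw [pow_succ, Module.End.mul_apply, ih, pow_succ, Module.End.mul_apply]
    rfl

/-- Barnes: a Cartan subalgebra (nilpotent, self-normalizing) of a finite-dimensional Lie algebra
over a large enough field is the Engel subalgebra of one of its elements. -/
theorem exists_engel_eq_of_isCartanSubalgebra (hcard : finrank K M ≤ #K) (H : LieSubalgebra K M)
    [H.IsCartanSubalgebra] : ∃ x ∈ H, engel K x = H := by
  classical
  -- choose `x₀ ∈ H` with `finrank (engel x₀)` minimal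
  have hne : ∃ n, ∃ x ∈ H, finrank K (engel K x) = n := ⟨_, 0, H.zero_mem, rfl⟩
  obtain ⟨x₀, hx₀, hfr⟩ := Nat.find_spec hne
  have hmin : ∀ y ∈ H, finrank K (engel K x₀) ≤ finrank K (engel K y) := by
    intro y hy
    rw [hfr]
    exact Nat.find_min' hne ⟨y, hy, rfl⟩
  have hle : H ≤ engel K x₀ := le_engel_of_isNilpotent H x₀ hx₀
  set E : {engel K x | x ∈ H} := ⟨engel K x₀, x₀, hx₀, rfl⟩ with hE
  have hbot : IsBot E := by
    apply LieAlgebra.engel_isBot_of_isMin hcard H E hle
    rintro ⟨_, y, hy, rfl⟩ hyx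
    suffices engel K y = engel K x₀ from this.ge
    apply LieSubalgebra.toSubmodule_injective
    exact Submodule.eq_of_le_of_finrank_le hyx (hmin y hy)
  have hall : ∀ y ∈ H, engel K x₀ ≤ engel K y := fun y hy => @hbot ⟨engel K y, y, hy, rfl⟩
  refine ⟨x₀, hx₀, le_antisymm ?_ hle⟩
  -- Engel's theorem on the `H`-module `engel x₀`
  have hnil : LieModule.IsNilpotent H (engelSubmodule H x₀ hle) := by
    rw [LieModule.isNilpotent_iff_forall (R := K)]
    intro y
    rw [Module.End.isNilpotent_iff_of_finite]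
    intro m
    have hm : (m : M) ∈ engel K (y : M) := hall y y.2 m.2
    rw [mem_engel_iff] at hm
    obtain ⟨n, hn⟩ := hm
    refine ⟨n, ?_⟩
    apply Subtype.ext
    rw [toEnd_pow_engelSubmodule, hn]
    rfl
  obtain ⟨k, hk⟩ := (LieSubmodule.isNilpotent_iff_exists_self_le_ucs
    (engelSubmodule H x₀ hle)).mp hnil
  have h2 := LieSubmodule.ucs_le_of_normalizer_eq_self
    H.normalizer_eq_self_of_isCartanSubalgebra k
  intro m hm
  exact h2 (hk hm)

end CartanReg

end Groth.Agent.Lib.Helper11.RC
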