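import Mathlib

set_option autoImplicit false
universe u
open scoped TensorProduct

namespace Groth.Agent.Lib.Helper11.RC

section Fibrewise
variable {A : Type u} [CommRing A]
variable {P : Type*} [AddCommGroup P] [Module A P]
variable {P' : Type*} [AddCommGroup P'] [Module A P']

/-- If `φ` is surjective on all fibres over `D(f)` then `f^n • P' ⊆ range φ`. -/
theorem exists_pow_smul_mem_range_of_fibrewise [Module.Finite A P'] (φ : P →ₗ[A] P') (f : A)
    (h : ∀ p : PrimeSpectrum A, f ∉ p.asIdeal →
      Function.Surjective (φ.baseChange p.asIdeal.ResidueField)) :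
    ∃ n : ℕ, ∀ y : P', f ^ n • y ∈ LinearMap.range φ := by
  set R := LinearMap.range φ with hR
  have hsupp : Module.support A (P' ⧸ R) ⊆ PrimeSpectrum.zeroLocus {f} := by
    intro p hp
    rw [Module.mem_support_iff_nontrivial_residueField_tensorProduct] at hp
    by_contra hfp
    have hfp' : f ∉ p.asIdeal := by
      intro hf
      apply hfp
      rw [PrimeSpectrum.mem_zeroLocus]
      simpa using hf
    have hs := h p hfp'
    apply not_subsingleton_iff_nontrivial.mpr hp
    have hsurj : Function.Surjective (R.mkQ.baseChange p.asIdeal.ResidueField) := by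
      rw [LinearMap.baseChange_eq_ltensor]
      exact LinearMap.lTensor_surjective _ (Submodule.mkQ_surjective R)
    refine ⟨fun x y => ?_⟩
    have key : ∀ z : p.asIdeal.ResidueField ⊗[A] (P' ⧸ R), z = 0 := by
      intro z
      obtain ⟨w, rfl⟩ := hsurj z
      obtain ⟨v, rfl⟩ := hs w
      rw [← LinearMap.comp_apply, ← LinearMap.baseChange_comp]
      have : R.mkQ ∘ₗ φ = 0 := by
        ext x
        simp [hR]
      rw [this, LinearMap.baseChange_zero, LinearMap.zero_apply]
    rw [key x, key y]
  rw [Module.support_eq_zeroLocus, ← PrimeSpectrum.zeroLocus_span {f},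
    PrimeSpectrum.zeroLocus_subset_zeroLocus_iff] at hsupp
  have hf : f ∈ (Module.annihilator A (P' ⧸ R)).radical :=
    hsupp (Ideal.subset_span (Set.mem_singleton f))
  obtain ⟨n, hn⟩ := hf
  refine ⟨n, fun y => ?_⟩
  have := Module.mem_annihilator.mp hn (R.mkQ y)
  rw [← map_smul, Submodule.mkQ_apply, Submodule.Quotient.mk_eq_zero] at this
  exact this

theorem surjective_of_fibrewise [Module.Finite A P'] (φ : P →ₗ[A] P')
    (h : ∀ p : PrimeSpectrum A, Function.Surjective (φ.baseChange p.asIdeal.ResidueField)) :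
    Function.Surjective φ := by
  obtain ⟨n, hn⟩ := exists_pow_smul_mem_range_of_fibrewise φ 1 (fun p _ => h p)
  intro y
  have := hn y
  rw [one_pow, one_smul] at this
  exact this

theorem bijective_of_fibrewise [Module.Finite A P] (φ : P →ₗ[A] P)
    (h : ∀ p : PrimeSpectrum A, Function.Surjective (φ.baseChange p.asIdeal.ResidueField)) :
    Function.Bijective φ :=
  OrzechProperty.bijective_of_surjective_endomorphism φ (surjective_of_fibrewise φ h)

theorem localizedMap_pow (S : Submonoid A) (ψ : P →ₗ[A] P) (k : ℕ) (z : P) (s : S) :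
    ((LocalizedModule.map S ψ) ^ k) (LocalizedModule.mk z s) = LocalizedModule.mk ((ψ ^ k) z) s := by
  induction k generalizing z with
  | zero => simp
  | succ k ih =>
    rw [pow_succ, Module.End.mul_apply, LocalizedModule.map_mk, ih, pow_succ, Module.End.mul_apply]

/-- If `f^n • P ⊆ range ψ` for an endomorphism of a finite module, then elements killed by a
power of `ψ` are killed by a power of `f`. -/
theorem exists_pow_smul_eq_zero_of_pow_apply_eq_zero [Module.Finite A P] (ψ : P →ₗ[A] P) (f : A)
    (n : ℕ) (h : ∀ y : P, f ^ n • y ∈ LinearMap.range ψ) (z : P) (k : ℕ) (hz : (ψ ^ k) z = 0) :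
    ∃ m : ℕ, f ^ m • z = 0 := by
  let S := Submonoid.powers f
  have hsurj : Function.Surjective (LocalizedModule.map S ψ) := by
    intro x
    induction x using LocalizedModule.induction_on with
    | h y s =>
      obtain ⟨w, hw⟩ := h y
      refine ⟨LocalizedModule.mk w (s * ⟨f ^ n, n, rfl⟩), ?_⟩
      rw [LocalizedModule.map_mk, hw, LocalizedModule.mk_eq]
      refine ⟨1, ?_⟩
      simp only [one_smul, Submonoid.smul_def, Submonoid.coe_mul, smul_smul]
  have hinj : Function.Injective (LocalizedModule.map S ψ) :=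
    OrzechProperty.injective_of_surjective_endomorphism _ hsurj
  have hinjk : Function.Injective ((LocalizedModule.map S ψ) ^ k) := by
    rw [Module.End.coe_pow]
    exact hinj.iterate k
  have h0 : ((LocalizedModule.map S ψ) ^ k) (LocalizedModule.mk z (1 : S)) = 0 := by
    rw [localizedMap_pow, hz, LocalizedModule.zero_mk]
  have h1 : LocalizedModule.mk z (1 : S) = 0 := hinjk (by rw [h0, map_zero])
  rw [← LocalizedModule.zero_mk (1 : S), LocalizedModule.mk_eq] at h1
  obtain ⟨⟨_, m, rfl⟩, hm⟩ := h1
  refine ⟨m, ?_⟩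
  simpa [Submonoid.smul_def] using hm

/-- An element of a finite projective module that vanishes in all fibres has nilpotent
coordinates w.r.t. any linear functional. -/
theorem isNilpotent_apply_of_fibrewise_zero (x : P)
    (hx : ∀ p : PrimeSpectrum A, (1 : p.asIdeal.ResidueField) ⊗ₜ[A] x = 0) (ℓ : P →ₗ[A] A) :
    IsNilpotent (ℓ x) := by
  rw [← mem_nilradical, nilradical_eq_sInf, Ideal.mem_sInf]
  intro I hI
  have : I.IsPrime := hI
  let p : PrimeSpectrum A := ⟨I, hI⟩
  have h1 := congrArg (ℓ.baseChange p.asIdeal.ResidueField) (hx p)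
  rw [LinearMap.baseChange_tmul, map_zero] at h1
  have h2 := congrArg (TensorProduct.rid A p.asIdeal.ResidueField) h1
  rw [TensorProduct.rid_tmul, map_zero, Algebra.smul_def, mul_one] at h2
  exact (Ideal.algebraMap_residueField_eq_zero (I := I)).mp h2

theorem isNilpotent_of_fibrewise [Module.Finite A P] [Module.Projective A P] (φ : P →ₗ[A] P)
    (h : ∀ p : PrimeSpectrum A, IsNilpotent (φ.baseChange p.asIdeal.ResidueField)) :
    IsNilpotent φ := by
  classical
  obtain ⟨n, f, g, hf, hg, hfg⟩ := Module.Finite.exists_comp_eq_id_of_projective A P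
  have hfg' : ∀ x, f (g x) = x := fun x => LinearMap.congr_fun hfg x
  have h1 : ∀ p : PrimeSpectrum A, (φ ^ n).baseChange p.asIdeal.ResidueField = 0 := by
    intro p
    rw [LinearMap.baseChange_pow]
    have hle : Module.finrank p.asIdeal.ResidueField (p.asIdeal.ResidueField ⊗[A] P) ≤ n := by
      have hs : Function.Surjective (f.baseChange p.asIdeal.ResidueField) := by
        rw [LinearMap.baseChange_eq_ltensor]; exact LinearMap.lTensor_surjective _ hf
      have := LinearMap.finrank_le_finrank_of_surjective hs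
      rw [(TensorProduct.piScalarRight A p.asIdeal.ResidueField p.asIdeal.ResidueField
        (Fin n)).finrank_eq, Module.finrank_fin_fun] at this
      exact this
    have h2 := (h p).charpoly_eq_X_pow_finrank
    have h3 : (φ.baseChange p.asIdeal.ResidueField) ^
        (Module.finrank p.asIdeal.ResidueField (p.asIdeal.ResidueField ⊗[A] P)) = 0 := by
      simpa [h2] using LinearMap.aeval_self_charpoly (φ.baseChange p.asIdeal.ResidueField)
    exact pow_eq_zero_of_le hle h3
  set ψ := φ ^ n with hψ
  have hψ0 : ∀ (x : P) (p : PrimeSpectrum A), (1 : p.asIdeal.ResidueField) ⊗ₜ[A] (ψ x) = 0 := by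
    intro x p
    have := LinearMap.congr_fun (h1 p) ((1 : p.asIdeal.ResidueField) ⊗ₜ[A] x)
    simpa using this
  let c : Fin n → Fin n → A := fun i j => g (ψ (f (Pi.single j 1))) i
  have hc : ∀ i j, IsNilpotent (c i j) := fun i j =>
    isNilpotent_apply_of_fibrewise_zero _ (hψ0 _) ((LinearMap.proj i) ∘ₗ g)
  let J : Ideal A := Ideal.span (Set.range (Function.uncurry c))
  have hJfg : J.FG := by
    refine ⟨(Finset.univ : Finset (Fin n × Fin n)).image (Function.uncurry c), ?_⟩
    simp [J]
  have hJnil : IsNilpotent J := by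
    rw [hJfg.isNilpotent_iff_le_nilradical]
    apply Ideal.span_le.mpr
    rintro _ ⟨⟨i, j⟩, rfl⟩
    exact hc i j
  obtain ⟨k, hk⟩ := hJnil
  have hψJ : ∀ x : P, ψ x ∈ J • (⊤ : Submodule A P) := by
    intro x
    have hx : x = ∑ j, (g x j) • f (Pi.single j 1) := by
      conv_lhs => rw [← hfg' x, pi_eq_sum_univ' (g x)]
      simp only [map_sum, map_smul]
    have hψx : ψ x = ∑ i, (g (ψ x) i) • f (Pi.single i 1) := by
      conv_lhs => rw [← hfg' (ψ x), pi_eq_sum_univ' (g (ψ x))]
      simp only [map_sum, map_smul]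
    rw [hψx]
    refine Submodule.sum_mem _ fun i _ => Submodule.smul_mem_smul ?_ Submodule.mem_top
    have : g (ψ x) i = ∑ j, g x j * c i j := by
      conv_lhs => rw [hx]
      simp only [map_sum, map_smul, Finset.sum_apply, Pi.smul_apply, smul_eq_mul, c]
    rw [this]
    refine Ideal.sum_mem _ fun j _ => Ideal.mul_mem_left _ _ (Ideal.subset_span ⟨(i, j), rfl⟩)
  have hpow : ∀ m : ℕ, ∀ x : P, (ψ ^ m) x ∈ (J ^ m) • (⊤ : Submodule A P) := by
    intro m
    induction m with
    | zero => intro x; simp
    | succ m ih =>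
      intro x
      rw [pow_succ' ψ, Module.End.mul_apply, pow_succ' J]
      have h2 : (J ^ m • (⊤ : Submodule A P)).map ψ ≤ (J * J ^ m) • (⊤ : Submodule A P) := by
        rw [Submodule.map_smul'', mul_comm, mul_smul]
        refine Submodule.smul_mono le_rfl ?_
        rintro _ ⟨y, -, rfl⟩
        exact hψJ y
      exact h2 ⟨_, ih x, rfl⟩
  refine ⟨n * k, ?_⟩
  ext x
  have := hpow k x
  rw [hk, Submodule.zero_eq_bot, Submodule.bot_smul, Submodule.mem_bot] at this
  rw [pow_mul, ← hψ, this, LinearMap.zero_apply]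

end Fibrewise

end Groth.Agent.Lib.Helper11.RC
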