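import Mathlib
import Groth.Prelude.Def_W4sga3xiixivxvCartan
import Groth.Agent.Lib.Helper11.RC1
import Groth.Agent.Lib.Helper11.RC2

set_option autoImplicit false
universe u
open scoped TensorProduct

namespace Groth.Agent.Lib.Helper11.RC

attribute [local instance 100] LieRing.ofAssociativeRing

section General

/-- Nilpotency transfers along injective bracket-preserving additive maps. -/
theorem isNilpotent_of_injective {L₁ L₂ : Type*} [LieRing L₁] [LieRing L₂] (f : L₁ →+ L₂)
    (hf : ∀ x y, f ⁅x, y⁆ = ⁅f x, f y⁆) (hinj : Function.Injective f)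
    [LieRing.IsNilpotent L₂] : LieRing.IsNilpotent L₁ := by
  let F : L₁ →ₗ⁅ℤ⁆ L₂ := { f.toIntLinearMap with map_lie' := fun {x y} => hf x y }
  exact Function.Injective.lieAlgebra_isNilpotent (f := F) hinj

theorem lie_mem_engel_iff (K : Type*) [CommRing K] {M : Type*} [LieRing M] [LieAlgebra K M]
    (x z : M) :
    ⁅x, z⁆ ∈ LieSubalgebra.engel K x ↔ z ∈ LieSubalgebra.engel K x := by
  constructor
  · intro h
    rw [LieSubalgebra.mem_engel_iff] at h ⊢
    obtain ⟨n, hn⟩ := h
    exact ⟨n + 1, by rw [pow_succ, Module.End.mul_apply]; exact hn⟩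
  · intro h
    exact (LieSubalgebra.engel K x).lie_mem (LieSubalgebra.self_mem_engel K x) h

variable (K : Type*) [Field K] {M : Type*} [LieRing M] [LieAlgebra K M]

theorem exists_lie_sub_mem_engel [Module.Finite K M] (x z : M) :
    ∃ w, ⁅x, w⁆ - z ∈ LieSubalgebra.engel K x := by
  set E := (LieSubalgebra.engel K x).toSubmodule with hE
  have hst : E ≤ E.comap (LieAlgebra.ad K M x) := by
    intro y hy
    exact (lie_mem_engel_iff K x y).mpr hy
  let D := E.mapQ E (LieAlgebra.ad K M x) hst
  have hinj : Function.Injective D := by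
    rw [← LinearMap.ker_eq_bot, eq_bot_iff]
    intro y hy
    obtain ⟨y, rfl⟩ := Submodule.mkQ_surjective E y
    rw [LinearMap.mem_ker, Submodule.mkQ_apply, Submodule.mapQ_apply,
      Submodule.Quotient.mk_eq_zero] at hy
    rw [Submodule.mem_bot, Submodule.mkQ_apply, Submodule.Quotient.mk_eq_zero]
    exact (lie_mem_engel_iff K x y).mp hy
  have hsurj : Function.Surjective D := LinearMap.injective_iff_surjective.mp hinj
  obtain ⟨w, hw⟩ := hsurj (E.mkQ z)
  obtain ⟨w, rfl⟩ := Submodule.mkQ_surjective E w
  refine ⟨w, ?_⟩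
  rw [Submodule.mkQ_apply, Submodule.mapQ_apply, Submodule.mkQ_apply, ← sub_eq_zero, ← Submodule.Quotient.mk_sub,
    Submodule.Quotient.mk_eq_zero] at hw
  exact hw

end General

section ModuleBC
variable {A : Type*} [CommRing A] {L : Type*} [AddCommGroup L] [Module A L]
variable (B : Type*) [CommRing B] [Algebra A B]

/-- Base change of `0 → N → L → L/N → 0` is exact in the middle. -/
theorem ker_mkQ_baseChange (N : Submodule A L) :
    LinearMap.ker (N.mkQ.baseChange B) = N.baseChange B := by
  have hex : Function.Exact (N.subtype.baseChange B) (N.mkQ.baseChange B) := by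
    rw [LinearMap.baseChange_eq_ltensor, LinearMap.baseChange_eq_ltensor]
    exact lTensor_exact B (LinearMap.exact_subtype_mkQ N) (Submodule.mkQ_surjective N)
  rw [LinearMap.exact_iff] at hex
  rw [hex, Submodule.baseChange]

theorem mkQ_baseChange_surjective (N : Submodule A L) :
    Function.Surjective (N.mkQ.baseChange B) := by
  rw [LinearMap.baseChange_eq_ltensor]
  exact LinearMap.lTensor_surjective _ (Submodule.mkQ_surjective N)

theorem mapQ_baseChange_comm (N : Submodule A L) (D : L →ₗ[A] L) (hD : N ≤ N.comap D)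
    (z : B ⊗[A] L) :
    (N.mapQ N D hD).baseChange B (N.mkQ.baseChange B z) = N.mkQ.baseChange B (D.baseChange B z) := by
  rw [← LinearMap.comp_apply, ← LinearMap.comp_apply, ← LinearMap.baseChange_comp,
    ← LinearMap.baseChange_comp]
  congr 2

theorem mapQ_baseChange_pow_comm (N : Submodule A L) (D : L →ₗ[A] L) (hD : N ≤ N.comap D)
    (k : ℕ) (z : B ⊗[A] L) :
    (((N.mapQ N D hD).baseChange B) ^ k) (N.mkQ.baseChange B z) =
      N.mkQ.baseChange B (((D.baseChange B) ^ k) z) := by
  induction k generalizing z with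
  | zero => simp
  | succ k ih =>
    rw [pow_succ, Module.End.mul_apply, mapQ_baseChange_comm, ih, pow_succ, Module.End.mul_apply]

/-- If `D` is "surjective modulo `N`" on the base change, the quotient map is surjective there. -/
theorem mapQ_baseChange_surjective (N : Submodule A L) (D : L →ₗ[A] L) (hD : N ≤ N.comap D)
    (h : ∀ z : B ⊗[A] L, ∃ w, D.baseChange B w - z ∈ N.baseChange B) :
    Function.Surjective ((N.mapQ N D hD).baseChange B) := by
  intro q
  obtain ⟨z, rfl⟩ := mkQ_baseChange_surjective B N q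
  obtain ⟨w, hw⟩ := h z
  refine ⟨N.mkQ.baseChange B w, ?_⟩
  rw [mapQ_baseChange_comm]
  rw [← ker_mkQ_baseChange, LinearMap.mem_ker, map_sub, sub_eq_zero] at hw
  exact hw

/-- Retraction onto a submodule with projective quotient. -/
theorem exists_retraction (N : Submodule A L) [Module.Projective A (L ⧸ N)] :
    ∃ r : L →ₗ[A] N, ∀ x : N, r x = x := by
  obtain ⟨s, hs⟩ := Module.projective_lifting_property N.mkQ LinearMap.id
    (Submodule.mkQ_surjective N)
  have hs' : ∀ q, N.mkQ (s q) = q := fun q => LinearMap.congr_fun hs q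
  have hmem : ∀ x : L, ((LinearMap.id : L →ₗ[A] L) - s ∘ₗ N.mkQ) x ∈ N := by
    intro x
    rw [← Submodule.Quotient.mk_eq_zero, ← Submodule.mkQ_apply, LinearMap.sub_apply, map_sub,
      LinearMap.id_apply, LinearMap.comp_apply, hs', sub_self]
  refine ⟨LinearMap.codRestrict N _ hmem, fun x => ?_⟩
  apply Subtype.ext
  rw [LinearMap.codRestrict_apply, LinearMap.sub_apply, LinearMap.id_apply, LinearMap.comp_apply]
  have : N.mkQ (x : L) = 0 := by
    rw [Submodule.mkQ_apply, Submodule.Quotient.mk_eq_zero]; exact x.2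
  rw [this, map_zero, sub_zero]

theorem subtype_baseChange_injective (N : Submodule A L) [Module.Projective A (L ⧸ N)] :
    Function.Injective (N.subtype.baseChange B) := by
  obtain ⟨r, hr⟩ := exists_retraction N
  have : (r.baseChange B) ∘ₗ (N.subtype.baseChange B) = LinearMap.id := by
    rw [← LinearMap.baseChange_comp]
    have : r ∘ₗ N.subtype = LinearMap.id := by
      ext x; simp [hr]
    rw [this, LinearMap.baseChange_id]
  exact Function.LeftInverse.injective (g := r.baseChange B) (fun x => LinearMap.congr_fun this x)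

theorem finite_of_projective_quotient [Module.Finite A L] (N : Submodule A L)
    [Module.Projective A (L ⧸ N)] : Module.Finite A N := by
  obtain ⟨r, hr⟩ := exists_retraction N
  exact Module.Finite.of_surjective r (fun x => ⟨x, hr x⟩)

theorem projective_of_projective_quotient [Module.Projective A L] (N : Submodule A L)
    [Module.Projective A (L ⧸ N)] : Module.Projective A N := by
  obtain ⟨r, hr⟩ := exists_retraction N
  exact Module.Projective.of_split N.subtype r (by ext x; simp [hr])

end ModuleBC

section Rel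
open SGA3t2b
variable {A : Type u} [CommRing A] {L : Type u} [LieRing L] [LieAlgebra A L]

theorem ad_fibre (B : Type*) [CommRing B] [Algebra A B] (a : L) :
    LieAlgebra.ad B (B ⊗[A] L) ((1 : B) ⊗ₜ[A] a) = (LieAlgebra.ad A L a).baseChange B :=
  LieModule.toEnd_baseChange A B L L a

theorem one_tmul_mem_engel (B : Type*) [CommRing B] [Algebra A B] {a x : L}
    (hx : x ∈ LieSubalgebra.engel A a) :
    (1 : B) ⊗ₜ[A] x ∈ LieSubalgebra.engel B ((1 : B) ⊗ₜ[A] a) := by
  rw [LieSubalgebra.mem_engel_iff] at hx ⊢
  obtain ⟨n, hn⟩ := hx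
  exact ⟨n, by rw [one_tmul_ad_pow, hn, TensorProduct.tmul_zero]⟩

theorem baseChange_le_engel (B : Type*) [CommRing B] [Algebra A B] {H : LieSubalgebra A L} {a : L}
    (h : H ≤ LieSubalgebra.engel A a) :
    H.toSubmodule.baseChange B ≤ (LieSubalgebra.engel B ((1 : B) ⊗ₜ[A] a)).toSubmodule := by
  rw [Submodule.baseChange_eq_span, Submodule.span_le]
  rintro _ ⟨x, hx, rfl⟩
  exact one_tmul_mem_engel B (h hx)

/-- `ad a` restricted to a subalgebra containing `a`. -/
noncomputable def adRestrict (H : LieSubalgebra A L) (a : L) (ha : a ∈ H) : H →ₗ[A] H :=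
  (LieAlgebra.ad A L a).restrict (p := H.toSubmodule) (q := H.toSubmodule)
    (fun _ hx => H.lie_mem ha hx)

theorem adRestrict_eq (H : LieSubalgebra A L) (a : L) (ha : a ∈ H) :
    adRestrict H a ha = LieAlgebra.ad A H ⟨a, ha⟩ := by
  ext x
  rfl

theorem le_engel_of_fibrewise_nilpotent [Module.Finite A L] [Module.Projective A L]
    (H : LieSubalgebra A L) (hproj : Module.Projective A (L ⧸ H.toSubmodule))
    (hnil : ∀ p : PrimeSpectrum A, LieRing.IsNilpotent (p.asIdeal.ResidueField ⊗[A] H))
    (a : L) (ha : a ∈ H) : H ≤ LieSubalgebra.engel A a := by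
  have : Module.Finite A H.toSubmodule := finite_of_projective_quotient H.toSubmodule
  have : Module.Projective A H.toSubmodule := projective_of_projective_quotient H.toSubmodule
  have h1 : IsNilpotent (adRestrict H a ha) := by
    apply isNilpotent_of_fibrewise (P := H.toSubmodule)
    intro p
    have := hnil p
    rw [adRestrict_eq, ← ad_fibre (L := H) p.asIdeal.ResidueField ⟨a, ha⟩]
    exact LieModule.isNilpotent_toEnd_of_isNilpotent p.asIdeal.ResidueField
      (p.asIdeal.ResidueField ⊗[A] H) (p.asIdeal.ResidueField ⊗[A] H) _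
  obtain ⟨k, hk⟩ := h1
  intro x hx
  rw [LieSubalgebra.mem_engel_iff]
  refine ⟨k, ?_⟩
  have h2 := LinearMap.congr_fun hk ⟨x, hx⟩
  rw [adRestrict, Module.End.pow_restrict, LinearMap.restrict_apply] at h2
  exact congrArg Subtype.val h2

theorem mapQ_pow_mk {M : Type*} [AddCommGroup M] [Module A M] (N : Submodule A M)
    (D : M →ₗ[A] M) (hD : N ≤ N.comap D) (k : ℕ) (x : M) :
    ((N.mapQ N D hD) ^ k) (N.mkQ x) = N.mkQ ((D ^ k) x) := by
  rw [← Submodule.mapQ_pow N hD k]
  rfl

theorem fibreSubmodule_eq_engel [Module.Finite A L] (H : LieSubalgebra A L) (a : L)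
    (hle : H ≤ LieSubalgebra.engel A a) (p : PrimeSpectrum A)
    (hrank : Module.finrank p.asIdeal.ResidueField (fibreSubmodule p H) =
      LieAlgebra.rank p.asIdeal.ResidueField (p.asIdeal.ResidueField ⊗[A] L))
    (hreg : LieAlgebra.IsRegular p.asIdeal.ResidueField ((1 : p.asIdeal.ResidueField) ⊗ₜ[A] a)) :
    fibreSubmodule p H =
      (LieSubalgebra.engel p.asIdeal.ResidueField
        ((1 : p.asIdeal.ResidueField) ⊗ₜ[A] a)).toSubmodule := by
  apply Submodule.eq_of_le_of_finrank_le (baseChange_le_engel _ hle)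
  rw [hrank]
  exact ((LieAlgebra.isRegular_iff_finrank_engel_eq_rank p.asIdeal.ResidueField _).mp hreg).le

theorem ad_stable (H : LieSubalgebra A L) {a : L} (ha : a ∈ H) :
    H.toSubmodule ≤ H.toSubmodule.comap (LieAlgebra.ad A L a) :=
  fun _ hx => H.lie_mem ha hx

/-- The endomorphism of `L ⧸ H` induced by `ad a`, `a ∈ H`. -/
noncomputable def adQuot (H : LieSubalgebra A L) (a : L) (ha : a ∈ H) :
    (L ⧸ H.toSubmodule) →ₗ[A] (L ⧸ H.toSubmodule) :=
  H.toSubmodule.mapQ H.toSubmodule (LieAlgebra.ad A L a) (ad_stable H ha)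

theorem adQuot_baseChange_surjective [Module.Finite A L] (H : LieSubalgebra A L) (a : L)
    (ha : a ∈ H) (p : PrimeSpectrum A)
    (heq : fibreSubmodule p H =
      (LieSubalgebra.engel p.asIdeal.ResidueField
        ((1 : p.asIdeal.ResidueField) ⊗ₜ[A] a)).toSubmodule) :
    Function.Surjective ((adQuot H a ha).baseChange p.asIdeal.ResidueField) := by
  apply mapQ_baseChange_surjective
  intro z
  obtain ⟨w, hw⟩ := exists_lie_sub_mem_engel p.asIdeal.ResidueField
    ((1 : p.asIdeal.ResidueField) ⊗ₜ[A] a) z
  refine ⟨w, ?_⟩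
  change _ ∈ fibreSubmodule p H
  rw [heq, ← ad_fibre]
  exact hw

theorem engel_le_of_adQuot_injective (H : LieSubalgebra A L) (a : L) (ha : a ∈ H)
    (hinj : Function.Injective (adQuot H a ha)) : LieSubalgebra.engel A a ≤ H := by
  intro x hx
  rw [LieSubalgebra.mem_engel_iff] at hx
  obtain ⟨k, hk⟩ := hx
  have h1 : ((adQuot H a ha) ^ k) (H.toSubmodule.mkQ x) = 0 := by
    rw [adQuot, mapQ_pow_mk, hk, map_zero]
  have hinjk : Function.Injective ((adQuot H a ha) ^ k) := by
    rw [Module.End.coe_pow]
    exact hinj.iterate k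
  have h2 : H.toSubmodule.mkQ x = 0 := hinjk (by rw [h1, map_zero])
  rw [Submodule.mkQ_apply, Submodule.Quotient.mk_eq_zero] at h2
  exact h2

/-- S8372, first half. -/
theorem eq_engel_of_isCartanRel [Module.Finite A L] [Module.Projective A L]
    (a : L) (ha : IsQuasiRegular A L a) (H : LieSubalgebra A L) (hH : IsCartanRel H)
    (haH : a ∈ H) : H = LieSubalgebra.engel A a := by
  have hle : H ≤ LieSubalgebra.engel A a :=
    le_engel_of_fibrewise_nilpotent H hH.1 (fun p => (hH.2 p).1) a haH
  refine le_antisymm hle ?_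
  apply engel_le_of_adQuot_injective H a haH
  refine (bijective_of_fibrewise _ fun p => ?_).1
  exact adQuot_baseChange_surjective H a haH p
    (fibreSubmodule_eq_engel H a hle p (hH.2 p).2.2 (ha p))

theorem adQuot_surjective_of_isCartanRel [Module.Finite A L] [Module.Projective A L]
    (a : L) (ha : IsQuasiRegular A L a) (H : LieSubalgebra A L) (hH : IsCartanRel H)
    (haH : a ∈ H) : Function.Surjective (adQuot H a haH) := by
  have hle : H ≤ LieSubalgebra.engel A a :=
    le_engel_of_fibrewise_nilpotent H hH.1 (fun p => (hH.2 p).1) a haH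
  refine (bijective_of_fibrewise _ fun p => ?_).2
  exact adQuot_baseChange_surjective H a haH p
    (fibreSubmodule_eq_engel H a hle p (hH.2 p).2.2 (ha p))

theorem baseChange_injective_of_bijective {M : Type*} [AddCommGroup M] [Module A M]
    (B : Type*) [CommRing B] [Algebra A B] (ψ : M →ₗ[A] M) (hψ : Function.Bijective ψ) :
    Function.Injective (ψ.baseChange B) := by
  let e := LinearEquiv.ofBijective ψ hψ
  have : (e.symm.toLinearMap.baseChange B) ∘ₗ (ψ.baseChange B) = LinearMap.id := by
    rw [← LinearMap.baseChange_comp]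
    have : e.symm.toLinearMap ∘ₗ ψ = LinearMap.id := by
      ext x
      exact e.symm_apply_apply x
    rw [this, LinearMap.baseChange_id]
  exact Function.LeftInverse.injective (g := e.symm.toLinearMap.baseChange B)
    (fun x => LinearMap.congr_fun this x)

/-- If `ad a` is bijective on `L ⧸ H`, the fibre Engel subalgebra lies in the fibre of `H`. -/
theorem engel_fibre_le_of_adQuot_bijective (B : Type*) [CommRing B] [Algebra A B]
    (H : LieSubalgebra A L) (a : L) (ha : a ∈ H)
    (hbij : Function.Bijective (adQuot H a ha)) :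
    (LieSubalgebra.engel B ((1 : B) ⊗ₜ[A] a)).toSubmodule ≤ H.toSubmodule.baseChange B := by
  intro z hz
  rw [LieSubalgebra.mem_toSubmodule, LieSubalgebra.mem_engel_iff] at hz
  obtain ⟨k, hk⟩ := hz
  rw [ad_fibre] at hk
  have hinj := baseChange_injective_of_bijective B _ hbij
  have hinjk : Function.Injective (((adQuot H a ha).baseChange B) ^ k) := by
    rw [Module.End.coe_pow]
    exact hinj.iterate k
  have h1 : (((adQuot H a ha).baseChange B) ^ k) (H.toSubmodule.mkQ.baseChange B z) = 0 := by
    rw [adQuot, mapQ_baseChange_pow_comm, hk, map_zero]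
  have h2 : H.toSubmodule.mkQ.baseChange B z = 0 := hinjk (by rw [h1, map_zero])
  rw [← ker_mkQ_baseChange]
  exact h2

theorem extendScalars_incl_eq (B : Type*) [CommRing B] [Algebra A B] (H : LieSubalgebra A L)
    (x : B ⊗[A] H) :
    LieAlgebra.ExtendScalars.map (AlgHom.id A B) H.incl x = H.toSubmodule.subtype.baseChange B x := by
  induction x using TensorProduct.induction_on with
  | zero => simp
  | tmul b h => rfl
  | add x y hx hy => rw [map_add, map_add, hx, hy]

/-- If the fibre of `H` is contained in a nilpotent Lie subalgebra, then `B ⊗ H` is a nilpotent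
Lie ring (when `L ⧸ H` is projective). -/
theorem isNilpotent_baseChange_of_le (B : Type*) [CommRing B] [Algebra A B] (H : LieSubalgebra A L)
    [Module.Projective A (L ⧸ H.toSubmodule)] (E : LieSubalgebra B (B ⊗[A] L))
    [LieRing.IsNilpotent E] (hle : H.toSubmodule.baseChange B ≤ E.toSubmodule) :
    LieRing.IsNilpotent (B ⊗[A] H) := by
  let j := LieAlgebra.ExtendScalars.map (AlgHom.id A B) H.incl
  have hj : ∀ x, j x ∈ E := by
    intro x
    apply hle
    rw [extendScalars_incl_eq]
    exact ⟨x, rfl⟩
  let f : B ⊗[A] H →+ E :=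
    { toFun := fun x => ⟨j x, hj x⟩
      map_zero' := by ext; simp
      map_add' := fun x y => by ext; simp }
  apply isNilpotent_of_injective f
  · intro x y
    apply Subtype.ext
    change j ⁅x, y⁆ = ⁅j x, j y⁆
    exact LieHom.map_lie j x y
  · intro x y hxy
    have h1 : j x = j y := congrArg Subtype.val hxy
    rw [extendScalars_incl_eq, extendScalars_incl_eq] at h1
    exact subtype_baseChange_injective B H.toSubmodule h1

/-- S8372, the "if" direction of the second half. -/
theorem isCartanRel_engel [Module.Finite A L] (a : L) (ha : IsQuasiRegular A L a)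
    (hproj : Module.Projective A (L ⧸ (LieSubalgebra.engel A a).toSubmodule))
    (hsurj : ∀ y : L, ∃ z : L, ⁅a, z⁆ - y ∈ LieSubalgebra.engel A a) :
    IsCartanRel (LieSubalgebra.engel A a) := by
  have haE := LieSubalgebra.self_mem_engel A a
  have hs : Function.Surjective (adQuot (LieSubalgebra.engel A a) a haE) := by
    intro q
    obtain ⟨y, rfl⟩ := Submodule.mkQ_surjective _ q
    obtain ⟨z, hz⟩ := hsurj y
    refine ⟨(LieSubalgebra.engel A a).toSubmodule.mkQ z, ?_⟩
    rw [adQuot, Submodule.mkQ_apply, Submodule.mapQ_apply, Submodule.mkQ_apply, ← sub_eq_zero,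
      ← Submodule.Quotient.mk_sub, Submodule.Quotient.mk_eq_zero]
    exact hz
  have hbij : Function.Bijective (adQuot (LieSubalgebra.engel A a) a haE) :=
    OrzechProperty.bijective_of_surjective_endomorphism _ hs
  refine ⟨hproj, fun p => ?_⟩
  have heq : fibreSubmodule p (LieSubalgebra.engel A a) =
      (LieSubalgebra.engel p.asIdeal.ResidueField
        ((1 : p.asIdeal.ResidueField) ⊗ₜ[A] a)).toSubmodule :=
    le_antisymm (baseChange_le_engel _ le_rfl)
      (engel_fibre_le_of_adQuot_bijective _ _ a haE hbij)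
  have : LieRing.IsNilpotent (LieSubalgebra.engel p.asIdeal.ResidueField
        ((1 : p.asIdeal.ResidueField) ⊗ₜ[A] a)) :=
    isNilpotent_engel_of_isRegular _ _ (ha p)
  refine ⟨?_, ?_, ?_⟩
  · exact isNilpotent_baseChange_of_le p.asIdeal.ResidueField (LieSubalgebra.engel A a) _ heq.le
  · intro x hx
    rw [heq] at hx ⊢
    rw [LieSubalgebra.mem_toSubmodule, ← LieSubalgebra.normalizer_engel,
      LieSubalgebra.mem_normalizer_iff]
    exact hx
  · rw [heq]
    exact (LieAlgebra.isRegular_iff_finrank_engel_eq_rank p.asIdeal.ResidueField _).mp (ha p)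

end Rel

end Groth.Agent.Lib.Helper11.RC
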