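import Mathlib
import Groth.Prelude.Def_W4sga3xiixivxvCartan
import Groth.Agent.Lib.Helper11.RC3

set_option autoImplicit false
universe u
open scoped TensorProduct

namespace Groth.Agent.Lib.Helper11.RC

attribute [local instance 100] LieRing.ofAssociativeRing

section FTrick
variable {K : Type*} [Field K] {V W : Type*} [AddCommGroup V] [Module K V] [AddCommGroup W]
  [Module K W] [Module.Finite K V] [Module.Finite K W]

open Polynomial in
/-- If `W` is a retract of `V` via `f, g`, then `g ∘ D ∘ f` has characteristic polynomial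
`charpoly D * X ^ (dim V - dim W)`. -/
theorem charpoly_retract (f : V →ₗ[K] W) (g : W →ₗ[K] V) (hfg : f ∘ₗ g = LinearMap.id)
    (D : Module.End K W) :
    (g ∘ₗ D ∘ₗ f).charpoly = D.charpoly * X ^ (Module.finrank K V - Module.finrank K W) := by
  have hfg' : ∀ w, f (g w) = w := fun w => LinearMap.congr_fun hfg w
  have hsurj : Function.Surjective f := fun w => ⟨g w, hfg' w⟩
  have hmem : ∀ v : V, ((LinearMap.id : V →ₗ[K] V) - g ∘ₗ f) v ∈ LinearMap.ker f := by
    intro v
    rw [LinearMap.mem_ker, LinearMap.sub_apply, map_sub, LinearMap.id_apply, LinearMap.comp_apply,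
      hfg', sub_self]
  let F : V →ₗ[K] W × LinearMap.ker f :=
    f.prod (LinearMap.codRestrict (LinearMap.ker f) _ hmem)
  let G : W × LinearMap.ker f →ₗ[K] V := g.coprod (LinearMap.ker f).subtype
  have hGF : G ∘ₗ F = LinearMap.id := by
    ext v
    simp [F, G]
  have hFG : F ∘ₗ G = LinearMap.id := by
    apply LinearMap.ext
    rintro ⟨w, ⟨k, hk⟩⟩
    rw [LinearMap.mem_ker] at hk
    apply Prod.ext
    · simp [F, G, hfg', hk]
    · apply Subtype.ext
      simp [F, G, hfg', hk]
  let e : V ≃ₗ[K] W × LinearMap.ker f := LinearEquiv.ofLinearMap F G hFG hGF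
  have hconj : e.conj (g ∘ₗ D ∘ₗ f) = D.prodMap (0 : Module.End K (LinearMap.ker f)) := by
    apply LinearMap.ext
    rintro ⟨w, ⟨k, hk⟩⟩
    rw [LinearMap.mem_ker] at hk
    rw [LinearEquiv.conj_apply_apply]
    have h1 : e.symm (w, ⟨k, hk⟩) = g w + k := by
      simp [e, G]
    rw [h1]
    apply Prod.ext
    · simp [e, F, hfg', hk]
    · apply Subtype.ext
      simp [e, F, hfg', hk]
  rw [← LinearEquiv.charpoly_conj e, hconj, LinearMap.charpoly_prodMap]
  congr 1
  have h0 : IsNilpotent (0 : Module.End K (LinearMap.ker f)) := IsNilpotent.zero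
  rw [h0.charpoly_eq_X_pow_finrank]
  congr 1
  have := LinearMap.finrank_range_add_finrank_ker f
  rw [LinearMap.range_eq_top.mpr hsurj, finrank_top] at this
  omega

end FTrick

section RelF
variable (A : Type u) [CommRing A] (L : Type u) [LieRing L] [LieAlgebra A L]

/-- Presentation of `L` as a retract of a finite free module. -/
structure FData where
  n : ℕ
  f : (Fin n → A) →ₗ[A] L
  g : L →ₗ[A] (Fin n → A)
  hfg : f ∘ₗ g = LinearMap.id

theorem exists_fData [Module.Finite A L] [Module.Projective A L] : Nonempty (FData A L) := by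
  obtain ⟨n, f, g, -, -, hfg⟩ := Module.Finite.exists_comp_eq_id_of_projective A L
  exact ⟨⟨n, f, g, hfg⟩⟩

variable {A L}

/-- The linear family `a ↦ g ∘ ad a ∘ f` of endomorphisms of the free module. -/
noncomputable def FData.Phi (d : FData A L) : L →ₗ[A] Module.End A (Fin d.n → A) where
  toFun a := d.g ∘ₗ (LieAlgebra.ad A L a) ∘ₗ d.f
  map_add' a b := by ext; simp
  map_smul' c a := by ext; simp

theorem FData.Phi_apply (d : FData A L) (a : L) :
    d.Phi a = d.g ∘ₗ (LieAlgebra.ad A L a) ∘ₗ d.f := rfl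

/-- Characteristic polynomial of `g ∘ ad a ∘ f`. -/
noncomputable def FData.chi (d : FData A L) (a : L) : Polynomial A := (d.Phi a).charpoly

theorem FData.fg_baseChange (d : FData A L) (B : Type*) [CommRing B] [Algebra A B] :
    (d.f.baseChange B) ∘ₗ (d.g.baseChange B) = LinearMap.id := by
  rw [← LinearMap.baseChange_comp, d.hfg, LinearMap.baseChange_id]

open Polynomial in
theorem FData.chi_map [Module.Finite A L] (d : FData A L) (a : L) (K : Type*) [Field K]
    [Algebra A K] :
    (d.chi a).map (algebraMap A K) =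
      (LieAlgebra.ad K (K ⊗[A] L) ((1 : K) ⊗ₜ[A] a)).charpoly *
        X ^ (d.n - Module.finrank K (K ⊗[A] L)) := by
  rw [FData.chi, ← LinearMap.charpoly_baseChange, FData.Phi_apply, LinearMap.baseChange_comp,
    LinearMap.baseChange_comp, ← ad_fibre, charpoly_retract _ _ (d.fg_baseChange K)]
  congr 2
  rw [(TensorProduct.piScalarRight A K K (Fin d.n)).finrank_eq, Module.finrank_fin_fun]

open Polynomial in
/-- Trailing degree of the reduction of `chi` at a field-valued point. -/
theorem FData.natTrailingDegree_chi_map [Module.Finite A L] (d : FData A L) (a : L) (K : Type*)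
    [Field K] [Algebra A K] :
    ((d.chi a).map (algebraMap A K)).natTrailingDegree =
      (LieAlgebra.ad K (K ⊗[A] L) ((1 : K) ⊗ₜ[A] a)).charpoly.natTrailingDegree +
        (d.n - Module.finrank K (K ⊗[A] L)) := by
  rw [d.chi_map a K, natTrailingDegree_mul_X_pow (LinearMap.charpoly_monic _).ne_zero]

theorem exists_basicOpen_finrank_eq [Module.Finite A L] [Module.Projective A L]
    (p : PrimeSpectrum A) :
    ∃ f : A, f ∉ p.asIdeal ∧ ∀ q : PrimeSpectrum A, f ∉ q.asIdeal →
      Module.finrank q.asIdeal.ResidueField (q.asIdeal.ResidueField ⊗[A] L) =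
        Module.finrank p.asIdeal.ResidueField (p.asIdeal.ResidueField ⊗[A] L) := by
  have : Module.FinitePresentation A L := Module.finitePresentation_of_projective A L
  have hlc := Module.isLocallyConstant_rankAtStalk (R := A) (M := L)
  have hopen := hlc.isOpen_fiber (Module.rankAtStalk L p)
  obtain ⟨_, ⟨f, rfl⟩, hpf, hsub⟩ :=
    PrimeSpectrum.isTopologicalBasis_basic_opens.exists_subset_of_mem_open
      (show p ∈ {q | Module.rankAtStalk L q = Module.rankAtStalk L p} from rfl) hopen
  refine ⟨f, hpf, fun q hq => ?_⟩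
  have := hsub (show q ∈ (PrimeSpectrum.basicOpen f : Set (PrimeSpectrum A)) from hq)
  rw [Set.mem_ofPred_eq, Module.rankAtStalk_eq, Module.rankAtStalk_eq] at this
  exact this

open Polynomial in
theorem exists_basicOpen_regular [Module.Finite A L] [Module.Projective A L]
    (p : PrimeSpectrum A) (a : L)
    (hC0 : ∃ f : A, f ∉ p.asIdeal ∧ ∀ q : PrimeSpectrum A, f ∉ q.asIdeal →
        LieAlgebra.rank q.asIdeal.ResidueField (q.asIdeal.ResidueField ⊗[A] L) =
          LieAlgebra.rank p.asIdeal.ResidueField (p.asIdeal.ResidueField ⊗[A] L))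
    (hreg : LieAlgebra.IsRegular p.asIdeal.ResidueField ((1 : p.asIdeal.ResidueField) ⊗ₜ[A] a)) :
    ∃ f : A, f ∉ p.asIdeal ∧ ∀ q : PrimeSpectrum A, f ∉ q.asIdeal →
      LieAlgebra.IsRegular q.asIdeal.ResidueField ((1 : q.asIdeal.ResidueField) ⊗ₜ[A] a) := by
  obtain ⟨d⟩ := exists_fData A L
  obtain ⟨f₁, hf₁, hrank⟩ := hC0
  obtain ⟨f₂, hf₂, hdim⟩ := exists_basicOpen_finrank_eq (L := L) p
  set s₀ := LieAlgebra.rank p.asIdeal.ResidueField (p.asIdeal.ResidueField ⊗[A] L) +
    (d.n - Module.finrank p.asIdeal.ResidueField (p.asIdeal.ResidueField ⊗[A] L)) with hs₀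
  have hc : (d.chi a).coeff s₀ ∉ p.asIdeal := by
    have h1 := d.natTrailingDegree_chi_map a p.asIdeal.ResidueField
    rw [(LieAlgebra.isRegular_iff_natTrailingDegree_charpoly_eq_rank _ _).mp hreg, ← hs₀] at h1
    have hne : (d.chi a).map (algebraMap A p.asIdeal.ResidueField) ≠ 0 := by
      rw [d.chi_map]
      exact mul_ne_zero (LinearMap.charpoly_monic _).ne_zero (pow_ne_zero _ X_ne_zero)
    have h2 := Polynomial.trailingCoeff_nonzero_iff_nonzero.mpr hne
    rw [Polynomial.trailingCoeff, h1, coeff_map] at h2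
    intro hmem
    exact h2 (Ideal.algebraMap_residueField_eq_zero.mpr hmem)
  refine ⟨f₁ * f₂ * (d.chi a).coeff s₀, ?_, fun q hq => ?_⟩
  · exact fun h => (p.isPrime.mem_or_mem h).elim
      (fun h' => (p.isPrime.mem_or_mem h').elim hf₁ hf₂) hc
  · have hq1 : f₁ ∉ q.asIdeal := fun h => hq (Ideal.mul_mem_right _ _ (Ideal.mul_mem_right _ _ h))
    have hq2 : f₂ ∉ q.asIdeal := fun h => hq (Ideal.mul_mem_right _ _ (Ideal.mul_mem_left _ _ h))
    have hq3 : (d.chi a).coeff s₀ ∉ q.asIdeal := fun h => hq (Ideal.mul_mem_left _ _ h)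
    have h1 := d.natTrailingDegree_chi_map a q.asIdeal.ResidueField
    have h2 : ((d.chi a).map (algebraMap A q.asIdeal.ResidueField)).natTrailingDegree ≤ s₀ := by
      apply natTrailingDegree_le_of_ne_zero
      rw [coeff_map]
      exact fun h => hq3 (Ideal.algebraMap_residueField_eq_zero.mp h)
    have h3 := LieAlgebra.rank_le_natTrailingDegree_charpoly_ad q.asIdeal.ResidueField
      ((1 : q.asIdeal.ResidueField) ⊗ₜ[A] a)
    rw [LieAlgebra.isRegular_iff_natTrailingDegree_charpoly_eq_rank]
    rw [h1, hs₀, ← hrank q hq1, ← hdim q hq2] at h2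
    omega

theorem isOpen_regular_locus [Module.Finite A L] [Module.Projective A L]
    (hC0 : ∀ p : PrimeSpectrum A, ∃ f : A, f ∉ p.asIdeal ∧ ∀ q : PrimeSpectrum A, f ∉ q.asIdeal →
        LieAlgebra.rank q.asIdeal.ResidueField (q.asIdeal.ResidueField ⊗[A] L) =
          LieAlgebra.rank p.asIdeal.ResidueField (p.asIdeal.ResidueField ⊗[A] L)) (a : L) :
    IsOpen {p : PrimeSpectrum A |
      LieAlgebra.IsRegular p.asIdeal.ResidueField ((1 : p.asIdeal.ResidueField) ⊗ₜ[A] a)} := by
  rw [isOpen_iff_forall_mem_open]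
  intro p hp
  obtain ⟨f, hf, hall⟩ := exists_basicOpen_regular p a (hC0 p) hp
  exact ⟨PrimeSpectrum.basicOpen f, fun q hq => hall q hq, (PrimeSpectrum.basicOpen f).isOpen, hf⟩

end RelF

end Groth.Agent.Lib.Helper11.RC
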