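import Mathlib
import Groth.Agent.Lib.Helper11.RC1

set_option autoImplicit false
universe u
open scoped TensorProduct

namespace Groth.Agent.Lib.Helper11.RC

attribute [local instance 100] LieRing.ofAssociativeRing

section LieIso
variable {K : Type*} [CommRing K] {M₁ M₂ : Type*} [LieRing M₁] [LieAlgebra K M₁]
  [LieRing M₂] [LieAlgebra K M₂]

/-- A linear map preserving brackets on a spanning set preserves all brackets. -/
theorem map_lie_of_span (f : M₁ →ₗ[K] M₂) (S : Set M₁) (hS : Submodule.span K S = ⊤)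
    (h : ∀ x ∈ S, ∀ y ∈ S, f ⁅x, y⁆ = ⁅f x, f y⁆) (x y : M₁) : f ⁅x, y⁆ = ⁅f x, f y⁆ := by
  have hx : x ∈ Submodule.span K S := hS ▸ Submodule.mem_top
  have hy : y ∈ Submodule.span K S := hS ▸ Submodule.mem_top
  induction hx using Submodule.span_induction with
  | mem x hxS =>
    induction hy using Submodule.span_induction with
    | mem y hyS => exact h x hxS y hyS
    | zero => simp
    | add y₁ y₂ _ _ h₁ h₂ => rw [lie_add, map_add, h₁, h₂, map_add, lie_add]
    | smul c y _ hy => rw [lie_smul, map_smul, hy, map_smul, lie_smul]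
  | zero => simp
  | add x₁ x₂ _ _ h₁ h₂ => rw [add_lie, map_add, h₁, h₂, map_add, add_lie]
  | smul c x _ hx => rw [smul_lie, map_smul, hx, map_smul, smul_lie]

variable (e : M₁ ≃ₗ[K] M₂) (he : ∀ x y, e ⁅x, y⁆ = ⁅e x, e y⁆)

include he in
theorem equiv_ad_pow (x y : M₁) (n : ℕ) :
    ((LieAlgebra.ad K M₂ (e x)) ^ n) (e y) = e (((LieAlgebra.ad K M₁ x) ^ n) y) := by
  induction n generalizing y with
  | zero => simp
  | succ n ih =>
    rw [pow_succ, Module.End.mul_apply, pow_succ, Module.End.mul_apply, ← ih]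
    simp [he]

include he in
theorem equiv_mem_engel_iff (x y : M₁) :
    e y ∈ LieSubalgebra.engel K (e x) ↔ y ∈ LieSubalgebra.engel K x := by
  rw [LieSubalgebra.mem_engel_iff, LieSubalgebra.mem_engel_iff]
  refine exists_congr fun n => ?_
  rw [equiv_ad_pow e he, map_eq_zero_iff _ e.injective]

include he in
theorem equiv_ad_conj (x : M₁) : LieAlgebra.ad K M₂ (e x) = e.conj (LieAlgebra.ad K M₁ x) := by
  ext y
  rw [LinearEquiv.conj_apply_apply]
  obtain ⟨z, rfl⟩ := e.surjective y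
  simp [he]

include he in
theorem equiv_symm_lie (x y : M₂) : e.symm ⁅x, y⁆ = ⁅e.symm x, e.symm y⁆ := by
  apply e.injective
  rw [he]
  simp

theorem baseChange_equiv_lie (K' : Type*) [CommRing K'] [Algebra K K'] (e : M₁ ≃ₗ[K] M₂)
    (he : ∀ x y, e ⁅x, y⁆ = ⁅e x, e y⁆) (x y : K' ⊗[K] M₁) :
    e.baseChange K K' M₁ M₂ ⁅x, y⁆ = ⁅e.baseChange K K' M₁ M₂ x, e.baseChange K K' M₁ M₂ y⁆ := by
  have := map_lie_of_span (e.baseChange K K' M₁ M₂).toLinearMap
    (Set.range (TensorProduct.mk K K' M₁ 1)) ?_ ?_ x y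
  · exact this
  · have h := Submodule.baseChange_eq_span K' (⊤ : Submodule K M₁)
    rw [Submodule.baseChange_top] at h
    rw [h]
    congr 1
    ext z
    simp
  · rintro _ ⟨x, rfl⟩ _ ⟨y, rfl⟩
    simp [he]

end LieIso

section FieldIso
variable {K : Type*} [Field K] {M₁ M₂ : Type*} [LieRing M₁] [LieAlgebra K M₁]
  [LieRing M₂] [LieAlgebra K M₂] [Module.Finite K M₁] [Module.Finite K M₂]

theorem rank_le_of_equiv_of_infinite [Infinite K] (e : M₁ ≃ₗ[K] M₂)
    (he : ∀ x y, e ⁅x, y⁆ = ⁅e x, e y⁆) : LieAlgebra.rank K M₂ ≤ LieAlgebra.rank K M₁ := by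
  obtain ⟨x, hx⟩ := LieAlgebra.exists_isRegular K M₁
  rw [LieAlgebra.isRegular_iff_natTrailingDegree_charpoly_eq_rank] at hx
  rw [← hx, ← LinearEquiv.charpoly_conj e, ← equiv_ad_conj e he]
  exact LieAlgebra.rank_le_natTrailingDegree_charpoly_ad K (e x)

theorem rank_eq_of_equiv (e : M₁ ≃ₗ[K] M₂)
    (he : ∀ x y, e ⁅x, y⁆ = ⁅e x, e y⁆) : LieAlgebra.rank K M₂ = LieAlgebra.rank K M₁ := by
  let K' := AlgebraicClosure K
  have hinj : Function.Injective (algebraMap K K') := (algebraMap K K').injective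
  rw [← rank_baseChange (K' := K') (M := M₁) hinj, ← rank_baseChange (K' := K') (M := M₂) hinj]
  have he' := baseChange_equiv_lie K' e he
  apply le_antisymm
  · exact rank_le_of_equiv_of_infinite _ he'
  · exact rank_le_of_equiv_of_infinite (e.baseChange K K' M₁ M₂).symm
      (equiv_symm_lie _ he')

theorem isRegular_equiv_iff (e : M₁ ≃ₗ[K] M₂)
    (he : ∀ x y, e ⁅x, y⁆ = ⁅e x, e y⁆) (x : M₁) :
    LieAlgebra.IsRegular K (e x) ↔ LieAlgebra.IsRegular K x := by
  rw [LieAlgebra.isRegular_iff_natTrailingDegree_charpoly_eq_rank,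
    LieAlgebra.isRegular_iff_natTrailingDegree_charpoly_eq_rank, rank_eq_of_equiv e he,
    equiv_ad_conj e he, LinearEquiv.charpoly_conj]

end FieldIso

end Groth.Agent.Lib.Helper11.RC
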