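import Mathlib
import Groth.Prelude.Def_W4sga3xiixivxvCartan
import Groth.Agent.Lib.Helper11.RC1
import Groth.Agent.Lib.Helper11.RC4

set_option autoImplicit false
universe u
open scoped TensorProduct

namespace Groth.Agent.Lib.Helper11.RC

attribute [local instance 100] LieRing.ofAssociativeRing

section Cancel
variable (A : Type*) [CommRing A] (L : Type*) [LieRing L] [LieAlgebra A L]
variable (S : Type*) [CommRing S] [Algebra A S]
variable (K' : Type*) [CommRing K'] [Algebra A K'] [Algebra S K'] [IsScalarTower A S K']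

/-- `K' ⊗[S] (S ⊗[A] L) ≃ K' ⊗[A] L`. -/
noncomputable def cancelEquiv : K' ⊗[S] (S ⊗[A] L) ≃ₗ[K'] K' ⊗[A] L :=
  TensorProduct.AlgebraTensorModule.cancelBaseChange A S K' K' L

theorem cancelEquiv_tmul (c : K') (s : S) (x : L) :
    cancelEquiv A L S K' (c ⊗ₜ[S] (s ⊗ₜ[A] x)) = (s • c) ⊗ₜ[A] x :=
  TensorProduct.AlgebraTensorModule.cancelBaseChange_tmul ..

omit [Algebra A K'] [IsScalarTower A S K'] in
theorem span_one_tmul_one_tmul :
    Submodule.span K' (Set.range fun x : L => (1 : K') ⊗ₜ[S] ((1 : S) ⊗ₜ[A] x)) = ⊤ := by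
  rw [eq_top_iff]
  rintro z -
  induction z using TensorProduct.induction_on with
  | zero => exact Submodule.zero_mem _
  | add x y hx hy => exact Submodule.add_mem _ hx hy
  | tmul c y =>
    induction y using TensorProduct.induction_on with
    | zero => rw [TensorProduct.tmul_zero]; exact Submodule.zero_mem _
    | add x y hx hy => rw [TensorProduct.tmul_add]; exact Submodule.add_mem _ hx hy
    | tmul s x =>
      have : c ⊗ₜ[S] (s ⊗ₜ[A] x) = (s • c) • ((1 : K') ⊗ₜ[S] ((1 : S) ⊗ₜ[A] x)) := by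
        rw [TensorProduct.smul_tmul', smul_eq_mul, mul_one, TensorProduct.smul_tmul,
          TensorProduct.smul_tmul', smul_eq_mul, mul_one]
      rw [this]
      exact Submodule.smul_mem _ _ (Submodule.subset_span ⟨x, rfl⟩)

theorem cancelEquiv_lie (x y : K' ⊗[S] (S ⊗[A] L)) :
    cancelEquiv A L S K' ⁅x, y⁆ = ⁅cancelEquiv A L S K' x, cancelEquiv A L S K' y⁆ := by
  refine map_lie_of_span (cancelEquiv A L S K').toLinearMap _ (span_one_tmul_one_tmul A L S K') ?_ x y
  rintro _ ⟨x, rfl⟩ _ ⟨y, rfl⟩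
  simp [cancelEquiv_tmul]

end Cancel

section RankTower
variable (A : Type*) [CommRing A] (L : Type*) [LieRing L] [LieAlgebra A L] [Module.Finite A L]

/-- Rank of the fibre Lie algebra is invariant under extension of the field-valued point. -/
theorem rank_tower (K K' : Type*) [Field K] [Field K'] [Algebra A K] [Algebra A K'] [Algebra K K']
    [IsScalarTower A K K'] :
    LieAlgebra.rank K' (K' ⊗[A] L) = LieAlgebra.rank K (K ⊗[A] L) := by
  rw [rank_eq_of_equiv (cancelEquiv A L K K') (cancelEquiv_lie A L K K'),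
    rank_baseChange (algebraMap K K').injective]

theorem finrank_tower (K K' : Type*) [Field K] [Field K'] [Algebra A K] [Algebra A K']
    [Algebra K K'] [IsScalarTower A K K'] :
    Module.finrank K' (K' ⊗[A] L) = Module.finrank K (K ⊗[A] L) := by
  rw [← (cancelEquiv A L K K').finrank_eq, Module.finrank_baseChange]

theorem isRegular_tower_iff (K K' : Type*) [Field K] [Field K'] [Algebra A K] [Algebra A K']
    [Algebra K K'] [IsScalarTower A K K'] (a : L) :
    LieAlgebra.IsRegular K' ((1 : K') ⊗ₜ[A] a) ↔ LieAlgebra.IsRegular K ((1 : K) ⊗ₜ[A] a) := by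
  have h1 : (1 : K') ⊗ₜ[A] a = cancelEquiv A L K K' ((1 : K') ⊗ₜ[K] ((1 : K) ⊗ₜ[A] a)) := by
    rw [cancelEquiv_tmul, one_smul]
  rw [h1, isRegular_equiv_iff _ (cancelEquiv_lie A L K K'),
    isRegular_baseChange_iff (algebraMap K K').injective]

variable (A' : Type*) [CommRing A'] [Algebra A A']

theorem rank_cancel (K' : Type*) [Field K'] [Algebra A K'] [Algebra A' K']
    [IsScalarTower A A' K'] :
    LieAlgebra.rank K' (K' ⊗[A'] (A' ⊗[A] L)) = LieAlgebra.rank K' (K' ⊗[A] L) :=
  (rank_eq_of_equiv (cancelEquiv A L A' K') (cancelEquiv_lie A L A' K')).symm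

omit [Module.Finite A L] in
theorem finrank_cancel (K' : Type*) [Field K'] [Algebra A K'] [Algebra A' K']
    [IsScalarTower A A' K'] :
    Module.finrank K' (K' ⊗[A'] (A' ⊗[A] L)) = Module.finrank K' (K' ⊗[A] L) :=
  (cancelEquiv A L A' K').finrank_eq

theorem isRegular_cancel_iff (K' : Type*) [Field K'] [Algebra A K'] [Algebra A' K']
    [IsScalarTower A A' K'] (x : K' ⊗[A'] (A' ⊗[A] L)) :
    LieAlgebra.IsRegular K' (cancelEquiv A L A' K' x) ↔ LieAlgebra.IsRegular K' x :=
  isRegular_equiv_iff _ (cancelEquiv_lie A L A' K') x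

end RankTower

section Primes
variable {A : Type u} [CommRing A] (L : Type u) [LieRing L] [LieAlgebra A L] [Module.Finite A L]
variable {A' : Type u} [CommRing A'] [Algebra A A']

theorem fibre_baseChange (p' : PrimeSpectrum A') :
    let p := PrimeSpectrum.comap (algebraMap A A') p'
    LieAlgebra.rank p'.asIdeal.ResidueField (p'.asIdeal.ResidueField ⊗[A'] (A' ⊗[A] L)) =
        LieAlgebra.rank p.asIdeal.ResidueField (p.asIdeal.ResidueField ⊗[A] L) ∧
      Module.finrank p'.asIdeal.ResidueField (p'.asIdeal.ResidueField ⊗[A'] (A' ⊗[A] L)) =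
        Module.finrank p.asIdeal.ResidueField (p.asIdeal.ResidueField ⊗[A] L) ∧
      ∀ a : L, LieAlgebra.IsRegular p'.asIdeal.ResidueField
          ((1 : p'.asIdeal.ResidueField) ⊗ₜ[A'] ((1 : A') ⊗ₜ[A] a)) ↔
        LieAlgebra.IsRegular p.asIdeal.ResidueField ((1 : p.asIdeal.ResidueField) ⊗ₜ[A] a) := by
  intro p
  let _ : Algebra p.asIdeal.ResidueField p'.asIdeal.ResidueField :=
    (Ideal.ResidueField.map p.asIdeal p'.asIdeal (algebraMap A A') rfl).toAlgebra
  have : IsScalarTower A p.asIdeal.ResidueField p'.asIdeal.ResidueField := by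
    refine IsScalarTower.of_algebraMap_eq fun r => ?_
    rw [RingHom.algebraMap_toAlgebra, Ideal.ResidueField.map_algebraMap,
      ← IsScalarTower.algebraMap_apply]
  refine ⟨?_, ?_, fun a => ?_⟩
  · rw [rank_cancel A L A', rank_tower A L p.asIdeal.ResidueField p'.asIdeal.ResidueField]
  · rw [finrank_cancel A L A', finrank_tower A L p.asIdeal.ResidueField p'.asIdeal.ResidueField]
  · rw [← isRegular_cancel_iff A L A', cancelEquiv_tmul, one_smul,
      isRegular_tower_iff A L p.asIdeal.ResidueField p'.asIdeal.ResidueField]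

end Primes

end Groth.Agent.Lib.Helper11.RC
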