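import Mathlib
import Groth.Prelude.Def_W4sga3xiixivxvCartan
import Groth.Agent.Lib.Helper11.RC5
import Groth.Agent.Lib.Helper11.RC6

set_option autoImplicit false
universe u
open scoped TensorProduct

namespace Groth.Agent.Lib.Helper11.RC

attribute [local instance 100] LieRing.ofAssociativeRing

section Scaling
variable (K : Type*) [Field K] {M : Type*} [LieRing M] [LieAlgebra K M] [Module.Finite K M]

omit [Module.Finite K M] in
theorem engel_smul (c : K) (hc : c ≠ 0) (x : M) :
    LieSubalgebra.engel K (c • x) = LieSubalgebra.engel K x := by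
  ext y
  rw [LieSubalgebra.mem_engel_iff, LieSubalgebra.mem_engel_iff]
  refine exists_congr fun n => ?_
  rw [map_smul, smul_pow, LinearMap.smul_apply, smul_eq_zero]
  exact or_iff_right (pow_ne_zero n hc)

theorem isRegular_smul_iff (c : K) (hc : c ≠ 0) (x : M) :
    LieAlgebra.IsRegular K (c • x) ↔ LieAlgebra.IsRegular K x := by
  rw [LieAlgebra.isRegular_iff_finrank_engel_eq_rank, LieAlgebra.isRegular_iff_finrank_engel_eq_rank,
    engel_smul K c hc]

end Scaling

section Lift
variable {A : Type u} [CommRing A] {L : Type u} [AddCommGroup L] [Module A L]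

theorem exists_smul_eq_algebraMap (p : PrimeSpectrum A) (c : p.asIdeal.ResidueField) :
    ∃ s : A, s ∉ p.asIdeal ∧ ∃ a : A,
      algebraMap A p.asIdeal.ResidueField s * c = algebraMap A p.asIdeal.ResidueField a := by
  obtain ⟨y, rfl⟩ := IsLocalRing.residue_surjective c
  obtain ⟨⟨a, s⟩, hs⟩ := IsLocalization.surj p.asIdeal.primeCompl y
  refine ⟨s, s.2, a, ?_⟩
  have := congrArg (IsLocalRing.residue (Localization.AtPrime p.asIdeal)) hs
  rw [map_mul] at this
  rw [mul_comm]
  exact this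

theorem exists_smul_eq_one_tmul (p : PrimeSpectrum A) (x : p.asIdeal.ResidueField ⊗[A] L) :
    ∃ s : A, s ∉ p.asIdeal ∧ ∃ a : L,
      algebraMap A p.asIdeal.ResidueField s • x = (1 : p.asIdeal.ResidueField) ⊗ₜ[A] a := by
  induction x using TensorProduct.induction_on with
  | zero => exact ⟨1, p.isPrime.one_notMem, 0, by simp⟩
  | tmul c l =>
    obtain ⟨s, hs, a, ha⟩ := exists_smul_eq_algebraMap p c
    refine ⟨s, hs, a • l, ?_⟩
    rw [TensorProduct.smul_tmul', smul_eq_mul, ha, TensorProduct.tmul_smul,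
      TensorProduct.smul_tmul', Algebra.smul_def, mul_one]
  | add x y hx hy =>
    obtain ⟨s₁, hs₁, a₁, h₁⟩ := hx
    obtain ⟨s₂, hs₂, a₂, h₂⟩ := hy
    refine ⟨s₁ * s₂, fun h => (p.isPrime.mem_or_mem h).elim hs₁ hs₂, s₂ • a₁ + s₁ • a₂, ?_⟩
    rw [smul_add, map_mul, TensorProduct.tmul_add]
    congr 1
    · rw [mul_comm, mul_smul, h₁, TensorProduct.tmul_smul, algebraMap_smul]
    · rw [mul_smul, h₂, TensorProduct.tmul_smul, algebraMap_smul]

end Lift

section RegLift
open SGA3t2b
variable {A : Type u} [CommRing A] {L : Type u} [LieRing L] [LieAlgebra A L]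
  [Module.Finite A L] [Module.Projective A L]

theorem exists_regular_on_basicOpen (p : PrimeSpectrum A)
    (hC0 : ∃ f : A, f ∉ p.asIdeal ∧ ∀ q : PrimeSpectrum A, f ∉ q.asIdeal →
        LieAlgebra.rank q.asIdeal.ResidueField (q.asIdeal.ResidueField ⊗[A] L) =
          LieAlgebra.rank p.asIdeal.ResidueField (p.asIdeal.ResidueField ⊗[A] L))
    (hp : ∃ x : p.asIdeal.ResidueField ⊗[A] L, LieAlgebra.IsRegular p.asIdeal.ResidueField x) :
    ∃ f : A, f ∉ p.asIdeal ∧ ∃ a : L, ∀ q : PrimeSpectrum A, f ∉ q.asIdeal →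
      LieAlgebra.IsRegular q.asIdeal.ResidueField ((1 : q.asIdeal.ResidueField) ⊗ₜ[A] a) := by
  obtain ⟨x, hx⟩ := hp
  obtain ⟨s, hs, a, ha⟩ := exists_smul_eq_one_tmul p x
  have hs0 : algebraMap A p.asIdeal.ResidueField s ≠ 0 :=
    fun h => hs (Ideal.algebraMap_residueField_eq_zero.mp h)
  have hreg : LieAlgebra.IsRegular p.asIdeal.ResidueField
      ((1 : p.asIdeal.ResidueField) ⊗ₜ[A] a) := by
    rw [← ha, isRegular_smul_iff _ _ hs0]
    exact hx
  obtain ⟨f, hf, hall⟩ := exists_basicOpen_regular p a hC0 hreg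
  exact ⟨f, hf, a, hall⟩

end RegLift

end Groth.Agent.Lib.Helper11.RC
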