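import Mathlib
import Groth.Prelude.Def_W4sga3xiixivxvCartan
import Groth.Agent.Lib.Helper11.RC3
import Groth.Agent.Lib.Helper11.RC6

set_option autoImplicit false
set_option linter.unusedSectionVars false
universe u
open scoped TensorProduct

namespace Groth.Agent.Lib.Helper11.RC

attribute [local instance 100] LieRing.ofAssociativeRing

section RankCartan
open SGA3t2b
variable {A : Type u} [CommRing A] {L : Type u} [LieRing L] [LieAlgebra A L]
  [Module.Finite A L] [Module.Projective A L]

/-- For a relative Cartan subalgebra the fibre rank is the rank of the projective module `H`. -/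
theorem rank_eq_rankAtStalk_of_isCartanRel (H : LieSubalgebra A L) (hH : IsCartanRel H)
    (p : PrimeSpectrum A) :
    LieAlgebra.rank p.asIdeal.ResidueField (p.asIdeal.ResidueField ⊗[A] L) =
      Module.rankAtStalk H.toSubmodule p := by
  have := hH.1
  have : Module.Finite A H.toSubmodule := finite_of_projective_quotient H.toSubmodule
  have : Module.Projective A H.toSubmodule := projective_of_projective_quotient H.toSubmodule
  rw [← (hH.2 p).2.2, Module.rankAtStalk_eq]
  exact LinearMap.finrank_range_of_inj
    (subtype_baseChange_injective p.asIdeal.ResidueField H.toSubmodule)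

theorem isLocallyConstant_rank_of_isCartanRel (H : LieSubalgebra A L) (hH : IsCartanRel H) :
    IsLocallyConstant fun p : PrimeSpectrum A =>
      LieAlgebra.rank p.asIdeal.ResidueField (p.asIdeal.ResidueField ⊗[A] L) := by
  have := hH.1
  have : Module.Finite A H.toSubmodule := finite_of_projective_quotient H.toSubmodule
  have : Module.Projective A H.toSubmodule := projective_of_projective_quotient H.toSubmodule
  have : Module.FinitePresentation A H.toSubmodule :=
    Module.finitePresentation_of_projective A H.toSubmodule
  have hlc := Module.isLocallyConstant_rankAtStalk (R := A) (M := H.toSubmodule)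
  have : (fun p : PrimeSpectrum A =>
      LieAlgebra.rank p.asIdeal.ResidueField (p.asIdeal.ResidueField ⊗[A] L)) =
      Module.rankAtStalk H.toSubmodule := by
    funext p
    exact rank_eq_rankAtStalk_of_isCartanRel H hH p
  rw [this]
  exact hlc

theorem exists_basicOpen_of_isLocallyConstant {α : Type*} (r : PrimeSpectrum A → α)
    (hr : IsLocallyConstant r) (p : PrimeSpectrum A) :
    ∃ f : A, f ∉ p.asIdeal ∧ ∀ q : PrimeSpectrum A, f ∉ q.asIdeal → r q = r p := by
  have hopen := hr.isOpen_fiber (r p)
  obtain ⟨_, ⟨f, rfl⟩, hpf, hsub⟩ :=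
    PrimeSpectrum.isTopologicalBasis_basic_opens.exists_subset_of_mem_open
      (show p ∈ {q | r q = r p} from rfl) hopen
  exact ⟨f, hpf, fun q hq => hsub (show q ∈ (PrimeSpectrum.basicOpen f : Set (PrimeSpectrum A))
    from hq)⟩

/-- S8378. -/
theorem rank_locallyConstant_of_fpqc {A' : Type u} [CommRing A'] [Algebra A A']
    [Module.FaithfullyFlat A A'] (H : LieSubalgebra A' (A' ⊗[A] L)) (hH : IsCartanRel H) :
    IsLocallyConstant fun p : PrimeSpectrum A =>
      LieAlgebra.rank p.asIdeal.ResidueField (p.asIdeal.ResidueField ⊗[A] L) := by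
  have hq : Topology.IsQuotientMap (PrimeSpectrum.comap (algebraMap A A')) :=
    PrimeSpectrum.isQuotientMap_of_generalizingMap
      PrimeSpectrum.comap_surjective_of_faithfullyFlat
      (RingHom.Flat.generalizingMap_comap (RingHom.flat_algebraMap_iff.mpr inferInstance))
  have h' := isLocallyConstant_rank_of_isCartanRel H hH
  have hcomp : (fun p' : PrimeSpectrum A' =>
      LieAlgebra.rank p'.asIdeal.ResidueField (p'.asIdeal.ResidueField ⊗[A'] (A' ⊗[A] L))) =
      (fun p : PrimeSpectrum A =>
        LieAlgebra.rank p.asIdeal.ResidueField (p.asIdeal.ResidueField ⊗[A] L)) ∘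
        (PrimeSpectrum.comap (algebraMap A A')) := by
    funext p'
    exact (fibre_baseChange L p').1
  rw [hcomp] at h'
  rw [IsLocallyConstant.iff_isOpen_fiber] at h' ⊢
  intro y
  rw [← hq.isOpen_preimage]
  exact h' y

end RankCartan

end Groth.Agent.Lib.Helper11.RC
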