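import Mathlib
import Groth.Prelude.Def_W4sga3xiixivxvCartan
import Groth.Agent.Lib.Helper11.RC7
import Groth.Agent.Lib.Helper11.RC9
import Groth.Agent.Lib.Helper11.RC10

set_option autoImplicit false
set_option linter.unusedSectionVars false
universe u
open scoped TensorProduct

namespace Groth.Agent.Lib.Helper11.RC

attribute [local instance 100] LieRing.ofAssociativeRing

section General2

theorem isNilpotent_of_surjective {L₁ L₂ : Type*} [LieRing L₁] [LieRing L₂] (f : L₁ →+ L₂)
    (hf : ∀ x y, f ⁅x, y⁆ = ⁅f x, f y⁆) (hsurj : Function.Surjective f)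
    [LieRing.IsNilpotent L₁] : LieRing.IsNilpotent L₂ := by
  let F : L₁ →ₗ⁅ℤ⁆ L₂ := { f.toIntLinearMap with map_lie' := fun {x y} => hf x y }
  exact Function.Surjective.lieAlgebra_isNilpotent (f := F) hsurj

end General2

section FibreSub
open SGA3t2b
variable {A : Type u} [CommRing A] {L : Type u} [LieRing L] [LieAlgebra A L]

/-- Base change of a Lie subalgebra, as a Lie subalgebra. -/
noncomputable def baseChangeSub (B : Type*) [CommRing B] [Algebra A B] (H : LieSubalgebra A L) :
    LieSubalgebra B (B ⊗[A] L) :=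
  { H.toSubmodule.baseChange B with
    lie_mem' := by
      intro x y hx hy
      simp only [AddSubsemigroup.mem_carrier, AddSubmonoid.mem_toSubsemigroup,
        Submodule.mem_toAddSubmonoid] at hx hy ⊢
      rw [Submodule.baseChange_eq_span] at hx hy ⊢
      induction hx using Submodule.span_induction with
      | mem x hxS =>
        induction hy using Submodule.span_induction with
        | mem y hyS =>
          obtain ⟨x, hx, rfl⟩ := hxS
          obtain ⟨y, hy, rfl⟩ := hyS
          apply Submodule.subset_span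
          refine ⟨⁅x, y⁆, H.lie_mem hx hy, ?_⟩
          simp
        | zero => rw [lie_zero]; exact Submodule.zero_mem _
        | add y₁ y₂ _ _ h₁ h₂ => rw [lie_add]; exact Submodule.add_mem _ h₁ h₂
        | smul c y _ hy => rw [lie_smul]; exact Submodule.smul_mem _ _ hy
      | zero => rw [zero_lie]; exact Submodule.zero_mem _
      | add x₁ x₂ _ _ h₁ h₂ => rw [add_lie]; exact Submodule.add_mem _ h₁ h₂
      | smul c x _ hx => rw [smul_lie]; exact Submodule.smul_mem _ _ hx }

theorem baseChangeSub_toSubmodule (B : Type*) [CommRing B] [Algebra A B] (H : LieSubalgebra A L) :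
    (baseChangeSub B H).toSubmodule = H.toSubmodule.baseChange B := rfl

theorem mem_baseChangeSub (B : Type*) [CommRing B] [Algebra A B] (H : LieSubalgebra A L)
    (x : B ⊗[A] L) : x ∈ baseChangeSub B H ↔ x ∈ H.toSubmodule.baseChange B := Iff.rfl

/-- Nilpotency of `B ⊗ H` passes to its image in `B ⊗ L`. -/
theorem isNilpotent_baseChangeSub (B : Type*) [CommRing B] [Algebra A B] (H : LieSubalgebra A L)
    [LieRing.IsNilpotent (B ⊗[A] H)] : LieRing.IsNilpotent (baseChangeSub B H) := by
  let j := LieAlgebra.ExtendScalars.map (AlgHom.id A B) H.incl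
  have hj : ∀ x, j x ∈ baseChangeSub B H := by
    intro x
    rw [mem_baseChangeSub, extendScalars_incl_eq]
    exact ⟨x, rfl⟩
  let f : B ⊗[A] H →+ baseChangeSub B H :=
    { toFun := fun x => ⟨j x, hj x⟩
      map_zero' := by ext; simp
      map_add' := fun x y => by ext; simp }
  apply isNilpotent_of_surjective f
  · intro x y
    apply Subtype.ext
    change j ⁅x, y⁆ = ⁅j x, j y⁆
    exact LieHom.map_lie j x y
  · rintro ⟨y, hy⟩
    rw [mem_baseChangeSub] at hy
    obtain ⟨x, rfl⟩ := hy
    refine ⟨x, Subtype.ext ?_⟩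
    change j x = _
    rw [extendScalars_incl_eq]

theorem isCartanSubalgebra_fibre [Module.Finite A L] (H : LieSubalgebra A L) (hH : IsCartanRel H)
    (p : PrimeSpectrum A) :
    (baseChangeSub p.asIdeal.ResidueField H).IsCartanSubalgebra := by
  have := (hH.2 p).1
  refine ⟨isNilpotent_baseChangeSub _ H, ?_⟩
  apply le_antisymm _ (LieSubalgebra.le_normalizer _)
  intro x hx
  rw [LieSubalgebra.mem_normalizer_iff] at hx
  exact (hH.2 p).2.1 x hx

open Cardinal in
theorem exists_regular_in_cartan [Module.Finite A L] (H : LieSubalgebra A L) (hH : IsCartanRel H)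
    (p : PrimeSpectrum A) (hp : Infinite p.asIdeal.ResidueField) :
    ∃ a ∈ H, LieAlgebra.IsRegular p.asIdeal.ResidueField
      ((1 : p.asIdeal.ResidueField) ⊗ₜ[A] a) := by
  have hC := isCartanSubalgebra_fibre H hH p
  have hcard : Module.finrank p.asIdeal.ResidueField (p.asIdeal.ResidueField ⊗[A] L) ≤
      #p.asIdeal.ResidueField :=
    natCast_le_aleph0.trans <| Cardinal.infinite_iff.mp hp
  obtain ⟨x₀, hx₀, hE⟩ := exists_engel_eq_of_isCartanSubalgebra hcard
    (baseChangeSub p.asIdeal.ResidueField H)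
  have hreg : LieAlgebra.IsRegular p.asIdeal.ResidueField x₀ := by
    rw [LieAlgebra.isRegular_iff_finrank_engel_eq_rank, hE]
    exact (hH.2 p).2.2
  rw [mem_baseChangeSub] at hx₀
  obtain ⟨ξ, rfl⟩ := hx₀
  obtain ⟨s, hs, h, hh⟩ := exists_smul_eq_one_tmul p ξ
  have hs0 : algebraMap A p.asIdeal.ResidueField s ≠ 0 :=
    fun h0 => hs (Ideal.algebraMap_residueField_eq_zero.mp h0)
  refine ⟨(h : L), h.2, ?_⟩
  have h1 : (1 : p.asIdeal.ResidueField) ⊗ₜ[A] (h : L) =
      algebraMap A p.asIdeal.ResidueField s •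
        (H.toSubmodule.subtype.baseChange p.asIdeal.ResidueField ξ) := by
    rw [← map_smul, hh, LinearMap.baseChange_tmul]
    rfl
  rw [h1, isRegular_smul_iff _ _ hs0]
  exact hreg

/-- S8374. -/
theorem cartan_eq_engel_near_point [Module.Finite A L] [Module.Projective A L]
    (H : LieSubalgebra A L) (hH : IsCartanRel H) (p : PrimeSpectrum A)
    (hp : Infinite p.asIdeal.ResidueField) :
    ∃ f : A, f ∉ p.asIdeal ∧ ∃ a : L, a ∈ H ∧
      (∀ q : PrimeSpectrum A, f ∉ q.asIdeal →
        LieAlgebra.IsRegular q.asIdeal.ResidueField ((1 : q.asIdeal.ResidueField) ⊗ₜ[A] a)) ∧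
      H ≤ LieSubalgebra.engel A a ∧
      ∀ y : L, y ∈ LieSubalgebra.engel A a → ∃ n : ℕ, f ^ n • y ∈ H := by
  obtain ⟨a, haH, hreg⟩ := exists_regular_in_cartan H hH p hp
  have hlc := isLocallyConstant_rank_of_isCartanRel H hH
  obtain ⟨f, hf, hall⟩ := exists_basicOpen_regular p a
    (exists_basicOpen_of_isLocallyConstant _ hlc p) hreg
  have hle : H ≤ LieSubalgebra.engel A a :=
    le_engel_of_fibrewise_nilpotent H hH.1 (fun q => (hH.2 q).1) a haH
  refine ⟨f, hf, a, haH, hall, hle, fun y hy => ?_⟩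
  have := hH.1
  have hsurj : ∀ q : PrimeSpectrum A, f ∉ q.asIdeal →
      Function.Surjective ((adQuot H a haH).baseChange q.asIdeal.ResidueField) := fun q hq =>
    adQuot_baseChange_surjective H a haH q
      (fibreSubmodule_eq_engel H a hle q (hH.2 q).2.2 (hall q hq))
  obtain ⟨n, hn⟩ := exists_pow_smul_mem_range_of_fibrewise (adQuot H a haH) f hsurj
  rw [LieSubalgebra.mem_engel_iff] at hy
  obtain ⟨k, hk⟩ := hy
  have h1 : ((adQuot H a haH) ^ k) (H.toSubmodule.mkQ y) = 0 := by
    rw [adQuot, mapQ_pow_mk, hk, map_zero]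
  obtain ⟨m, hm⟩ := exists_pow_smul_eq_zero_of_pow_apply_eq_zero (adQuot H a haH) f n hn _ k h1
  refine ⟨m, ?_⟩
  rw [← map_smul, Submodule.mkQ_apply, Submodule.Quotient.mk_eq_zero] at hm
  exact hm

end FibreSub

end Groth.Agent.Lib.Helper11.RC
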