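import Mathlib

set_option autoImplicit false
set_option linter.unusedSectionVars false
universe u
open scoped TensorProduct

namespace Groth.Agent.Lib.Helper11.RC

section Fitting
variable {R : Type*} [CommRing R] {M : Type*} [AddCommGroup M] [Module R M]

open Polynomial in
/-- Local algebraic lemma: from Cayley–Hamilton with vanishing low coefficients (up to `e`) and
an "invertible up to `e`" coefficient in degree `s`. -/
theorem exists_comm_of_aeval_eq_zero (φ : Module.End R M) (χ : R[X]) (hχ : aeval φ χ = 0)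
    (s : ℕ) (e u : R) (k : ℕ) (hlow : ∀ i < s, e * χ.coeff i = 0) (hu : e ^ k = u * χ.coeff s) :
    ∃ T : Module.End R M, Commute T φ ∧ e ^ (k + 1) • φ ^ s = φ ^ (s + 1) * T := by
  set n := χ.natDegree with hn
  by_cases hsn : s ≤ n
  swap
  · -- then `χ.coeff s = 0`, so `e^k = 0`
    have h0 : χ.coeff s = 0 := coeff_eq_zero_of_natDegree_lt (by omega)
    rw [h0, mul_zero] at hu
    refine ⟨0, Commute.zero_left _, ?_⟩
    rw [pow_succ, hu, zero_mul, zero_smul, mul_zero]
  let T' : Module.End R M := ∑ i ∈ Finset.Ico (s + 1) (n + 1), χ.coeff i • φ ^ (i - (s + 1))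
  have hT' : Commute T' φ := by
    apply Commute.sum_left
    intro i _
    exact (Commute.pow_self φ (i - (s + 1))).smul_left (χ.coeff i)
  have hsum : aeval φ χ = ∑ i ∈ Finset.range (n + 1), χ.coeff i • φ ^ i := by
    rw [aeval_eq_sum_range]
  have hsplit : ∑ i ∈ Finset.range (n + 1), χ.coeff i • φ ^ i =
      ∑ i ∈ Finset.range s, χ.coeff i • φ ^ i + (χ.coeff s • φ ^ s + φ ^ (s + 1) * T') := by
    rw [← Finset.sum_range_add_sum_Ico _ (by omega : s ≤ n + 1)]
    congr 1
    rw [Finset.sum_eq_sum_Ico_succ_bot (by omega : s < n + 1)]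
    congr 1
    rw [Finset.mul_sum]
    refine Finset.sum_congr rfl fun i hi => ?_
    rw [Finset.mem_Ico] at hi
    rw [mul_smul_comm, ← pow_add]
    congr 2
    omega
  have h1 : e • (χ.coeff s • φ ^ s + φ ^ (s + 1) * T') = 0 := by
    have h2 : e • ∑ i ∈ Finset.range s, χ.coeff i • φ ^ i = 0 := by
      rw [Finset.smul_sum]
      refine Finset.sum_eq_zero fun i hi => ?_
      rw [smul_smul, hlow i (Finset.mem_range.mp hi), zero_smul]
    have h3 := congrArg (fun x => e • x) (hsum.symm.trans hχ)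
    simp only [smul_zero] at h3
    rw [hsplit, smul_add, h2, zero_add] at h3
    exact h3
  refine ⟨-((e * u) • T'), (hT'.smul_left _).neg_left, ?_⟩
  have h4 := congrArg (fun x => u • x) h1
  simp only [smul_zero, smul_add, smul_smul] at h4
  have h5 : e ^ (k + 1) = u * (e * χ.coeff s) := by rw [pow_succ, hu]; ring
  rw [h5, mul_neg, mul_smul_comm, eq_neg_iff_add_eq_zero, mul_comm e u]
  exact h4

theorem smul_pow_eq_of_le (φ T : Module.End R M) (r : R) (s : ℕ)
    (h : r • φ ^ s = φ ^ (s + 1) * T) (N : ℕ) (hN : s ≤ N) :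
    r • φ ^ N = φ ^ (N + 1) * T := by
  obtain ⟨t, rfl⟩ := Nat.exists_eq_add_of_le hN
  rw [add_comm s t, pow_add, ← mul_smul_comm, h, ← mul_assoc, ← pow_add]
  congr 2

theorem pow_smul_pow_eq (φ T : Module.End R M) (r : R) (s : ℕ)
    (h : r • φ ^ s = φ ^ (s + 1) * T) (N : ℕ) (hN : s ≤ N) (j : ℕ) :
    r ^ j • φ ^ N = φ ^ (N + j) * T ^ j := by
  induction j with
  | zero => simp
  | succ j ih =>
    rw [pow_succ, mul_comm, mul_smul, ih, ← smul_mul_assoc,
      smul_pow_eq_of_le φ T r s h (N + j) (by omega), mul_assoc, ← pow_succ']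
    rfl

/-- Local data: consequences for `ψ = φ^N`. -/
theorem local_fitting (φ T : Module.End R M) (hT : Commute T φ) (r : R) (s : ℕ)
    (h : r • φ ^ s = φ ^ (s + 1) * T) (N : ℕ) (hN : s ≤ N) (x : M) :
    r ^ N • (φ ^ N) x ∈ LinearMap.range (φ ^ (2 * N)) ∧
      ((φ ^ (2 * N)) x = 0 → r ^ N • (φ ^ N) x = 0) := by
  have h1 := pow_smul_pow_eq φ T r s h N hN N
  rw [← two_mul] at h1
  have h2 : r ^ N • (φ ^ N) x = (φ ^ (2 * N)) ((T ^ N) x) := by
    rw [← LinearMap.smul_apply, h1, Module.End.mul_apply]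
  refine ⟨h2 ▸ ⟨_, rfl⟩, fun hx => ?_⟩
  have hc : Commute (T ^ N) (φ ^ (2 * N)) := (hT.pow_left N).pow_right (2 * N)
  rw [h2, ← Module.End.mul_apply, ← hc.eq, Module.End.mul_apply, hx, map_zero]

/-- Local-to-global for the Fitting conditions. -/
theorem range_le_and_ker_le_of_local (φ : Module.End R M) (N : ℕ)
    (h : ∀ p : PrimeSpectrum R, ∃ r : R, r ∉ p.asIdeal ∧ ∀ x : M,
      r • (φ ^ N) x ∈ LinearMap.range (φ ^ (2 * N)) ∧
        ((φ ^ (2 * N)) x = 0 → r • (φ ^ N) x = 0)) :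
    LinearMap.range (φ ^ N) ≤ LinearMap.range (φ ^ (2 * N)) ∧
      LinearMap.ker (φ ^ (2 * N)) ≤ LinearMap.ker (φ ^ N) := by
  have key : ∀ (S : Submodule R M) (y : M),
      (∀ p : PrimeSpectrum R, ∃ r : R, r ∉ p.asIdeal ∧ r • y ∈ S) → y ∈ S := by
    intro S y hy
    let I : Ideal R := S.comap (LinearMap.toSpanSingleton R M y)
    have hI : I = ⊤ := by
      by_contra hne
      obtain ⟨m, hm, hle⟩ := Ideal.exists_le_maximal I hne
      obtain ⟨r, hr, hrS⟩ := hy ⟨m, hm.isPrime⟩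
      exact hr (hle (by simpa [I] using hrS))
    have h1 : (1 : R) ∈ I := hI ▸ Submodule.mem_top
    simpa [I] using h1
  constructor
  · rintro _ ⟨x, rfl⟩
    apply key
    intro p
    obtain ⟨r, hr, hx⟩ := h p
    exact ⟨r, hr, (hx x).1⟩
  · intro x hx
    rw [LinearMap.mem_ker] at hx ⊢
    have := key ⊥ ((φ ^ N) x) (fun p => by
      obtain ⟨r, hr, hx'⟩ := h p
      exact ⟨r, hr, by rw [Submodule.mem_bot]; exact (hx' x).2 hx⟩)
    simpa using this

theorem isCompl_ker_range (ψ : Module.End R M) (h1 : LinearMap.range ψ ≤ LinearMap.range (ψ * ψ))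
    (h2 : LinearMap.ker (ψ * ψ) ≤ LinearMap.ker ψ) :
    IsCompl (LinearMap.ker ψ) (LinearMap.range ψ) := by
  constructor
  · rw [Submodule.disjoint_def]
    rintro x hx ⟨y, rfl⟩
    rw [LinearMap.mem_ker] at hx
    have : y ∈ LinearMap.ker ψ := h2 (by rw [LinearMap.mem_ker, Module.End.mul_apply, hx])
    rw [LinearMap.mem_ker] at this
    exact this
  · rw [codisjoint_iff, eq_top_iff]
    rintro x -
    obtain ⟨y, hy⟩ := h1 ⟨x, rfl⟩
    rw [Module.End.mul_apply] at hy
    have hk : x - ψ y ∈ LinearMap.ker ψ := by rw [LinearMap.mem_ker, map_sub, hy, sub_self]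
    have : x = (x - ψ y) + ψ y := by abel
    rw [this]
    exact Submodule.add_mem_sup hk ⟨y, rfl⟩

theorem ker_pow_mul_le (φ : Module.End R M) (N : ℕ)
    (h2 : LinearMap.ker (φ ^ (2 * N)) ≤ LinearMap.ker (φ ^ N)) (j : ℕ) :
    LinearMap.ker (φ ^ ((j + 1) * N)) ≤ LinearMap.ker (φ ^ N) := by
  induction j with
  | zero => simp
  | succ j ih =>
    intro x hx
    apply ih
    rw [LinearMap.mem_ker] at hx ⊢
    have h3 : (φ ^ (2 * N)) ((φ ^ (j * N)) x) = 0 := by
      rw [← Module.End.mul_apply, ← pow_add, ← hx]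
      congr 2
      ring
    have h4 := h2 h3
    rw [LinearMap.mem_ker, ← Module.End.mul_apply, ← pow_add] at h4
    rw [← h4]
    congr 2
    ring

theorem pow_apply_eq_zero_of_fitting (φ : Module.End R M) (N : ℕ) (hN : 1 ≤ N)
    (h2 : LinearMap.ker (φ ^ (2 * N)) ≤ LinearMap.ker (φ ^ N)) (x : M) (k : ℕ)
    (hk : (φ ^ k) x = 0) : (φ ^ N) x = 0 := by
  have h3 : (φ ^ ((k + 1) * N)) x = 0 := by
    have hle : k ≤ (k + 1) * N := by nlinarith
    exact Module.End.pow_map_zero_of_le hle hk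
  exact ker_pow_mul_le φ N h2 k h3

end Fitting

end Groth.Agent.Lib.Helper11.RC
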