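import Mathlib
import Groth.Prelude.Def_W4sga3xiixivxvCartan
import Groth.Agent.Lib.Helper11.RC3
import Groth.Agent.Lib.Helper11.RC12

set_option autoImplicit false
set_option linter.unusedSectionVars false
universe u
open scoped TensorProduct

namespace Groth.Agent.Lib.Helper11.RC

attribute [local instance 100] LieRing.ofAssociativeRing

section Assembly
open SGA3t2b
variable {A : Type u} [CommRing A] {L : Type u} [LieRing L] [LieAlgebra A L]
  [Module.Finite A L] [Module.Projective A L]

theorem isCartanRel_engel_of_fitting (a : L) (ha : IsQuasiRegular A L a) (N : ℕ) (hN : 1 ≤ N)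
    (h1 : LinearMap.range ((LieAlgebra.ad A L a) ^ N) ≤
      LinearMap.range ((LieAlgebra.ad A L a) ^ (2 * N)))
    (h2 : LinearMap.ker ((LieAlgebra.ad A L a) ^ (2 * N)) ≤
      LinearMap.ker ((LieAlgebra.ad A L a) ^ N)) :
    IsCartanRel (LieSubalgebra.engel A a) := by
  set φ := LieAlgebra.ad A L a with hφ
  have hmul : φ ^ (2 * N) = φ ^ N * φ ^ N := by rw [two_mul, pow_add]
  have hcompl : IsCompl (LinearMap.ker (φ ^ N)) (LinearMap.range (φ ^ N)) :=
    isCompl_ker_range (φ ^ N) (hmul ▸ h1) (hmul ▸ h2)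
  have hker : (LieSubalgebra.engel A a).toSubmodule = LinearMap.ker (φ ^ N) := by
    ext x
    rw [LieSubalgebra.mem_toSubmodule, LieSubalgebra.mem_engel_iff, LinearMap.mem_ker]
    exact ⟨fun ⟨k, hk⟩ => pow_apply_eq_zero_of_fitting φ N hN h2 x k hk, fun h => ⟨N, h⟩⟩
  have hprojR : Module.Projective A (LinearMap.range (φ ^ N)) :=
    Module.Projective.of_split (LinearMap.range (φ ^ N)).subtype
      ((LinearMap.range (φ ^ N)).projectionOnto (LinearMap.ker (φ ^ N)) hcompl.symm)
      (by ext x; simp)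
  have hproj : Module.Projective A (L ⧸ (LieSubalgebra.engel A a).toSubmodule) := by
    rw [hker]
    exact Module.Projective.of_equiv
      (Submodule.quotientEquivOfIsCompl _ _ hcompl).symm
  apply isCartanRel_engel a ha hproj
  intro y
  have hy : y ∈ LinearMap.ker (φ ^ N) ⊔ LinearMap.range (φ ^ N) := by
    rw [hcompl.sup_eq_top]; exact Submodule.mem_top
  obtain ⟨k, hk, _, ⟨w, rfl⟩, rfl⟩ := Submodule.mem_sup.mp hy
  refine ⟨(φ ^ (N - 1)) w, ?_⟩
  rw [← LieSubalgebra.mem_toSubmodule, hker]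
  have : ⁅a, (φ ^ (N - 1)) w⁆ = (φ ^ N) w := by
    conv_rhs => rw [← Nat.sub_add_cancel hN, pow_succ', Module.End.mul_apply]
    rfl
  rw [this, sub_add_cancel_right]
  exact Submodule.neg_mem _ hk

end Assembly

end Groth.Agent.Lib.Helper11.RC
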