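import Mathlib
import Groth.Prelude.Def_W4sga3xiixivxvCartan
import Groth.Agent.Lib.Helper11.RC5
import Groth.Agent.Lib.Helper11.RC6

set_option autoImplicit false
set_option linter.unusedSectionVars false
universe u
open scoped TensorProduct

namespace Groth.Agent.Lib.Helper11.RC

attribute [local instance 100] LieRing.ofAssociativeRing

section GenRetract
variable {R : Type*} [CommRing R] {M : Type*} [LieRing M] [LieAlgebra R M]
variable {V : Type*} [AddCommGroup V] [Module R V] [Module.Finite R V] [Module.Free R V]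

open Polynomial in
/-- General version of `FData.chi_map`. -/
theorem charpoly_retract_map [Module.Finite R M] (f : V →ₗ[R] M) (g : M →ₗ[R] V)
    (hfg : f ∘ₗ g = LinearMap.id) (a : M) (K : Type*) [Field K] [Algebra R K] :
    ((g ∘ₗ (LieAlgebra.ad R M a) ∘ₗ f).charpoly).map (algebraMap R K) =
      (LieAlgebra.ad K (K ⊗[R] M) ((1 : K) ⊗ₜ[R] a)).charpoly *
        X ^ (Module.finrank R V - Module.finrank K (K ⊗[R] M)) := by
  have hfgK : (f.baseChange K) ∘ₗ (g.baseChange K) = LinearMap.id := by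
    rw [← LinearMap.baseChange_comp, hfg, LinearMap.baseChange_id]
  have : Nontrivial R := (algebraMap R K).domain_nontrivial
  have had : LieAlgebra.ad K (K ⊗[R] M) ((1 : K) ⊗ₜ[R] a) =
      (LieAlgebra.ad R M a).baseChange K := LieModule.toEnd_baseChange R K M M a
  rw [← LinearMap.charpoly_baseChange, LinearMap.baseChange_comp,
    LinearMap.baseChange_comp, ← had, charpoly_retract _ _ hfgK]
  congr 2
  rw [Module.finrank_baseChange]

/-- Cayley–Hamilton transfers from `g ∘ φ ∘ f` to `φ`. -/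
theorem aeval_retract {W : Type*} [AddCommGroup W] [Module R W] (f : V →ₗ[R] W) (g : W →ₗ[R] V)
    (hfg : f ∘ₗ g = LinearMap.id) (φ : Module.End R W) (Q : Polynomial R) :
    f ∘ₗ (Polynomial.aeval (g ∘ₗ φ ∘ₗ f) Q) ∘ₗ g = Polynomial.aeval φ Q := by
  have hpow : ∀ k : ℕ, f ∘ₗ ((g ∘ₗ φ ∘ₗ f) ^ k) ∘ₗ g = φ ^ k := by
    intro k
    induction k with
    | zero =>
      simp only [pow_zero, Module.End.one_eq_id, LinearMap.id_comp]
      exact hfg
    | succ k ih =>
      rw [pow_succ, pow_succ, Module.End.mul_eq_comp, Module.End.mul_eq_comp]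
      calc f ∘ₗ (((g ∘ₗ φ ∘ₗ f) ^ k) ∘ₗ (g ∘ₗ φ ∘ₗ f)) ∘ₗ g
          = (f ∘ₗ ((g ∘ₗ φ ∘ₗ f) ^ k) ∘ₗ g) ∘ₗ φ ∘ₗ (f ∘ₗ g) := by
            simp only [LinearMap.comp_assoc]
        _ = (φ ^ k) ∘ₗ φ := by rw [ih, hfg, LinearMap.comp_id]
  induction Q using Polynomial.induction_on' with
  | add p q hp hq =>
    rw [map_add, map_add, LinearMap.add_comp, LinearMap.comp_add, hp, hq]
  | monomial k c =>
    rw [Polynomial.aeval_monomial, Polynomial.aeval_monomial]
    ext w
    have := LinearMap.congr_fun (hpow k) w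
    simp only [LinearMap.comp_apply, Module.algebraMap_end_apply, Module.End.mul_apply,
      map_smul] at this ⊢
    rw [this]

theorem aeval_ad_charpoly_retract (f : V →ₗ[R] M) (g : M →ₗ[R] V)
    (hfg : f ∘ₗ g = LinearMap.id) (a : M) :
    Polynomial.aeval (LieAlgebra.ad R M a)
      ((g ∘ₗ (LieAlgebra.ad R M a) ∘ₗ f).charpoly) = 0 := by
  rw [← aeval_retract f g hfg, LinearMap.aeval_self_charpoly, LinearMap.zero_comp,
    LinearMap.comp_zero]

end GenRetract

section Generic
variable {A : Type u} [CommRing A] {L : Type u} [LieRing L] [LieAlgebra A L] [Module.Finite A L]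
variable (d : FData A L)

/-- The linear family `v ↦ g ∘ ad (f v) ∘ f` on the free module `V = A^n`. -/
noncomputable def FData.PhiV : (Fin d.n → A) →ₗ[A] Module.End A (Fin d.n → A) := d.Phi ∘ₗ d.f

/-- Its base change to an `A`-algebra `B`. -/
noncomputable def FData.PhiVB (B : Type*) [CommRing B] [Algebra A B] :
    B ⊗[A] (Fin d.n → A) →ₗ[B] Module.End B (B ⊗[A] (Fin d.n → A)) :=
  LinearMap.tensorProduct A B (Fin d.n → A) (Fin d.n → A) ∘ₗ d.PhiV.baseChange B

theorem FData.PhiVB_apply (B : Type*) [CommRing B] [Algebra A B] (v : B ⊗[A] (Fin d.n → A)) :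
    d.PhiVB B v = (d.g.baseChange B) ∘ₗ
      LieAlgebra.ad B (B ⊗[A] L) (d.f.baseChange B v) ∘ₗ (d.f.baseChange B) := by
  induction v using TensorProduct.induction_on with
  | zero => simp
  | add x y hx hy =>
    rw [map_add, hx, hy, map_add, map_add, LinearMap.add_comp, LinearMap.comp_add]
  | tmul c v =>
    have had : LieAlgebra.ad B (B ⊗[A] L) ((1 : B) ⊗ₜ[A] (d.f v)) =
        (LieAlgebra.ad A L (d.f v)).baseChange B := LieModule.toEnd_baseChange A B L L (d.f v)
    have h1 : d.f.baseChange B (c ⊗ₜ[A] v) = c • ((1 : B) ⊗ₜ[A] (d.f v)) := by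
      rw [LinearMap.baseChange_tmul, TensorProduct.smul_tmul', smul_eq_mul, mul_one]
    rw [h1, map_smul, had, LinearMap.smul_comp, LinearMap.comp_smul]
    simp only [FData.PhiVB, FData.PhiV, LinearMap.comp_apply, LinearMap.baseChange_tmul,
      LinearMap.tensorProduct_apply, FData.Phi_apply]
    change c • LinearMap.baseChange B (d.g ∘ₗ (LieAlgebra.ad A L) (d.f v) ∘ₗ d.f) = _
    rw [LinearMap.baseChange_comp, LinearMap.baseChange_comp]

/-- The generic characteristic polynomial. -/
noncomputable def FData.P : Polynomial (MvPolynomial (Fin d.n) A) :=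
  LinearMap.polyCharpoly d.PhiV (Pi.basisFun A (Fin d.n))

theorem FData.polyCharpoly_PhiVB (B : Type*) [CommRing B] [Algebra A B] :
    LinearMap.polyCharpoly (d.PhiVB B) (Algebra.TensorProduct.basis B (Pi.basisFun A (Fin d.n))) =
      d.P.map (MvPolynomial.map (algebraMap A B)) :=
  LinearMap.polyCharpoly_baseChange d.PhiV (Pi.basisFun A (Fin d.n)) B

/-- Coefficients of the characteristic polynomial of `g ∘ ad (f v) ∘ f` over `B` are values of
the base-changed generic coefficients. -/
theorem FData.charpoly_coeff_eq (B : Type*) [CommRing B] [Algebra A B]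
    (v : B ⊗[A] (Fin d.n → A)) (i : ℕ) :
    ((d.g.baseChange B) ∘ₗ LieAlgebra.ad B (B ⊗[A] L) (d.f.baseChange B v) ∘ₗ
      (d.f.baseChange B)).charpoly.coeff i =
    MvPolynomial.eval ((Algebra.TensorProduct.basis B (Pi.basisFun A (Fin d.n))).repr v)
      ((d.P.coeff i).map (algebraMap A B)) := by
  rw [← d.PhiVB_apply, ← LinearMap.polyCharpoly_coeff_eval (d.PhiVB B)
    (Algebra.TensorProduct.basis B (Pi.basisFun A (Fin d.n))), d.polyCharpoly_PhiVB,
    Polynomial.coeff_map]

open Polynomial in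
/-- Over an infinite field, the generic coefficients below `rank + (n - dim)` vanish. -/
theorem FData.P_coeff_map_eq_zero (K : Type*) [Field K] [Infinite K] [Algebra A K] (i : ℕ)
    (hi : i < LieAlgebra.rank K (K ⊗[A] L) + (d.n - Module.finrank K (K ⊗[A] L))) :
    MvPolynomial.map (algebraMap A K) (d.P.coeff i) = 0 := by
  apply MvPolynomial.funext
  intro x
  rw [map_zero]
  set bK := Algebra.TensorProduct.basis K (Pi.basisFun A (Fin d.n)) with hbK
  set v := bK.repr.symm (Finsupp.equivFunOnFinite.symm x) with hv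
  have hx : (bK.repr v : Fin d.n → K) = x := by
    rw [hv, LinearEquiv.apply_symm_apply]
    rfl
  rw [← hx, ← d.charpoly_coeff_eq K v i,
    charpoly_retract _ _ (d.fg_baseChange K)]
  apply coeff_eq_zero_of_lt_natTrailingDegree
  rw [natTrailingDegree_mul_X_pow (LinearMap.charpoly_monic _).ne_zero]
  have h1 := LieAlgebra.rank_le_natTrailingDegree_charpoly_ad K (d.f.baseChange K v)
  have h2 : Module.finrank K (K ⊗[A] (Fin d.n → A)) = d.n := by
    rw [(TensorProduct.piScalarRight A K K (Fin d.n)).finrank_eq, Module.finrank_fin_fun]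
  rw [h2]
  omega

/-- At a prime `q`, the generic coefficients below `rank(q) + (n - dim(q))` have all their
coefficients in `q`. -/
theorem FData.coeff_P_coeff_mem (q : PrimeSpectrum A) (i : ℕ)
    (hi : i < LieAlgebra.rank q.asIdeal.ResidueField (q.asIdeal.ResidueField ⊗[A] L) +
      (d.n - Module.finrank q.asIdeal.ResidueField (q.asIdeal.ResidueField ⊗[A] L)))
    (m : Fin d.n →₀ ℕ) : MvPolynomial.coeff m (d.P.coeff i) ∈ q.asIdeal := by
  let K := AlgebraicClosure q.asIdeal.ResidueField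
  have h1 : LieAlgebra.rank K (K ⊗[A] L) =
      LieAlgebra.rank q.asIdeal.ResidueField (q.asIdeal.ResidueField ⊗[A] L) :=
    rank_tower A L q.asIdeal.ResidueField K
  have h2 : Module.finrank K (K ⊗[A] L) =
      Module.finrank q.asIdeal.ResidueField (q.asIdeal.ResidueField ⊗[A] L) :=
    finrank_tower A L q.asIdeal.ResidueField K
  have h3 := d.P_coeff_map_eq_zero K i (by rw [h1, h2]; exact hi)
  have h4 := congrArg (MvPolynomial.coeff m) h3
  rw [MvPolynomial.coeff_map, MvPolynomial.coeff_zero,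
    IsScalarTower.algebraMap_apply A q.asIdeal.ResidueField K,
    map_eq_zero_iff _ (algebraMap q.asIdeal.ResidueField K).injective] at h4
  exact Ideal.algebraMap_residueField_eq_zero.mp h4

theorem FData.C_mul_P_coeff_eq_zero [IsReduced A] (f : A) (r₀ d₀ : ℕ)
    (hconst : ∀ q : PrimeSpectrum A, f ∉ q.asIdeal →
      LieAlgebra.rank q.asIdeal.ResidueField (q.asIdeal.ResidueField ⊗[A] L) = r₀ ∧
      Module.finrank q.asIdeal.ResidueField (q.asIdeal.ResidueField ⊗[A] L) = d₀)
    (i : ℕ) (hi : i < r₀ + (d.n - d₀)) :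
    MvPolynomial.C f * d.P.coeff i = 0 := by
  ext m
  rw [MvPolynomial.coeff_C_mul, MvPolynomial.coeff_zero]
  apply IsNilpotent.eq_zero
  rw [← mem_nilradical, nilradical_eq_sInf, Ideal.mem_sInf]
  intro I hI
  have hIp : I.IsPrime := hI
  by_cases hf : f ∈ I
  · exact Ideal.mul_mem_right _ _ hf
  · apply Ideal.mul_mem_left
    obtain ⟨h1, h2⟩ := hconst ⟨I, hIp⟩ hf
    exact d.coeff_P_coeff_mem ⟨I, hIp⟩ i (by rw [h1, h2]; exact hi) m

theorem FData.smul_charpoly_coeff_eq_zero [IsReduced A] (f : A) (r₀ d₀ : ℕ)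
    (hconst : ∀ q : PrimeSpectrum A, f ∉ q.asIdeal →
      LieAlgebra.rank q.asIdeal.ResidueField (q.asIdeal.ResidueField ⊗[A] L) = r₀ ∧
      Module.finrank q.asIdeal.ResidueField (q.asIdeal.ResidueField ⊗[A] L) = d₀)
    (A' : Type*) [CommRing A'] [Algebra A A'] (a' : A' ⊗[A] L)
    (i : ℕ) (hi : i < r₀ + (d.n - d₀)) :
    algebraMap A A' f * ((d.g.baseChange A') ∘ₗ LieAlgebra.ad A' (A' ⊗[A] L) a' ∘ₗ
      (d.f.baseChange A')).charpoly.coeff i = 0 := by
  have hfg : d.f.baseChange A' (d.g.baseChange A' a') = a' :=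
    LinearMap.congr_fun (d.fg_baseChange A') a'
  have h1 := d.charpoly_coeff_eq A' (d.g.baseChange A' a') i
  rw [hfg] at h1
  rw [h1]
  have h2 := d.C_mul_P_coeff_eq_zero f r₀ d₀ hconst i hi
  have h3 := congrArg (fun p => MvPolynomial.eval
    ((Algebra.TensorProduct.basis A' (Pi.basisFun A (Fin d.n))).repr (d.g.baseChange A' a'))
    (MvPolynomial.map (algebraMap A A') p)) h2
  simp only [map_mul, MvPolynomial.map_C, MvPolynomial.eval_C, map_zero] at h3
  exact h3

end Generic

end Groth.Agent.Lib.Helper11.RC
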