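import Mathlib
import Groth.Prelude.Def_W4sga3xiixivxvCartan
import Groth.Agent.Lib.Helper11.RC13
import Groth.Agent.Lib.Helper11.RC14

set_option autoImplicit false
set_option linter.unusedSectionVars false
universe u
open scoped TensorProduct

namespace Groth.Agent.Lib.Helper11.RC

attribute [local instance 100] LieRing.ofAssociativeRing

section Reduced
open SGA3t2b
variable {A : Type u} [CommRing A] {L : Type u} [LieRing L] [LieAlgebra A L]
  [Module.Finite A L] [Module.Projective A L]

theorem FData.finrank_le (d : FData A L) (K : Type*) [Field K] [Algebra A K] :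
    Module.finrank K (K ⊗[A] L) ≤ d.n := by
  have hs : Function.Surjective (d.f.baseChange K) := by
    intro y
    exact ⟨d.g.baseChange K y, LinearMap.congr_fun (d.fg_baseChange K) y⟩
  have := LinearMap.finrank_le_finrank_of_surjective hs
  rw [(TensorProduct.piScalarRight A K K (Fin d.n)).finrank_eq, Module.finrank_fin_fun] at this
  exact this

open Polynomial in
/-- S8379. -/
theorem quasiRegular_isRegular_of_reduced [IsReduced A]
    (hC0 : ∀ p : PrimeSpectrum A, ∃ f : A, f ∉ p.asIdeal ∧ ∀ q : PrimeSpectrum A, f ∉ q.asIdeal →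
        LieAlgebra.rank q.asIdeal.ResidueField (q.asIdeal.ResidueField ⊗[A] L) =
          LieAlgebra.rank p.asIdeal.ResidueField (p.asIdeal.ResidueField ⊗[A] L))
    (A' : Type u) [CommRing A'] [Algebra A A'] (a' : A' ⊗[A] L)
    (ha' : IsQuasiRegular A' (A' ⊗[A] L) a') :
    IsRegularRel A' (A' ⊗[A] L) a' := by
  obtain ⟨d⟩ := exists_fData A L
  set N := d.n + 1 with hN
  set φ := LieAlgebra.ad A' (A' ⊗[A] L) a' with hφ
  set χ := ((d.g.baseChange A') ∘ₗ φ ∘ₗ (d.f.baseChange A')).charpoly with hχ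
  have hCH : aeval φ χ = 0 :=
    aeval_ad_charpoly_retract (d.f.baseChange A') (d.g.baseChange A') (d.fg_baseChange A') a'
  have hlocal : ∀ p' : PrimeSpectrum A', ∃ r : A', r ∉ p'.asIdeal ∧ ∀ x : A' ⊗[A] L,
      r • (φ ^ N) x ∈ LinearMap.range (φ ^ (2 * N)) ∧
        ((φ ^ (2 * N)) x = 0 → r • (φ ^ N) x = 0) := by
    intro p'
    set q := PrimeSpectrum.comap (algebraMap A A') p' with hq
    obtain ⟨f₁, hf₁, hr⟩ := hC0 q
    obtain ⟨f₂, hf₂, hd⟩ := exists_basicOpen_finrank_eq (L := L) q
    set r₀ := LieAlgebra.rank q.asIdeal.ResidueField (q.asIdeal.ResidueField ⊗[A] L) with hr₀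
    set d₀ := Module.finrank q.asIdeal.ResidueField (q.asIdeal.ResidueField ⊗[A] L) with hd₀
    set f := f₁ * f₂ with hf
    have hfq : f ∉ q.asIdeal := fun h => (q.isPrime.mem_or_mem h).elim hf₁ hf₂
    have hconst : ∀ q' : PrimeSpectrum A, f ∉ q'.asIdeal →
        LieAlgebra.rank q'.asIdeal.ResidueField (q'.asIdeal.ResidueField ⊗[A] L) = r₀ ∧
        Module.finrank q'.asIdeal.ResidueField (q'.asIdeal.ResidueField ⊗[A] L) = d₀ := by
      intro q' hq'
      exact ⟨hr q' fun h => hq' (Ideal.mul_mem_right _ _ h),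
        hd q' fun h => hq' (Ideal.mul_mem_left _ _ h)⟩
    set s := r₀ + (d.n - d₀) with hs
    set e := algebraMap A A' f with he
    have hep : e ∉ p'.asIdeal := hfq
    have hlow : ∀ i < s, e * χ.coeff i = 0 := fun i hi =>
      d.smul_charpoly_coeff_eq_zero f r₀ d₀ hconst A' a' i hi
    have hcs : ∀ p'' : PrimeSpectrum A', e ∉ p''.asIdeal → χ.coeff s ∉ p''.asIdeal := by
      intro p'' hep''
      obtain ⟨h1, h2⟩ := hconst (PrimeSpectrum.comap (algebraMap A A') p'') hep''
      obtain ⟨hb1, hb2, -⟩ := fibre_baseChange (A := A) L p''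
      have : Nontrivial A' := p''.nontrivial
      have hV : Module.finrank A' (A' ⊗[A] (Fin d.n → A)) = d.n := by
        rw [(TensorProduct.piScalarRight A A' A' (Fin d.n)).finrank_eq, Module.finrank_fin_fun]
      have hmap := charpoly_retract_map (d.f.baseChange A') (d.g.baseChange A')
        (d.fg_baseChange A') a' p''.asIdeal.ResidueField
      rw [hV, hb2, h2] at hmap
      have hreg := (LieAlgebra.isRegular_iff_natTrailingDegree_charpoly_eq_rank _ _).mp (ha' p'')
      rw [hb1, h1] at hreg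
      have hne : χ.map (algebraMap A' p''.asIdeal.ResidueField) ≠ 0 := by
        rw [hmap]
        exact mul_ne_zero (LinearMap.charpoly_monic _).ne_zero (pow_ne_zero _ X_ne_zero)
      have htd : (χ.map (algebraMap A' p''.asIdeal.ResidueField)).natTrailingDegree = s := by
        rw [hmap, natTrailingDegree_mul_X_pow (LinearMap.charpoly_monic _).ne_zero, hreg]
      have h3 := Polynomial.trailingCoeff_nonzero_iff_nonzero.mpr hne
      rw [Polynomial.trailingCoeff, htd, coeff_map] at h3
      exact fun hmem => h3 (Ideal.algebraMap_residueField_eq_zero.mpr hmem)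
    have hrad : e ∈ (Ideal.span {χ.coeff s}).radical := by
      rw [Ideal.radical_eq_sInf, Ideal.mem_sInf]
      rintro J ⟨hJ, hJp⟩
      by_contra heJ
      exact hcs ⟨J, hJp⟩ heJ (hJ (Ideal.subset_span rfl))
    obtain ⟨k, hk⟩ := hrad
    obtain ⟨u, hu⟩ := Ideal.mem_span_singleton'.mp hk
    obtain ⟨T, hT, hTeq⟩ := exists_comm_of_aeval_eq_zero φ χ hCH s e u k hlow hu.symm
    have hsN : s ≤ N := by
      have h1 : r₀ ≤ d₀ := LieAlgebra.rank_le_finrank _ _
      have h2 : d₀ ≤ d.n := d.finrank_le _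
      omega
    refine ⟨(e ^ (k + 1)) ^ N, fun h => hep (p'.isPrime.mem_of_pow_mem _
      (p'.isPrime.mem_of_pow_mem _ h)), fun x => ?_⟩
    exact local_fitting φ T hT (e ^ (k + 1)) s hTeq N hsN x
  obtain ⟨h1, h2⟩ := range_le_and_ker_le_of_local φ N hlocal
  exact ⟨ha', _, isCartanRel_engel_of_fitting a' ha' N (by omega) h1 h2,
    LieSubalgebra.self_mem_engel A' a'⟩

end Reduced

end Groth.Agent.Lib.Helper11.RC
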