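import Mathlib
import Groth.Prelude.Def_W4sga3xiixivxvCartan
import Groth.Agent.Lib.Helper11.RC7

set_option autoImplicit false
set_option linter.unusedSectionVars false
universe u
open scoped TensorProduct

namespace Groth.Agent.Lib.Helper11.RC

attribute [local instance 100] LieRing.ofAssociativeRing

section Primes2
variable {A : Type u} [CommRing A] (L : Type u) [LieRing L] [LieAlgebra A L] [Module.Finite A L]
variable {A' : Type u} [CommRing A'] [Algebra A A']

theorem isRegular_fibre_of_cancel (p' : PrimeSpectrum A') (a' : A' ⊗[A] L) (a : L)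
    (h : cancelEquiv A L A' p'.asIdeal.ResidueField
      ((1 : p'.asIdeal.ResidueField) ⊗ₜ[A'] a') = (1 : p'.asIdeal.ResidueField) ⊗ₜ[A] a) :
    LieAlgebra.IsRegular p'.asIdeal.ResidueField ((1 : p'.asIdeal.ResidueField) ⊗ₜ[A'] a') ↔
      LieAlgebra.IsRegular (PrimeSpectrum.comap (algebraMap A A') p').asIdeal.ResidueField
        ((1 : (PrimeSpectrum.comap (algebraMap A A') p').asIdeal.ResidueField) ⊗ₜ[A] a) := by
  set p := PrimeSpectrum.comap (algebraMap A A') p' with hp
  let _ : Algebra p.asIdeal.ResidueField p'.asIdeal.ResidueField :=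
    (Ideal.ResidueField.map p.asIdeal p'.asIdeal (algebraMap A A') rfl).toAlgebra
  have : IsScalarTower A p.asIdeal.ResidueField p'.asIdeal.ResidueField := by
    refine IsScalarTower.of_algebraMap_eq fun r => ?_
    rw [RingHom.algebraMap_toAlgebra, Ideal.ResidueField.map_algebraMap,
      ← IsScalarTower.algebraMap_apply]
  rw [← isRegular_cancel_iff A L A', h,
    isRegular_tower_iff A L p.asIdeal.ResidueField p'.asIdeal.ResidueField]

end Primes2

section Cover
open SGA3t2b
variable {A : Type u} [CommRing A] {L : Type u} [LieRing L] [LieAlgebra A L] [Module.Finite A L]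
variable {ι : Type u} [Fintype ι] [DecidableEq ι] (f : ι → A)

/-- The idempotent `e_i` of the product. -/
noncomputable def piE (i : ι) : (∀ j, Localization.Away (f j)) := Pi.single i 1

theorem piE_mul_ne {i j : ι} (h : i ≠ j) : piE f i * piE f j = 0 := by
  ext k
  simp only [piE, Pi.mul_apply, Pi.zero_apply]
  by_cases hk : k = i
  · subst hk
    rw [Pi.single_eq_of_ne h, mul_zero]
  · rw [Pi.single_eq_of_ne hk, zero_mul]

theorem piE_mul_self (i : ι) : piE f i * piE f i = piE f i := by
  ext k
  simp only [piE, Pi.mul_apply]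
  by_cases hk : k = i
  · subst hk
    rw [Pi.single_eq_same, mul_one]
  · rw [Pi.single_eq_of_ne hk, zero_mul]

theorem sum_piE : ∑ i, piE f i = 1 := by
  ext k
  simp only [piE, Finset.sum_apply, Pi.one_apply]
  rw [Finset.sum_eq_single k]
  · exact Pi.single_eq_same k 1
  · intro j _ hjk
    exact Pi.single_eq_of_ne (Ne.symm hjk) 1
  · intro h; exact absurd (Finset.mem_univ k) h

theorem exists_piE_notMem (p' : PrimeSpectrum (∀ j, Localization.Away (f j))) :
    ∃ i, piE f i ∉ p'.asIdeal := by
  by_contra h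
  push Not at h
  apply p'.isPrime.ne_top
  rw [Ideal.eq_top_iff_one, ← sum_piE f]
  exact Ideal.sum_mem _ fun i _ => h i

theorem algebraMap_piE_eq_one (p' : PrimeSpectrum (∀ j, Localization.Away (f j))) (i : ι)
    (hi : piE f i ∉ p'.asIdeal) :
    algebraMap _ p'.asIdeal.ResidueField (piE f i) = 1 := by
  have h1 : piE f i * (1 - piE f i) = 0 := by rw [mul_sub, mul_one, piE_mul_self, sub_self]
  have h2 : (1 - piE f i) ∈ p'.asIdeal :=
    (p'.isPrime.mem_or_mem (h1 ▸ p'.asIdeal.zero_mem)).resolve_left hi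
  have h3 := Ideal.algebraMap_residueField_eq_zero.mpr h2
  rw [map_sub, map_one, sub_eq_zero] at h3
  exact h3.symm

theorem algebraMap_piE_eq_zero (p' : PrimeSpectrum (∀ j, Localization.Away (f j))) (i j : ι)
    (hi : piE f i ∉ p'.asIdeal) (hij : i ≠ j) :
    algebraMap _ p'.asIdeal.ResidueField (piE f j) = 0 := by
  have h1 : piE f i * piE f j = 0 := piE_mul_ne f hij
  have h2 : piE f j ∈ p'.asIdeal :=
    (p'.isPrime.mem_or_mem (h1 ▸ p'.asIdeal.zero_mem)).resolve_left hi
  exact Ideal.algebraMap_residueField_eq_zero.mpr h2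

theorem notMem_comap_of_piE_notMem (p' : PrimeSpectrum (∀ j, Localization.Away (f j))) (i : ι)
    (hi : piE f i ∉ p'.asIdeal) :
    f i ∉ (PrimeSpectrum.comap (algebraMap A (∀ j, Localization.Away (f j))) p').asIdeal := by
  intro hmem
  apply hi
  have h1 : piE f i = algebraMap A (∀ j, Localization.Away (f j)) (f i) *
      Pi.single i (IsLocalization.Away.invSelf (f i)) := by
    ext k
    simp only [piE, Pi.mul_apply, Pi.algebraMap_apply]
    by_cases hk : k = i
    · subst hk
      rw [Pi.single_eq_same, Pi.single_eq_same]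
      exact (IsLocalization.Away.mul_invSelf (f k)).symm
    · rw [Pi.single_eq_of_ne hk, Pi.single_eq_of_ne hk, mul_zero]
  rw [h1]
  exact Ideal.mul_mem_right _ _ hmem

theorem isQuasiRegular_cover (a : ι → L)
    (hreg : ∀ i, ∀ q : PrimeSpectrum A, f i ∉ q.asIdeal →
      LieAlgebra.IsRegular q.asIdeal.ResidueField ((1 : q.asIdeal.ResidueField) ⊗ₜ[A] a i)) :
    IsQuasiRegular (∀ j, Localization.Away (f j)) ((∀ j, Localization.Away (f j)) ⊗[A] L)
      (∑ i, piE f i ⊗ₜ[A] a i) := by
  intro p'
  obtain ⟨i, hi⟩ := exists_piE_notMem f p'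
  rw [isRegular_fibre_of_cancel L p' _ (a i)]
  · exact hreg i _ (notMem_comap_of_piE_notMem f p' i hi)
  · rw [TensorProduct.tmul_sum, map_sum]
    simp only [cancelEquiv_tmul]
    rw [Finset.sum_eq_single i]
    · rw [Algebra.smul_def, mul_one, algebraMap_piE_eq_one f p' i hi]
    · intro j _ hji
      rw [Algebra.smul_def, mul_one, algebraMap_piE_eq_zero f p' i j hi (Ne.symm hji),
        TensorProduct.zero_tmul]
    · intro h; exact absurd (Finset.mem_univ i) h

omit [DecidableEq ι] in
theorem faithfullyFlat_cover (hf : Ideal.span (Set.range f) = ⊤) :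
    Module.FaithfullyFlat A (∀ j, Localization.Away (f j)) := by
  apply Module.FaithfullyFlat.of_comap_surjective
  intro q
  have : ∃ i, f i ∉ q.asIdeal := by
    by_contra h
    push Not at h
    apply q.isPrime.ne_top
    rw [eq_top_iff, ← hf, Ideal.span_le]
    rintro _ ⟨i, rfl⟩
    exact h i
  obtain ⟨i, hi⟩ := this
  have hq : q ∈ Set.range (PrimeSpectrum.comap (algebraMap A (Localization.Away (f i)))) := by
    rw [PrimeSpectrum.localization_away_comap_range (Localization.Away (f i)) (f i)]
    exact hi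
  obtain ⟨q', rfl⟩ := hq
  refine ⟨PrimeSpectrum.comap (Pi.evalRingHom (fun j => Localization.Away (f j)) i) q', ?_⟩
  rw [← PrimeSpectrum.comap_comp_apply]
  rfl

end Cover

end Groth.Agent.Lib.Helper11.RC
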