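import Mathlib
import Groth.Agent.Lib.Helper22.FibreDim

set_option autoImplicit false
set_option linter.unusedSectionVars false
set_option linter.unusedVariables false
set_option linter.style.haveILetI false

universe u

namespace Groth.Agent.Lib.Helper11.RelNN

open MvPolynomial

theorem main (A : Type u) [CommRing A]
    [IsDomain A] [IsDiscreteValuationRing A] (B : Type u) [CommRing B] [Algebra A B] [Module.Flat A B]
    (d : ℕ) [Algebra.FiniteType A (B ⧸ Ideal.map (algebraMap A B) (IsLocalRing.maximalIdeal A))]
    (hd : ringKrullDim (B ⧸ Ideal.map (algebraMap A B) (IsLocalRing.maximalIdeal A)) = d) :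
    ∃ φ : MvPolynomial (Fin d) A →ₐ[A] B, Function.Injective φ ∧
      (Function.Injective (MvPolynomial.eval₂Hom
          (Ideal.quotientMap (Ideal.map (algebraMap A B) (IsLocalRing.maximalIdeal A)) (algebraMap A B)
            Ideal.le_comap_map)
          (fun i => Ideal.Quotient.mk (Ideal.map (algebraMap A B) (IsLocalRing.maximalIdeal A))
            (φ (MvPolynomial.X i)))) ∧
        (MvPolynomial.eval₂Hom
          (Ideal.quotientMap (Ideal.map (algebraMap A B) (IsLocalRing.maximalIdeal A)) (algebraMap A B)
            Ideal.le_comap_map)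
          (fun i => Ideal.Quotient.mk (Ideal.map (algebraMap A B) (IsLocalRing.maximalIdeal A))
            (φ (MvPolynomial.X i)))).Finite) := by
  classical
  set m := IsLocalRing.maximalIdeal A with hm
  set mB := Ideal.map (algebraMap A B) m with hmB
  set q : A ⧸ m →+* B ⧸ mB := Ideal.quotientMap mB (algebraMap A B) Ideal.le_comap_map with hq
  letI : Field (A ⧸ m) := Ideal.Quotient.field m
  letI algk : Algebra (A ⧸ m) (B ⧸ mB) := q.toAlgebra
  haveI : IsScalarTower A (A ⧸ m) (B ⧸ mB) := IsScalarTower.of_algebraMap_eq (fun a => by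
    show algebraMap A (B ⧸ mB) a = q (Ideal.Quotient.mk m a)
    rw [hq, Ideal.quotientMap_mk]
    rfl)
  haveI : Algebra.FiniteType (A ⧸ m) (B ⧸ mB) :=
    Algebra.FiniteType.of_restrictScalars_finiteType A (A ⧸ m) (B ⧸ mB)
  haveI : Nontrivial (B ⧸ mB) := by
    by_contra hcon
    rw [not_nontrivial_iff_subsingleton] at hcon
    rw [ringKrullDim_eq_bot_of_subsingleton] at hd
    exact absurd hd (by simp)
  obtain ⟨s, g, hginj, hgfin⟩ := exists_finite_inj_algHom_of_fg (A ⧸ m) (B ⧸ mB)
  have hint : ∀ a : B ⧸ mB, g.toRingHom.IsIntegralElem a := fun a => hgfin.to_isIntegral a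
  have hs := Groth.Agent.Lib.Helper22.ringKrullDim_eq_of_finite_inj s g hginj hint
  have hsd : s = d := by
    rw [hd] at hs
    exact_mod_cast hs.symm
  subst hsd
  -- lifts
  have hlift : ∀ i : Fin s, ∃ b : B, Ideal.Quotient.mk mB b = g (X i) :=
    fun i => Ideal.Quotient.mk_surjective _
  choose b hb using hlift
  set φ : MvPolynomial (Fin s) A →ₐ[A] B := aeval b with hφ
  have hφX : ∀ i, φ (X i) = b i := fun i => by rw [hφ, aeval_X]
  have hev : (MvPolynomial.eval₂Hom q (fun i => Ideal.Quotient.mk mB (φ (MvPolynomial.X i)))) =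
      g.toRingHom := by
    apply MvPolynomial.ringHom_ext
    · intro c
      rw [eval₂Hom_C]
      show q c = g (C c)
      rw [← MvPolynomial.algebraMap_eq, AlgHom.commutes]
      rfl
    · intro i
      rw [eval₂Hom_X', hφX, hb]
      rfl
  refine ⟨φ, ?_, ?_, ?_⟩
  · -- injectivity
    rw [injective_iff_map_eq_zero]
    intro P hP
    by_contra hP0
    obtain ⟨ϖ, hϖ⟩ := IsDiscreteValuationRing.exists_irreducible A
    have hmϖ : m = Ideal.span {ϖ} := hϖ.maximalIdeal_eq
    set I : Ideal (MvPolynomial (Fin s) A) := Ideal.span {C ϖ} with hI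
    have hker : RingHom.ker (MvPolynomial.map (σ := Fin s) (Ideal.Quotient.mk m)) = I := by
      rw [MvPolynomial.ker_map, Ideal.mk_ker, hmϖ, Ideal.map_span, Set.image_singleton]
    have hIne : I ≠ ⊤ := by
      rw [← hker]
      exact RingHom.ker_ne_top _
    have hinf : ⨅ n : ℕ, I ^ n = ⊥ := Ideal.iInf_pow_eq_bot_of_isDomain I hIne
    have hex : ∃ n : ℕ, P ∉ I ^ n := by
      by_contra hcon
      push Not at hcon
      apply hP0
      have : P ∈ ⨅ n : ℕ, I ^ n := by
        rw [Ideal.mem_iInf]
        exact hcon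
      rwa [hinf] at this
    have hfind := Nat.find_spec hex
    have hmin := fun k => Nat.find_min (H := hex) (m := k)
    set n := Nat.find hex with hn
    have hn0 : n ≠ 0 := by
      intro h0
      rw [h0, pow_zero, Ideal.one_eq_top] at hfind
      exact hfind (Submodule.mem_top)
    obtain ⟨n', hn'⟩ := Nat.exists_eq_succ_of_ne_zero hn0
    have hmem : P ∈ I ^ n' := by
      by_contra hcon
      exact hmin n' (by omega) hcon
    rw [hI, Ideal.span_singleton_pow, Ideal.mem_span_singleton] at hmem
    obtain ⟨P', hP'⟩ := hmem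
    have hP'I : P' ∉ I := by
      intro hcon
      apply hfind
      rw [hn', pow_succ, hI, Ideal.span_singleton_pow, hP']
      rw [← hI]
      exact Ideal.mul_mem_mul (Ideal.mem_span_singleton_self _) hcon
    -- φ P' = 0
    have hφP' : φ P' = 0 := by
      have h1 : φ P = algebraMap A B (ϖ ^ n') * φ P' := by
        rw [hP', map_mul, map_pow, hφ, aeval_C]
        rw [map_pow]
      rw [hP] at h1
      have hne : (ϖ ^ n' : A) ≠ 0 := pow_ne_zero _ hϖ.ne_zero
      have h2 : (ϖ ^ n' : A) • φ P' = 0 := by
        rw [Algebra.smul_def, ← h1]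
      exact (smul_eq_zero.mp h2).resolve_left hne
    -- reduce mod ϖ
    have hcomp : (MvPolynomial.eval₂Hom q (fun i => Ideal.Quotient.mk mB (φ (MvPolynomial.X i)))).comp
        (MvPolynomial.map (Ideal.Quotient.mk m)) = (Ideal.Quotient.mk mB).comp φ.toRingHom := by
      apply MvPolynomial.ringHom_ext
      · intro c
        simp only [RingHom.comp_apply, map_C, eval₂Hom_C]
        rw [hq, Ideal.quotientMap_mk]
        congr 1
        show algebraMap A B c = φ (C c)
        rw [hφ, aeval_C]
      · intro i
        simp only [RingHom.comp_apply, map_X, eval₂Hom_X']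
        rfl
    have h3 := RingHom.congr_fun hcomp P'
    simp only [RingHom.comp_apply] at h3
    have h4 : φ.toRingHom P' = 0 := hφP'
    rw [h4, map_zero, hev] at h3
    have h5 : MvPolynomial.map (Ideal.Quotient.mk m) P' = 0 := by
      apply hginj
      rw [map_zero]
      exact h3
    apply hP'I
    rw [← hker, RingHom.mem_ker]
    exact h5
  · rw [hev]
    exact hginj
  · rw [hev]
    exact hgfin

end Groth.Agent.Lib.Helper11.RelNN
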