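import Mathlib
import Groth.Agent.Lib.Helper11.KedA5
import Groth.Agent.Lib.Helper9.DimTrdeg

/-!
# Relative Noether normalization with `N`-th power perturbations (helper11)
-/

set_option autoImplicit false
set_option linter.style.haveILetI false

universe u

namespace Groth.Agent.Lib.Helper11.RelNN

open MvPolynomial TensorProduct Groth.Agent.Lib.Helper11.Ked

/-- algebraic dependence of `d+1` elements from Krull dimension `≤ d`. -/
theorem algDep_of_ringKrullDim_le (k S : Type u) [Field k] [CommRing S] [Algebra k S]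
    [Algebra.FiniteType k S] (d : ℕ) (hd : ringKrullDim S ≤ d) : AlgDep k S d := by
  intro t
  by_contra hcon
  push_neg at hcon
  have hinj : Function.Injective (aeval t : MvPolynomial (Fin (d + 1)) k →ₐ[k] S) := by
    rw [injective_iff_map_eq_zero]
    intro G hG
    by_contra hne
    exact hcon G hne hG
  have h1 := Groth.Agent.Lib.Helper9.DimTrdeg.le_ringKrullDim_of_injective k S (d + 1) _ hinj
  have h2 : (((d + 1 : ℕ) : ℕ∞) : WithBot ℕ∞) ≤ ((d : ℕ) : WithBot ℕ∞) := h1.trans hd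
  have h3 : (d + 1 : ℕ) ≤ d := by exact_mod_cast h2
  omega

section two

variable {R : Type*} [CommRing R]
  {k₁ S₁ k₂ S₂ : Type*} [Field k₁] [CommRing S₁] [Algebra k₁ S₁] [Field k₂] [CommRing S₂]
  [Algebra k₂ S₂]

theorem exists_modification₂ (ρ₁ : R →+* S₁) (ρ₂ : R →+* S₂) {d : ℕ} (hdep₁ : AlgDep k₁ S₁ d)
    (hdep₂ : AlgDep k₂ S₂ d) (N : ℕ) (hN : 0 < N) (ws : List R) (x : Fin d → R) :
    ∃ x' : Fin d → R, (∀ i, x' i - x i ∈ Subring.closure (Set.range fun r : R => r ^ N)) ∧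
      (∀ c ∈ Algebra.adjoin k₁ (ρ₁ '' (Set.range x ∪ {w | w ∈ ws})),
        IsIntegral (Algebra.adjoin k₁ (Set.range fun i => ρ₁ (x' i))) c) ∧
      (∀ c ∈ Algebra.adjoin k₂ (ρ₂ '' (Set.range x ∪ {w | w ∈ ws})),
        IsIntegral (Algebra.adjoin k₂ (Set.range fun i => ρ₂ (x' i))) c) := by
  induction ws generalizing x with
  | nil =>
    refine ⟨x, fun i => by simp, fun c hc => ?_, fun c hc => ?_⟩
    · apply isIntegral_of_mem_subalgebra
      have h : ρ₁ '' (Set.range x ∪ {w | w ∈ ([] : List R)}) = Set.range fun i => ρ₁ (x i) := by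
        ext s; simp
      rwa [h] at hc
    · apply isIntegral_of_mem_subalgebra
      have h : ρ₂ '' (Set.range x ∪ {w | w ∈ ([] : List R)}) = Set.range fun i => ρ₂ (x i) := by
        ext s; simp
      rwa [h] at hc
  | cons w ws ih =>
    obtain ⟨G₁, hG₁, hGt₁⟩ := hdep₁ (Fin.cons (ρ₁ w) (fun i => ρ₁ (x i)))
    obtain ⟨G₂, hG₂, hGt₂⟩ := hdep₂ (Fin.cons (ρ₂ w) (fun i => ρ₂ (x i)))
    set b := N * (G₁.totalDegree + G₂.totalDegree + 2) with hb
    have hb₁ : G₁.totalDegree + 2 ≤ b := by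
      rw [hb]
      calc G₁.totalDegree + 2 ≤ G₁.totalDegree + G₂.totalDegree + 2 := by omega
        _ ≤ N * (G₁.totalDegree + G₂.totalDegree + 2) := Nat.le_mul_of_pos_left _ hN
    have hb₂ : G₂.totalDegree + 2 ≤ b := by
      rw [hb]
      calc G₂.totalDegree + 2 ≤ G₁.totalDegree + G₂.totalDegree + 2 := by omega
        _ ≤ N * (G₁.totalDegree + G₂.totalDegree + 2) := Nat.le_mul_of_pos_left _ hN
    set x₁ : Fin d → R := fun i => x i - w ^ (b ^ (i.1 + 1)) with hx₁
    have hint₁ : IsIntegral (Algebra.adjoin k₁ (Set.range fun i => ρ₁ (x₁ i))) (ρ₁ w) := by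
      have h := isIntegral_of_aeval_eq_zero (b := b) G₁ hG₁ hb₁
        (Fin.cons (ρ₁ w) (fun i => ρ₁ (x i)) : Fin (d + 1) → S₁) hGt₁
      have hr : (Set.range fun i : Fin d =>
          (Fin.cons (ρ₁ w) (fun i => ρ₁ (x i)) : Fin (d + 1) → S₁) i.succ -
            (Fin.cons (ρ₁ w) (fun i => ρ₁ (x i)) : Fin (d + 1) → S₁) 0 ^ b ^ (i.1 + 1)) =
          Set.range fun i => ρ₁ (x₁ i) := by
        congr 1
        funext i
        rw [Fin.cons_succ, Fin.cons_zero, hx₁, map_sub, map_pow]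
      rw [hr] at h
      exact h
    have hint₂ : IsIntegral (Algebra.adjoin k₂ (Set.range fun i => ρ₂ (x₁ i))) (ρ₂ w) := by
      have h := isIntegral_of_aeval_eq_zero (b := b) G₂ hG₂ hb₂
        (Fin.cons (ρ₂ w) (fun i => ρ₂ (x i)) : Fin (d + 1) → S₂) hGt₂
      have hr : (Set.range fun i : Fin d =>
          (Fin.cons (ρ₂ w) (fun i => ρ₂ (x i)) : Fin (d + 1) → S₂) i.succ -
            (Fin.cons (ρ₂ w) (fun i => ρ₂ (x i)) : Fin (d + 1) → S₂) 0 ^ b ^ (i.1 + 1)) =
          Set.range fun i => ρ₂ (x₁ i) := by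
        congr 1
        funext i
        rw [Fin.cons_succ, Fin.cons_zero, hx₁, map_sub, map_pow]
      rw [hr] at h
      exact h
    obtain ⟨x', hx'0, hx'1, hx'2⟩ := ih x₁
    have hNb : ∀ i : Fin d, N ∣ b ^ (i.1 + 1) := fun i =>
      Dvd.dvd.pow (Dvd.intro _ rfl) (Nat.succ_ne_zero _)
    refine ⟨x', fun i => ?_, fun c hc => ?_, fun c hc => ?_⟩
    · have h1 : x' i - x i = (x' i - x₁ i) - w ^ (b ^ (i.1 + 1)) := by
        simp only [hx₁]; ring
      rw [h1]
      refine Subring.sub_mem _ (hx'0 i) ?_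
      obtain ⟨e, he⟩ := hNb i
      rw [he, mul_comm, pow_mul]
      exact Subring.subset_closure ⟨w ^ e, rfl⟩
    · have hS₁ : ∀ s ∈ Algebra.adjoin k₁ (Set.range fun i => ρ₁ (x₁ i)),
          IsIntegral (Algebra.adjoin k₁ (Set.range fun i => ρ₁ (x' i))) s := by
        intro s hs
        refine hx'1 s (Algebra.adjoin_mono ?_ hs)
        rintro _ ⟨i, rfl⟩
        exact ⟨x₁ i, Or.inl ⟨i, rfl⟩, rfl⟩
      have hwint : IsIntegral (Algebra.adjoin k₁ (Set.range fun i => ρ₁ (x' i))) (ρ₁ w) :=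
        isIntegral_subalgebra_trans _ _ hS₁ hint₁
      refine isIntegral_of_mem_adjoin _ _ ?_ hc
      rintro _ ⟨t, (⟨i, rfl⟩ | ht), rfl⟩
      · have h2 : x i = x₁ i + w ^ (b ^ (i.1 + 1)) := by simp only [hx₁]; ring
        rw [h2, map_add, map_pow]
        refine IsIntegral.add ?_ (hwint.pow _)
        exact hS₁ _ (Algebra.subset_adjoin ⟨i, rfl⟩)
      · rcases List.mem_cons.mp ht with rfl | ht
        · exact hwint
        · exact hx'1 _ (Algebra.subset_adjoin ⟨t, Or.inr ht, rfl⟩)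
    · have hS₂ : ∀ s ∈ Algebra.adjoin k₂ (Set.range fun i => ρ₂ (x₁ i)),
          IsIntegral (Algebra.adjoin k₂ (Set.range fun i => ρ₂ (x' i))) s := by
        intro s hs
        refine hx'2 s (Algebra.adjoin_mono ?_ hs)
        rintro _ ⟨i, rfl⟩
        exact ⟨x₁ i, Or.inl ⟨i, rfl⟩, rfl⟩
      have hwint : IsIntegral (Algebra.adjoin k₂ (Set.range fun i => ρ₂ (x' i))) (ρ₂ w) :=
        isIntegral_subalgebra_trans _ _ hS₂ hint₂
      refine isIntegral_of_mem_adjoin _ _ ?_ hc
      rintro _ ⟨t, (⟨i, rfl⟩ | ht), rfl⟩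
      · have h2 : x i = x₁ i + w ^ (b ^ (i.1 + 1)) := by simp only [hx₁]; ring
        rw [h2, map_add, map_pow]
        refine IsIntegral.add ?_ (hwint.pow _)
        exact hS₂ _ (Algebra.subset_adjoin ⟨i, rfl⟩)
      · rcases List.mem_cons.mp ht with rfl | ht
        · exact hwint
        · exact hx'2 _ (Algebra.subset_adjoin ⟨t, Or.inr ht, rfl⟩)

end two

/-- a map from a polynomial ring over a field to a finite type algebra which is integral over
its image is finite. -/
theorem finite_aeval_of_isIntegral {k : Type*} [Field k] {C : Type*} [CommRing C] [Algebra k C]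
    [Algebra.FiniteType k C] {n : ℕ} (x' : Fin n → C)
    (hint : ∀ c : C, IsIntegral (Algebra.adjoin k (Set.range x')) c) :
    (aeval x' : MvPolynomial (Fin n) k →ₐ[k] C).toRingHom.Finite := by
  set φ : MvPolynomial (Fin n) k →ₐ[k] C := aeval x' with hφ
  have hInt : φ.toRingHom.IsIntegral := fun c =>
    isIntegralElem_of_isIntegral_adjoin x' c (hint c)
  have hcomp : algebraMap k C = φ.toRingHom.comp (algebraMap k (MvPolynomial (Fin n) k)) := by
    ext a; simp
  have hft : φ.toRingHom.FiniteType := by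
    have h1 : (algebraMap k C).FiniteType := RingHom.finiteType_algebraMap.mpr inferInstance
    rw [hcomp] at h1
    exact h1.of_comp_finiteType
  exact hInt.to_finite hft

/-- generators of a base change. -/
theorem adjoin_image_tmul_eq_top (V R k : Type*) [CommRing V] [CommRing R] [Algebra V R]
    [CommRing k] [Algebra V k] (s : Set R) (hs : Algebra.adjoin V s = ⊤) :
    Algebra.adjoin k ((fun r : R => (1 : k) ⊗ₜ[V] r) '' s) = ⊤ := by
  rw [Algebra.eq_top_iff]
  intro z
  set S := Algebra.adjoin k ((fun r : R => (1 : k) ⊗ₜ[V] r) '' s) with hS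
  have h1 : ∀ r : R, (1 : k) ⊗ₜ[V] r ∈ S := by
    intro r
    have hr : r ∈ Algebra.adjoin V s := by rw [hs]; exact Algebra.mem_top
    induction hr using Algebra.adjoin_induction with
    | mem x hx => exact Algebra.subset_adjoin ⟨x, hx, rfl⟩
    | algebraMap v =>
      have h2 : (1 : k) ⊗ₜ[V] (algebraMap V R v) = algebraMap k (k ⊗[V] R) (algebraMap V k v) := by
        rw [Algebra.TensorProduct.algebraMap_apply, Algebra.algebraMap_self_apply,
          Algebra.algebraMap_eq_smul_one, Algebra.algebraMap_eq_smul_one,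
          TensorProduct.tmul_smul, TensorProduct.smul_tmul']
      rw [h2]
      exact Subalgebra.algebraMap_mem _ _
    | add x y _ _ hx hy =>
      rw [TensorProduct.tmul_add]
      exact Subalgebra.add_mem _ hx hy
    | mul x y _ _ hx hy =>
      have h3 : (1 : k) ⊗ₜ[V] (x * y) = ((1 : k) ⊗ₜ[V] x) * ((1 : k) ⊗ₜ[V] y) := by
        rw [Algebra.TensorProduct.tmul_mul_tmul, mul_one]
      rw [h3]
      exact Subalgebra.mul_mem _ hx hy
  induction z using TensorProduct.induction_on with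
  | zero => exact Subalgebra.zero_mem _
  | tmul a b =>
    have h4 : (a ⊗ₜ[V] b : k ⊗[V] R) = a • ((1 : k) ⊗ₜ[V] b) := by
      rw [TensorProduct.smul_tmul', smul_eq_mul, mul_one]
    rw [h4]
    exact Subalgebra.smul_mem _ (h1 b) a
  | add x y hx hy => exact Subalgebra.add_mem _ hx hy

/-- **Relative Noether normalization** with `N`-th power perturbations, for two base changes
to fields. -/
theorem main (V : Type u) [CommRing V] (R : Type u) [CommRing R] [Algebra V R]
    [Algebra.FiniteType V R] (k K : Type u) [Field k] [Field K] [Algebra V k] [Algebra V K]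
    (d : ℕ) (hs : ringKrullDim (k ⊗[V] R) ≤ d) (hη : ringKrullDim (K ⊗[V] R) ≤ d)
    (x : Fin d → R) (N : ℕ) (hN : 1 ≤ N) :
    ∃ y : Fin d → R, (∀ i, y i ∈ Subring.closure (Set.range fun r : R => r ^ N)) ∧
      (aeval (fun i => (1 : k) ⊗ₜ[V] (x i + y i)) :
          MvPolynomial (Fin d) k →ₐ[k] k ⊗[V] R).toRingHom.Finite ∧
      (aeval (fun i => (1 : K) ⊗ₜ[V] (x i + y i)) :
          MvPolynomial (Fin d) K →ₐ[K] K ⊗[V] R).toRingHom.Finite := by
  classical
  obtain ⟨s, hs'⟩ := (Algebra.FiniteType.out : (⊤ : Subalgebra V R).FG)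
  let ρ₁ : R →+* k ⊗[V] R := (Algebra.TensorProduct.includeRight : R →ₐ[V] k ⊗[V] R).toRingHom
  let ρ₂ : R →+* K ⊗[V] R := (Algebra.TensorProduct.includeRight : R →ₐ[V] K ⊗[V] R).toRingHom
  have hρ₁ : ∀ r, ρ₁ r = (1 : k) ⊗ₜ[V] r := fun r => rfl
  have hρ₂ : ∀ r, ρ₂ r = (1 : K) ⊗ₜ[V] r := fun r => rfl
  obtain ⟨x', hx'0, hx'1, hx'2⟩ := exists_modification₂ ρ₁ ρ₂
    (algDep_of_ringKrullDim_le k (k ⊗[V] R) d hs) (algDep_of_ringKrullDim_le K (K ⊗[V] R) d hη)
    N hN s.toList x
  refine ⟨fun i => x' i - x i, hx'0, ?_, ?_⟩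
  · have he : (fun i => (1 : k) ⊗ₜ[V] (x i + (x' i - x i))) = fun i => ρ₁ (x' i) := by
      funext i; rw [hρ₁]; congr 1; ring
    rw [he]
    apply finite_aeval_of_isIntegral
    intro c
    apply hx'1
    have htop : Algebra.adjoin k (ρ₁ '' (Set.range x ∪ {w | w ∈ s.toList})) = ⊤ := by
      rw [eq_top_iff, ← adjoin_image_tmul_eq_top V R k (s : Set R) hs']
      apply Algebra.adjoin_mono
      rintro _ ⟨r, hr, rfl⟩
      exact ⟨r, Or.inr (by simpa using hr), rfl⟩
    rw [htop]; exact Algebra.mem_top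
  · have he : (fun i => (1 : K) ⊗ₜ[V] (x i + (x' i - x i))) = fun i => ρ₂ (x' i) := by
      funext i; rw [hρ₂]; congr 1; ring
    rw [he]
    apply finite_aeval_of_isIntegral
    intro c
    apply hx'2
    have htop : Algebra.adjoin K (ρ₂ '' (Set.range x ∪ {w | w ∈ s.toList})) = ⊤ := by
      rw [eq_top_iff, ← adjoin_image_tmul_eq_top V R K (s : Set R) hs']
      apply Algebra.adjoin_mono
      rintro _ ⟨r, hr, rfl⟩
      exact ⟨r, Or.inr (by simpa using hr), rfl⟩
    rw [htop]; exact Algebra.mem_top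

end Groth.Agent.Lib.Helper11.RelNN
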