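import Mathlib
import Groth.Agent.Lib.Helper11.RelNN1

/-!
# η-étale relative Noether normalization (helper11)
-/

set_option autoImplicit false
set_option linter.style.haveILetI false

universe u

namespace Groth.Agent.Lib.Helper11.RelNN

open MvPolynomial TensorProduct KaehlerDifferential Groth.Agent.Lib.Helper11.Ked

/-- variant of `main` with algebraic dependence hypotheses. -/
theorem main' (V : Type u) [CommRing V] (R : Type u) [CommRing R] [Algebra V R]
    [Algebra.FiniteType V R] (k K : Type u) [Field k] [Field K] [Algebra V k] [Algebra V K]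
    (d : ℕ) (hs : AlgDep k (k ⊗[V] R) d) (hη : AlgDep K (K ⊗[V] R) d)
    (x : Fin d → R) (N : ℕ) (hN : 1 ≤ N) :
    ∃ y : Fin d → R, (∀ i, y i ∈ Subring.closure (Set.range fun r : R => r ^ N)) ∧
      (aeval (fun i => (1 : k) ⊗ₜ[V] (x i + y i)) :
          MvPolynomial (Fin d) k →ₐ[k] k ⊗[V] R).toRingHom.Finite ∧
      (aeval (fun i => (1 : K) ⊗ₜ[V] (x i + y i)) :
          MvPolynomial (Fin d) K →ₐ[K] K ⊗[V] R).toRingHom.Finite := by
  classical
  obtain ⟨s, hs'⟩ := (Algebra.FiniteType.out : (⊤ : Subalgebra V R).FG)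
  let ρ₁ : R →+* k ⊗[V] R := (Algebra.TensorProduct.includeRight : R →ₐ[V] k ⊗[V] R).toRingHom
  let ρ₂ : R →+* K ⊗[V] R := (Algebra.TensorProduct.includeRight : R →ₐ[V] K ⊗[V] R).toRingHom
  have hρ₁ : ∀ r, ρ₁ r = (1 : k) ⊗ₜ[V] r := fun r => rfl
  have hρ₂ : ∀ r, ρ₂ r = (1 : K) ⊗ₜ[V] r := fun r => rfl
  obtain ⟨x', hx'0, hx'1, hx'2⟩ := exists_modification₂ ρ₁ ρ₂ hs hη N hN s.toList x
  refine ⟨fun i => x' i - x i, hx'0, ?_, ?_⟩
  · have he : (fun i => (1 : k) ⊗ₜ[V] (x i + (x' i - x i))) = fun i => ρ₁ (x' i) := by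
      funext i; rw [hρ₁]; congr 1; ring
    rw [he]
    apply finite_aeval_of_isIntegral
    intro c
    apply hx'1
    have htop : Algebra.adjoin k (ρ₁ '' (Set.range x ∪ {w | w ∈ s.toList})) = ⊤ := by
      rw [eq_top_iff, ← adjoin_image_tmul_eq_top V R k (s : Set R) hs']
      apply Algebra.adjoin_mono
      rintro _ ⟨r, hr, rfl⟩
      exact ⟨r, Or.inr (by simpa using hr), rfl⟩
    rw [htop]; exact Algebra.mem_top
  · have he : (fun i => (1 : K) ⊗ₜ[V] (x i + (x' i - x i))) = fun i => ρ₂ (x' i) := by
      funext i; rw [hρ₂]; congr 1; ring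
    rw [he]
    apply finite_aeval_of_isIntegral
    intro c
    apply hx'2
    have htop : Algebra.adjoin K (ρ₂ '' (Set.range x ∪ {w | w ∈ s.toList})) = ⊤ := by
      rw [eq_top_iff, ← adjoin_image_tmul_eq_top V R K (s : Set R) hs']
      apply Algebra.adjoin_mono
      rintro _ ⟨r, hr, rfl⟩
      exact ⟨r, Or.inr (by simpa using hr), rfl⟩
    rw [htop]; exact Algebra.mem_top

section Basis

variable (k : Type u) [CommRing k] (n : ℕ) (C : Type u) [CommRing C]
  [Algebra (MvPolynomial (Fin n) k) C] [Algebra k C] [IsScalarTower k (MvPolynomial (Fin n) k) C]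
  [Algebra.Etale (MvPolynomial (Fin n) k) C]

/-- the differentials of the coordinates form a basis of `Ω[C⁄k]` for `C` étale over `k[X]`. -/
noncomputable def etaleBasis : Module.Basis (Fin n) C Ω[C⁄k] :=
  ((mvPolynomialBasis k (Fin n)).baseChange C).map
    (tensorKaehlerEquivOfFormallyEtale k (MvPolynomial (Fin n) k) C)

theorem etaleBasis_apply (i : Fin n) :
    etaleBasis k n C i = D k C (algebraMap (MvPolynomial (Fin n) k) C (X i)) := by
  rw [etaleBasis, Module.Basis.map_apply, Module.Basis.baseChange_apply,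
    tensorKaehlerEquivOfFormallyEtale_apply, mapBaseChange_tmul, one_smul,
    mvPolynomialBasis_apply, map_D]

end Basis

/-- a matrix congruent to a scalar matrix `c • 1` modulo `ϖ` with `c` coprime to `ϖ` has
determinant coprime to `ϖ`. -/
theorem isCoprime_det {R : Type*} [CommRing R] {d : ℕ} (ϖ c : R) (hc : IsCoprime c ϖ)
    (A : Matrix (Fin d) (Fin d) R)
    (hA : ∀ i j, ∃ g, A i j = (if i = j then c else 0) + ϖ * g) : IsCoprime A.det ϖ := by
  let q : R →+* R ⧸ Ideal.span {ϖ} := Ideal.Quotient.mk _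
  have hqϖ : q ϖ = 0 := Ideal.Quotient.eq_zero_iff_mem.mpr (Ideal.mem_span_singleton_self ϖ)
  have h1 : q.mapMatrix A = (q c) • (1 : Matrix (Fin d) (Fin d) (R ⧸ Ideal.span {ϖ})) := by
    ext i j
    obtain ⟨g, hg⟩ := hA i j
    rw [RingHom.mapMatrix_apply, Matrix.map_apply, hg, map_add, map_mul, hqϖ, zero_mul, add_zero,
      Matrix.smul_apply, Matrix.one_apply]
    split_ifs <;> simp
  have h2 : q A.det = q (c ^ d) := by
    rw [RingHom.map_det, h1, Matrix.det_smul, Matrix.det_one, mul_one, Fintype.card_fin, map_pow]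
  have h3 : A.det - c ^ d ∈ Ideal.span {ϖ} := by
    rw [← Ideal.Quotient.eq_zero_iff_mem, map_sub, sub_eq_zero]
    exact h2
  obtain ⟨g, hg⟩ := Ideal.mem_span_singleton.mp h3
  have h4 : A.det = c ^ d + ϖ * g := by rw [← hg]; ring
  rw [h4]
  exact (hc.pow_left).add_mul_left_left g

/-- change of basis by a matrix with invertible determinant, up to a unit. -/
theorem basis_of_matrix {T M : Type*} [CommRing T] [AddCommGroup M] [Module T M] {d : ℕ}
    (b : Module.Basis (Fin d) T M) (v : Fin d → M) (c : T) (hc : IsUnit c)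
    (B : Matrix (Fin d) (Fin d) T) (hB : IsUnit B.det)
    (h : ∀ i, c • v i = ∑ j, B i j • b j) :
    LinearIndependent T v ∧ Submodule.span T (Set.range v) = ⊤ := by
  classical
  have hBt : IsUnit B.transpose.det := by rwa [Matrix.det_transpose]
  let L : M ≃ₗ[T] M := Matrix.toLinearEquiv b B.transpose hBt
  have hL : ∀ i, L (b i) = c • v i := by
    intro i
    rw [h i]
    change Matrix.toLin b b B.transpose (b i) = _
    rw [Matrix.toLin_self]
    simp only [Matrix.transpose_apply]
  let w : Fin d → Tˣ := fun _ => hc.unit⁻¹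
  let b₂ : Module.Basis (Fin d) T M := (b.unitsSMul w).map L
  have hb₂ : ∀ i, b₂ i = v i := by
    intro i
    rw [Module.Basis.map_apply, Module.Basis.unitsSMul_apply, Units.smul_def, map_smul, hL,
      smul_smul]
    have : ((w i : Tˣ) : T) * c = 1 := by
      change ((hc.unit⁻¹ : Tˣ) : T) * c = 1
      exact hc.val_inv_mul
    rw [this, one_smul]
  have hv : v = b₂ := funext fun i => (hb₂ i).symm
  rw [hv]
  exact ⟨b₂.linearIndependent, b₂.span_eq⟩

section Pert

variable (V R : Type u) [CommRing V] [CommRing R] [Algebra V R] [Algebra.FiniteType V R]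
  (d : ℕ) (ϖ a : R) (x' : Fin d → R)

theorem exists_matrix_relation
    (het : ((algebraMap R (Localization.Away (a * ϖ))).comp
        (aeval x' : MvPolynomial (Fin d) V →ₐ[V] R).toRingHom).Etale) :
    ∃ e : ℕ, ∀ (N : ℕ) (u : R), (N : R) = ϖ ^ (e + 1) * u → ∀ y : Fin d → R,
      (∀ i, y i ∈ Subring.closure (Set.range fun r : R => r ^ N)) →
      ∃ A : Matrix (Fin d) (Fin d) R,
        (∀ i j, ∃ g, A i j = (if i = j then a ^ e else 0) + ϖ * g) ∧
        ∀ i, (algebraMap R (Localization.Away (a * ϖ)) a) ^ e •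
            D V (Localization.Away (a * ϖ))
              (algebraMap R (Localization.Away (a * ϖ)) (x' i + y i)) =
          ∑ j, algebraMap R (Localization.Away (a * ϖ)) (A i j) •
            D V (Localization.Away (a * ϖ)) (algebraMap R (Localization.Away (a * ϖ)) (x' j)) := by
  classical
  set P := MvPolynomial (Fin d) V with hP
  set C' := Localization.Away (a * ϖ) with hC'
  set φ' : P →ₐ[V] R := aeval x' with hφ'
  set ι : R →+* C' := algebraMap R C' with hι
  letI algPC' : Algebra P C' := (ι.comp φ'.toRingHom).toAlgebra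
  haveI etC' : Algebra.Etale P C' := het
  haveI : IsScalarTower V P C' := IsScalarTower.of_algebraMap_eq (fun v => by
    change algebraMap V C' v = ι (φ' (algebraMap V P v))
    rw [φ'.commutes, hι, ← IsScalarTower.algebraMap_apply])
  let b' := etaleBasis V d C'
  have hb' : ∀ i, b' i = D V C' (ι (x' i)) := by
    intro i
    rw [etaleBasis_apply]
    congr 1
    change ι (φ' (X i)) = _
    rw [hφ', aeval_X]
  have hϖu : IsUnit (ι ϖ) := IsLocalization.Away.isUnit_of_dvd (a * ϖ) ⟨a, by ring⟩
  -- generators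
  obtain ⟨s, hs⟩ := (Algebra.FiniteType.out : (⊤ : Subalgebra V R).FG)
  let coeffs : Finset C' :=
    (s ×ˢ (Finset.univ : Finset (Fin d))).image (fun zj => b'.repr (D V C' (ι zj.1)) zj.2)
  obtain ⟨⟨_, e, rfl⟩, he⟩ :=
    IsLocalization.exist_integer_multiples_of_finset (Submonoid.powers (a * ϖ)) coeffs
  refine ⟨e, ?_⟩
  -- the predicate
  let InW : Ω[C'⁄V] → Prop := fun ω => ∀ j, ∃ r : R, ι r = ι (a * ϖ) ^ e * b'.repr ω j
  have hW0 : InW 0 := fun j => ⟨0, by simp⟩
  have hWadd : ∀ ω₁ ω₂, InW ω₁ → InW ω₂ → InW (ω₁ + ω₂) := by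
    intro ω₁ ω₂ h₁ h₂ j
    obtain ⟨r₁, hr₁⟩ := h₁ j
    obtain ⟨r₂, hr₂⟩ := h₂ j
    refine ⟨r₁ + r₂, ?_⟩
    rw [map_add, hr₁, hr₂, map_add, Finsupp.add_apply, mul_add]
  have hWneg : ∀ ω, InW ω → InW (-ω) := by
    intro ω h j
    obtain ⟨r, hr⟩ := h j
    refine ⟨-r, ?_⟩
    rw [map_neg, hr, map_neg, Finsupp.neg_apply, mul_neg]
  have hWsmul : ∀ (r : R) ω, InW ω → InW (ι r • ω) := by
    intro r ω h j
    obtain ⟨r₁, hr₁⟩ := h j
    refine ⟨r * r₁, ?_⟩
    rw [map_mul, hr₁, map_smul, Finsupp.smul_apply, smul_eq_mul]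
    ring
  -- every differential of an element of `R` is in `W`
  have hWD : ∀ r : R, InW (D V C' (ι r)) := by
    intro r
    have hr : r ∈ Algebra.adjoin V (s : Set R) := by rw [hs]; exact Algebra.mem_top
    induction hr using Algebra.adjoin_induction with
    | mem z hz =>
      intro j
      have hmem : b'.repr (D V C' (ι z)) j ∈ coeffs :=
        Finset.mem_image.mpr ⟨(z, j), Finset.mem_product.mpr ⟨hz, Finset.mem_univ _⟩, rfl⟩
      obtain ⟨r, hr⟩ := he _ hmem
      refine ⟨r, ?_⟩
      rw [hr, Algebra.smul_def, map_pow]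
    | algebraMap v =>
      have h0 : D V C' (ι (algebraMap V R v)) = 0 := by
        rw [hι, ← IsScalarTower.algebraMap_apply]
        exact (D V C').map_algebraMap v
      rw [h0]; exact hW0
    | add r₁ r₂ _ _ h₁ h₂ =>
      rw [map_add, map_add]; exact hWadd _ _ h₁ h₂
    | mul r₁ r₂ _ _ h₁ h₂ =>
      rw [map_mul, Derivation.leibniz]
      exact hWadd _ _ (hWsmul _ _ h₂) (hWsmul _ _ h₁)
  intro N u hN y hy
  -- differentials of elements of the closure
  have hcl : ∀ z ∈ Subring.closure (Set.range fun r : R => r ^ N),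
      ∃ ω, InW ω ∧ D V C' (ι z) = (N : C') • ω := by
    intro z hz
    induction hz using Subring.closure_induction with
    | mem z hz =>
      obtain ⟨r, rfl⟩ := hz
      refine ⟨ι (r ^ (N - 1)) • D V C' (ι r), hWsmul _ _ (hWD r), ?_⟩
      rw [map_pow, Derivation.leibniz_pow, map_pow, Nat.cast_smul_eq_nsmul]
    | zero => exact ⟨0, hW0, by simp⟩
    | one => exact ⟨0, hW0, by simp⟩
    | add z₁ z₂ _ _ h₁ h₂ =>
      obtain ⟨ω₁, hω₁, e₁⟩ := h₁
      obtain ⟨ω₂, hω₂, e₂⟩ := h₂
      exact ⟨ω₁ + ω₂, hWadd _ _ hω₁ hω₂, by rw [map_add, map_add, e₁, e₂, smul_add]⟩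
    | neg z _ h =>
      obtain ⟨ω, hω, e₁⟩ := h
      exact ⟨-ω, hWneg _ hω, by rw [map_neg, map_neg, e₁, smul_neg]⟩
    | mul z₁ z₂ _ _ h₁ h₂ =>
      obtain ⟨ω₁, hω₁, e₁⟩ := h₁
      obtain ⟨ω₂, hω₂, e₂⟩ := h₂
      refine ⟨ι z₁ • ω₂ + ι z₂ • ω₁, hWadd _ _ (hWsmul _ _ hω₂) (hWsmul _ _ hω₁), ?_⟩
      rw [map_mul, Derivation.leibniz, e₁, e₂, smul_add, smul_comm (N : C'), smul_comm (N : C')]
  choose ω hωW hωy using fun i => hcl (y i) (hy i)
  choose r hr using fun i => hωW i
  -- the matrix
  refine ⟨fun i j => (if i = j then a ^ e else 0) + ϖ * (u * r i j), fun i j => ⟨_, rfl⟩, ?_⟩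
  intro i
  -- compare coordinates
  apply b'.repr.injective
  ext j
  have hN' : (N : C') = ι ϖ ^ (e + 1) * ι u := by
    rw [← map_natCast ι N, hN, map_mul, map_pow]
  have hcoord : b'.repr (D V C' (ι (x' i + y i))) j =
      (if i = j then 1 else 0) + (N : C') * b'.repr (ω i) j := by
    rw [map_add, map_add, map_add, Finsupp.add_apply, ← hb', Module.Basis.repr_self, hωy i,
      map_smul, Finsupp.smul_apply, smul_eq_mul, Finsupp.single_apply]
  have hkey : ι ϖ ^ e * (ι a ^ e * b'.repr (D V C' (ι (x' i + y i))) j) =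
      ι ϖ ^ e * ι ((if i = j then a ^ e else 0) + ϖ * (u * r i j)) := by
    rw [hcoord, map_add, map_mul, map_mul, hr i j, hN', map_mul]
    split_ifs with hij
    · rw [map_pow]; ring
    · rw [map_zero]; ring
  have hkey' := (hϖu.pow e).mul_left_cancel hkey
  rw [map_smul, Finsupp.smul_apply, smul_eq_mul, hkey', map_sum, Finsupp.finset_sum_apply]
  rw [Finset.sum_eq_single j]
  · rw [map_smul, ← hb', Module.Basis.repr_self, Finsupp.smul_apply, Finsupp.single_eq_same,
      smul_eq_mul, mul_one]
  · intro j' _ hj'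
    rw [map_smul, ← hb', Module.Basis.repr_self, Finsupp.smul_apply,
      Finsupp.single_eq_of_ne hj'.symm, smul_zero]
  · intro h; exact absurd (Finset.mem_univ j) h

omit [Algebra.FiniteType V R] in
/-- transport of a relation between differentials along an algebra map. -/
theorem map_relation (C' T : Type u) [CommRing C'] [CommRing T] [Algebra V C'] [Algebra C' T]
    [Algebra V T] [IsScalarTower V C' T] (c z : C') (cs zs : Fin d → C')
    (h : c • D V C' z = ∑ j, cs j • D V C' (zs j)) :
    algebraMap C' T c • D V T (algebraMap C' T z) =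
      ∑ j, algebraMap C' T (cs j) • D V T (algebraMap C' T (zs j)) := by
  have h1 := congrArg (KaehlerDifferential.map V V C' T) h
  rw [map_smul, map_sum, KaehlerDifferential.map_D, algebra_compatible_smul T] at h1
  rw [h1]
  refine Finset.sum_congr rfl (fun j _ => ?_)
  rw [map_smul, KaehlerDifferential.map_D, algebra_compatible_smul T]

omit [Algebra.FiniteType V R] in
/-- facts from an étale structure over the polynomial ring. -/
theorem facts_of_etale (C' T : Type u) [CommRing C'] [CommRing T] [Algebra R C'] [Algebra V C']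
    [IsScalarTower V R C'] [Algebra C' T] [Algebra R T] [Algebra V T] [IsScalarTower R C' T]
    [IsScalarTower V C' T] [IsScalarTower V R T] [Algebra.Etale C' T]
    (het : ((algebraMap R C').comp
        (aeval x' : MvPolynomial (Fin d) V →ₐ[V] R).toRingHom).Etale) :
    ∃ bT : Module.Basis (Fin d) T Ω[T⁄V],
      (∀ i, bT i = D V T (algebraMap R T (x' i))) ∧
      Algebra.FormallySmooth V T ∧ Algebra.FinitePresentation V T := by
  set P := MvPolynomial (Fin d) V with hP
  set φ' : P →ₐ[V] R := aeval x' with hφ'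
  letI algPC' : Algebra P C' := ((algebraMap R C').comp φ'.toRingHom).toAlgebra
  haveI etC' : Algebra.Etale P C' := het
  haveI : IsScalarTower V P C' := IsScalarTower.of_algebraMap_eq (fun v => by
    change algebraMap V C' v = algebraMap R C' (φ' (algebraMap V P v))
    rw [φ'.commutes, ← IsScalarTower.algebraMap_apply])
  letI algPT : Algebra P T := ((algebraMap C' T).comp (algebraMap P C')).toAlgebra
  haveI : IsScalarTower P C' T := IsScalarTower.of_algebraMap_eq' rfl
  haveI : Algebra.Etale P T := Algebra.Etale.comp P C' T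
  haveI : IsScalarTower V P T := IsScalarTower.of_algebraMap_eq (fun v => by
    change algebraMap V T v = algebraMap C' T (algebraMap P C' (algebraMap V P v))
    rw [← IsScalarTower.algebraMap_apply V P C', ← IsScalarTower.algebraMap_apply V C' T])
  refine ⟨etaleBasis V d T, fun i => ?_, ?_, ?_⟩
  · rw [etaleBasis_apply]
    congr 1
    change algebraMap C' T (algebraMap R C' (φ' (X i))) = _
    rw [hφ', aeval_X, ← IsScalarTower.algebraMap_apply]
  · exact Algebra.FormallySmooth.comp V P T
  · exact Algebra.FinitePresentation.trans V P T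

omit [Algebra.FiniteType V R] in
/-- étaleness from a basis of differentials. -/
theorem etale_of_basis (T : Type u) [CommRing T] [Algebra R T] [Algebra V T]
    [IsScalarTower V R T] [Algebra.FormallySmooth V T] [Algebra.FinitePresentation V T]
    (x : Fin d → R) (hli : LinearIndependent T (fun i => D V T (algebraMap R T (x i))))
    (hsp : Submodule.span T (Set.range fun i => D V T (algebraMap R T (x i))) = ⊤) :
    ((algebraMap R T).comp (aeval x : MvPolynomial (Fin d) V →ₐ[V] R).toRingHom).Etale := by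
  letI algPT : Algebra (MvPolynomial (Fin d) V) T :=
    ((algebraMap R T).comp (aeval x : MvPolynomial (Fin d) V →ₐ[V] R).toRingHom).toAlgebra
  haveI : IsScalarTower V (MvPolynomial (Fin d) V) T := IsScalarTower.of_algebraMap_eq (fun v => by
    change algebraMap V T v = algebraMap R T
      ((aeval x : MvPolynomial (Fin d) V →ₐ[V] R) (algebraMap V (MvPolynomial (Fin d) V) v))
    rw [AlgHom.commutes, ← IsScalarTower.algebraMap_apply])
  have hX : (fun i : Fin d => D V T (algebraMap (MvPolynomial (Fin d) V) T (X i))) =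
      fun i => D V T (algebraMap R T (x i)) := by
    funext i
    congr 1
    change algebraMap R T ((aeval x : MvPolynomial (Fin d) V →ₐ[V] R) (X i)) = _
    rw [aeval_X]
  haveI : Algebra.FormallyEtale (MvPolynomial (Fin d) V) T := formallyEtale_of_basis V d T
    (by rw [hX]; exact hli) (by rw [hX]; exact hsp)
  haveI : Algebra.FinitePresentation (MvPolynomial (Fin d) V) T :=
    Algebra.FinitePresentation.of_restrict_scalars_finitePresentation V (MvPolynomial (Fin d) V) T
  exact (⟨inferInstance, inferInstance⟩ : Algebra.Etale (MvPolynomial (Fin d) V) T)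

omit [Algebra.FiniteType V R] in
/-- the abstract core: a localization `T` of `C'` where the new differentials form a basis. -/
theorem etale_of_matrix (C' T : Type u) [CommRing C'] [CommRing T] [Algebra R C'] [Algebra V C']
    [IsScalarTower V R C'] [Algebra C' T] [Algebra R T] [Algebra V T] [IsScalarTower R C' T]
    [IsScalarTower V C' T] [IsScalarTower V R T] [Algebra.Etale C' T]
    (het : ((algebraMap R C').comp
        (aeval x' : MvPolynomial (Fin d) V →ₐ[V] R).toRingHom).Etale)
    (x : Fin d → R) (c : R) (hc : IsUnit (algebraMap R T c)) (A : Matrix (Fin d) (Fin d) R)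
    (hA : IsUnit (algebraMap R T A.det))
    (hrel : ∀ i, algebraMap R C' c • D V C' (algebraMap R C' (x i)) =
      ∑ j, algebraMap R C' (A i j) • D V C' (algebraMap R C' (x' j))) :
    ((algebraMap R T).comp (aeval x : MvPolynomial (Fin d) V →ₐ[V] R).toRingHom).Etale := by
  classical
  obtain ⟨bT, hbT, hsmT, hfpT⟩ := facts_of_etale V R d x' C' T het
  have hRT : ∀ r : R, algebraMap R T r = algebraMap C' T (algebraMap R C' r) := fun r =>
    IsScalarTower.algebraMap_apply R C' T r
  have hrelT : ∀ i, algebraMap R T c • D V T (algebraMap R T (x i)) =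
      ∑ j, ((algebraMap R T).mapMatrix A) i j • bT j := by
    intro i
    have h := map_relation V d C' T _ _ _ _ (hrel i)
    simp only [← hRT] at h
    rw [h]
    refine Finset.sum_congr rfl (fun j _ => ?_)
    rw [hbT, RingHom.mapMatrix_apply, Matrix.map_apply]
  have hdet : IsUnit ((algebraMap R T).mapMatrix A).det := by
    rw [← RingHom.map_det]; exact hA
  obtain ⟨hli, hsp⟩ := basis_of_matrix bT (fun i => D V T (algebraMap R T (x i)))
    (algebraMap R T c) hc ((algebraMap R T).mapMatrix A) hdet hrelT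
  exact etale_of_basis V R d T x hli hsp

theorem etale_perturbation (hcop : IsCoprime a ϖ)
    (het : ((algebraMap R (Localization.Away (a * ϖ))).comp
        (aeval x' : MvPolynomial (Fin d) V →ₐ[V] R).toRingHom).Etale) :
    ∃ e : ℕ, ∀ (N : ℕ) (u : R), (N : R) = ϖ ^ (e + 1) * u → ∀ y : Fin d → R,
      (∀ i, y i ∈ Subring.closure (Set.range fun r : R => r ^ N)) →
      ∃ a₂ : R, IsCoprime a₂ ϖ ∧ ((algebraMap R (Localization.Away (a₂ * ϖ))).comp
        (aeval (fun i => x' i + y i) : MvPolynomial (Fin d) V →ₐ[V] R).toRingHom).Etale := by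
  classical
  obtain ⟨e, he⟩ := exists_matrix_relation V R d ϖ a x' het
  refine ⟨e, fun N u hN y hy => ?_⟩
  obtain ⟨A, hA1, hA2⟩ := he N u hN y hy
  have hcop' : IsCoprime A.det ϖ := isCoprime_det ϖ (a ^ e) hcop.pow_left A hA1
  refine ⟨a * A.det, hcop.mul_left hcop', ?_⟩
  let T := Localization.Away (algebraMap R (Localization.Away (a * ϖ)) A.det)
  have hau : IsUnit (algebraMap R T (a ^ e)) := by
    rw [IsScalarTower.algebraMap_apply R (Localization.Away (a * ϖ)) T, map_pow, map_pow]
    exact ((IsLocalization.Away.isUnit_of_dvd (S := Localization.Away (a * ϖ)) (a * ϖ)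
      ⟨ϖ, rfl⟩).map _).pow e
  have hdet : IsUnit (algebraMap R T A.det) := by
    rw [IsScalarTower.algebraMap_apply R (Localization.Away (a * ϖ)) T]
    exact IsLocalization.Away.algebraMap_isUnit _
  have hetT := etale_of_matrix V R d x' (Localization.Away (a * ϖ)) T het
    (fun i => x' i + y i) (a ^ e) hau A hdet (fun i => by rw [map_pow]; exact hA2 i)
  -- transfer to the localization of `R`
  have hmul : a * A.det * ϖ = a * ϖ * A.det := by ring
  haveI : IsLocalization.Away (a * A.det * ϖ) T := by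
    rw [hmul]; infer_instance
  let ε : Localization.Away (a * A.det * ϖ) ≃ₐ[R] T :=
    IsLocalization.algEquiv (Submonoid.powers (a * A.det * ϖ)) _ _
  have hcomp : (algebraMap R (Localization.Away (a * A.det * ϖ))).comp
      (aeval (fun i => x' i + y i) : MvPolynomial (Fin d) V →ₐ[V] R).toRingHom =
      (ε.symm : T →+* Localization.Away (a * A.det * ϖ)).comp
        ((algebraMap R T).comp
          (aeval (fun i => x' i + y i) : MvPolynomial (Fin d) V →ₐ[V] R).toRingHom) := by
    ext g
    · simp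
    · simp
  rw [hcomp]
  exact RingHom.Etale.stableUnderComposition _ _ hetT
    (RingHom.Etale.of_bijective ε.symm.bijective)

end Pert

section Fibres

attribute [local instance] MvPolynomial.algebraMvPolynomial

variable (V : Type u) [CommRing V] [IsDomain V] [IsDiscreteValuationRing V]
  (R : Type u) [CommRing R] [Algebra V R] [Module.Flat V R]

omit [IsDiscreteValuationRing V] in
/-- clearing denominators in a polynomial relation on the generic fibre. -/
theorem exists_relation_of_fraction {n : ℕ} (r : Fin n → R)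
    (G : MvPolynomial (Fin n) (FractionRing V)) (hG : G ≠ 0)
    (hGr : aeval (fun i => (1 : FractionRing V) ⊗ₜ[V] r i) G = 0) :
    ∃ G' : MvPolynomial (Fin n) V, G' ≠ 0 ∧ aeval r G' = 0 := by
  obtain ⟨⟨G', ⟨_, c, hc, rfl⟩⟩, h⟩ :=
    IsLocalization.surj ((nonZeroDivisors V).map (C (σ := Fin n))) G
  simp only [MvPolynomial.algebraMap_def, map_C] at h
  have hc0 : algebraMap V (FractionRing V) c ≠ 0 := by
    intro h0
    exact (nonZeroDivisors.ne_zero hc) ((IsFractionRing.injective V (FractionRing V))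
      (by rw [h0, map_zero]))
  refine ⟨G', ?_, ?_⟩
  · rintro rfl
    rw [map_zero] at h
    rcases mul_eq_zero.mp h with h1 | h1
    · exact hG h1
    · exact hc0 (C_injective _ _ (by rw [h1, map_zero]))
  · let ι : R →ₐ[V] FractionRing V ⊗[V] R := Algebra.TensorProduct.includeRight
    have hι : Function.Injective ι := by
      have := Module.Flat.rTensor_preserves_injective_linearMap (M := R)
        (Algebra.linearMap V (FractionRing V)) (IsFractionRing.injective V (FractionRing V))
      intro a b hab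
      have h1 : (TensorProduct.lid V R).symm a = (TensorProduct.lid V R).symm b := by
        apply this
        simpa [ι] using hab
      exact (TensorProduct.lid V R).symm.injective h1
    apply hι
    rw [map_zero]
    have h2 : ι (aeval r G') = aeval (fun i => (1 : FractionRing V) ⊗ₜ[V] r i)
        (MvPolynomial.map (algebraMap V (FractionRing V)) G') := by
      rw [MvPolynomial.comp_aeval_apply, aeval_def (R := FractionRing V), eval₂_map,
        ← IsScalarTower.algebraMap_eq, ← aeval_def]
      rfl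
    rw [h2, ← h, map_mul, hGr, zero_mul]

/-- normalizing a relation so that it does not vanish modulo the maximal ideal. -/
theorem exists_relation_residue {n : ℕ} (r : Fin n → R)
    (G' : MvPolynomial (Fin n) V) (hG' : G' ≠ 0) (hr : aeval r G' = 0) :
    ∃ G'' : MvPolynomial (Fin n) V, aeval r G'' = 0 ∧
      MvPolynomial.map (IsLocalRing.residue V) G'' ≠ 0 := by
  obtain ⟨ϖ, hϖ⟩ := IsDiscreteValuationRing.exists_irreducible V
  obtain ⟨m₀, hm₀⟩ := MvPolynomial.ne_zero_iff.mp hG'
  obtain ⟨k, u, hu⟩ := IsDiscreteValuationRing.eq_unit_mul_pow_irreducible hm₀ hϖ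
  have key : ∀ k : ℕ, ∀ G' : MvPolynomial (Fin n) V, aeval r G' = 0 →
      (∃ (m₀ : Fin n →₀ ℕ) (u : Vˣ), coeff m₀ G' = u * ϖ ^ k) →
      ∃ G'' : MvPolynomial (Fin n) V, aeval r G'' = 0 ∧
        MvPolynomial.map (IsLocalRing.residue V) G'' ≠ 0 := by
    intro k
    induction k with
    | zero =>
      rintro G' hr ⟨m₀, u, hu⟩
      refine ⟨G', hr, fun h0 => ?_⟩
      have h1 := congrArg (coeff m₀) h0
      rw [coeff_map, hu, pow_zero, mul_one, coeff_zero] at h1
      exact (IsLocalRing.residue_ne_zero_iff_isUnit _).mpr u.isUnit h1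
    | succ k ih =>
      rintro G' hr ⟨m₀, u, hu⟩
      by_cases hdiv : ∀ m, ϖ ∣ coeff m G'
      · obtain ⟨G₁, rfl⟩ := (MvPolynomial.C_dvd_iff_dvd_coeff ϖ G').mpr hdiv
        apply ih G₁
        · have hreg : IsSMulRegular R (algebraMap V R ϖ) :=
            IsSMulRegular.of_flat (IsRegular.of_ne_zero hϖ.ne_zero).left
          apply hreg
          change algebraMap V R ϖ • (aeval r G₁) = algebraMap V R ϖ • 0
          rw [smul_zero, smul_eq_mul, ← hr, map_mul, aeval_C]
        · refine ⟨m₀, u, ?_⟩
          rw [coeff_C_mul, pow_succ, ← mul_assoc, mul_comm ϖ] at hu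
          exact mul_right_cancel₀ hϖ.ne_zero hu
      · push_neg at hdiv
        obtain ⟨m, hm⟩ := hdiv
        refine ⟨G', hr, fun h0 => ?_⟩
        have h1 := congrArg (coeff m) h0
        rw [coeff_map, coeff_zero, IsLocalRing.residue_eq_zero_iff, hϖ.maximalIdeal_eq,
          Ideal.mem_span_singleton] at h1
        exact hm h1
  exact key k G' hr ⟨m₀, u, hu⟩

/-- algebraic dependence on the special fibre from the generic fibre (flatness). -/
theorem algDep_residue_of_fraction (d : ℕ)
    (h : AlgDep (FractionRing V) (FractionRing V ⊗[V] R) d) :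
    AlgDep (IsLocalRing.ResidueField V) (IsLocalRing.ResidueField V ⊗[V] R) d := by
  intro t
  have hsurj : ∀ z : IsLocalRing.ResidueField V ⊗[V] R, ∃ r : R,
      z = (1 : IsLocalRing.ResidueField V) ⊗ₜ[V] r := by
    intro z
    induction z using TensorProduct.induction_on with
    | zero => exact ⟨0, by simp⟩
    | tmul c r =>
      obtain ⟨v, rfl⟩ := IsLocalRing.residue_surjective c
      refine ⟨v • r, ?_⟩
      rw [TensorProduct.tmul_smul, TensorProduct.smul_tmul', Algebra.smul_def, mul_one]
      rfl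
    | add z₁ z₂ h₁ h₂ =>
      obtain ⟨r₁, rfl⟩ := h₁
      obtain ⟨r₂, rfl⟩ := h₂
      exact ⟨r₁ + r₂, by rw [TensorProduct.tmul_add]⟩
  choose r hr using fun i => hsurj (t i)
  obtain ⟨G, hG, hGr⟩ := h (fun i => (1 : FractionRing V) ⊗ₜ[V] r i)
  obtain ⟨G', hG', hr'⟩ := exists_relation_of_fraction V R r G hG hGr
  obtain ⟨G'', hr'', hne⟩ := exists_relation_residue V R r G' hG' hr'
  refine ⟨MvPolynomial.map (IsLocalRing.residue V) G'', hne, ?_⟩
  have ht : t = fun i => (1 : IsLocalRing.ResidueField V) ⊗ₜ[V] r i := funext hr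
  rw [ht]
  let ι : R →ₐ[V] IsLocalRing.ResidueField V ⊗[V] R := Algebra.TensorProduct.includeRight
  have h2 : ι (aeval r G'') = aeval (fun i => (1 : IsLocalRing.ResidueField V) ⊗ₜ[V] r i)
      (MvPolynomial.map (algebraMap V (IsLocalRing.ResidueField V)) G'') := by
    rw [MvPolynomial.comp_aeval_apply, aeval_def (R := IsLocalRing.ResidueField V), eval₂_map,
      ← IsScalarTower.algebraMap_eq, ← aeval_def]
    rfl
  have h3 : (algebraMap V (IsLocalRing.ResidueField V)) = IsLocalRing.residue V := rfl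
  rw [← h3, ← h2, hr'', map_zero]

end Fibres

end Groth.Agent.Lib.Helper11.RelNN
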