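import Mathlib
import Groth.Agent.Lib.Helper11.RelNN2
import Groth.Agent.Lib.Helper25.Kleiman3

/-!
# η-étale relative Noether normalization: assembly (helper11)
-/

set_option autoImplicit false
set_option linter.style.haveILetI false

universe u

namespace Groth.Agent.Lib.Helper11.RelNN

open MvPolynomial TensorProduct KaehlerDifferential Groth.Agent.Lib.Helper11.Ked
open AlgebraicGeometry CategoryTheory

/-- algebraic dependence from smoothness of relative dimension `d` over a field. -/
theorem algDep_of_smooth (K : Type u) [Field K] (S : Type u) [CommRing S] [Algebra K S] (d : ℕ)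
    (hsm : SmoothOfRelativeDimension d (Spec.map (CommRingCat.ofHom (algebraMap K S)))) :
    AlgDep K S d := by
  rcases subsingleton_or_nontrivial S with hS | hS
  · intro t
    exact ⟨1, one_ne_zero, Subsingleton.elim _ _⟩
  have hsm' : Smooth (Spec.map (CommRingCat.ofHom (algebraMap K S))) :=
    SmoothOfRelativeDimension.smooth d _
  rw [HasRingHomProperty.Spec_iff (P := @Smooth)] at hsm'
  have hsmA : Algebra.Smooth K S := RingHom.smooth_algebraMap.mp hsm'
  haveI : Algebra.FiniteType K S := inferInstance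
  haveI : Nonempty (Spec (CommRingCat.of S)) :=
    inferInstanceAs (Nonempty (PrimeSpectrum S))
  have h1 := Groth.Agent.Lib.Helper25.Kleiman.topologicalKrullDim_eq_of_smoothOfRelativeDimension
    (Spec.map (CommRingCat.ofHom (algebraMap K S))) d
  have h2 : ringKrullDim S = topologicalKrullDim (PrimeSpectrum S) :=
    (PrimeSpectrum.topologicalKrullDim_eq_ringKrullDim S).symm
  apply algDep_of_ringKrullDim_le K S d
  rw [h2]
  exact le_of_eq h1

/-- **η-étale relative Noether normalization** over a discrete valuation ring of residue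
characteristic `p`. -/
theorem main_etale (V : Type u) [CommRing V] [IsDomain V] [IsDiscreteValuationRing V]
    (ϖ : V) (hϖ : Irreducible ϖ) (p : ℕ) [Fact p.Prime] [CharP (IsLocalRing.ResidueField V) p]
    (R : Type u) [CommRing R] [Algebra V R] [Module.Flat V R] [Algebra.FiniteType V R] (d : ℕ)
    (hsm : SmoothOfRelativeDimension d
      (Spec.map (CommRingCat.ofHom (algebraMap (FractionRing V) (FractionRing V ⊗[V] R)))))
    (x' : Fin d → R) (hx' : (∃ a : R, Ideal.span {a} ⊔ Ideal.span {algebraMap V R ϖ} = ⊤ ∧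
        ((algebraMap R (Localization.Away (a * algebraMap V R ϖ))).comp
          (MvPolynomial.aeval x' : MvPolynomial (Fin d) V →ₐ[V] R).toRingHom).Etale)) :
    ∃ x : Fin d → R, (∃ a : R, Ideal.span {a} ⊔ Ideal.span {algebraMap V R ϖ} = ⊤ ∧
        ((algebraMap R (Localization.Away (a * algebraMap V R ϖ))).comp
          (MvPolynomial.aeval x : MvPolynomial (Fin d) V →ₐ[V] R).toRingHom).Etale) ∧
      (MvPolynomial.aeval (fun i => (1 : IsLocalRing.ResidueField V) ⊗ₜ[V] x i) :
          MvPolynomial (Fin d) (IsLocalRing.ResidueField V) →ₐ[IsLocalRing.ResidueField V]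
            IsLocalRing.ResidueField V ⊗[V] R).toRingHom.Finite ∧
      (MvPolynomial.aeval (fun i => (1 : FractionRing V) ⊗ₜ[V] x i) :
          MvPolynomial (Fin d) (FractionRing V) →ₐ[FractionRing V]
            FractionRing V ⊗[V] R).toRingHom.Finite := by
  obtain ⟨a, hcop, het⟩ := hx'
  have hcop' : IsCoprime a (algebraMap V R ϖ) := by
    rw [← Ideal.isCoprime_span_singleton_iff, Ideal.isCoprime_iff_sup_eq]
    exact hcop
  obtain ⟨e, he⟩ := etale_perturbation V R d (algebraMap V R ϖ) a x' hcop' het
  -- `p` is divisible by the uniformizer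
  have hpm : (p : V) ∈ IsLocalRing.maximalIdeal V := by
    rw [← IsLocalRing.residue_eq_zero_iff, map_natCast]
    exact CharP.cast_eq_zero _ p
  rw [hϖ.maximalIdeal_eq, Ideal.mem_span_singleton] at hpm
  obtain ⟨w, hw⟩ := hpm
  set N := p ^ (e + 1) with hNdef
  have hN1 : 1 ≤ N := Nat.one_le_pow _ _ (Fact.out : p.Prime).pos
  have hN : (N : R) = algebraMap V R ϖ ^ (e + 1) * algebraMap V R (w ^ (e + 1)) := by
    rw [hNdef, Nat.cast_pow, ← map_natCast (algebraMap V R) p, hw, ← map_pow, ← map_pow, ← map_mul,
      mul_pow]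
  have hη := algDep_of_smooth (FractionRing V) (FractionRing V ⊗[V] R) d hsm
  have hs := algDep_residue_of_fraction V R d hη
  obtain ⟨y, hy, hfin1, hfin2⟩ := main' V R (IsLocalRing.ResidueField V) (FractionRing V) d hs hη
    x' N hN1
  obtain ⟨a₂, hcop₂, het₂⟩ := he N _ hN y hy
  refine ⟨fun i => x' i + y i, ⟨a₂, ?_, het₂⟩, hfin1, hfin2⟩
  rw [← Ideal.isCoprime_iff_sup_eq, Ideal.isCoprime_span_singleton_iff]
  exact hcop₂

end Groth.Agent.Lib.Helper11.RelNN
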