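import Mathlib.CategoryTheory.Abelian.SerreClass.Basic
import Mathlib.CategoryTheory.Abelian.Subcategory
import Mathlib.Algebra.Homology.DerivedCategory.ExactFunctor
import Mathlib.Algebra.Homology.DerivedCategory.TStructure
import Mathlib.Algebra.Homology.DerivedCategory.HomologySequence
import Groth.Agent.Lib.Helper13.PCInfinite
import Groth.Agent.Lib.Helper13.PCSingle
import Groth.Agent.Lib.Helper13.PCPerfect

set_option autoImplicit false
universe w w' v u
open CategoryTheory CategoryTheory.Limits PCoh Groth.Agent.Lib.Helper13.PC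

namespace Groth.Agent.Lib.Helper11.SerreDer

section
variable {A : Type u} [Category.{v} A] [Abelian A]
    (P : ObjectProperty A) [P.IsSerreClass] [P.IsClosedUnderKernels] [P.IsClosedUnderCokernels]
    [P.IsClosedUnderFiniteProducts]

omit [P.IsSerreClass] [P.IsClosedUnderKernels] [P.IsClosedUnderCokernels] in
lemma hsum : ∀ X Y : A, P X → P Y → P (X ⨯ Y) := fun X Y hX hY => P.prop_prod X Y hX hY

omit [P.IsClosedUnderCokernels] [P.IsClosedUnderFiniteProducts] in
lemma hqs : IsQuasiStableUnderKernels P :=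
  isQuasiStableUnderKernels_of_hst (P := P) (fun _ _ u _ hE hF => P.prop_kernel u hE hF)

omit [Abelian A] [P.IsSerreClass] [P.IsClosedUnderKernels] [P.IsClosedUnderCokernels]
  [P.IsClosedUnderFiniteProducts] in
lemma hql (hlift : ∀ (X Y : A) (π : X ⟶ Y), Epi π → P Y → ∃ (X' : A) (i : X' ⟶ X), Mono i ∧ P X' ∧ Epi (i ≫ π)) :
    IsQuasiLiftable P := by
  intro E F u hu hF
  obtain ⟨X', i, -, hX', hepi⟩ := hlift E F u hu hF
  exact ⟨X', i, hX', hepi⟩

end

section Lift
variable {A : Type u} [Category.{v} A] [Preadditive A] {P : ObjectProperty A}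

/-- Lift a complex with terms in `P` to the full subcategory. -/
def liftCx (E : CochainComplex A ℤ) (hE : ∀ i, P (E.X i)) : CochainComplex P.FullSubcategory ℤ where
  X i := ⟨E.X i, hE i⟩
  d i j := ObjectProperty.homMk (E.d i j)
  shape i j h := by
    apply ObjectProperty.hom_ext
    exact E.shape i j h
  d_comp_d' i j k _ _ := by
    apply ObjectProperty.hom_ext
    exact E.d_comp_d i j k

def liftIso (E : CochainComplex A ℤ) (hE : ∀ i, P (E.X i)) :
    (P.ι.mapHomologicalComplex _).obj (liftCx E hE) ≅ E :=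
  HomologicalComplex.Hom.isoOfComponents (fun i => Iso.refl _) (by
    intro i j _
    exact (Category.id_comp _).trans (Category.comp_id _).symm)

lemma isZero_mk {X : A} (hX : P X) (h : IsZero X) :
    IsZero (⟨X, hX⟩ : P.FullSubcategory) := by
  rw [IsZero.iff_id_eq_zero]
  apply ObjectProperty.hom_ext
  exact (IsZero.iff_id_eq_zero X).1 h

lemma liftCx_isStrictlyLE (E : CochainComplex A ℤ) (hE : ∀ i, P (E.X i)) (b : ℤ)
    (hz : ∀ i : ℤ, b < i → IsZero (E.X i)) : (liftCx E hE).IsStrictlyLE b := by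
  rw [CochainComplex.isStrictlyLE_iff]
  exact fun i hi => isZero_mk (hE i) (hz i hi)

/-- Lift a morphism from a complex with terms in `P` to the image of a complex in the subcategory. -/
lemma exists_lift_hom (E : CochainComplex A ℤ) (hE : ∀ i, P (E.X i))
    (X₀ : CochainComplex P.FullSubcategory ℤ)
    (u : E ⟶ (P.ι.mapHomologicalComplex _).obj X₀) :
    ∃ u₀ : liftCx E hE ⟶ X₀,
      (P.ι.mapHomologicalComplex _).map u₀ = (liftIso E hE).hom ≫ u :=
  ⟨(P.ι.mapHomologicalComplex _).preimage ((liftIso E hE).hom ≫ u), Functor.map_preimage _ _⟩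

/-- Homotopies between images of morphisms lift to the full subcategory. -/
def liftHomotopy {K L : CochainComplex P.FullSubcategory ℤ} {f g : K ⟶ L}
    (h : Homotopy ((P.ι.mapHomologicalComplex (ComplexShape.up ℤ)).map f)
      ((P.ι.mapHomologicalComplex (ComplexShape.up ℤ)).map g)) : Homotopy f g where
  hom i j := ObjectProperty.homMk (h.hom i j)
  zero i j hij := by
    apply ObjectProperty.hom_ext
    exact h.zero i j hij
  comm i := by
    have := h.comm i
    rw [dNext_eq _ (show (ComplexShape.up ℤ).Rel i (i + 1) from rfl),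
      prevD_eq _ (show (ComplexShape.up ℤ).Rel (i - 1) i by simp)] at this ⊢
    apply P.ι.map_injective
    rw [Functor.map_add, Functor.map_add, Functor.map_comp, Functor.map_comp]
    exact this

end Lift

section Main
open DerivedCategory

variable {A : Type u} [Category.{v} A] [Abelian A] [HasDerivedCategory.{w} A]
    (P : ObjectProperty A) [P.IsSerreClass] [P.IsClosedUnderKernels] [P.IsClosedUnderCokernels]
    [P.IsClosedUnderFiniteProducts] [HasDerivedCategory.{w'} P.FullSubcategory]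
    [PreservesFiniteLimits P.ι] [PreservesFiniteColimits P.ι]
    (hlift : ∀ (X Y : A) (π : X ⟶ Y), Epi π → P Y → ∃ (X' : A) (i : X' ⟶ X), Mono i ∧ P X' ∧ Epi (i ≫ π))

include hlift

theorem essSurj (K : DerivedCategory A) (b : ℤ) (hK : K.IsLE b)
    (hH : ∀ n : ℤ, P ((DerivedCategory.homologyFunctor A n).obj K)) :
    ∃ M : DerivedCategory P.FullSubcategory, M.IsLE b ∧
      Nonempty (P.ι.mapDerivedCategory.obj M ≅ K) := by
  have hb : ∀ i : ℤ, b < i → IsZero ((DerivedCategory.homologyFunctor A i).obj K) :=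
    fun i hi => K.isZero_of_isLE b i hi
  have hPC : IsPC P K := fun n =>
    isNPC_of_homology (hsum P) (hqs P) (hql P hlift) K b hb
      (fun i _ => isNPC_single 0 (hH i) (n - i))
  obtain ⟨E, hE, hz, ⟨e⟩⟩ := exists_strictPCAll_iso (hsum P) (hqs P) (hql P hlift) K hPC (b + 1)
    (fun i hi => hb i (by lia))
  have : (liftCx E hE).IsStrictlyLE b := liftCx_isStrictlyLE E hE b (fun i hi => hz i (by lia))
  refine ⟨Q.obj (liftCx E hE), inferInstance, ⟨?_⟩⟩
  exact (P.ι.mapDerivedCategoryFactors).app (liftCx E hE) ≪≫ Q.mapIso (liftIso E hE) ≪≫ e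

omit [P.IsSerreClass] [P.IsClosedUnderKernels] [P.IsClosedUnderCokernels]
  [P.IsClosedUnderFiniteProducts] [HasDerivedCategory.{w'} P.FullSubcategory]
  [PreservesFiniteLimits P.ι] [PreservesFiniteColimits P.ι] [HasDerivedCategory.{w} A] in
omit hlift in
lemma isStrictPCAll_map (M₀ : CochainComplex P.FullSubcategory ℤ) (b : ℤ) [M₀.IsStrictlyLE b] :
    IsStrictPCAll P ((P.ι.mapHomologicalComplex (ComplexShape.up ℤ)).obj M₀) :=
  ⟨⟨b, fun i hi => P.ι.map_isZero (M₀.isZero_of_isStrictlyLE b i hi)⟩, fun i => (M₀.X i).property⟩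

theorem full_aux (M₀ N₀ : CochainComplex P.FullSubcategory ℤ) (b : ℤ) [M₀.IsStrictlyLE b]
    (α : P.ι.mapDerivedCategory.obj (Q.obj M₀) ⟶ P.ι.mapDerivedCategory.obj (Q.obj N₀)) :
    ∃ φ : Q.obj M₀ ⟶ Q.obj N₀, P.ι.mapDerivedCategory.map φ = α := by
  let η := P.ι.mapDerivedCategoryFactors
  obtain ⟨E'', s, f, hE'', hs, hsf⟩ := exists_roof_of_strictPCAll (hsum P) (hqs P) (hql P hlift) _ _
    (isStrictPCAll_map P M₀ b) (η.inv.app M₀ ≫ α ≫ η.hom.app N₀)
  obtain ⟨s₀, hs₀⟩ := exists_lift_hom E'' hE''.2 M₀ s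
  obtain ⟨f₀, hf₀⟩ := exists_lift_hom E'' hE''.2 N₀ f
  have hqs₀ : QuasiIso s₀ := by
    rw [← HomologicalComplex.quasiIso_map_iff_of_preservesHomology s₀ P.ι, hs₀]
    infer_instance
  have : IsIso (Q.map s₀) := by rw [isIso_Q_map_iff_quasiIso]; exact hqs₀
  have key : P.ι.mapDerivedCategory.map (Q.map s₀) ≫ α =
      P.ι.mapDerivedCategory.map (Q.map f₀) := by
    have h1 := P.ι.mapDerivedCategoryFactors_hom_naturality s₀
    have h2 := P.ι.mapDerivedCategoryFactors_hom_naturality f₀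
    rw [← cancel_mono (η.hom.app N₀), h2, hf₀, Functor.map_comp, ← hsf]
    rw [Category.assoc, ← Functor.map_comp_assoc, ← hs₀, ← reassoc_of% h1]
    simp [η]
  refine ⟨inv (Q.map s₀) ≫ Q.map f₀, ?_⟩
  rw [Functor.map_comp, Functor.map_inv, ← key, IsIso.inv_hom_id_assoc]

theorem faithful_aux (M₀ N₀ : CochainComplex P.FullSubcategory ℤ) (b : ℤ) [M₀.IsStrictlyLE b]
    (φ : Q.obj M₀ ⟶ Q.obj N₀) (hφ : P.ι.mapDerivedCategory.map φ = 0) : φ = 0 := by
  let Φ := P.ι.mapHomologicalComplex (ComplexShape.up ℤ)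
  let η := P.ι.mapDerivedCategoryFactors
  obtain ⟨X₀, s₀, hs₀, f₀, rfl⟩ := right_fac φ
  have hqs₀ : QuasiIso s₀ := by rwa [isIso_Q_map_iff_quasiIso] at hs₀
  have hf₀ : P.ι.mapDerivedCategory.map (Q.map f₀) = 0 := by
    rw [Functor.map_comp, Functor.map_inv] at hφ
    have := congrArg (fun x => P.ι.mapDerivedCategory.map (Q.map s₀) ≫ x) hφ
    simpa using this
  have hΦf₀ : Q.map (Φ.map f₀) = 0 := by
    have h2 := P.ι.mapDerivedCategoryFactors_hom_naturality f₀
    rw [hf₀, zero_comp] at h2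
    have := congrArg (fun x => η.inv.app X₀ ≫ x) h2
    simpa [η, Φ] using this.symm
  have hΦs₀ : QuasiIso (Φ.map s₀) := inferInstance
  obtain ⟨E'', u', hE'', hu'⟩ := exists_strictPCAll_quasiIso_of_quasiIso (hsum P) (hqs P)
    (hql P hlift) (isStrictPCAll_map P M₀ b) (Φ.map s₀) hΦs₀
  obtain ⟨E''', s, hE''', hs, ⟨h⟩⟩ := exists_homotopy_of_strictPCAll (hsum P) (hqs P) (hql P hlift)
    E'' (Φ.obj N₀) hE'' (u' ≫ Φ.map f₀) 0
    (by rw [Functor.map_comp, hΦf₀, comp_zero, Functor.map_zero])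
  obtain ⟨t₀, ht₀⟩ := exists_lift_hom E''' hE'''.2 X₀ (s ≫ u')
  have hqt₀ : QuasiIso t₀ := by
    rw [← HomologicalComplex.quasiIso_map_iff_of_preservesHomology t₀ P.ι, ht₀]
    infer_instance
  have : IsIso (Q.map t₀) := by rw [isIso_Q_map_iff_quasiIso]; exact hqt₀
  have h0 : Homotopy (t₀ ≫ f₀) 0 := liftHomotopy (by
    refine (Homotopy.ofEq ?_).trans (((h.compLeft (liftIso E''' hE'''.2).hom)).trans
      (Homotopy.ofEq ?_))
    · rw [Functor.map_comp, ht₀]; simp [Φ]
    · simp)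
  have h1 : Q.map t₀ ≫ Q.map f₀ = 0 := by
    rw [← Functor.map_comp, DerivedCategory.Q_map_eq_of_homotopy _ h0, Functor.map_zero]
  have h2 : Q.map f₀ = 0 := by
    rw [← cancel_epi (Q.map t₀), h1, comp_zero]
  rw [h2, comp_zero]

theorem main :
    (∀ (M N : DerivedCategory P.FullSubcategory) (b : ℤ), M.IsLE b → N.IsLE b →
      Function.Bijective (fun φ : M ⟶ N => P.ι.mapDerivedCategory.map φ)) ∧
    ∀ (K : DerivedCategory A) (b : ℤ), K.IsLE b →
      (∀ n : ℤ, P ((DerivedCategory.homologyFunctor A n).obj K)) →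
      ∃ M : DerivedCategory P.FullSubcategory, M.IsLE b ∧
        Nonempty (P.ι.mapDerivedCategory.obj M ≅ K) := by
  refine ⟨fun M N b hM hN => ?_, fun K b hK hH => essSurj P hlift K b hK hH⟩
  obtain ⟨M₀, hM₀, ⟨eM⟩⟩ := M.exists_iso_Q_obj_of_isLE b
  obtain ⟨N₀, hN₀, ⟨eN⟩⟩ := N.exists_iso_Q_obj_of_isLE b
  constructor
  · intro φ ψ (h : P.ι.mapDerivedCategory.map φ = P.ι.mapDerivedCategory.map ψ)
    have h0 : eM.inv ≫ (φ - ψ) ≫ eN.hom = 0 := by
      apply faithful_aux P hlift M₀ N₀ b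
      rw [Functor.map_comp, Functor.map_comp, Functor.map_sub, h, sub_self, zero_comp, comp_zero]
    have h1 : φ - ψ = 0 := by
      rw [← cancel_epi eM.inv, ← cancel_mono eN.hom, Category.assoc, h0, comp_zero, zero_comp]
    exact sub_eq_zero.1 h1
  · intro α
    obtain ⟨φ', hφ'⟩ := full_aux P hlift M₀ N₀ b
      (P.ι.mapDerivedCategory.map eM.inv ≫ α ≫ P.ι.mapDerivedCategory.map eN.hom)
    refine ⟨eM.hom ≫ φ' ≫ eN.inv, ?_⟩
    change P.ι.mapDerivedCategory.map (eM.hom ≫ φ' ≫ eN.inv) = α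
    rw [Functor.map_comp, Functor.map_comp, hφ']
    simp only [Category.assoc]
    rw [← Functor.map_comp, Iso.hom_inv_id, CategoryTheory.Functor.map_id, Category.comp_id,
      ← Functor.map_comp_assoc, Iso.hom_inv_id, CategoryTheory.Functor.map_id, Category.id_comp]

end Main

end Groth.Agent.Lib.Helper11.SerreDer
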