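
import Mathlib

set_option autoImplicit false
set_option linter.unusedSectionVars false
universe w w' v v' u u'
open CategoryTheory CategoryTheory.Limits Pretriangulated ZeroObject

namespace Groth.Agent.Lib.Helper11.SerreLoc

section Adj
variable {A : Type u} [Category.{v} A] [Abelian A]
  {Q : Type u'} [Category.{v'} Q] [Abelian Q]
  (v : A ⥤ Q) [v.Additive] (u : Q ⥤ A) [u.Additive] (adj : u ⊣ v)

/-- unit on complexes. -/
@[simps] def ηC (Z : CochainComplex Q ℤ) : Z ⟶
    (v.mapHomologicalComplex (ComplexShape.up ℤ)).obj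
      ((u.mapHomologicalComplex (ComplexShape.up ℤ)).obj Z) where
  f i := adj.unit.app (Z.X i)
  comm' i j _ := (adj.unit.naturality (Z.d i j)).symm

/-- counit on complexes. -/
@[simps] def cC (X : CochainComplex A ℤ) :
    (u.mapHomologicalComplex (ComplexShape.up ℤ)).obj
      ((v.mapHomologicalComplex (ComplexShape.up ℤ)).obj X) ⟶ X where
  f i := adj.counit.app (X.X i)
  comm' i j _ := (adj.counit.naturality (X.d i j)).symm

/-- the adjunction on complexes. -/
def adjC : u.mapHomologicalComplex (ComplexShape.up ℤ) ⊣
    v.mapHomologicalComplex (ComplexShape.up ℤ) :=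
  Adjunction.mkOfUnitCounit
    { unit :=
        { app := fun Z => ηC v u adj Z
          naturality := fun Z Z' f => by
            ext i
            exact adj.unit.naturality (f.f i) }
      counit :=
        { app := fun X => cC v u adj X
          naturality := fun X X' f => by
            ext i
            exact adj.counit.naturality (f.f i) }
      left_triangle := by
        ext Z i
        simp
        exact adj.left_triangle_components (Z.X i)
      right_triangle := by
        ext X i
        simp
        exact adj.right_triangle_components (X.X i) }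

instance [IsIso adj.unit] (Z : CochainComplex Q ℤ) : IsIso (ηC v u adj Z) := by
  have : ∀ i, IsIso ((ηC v u adj Z).f i) := fun i =>
    inferInstanceAs (IsIso (adj.unit.app (Z.X i)))
  exact HomologicalComplex.Hom.isIso_of_components _

instance [IsIso adj.unit] : IsIso (adjC v u adj).unit := by
  have : ∀ Z, IsIso ((adjC v u adj).unit.app Z) := fun Z =>
    inferInstanceAs (IsIso (ηC v u adj Z))
  exact NatIso.isIso_of_isIso_app _

end Adj

section Main
variable {A : Type u} [Category.{v} A] [Abelian A] [HasDerivedCategory.{w} A]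
  (P : ObjectProperty A) [P.IsSerreClass]
  {Q : Type u'} [Category.{v'} Q] [Abelian Q] [HasDerivedCategory.{w'} Q]
  (v : A ⥤ Q) [v.IsLocalization P.isoModSerre] [v.Additive] [PreservesFiniteLimits v]
  [PreservesFiniteColimits v]

lemma isZero_iff_homology {C : Type*} [Category C] [Abelian C] [HasDerivedCategory C]
    (X : DerivedCategory C) :
    IsZero X ↔ ∀ n : ℤ, IsZero ((DerivedCategory.homologyFunctor C n).obj X) := by
  constructor
  · intro h n
    exact (DerivedCategory.homologyFunctor C n).map_isZero h
  · intro h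
    have : IsIso (0 : X ⟶ 0) := by
      rw [DerivedCategory.isIso_iff]
      intro n
      exact ⟨0, (h n).eq_of_src _ _, ((DerivedCategory.homologyFunctor C n).map_isZero
        (isZero_zero _)).eq_of_src _ _⟩
    exact IsZero.of_iso (isZero_zero _) (asIso (0 : X ⟶ 0))

/-- homology commutes with the exact functor, objectwise. -/
noncomputable def homologyIso (Z : DerivedCategory A) (n : ℤ) :
    (DerivedCategory.homologyFunctor Q n).obj (v.mapDerivedCategory.obj Z) ≅
      v.obj ((DerivedCategory.homologyFunctor A n).obj Z) :=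
  let K := DerivedCategory.Q.objPreimage Z
  let e : DerivedCategory.Q.obj K ≅ Z := DerivedCategory.Q.objObjPreimageIso Z
  (DerivedCategory.homologyFunctor Q n).mapIso (v.mapDerivedCategory.mapIso e.symm) ≪≫
    (DerivedCategory.homologyFunctor Q n).mapIso (v.mapDerivedCategoryFactors.app K) ≪≫
    (DerivedCategory.homologyFunctorFactors Q n).app _ ≪≫
    (K.sc n).mapHomologyIso v ≪≫
    v.mapIso ((DerivedCategory.homologyFunctorFactors A n).app K).symm ≪≫
    v.mapIso ((DerivedCategory.homologyFunctor A n).mapIso e)

lemma S_iff (Z : DerivedCategory A) :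
    (∀ n : ℤ, P ((DerivedCategory.homologyFunctor A n).obj Z)) ↔
      IsZero (v.mapDerivedCategory.obj Z) := by
  rw [isZero_iff_homology]
  refine forall_congr' fun n => ?_
  rw [(homologyIso v Z n).isZero_iff,
    ObjectProperty.SerreClassLocalization.isZero_obj_iff v P]

lemma W_iff {X Y : DerivedCategory A} (f : X ⟶ Y) :
    ObjectProperty.trW (fun X : DerivedCategory A =>
      ∀ n : ℤ, P ((DerivedCategory.homologyFunctor A n).obj X)) f ↔
      IsIso (v.mapDerivedCategory.map f) := by
  constructor
  · rintro ⟨Z, g, h, hT, hZ⟩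
    have hT' := v.mapDerivedCategory.map_distinguished _ hT
    exact (Triangle.isZero₃_iff_isIso₁ _ hT').1 ((S_iff P v Z).1 hZ)
  · intro hf
    obtain ⟨Z, g, h, hT⟩ := distinguished_cocone_triangle f
    have hT' := v.mapDerivedCategory.map_distinguished _ hT
    exact ⟨Z, g, h, hT, (S_iff P v Z).2 ((Triangle.isZero₃_iff_isIso₁ _ hT').2 hf)⟩

/-- every arrow of the derived category is isomorphic to the image of a morphism of complexes. -/
lemma exists_arrow_iso {C : Type*} [Category C] [Abelian C] [HasDerivedCategory C]
    {X Y : DerivedCategory C} (f : X ⟶ Y) :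
    ∃ (K L : CochainComplex C ℤ) (g : K ⟶ L),
      Nonempty (Arrow.mk (DerivedCategory.Q.map g) ≅ Arrow.mk f) := by
  obtain ⟨a, ⟨e⟩⟩ : ∃ a, Nonempty (DerivedCategory.Qh.mapArrow.obj a ≅ Arrow.mk f) :=
    ⟨_, ⟨DerivedCategory.Qh.mapArrow.objObjPreimageIso (Arrow.mk f)⟩⟩
  obtain ⟨a₁, a₂, φ⟩ := a
  obtain ⟨K, hK⟩ := HomotopyCategory.quotient_obj_surjective a₁
  obtain ⟨L, hL⟩ := HomotopyCategory.quotient_obj_surjective a₂
  subst hK hL
  obtain ⟨g, rfl⟩ := (HomotopyCategory.quotient C (ComplexShape.up ℤ)).map_surjective φ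
  refine ⟨K, L, g, ⟨?_ ≪≫ e⟩⟩
  exact Arrow.isoMk ((DerivedCategory.quotientCompQhIso C).symm.app K)
    ((DerivedCategory.quotientCompQhIso C).symm.app L)
    ((DerivedCategory.quotientCompQhIso C).inv.naturality g).symm

variable (u : Q ⥤ A) (adj : u ⊣ v) [IsIso adj.unit]

include adj in
theorem main : v.mapDerivedCategory.IsLocalization
    (ObjectProperty.trW (fun X : DerivedCategory A =>
      ∀ n : ℤ, P ((DerivedCategory.homologyFunctor A n).obj X))) := by
  have : u.Additive := adj.left_adjoint_additive
  let U := u.mapHomologicalComplex (ComplexShape.up ℤ)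
  let V := v.mapHomologicalComplex (ComplexShape.up ℤ)
  let aC : U ⊣ V := adjC v u adj
  have : IsIso aC.unit := inferInstanceAs (IsIso (adjC v u adj).unit)
  have hU : U.FullyFaithful := aC.fullyFaithfulLOfIsIsoUnit
  have := hU.full
  have := hU.faithful
  have hV : V.IsLocalization ((MorphismProperty.isomorphisms _).inverseImage V) :=
    aC.isLocalization'
  let W₃ : MorphismProperty (CochainComplex A ℤ) :=
    (HomologicalComplex.quasiIso Q (ComplexShape.up ℤ)).inverseImage V
  have hVQ : (V ⋙ DerivedCategory.Q).IsLocalization W₃ := by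
    refine Functor.IsLocalization.comp V DerivedCategory.Q
      ((MorphismProperty.isomorphisms _).inverseImage V)
      (HomologicalComplex.quasiIso Q (ComplexShape.up ℤ)) W₃ ?_ ?_ ?_
    · intro X Y f hf
      exact (DerivedCategory.isIso_Q_map_iff_quasiIso _ _).2 hf
    · intro X Y f (hf : IsIso (V.map f))
      change QuasiIso (V.map f)
      infer_instance
    · intro Z Z' f (hf : QuasiIso f)
      have e : Arrow.mk (V.map (U.map f)) ≅ Arrow.mk f :=
        Arrow.isoMk (asIso (ηC v u adj Z)).symm (asIso (ηC v u adj Z')).symm (by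
          dsimp
          rw [IsIso.inv_comp_eq, ← Category.assoc, IsIso.eq_comp_inv]
          exact aC.unit.naturality f)
      refine ⟨U.obj Z, U.obj Z', U.map f, ?_, ⟨e⟩⟩
      exact ((HomologicalComplex.quasiIso Q (ComplexShape.up ℤ)).arrow_mk_iso_iff e).2 hf
  have hQD : (DerivedCategory.Q ⋙ v.mapDerivedCategory).IsLocalization W₃ :=
    Functor.IsLocalization.of_iso W₃ v.mapDerivedCategoryFactors.symm
  refine Functor.IsLocalization.of_comp DerivedCategory.Q v.mapDerivedCategory
    (HomologicalComplex.quasiIso A (ComplexShape.up ℤ)) _ W₃ ?_ ?_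
  · intro X Y f (hf : QuasiIso f)
    change QuasiIso (V.map f)
    infer_instance
  · ext X Y f
    rw [W_iff P v]
    constructor
    · intro hf
      obtain ⟨K, L, g, ⟨e⟩⟩ := exists_arrow_iso f
      refine ⟨K, L, g, ?_, ⟨e⟩⟩
      change QuasiIso (V.map g)
      rw [← DerivedCategory.isIso_Q_map_iff_quasiIso]
      have e' : Arrow.mk (DerivedCategory.Q.map (V.map g)) ≅
          Arrow.mk (v.mapDerivedCategory.map f) :=
        (Arrow.isoMk (v.mapDerivedCategoryFactors.app K) (v.mapDerivedCategoryFactors.app L)
          (v.mapDerivedCategoryFactors.hom.naturality g).symm).symm ≪≫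
          v.mapDerivedCategory.mapArrow.mapIso e
      exact ((MorphismProperty.isomorphisms _).arrow_mk_iso_iff e').2 hf
    · rintro ⟨K, L, g, hg, ⟨e⟩⟩
      have hg' : QuasiIso (V.map g) := hg
      rw [← DerivedCategory.isIso_Q_map_iff_quasiIso] at hg'
      have e' : Arrow.mk (DerivedCategory.Q.map (V.map g)) ≅
          Arrow.mk (v.mapDerivedCategory.map f) :=
        (Arrow.isoMk (v.mapDerivedCategoryFactors.app K) (v.mapDerivedCategoryFactors.app L)
          (v.mapDerivedCategoryFactors.hom.naturality g).symm).symm ≪≫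
          v.mapDerivedCategory.mapArrow.mapIso e
      exact ((MorphismProperty.isomorphisms _).arrow_mk_iso_iff e').1 hg'

end Main

end Groth.Agent.Lib.Helper11.SerreLoc
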