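import Mathlib
import Groth.Agent.S0489
import Groth.Agent.S6616

set_option autoImplicit false
set_option linter.unusedSectionVars false
universe v u
open CategoryTheory CategoryTheory.Limits ZeroObject

namespace Groth.Agent.Lib.Helper11.Spalt

section Prod
variable {A : Type u} [Category.{v} A] [Abelian A]
  [HasLimitsOfShape (Discrete ℕ) A] [HasExactLimitsOfShape (Discrete ℕ) A]

/-- countable products of epimorphisms are epimorphisms (AB4* for `ℕ`). -/
lemma epi_piMap {X Y : ℕ → A} (e : ∀ n, X n ⟶ Y n) [∀ n, Epi (e n)] : Epi (Limits.Pi.map e) := by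
  let α : Discrete.functor X ⟶ Discrete.functor Y := Discrete.natTrans (fun j => e j.as)
  have h : Epi α := by
    have : ∀ j, Epi (α.app j) := fun j => inferInstanceAs (Epi (e j.as))
    apply NatTrans.epi_of_epi_app
  exact (inferInstance : Epi ((lim : (Discrete ℕ ⥤ A) ⥤ A).map α))

/-- countable products of exact short complexes are exact. -/
lemma exact_piMap (S : ℕ → ShortComplex A) (hS : ∀ n, (S n).Exact) :
    (ShortComplex.mk (Limits.Pi.map (fun n => (S n).f)) (Limits.Pi.map (fun n => (S n).g)) (by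
      ext n; simp)).Exact := by
  rw [ShortComplex.exact_iff_exact_up_to_refinements]
  intro W k hk
  dsimp at k hk
  have hk' : ∀ n, (k ≫ Pi.π _ n) ≫ (S n).g = 0 := fun n => by
    have := hk =≫ Pi.π _ n
    simpa using this
  let e : ∀ n, (S n).X₁ ⟶ kernel (S n).g := fun n => kernel.lift (S n).g (S n).f (S n).zero
  have he : ∀ n, Epi (e n) := fun n => (ShortComplex.exact_iff_epi_kernel_lift _).1 (hS n)
  have hE : Epi (Limits.Pi.map e) := epi_piMap e
  let k' : W ⟶ ∏ᶜ (fun n => kernel (S n).g) :=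
    Pi.lift (fun n => kernel.lift (S n).g (k ≫ Pi.π _ n) (hk' n))
  obtain ⟨W', c, hc, x, hx⟩ := (epi_iff_surjective_up_to_refinements (Limits.Pi.map e)).1 hE k'
  refine ⟨W', c, hc, x, ?_⟩
  dsimp
  ext n
  have := (hx =≫ Pi.π _ n) =≫ kernel.ι _
  simpa [e, k'] using this

omit [HasExactLimitsOfShape (Discrete ℕ) A] in
/-- `1 - shift` is a split epimorphism on the product of a tower whose transition maps have
sections. -/
lemma exists_section_one_sub_shift (H : ℕ → A) (t : ∀ n, H (n + 1) ⟶ H n)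
    (r : ∀ n, H n ⟶ H (n + 1)) (hr : ∀ n, r n ≫ t n = 𝟙 _) :
    ∃ g : ∏ᶜ H ⟶ ∏ᶜ H, g ≫ (𝟙 _ - Pi.lift (fun n => Pi.π H (n + 1) ≫ t n)) = 𝟙 _ := by
  let G : ∀ n, ∏ᶜ H ⟶ H n := fun n => Nat.rec (motive := fun n => (∏ᶜ H ⟶ H n)) 0
    (fun n Gn => (Gn - Pi.π H n) ≫ r n) n
  have hG : ∀ n, G (n + 1) = (G n - Pi.π H n) ≫ r n := fun n => rfl
  refine ⟨Pi.lift G, ?_⟩
  ext n
  simp only [Preadditive.comp_sub, Category.comp_id, Preadditive.sub_comp, Category.assoc,
    Pi.lift_π, Category.id_comp]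
  rw [Pi.lift_π_assoc, hG, Category.assoc, hr, Category.comp_id]
  abel

end Prod

section PC
variable {A : Type u} [Category.{v} A] [Abelian A] [HasLimitsOfShape (Discrete ℕ) A]
variable (Q : ℕ → CochainComplex A ℤ)

/-- the explicit (termwise) product complex. -/
noncomputable def PC : CochainComplex A ℤ where
  X m := ∏ᶜ (fun n => (Q n).X m)
  d i j := Limits.Pi.map (fun n => (Q n).d i j)
  shape i j h := by
    ext n
    simp [(Q n).shape i j h]
  d_comp_d' i j k _ _ := by
    ext n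
    simp

/-- projections of the product complex. -/
noncomputable def PCπ (n : ℕ) : PC Q ⟶ Q n where
  f m := Pi.π _ n
  comm' i j _ := by simp [PC]

@[reassoc]
lemma PC_d_π (i j : ℤ) (n : ℕ) :
    (PC Q).d i j ≫ (PCπ Q n).f j = (PCπ Q n).f i ≫ (Q n).d i j :=
  ((PCπ Q n).comm i j).symm

lemma PCX_hom_ext {W : A} {m : ℤ} (a b : W ⟶ (PC Q).X m)
    (h : ∀ n, a ≫ (PCπ Q n).f m = b ≫ (PCπ Q n).f m) : a = b :=
  Pi.hom_ext _ _ h

/-- lift into a term of the product complex. -/
noncomputable def PCXlift {W : A} {m : ℤ} (a : ∀ n, W ⟶ (Q n).X m) : W ⟶ (PC Q).X m :=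
  Pi.lift a

@[reassoc (attr := simp)]
lemma PCXlift_π {W : A} {m : ℤ} (a : ∀ n, W ⟶ (Q n).X m) (n : ℕ) :
    PCXlift Q a ≫ (PCπ Q n).f m = a n :=
  Pi.lift_π _ _

/-- universal map to the product complex. -/
noncomputable def PClift {K : CochainComplex A ℤ} (f : ∀ n, K ⟶ Q n) : K ⟶ PC Q where
  f m := PCXlift Q (fun n => (f n).f m)
  comm' i j _ := by
    apply PCX_hom_ext
    intro n
    rw [Category.assoc, PC_d_π, PCXlift_π_assoc, Category.assoc, PCXlift_π]
    exact (f n).comm i j

@[reassoc (attr := simp)]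
lemma PClift_π {K : CochainComplex A ℤ} (f : ∀ n, K ⟶ Q n) (n : ℕ) :
    PClift Q f ≫ PCπ Q n = f n := by
  ext m
  simp [PClift]

lemma PC_hom_ext {K : CochainComplex A ℤ} (a b : K ⟶ PC Q)
    (h : ∀ n, a ≫ PCπ Q n = b ≫ PCπ Q n) : a = b := by
  ext m
  apply PCX_hom_ext
  intro n
  exact congrArg (fun φ => φ.f m) (h n)

lemma isKInjective_PC (h : ∀ n, (Q n).IsKInjective) : (PC Q).IsKInjective := by
  refine ⟨fun {K} f hK => ?_⟩
  have hH : ∀ n, Nonempty (Homotopy (f ≫ PCπ Q n) 0) := fun n =>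
    (h n).nonempty_homotopy_zero _ hK
  choose H _ using fun n => (⟨(hH n).some, trivial⟩ : ∃ _ : Homotopy (f ≫ PCπ Q n) 0, True)
  refine ⟨{ hom := fun i j => PCXlift Q (fun n => (H n).hom i j), zero := ?_, comm := ?_ }⟩
  · intro i j hij
    apply PCX_hom_ext
    intro n
    simp [(H n).zero i j hij]
  · intro i
    have h1 : (ComplexShape.up ℤ).Rel i (i + 1) := rfl
    have h2 : (ComplexShape.up ℤ).Rel (i - 1) i := by simp
    rw [dNext_eq _ h1, prevD_eq _ h2]
    apply PCX_hom_ext
    intro n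
    have := (H n).comm i
    rw [dNext_eq _ h1, prevD_eq _ h2] at this
    simp only [HomologicalComplex.comp_f, HomologicalComplex.zero_f, add_zero] at this ⊢
    simp only [Preadditive.add_comp, Category.assoc, PCXlift_π, PC_d_π, PCXlift_π_assoc]
    exact this

end PC

section Hom
variable {A : Type u} [Category.{v} A] [Abelian A] [HasLimitsOfShape (Discrete ℕ) A]
  [HasExactLimitsOfShape (Discrete ℕ) A]
variable (Q : ℕ → CochainComplex A ℤ)

/-- the comparison map from the homology of the product to the product of homologies. -/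
noncomputable def cmp (j : ℤ) : (PC Q).homology j ⟶ ∏ᶜ (fun n => (Q n).homology j) :=
  Pi.lift (fun n => HomologicalComplex.homologyMap (PCπ Q n) j)

@[reassoc (attr := simp)]
lemma cmp_π (j : ℤ) (n : ℕ) :
    cmp Q j ≫ Pi.π _ n = HomologicalComplex.homologyMap (PCπ Q n) j :=
  Pi.lift_π _ _

lemma epi_cmp (j : ℤ) : Epi (cmp Q j) := by
  rw [epi_iff_surjective_up_to_refinements]
  intro W y
  have hE : Epi (Limits.Pi.map (fun n => (Q n).homologyπ j)) := epi_piMap _
  obtain ⟨W', c, hc, y', hy'⟩ := (epi_iff_surjective_up_to_refinements _).1 hE y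
  let z : W' ⟶ (PC Q).X j := PCXlift Q (fun n => y' ≫ Pi.π _ n ≫ (Q n).iCycles j)
  have hz : z ≫ (PC Q).d j (j + 1) = 0 := by
    apply PCX_hom_ext
    intro n
    rw [Category.assoc, PC_d_π, PCXlift_π_assoc, zero_comp]
    simp
  refine ⟨W', c, hc, (PC Q).liftCycles z (j + 1) (by simp) hz ≫ (PC Q).homologyπ j, ?_⟩
  apply Pi.hom_ext
  intro n
  have hy'' := hy' =≫ Pi.π _ n
  simp only [Category.assoc, Limits.Pi.map_π] at hy''
  have key : (Q n).liftCycles (z ≫ (PCπ Q n).f j) (j + 1) (by simp)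
      (by rw [Category.assoc, ← PC_d_π, reassoc_of% hz, zero_comp]) =
      y' ≫ Pi.π _ n := by
    rw [← cancel_mono ((Q n).iCycles j), HomologicalComplex.liftCycles_i, Category.assoc,
      PCXlift_π]
  rw [Category.assoc, hy'', Category.assoc, Category.assoc, cmp_π,
    HomologicalComplex.homologyπ_naturality, HomologicalComplex.liftCycles_comp_cyclesMap_assoc,
    key, Category.assoc]

lemma mono_cmp (j : ℤ) : Mono (cmp Q j) := by
  apply Preadditive.mono_of_cancel_zero
  intro W y hy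
  obtain ⟨W', c, hc, z, hz, hzy⟩ :=
    (PC Q).eq_liftCycles_homologyπ_up_to_refinements y (j + 1) (by simp)
  have hzn : ∀ n, (z ≫ (PCπ Q n).f j) ≫ cokernel.π ((Q n).d (j - 1) j) = 0 := by
    intro n
    have h1 : ((PC Q).liftCycles z (j + 1) (by simp) hz ≫ (PC Q).homologyπ j) ≫
        HomologicalComplex.homologyMap (PCπ Q n) j = 0 := by
      rw [← hzy, Category.assoc, ← cmp_π, reassoc_of% hy, zero_comp, comp_zero]
    rw [Category.assoc, HomologicalComplex.homologyπ_naturality,
      HomologicalComplex.liftCycles_comp_cyclesMap_assoc] at h1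
    obtain ⟨W₁, c₁, hc₁, x₁, hx₁⟩ :=
      ((Q n).liftCycles_comp_homologyπ_eq_zero_iff_up_to_refinements (j - 1) j (j + 1)
        (by simp) (by simp) _ _).1 h1
    rw [← cancel_epi c₁, ← Category.assoc, hx₁, Category.assoc, cokernel.condition, comp_zero,
      comp_zero]
  have hex := exact_piMap (fun n => ShortComplex.mk ((Q n).d (j - 1) j)
    (cokernel.π ((Q n).d (j - 1) j)) (cokernel.condition _))
    (fun n => ShortComplex.exact_cokernel _)
  let z' : W' ⟶ ∏ᶜ (fun n => (Q n).X j) := z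
  have hz' : z' ≫ Limits.Pi.map (fun n => cokernel.π ((Q n).d (j - 1) j)) = 0 := by
    apply Pi.hom_ext
    intro n
    rw [Category.assoc, Limits.Pi.map_π, zero_comp, ← Category.assoc]
    exact hzn n
  obtain ⟨W₂, c₂, hc₂, x₁, hx₁⟩ := hex.exact_up_to_refinements z' hz'
  have h0 : (PC Q).liftCycles z (j + 1) (by simp) hz ≫ (PC Q).homologyπ j = 0 :=
    ((PC Q).liftCycles_comp_homologyπ_eq_zero_iff_up_to_refinements (j - 1) j (j + 1)
      (by simp) (by simp) _ _).2 ⟨W₂, c₂, hc₂, x₁, hx₁⟩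
  rw [← cancel_epi c, hzy, h0, comp_zero]

instance isIso_cmp (j : ℤ) : IsIso (cmp Q j) :=
  have := mono_cmp Q j
  have := epi_cmp Q j
  isIso_of_mono_of_epi _

end Hom

section Tower
variable {A : Type u} [Category.{v} A] [Abelian A] [HasLimitsOfShape (Discrete ℕ) A]
variable (Q : ℕ → CochainComplex A ℤ) (p : ∀ n, Q (n + 1) ⟶ Q n)

/-- the shift endomorphism of the product complex. -/
noncomputable def sh : PC Q ⟶ PC Q := PClift Q (fun n => PCπ Q (n + 1) ≫ p n)

/-- `1 - shift`. -/
noncomputable def dd : PC Q ⟶ PC Q := 𝟙 _ - sh Q p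

@[reassoc]
lemma dd_π (n : ℕ) : dd Q p ≫ PCπ Q n = PCπ Q n - PCπ Q (n + 1) ≫ p n := by
  simp [dd, sh]

lemma isSplitEpi_dd_f
    (hs : ∀ n i, ∃ s : (Q n).X i ⟶ (Q (n + 1)).X i, s ≫ (p n).f i = 𝟙 _) (m : ℤ) :
    IsSplitEpi ((dd Q p).f m) := by
  choose r hr using fun n => hs n m
  obtain ⟨g, hg⟩ := exists_section_one_sub_shift (fun n => (Q n).X m) (fun n => (p n).f m) r hr
  have e : (dd Q p).f m = 𝟙 _ - Pi.lift (fun n => Pi.π (fun n => (Q n).X m) (n + 1) ≫ (p n).f m) := by
    simp only [dd, sh, HomologicalComplex.sub_f_apply, HomologicalComplex.id_f]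
    rfl
  exact ⟨⟨⟨g, by rw [e]; exact hg⟩⟩⟩

end Tower

section Main
open HomologicalComplex
variable {A : Type u} [Category.{v} A] [Abelian A] [HasLimitsOfShape (Discrete ℕ) A]
  [HasExactLimitsOfShape (Discrete ℕ) A]
variable (Q : ℕ → CochainComplex A ℤ) (p : ∀ n, Q (n + 1) ⟶ Q n)

omit [HasExactLimitsOfShape (Discrete ℕ) A] in
/-- the short complex `0 → L → P → P → 0`. -/
noncomputable def SS : ShortComplex (CochainComplex A ℤ) :=
  ShortComplex.mk (kernel.ι (dd Q p)) (dd Q p) (kernel.condition _)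

omit [HasExactLimitsOfShape (Discrete ℕ) A] in
lemma shortExact_SS
    (hs : ∀ n i, ∃ s : (Q n).X i ⟶ (Q (n + 1)).X i, s ≫ (p n).f i = 𝟙 _) :
    (SS Q p).ShortExact where
  exact := ShortComplex.exact_kernel _
  mono_f := inferInstanceAs (Mono (kernel.ι (dd Q p)))
  epi_g := by
    have : ∀ m, Epi ((dd Q p).f m) := fun m => by
      have := isSplitEpi_dd_f Q p hs m
      infer_instance
    exact HomologicalComplex.epi_of_epi_f _ this

lemma homologyMap_dd_cmp (i : ℤ) :
    homologyMap (dd Q p) i ≫ cmp Q i =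
      cmp Q i ≫ (𝟙 _ - Pi.lift (fun n => Pi.π (fun n => (Q n).homology i) (n + 1) ≫
        homologyMap (p n) i)) := by
  apply Pi.hom_ext
  intro n
  simp only [Category.assoc, cmp_π, Preadditive.comp_sub, Preadditive.sub_comp, Category.comp_id,
    Pi.lift_π, cmp_π_assoc]
  rw [← homologyMap_comp, dd_π, homologyMap_sub, homologyMap_comp]

lemma epi_homologyMap_dd (i : ℤ)
    (ht : ∀ n, ∃ r : (Q n).homology i ⟶ (Q (n + 1)).homology i,
      r ≫ homologyMap (p n) i = 𝟙 _) :
    Epi (homologyMap (dd Q p) i) := by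
  choose r hr using ht
  obtain ⟨g, hg⟩ := exists_section_one_sub_shift (fun n => (Q n).homology i)
    (fun n => homologyMap (p n) i) r hr
  have h := homologyMap_dd_cmp Q p i
  have e : homologyMap (dd Q p) i = cmp Q i ≫ (𝟙 _ - Pi.lift (fun n =>
      Pi.π (fun n => (Q n).homology i) (n + 1) ≫ homologyMap (p n) i)) ≫ inv (cmp Q i) := by
    rw [← Category.assoc, ← h, Category.assoc, IsIso.hom_inv_id, Category.comp_id]
  have : Epi (𝟙 _ - Pi.lift (fun n =>
      Pi.π (fun n => (Q n).homology i) (n + 1) ≫ homologyMap (p n) i)) :=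
    (IsSplitEpi.mk' ⟨g, hg⟩).epi
  rw [e]
  infer_instance

theorem quasiIso_lift
    (hs : ∀ n i, ∃ s : (Q n).X i ⟶ (Q (n + 1)).X i, s ≫ (p n).f i = 𝟙 _)
    (K : CochainComplex A ℤ) (a : ∀ n, K ⟶ Q n)
    (ha : ∀ n, a (n + 1) ≫ p n = a n)
    (h1 : ∀ (j : ℤ) (n : ℕ), -(n : ℤ) ≤ j → IsIso (homologyMap (a n) j))
    (h2 : ∀ (j : ℤ) (n : ℕ), j < -(n : ℤ) → IsZero ((Q n).homology j))
    (f : K ⟶ kernel (dd Q p)) (hf : f ≫ kernel.ι (dd Q p) = PClift Q a) : QuasiIso f := by
  rw [quasiIso_iff]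
  intro j
  rw [quasiIsoAt_iff_isIso_homologyMap]
  have hiso : ∀ (i : ℤ) (n : ℕ), -(n : ℤ) ≤ i → IsIso (homologyMap (p n) i) := by
    intro i n hn
    have := h1 i n hn
    have := h1 i (n + 1) (by push_cast; omega)
    have e : homologyMap (a (n + 1)) i ≫ homologyMap (p n) i = homologyMap (a n) i := by
      rw [← homologyMap_comp, ha]
    exact IsIso.of_isIso_fac_left e
  have hsec : ∀ (i : ℤ) (n : ℕ), ∃ r : (Q n).homology i ⟶ (Q (n + 1)).homology i,
      r ≫ homologyMap (p n) i = 𝟙 _ := by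
    intro i n
    by_cases hn : -(n : ℤ) ≤ i
    · have := hiso i n hn
      exact ⟨inv _, IsIso.inv_hom_id _⟩
    · exact ⟨0, (h2 i n (by omega)).eq_of_src _ _⟩
  have hS := shortExact_SS Q p hs
  have hepi : Epi (homologyMap (dd Q p) (j - 1)) := epi_homologyMap_dd Q p (j - 1) (hsec (j - 1))
  have hδ : hS.δ (j - 1) j (by simp) = 0 :=
    ((hS.homology_exact₃ (j - 1) j (by simp)).epi_f_iff).1 hepi
  have hmono : Mono (homologyMap (kernel.ι (dd Q p)) j) :=
    ((hS.homology_exact₁ (j - 1) j (by simp)).mono_g_iff).2 hδ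
  have hN : ∀ n : ℕ, -(n : ℤ) ≤ j ↔ (-j).toNat ≤ n := by
    intro n
    omega
  set N := (-j).toNat with hNdef
  let u := homologyMap (kernel.ι (dd Q p)) j ≫ homologyMap (PCπ Q N) j
  have hu : Mono u := by
    apply Preadditive.mono_of_cancel_zero
    intro W y hy
    have key : ∀ n, (y ≫ homologyMap (kernel.ι (dd Q p)) j) ≫ homologyMap (PCπ Q n) j =
        ((y ≫ homologyMap (kernel.ι (dd Q p)) j) ≫ homologyMap (PCπ Q (n + 1)) j) ≫
          homologyMap (p n) j := by
      intro n
      have : homologyMap (kernel.ι (dd Q p)) j ≫ homologyMap (dd Q p ≫ PCπ Q n) j = 0 := by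
        rw [← homologyMap_comp, kernel.condition_assoc, zero_comp, homologyMap_zero]
      rw [dd_π, homologyMap_sub, Preadditive.comp_sub, sub_eq_zero, homologyMap_comp] at this
      simp only [Category.assoc]
      rw [this]
    have hz : ∀ n, (y ≫ homologyMap (kernel.ι (dd Q p)) j) ≫ homologyMap (PCπ Q n) j = 0 := by
      intro n
      by_cases hn : -(n : ℤ) ≤ j
      · have hn' := (hN n).1 hn
        induction n, hn' using Nat.le_induction with
        | base =>
          rw [Category.assoc]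
          exact hy
        | succ n hn' ih =>
          have hn2 : -(n : ℤ) ≤ j := (hN n).2 hn'
          have := hiso j n hn2
          rw [← cancel_mono (homologyMap (p n) j), ← key, ih hn2, zero_comp]
      · exact (h2 j n (by omega)).eq_of_tgt _ _
    have h0 : y ≫ homologyMap (kernel.ι (dd Q p)) j = 0 := by
      rw [← cancel_mono (cmp Q j)]
      apply Pi.hom_ext
      intro n
      rw [Category.assoc, cmp_π, zero_comp, zero_comp]
      exact hz n
    rw [← cancel_mono (homologyMap (kernel.ι (dd Q p)) j), h0, zero_comp]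
  have hfu : homologyMap f j ≫ u = homologyMap (a N) j := by
    dsimp only [u]
    rw [← homologyMap_comp, ← homologyMap_comp, reassoc_of% hf, PClift_π]
  have hI := h1 j N ((hN N).2 le_rfl)
  have hiso' : IsIso (homologyMap f j ≫ u) := by
    rw [hfu]
    infer_instance
  have hue : Epi u := epi_of_epi_fac hfu
  have : IsIso u := isIso_of_mono_of_epi u
  exact IsIso.of_isIso_comp_right (homologyMap f j) u

end Main

section Final
open HomologicalComplex
variable {A : Type u} [Category.{v} A] [Abelian A] [EnoughInjectives A]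
  [HasLimitsOfShape (Discrete ℕ) A] [HasExactLimitsOfShape (Discrete ℕ) A]

theorem main (K : CochainComplex A ℤ) :
    ∃ (I : CochainComplex A ℤ) (f : K ⟶ I), I.IsKInjective ∧ QuasiIso f := by
  let I : ObjectProperty A := fun X => Injective X
  have hIiso : I.IsClosedUnderIsomorphisms := ⟨fun e h => Injective.of_iso e h⟩
  obtain ⟨Q, p, π, h1, h2, h3, h4, h5⟩ := Groth.Agent.S6616.result I
    ⟨0, isZero_zero A, (inferInstance : Injective (0 : A))⟩
    (fun X Y (hX : Injective X) (hY : Injective Y) => (inferInstance : Injective (X ⊞ Y)))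
    (fun X => ⟨Injective.under X, Injective.ι X, (inferInstance : Injective (Injective.under X)),
      inferInstance⟩) K
  have hQ : ∀ n, (Q n).IsKInjective := by
    intro n
    obtain ⟨a, ha⟩ := h2 n
    have : ∀ i, Injective ((Q n).X i) := fun i => h3 n i
    exact CochainComplex.isKInjective_of_injective (Q n) a
  have hs : ∀ n i, ∃ s : (Q n).X i ⟶ (Q (n + 1)).X i, s ≫ (p n).f i = 𝟙 _ :=
    fun n i => (h4 n i).1
  let a : ∀ n : ℕ, K ⟶ Q n := fun n => K.πTruncGE (-(n : ℤ)) ≫ π n
  have ha : ∀ n, a (n + 1) ≫ p n = a n := by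
    intro n
    have := h5 n
    simp only [a, Category.assoc]
    exact this
  have hP : (PC Q).IsKInjective := isKInjective_PC Q hQ
  have hL : (kernel (dd Q p)).IsKInjective :=
    Groth.Agent.S0489.isKInjective_kernel_of_degreewise_splitEpi (dd Q p)
      (isSplitEpi_dd_f Q p hs) hP hP
  have hw : PClift Q a ≫ dd Q p = 0 := by
    apply PC_hom_ext
    intro n
    rw [Category.assoc, dd_π, Preadditive.comp_sub, PClift_π, PClift_π_assoc, ha, sub_self,
      zero_comp]
  refine ⟨kernel (dd Q p), kernel.lift _ (PClift Q a) hw, hL, ?_⟩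
  refine quasiIso_lift Q p hs K a ha ?_ ?_ _ (kernel.lift_ι _ _ _)
  · intro j n hn
    have e1 : QuasiIsoAt (K.πTruncGE (-(n : ℤ))) j := K.quasiIsoAt_πTruncGE _ _ hn
    rw [quasiIsoAt_iff_isIso_homologyMap] at e1
    have e2 : QuasiIsoAt (π n) j := by
      have := (h1 n).1
      infer_instance
    rw [quasiIsoAt_iff_isIso_homologyMap] at e2
    dsimp only [a]
    rw [homologyMap_comp]
    infer_instance
  · intro j n hn
    have e2 : QuasiIsoAt (π n) j := by
      have := (h1 n).1
      infer_instance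
    rw [quasiIsoAt_iff_isIso_homologyMap] at e2
    have hz : IsZero ((K.truncGE (-(n : ℤ))).homology j) :=
      (K.truncGE (-(n : ℤ))).isZero_of_isGE (-(n : ℤ)) j hn
    exact hz.of_iso (asIso (homologyMap (π n) j)).symm

end Final

end Groth.Agent.Lib.Helper11.Spalt
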