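import Mathlib
import Groth.Prelude.Def_Smoothing
import Groth.Agent.Lib.Helper23.PBasisDer

/-!
# Strictly standard elements: stably free differentials (helper11)
-/

set_option autoImplicit false
set_option linter.unusedSectionVars false
universe u

namespace Groth.Agent.Lib.Helper11.StrictStd

section LinAlg

variable {B : Type*} [CommRing B]

/-- splitting lemma: a surjection `π` from `B^n` whose kernel is the range of a split injection
`J : B^c → B^n` gives `Ω × B^c ≃ B^n`. -/
theorem nonempty_prod_equiv {Ω : Type*} [AddCommGroup Ω] [Module B Ω] {n c : ℕ}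
    (π : (Fin n → B) →ₗ[B] Ω) (hπ : Function.Surjective π)
    (J : (Fin c → B) →ₗ[B] (Fin n → B)) (L : (Fin n → B) →ₗ[B] (Fin c → B))
    (hLJ : L ∘ₗ J = LinearMap.id) (hker : LinearMap.ker π = LinearMap.range J) :
    Nonempty ((Ω × (Fin c → B)) ≃ₗ[B] (Fin n → B)) := by
  let F : (Fin n → B) →ₗ[B] (Ω × (Fin c → B)) := π.prod L
  have hinj : Function.Injective F := by
    rw [injective_iff_map_eq_zero]
    intro v hv
    have h1 : π v = 0 := congrArg Prod.fst hv
    have h2 : L v = 0 := congrArg Prod.snd hv
    have h3 : v ∈ LinearMap.range J := by rw [← hker]; exact h1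
    obtain ⟨w, rfl⟩ := h3
    have h4 : L (J w) = w := congrArg (fun f : (Fin c → B) →ₗ[B] (Fin c → B) => f w) hLJ
    rw [h4] at h2
    rw [h2, map_zero]
  have hsurj : Function.Surjective F := by
    rintro ⟨ω, w⟩
    obtain ⟨v₀, rfl⟩ := hπ ω
    refine ⟨v₀ + J (w - L v₀), ?_⟩
    have h4 : L (J (w - L v₀)) = w - L v₀ :=
      congrArg (fun f : (Fin c → B) →ₗ[B] (Fin c → B) => f (w - L v₀)) hLJ
    have h5 : π (J (w - L v₀)) = 0 := by
      have : J (w - L v₀) ∈ LinearMap.ker π := by rw [hker]; exact ⟨_, rfl⟩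
      exact this
    show (π (v₀ + J (w - L v₀)), L (v₀ + J (w - L v₀))) = (π v₀, w)
    rw [map_add, map_add, h4, h5, add_zero]
    congr 1
    abel
  exact ⟨(LinearEquiv.ofBijective F ⟨hinj, hsurj⟩).symm⟩

/-- a `c × n` matrix whose maximal minors generate the unit ideal has a left inverse (as a map
`B^c → B^n`, `w ↦ w ᵥ* M`). -/
theorem exists_leftInverse_vecMul {n c : ℕ} (M : Matrix (Fin c) (Fin n) B)
    (u : (Fin c → Fin n) → B)
    (hu : ∑ cols : Fin c → Fin n, u cols * (M.submatrix id cols).det = 1) :
    ∃ L : (Fin n → B) →ₗ[B] (Fin c → B), L ∘ₗ M.vecMulLinear = LinearMap.id := by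
  classical
  refine ⟨∑ cols : Fin c → Fin n, u cols •
    ((M.submatrix id cols).adjugate.vecMulLinear ∘ₗ LinearMap.funLeft B B cols), ?_⟩
  apply LinearMap.ext
  intro w
  simp only [LinearMap.comp_apply, LinearMap.sum_apply, LinearMap.smul_apply, LinearMap.id_apply]
  have key : ∀ cols : Fin c → Fin n,
      (M.submatrix id cols).adjugate.vecMulLinear (LinearMap.funLeft B B cols (M.vecMulLinear w)) =
        (M.submatrix id cols).det • w := by
    intro cols
    have h1 : LinearMap.funLeft B B cols (M.vecMulLinear w) =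
        Matrix.vecMul w (M.submatrix id cols) := by
      funext k
      simp [LinearMap.funLeft, Matrix.vecMul, dotProduct, Matrix.submatrix]
    rw [h1]
    show Matrix.vecMul (Matrix.vecMul w (M.submatrix id cols)) (M.submatrix id cols).adjugate = _
    rw [Matrix.vecMul_vecMul, Matrix.mul_adjugate, Matrix.vecMul_smul, Matrix.vecMul_one]
  simp_rw [key, smul_smul]
  rw [← Finset.sum_smul, hu, one_smul]

end LinAlg

section Main

open TrivSqZeroExt MvPolynomial
open Groth.Agent.Lib.Helper23.PBasisDer

attribute [local instance] opModule isCentral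

variable {R A B : Type u} [CommRing R] [CommRing A] [CommRing B] [Algebra R A] [Algebra R B]
  [Algebra A B] [IsScalarTower R A B]
  {n m c : ℕ} (hcm : c ≤ m) (rel : Fin m → MvPolynomial (Fin n) R)
  (hom : MvPolynomial (Fin n) R →ₐ[R] A)

variable (B) in
/-- the composite `R[x] → A → B` -/
noncomputable def psi : MvPolynomial (Fin n) R →+* B :=
  (algebraMap A B).comp hom.toRingHom

variable (B) in
/-- the gradient row of a polynomial, in `B` -/
noncomputable def row (s : MvPolynomial (Fin n) R) : Fin n → B :=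
  fun i => psi B hom (pderiv i s)

theorem psi_C (r : R) : psi B hom (C r) = algebraMap R B r := by
  show algebraMap A B (hom (C r)) = _
  rw [← MvPolynomial.algebraMap_eq, AlgHom.commutes, ← IsScalarTower.algebraMap_apply]

theorem row_C (r : R) : row B hom (C r) = 0 := by
  funext i
  simp [row]

theorem row_add (s t : MvPolynomial (Fin n) R) : row B hom (s + t) = row B hom s + row B hom t := by
  funext i
  simp [row]

theorem row_mul (s t : MvPolynomial (Fin n) R) :
    row B hom (s * t) = psi B hom s • row B hom t + psi B hom t • row B hom s := by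
  funext i
  simp only [row, Pi.add_apply, Pi.smul_apply, smul_eq_mul, Derivation.leibniz, map_add, map_mul]

theorem row_X (i : Fin n) : row B hom (X i) = Pi.single i 1 := by
  classical
  funext k
  simp only [row, pderiv_X]
  by_cases h : i = k
  · subst h; simp
  · rw [Pi.single_eq_of_ne h, Pi.single_eq_of_ne (Ne.symm h)]; simp

variable (B) in
/-- the Jacobian matrix of the leading relations, over `B` -/
noncomputable def jac : Matrix (Fin c) (Fin n) B :=
  Matrix.of fun j i => psi B hom (pderiv i (rel (Fin.castLE hcm j)))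

theorem vecMul_single_jac (j : Fin c) :
    (jac B hcm rel hom).vecMulLinear (Pi.single j 1) = row B hom (rel (Fin.castLE hcm j)) := by
  classical
  funext i
  simp [jac, row, Matrix.vecMulLinear, Matrix.vecMul, dotProduct, Pi.single_apply]

variable (B) in
/-- the submodule spanned by the leading gradient rows -/
noncomputable def NN : Submodule B (Fin n → B) :=
  LinearMap.range (jac B hcm rel hom).vecMulLinear

theorem row_mem_NN (j : Fin c) : row B hom (rel (Fin.castLE hcm j)) ∈ NN B hcm rel hom :=
  ⟨Pi.single j 1, vecMul_single_jac hcm rel hom j⟩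

variable (B) in
/-- the quotient `B^n / N` -/
def QQ : Type u := (Fin n → B) ⧸ NN B hcm rel hom

noncomputable instance : AddCommGroup (QQ B hcm rel hom) :=
  inferInstanceAs (AddCommGroup ((Fin n → B) ⧸ NN B hcm rel hom))

noncomputable instance : Module B (QQ B hcm rel hom) :=
  inferInstanceAs (Module B ((Fin n → B) ⧸ NN B hcm rel hom))

noncomputable instance : Module R (QQ B hcm rel hom) :=
  Module.compHom (QQ B hcm rel hom) (algebraMap R B)

instance : IsScalarTower R B (QQ B hcm rel hom) :=
  IsScalarTower.of_algebraMap_smul fun _ _ => rfl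

variable (B) in
/-- the quotient map -/
noncomputable def mkQQ : (Fin n → B) →ₗ[B] QQ B hcm rel hom := (NN B hcm rel hom).mkQ

theorem mkQQ_eq_zero_iff (v : Fin n → B) : mkQQ B hcm rel hom v = 0 ↔ v ∈ NN B hcm rel hom :=
  Submodule.Quotient.mk_eq_zero _

variable (B) in
/-- images of the variables in the square-zero extension -/
noncomputable def zz (i : Fin n) : TrivSqZeroExt B (QQ B hcm rel hom) :=
  inl (psi B hom (X i)) + inr (mkQQ B hcm rel hom (Pi.single i 1))

variable (B) in
/-- the ring hom `R[x] → B ⊕ Q` -/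
noncomputable def w0 : MvPolynomial (Fin n) R →+* TrivSqZeroExt B (QQ B hcm rel hom) :=
  eval₂Hom ((inlHom B (QQ B hcm rel hom)).comp (algebraMap R B)) (zz B hcm rel hom)

theorem w0_apply (s : MvPolynomial (Fin n) R) :
    w0 B hcm rel hom s = inl (psi B hom s) + inr (mkQQ B hcm rel hom (row B hom s)) := by
  induction s using MvPolynomial.induction_on with
  | C r =>
    rw [w0, coe_eval₂Hom, eval₂_C, psi_C, row_C, map_zero, inr_zero, add_zero]
    rfl
  | add s t hs ht =>
    rw [map_add, hs, ht, map_add, row_add, map_add, inl_add, inr_add]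
    abel
  | mul_X s i hs =>
    rw [map_mul, hs]
    have hX : w0 B hcm rel hom (X i) = zz B hcm rel hom i := by
      rw [w0, coe_eval₂Hom, eval₂_X]
    rw [hX, zz, row_mul, row_X, map_mul]
    apply TrivSqZeroExt.ext
    · simp
    · simp only [snd_mul, fst_add, fst_inl, fst_inr, add_zero, snd_add, snd_inl, snd_inr, zero_add,
        op_smul_eq_smul, map_add, map_smul]

section Kill

variable (ker_eq : RingHom.ker hom.toRingHom = Ideal.span (Set.range rel))
  (a' : MvPolynomial (Fin n) R) (hunit : IsUnit (psi B hom a'))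
  (hkill : ∀ j : Fin m, c ≤ (j : ℕ) →
    a' * rel j ∈ Ideal.span (rel '' {j' : Fin m | (j' : ℕ) < c}) ⊔ Ideal.span (Set.range rel) ^ 2)

theorem psi_eq_zero_of_mem_ker {f : MvPolynomial (Fin n) R} (hf : f ∈ RingHom.ker hom.toRingHom) :
    psi B hom f = 0 := by
  show algebraMap A B (hom.toRingHom f) = 0
  rw [RingHom.mem_ker.1 hf, map_zero]

theorem w0_of_psi_eq_zero {f : MvPolynomial (Fin n) R} (hf : psi B hom f = 0) :
    w0 B hcm rel hom f = inr (mkQQ B hcm rel hom (row B hom f)) := by
  rw [w0_apply, hf, inl_zero, zero_add]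

theorem w0_mul_eq_zero {f g : MvPolynomial (Fin n) R} (hf : psi B hom f = 0)
    (hg : psi B hom g = 0) : w0 B hcm rel hom (f * g) = 0 := by
  rw [map_mul, w0_of_psi_eq_zero hcm rel hom hf, w0_of_psi_eq_zero hcm rel hom hg, inr_mul_inr]

include ker_eq in
theorem w0_lead (j : Fin c) : w0 B hcm rel hom (rel (Fin.castLE hcm j)) = 0 := by
  have h1 : rel (Fin.castLE hcm j) ∈ RingHom.ker hom.toRingHom := by
    rw [ker_eq]; exact Ideal.subset_span ⟨_, rfl⟩
  rw [w0_of_psi_eq_zero hcm rel hom (psi_eq_zero_of_mem_ker hom h1),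
    (mkQQ_eq_zero_iff hcm rel hom _).2 (row_mem_NN hcm rel hom j), inr_zero]

include ker_eq hunit hkill in
theorem ker_le_ker_w0 : RingHom.ker hom.toRingHom ≤ RingHom.ker (w0 B hcm rel hom) := by
  have hlead : Ideal.span (rel '' {j' : Fin m | (j' : ℕ) < c}) ≤ RingHom.ker (w0 B hcm rel hom) := by
    rw [Ideal.span_le]
    rintro _ ⟨j', hj', rfl⟩
    have : j' = Fin.castLE hcm ⟨j', hj'⟩ := by ext; simp
    rw [this]
    exact w0_lead hcm rel hom ker_eq ⟨j', hj'⟩
  have hsq : Ideal.span (Set.range rel) ^ 2 ≤ RingHom.ker (w0 B hcm rel hom) := by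
    rw [pow_two, Ideal.mul_le]
    intro u hu v hv
    rw [← ker_eq] at hu hv
    exact w0_mul_eq_zero hcm rel hom (psi_eq_zero_of_mem_ker hom hu) (psi_eq_zero_of_mem_ker hom hv)
  have hu : IsUnit (w0 B hcm rel hom a') := by
    rw [TrivSqZeroExt.isUnit_iff_isUnit_fst, w0_apply]
    simpa using hunit
  rw [ker_eq, Ideal.span_le]
  rintro _ ⟨j, rfl⟩
  by_cases hj : (j : ℕ) < c
  · exact hlead (Ideal.subset_span ⟨j, hj, rfl⟩)
  · have h1 : a' * rel j ∈ RingHom.ker (w0 B hcm rel hom) :=
      (sup_le hlead hsq) (hkill j (not_lt.1 hj))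
    rw [RingHom.mem_ker, map_mul] at h1
    rw [SetLike.mem_coe, RingHom.mem_ker]
    exact (hu.mul_right_eq_zero).1 h1

end Kill

section Deriv

variable (a : A) [IsLocalization.Away a B] (surj : Function.Surjective hom)
  (ker_eq : RingHom.ker hom.toRingHom = Ideal.span (Set.range rel))
  (a' : MvPolynomial (Fin n) R) (ha' : hom a' = a)
  (hkill : ∀ j : Fin m, c ≤ (j : ℕ) →
    a' * rel j ∈ Ideal.span (rel '' {j' : Fin m | (j' : ℕ) < c}) ⊔ Ideal.span (Set.range rel) ^ 2)

include a ha' in
theorem isUnit_psi : IsUnit (psi B hom a') := by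
  show IsUnit (algebraMap A B (hom a'))
  rw [ha']
  exact IsLocalization.Away.algebraMap_isUnit a

include a surj ker_eq ha' hkill in
/-- the derivation `B → Q` sending `ψ x_i` to the class of `e_i` -/
theorem exists_derivation :
    ∃ d : Derivation R B (QQ B hcm rel hom), ∀ s : MvPolynomial (Fin n) R,
      d (psi B hom s) = mkQQ B hcm rel hom (row B hom s) := by
  have hker := ker_le_ker_w0 hcm rel hom ker_eq a' (isUnit_psi (B := B) hom a a' ha') hkill
  -- descend to A
  let wA : A →+* TrivSqZeroExt B (QQ B hcm rel hom) :=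
    hom.toRingHom.liftOfSurjective surj ⟨w0 B hcm rel hom, hker⟩
  have hwA : ∀ s, wA (hom s) = w0 B hcm rel hom s := fun s =>
    hom.toRingHom.liftOfSurjective_comp_apply surj ⟨w0 B hcm rel hom, hker⟩ s
  -- extend to B
  have hua : IsUnit (wA a) := by
    rw [← ha', hwA, TrivSqZeroExt.isUnit_iff_isUnit_fst, w0_apply]
    simpa using isUnit_psi (B := B) hom a a' ha'
  let wB : B →+* TrivSqZeroExt B (QQ B hcm rel hom) := IsLocalization.Away.lift a hua
  have hwB : ∀ x : A, wB (algebraMap A B x) = wA x := fun x => IsLocalization.Away.lift_eq a hua x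
  have hwB' : ∀ s, wB (psi B hom s) = w0 B hcm rel hom s := fun s => by
    show wB (algebraMap A B (hom s)) = _
    rw [hwB, hwA]
  have hfst : ∀ b : B, (wB b).fst = b := by
    have : ((fstHom B B (QQ B hcm rel hom) : TrivSqZeroExt B (QQ B hcm rel hom) →ₐ[B] B).toRingHom.comp
        wB) = RingHom.id B := by
      apply IsLocalization.ringHom_ext (Submonoid.powers a)
      ext x
      obtain ⟨s, rfl⟩ := surj x
      show (wB (algebraMap A B (hom s))).fst = algebraMap A B (hom s)
      rw [hwB, hwA, w0_apply]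
      simp [psi]
    intro b
    exact congrArg (fun f : B →+* B => f b) this
  let dZ : Derivation ℤ B (QQ B hcm rel hom) := homToDer wB hfst
  have hdZ : ∀ s, dZ (psi B hom s) = mkQQ B hcm rel hom (row B hom s) := fun s => by
    rw [homToDer_apply, hwB', w0_apply]
    simp
  have hdR : ∀ r : R, dZ (algebraMap R B r) = 0 := fun r => by
    rw [← psi_C hom r, hdZ, row_C, map_zero]
  refine ⟨Derivation.mk' ({ dZ.toLinearMap.toAddMonoidHom with
      map_smul' := fun r b => by
        show dZ (r • b) = r • dZ b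
        rw [Algebra.smul_def, Derivation.leibniz, hdR, smul_zero, add_zero, algebraMap_smul] } :
        B →ₗ[R] QQ B hcm rel hom) (fun x y => dZ.leibniz x y), hdZ⟩

end Deriv

section Final

open KaehlerDifferential

variable (B) in
/-- the map `B^n → Ω[B/R]`, `e_i ↦ d(ψ x_i)` -/
noncomputable def piK : (Fin n → B) →ₗ[B] Ω[B⁄R] :=
  Fintype.linearCombination B (fun i => D R B (psi B hom (X i)))

theorem piK_single (i : Fin n) : piK B hom (Pi.single i 1) = D R B (psi B hom (X i)) := by
  classical
  simp [piK, Fintype.linearCombination_apply, Pi.single_apply]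

/-- chain rule -/
theorem D_psi (s : MvPolynomial (Fin n) R) : D R B (psi B hom s) = piK B hom (row B hom s) := by
  induction s using MvPolynomial.induction_on with
  | C r => rw [psi_C, Derivation.map_algebraMap, row_C, map_zero]
  | add s t hs ht => rw [map_add, map_add, hs, ht, row_add, map_add]
  | mul_X s i hs =>
    rw [map_mul, Derivation.leibniz, hs, row_mul, row_X, map_add, map_smul, map_smul, piK_single]

variable (a : A) [IsLocalization.Away a B] (surj : Function.Surjective hom)
  (ker_eq : RingHom.ker hom.toRingHom = Ideal.span (Set.range rel))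
  (a' : MvPolynomial (Fin n) R) (ha' : hom a' = a)
  (hkill : ∀ j : Fin m, c ≤ (j : ℕ) →
    a' * rel j ∈ Ideal.span (rel '' {j' : Fin m | (j' : ℕ) < c}) ⊔ Ideal.span (Set.range rel) ^ 2)

include a surj in
theorem piK_surjective : Function.Surjective (piK B hom) := by
  rw [← LinearMap.range_eq_top, eq_top_iff,
    ← KaehlerDifferential.span_range_map_derivation_of_isLocalization R A B (Submonoid.powers a),
    Submodule.span_le]
  rintro _ ⟨x, rfl⟩
  obtain ⟨s, rfl⟩ := surj x
  refine ⟨row B hom s, ?_⟩
  rw [← D_psi, Function.comp_apply, KaehlerDifferential.map_D]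
  rfl

include a surj ker_eq ha' hkill in
theorem ker_piK : LinearMap.ker (piK B hom) = LinearMap.range (jac B hcm rel hom).vecMulLinear := by
  classical
  apply le_antisymm
  · intro v hv
    obtain ⟨d, hd⟩ := exists_derivation (B := B) hcm rel hom a surj ker_eq a' ha' hkill
    let g : Ω[B⁄R] →ₗ[B] QQ B hcm rel hom := d.liftKaehlerDifferential
    have hg : g ∘ₗ piK B hom = mkQQ B hcm rel hom := by
      apply LinearMap.pi_ext'
      intro i
      apply LinearMap.ext_ring
      simp only [LinearMap.comp_apply, LinearMap.single_apply, g]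
      rw [piK_single, Derivation.liftKaehlerDifferential_comp_D, hd, row_X]
    have h1 : mkQQ B hcm rel hom v = 0 := by
      rw [← hg, LinearMap.comp_apply, LinearMap.mem_ker.1 hv, map_zero]
    exact (mkQQ_eq_zero_iff hcm rel hom v).1 h1
  · rintro _ ⟨w, rfl⟩
    rw [LinearMap.mem_ker, ← LinearMap.comp_apply]
    have : piK B hom ∘ₗ (jac B hcm rel hom).vecMulLinear = 0 := by
      apply LinearMap.pi_ext'
      intro j
      apply LinearMap.ext_ring
      simp only [LinearMap.comp_apply, LinearMap.single_apply, LinearMap.zero_apply]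
      rw [vecMul_single_jac, ← D_psi]
      have h1 : rel (Fin.castLE hcm j) ∈ RingHom.ker hom.toRingHom := by
        rw [ker_eq]; exact Ideal.subset_span ⟨_, rfl⟩
      rw [psi_eq_zero_of_mem_ker hom h1, map_zero]
    rw [this, LinearMap.zero_apply]

theorem det_submatrix_jac (cols : Fin c → Fin n) :
    ((jac B hcm rel hom).submatrix id cols).det =
      algebraMap A B (hom (Smoothing.jacobianMinor rel (Fin.castLE hcm) cols)) := by
  show _ = psi B hom (Smoothing.jacobianMinor rel (Fin.castLE hcm) cols)
  unfold Smoothing.jacobianMinor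
  rw [RingHom.map_det]
  congr 1

include a in
/-- the differentials of `A_a` are stably free when `a` is strictly standard. -/
theorem stablyFree_of_isStrictlyStandard (ha : Smoothing.IsStrictlyStandard R A a) :
    ∃ p q : ℕ, Nonempty ((Ω[B⁄R] × (Fin p → B)) ≃ₗ[B] (Fin q → B)) := by
  classical
  obtain ⟨P, hmem, hk⟩ := ha
  obtain ⟨a', ha'⟩ := P.surj a
  have hkill := hk a' ha'
  obtain ⟨cf, hcf⟩ := Ideal.mem_span_range_iff_exists_fun.mp hmem
  obtain ⟨ua, hua⟩ := IsLocalization.Away.algebraMap_isUnit (S := B) a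
  let u : (Fin P.c → Fin P.n) → B := fun cols => ↑ua⁻¹ * algebraMap A B (cf cols)
  have hu : ∑ cols : Fin P.c → Fin P.n,
      u cols * ((jac B P.hcm P.rel P.hom).submatrix id cols).det = 1 := by
    simp_rw [det_submatrix_jac, u, mul_assoc, ← map_mul]
    rw [← Finset.mul_sum, ← map_sum]
    have : ∑ i : Fin P.c → Fin P.n,
        cf i * P.hom (Smoothing.jacobianMinor P.rel (Fin.castLE P.hcm) i) = a := by
      rw [← hcf]
    rw [this, ← hua, Units.inv_mul]
  obtain ⟨L, hL⟩ := exists_leftInverse_vecMul (jac B P.hcm P.rel P.hom) u hu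
  exact ⟨P.c, P.n, nonempty_prod_equiv (piK B P.hom) (piK_surjective P.hom a P.surj)
    (jac B P.hcm P.rel P.hom).vecMulLinear L hL
    (ker_piK P.hcm P.rel P.hom a P.surj P.ker_eq a' ha' hkill)⟩

end Final



end Main

end Groth.Agent.Lib.Helper11.StrictStd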