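import Groth.Prelude.Def_W4c3tautjacobianRel
import Mathlib.RingTheory.MvPolynomial.EulerIdentity

/-!
# sl₂-type commutation in the formal relation ring of a genus

`F (E β) = E (F β) + (g - deg₁ β) β`, `F` lowers the first degree by two, and hence
`F^[g+1] (E β) = 0` for `β` of first degree `2g`.
-/

set_option autoImplicit false
set_option linter.unusedSectionVars false
set_option linter.unusedVariables false

namespace Groth.Agent.Lib.Helper11.TautJac

open W4c3tautjacobian MvPolynomial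

variable (g : ℕ)

/-- The `ℤ`-valued first degree. -/
def wZ : Var g → ℤ
  | none => 0
  | some p => (p.1.1 : ℤ)

/-- The `ℕ`-valued first degree. -/
def wN : Var g → ℕ
  | none => 0
  | some p => p.1.1

lemma wZ_eq (v : Var g) : wZ g v = ((wN g v : ℕ) : ℤ) := by
  cases v <;> simp [wZ, wN]

lemma wN_eq (v : Var g) : wN g v = (wt g v).1 := by
  cases v <;> simp [wN, wt]

lemma weight_wZ (d : Var g →₀ ℕ) : Finsupp.weight (wZ g) d = ((Finsupp.weight (wN g) d : ℕ) : ℤ) := by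
  rw [Finsupp.weight_apply, Finsupp.weight_apply, Finsupp.sum, Finsupp.sum]
  push_cast
  refine Finset.sum_congr rfl fun v _ => ?_
  simp [wZ_eq]

lemma weight_wN (d : Var g →₀ ℕ) : Finsupp.weight (wN g) d = (Finsupp.weight (wt g) d).1 := by
  rw [Finsupp.weight_apply, Finsupp.weight_apply, Finsupp.sum, Finsupp.sum]
  rw [Prod.fst_sum]
  refine Finset.sum_congr rfl fun v _ => ?_
  simp [wN_eq]

lemma homN_of_wt {P : RelRing g} {a n : ℕ}
    (h : IsWeightedHomogeneous (wt g) P ((a, n) : ℕ × ℕ)) :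
    IsWeightedHomogeneous (wN g) P a := by
  intro d hd
  rw [weight_wN, h hd]

lemma homZ_of_homN {P : RelRing g} {a : ℕ} (h : IsWeightedHomogeneous (wN g) P a) :
    IsWeightedHomogeneous (wZ g) P (a : ℤ) := by
  intro d hd
  rw [weight_wZ, h hd]

lemma homN_of_homZ {P : RelRing g} {a : ℕ} (h : IsWeightedHomogeneous (wZ g) P (a : ℤ)) :
    IsWeightedHomogeneous (wN g) P a := by
  intro d hd
  have := h hd
  rw [weight_wZ] at this
  exact_mod_cast this

lemma eq_zero_of_homZ_neg {P : RelRing g} {m : ℤ} (h : IsWeightedHomogeneous (wZ g) P m)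
    (hm : m < 0) : P = 0 := by
  ext d
  by_contra hd
  have := h hd
  rw [weight_wZ] at this
  rw [coeff_zero] at hd
  omega

lemma hom_cast {P : RelRing g} {m n : ℤ} (h : IsWeightedHomogeneous (wZ g) P m) (hmn : m = n) :
    IsWeightedHomogeneous (wZ g) P n := hmn ▸ h


/-! ### virtual variables -/

lemma xv_of_valid {q : ℕ × ℕ} (h : Valid g q) :
    xv g (q.1 : ℤ) (q.2 : ℤ) = X (some ⟨q, h⟩) := by
  have hne : ¬ ((q.1 : ℤ) = 0 ∧ (q.2 : ℤ) = 0) := by
    rintro ⟨h1, h2⟩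
    apply h.2.2.2
    ext <;> simp_all
  have hv : (0 : ℤ) ≤ (q.1 : ℤ) ∧ (0 : ℤ) ≤ (q.2 : ℤ) ∧
      Valid g (((q.1 : ℤ)).toNat, ((q.2 : ℤ)).toNat) := by
    refine ⟨by positivity, by positivity, ?_⟩
    simpa using h
  rw [xv, if_neg hne, dif_pos hv]
  congr 2

lemma xv_hom (i j : ℤ) : IsWeightedHomogeneous (wZ g) (xv g i j) i := by
  unfold xv
  split_ifs with h1 h2
  · have : ((g : ℕ) : RelRing g) = C (g : ℚ) := by simp
    rw [this, h1.1]
    exact isWeightedHomogeneous_C _ _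
  · have := isWeightedHomogeneous_X ℚ (wZ g) (some ⟨(i.toNat, j.toNat), h2.2.2⟩)
    refine hom_cast g this ?_
    simp only [wZ]
    omega
  · exact isWeightedHomogeneous_zero _ _ _

/-- `dv` as a linear map. -/
noncomputable def dvL (p : ℕ × ℕ) : RelRing g →ₗ[ℚ] RelRing g :=
  if h : Valid g p then (pderiv (some ⟨p, h⟩) : Derivation ℚ (RelRing g) (RelRing g)).toLinearMap
  else 0

lemma dv_eq (p : ℕ × ℕ) (P : RelRing g) : dv g p P = dvL g p P := by
  unfold dv dvL
  split_ifs with h <;> simp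

lemma dv_of_valid {p : ℕ × ℕ} (h : Valid g p) (P : RelRing g) :
    dv g p P = pderiv (some ⟨p, h⟩) P := by
  unfold dv; rw [dif_pos h]

lemma dv_of_not_valid {p : ℕ × ℕ} (h : ¬ Valid g p) (P : RelRing g) :
    dv g p P = 0 := by
  unfold dv; rw [dif_neg h]

lemma dv_hom {P : RelRing g} {m : ℤ} (h : IsWeightedHomogeneous (wZ g) P m) (p : ℕ × ℕ) :
    IsWeightedHomogeneous (wZ g) (dv g p P) (m - p.1) := by
  by_cases hp : Valid g p
  · rw [dv_of_valid g hp]
    refine IsWeightedHomogeneous.pderiv h ?_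
    simp [wZ]
  · rw [dv_of_not_valid g hp]
    exact isWeightedHomogeneous_zero _ _ _

/-- The coefficient of the second order part of `F`. -/
noncomputable def cc (p q : ℕ × ℕ) : RelRing g :=
  X none * xv g ((p.1 : ℤ) - 1) ((p.2 : ℤ) - 1) * xv g ((q.1 : ℤ) - 1) ((q.2 : ℤ) - 1)
    - (mergeCoeff p.1 q.1 : RelRing g) * xv g ((p.1 : ℤ) + q.1 - 2) ((p.2 : ℤ) + q.2)

lemma F_def (P : RelRing g) :
    F g P = (1 / 2 : ℚ) • (∑ p ∈ idx g, ∑ q ∈ idx g, cc g p q * dv g p (dv g q P))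
      + ∑ p ∈ idx g, xv g ((p.1 : ℤ) - 2) (p.2 : ℤ) * dv g p P := rfl

lemma cc_hom (p q : ℕ × ℕ) :
    IsWeightedHomogeneous (wZ g) (cc g p q) ((p.1 : ℤ) + q.1 - 2) := by
  unfold cc
  refine IsWeightedHomogeneous.sub ?_ ?_
  · have h1 := isWeightedHomogeneous_X ℚ (wZ g) (none : Var g)
    have := (h1.mul (xv_hom g ((p.1 : ℤ) - 1) ((p.2 : ℤ) - 1))).mul
      (xv_hom g ((q.1 : ℤ) - 1) ((q.2 : ℤ) - 1))
    refine hom_cast g this ?_
    simp only [wZ]; ring
  · have h1 : ((mergeCoeff p.1 q.1 : ℕ) : RelRing g) = C ((mergeCoeff p.1 q.1 : ℕ) : ℚ) := by simp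
    rw [h1]
    have := (isWeightedHomogeneous_C (wZ g) ((mergeCoeff p.1 q.1 : ℕ) : ℚ)).mul
      (xv_hom g ((p.1 : ℤ) + q.1 - 2) ((p.2 : ℤ) + q.2))
    refine hom_cast g this ?_
    ring

lemma F_hom {P : RelRing g} {m : ℤ} (h : IsWeightedHomogeneous (wZ g) P m) :
    IsWeightedHomogeneous (wZ g) (F g P) (m - 2) := by
  rw [F_def]
  refine IsWeightedHomogeneous.add ?_ ?_
  · refine (weightedHomogeneousSubmodule ℚ (wZ g) (m - 2)).smul_mem _ ?_
    refine Submodule.sum_mem _ fun p _ => Submodule.sum_mem _ fun q _ => ?_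
    have := (cc_hom g p q).mul (dv_hom g (dv_hom g h q) p)
    exact hom_cast g this (by ring)
  · refine IsWeightedHomogeneous.sum _ _ _ fun p _ => ?_
    have := (xv_hom g ((p.1 : ℤ) - 2) (p.2 : ℤ)).mul (dv_hom g h p)
    exact hom_cast g this (by ring)

lemma iterate_F_hom {P : RelRing g} {m : ℤ} (h : IsWeightedHomogeneous (wZ g) P m) (k : ℕ) :
    IsWeightedHomogeneous (wZ g) ((F g)^[k] P) (m - 2 * k) := by
  induction k with
  | zero => simpa using h
  | succ k ih =>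
    rw [Function.iterate_succ_apply']
    exact hom_cast g (F_hom g ih) (by push_cast; ring)

/-- `F` as a linear map. -/
noncomputable def FL : RelRing g →ₗ[ℚ] RelRing g :=
  (1 / 2 : ℚ) • (∑ p ∈ idx g, ∑ q ∈ idx g,
      (LinearMap.mulLeft ℚ (cc g p q)) ∘ₗ (dvL g p) ∘ₗ (dvL g q))
    + ∑ p ∈ idx g, (LinearMap.mulLeft ℚ (xv g ((p.1 : ℤ) - 2) (p.2 : ℤ))) ∘ₗ (dvL g p)

lemma F_eq_FL (P : RelRing g) : F g P = FL g P := by
  rw [F_def]
  simp [FL, dv_eq, LinearMap.sum_apply]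

lemma F_add (P Q : RelRing g) : F g (P + Q) = F g P + F g Q := by
  simp [F_eq_FL]

lemma F_smul (a : ℚ) (P : RelRing g) : F g (a • P) = a • F g P := by
  simp [F_eq_FL]

lemma F_zero : F g (0 : RelRing g) = 0 := by
  simp [F_eq_FL]

lemma iterate_F_zero (k : ℕ) : (F g)^[k] (0 : RelRing g) = 0 := by
  induction k with
  | zero => rfl
  | succ k ih => rw [Function.iterate_succ_apply', ih, F_zero]


/-! ### Euler identity -/

lemma mem_idx_of_valid {p : ℕ × ℕ} (h : Valid g p) : p ∈ idx g := by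
  obtain ⟨h1, h2, -, -⟩ := h
  simp only [idx, Finset.mem_product, Finset.mem_range]
  omega

noncomputable instance instFintypeValid : Fintype {p : ℕ × ℕ // Valid g p} :=
  Fintype.subtype ((idx g).filter (Valid g)) (by
    intro p
    simp only [Finset.mem_filter]
    exact ⟨fun h => h.2, fun h => ⟨mem_idx_of_valid g h, h⟩⟩)

/-- The Euler operator of the first degree. -/
noncomputable def DD (P : RelRing g) : RelRing g :=
  ∑ q ∈ idx g, (q.1 : RelRing g) * (xv g (q.1 : ℤ) (q.2 : ℤ) * dv g q P)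

lemma DD_eq_sum (P : RelRing g) :
    DD g P = ∑ s : {p : ℕ × ℕ // Valid g p},
      (s.1.1 : RelRing g) * (X (some s) * pderiv (some s) P) := by
  unfold DD
  rw [← Finset.sum_filter_add_sum_filter_not (idx g) (Valid g)]
  have h2 : ∑ q ∈ (idx g).filter (fun q => ¬ Valid g q),
      (q.1 : RelRing g) * (xv g (q.1 : ℤ) (q.2 : ℤ) * dv g q P) = 0 := by
    refine Finset.sum_eq_zero fun q hq => ?_
    rw [Finset.mem_filter] at hq
    rw [dv_of_not_valid g hq.2]; simp
  rw [h2, add_zero]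
  rw [Finset.sum_subtype ((idx g).filter (Valid g)) (p := Valid g) (by
    intro p
    simp only [Finset.mem_filter]
    exact ⟨fun h => h.2, fun h => ⟨mem_idx_of_valid g h, h⟩⟩)]
  refine Finset.sum_congr rfl fun s _ => ?_
  rw [xv_of_valid g s.2, dv_of_valid g s.2]

lemma euler_N {P : RelRing g} {a : ℕ} (h : IsWeightedHomogeneous (wN g) P a) :
    DD g P = (a : ℚ) • P := by
  rw [DD_eq_sum]
  have := h.sum_weight_X_mul_pderiv
  rw [Fintype.sum_option] at this
  simp only [wN, zero_smul, zero_add] at this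
  have h3 : ((a : ℚ) • P) = a • P := by
    rw [← Nat.cast_smul_eq_nsmul ℚ]
  rw [h3, ← this]
  refine Finset.sum_congr rfl fun s _ => ?_
  rw [nsmul_eq_mul]

lemma dv_zero (p : ℕ × ℕ) : dv g p (0 : RelRing g) = 0 := by
  rw [dv_eq, map_zero]

lemma euler_Z {P : RelRing g} {m : ℤ} (h : IsWeightedHomogeneous (wZ g) P m) :
    DD g P = (m : ℚ) • P := by
  rcases lt_or_ge m 0 with hm | hm
  · have := eq_zero_of_homZ_neg g h hm
    subst this
    simp [DD, dv_zero]
  · obtain ⟨a, rfl⟩ := Int.eq_ofNat_of_zero_le hm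
    rw [euler_N g (homN_of_homZ g h)]
    simp


/-! ### commutation of `E` and `F` -/

section comm

variable (hg : 1 ≤ g)
include hg

lemma valid20 : Valid g (2, 0) := by
  refine ⟨by simp, by simp; omega, by decide, by simp⟩

lemma xv20 : xv g 2 0 = X (some ⟨(2, 0), valid20 g hg⟩) := by
  have := xv_of_valid g (valid20 g hg)
  simpa using this

lemma mem_idx20 : ((2, 0) : ℕ × ℕ) ∈ idx g := mem_idx_of_valid g (valid20 g hg)

lemma dv_X20_mul (p : ℕ × ℕ) (P : RelRing g) :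
    dv g p (X (some ⟨(2, 0), valid20 g hg⟩) * P) =
      X (some ⟨(2, 0), valid20 g hg⟩) * dv g p P + (if p = (2, 0) then P else 0) := by
  classical
  by_cases hp : Valid g p
  · rw [dv_of_valid g hp, dv_of_valid g hp, pderiv_mul, pderiv_X]
    by_cases h2 : p = (2, 0)
    · subst h2
      simp [add_comm]
    · have : (some ⟨p, hp⟩ : Var g) ≠ some ⟨(2, 0), valid20 g hg⟩ := by
        intro h
        apply h2
        simpa using h
      rw [if_neg h2, Pi.single_eq_of_ne' this]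
      simp
  · have h2 : p ≠ (2, 0) := by
      rintro rfl
      exact hp (valid20 g hg)
    rw [dv_of_not_valid g hp, dv_of_not_valid g hp, if_neg h2]
    simp

omit hg in
lemma dv_add (p : ℕ × ℕ) (P Q : RelRing g) : dv g p (P + Q) = dv g p P + dv g p Q := by
  simp [dv_eq]

omit hg in
lemma dv_ite (p : ℕ × ℕ) (c : Prop) [Decidable c] (P : RelRing g) :
    dv g p (if c then P else 0) = if c then dv g p P else 0 := by
  split_ifs
  · rfl
  · exact dv_zero g p

omit hg in
lemma mergeCoeff_two_left (k : ℕ) : mergeCoeff 2 k = k := by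
  unfold mergeCoeff
  by_cases hk : k = 0
  · simp [hk]
  · rw [if_neg (by simp [hk])]
    simp

omit hg in
lemma mergeCoeff_two_right (k : ℕ) : mergeCoeff k 2 = k := by
  unfold mergeCoeff
  by_cases hk : k = 0
  · simp [hk]
  · rw [if_neg (by simp [hk])]
    obtain ⟨j, rfl⟩ := Nat.exists_eq_succ_of_ne_zero hk
    simp

omit hg in
lemma xv_one_neg_one : xv g 1 (-1) = 0 := by
  unfold xv
  rw [if_neg (by simp), dif_neg (by simp)]

omit hg in
lemma cc_20_left (q : ℕ × ℕ) :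
    cc g (2, 0) q = - ((q.1 : RelRing g) * xv g (q.1 : ℤ) (q.2 : ℤ)) := by
  unfold cc
  have h1 : (((2 : ℕ × ℕ).1 : ℕ) : ℤ) = 2 := rfl
  simp only [mergeCoeff_two_left]
  have e1 : (((2, 0) : ℕ × ℕ).1 : ℤ) - 1 = 1 := by norm_num
  have e2 : (((2, 0) : ℕ × ℕ).2 : ℤ) - 1 = -1 := by norm_num
  have e3 : (((2, 0) : ℕ × ℕ).1 : ℤ) + (q.1 : ℤ) - 2 = (q.1 : ℤ) := by norm_num
  have e4 : (((2, 0) : ℕ × ℕ).2 : ℤ) + (q.2 : ℤ) = (q.2 : ℤ) := by norm_num
  rw [e1, e2, e3, e4, xv_one_neg_one]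
  simp

omit hg in
lemma cc_20_right (p : ℕ × ℕ) :
    cc g p (2, 0) = - ((p.1 : RelRing g) * xv g (p.1 : ℤ) (p.2 : ℤ)) := by
  unfold cc
  simp only [mergeCoeff_two_right]
  have e1 : (((2, 0) : ℕ × ℕ).1 : ℤ) - 1 = 1 := by norm_num
  have e2 : (((2, 0) : ℕ × ℕ).2 : ℤ) - 1 = -1 := by norm_num
  have e3 : (p.1 : ℤ) + (((2, 0) : ℕ × ℕ).1 : ℤ) - 2 = (p.1 : ℤ) := by norm_num
  have e4 : (p.2 : ℤ) + (((2, 0) : ℕ × ℕ).2 : ℤ) = (p.2 : ℤ) := by norm_num
  rw [e1, e2, e3, e4, xv_one_neg_one]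
  simp

omit hg in
lemma xv_zero_zero : xv g 0 0 = (g : RelRing g) := by
  unfold xv
  rw [if_pos ⟨rfl, rfl⟩]

/-- The basic commutation relation `F E = E F + g - D`. -/
lemma F_E (P : RelRing g) :
    F g (E g P) = E g (F g P) + (g : RelRing g) * P - DD g P := by
  classical
  set x := (X (some ⟨(2, 0), valid20 g hg⟩) : RelRing g) with hx
  have hE : ∀ Q, E g Q = x * Q := fun Q => by rw [E, xv20 g hg]
  rw [hE, hE, F_def, F_def]
  have h1 : ∀ p q, dv g p (dv g q (x * P)) =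
      x * dv g p (dv g q P) + (if p = (2, 0) then dv g q P else 0)
        + (if q = (2, 0) then dv g p P else 0) := by
    intro p q
    rw [hx, dv_X20_mul g hg q P, dv_add, dv_X20_mul g hg p, dv_ite]
  have h2 : ∑ p ∈ idx g, ∑ q ∈ idx g, cc g p q * dv g p (dv g q (x * P)) =
      x * (∑ p ∈ idx g, ∑ q ∈ idx g, cc g p q * dv g p (dv g q P)) - 2 * DD g P := by
    simp_rw [h1, mul_add, Finset.sum_add_distrib]
    have hA : ∑ p ∈ idx g, ∑ q ∈ idx g, cc g p q * (x * dv g p (dv g q P)) =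
        x * (∑ p ∈ idx g, ∑ q ∈ idx g, cc g p q * dv g p (dv g q P)) := by
      rw [Finset.mul_sum]
      refine Finset.sum_congr rfl fun p _ => ?_
      rw [Finset.mul_sum]
      refine Finset.sum_congr rfl fun q _ => ?_
      ring
    have hB : ∑ p ∈ idx g, ∑ q ∈ idx g, cc g p q * (if p = (2, 0) then dv g q P else 0) =
        - DD g P := by
      rw [Finset.sum_comm]
      simp_rw [mul_ite, mul_zero]
      simp_rw [Finset.sum_ite_eq' (idx g) ((2, 0) : ℕ × ℕ), if_pos (mem_idx20 g hg)]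
      simp_rw [cc_20_left]
      unfold DD
      rw [← Finset.sum_neg_distrib]
      refine Finset.sum_congr rfl fun q _ => ?_
      ring
    have hC : ∑ p ∈ idx g, ∑ q ∈ idx g, cc g p q * (if q = (2, 0) then dv g p P else 0) =
        - DD g P := by
      simp_rw [mul_ite, mul_zero]
      simp_rw [Finset.sum_ite_eq' (idx g) ((2, 0) : ℕ × ℕ), if_pos (mem_idx20 g hg)]
      simp_rw [cc_20_right]
      unfold DD
      rw [← Finset.sum_neg_distrib]
      refine Finset.sum_congr rfl fun q _ => ?_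
      ring
    rw [hA, hB, hC]
    ring
  have h3 : ∑ p ∈ idx g, xv g ((p.1 : ℤ) - 2) (p.2 : ℤ) * dv g p (x * P) =
      x * (∑ p ∈ idx g, xv g ((p.1 : ℤ) - 2) (p.2 : ℤ) * dv g p P) + (g : RelRing g) * P := by
    simp_rw [hx, dv_X20_mul g hg, mul_add, Finset.sum_add_distrib, mul_ite, mul_zero]
    rw [Finset.sum_ite_eq' (idx g) ((2, 0) : ℕ × ℕ), if_pos (mem_idx20 g hg)]
    have e1 : (((2, 0) : ℕ × ℕ).1 : ℤ) - 2 = 0 := by norm_num
    have e2 : (((2, 0) : ℕ × ℕ).2 : ℤ) = 0 := by norm_num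
    rw [e1, e2, xv_zero_zero, Finset.mul_sum]
    congr 1
    refine Finset.sum_congr rfl fun p _ => ?_
    ring
  rw [h2, h3, smul_sub, mul_add, mul_smul_comm]
  have : (1 / 2 : ℚ) • (2 * DD g P) = DD g P := by
    rw [two_mul, ← two_smul ℚ, smul_smul]; norm_num
  rw [this]
  ring

end comm


/-! ### iteration -/

section iter

variable (hg : 1 ≤ g)
include hg

lemma E_add (P Q : RelRing g) : E g (P + Q) = E g P + E g Q := by
  simp [E, mul_add]

lemma E_smul (a : ℚ) (P : RelRing g) : E g (a • P) = a • E g P := by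
  simp [E, mul_smul_comm]

/-- `F E = E F + (g - m)` on elements of first degree `m`. -/
lemma F_E_hom {P : RelRing g} {m : ℤ} (h : IsWeightedHomogeneous (wZ g) P m) :
    F g (E g P) = E g (F g P) + ((g : ℚ) - (m : ℚ)) • P := by
  rw [F_E g hg, euler_Z g h, sub_smul]
  have : ((g : ℕ) : RelRing g) * P = (g : ℚ) • P := by
    rw [Algebra.smul_def]; simp
  rw [this]
  abel

lemma iterate_F_E {β : RelRing g} {m : ℤ} (h : IsWeightedHomogeneous (wZ g) β m) (k : ℕ) :
    (F g)^[k + 1] (E g β) = E g ((F g)^[k + 1] β) +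
      (((k : ℚ) + 1) * ((g : ℚ) - (m : ℚ) + (k : ℚ))) • (F g)^[k] β := by
  induction k with
  | zero =>
    simp only [zero_add, Function.iterate_one, Function.iterate_zero, id_eq, Nat.cast_zero,
      add_zero, one_mul]
    exact F_E_hom g hg h
  | succ k ih =>
    rw [Function.iterate_succ_apply', ih, F_add, F_smul,
      F_E_hom g hg (iterate_F_hom g h (k + 1)), ← Function.iterate_succ_apply' (F g) (k + 1) β,
      ← Function.iterate_succ_apply' (F g) k β, add_assoc, ← add_smul]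
    congr 2
    push_cast
    ring

theorem iterate_F_E_eq_zero {β : RelRing g} (h : IsWeightedHomogeneous (wZ g) β (2 * (g : ℤ))) :
    (F g)^[g + 1] (E g β) = 0 := by
  rw [iterate_F_E g hg h g]
  have h0 : (F g)^[g + 1] β = 0 := by
    refine eq_zero_of_homZ_neg g (iterate_F_hom g h (g + 1)) ?_
    push_cast; omega
  rw [h0]
  have : ((g : ℚ) + 1) * ((g : ℚ) - ((2 * (g : ℤ) : ℤ) : ℚ) + (g : ℚ)) = 0 := by
    push_cast; ring
  rw [this, zero_smul, add_zero, E, mul_zero]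

end iter

end Groth.Agent.Lib.Helper11.TautJac
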