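import Mathlib
import Groth.Agent.Lib.Helper11.TorHullC

/-!
# The squeeze: a δ-functor concentrated in degree `d` on a finite length module `B₀ ↠ κ`
with `ℓ(G_d B₀) = ℓ(B₀)` and `G_d B₀` cyclic has `G_i(κ) = δ_{i,d} κ`.
-/

set_option autoImplicit false
set_option linter.unusedSectionVars false
set_option linter.unusedVariables false
universe u

open CategoryTheory CategoryTheory.Limits IsLocalRing

namespace Groth.Agent.Lib.Helper11.TorHull

open Groth.Agent.Lib.Helper11.TorSys

section Dev

variable {A : Type u} [CommRing A] [IsLocalRing A] (D : DFun A) (hR0 : D.R0)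
  (B₀ : Type u) [AddCommGroup B₀] [Module A B₀] (hfl : IsFiniteLength A B₀)
  (π : B₀ →ₗ[A] ResidueField A) (hπ : Function.Surjective π) (d : ℕ)
  (hvan : ∀ i, i ≠ d → Subsingleton ((D.G i).obj (ModuleCat.of A B₀)))

/-- the sequence `0 → K → B₀ → κ → 0` -/
noncomputable def resSC : ShortComplex (ModuleCat.{u} A) :=
  mkSC (LinearMap.ker π).subtype π (LinearMap.exact_subtype_ker_map π)

include hπ in
theorem resSC_shortExact : (resSC B₀ π).ShortExact :=
  mkSC_shortExact _ _ _ (Submodule.subtype_injective _) hπ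

include hfl in
theorem isFiniteLength_ker : IsFiniteLength A (LinearMap.ker π) :=
  hfl.of_injective (f := (LinearMap.ker π).subtype) (Submodule.subtype_injective _)

include hR0 hfl hπ hvan in
theorem flZero_low : ∀ i, i < d → FLZero D i := by
  intro i
  induction i with
  | zero =>
    intro hd
    apply flZero_of_residue
    have h2 : Subsingleton ((D.G 0).obj (resSC B₀ π).X₂) := hvan 0 (by omega)
    have hs := hR0 (resSC B₀ π).g hπ
    refine ⟨fun a b => ?_⟩
    obtain ⟨a', rfl⟩ := hs a
    obtain ⟨b', rfl⟩ := hs b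
    rw [Subsingleton.elim a' b']
  | succ i ih =>
    intro hd
    apply flZero_of_residue
    have h2 : Subsingleton ((D.G (i + 1)).obj (resSC B₀ π).X₂) := hvan (i + 1) (by omega)
    have h1 : Subsingleton ((D.G i).obj (resSC B₀ π).X₁) :=
      ih (by omega) _ (isFiniteLength_ker B₀ hfl π)
    exact G_subsingleton_right D (resSC B₀ π) (resSC_shortExact B₀ π hπ) i h2 h1

include hR0 hfl hπ hvan in
/-- `G_d(B₀) → G_d(κ)` is surjective -/
theorem surjective_top : Function.Surjective ((D.G d).map (resSC B₀ π).g).hom := by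
  cases d with
  | zero => exact hR0 (resSC B₀ π).g hπ
  | succ d' =>
    intro ζ
    have h1 : Subsingleton ((D.G d').obj (resSC B₀ π).X₁) :=
      flZero_low D hR0 B₀ hfl π hπ (d' + 1) hvan d' (by omega) _ (isFiniteLength_ker B₀ hfl π)
    have : (D.δ (resSC B₀ π) (resSC_shortExact B₀ π hπ) d').hom ζ = 0 := Subsingleton.elim _ _
    exact (D.exact₃ (resSC B₀ π) (resSC_shortExact B₀ π hπ) d' ζ).1 this

variable (hcyc : ∃ ξ : (D.G d).obj (ModuleCat.of A B₀), ∀ ζ, ∃ a : A, a • ξ = ζ)

include hR0 hfl hπ hvan hcyc in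
theorem length_top_residue_le_one :
    Module.length A ((D.G d).obj (ModuleCat.of A (ResidueField A))) ≤ 1 := by
  obtain ⟨ξ, hξ⟩ := hcyc
  have hs := surjective_top D hR0 B₀ hfl π hπ d hvan
  set η : (D.G d).obj (ModuleCat.of A (ResidueField A)) :=
    ((D.G d).map (resSC B₀ π).g).hom ξ with hη
  have hle : maximalIdeal A ≤ LinearMap.ker (LinearMap.toSpanSingleton A _ η) := by
    intro a ha
    rw [LinearMap.mem_ker, LinearMap.toSpanSingleton_apply]
    exact smul_G_residue D d a ha η
  have hsurj : Function.Surjective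
      ((maximalIdeal A).liftQ (LinearMap.toSpanSingleton A _ η) hle) := by
    intro ζ
    obtain ⟨ζ', rfl⟩ := hs ζ
    obtain ⟨a, rfl⟩ := hξ ζ'
    refine ⟨Submodule.Quotient.mk a, ?_⟩
    rw [Submodule.liftQ_apply, LinearMap.toSpanSingleton_apply, hη]
    exact (map_smul ((D.G d).map (resSC B₀ π).g).hom a ξ).symm
  have h1 := Module.length_le_of_surjective _ hsurj
  have hsimple : IsSimpleModule A (A ⧸ maximalIdeal A) :=
    isSimpleModule_iff_isCoatom.2 (maximalIdeal.isMaximal A).out
  rwa [Module.length_eq_one A (A ⧸ maximalIdeal A)] at h1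

include hR0 hfl hπ hvan hcyc in
theorem length_top_le (N : Type u) [AddCommGroup N] [Module A N] (hN : IsFiniteLength A N) :
    Module.length A ((D.G d).obj (ModuleCat.of A N)) ≤ Module.length A N := by
  have ht := length_top_residue_le_one D hR0 B₀ hfl π hπ d hvan hcyc
  induction hN with
  | of_subsingleton =>
    have := G_subsingleton_of_subsingleton D d ‹_›
    rw [Module.length_eq_zero_iff.2 this]
    exact zero_le
  | @of_simple_quotient M _ _ N _ hN ih =>
    obtain ⟨e⟩ := Groth.Agent.Lib.Helper25.nonempty_equiv_residueField_of_isSimpleModule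
      (R := A) (M ⧸ N)
    have hT := mkSC_shortExact N.subtype N.mkQ (LinearMap.exact_subtype_mkQ N)
      N.subtype_injective N.mkQ_surjective
    have h1 := length_le_add_of_exact _ _ (D.exact₂ _ hT d)
    have h2 : Module.length A ((D.G d).obj (ModuleCat.of A (M ⧸ N))) ≤ 1 := by
      rw [length_G_of_equiv D e d]; exact ht
    have h3 := Module.length_eq_add_of_exact N.subtype N.mkQ
      N.subtype_injective N.mkQ_surjective (LinearMap.exact_subtype_mkQ N)
    rw [Module.length_eq_one A (M ⧸ N)] at h3
    rw [h3]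
    exact h1.trans (add_le_add ih h2)

end Dev

end Groth.Agent.Lib.Helper11.TorHull
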