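import Mathlib
import Groth.Agent.Lib.Helper11.TorHullD

/-!
# The squeeze (continued): vanishing above the top degree and the value on the residue field
-/

set_option autoImplicit false
set_option linter.unusedSectionVars false
set_option linter.unusedVariables false
universe u

open CategoryTheory CategoryTheory.Limits IsLocalRing

namespace Groth.Agent.Lib.Helper11.TorHull

open Groth.Agent.Lib.Helper11.TorSys

section Dev

variable {A : Type u} [CommRing A] [IsLocalRing A] (D : DFun A) (hR0 : D.R0)
  (B₀ : Type u) [AddCommGroup B₀] [Module A B₀] (hfl : IsFiniteLength A B₀)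
  (π : B₀ →ₗ[A] ResidueField A) (hπ : Function.Surjective π) (d : ℕ)
  (hvan : ∀ i, i ≠ d → Subsingleton ((D.G i).obj (ModuleCat.of A B₀)))
  (hcyc : ∃ ξ : (D.G d).obj (ModuleCat.of A B₀), ∀ ζ, ∃ a : A, a • ξ = ζ)
  (hlen : Module.length A ((D.G d).obj (ModuleCat.of A B₀)) = Module.length A B₀)

theorem enat_squeeze {a b t g L : ℕ∞} (hL : L = a + 1) (hLtop : L ≠ ⊤) (h1 : b + t = g + L)
    (hb : b ≤ a) (ht : t ≤ 1) : g = 0 ∧ t = 1 := by
  have ha : a ≠ ⊤ := by
    intro h; rw [h, top_add] at hL; exact hLtop hL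
  have hb' : b ≠ ⊤ := ne_top_of_le_ne_top ha hb
  have ht' : t ≠ ⊤ := ne_top_of_le_ne_top (by simp) ht
  have hg : g ≠ ⊤ := by
    intro h
    rw [h, top_add] at h1
    exact (WithTop.add_ne_top.2 ⟨hb', ht'⟩) h1
  lift a to ℕ using ha
  lift b to ℕ using hb'
  lift t to ℕ using ht'
  lift g to ℕ using hg
  lift L to ℕ using hLtop
  have hL' : L = a + 1 := by exact_mod_cast hL
  have h1' : b + t = g + L := by exact_mod_cast h1
  have hb'' : b ≤ a := by exact_mod_cast hb
  have ht'' : t ≤ 1 := by exact_mod_cast ht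
  constructor
  · have : g = 0 := by omega
    exact_mod_cast this
  · have : t = 1 := by omega
    exact_mod_cast this

include hR0 hfl hπ hvan hcyc hlen in
theorem squeeze :
    Subsingleton ((D.G (d + 1)).obj (ModuleCat.of A (ResidueField A))) ∧
      Module.length A ((D.G d).obj (ModuleCat.of A (ResidueField A))) = 1 := by
  have hS := resSC_shortExact B₀ π hπ
  have h2 : Subsingleton ((D.G (d + 1)).obj (resSC B₀ π).X₂) := hvan (d + 1) (by omega)
  have hδinj : Function.Injective (D.δ (resSC B₀ π) hS d).hom := by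
    rw [← LinearMap.ker_eq_bot, LinearMap.ker_eq_bot']
    intro ζ hζ
    obtain ⟨ξ, rfl⟩ := (D.exact₃ (resSC B₀ π) hS d ζ).1 hζ
    rw [Subsingleton.elim ξ 0, map_zero]
  have hex1 := D.exact₁ (resSC B₀ π) hS d
  have hex2 := D.exact₂ (resSC B₀ π) hS d
  have hβ := surjective_top D hR0 B₀ hfl π hπ d hvan
  have e1 := Module.length_eq_add_of_exact (D.δ (resSC B₀ π) hS d).hom
    ((D.G d).map (resSC B₀ π).f).hom.rangeRestrict hδinj
    (LinearMap.surjective_rangeRestrict _) (by
      intro y
      rw [← hex1 y]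
      constructor
      · intro h; exact congrArg Subtype.val h
      · intro h; exact Subtype.ext h)
  have e2 := Module.length_eq_add_of_exact
    (LinearMap.range ((D.G d).map (resSC B₀ π).f).hom).subtype
    ((D.G d).map (resSC B₀ π).g).hom (Submodule.subtype_injective _) hβ (by
      intro y
      rw [hex2 y]
      constructor
      · rintro ⟨z, rfl⟩; exact ⟨⟨_, ⟨z, rfl⟩⟩, rfl⟩
      · rintro ⟨⟨_, ⟨z, rfl⟩⟩, rfl⟩; exact ⟨z, rfl⟩)
  have hK := length_top_le D hR0 B₀ hfl π hπ d hvan hcyc _ (isFiniteLength_ker B₀ hfl π)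
  have ht := length_top_residue_le_one D hR0 B₀ hfl π hπ d hvan hcyc
  have hL := Module.length_eq_add_of_exact (LinearMap.ker π).subtype π
    (Submodule.subtype_injective _) hπ (LinearMap.exact_subtype_ker_map π)
  rw [length_residueField] at hL
  have hLtop : Module.length A B₀ ≠ ⊤ := Module.length_ne_top_iff.2 hfl
  have hlen' : Module.length A ((D.G d).obj (resSC B₀ π).X₂) = Module.length A B₀ := hlen
  have h1 : Module.length A ((D.G d).obj (resSC B₀ π).X₁) +
      Module.length A ((D.G d).obj (ModuleCat.of A (ResidueField A))) =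
      Module.length A ((D.G (d + 1)).obj (ModuleCat.of A (ResidueField A))) +
        Module.length A B₀ := by
    rw [← hlen', e2, e1, add_assoc]
    rfl
  obtain ⟨hg, ht1⟩ := enat_squeeze hL hLtop h1 hK ht
  exact ⟨Module.length_eq_zero_iff.1 hg, ht1⟩

include hR0 hfl hπ hvan hcyc hlen in
theorem flZero_high : ∀ i, d + 1 ≤ i → FLZero D i := by
  intro i hi
  induction i, hi using Nat.le_induction with
  | base =>
    exact flZero_of_residue D (d + 1) (squeeze D hR0 B₀ hfl π hπ d hvan hcyc hlen).1
  | succ i hi ih =>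
    apply flZero_of_residue
    have h2 : Subsingleton ((D.G (i + 1)).obj (resSC B₀ π).X₂) := hvan (i + 1) (by omega)
    have h1 : Subsingleton ((D.G i).obj (resSC B₀ π).X₁) :=
      ih _ (isFiniteLength_ker B₀ hfl π)
    exact G_subsingleton_right D (resSC B₀ π) (resSC_shortExact B₀ π hπ) i h2 h1

include hR0 hfl hπ hvan hcyc hlen in
/-- the value of the δ-functor on the residue field -/
theorem residue_main :
    (∀ i, i ≠ d → Subsingleton ((D.G i).obj (ModuleCat.of A (ResidueField A)))) ∧
      Nonempty ((D.G d).obj (ModuleCat.of A (ResidueField A)) ≃ₗ[A] ResidueField A) := by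
  have hκ : IsFiniteLength A (ResidueField A) := by
    rw [← Module.length_ne_top_iff, length_residueField]
    simp
  constructor
  · intro i hi
    rcases Nat.lt_or_gt_of_ne hi with h | h
    · exact flZero_low D hR0 B₀ hfl π hπ d hvan i h _ hκ
    · exact flZero_high D hR0 B₀ hfl π hπ d hvan hcyc hlen i h _ hκ
  · have h1 := (squeeze D hR0 B₀ hfl π hπ d hvan hcyc hlen).2
    have hsimple : IsSimpleModule A ((D.G d).obj (ModuleCat.of A (ResidueField A))) :=
      Module.length_eq_one_iff.1 h1
    exact Groth.Agent.Lib.Helper25.nonempty_equiv_residueField_of_isSimpleModule (R := A) _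

end Dev

end Groth.Agent.Lib.Helper11.TorHull
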