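import Mathlib
import Groth.Agent.Lib.Helper11.TorHullE
import Groth.Agent.Lib.Helper16.GorArtDual
import Groth.Agent.Lib.Helper16.GorQuot
import Groth.Agent.Lib.Helper16.SocMul
import Groth.Agent.Lib.Helper16.GorensteinTopLC

/-!
# `Tor_i(E, κ)` over a Gorenstein local ring
-/

set_option autoImplicit false
set_option linter.unusedSectionVars false
set_option linter.unusedVariables false
universe u

open CategoryTheory CategoryTheory.Limits IsLocalRing

namespace Groth.Agent.Lib.Helper11.TorHull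

open Groth.Agent.Lib.Helper11.TorSys Groth.Agent.Lib.Helper25 InjHull

section Cyclic

variable {A : Type u} [CommRing A] [IsLocalRing A] [IsNoetherianRing A]
  {E : Type u} [AddCommGroup E] [Module A E] (f : ResidueField A →ₗ[A] E)
  (hf : IsInjectiveHull f)

include hf in
/-- the Matlis dual of a finite length module with simple socle is cyclic -/
theorem exists_generator_hom (B₀ : Type u) [AddCommGroup B₀] [Module A B₀]
    (hfl : IsFiniteLength A B₀)
    (hsoc : Module.length A (LocCoh.torsionBy (maximalIdeal A) B₀) = 1) :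
    ∃ ψ : B₀ →ₗ[A] E, ∀ φ : B₀ →ₗ[A] E, ∃ a : A, a • ψ = φ := by
  have hlenH : Module.length A (B₀ →ₗ[A] E) = Module.length A B₀ :=
    length_hom_eq_length f hf hfl
  have hflH : IsFiniteLength A (B₀ →ₗ[A] E) := by
    rw [← Module.length_ne_top_iff, hlenH, Module.length_ne_top_iff]
    exact hfl
  obtain ⟨hnoeth, _⟩ := isFiniteLength_iff_isNoetherian_isArtinian.1 hflH
  have hfin : Module.Finite A (B₀ →ₗ[A] E) := inferInstance
  have h1 := spanFinrank_top_eq_length_socle_dual f hf (B₀ →ₗ[A] E)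
  let ev : B₀ ≃ₗ[A] ((B₀ →ₗ[A] E) →ₗ[A] E) :=
    LinearEquiv.ofBijective LinearMap.applyₗ (applyₗ_bijective_of_isFiniteLength f hf B₀ hfl)
  rw [← (Groth.Agent.Lib.Helper16.SocMul.torsionByCongr (maximalIdeal A) ev).length_eq, hsoc]
    at h1
  have h2 : (⊤ : Submodule A (B₀ →ₗ[A] E)).spanFinrank = 1 := by exact_mod_cast h1
  obtain ⟨⟨ψ, hψ⟩, _⟩ := (Submodule.spanFinrank_eq_one_iff _).1 h2
  refine ⟨ψ, fun φ => ?_⟩
  have : φ ∈ Submodule.span A {ψ} := by rw [← hψ]; exact Submodule.mem_top
  exact Submodule.mem_span_singleton.1 this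

end Cyclic

end Groth.Agent.Lib.Helper11.TorHull
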