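import Mathlib
import Groth.Agent.Lib.Helper11.TorHullF

/-!
# `Tor_i(E, κ)` over a Gorenstein local ring: assembly
-/

set_option autoImplicit false
set_option linter.unusedSectionVars false
set_option linter.unusedVariables false
universe u

open CategoryTheory CategoryTheory.Limits IsLocalRing MonoidalCategory

namespace Groth.Agent.Lib.Helper11.TorHull

open Groth.Agent.Lib.Helper11.TorSys Groth.Agent.Lib.Helper25 InjHull
open Groth.Agent.Lib.Helper16 Groth.Agent.Lib.Helper16.Depth RingTheory.Sequence

section Main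

variable (A : Type u) [CommRing A] (E : Type u) [AddCommGroup E] [Module A E]

theorem base_state : State (DFun.ofModule (ModuleCat.of A E)) E (ModuleCat.of A A) 0 where
  conc := by
    intro i hi
    obtain ⟨k, rfl⟩ : ∃ k, i = k + 1 := ⟨i - 1, by omega⟩
    exact ModuleCat.subsingleton_of_isZero ((DFun.ofModule (ModuleCat.of A E)).isZero_ring k)
  equiv := by
    have e1 := ((modelZeroIso (ModuleCat.of A E)).app (ModuleCat.of A A)).toLinearEquiv
    have e2 := (ρ_ (ModuleCat.of A E)).toLinearEquiv
    exact ⟨(e1.trans e2).trans (LinearMap.ringLmapEquivSelf A A E).symm⟩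

variable [hG : LocCoh.IsGorensteinLocalRing A] (d : ℕ) (hd : ringKrullDim A = d)
  (f : ResidueField A →ₗ[A] E) (hf : IsInjectiveHull f)

include hd hf in
theorem model_residue :
    (∀ i, i ≠ d → Subsingleton (((DFun.ofModule (ModuleCat.of A E)).G i).obj
      (ModuleCat.of A (ResidueField A)))) ∧
      Nonempty (((DFun.ofModule (ModuleCat.of A E)).G d).obj
        (ModuleCat.of A (ResidueField A)) ≃ₗ[A] ResidueField A) := by
  have hR0 : (DFun.ofModule (ModuleCat.of A E)).R0 := ofModule_R0 _
  have hinj : Module.Injective A E := hf.isInjective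
  have hdep : LocCoh.depth A A = d := GorTop.depth_eq hd
  have hle : (d : ℕ∞) ≤ LocCoh.idealDepth (maximalIdeal A) A := by
    change (d : ℕ∞) ≤ LocCoh.depth A A
    rw [hdep]
  rcases (le_idealDepth_iff (maximalIdeal A) A d).1 hle with htop | ⟨rs, hlen, hreg, hmem⟩
  · exfalso
    rw [smul_eq_mul, Ideal.mul_top] at htop
    exact (IsLocalRing.maximalIdeal.isMaximal A).ne_top htop
  · have hfl := GorTop.isFiniteLength_quot_regular rs hreg hmem d hlen hd
    have hJle : Ideal.ofList rs ≤ maximalIdeal A := Ideal.span_le.2 (fun r hr => hmem r hr)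
    have hJne : Ideal.ofList rs ≠ ⊤ := fun h =>
      (IsLocalRing.maximalIdeal.isMaximal A).ne_top (top_le_iff.1 (h ▸ hJle))
    have hI : (Ideal.ofList rs • ⊤ : Submodule A A) = Ideal.ofList rs := by
      rw [smul_eq_mul, Ideal.mul_top]
    have hst := (base_state A E).quot_list hR0 rs A 0 hreg
    have hst' : State (DFun.ofModule (ModuleCat.of A E)) E
        (ModuleCat.of A (A ⧸ Ideal.ofList rs)) d := by
      have := hst.of_iso (Submodule.quotEquivOfEq _ _ hI).toModuleIso
      rwa [zero_add, hlen] at this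
    haveI : IsLocalRing (A ⧸ Ideal.ofList rs) := GorQuot.isLocalRing_quotient _ hJne
    have hGq := GorQuot.gor_quot_ofList hG rs hmem hreg
    have hdim0 : ringKrullDim (A ⧸ Ideal.ofList rs) = 0 := by
      have reg : IsRegular A rs := by
        refine ⟨hreg, ?_⟩
        intro h
        rw [hI] at h
        exact hJne h.symm
      have hdim := ringKrullDim_add_length_eq_ringKrullDim_of_isRegular rs reg
      rw [hlen, hd] at hdim
      apply le_antisymm
      · have h1 : ringKrullDim (A ⧸ Ideal.ofList rs) + (d : WithBot ℕ∞) ≤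
            0 + (d : WithBot ℕ∞) := by rw [hdim, zero_add]
        refine (WithBot.add_le_add_iff_right' ?_ ?_).1 h1
        · exact WithBot.coe_ne_bot
        · intro h
          have h3 : ((d : ℕ∞) : WithBot ℕ∞) = ((⊤ : ℕ∞) : WithBot ℕ∞) := h
          exact ENat.natCast_ne_top d (WithBot.coe_injective h3)
      · exact ringKrullDim_nonneg_of_nontrivial
    have hsocq := GorArt.length_socle_eq_one_of_isGorenstein (A ⧸ Ideal.ofList rs) hGq hdim0
    have hsoc : Module.length A (LocCoh.torsionBy (maximalIdeal A) (A ⧸ Ideal.ofList rs)) = 1 := by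
      have key : ∀ J' : Ideal A, J' = Ideal.ofList rs →
          Module.length A (LocCoh.torsionBy (maximalIdeal A) (A ⧸ J')) = 1 →
          Module.length A (LocCoh.torsionBy (maximalIdeal A) (A ⧸ Ideal.ofList rs)) = 1 := by
        rintro _ rfl h; exact h
      refine key _ Ideal.mk_ker ?_
      rw [SocMul.length_socle_fibre (Ideal.Quotient.mk (Ideal.ofList rs))
        Ideal.Quotient.mk_surjective]
      exact hsocq
    obtain ⟨φ⟩ := hst'.equiv
    obtain ⟨ψ, hψ⟩ := exists_generator_hom f hf (A ⧸ Ideal.ofList rs) hfl hsoc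
    have hcyc : ∃ ξ : ((DFun.ofModule (ModuleCat.of A E)).G d).obj
        (ModuleCat.of A (A ⧸ Ideal.ofList rs)), ∀ ζ, ∃ a : A, a • ξ = ζ := by
      refine ⟨φ.symm ψ, fun ζ => ?_⟩
      obtain ⟨a, ha⟩ := hψ (φ ζ)
      exact ⟨a, by rw [← map_smul, ha, φ.symm_apply_apply]⟩
    have hlenG : Module.length A (((DFun.ofModule (ModuleCat.of A E)).G d).obj
        (ModuleCat.of A (A ⧸ Ideal.ofList rs))) = Module.length A (A ⧸ Ideal.ofList rs) := by
      rw [φ.length_eq]
      exact length_hom_eq_length f hf hfl
    let π : (A ⧸ Ideal.ofList rs) →ₗ[A] ResidueField A :=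
      Submodule.liftQ (Ideal.ofList rs) (Algebra.linearMap A (ResidueField A)) (by
        intro a ha
        rw [LinearMap.mem_ker, Algebra.linearMap_apply, ResidueField.algebraMap_eq,
          residue_eq_zero_iff]
        exact hJle ha)
    have hπ : Function.Surjective π := by
      intro k
      obtain ⟨a, rfl⟩ := residue_surjective k
      exact ⟨Submodule.Quotient.mk a, rfl⟩
    exact residue_main _ hR0 (A ⧸ Ideal.ofList rs) hfl π hπ d hst'.conc hcyc hlenG

include hd hf in
/-- `Tor_i(E, κ) = 0` for `i ≠ d` and `Tor_d(E, κ) ≅ κ` over a Gorenstein local ring of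
dimension `d`, `E` an injective hull of the residue field `κ`. -/
theorem tor_injectiveHull_residueField :
    (∀ i : ℕ, i ≠ d → IsZero (((Tor (ModuleCat.{u} A) i).obj (ModuleCat.of A E)).obj
      (ModuleCat.of A (ResidueField A)))) ∧
      Nonempty ((((Tor (ModuleCat.{u} A) d).obj (ModuleCat.of A E)).obj
        (ModuleCat.of A (ResidueField A))) ≅ ModuleCat.of A (ResidueField A)) := by
  obtain ⟨h1, ⟨e⟩⟩ := model_residue A E d hd f hf
  constructor
  · intro i hi
    have := h1 i hi
    exact IsZero.of_iso (ModuleCat.isZero_of_subsingleton _)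
      (torIsoModelApp (ModuleCat.of A E) i (ModuleCat.of A (ResidueField A)))
  · exact ⟨torIsoModelApp (ModuleCat.of A E) d (ModuleCat.of A (ResidueField A)) ≪≫
      e.toModuleIso⟩

end Main

end Groth.Agent.Lib.Helper11.TorHull
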