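import Mathlib
import Groth.Agent.Lib.Helper11.TorSysG

/-!
# The affine blow-up algebra as a filtered colimit of the powers of `I`
-/

set_option autoImplicit false
set_option linter.unusedSectionVars false
set_option linter.unusedVariables false
universe u

open CategoryTheory CategoryTheory.Limits

namespace Groth.Agent.Lib.Helper11.TorSys

open Groth.Agent.Lib.Helper9.BlowupAlg

/-- `ℕ` in universe `u` -/
structure Idx : Type u where
  n : ℕ

instance : Preorder Idx.{u} := Preorder.lift Idx.n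

instance : IsDirected Idx.{u} (· ≤ ·) :=
  ⟨fun a b => ⟨⟨max a.n b.n⟩, le_max_left a.n b.n, le_max_right a.n b.n⟩⟩

instance : Nonempty Idx.{u} := ⟨⟨0⟩⟩

variable {A : Type u} [CommRing A] (I : Ideal A) (π : A) (hπ : π ∈ I)

include hπ in
theorem pow_mul_mem {n k : ℕ} (h : n ≤ k) {b : A} (hb : b ∈ I ^ n) : π ^ (k - n) * b ∈ I ^ k := by
  have h1 := Ideal.mul_mem_mul (Ideal.pow_mem_pow hπ (k - n)) hb
  rw [← pow_add] at h1
  rwa [Nat.sub_add_cancel h] at h1

/-- multiplication by `π^(k-n)`, as a map `I^n → I^k` -/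
noncomputable def powMul (n k : ℕ) (h : n ≤ k) : ↥(I ^ n) →ₗ[A] ↥(I ^ k) :=
  (LinearMap.mulLeft A (π ^ (k - n))).restrict (fun b hb => pow_mul_mem I π hπ h hb)

theorem powMul_coe (n k : ℕ) (h : n ≤ k) (b : ↥(I ^ n)) :
    ((powMul I π hπ n k h b : ↥(I ^ k)) : A) = π ^ (k - n) * b := rfl

/-- the diagram `n ↦ I^n` -/
noncomputable def powDiag : Idx.{u} ⥤ ModuleCat.{u} A where
  obj j := ModuleCat.of A ↥(I ^ j.n)
  map {j k} f := ModuleCat.ofHom (powMul I π hπ j.n k.n (show j.n ≤ k.n from (leOfHom f : j ≤ k)))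
  map_id j := by
    refine ModuleCat.hom_ext (LinearMap.ext fun b => ?_)
    apply Subtype.ext
    change π ^ (j.n - j.n) * (b : A) = b
    rw [Nat.sub_self, pow_zero, one_mul]
  map_comp {j k l} f g := by
    refine ModuleCat.hom_ext (LinearMap.ext fun b => ?_)
    apply Subtype.ext
    have h1 : j.n ≤ k.n := (leOfHom f : j ≤ k)
    have h2 : k.n ≤ l.n := (leOfHom g : k ≤ l)
    change π ^ (l.n - j.n) * (b : A) = π ^ (l.n - k.n) * (π ^ (k.n - j.n) * (b : A))
    rw [← mul_assoc, ← pow_add]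
    congr 2
    omega

/-- `b ↦ b/π^n`, as a map `I^n → A[I/π]` -/
noncomputable def toB (n : ℕ) : ↥(I ^ n) →ₗ[A] ↥(BlowUp.affineAlgebra A I π) where
  toFun b := ⟨frac π n b, frac_mem b.2⟩
  map_add' b b' := by
    apply Subtype.ext
    exact (frac_add π n b b').symm
  map_smul' r b := by
    apply Subtype.ext
    change frac π n (r * (b : A)) = r • frac π n b
    rw [Algebra.smul_def, algebraMap_mul_frac]

theorem toB_coe (n : ℕ) (b : ↥(I ^ n)) : ((toB I π n b : ↥(BlowUp.affineAlgebra A I π)) :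
    Localization.Away π) = frac π n b := rfl

/-- the cocone over `powDiag` with point `A[I/π]` -/
noncomputable def powCocone : Cocone (powDiag I π hπ) where
  pt := ModuleCat.of A ↥(BlowUp.affineAlgebra A I π)
  ι :=
    { app := fun j => ModuleCat.ofHom (toB I π j.n)
      naturality := by
        intro j k f
        refine ModuleCat.hom_ext (LinearMap.ext fun (b : ↥(I ^ j.n)) => ?_)
        apply Subtype.ext
        have h1 : j.n ≤ k.n := (leOfHom f : j ≤ k)
        change frac π k.n (π ^ (k.n - j.n) * (b : A)) = frac π j.n (b : A)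
        have := frac_shift π j.n (k.n - j.n) (b : A)
        rwa [Nat.add_sub_cancel' h1] at this }

theorem nonempty_isColimit_powCocone : Nonempty (IsColimit (powCocone I π hπ)) := by
  apply Groth.Agent.Lib.Helper28.HomologyFiltered.nonempty_isColimit
  · intro x
    obtain ⟨n, b, hb, hx⟩ := (mem_iff hπ x.1).1 x.2
    exact ⟨⟨n⟩, ⟨b, hb⟩, Subtype.ext hx.symm⟩
  · intro j (b : ↥(I ^ j.n)) hb
    have hb' : frac π j.n (b : A) = 0 := congrArg Subtype.val hb
    obtain ⟨l, hl⟩ := (frac_eq_zero_iff π j.n (b : A)).1 hb'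
    refine ⟨⟨j.n + l⟩, homOfLE (Nat.le_add_right j.n l), ?_⟩
    apply Subtype.ext
    change π ^ (j.n + l - j.n) * (b : A) = 0
    rw [Nat.add_sub_cancel_left]
    exact hl

theorem smul_hom_eq_zero {X Y : ModuleCat.{u} A} (f : X ⟶ Y) (z : X) (a : A) (h : a • z = 0) :
    a • f.hom z = 0 := by
  rw [← map_smul, h, map_zero]

/-- **Uniform annihilation of `Tor_i(A[I/a₀], M)`.** -/
theorem tor_blowup_annihilator [IsNoetherianRing A] (t : ℕ) (a : Fin (t + 1) → A) :
    ∃ c : ℕ, ∀ (M : ModuleCat.{u} A) (i : ℕ), t + 1 ≤ i →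
      ∀ x ∈ Ideal.span (Set.range a) ^ c,
      ∀ y : ((Tor (ModuleCat.{u} A) i).obj (ModuleCat.of A
        ↥(BlowUp.affineAlgebra A (Ideal.span (Set.range a)) (a 0)))).obj M, x • y = 0 := by
  classical
  have hs : Ideal.span (Set.range a) = Ideal.span ((Finset.univ.image a : Finset A) : Set A) := by
    rw [Finset.coe_image, Finset.coe_univ, Set.image_univ]
  have hcard : (Finset.univ.image a : Finset A).card ≤ t + 1 := by
    refine (Finset.card_image_le).trans ?_
    rw [Finset.card_univ, Fintype.card_fin]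
  obtain ⟨c, hc⟩ := V_mono hcard (V_span_finset (Finset.univ.image a))
  rw [← hs] at hc
  refine ⟨c, fun M i hi x hx y => ?_⟩
  have hπ : a 0 ∈ Ideal.span (Set.range a) := Ideal.subset_span ⟨0, rfl⟩
  obtain ⟨hcol⟩ := nonempty_isColimit_powCocone (Ideal.span (Set.range a)) (a 0) hπ
  have hpres := Groth.Agent.Lib.Helper28.TorFiltered.preservesColimitsOfShape_tor_flip i M Idx.{u}
  have hcol' := isColimitOfPreserves ((Tor (ModuleCat.{u} A) i).flip.obj M) hcol
  obtain ⟨j, z, hz⟩ := Groth.Agent.Lib.Helper28.HomologyFiltered.exists_rep hcol' y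
  have hz0 : x • z = 0 :=
    tor_smul_eq_zero_of' M i _ x
      (fun ξ => smul_G_pow_eq_zero hc (DFun.ofModule M) i j.n hi (by omega) x hx ξ) z
  have hz' : (((Tor (ModuleCat.{u} A) i).flip.obj M).map
      ((powCocone (Ideal.span (Set.range a)) (a 0) hπ).ι.app j)).hom z = y := hz
  rw [← hz']
  exact smul_hom_eq_zero _ z x hz0

end Groth.Agent.Lib.Helper11.TorSys
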