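import Mathlib
import Groth.Prelude.Def_Hens2
import Groth.Agent.Lib.Helper12.HzPairNbhd
import Groth.Agent.Lib.Helper12.HzPairQuot
import Groth.Agent.Lib.Helper12.HensCRT

/-!
# General lemmas on the henselization of a pair (helper11, Weierstrass preparation project)
-/

set_option autoImplicit false
set_option linter.unusedSectionVars false
set_option linter.style.haveILetI false
universe u

namespace Groth.Agent.Lib.Helper11.WPrep

open Groth.Agent.Lib.Helper12

variable {A : Type u} [CommRing A] {I : Ideal A} {B : Type u} [CommRing B] [Algebra A B]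

/-- uniqueness of maps out of a henselization -/
theorem ringHom_ext_of_isPairHenselization (hB : Hens2.IsPairHenselization A I B)
    {C : Type u} [CommRing C] (J : Ideal C) (hC : HenselianRing C J)
    (g₁ g₂ : B →+* C) (h : g₁.comp (algebraMap A B) = g₂.comp (algebraMap A B))
    (hJ : I.map (g₁.comp (algebraMap A B)) ≤ J) : g₁ = g₂ := by
  obtain ⟨g, -, hg⟩ := hB.2 C J (g₁.comp (algebraMap A B)) hC hJ
  rw [hg g₁ rfl, hg g₂ h.symm]

/-- existence of maps out of a henselization -/
theorem exists_ringHom_of_isPairHenselization (hB : Hens2.IsPairHenselization A I B)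
    {C : Type u} [CommRing C] (J : Ideal C) (hC : HenselianRing C J)
    (f : A →+* C) (hJ : I.map f ≤ J) : ∃ g : B →+* C, g.comp (algebraMap A B) = f := by
  obtain ⟨g, hg, -⟩ := hB.2 C J f hC hJ
  exact ⟨g, hg⟩

/-- a quotient of the henselization is henselian along the image of `I` -/
theorem henselianRing_quotient_of_isPairHenselization (hB : Hens2.IsPairHenselization A I B)
    (𝔟 : Ideal B) :
    HenselianRing (B ⧸ 𝔟) (I.map ((Ideal.Quotient.mk 𝔟).comp (algebraMap A B))) := by
  haveI := hB.1
  have := HensCRT.henselianRing_quotient (I.map (algebraMap A B)) 𝔟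
  rwa [Ideal.map_map] at this

/-- maps `B → B ⧸ 𝔟` under `A` are unique -/
theorem ringHom_quotient_ext (hB : Hens2.IsPairHenselization A I B) (𝔟 : Ideal B)
    (g : B →+* B ⧸ 𝔟)
    (h : g.comp (algebraMap A B) = (Ideal.Quotient.mk 𝔟).comp (algebraMap A B)) :
    g = Ideal.Quotient.mk 𝔟 := by
  refine ringHom_ext_of_isPairHenselization hB _
    (henselianRing_quotient_of_isPairHenselization hB 𝔟) g _ h ?_
  rw [h]

/-- if `A ⧸ 𝔞` is already henselian along the image of `I`, then `A ⧸ 𝔞 → B ⧸ 𝔞 B` is bijective -/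
theorem quotientMap_bijective_of_henselian (hB : Hens2.IsPairHenselization A I B) (𝔞 : Ideal A)
    (h𝔞 : HenselianRing (A ⧸ 𝔞) (I.map (Ideal.Quotient.mk 𝔞))) :
    Function.Bijective
      (Ideal.quotientMap (𝔞.map (algebraMap A B)) (algebraMap A B) Ideal.le_comap_map) := by
  obtain ⟨g, hg⟩ := exists_ringHom_of_isPairHenselization hB _ h𝔞 (Ideal.Quotient.mk 𝔞) le_rfl
  have hgalg : ∀ a, g (algebraMap A B a) = Ideal.Quotient.mk 𝔞 a :=
    fun a => congrArg (fun φ => φ a) hg
  have hker : 𝔞.map (algebraMap A B) ≤ RingHom.ker g := by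
    rw [Ideal.map_le_iff_le_comap]
    intro a ha
    rw [Ideal.mem_comap, RingHom.mem_ker, hgalg]
    exact Ideal.Quotient.eq_zero_iff_mem.2 ha
  let gbar : B ⧸ 𝔞.map (algebraMap A B) →+* A ⧸ 𝔞 :=
    Ideal.Quotient.lift _ g (fun b hb => hker hb)
  set ι := Ideal.quotientMap (𝔞.map (algebraMap A B)) (algebraMap A B) Ideal.le_comap_map with hι
  have h1 : ∀ x, gbar (ι x) = x := by
    intro x
    obtain ⟨a, rfl⟩ := Ideal.Quotient.mk_surjective x
    rw [hι, Ideal.quotientMap_mk]
    change g (algebraMap A B a) = _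
    exact hgalg a
  have h2 : (ι.comp g) = Ideal.Quotient.mk (𝔞.map (algebraMap A B)) := by
    apply ringHom_quotient_ext hB
    ext a
    change ι (g (algebraMap A B a)) = Ideal.Quotient.mk _ (algebraMap A B a)
    rw [hgalg, hι, Ideal.quotientMap_mk]
  constructor
  · intro x y hxy
    rw [← h1 x, ← h1 y, hxy]
  · intro y
    obtain ⟨b, rfl⟩ := Ideal.Quotient.mk_surjective y
    refine ⟨g b, ?_⟩
    exact congrArg (fun φ => φ b) h2

end Groth.Agent.Lib.Helper11.WPrep
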