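import Mathlib
import Groth.Agent.Lib.Helper11.WPrep1
import Groth.Agent.Lib.Helper11.Henselian
import Groth.Agent.Lib.Helper12.HensRad
import Groth.Agent.Lib.Helper4.HenselPairK

/-!
# The henselization `B` of `R[t]` along `(t)`: evaluation at `0`, locality, Weierstrass quotients
(helper11, Weierstrass preparation project)
-/

set_option autoImplicit false
set_option linter.unusedSectionVars false
set_option linter.style.haveILetI false
universe u
open Polynomial

namespace Groth.Agent.Lib.Helper11.WPrep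

open Groth.Agent.Lib.Helper12

section Basic

variable {R : Type u} [CommRing R] {B : Type u} [CommRing B] [Algebra R B] [Algebra R[X] B]
  [IsScalarTower R R[X] B]

lemma span_X_pow_map (n : ℕ) :
    ((Ideal.span {(X : R[X])}) ^ n).map (algebraMap R[X] B) =
      Ideal.span {(algebraMap R[X] B X) ^ n} := by
  rw [Ideal.span_singleton_pow, Ideal.map_span, Set.image_singleton, map_pow]

lemma span_X_map :
    (Ideal.span {(X : R[X])}).map (algebraMap R[X] B) = Ideal.span {algebraMap R[X] B X} := by
  rw [Ideal.map_span, Set.image_singleton]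

variable (hB : Hens2.IsPairHenselization R[X] (Ideal.span {(X : R[X])}) B)
include hB

lemma t_mem_jacobson : Ideal.span {algebraMap R[X] B X} ≤ Ideal.jacobson ⊥ := by
  have := hB.1.jac
  rwa [span_X_map] at this

/-- every element of `B` is a polynomial modulo `t ^ n` -/
lemma exists_sub_mem_span_pow (n : ℕ) (b : B) :
    ∃ a : R[X], b - algebraMap R[X] B a ∈ Ideal.span {(algebraMap R[X] B X) ^ n} := by
  obtain ⟨y, hy⟩ := ((HzPair.flat_and_bijective_of_isPairHenselization hB).2 n).2
    (Ideal.Quotient.mk _ b)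
  obtain ⟨a, rfl⟩ := Ideal.Quotient.mk_surjective y
  rw [Ideal.quotientMap_mk, eq_comm, Ideal.Quotient.eq, span_X_pow_map] at hy
  exact ⟨a, hy⟩

/-- a polynomial divisible by `t ^ n` in `B` is divisible by `X ^ n` -/
lemma mem_span_X_pow_of_algebraMap_mem (n : ℕ) (a : R[X])
    (ha : algebraMap R[X] B a ∈ Ideal.span {(algebraMap R[X] B X) ^ n}) :
    a ∈ Ideal.span {(X : R[X]) ^ n} := by
  rw [← span_X_pow_map] at ha
  have := HzPair.mem_pow_of_isPairHenselization hB n ha
  rwa [Ideal.span_singleton_pow] at this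

lemma flat : Module.Flat R[X] B := (HzPair.flat_and_bijective_of_isPairHenselization hB).1

end Basic

/-- `(R, 0)` is a henselian pair -/
theorem henselianRing_bot (R : Type u) [CommRing R] : HenselianRing R ⊥ where
  jac := bot_le
  is_henselian f _ a₀ h₁ _ := ⟨a₀, by rwa [Ideal.mem_bot] at h₁, by simp⟩

section Ev

variable {R : Type u} [CommRing R] {B : Type u} [CommRing B] [Algebra R B] [Algebra R[X] B]
  [IsScalarTower R R[X] B]
  (hB : Hens2.IsPairHenselization R[X] (Ideal.span {(X : R[X])}) B)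
include hB

/-- evaluation at `t = 0` -/
theorem exists_ev : ∃ ev : B →+* R, (∀ a : R[X], ev (algebraMap R[X] B a) = a.eval 0) ∧
    (∀ r : R, ev (algebraMap R B r) = r) ∧
    RingHom.ker ev = Ideal.span {algebraMap R[X] B X} := by
  have hmap : (Ideal.span {(X : R[X])}).map (Polynomial.evalRingHom (0 : R)) ≤ ⊥ := by
    rw [Ideal.map_span, Set.image_singleton, Ideal.span_le]
    intro x hx
    rw [Set.mem_singleton_iff] at hx
    rw [hx]
    simp
  obtain ⟨ev, hev⟩ := exists_ringHom_of_isPairHenselization hB ⊥ (henselianRing_bot R)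
    (Polynomial.evalRingHom (0 : R)) hmap
  have h1 : ∀ a : R[X], ev (algebraMap R[X] B a) = a.eval 0 :=
    fun a => congrArg (fun φ => φ a) hev
  have h2 : ∀ r : R, ev (algebraMap R B r) = r := by
    intro r
    rw [IsScalarTower.algebraMap_apply R R[X] B, h1, Polynomial.algebraMap_apply,
      Algebra.algebraMap_self, RingHom.id_apply, eval_C]
  refine ⟨ev, h1, h2, le_antisymm ?_ ?_⟩
  · intro b hb
    rw [RingHom.mem_ker] at hb
    obtain ⟨a, ha⟩ := exists_sub_mem_span_pow hB 1 b
    rw [pow_one] at ha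
    have ha0 : a.eval 0 = 0 := by
      obtain ⟨c, hc⟩ := Ideal.mem_span_singleton'.1 ha
      have := congrArg ev hc
      rw [map_mul, h1, eval_X, mul_zero, map_sub, hb, h1, zero_sub, zero_eq_neg] at this
      exact this
    have hXa : X ∣ a := by
      rw [Polynomial.X_dvd_iff, Polynomial.coeff_zero_eq_eval_zero, ha0]
    obtain ⟨a', rfl⟩ := hXa
    have : b = (b - algebraMap R[X] B (X * a')) + algebraMap R[X] B (X * a') := by ring
    rw [this]
    refine Ideal.add_mem _ ha ?_
    rw [map_mul]
    exact Ideal.mul_mem_right _ _ (Ideal.mem_span_singleton_self _)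
  · rw [Ideal.span_le]
    intro x hx
    rw [Set.mem_singleton_iff] at hx
    rw [hx, SetLike.mem_coe, RingHom.mem_ker, h1, eval_X]

/-- an element of `B` whose value at `t = 0` is a unit is a unit -/
theorem isUnit_of_isUnit_ev (ev : B →+* R)
    (h2 : ∀ r : R, ev (algebraMap R B r) = r)
    (h3 : RingHom.ker ev = Ideal.span {algebraMap R[X] B X})
    (b : B) (hb : IsUnit (ev b)) : IsUnit b := by
  apply Groth.Agent.Lib.Helper11.isUnit_of_isUnit_mk _ (t_mem_jacobson hB)
  have hmem : b - algebraMap R B (ev b) ∈ Ideal.span {algebraMap R[X] B X} := by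
    rw [← h3, RingHom.mem_ker, map_sub, h2, sub_self]
  have : Ideal.Quotient.mk (Ideal.span {algebraMap R[X] B X}) b =
      Ideal.Quotient.mk _ (algebraMap R B (ev b)) := Ideal.Quotient.eq.2 hmem
  rw [this]
  exact (hb.map (algebraMap R B)).map _

end Ev

section Local

variable {R : Type u} [CommRing R] [IsLocalRing R] {B : Type u} [CommRing B] [Algebra R B]
  [Algebra R[X] B] [IsScalarTower R R[X] B]
  (hB : Hens2.IsPairHenselization R[X] (Ideal.span {(X : R[X])}) B)
include hB

theorem isLocalRing : IsLocalRing B := by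
  obtain ⟨ev, h1, h2, h3⟩ := exists_ev hB
  haveI : IsLocalHom ev := ⟨fun b hb => isUnit_of_isUnit_ev hB ev h2 h3 b hb⟩
  exact RingHom.domain_isLocalRing ev

theorem mem_maximalIdeal_iff [IsLocalRing B] (ev : B →+* R)
    (h2 : ∀ r : R, ev (algebraMap R B r) = r)
    (h3 : RingHom.ker ev = Ideal.span {algebraMap R[X] B X}) (b : B) :
    b ∈ IsLocalRing.maximalIdeal B ↔ ev b ∈ IsLocalRing.maximalIdeal R := by
  rw [IsLocalRing.mem_maximalIdeal, IsLocalRing.mem_maximalIdeal, mem_nonunits_iff,
    mem_nonunits_iff, not_iff_not]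
  exact ⟨fun h => h.map ev, fun h => isUnit_of_isUnit_ev hB ev h2 h3 b h⟩

theorem map_maximalIdeal_le [IsLocalRing B] :
    (IsLocalRing.maximalIdeal R).map (algebraMap R B) ≤ IsLocalRing.maximalIdeal B := by
  obtain ⟨ev, h1, h2, h3⟩ := exists_ev hB
  rw [Ideal.map_le_iff_le_comap]
  intro r hr
  rw [Ideal.mem_comap, mem_maximalIdeal_iff hB ev h2 h3, h2]
  exact hr

theorem t_mem_maximalIdeal [IsLocalRing B] :
    algebraMap R[X] B X ∈ IsLocalRing.maximalIdeal B := by
  obtain ⟨ev, h1, h2, h3⟩ := exists_ev hB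
  rw [mem_maximalIdeal_iff hB ev h2 h3, h1, eval_X]
  exact Ideal.zero_mem _

/-- the maximal ideal of `B` is `𝔪 B + t B` -/
theorem maximalIdeal_le [IsLocalRing B] :
    IsLocalRing.maximalIdeal B ≤ (IsLocalRing.maximalIdeal R).map (algebraMap R B) ⊔
      Ideal.span {algebraMap R[X] B X} := by
  obtain ⟨ev, h1, h2, h3⟩ := exists_ev hB
  intro b hb
  rw [mem_maximalIdeal_iff hB ev h2 h3] at hb
  have hmem : b - algebraMap R B (ev b) ∈ Ideal.span {algebraMap R[X] B X} := by
    rw [← h3, RingHom.mem_ker, map_sub, h2, sub_self]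
  have : b = algebraMap R B (ev b) + (b - algebraMap R B (ev b)) := by ring
  rw [this]
  exact Ideal.add_mem _ (Ideal.mem_sup_left (Ideal.mem_map_of_mem _ hb))
    (Ideal.mem_sup_right hmem)

end Local

section Weier

variable {R : Type u} [CommRing R] [HenselianLocalRing R] {B : Type u} [CommRing B] [Algebra R B]
  [Algebra R[X] B] [IsScalarTower R R[X] B]
  (hB : Hens2.IsPairHenselization R[X] (Ideal.span {(X : R[X])}) B)

/-- a Weierstrass polynomial minus its leading term has coefficients in `𝔪` -/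
lemma sub_X_pow_mem_map_C (W : R[X]) (hW : W.Monic)
    (hWm : ∀ i, i < W.natDegree → W.coeff i ∈ IsLocalRing.maximalIdeal R) :
    W - X ^ W.natDegree ∈ (IsLocalRing.maximalIdeal R).map (C : R →+* R[X]) := by
  rw [Ideal.mem_map_C_iff]
  intro i
  rw [coeff_sub, coeff_X_pow]
  rcases lt_trichotomy i W.natDegree with h | h | h
  · rw [if_neg h.ne, sub_zero]
    exact hWm i h
  · rw [if_pos h, h, hW.coeff_natDegree, sub_self]
    exact Ideal.zero_mem _
  · rw [if_neg h.ne', sub_zero, coeff_eq_zero_of_natDegree_lt h]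
    exact Ideal.zero_mem _

theorem henselianRing_quot_weierstrass (W : R[X]) (hW : W.Monic)
    (hWm : ∀ i, i < W.natDegree → W.coeff i ∈ IsLocalRing.maximalIdeal R) :
    HenselianRing (R[X] ⧸ Ideal.span {W})
      ((Ideal.span {(X : R[X])}).map (Ideal.Quotient.mk (Ideal.span {W}))) := by
  haveI hfin : Module.Finite R (R[X] ⧸ Ideal.span {W}) := hW.finite_adjoinRoot
  haveI : Algebra.IsIntegral R (R[X] ⧸ Ideal.span {W}) := Algebra.IsIntegral.of_finite R _
  haveI h𝔪 : HenselianRing (R[X] ⧸ Ideal.span {W})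
      ((IsLocalRing.maximalIdeal R).map (algebraMap R (R[X] ⧸ Ideal.span {W}))) :=
    Groth.Agent.Lib.Helper4.HenselPair.henselianRing_map_of_isIntegral R
      (IsLocalRing.maximalIdeal R) _
  refine HensRad.henselianRing_of_le_radical
    ((IsLocalRing.maximalIdeal R).map (algebraMap R (R[X] ⧸ Ideal.span {W}))) _ ?_
  rw [Ideal.map_span, Set.image_singleton, Ideal.span_le]
  intro x hx
  rw [Set.mem_singleton_iff] at hx
  rw [hx]
  refine ⟨W.natDegree, ?_⟩
  have h1 : Ideal.Quotient.mk (Ideal.span {W}) W = 0 :=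
    Ideal.Quotient.eq_zero_iff_mem.2 (Ideal.mem_span_singleton_self W)
  have h2 : (Ideal.Quotient.mk (Ideal.span {W}) X) ^ W.natDegree =
      - Ideal.Quotient.mk (Ideal.span {W}) (W - X ^ W.natDegree) := by
    rw [map_sub, h1, map_pow]
    ring
  rw [h2, neg_mem_iff]
  have h3 := Ideal.mem_map_of_mem (Ideal.Quotient.mk (Ideal.span {W}))
    (sub_X_pow_mem_map_C W hW hWm)
  rw [Ideal.map_map] at h3
  exact h3

include hB in
/-- **Weierstrass division by a Weierstrass polynomial** in the henselization. -/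
theorem weierstrass_quotient_bijective (W : R[X]) (hW : W.Monic)
    (hWm : ∀ i, i < W.natDegree → W.coeff i ∈ IsLocalRing.maximalIdeal R) :
    Function.Bijective
      (Ideal.quotientMap ((Ideal.span {W}).map (algebraMap R[X] B)) (algebraMap R[X] B)
        Ideal.le_comap_map) :=
  quotientMap_bijective_of_henselian hB _ (henselianRing_quot_weierstrass W hW hWm)

end Weier

end Groth.Agent.Lib.Helper11.WPrep
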