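import Mathlib
import Groth.Agent.Lib.Helper11.WPrep2
import Groth.Agent.Lib.Helper12.HzPairDef

/-!
# Elements of `𝔪 B` come from `𝔪 E` for an étale neighbourhood `E`
(helper11, Weierstrass preparation project)
-/

set_option autoImplicit false
set_option linter.unusedSectionVars false
set_option linter.style.haveILetI false
universe u
open Polynomial TensorProduct

namespace Groth.Agent.Lib.Helper11.WPrep

open Groth.Agent.Lib.Helper12

section Gen

variable {A : Type u} [CommRing A] {I : Ideal A} {B : Type u} [CommRing B] [Algebra A B]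

lemma algHom_mem_map' {E₁ E₂ : Type*} [CommRing E₁] [CommRing E₂] [Algebra A E₁] [Algebra A E₂]
    (J : Ideal A) (π : E₁ →ₐ[A] E₂) (x : E₁) (hx : x ∈ J.map (algebraMap A E₁)) :
    π x ∈ J.map (algebraMap A E₂) := by
  have h1 : π x ∈ (J.map (algebraMap A E₁)).map (π : E₁ →+* E₂) := Ideal.mem_map_of_mem _ hx
  rw [Ideal.map_map] at h1
  have h2 : (π : E₁ →+* E₂).comp (algebraMap A E₁) = algebraMap A E₂ := π.comp_algebraMap
  rwa [h2] at h1

/-- every element of `J B` is the image of an element of `J E` for some neighbourhood `E` -/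
theorem exists_nbhd_of_mem_map (hB : Hens2.IsPairHenselization A I B) (J : Ideal A) (z : B)
    (hz : z ∈ J.map (algebraMap A B)) :
    ∃ (E : Type u) (_ : CommRing E) (_ : Algebra A E), HzPair.IsNbhd I E ∧
      ∃ (φ : E →ₐ[A] B) (zE : E), φ zE = z ∧ zE ∈ J.map (algebraMap A E) := by
  rw [Ideal.map] at hz
  induction hz using Submodule.span_induction with
  | mem x hx =>
    obtain ⟨a, ha, rfl⟩ := hx
    refine ⟨A, inferInstance, inferInstance, HzPair.isNbhd_self, Algebra.ofId A B, a, rfl, ?_⟩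
    have : J.map (algebraMap A A) = J := Ideal.map_id J
    rw [this]
    exact ha
  | zero =>
    exact ⟨A, inferInstance, inferInstance, HzPair.isNbhd_self, Algebra.ofId A B, 0, map_zero _,
      Ideal.zero_mem _⟩
  | add x y _ _ hx hy =>
    obtain ⟨E₁, _, _, hE₁, φ₁, z₁, hz₁, hm₁⟩ := hx
    obtain ⟨E₂, _, _, hE₂, φ₂, z₂, hz₂, hm₂⟩ := hy
    refine ⟨E₁ ⊗[A] E₂, inferInstance, inferInstance, HzPair.IsNbhd.tensor I hE₁ hE₂,
      Algebra.TensorProduct.lift φ₁ φ₂ (fun _ _ => Commute.all _ _),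
      z₁ ⊗ₜ 1 + 1 ⊗ₜ z₂, ?_, ?_⟩
    · rw [map_add, Algebra.TensorProduct.lift_tmul, Algebra.TensorProduct.lift_tmul, map_one,
        map_one, mul_one, one_mul, hz₁, hz₂]
    · refine Ideal.add_mem _ ?_ ?_
      · exact algHom_mem_map' J (Algebra.TensorProduct.includeLeft : E₁ →ₐ[A] E₁ ⊗[A] E₂) z₁ hm₁
      · exact algHom_mem_map' J (Algebra.TensorProduct.includeRight : E₂ →ₐ[A] E₁ ⊗[A] E₂) z₂ hm₂
  | smul b x _ hx =>
    obtain ⟨E₂, _, _, hE₂, φ₂, z₂, hz₂, hm₂⟩ := hx
    obtain ⟨E₁, _, _, hE₁, φ₁, s, hs⟩ := HzPair.exists_nbhd_of_mem B hB b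
    refine ⟨E₁ ⊗[A] E₂, inferInstance, inferInstance, HzPair.IsNbhd.tensor I hE₁ hE₂,
      Algebra.TensorProduct.lift φ₁ φ₂ (fun _ _ => Commute.all _ _),
      (s ⊗ₜ 1) * (1 ⊗ₜ z₂), ?_, ?_⟩
    · rw [map_mul, Algebra.TensorProduct.lift_tmul, Algebra.TensorProduct.lift_tmul, map_one,
        map_one, mul_one, one_mul, hz₂, hs, smul_eq_mul]
    · refine Ideal.mul_mem_left _ _ ?_
      exact algHom_mem_map' J (Algebra.TensorProduct.includeRight : E₂ →ₐ[A] E₁ ⊗[A] E₂) z₂ hm₂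

end Gen

end Groth.Agent.Lib.Helper11.WPrep
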