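import Mathlib
import Groth.Agent.Lib.Helper11.WPrep3
import Groth.Agent.Lib.Helper4.HznQF
import Groth.Agent.Lib.Helper4.QFQuot

/-!
# Finiteness of `B ⧸ (β)` over `R` for `β ≡ t ^ K` modulo `𝔪 B`
(helper11, Weierstrass preparation project)
-/

set_option autoImplicit false
set_option linter.unusedSectionVars false
set_option linter.style.haveILetI false
universe u
open Polynomial TensorProduct

namespace Groth.Agent.Lib.Helper11.WPrep

open Groth.Agent.Lib.Helper12 Groth.Agent.Lib.Helper4

section Aux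

variable {R : Type u} [CommRing R] [HenselianLocalRing R]
  (E : Type u) [CommRing E] [Algebra R[X] E] [Algebra R E] [IsScalarTower R R[X] E]
  (hE : HzPair.IsNbhd (Ideal.span {(X : R[X])}) E)
  (K : ℕ) (zE : E) (hzE : zE ∈ (IsLocalRing.maximalIdeal R).map (algebraMap R E))

include hE hzE in
/-- the closed fibre of `E ⧸ (t ^ K + z)` is finite -/
theorem finite_mod :
    Module.Finite R ((E ⧸ Ideal.span {(algebraMap R[X] E X) ^ K + zE}) ⧸
      (IsLocalRing.maximalIdeal R).map
        (algebraMap R (E ⧸ Ideal.span {(algebraMap R[X] E X) ^ K + zE}))) := by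
  set βE : E := (algebraMap R[X] E X) ^ K + zE with hβE
  set 𝔪S := (IsLocalRing.maximalIdeal R).map (algebraMap R (E ⧸ Ideal.span {βE})) with h𝔪S
  let γ : R[X] →ₐ[R] (E ⧸ Ideal.span {βE}) ⧸ 𝔪S :=
    (Ideal.Quotient.mkₐ R 𝔪S).comp
      ((Ideal.Quotient.mkₐ R (Ideal.span {βE})).comp (IsScalarTower.toAlgHom R R[X] E))
  have hγ : ∀ a : R[X], γ a = Ideal.Quotient.mk 𝔪S
      (Ideal.Quotient.mk (Ideal.span {βE}) (algebraMap R[X] E a)) := fun a => rfl
  have hz0 : Ideal.Quotient.mk 𝔪S (Ideal.Quotient.mk (Ideal.span {βE}) zE) = 0 := by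
    rw [Ideal.Quotient.eq_zero_iff_mem]
    exact algHom_mem_map' (IsLocalRing.maximalIdeal R)
      (Ideal.Quotient.mkₐ R (Ideal.span {βE})) zE hzE
  have hβ0 : Ideal.Quotient.mk (Ideal.span {βE}) βE = 0 :=
    Ideal.Quotient.eq_zero_iff_mem.2 (Ideal.mem_span_singleton_self _)
  have hγX : γ (X ^ K) = 0 := by
    rw [hγ, map_pow]
    have : (algebraMap R[X] E X) ^ K = βE - zE := by rw [hβE]; ring
    rw [this, map_sub, map_sub, hβ0, map_zero, hz0, sub_zero]
  have hker : ∀ a ∈ Ideal.span {(X : R[X]) ^ K}, γ a = 0 := by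
    intro a ha
    obtain ⟨c, rfl⟩ := Ideal.mem_span_singleton'.1 ha
    rw [map_mul, hγX, mul_zero]
  let γbar : (R[X] ⧸ Ideal.span {(X : R[X]) ^ K}) →ₐ[R] (E ⧸ Ideal.span {βE}) ⧸ 𝔪S :=
    Ideal.Quotient.liftₐ (Ideal.span {(X : R[X]) ^ K}) γ hker
  have hsurj : Function.Surjective γbar := by
    intro s
    obtain ⟨s', rfl⟩ := Ideal.Quotient.mk_surjective s
    obtain ⟨e, rfl⟩ := Ideal.Quotient.mk_surjective s'
    obtain ⟨a, ha⟩ := HzPair.exists_sub_mem_pow hE.exists_sub_mem K e
    rw [span_X_pow_map] at ha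
    obtain ⟨c, hc⟩ := Ideal.mem_span_singleton'.1 ha
    refine ⟨Ideal.Quotient.mk _ a, ?_⟩
    have h1 : γbar (Ideal.Quotient.mk _ a) = γ a := rfl
    rw [h1, hγ]
    have h2 : e = algebraMap R[X] E a + c * (algebraMap R[X] E X) ^ K := by
      rw [hc]; ring
    have h3 : Ideal.Quotient.mk 𝔪S (Ideal.Quotient.mk (Ideal.span {βE})
        ((algebraMap R[X] E X) ^ K)) = 0 := by
      have := hγX
      rw [hγ, map_pow] at this
      exact this
    conv_rhs => rw [h2, map_add, map_add, map_mul, map_mul, h3, mul_zero, add_zero]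
  haveI : Module.Finite R (R[X] ⧸ Ideal.span {(X : R[X]) ^ K}) :=
    (monic_X_pow K).finite_adjoinRoot
  exact Module.Finite.of_surjective γbar.toLinearMap hsurj

end Aux

section Main

variable {R : Type u} [CommRing R] [HenselianLocalRing R] {B : Type u} [CommRing B] [Algebra R B]
  [Algebra R[X] B] [IsScalarTower R R[X] B]
  (hB : Hens2.IsPairHenselization R[X] (Ideal.span {(X : R[X])}) B)
  (E : Type u) [CommRing E] [Algebra R[X] E] [Algebra R E] [IsScalarTower R R[X] E]
  (hE : HzPair.IsNbhd (Ideal.span {(X : R[X])}) E) (φ : E →ₐ[R[X]] B)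
  (K : ℕ) (hK : 1 ≤ K) (zE : E) (hzE : zE ∈ (IsLocalRing.maximalIdeal R).map (algebraMap R E))

include hB hE hK hzE in
theorem finite_quotient_aux :
    Module.Finite R (B ⧸ Ideal.span {φ ((algebraMap R[X] E X) ^ K + zE)}) := by
  classical
  haveI hBloc : IsLocalRing B := isLocalRing hB
  set βE : E := (algebraMap R[X] E X) ^ K + zE with hβE
  set β : B := φ βE with hβ
  -- `β` lies in the maximal ideal
  have hφalg : ∀ r : R, φ (algebraMap R E r) = algebraMap R B r := by
    intro r
    rw [IsScalarTower.algebraMap_apply R R[X] E, φ.commutes,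
      ← IsScalarTower.algebraMap_apply R R[X] B]
  have hφz : φ zE ∈ (IsLocalRing.maximalIdeal R).map (algebraMap R B) := by
    have h1 : φ zE ∈ ((IsLocalRing.maximalIdeal R).map (algebraMap R E)).map (φ : E →+* B) :=
      Ideal.mem_map_of_mem _ hzE
    rw [Ideal.map_map] at h1
    have h2 : (φ : E →+* B).comp (algebraMap R E) = algebraMap R B := by
      ext r; exact hφalg r
    rwa [h2] at h1
  have hβmax : β ∈ IsLocalRing.maximalIdeal B := by
    rw [hβ, hβE, map_add, map_pow, φ.commutes]
    refine Ideal.add_mem _ ?_ (map_maximalIdeal_le hB hφz)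
    exact Ideal.pow_mem_of_mem _ (t_mem_maximalIdeal hB) K hK
  have hne : Ideal.span {β} ≠ ⊤ := by
    intro h
    have : (1 : B) ∈ IsLocalRing.maximalIdeal B := by
      have h1 : (1 : B) ∈ Ideal.span {β} := by rw [h]; trivial
      exact (Ideal.span_le.2 (Set.singleton_subset_iff.2 hβmax)) h1
    exact (IsLocalRing.maximalIdeal.isMaximal B).ne_top ((Ideal.eq_top_iff_one _).2 this)
  haveI : Nontrivial (B ⧸ Ideal.span {β}) := Ideal.Quotient.nontrivial_iff.2 hne
  haveI hQtloc : IsLocalRing (B ⧸ Ideal.span {β}) :=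
    IsLocalRing.of_surjective' (Ideal.Quotient.mk (Ideal.span {β})) Ideal.Quotient.mk_surjective
  -- the map `S → B ⧸ (β)`
  have hle : Ideal.span {βE} ≤ (Ideal.span {β}).comap (φ : E →+* B) := by
    rw [Ideal.span_le, Set.singleton_subset_iff]
    exact Ideal.mem_span_singleton_self _
  let χS : (E ⧸ Ideal.span {βE}) →+* (B ⧸ Ideal.span {β}) :=
    Ideal.quotientMap (Ideal.span {β}) (φ : E →+* B) hle
  have hχS : ∀ e : E, χS (Ideal.Quotient.mk _ e) = Ideal.Quotient.mk _ (φ e) := fun e => rfl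
  -- the comap of the maximal ideal of `B ⧸ (β)` to `B` is the maximal ideal
  have hcomapB : (IsLocalRing.maximalIdeal (B ⧸ Ideal.span {β})).comap
      (Ideal.Quotient.mk (Ideal.span {β})) = IsLocalRing.maximalIdeal B := by
    haveI := Ideal.comap_isMaximal_of_surjective (Ideal.Quotient.mk (Ideal.span {β}))
      Ideal.Quotient.mk_surjective (K := IsLocalRing.maximalIdeal (B ⧸ Ideal.span {β}))
    exact IsLocalRing.eq_maximalIdeal inferInstance
  have hmkmax : ∀ b : B, b ∈ IsLocalRing.maximalIdeal B →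
      Ideal.Quotient.mk (Ideal.span {β}) b ∈ IsLocalRing.maximalIdeal (B ⧸ Ideal.span {β}) := by
    intro b hb
    rw [← hcomapB] at hb
    exact hb
  let Q : Ideal (E ⧸ Ideal.span {βE}) :=
    (IsLocalRing.maximalIdeal (B ⧸ Ideal.span {β})).comap χS
  haveI hQprime : Q.IsPrime := Ideal.comap_isPrime _ _
  have h𝔪Q : (IsLocalRing.maximalIdeal R).map (algebraMap R (E ⧸ Ideal.span {βE})) ≤ Q := by
    rw [Ideal.map_le_iff_le_comap]
    intro r hr
    show χS (algebraMap R (E ⧸ Ideal.span {βE}) r) ∈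
      IsLocalRing.maximalIdeal (B ⧸ Ideal.span {β})
    have h1 : algebraMap R (E ⧸ Ideal.span {βE}) r =
        Ideal.Quotient.mk _ (algebraMap R E r) := rfl
    rw [h1, hχS, hφalg]
    exact hmkmax _ (map_maximalIdeal_le hB (Ideal.mem_map_of_mem _ hr))
  have htQ : Ideal.Quotient.mk (Ideal.span {βE}) (algebraMap R[X] E X) ∈ Q := by
    show χS (Ideal.Quotient.mk (Ideal.span {βE}) (algebraMap R[X] E X)) ∈
      IsLocalRing.maximalIdeal (B ⧸ Ideal.span {β})
    rw [hχS, φ.commutes]
    exact hmkmax _ (t_mem_maximalIdeal hB)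
  -- finite type
  haveI : Algebra.Etale R[X] E := hE.etale
  haveI hftE : Algebra.FiniteType R E := Algebra.FiniteType.trans (S := R[X]) inferInstance
    inferInstance
  haveI hftS : Algebra.FiniteType R (E ⧸ Ideal.span {βE}) :=
    Algebra.FiniteType.of_surjective (Ideal.Quotient.mkₐ R (Ideal.span {βE}))
      Ideal.Quotient.mk_surjective
  -- quasi-finiteness at `Q`
  have hfin := finite_mod E hE K zE hzE
  haveI hqf : Algebra.QuasiFiniteAt R Q :=
    QFQuot.quasiFiniteAt_of_finite_quotient (IsLocalRing.maximalIdeal R) hfin Q h𝔪Q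
  haveI hDfin : Module.Finite R (Localization.AtPrime Q) :=
    Hzn.finite_localization_of_quasiFiniteAt R (E ⧸ Ideal.span {βE}) Q h𝔪Q
  haveI : Algebra.IsIntegral R (Localization.AtPrime Q) := Algebra.IsIntegral.of_finite R _
  haveI hDhens : HenselianLocalRing (Localization.AtPrime Q) :=
    Hzn.henselianLocalRing_of_isIntegral R (Localization.AtPrime Q)
  -- `(D, t D)` is a henselian pair
  have hXD : algebraMap R[X] (Localization.AtPrime Q) X ∈
      IsLocalRing.maximalIdeal (Localization.AtPrime Q) := by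
    rw [IsScalarTower.algebraMap_apply R[X] (E ⧸ Ideal.span {βE}) (Localization.AtPrime Q),
      IsLocalization.AtPrime.to_map_mem_maximal_iff (Localization.AtPrime Q) Q]
    exact htQ
  have hID : (Ideal.span {(X : R[X])}).map (algebraMap R[X] (Localization.AtPrime Q)) ≤
      IsLocalRing.maximalIdeal (Localization.AtPrime Q) := by
    rw [Ideal.map_span, Set.image_singleton, Ideal.span_le, Set.singleton_subset_iff]
    exact hXD
  have hDpair : HenselianRing (Localization.AtPrime Q)
      ((Ideal.span {(X : R[X])}).map (algebraMap R[X] (Localization.AtPrime Q))) :=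
    Groth.Agent.Lib.Helper11.henselianRing_of_le hID inferInstance
  -- the map `θ : B → D`
  obtain ⟨θ, hθ⟩ := exists_ringHom_of_isPairHenselization hB _ hDpair
    (algebraMap R[X] (Localization.AtPrime Q)) le_rfl
  have hθalg : ∀ a : R[X], θ (algebraMap R[X] B a) = algebraMap R[X] (Localization.AtPrime Q) a :=
    fun a => congrArg (fun f => f a) hθ
  let θa : B →ₐ[R[X]] Localization.AtPrime Q := { θ with commutes' := hθalg }
  let ε : E →ₐ[R[X]] Localization.AtPrime Q :=
    { toRingHom := (algebraMap (E ⧸ Ideal.span {βE}) (Localization.AtPrime Q)).comp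
        (Ideal.Quotient.mk (Ideal.span {βE}))
      commutes' := by
        intro a
        change algebraMap (E ⧸ Ideal.span {βE}) (Localization.AtPrime Q)
          (Ideal.Quotient.mk _ (algebraMap R[X] E a)) = _
        rw [IsScalarTower.algebraMap_apply R[X] (E ⧸ Ideal.span {βE}) (Localization.AtPrime Q)]
        rfl }
  have hθφ : θa.comp φ = ε := HzPair.algHom_eq_of_nbhd hE hDpair.jac _ _
  have hθβ : θ β = 0 := by
    have h1 : θ β = ε βE := congrArg (fun f => f βE) hθφ
    rw [h1]
    change algebraMap (E ⧸ Ideal.span {βE}) (Localization.AtPrime Q)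
      (Ideal.Quotient.mk _ βE) = 0
    rw [Ideal.Quotient.eq_zero_iff_mem.2 (Ideal.mem_span_singleton_self βE), map_zero]
  -- the map `lam : D → B ⧸ (β)`
  have hunits : ∀ y : Q.primeCompl, IsUnit (χS y) := by
    intro y
    have : χS y ∉ IsLocalRing.maximalIdeal (B ⧸ Ideal.span {β}) := y.2
    exact IsLocalRing.notMem_maximalIdeal.1 this
  let lam : Localization.AtPrime Q →+* (B ⧸ Ideal.span {β}) :=
    IsLocalization.lift (M := Q.primeCompl) (g := χS) hunits
  have hlam : ∀ s, lam (algebraMap (E ⧸ Ideal.span {βE}) (Localization.AtPrime Q) s) = χS s :=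
    fun s => IsLocalization.lift_eq _ _
  -- `lam ∘ θ = mk`
  have hcomp : lam.comp θ = Ideal.Quotient.mk (Ideal.span {β}) := by
    apply ringHom_quotient_ext hB
    refine RingHom.ext fun a => ?_
    change lam (θ (algebraMap R[X] B a)) = Ideal.Quotient.mk _ (algebraMap R[X] B a)
    rw [hθalg,
      IsScalarTower.algebraMap_apply R[X] (E ⧸ Ideal.span {βE}) (Localization.AtPrime Q), hlam]
    have h1 : algebraMap R[X] (E ⧸ Ideal.span {βE}) a =
        Ideal.Quotient.mk _ (algebraMap R[X] E a) := rfl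
    rw [h1, hχS, φ.commutes]
  have hlamsurj : Function.Surjective lam := by
    intro y
    obtain ⟨b, rfl⟩ := Ideal.Quotient.mk_surjective y
    exact ⟨θ b, congrArg (fun f => f b) hcomp⟩
  -- `lam` is `R`-linear
  have hlamR : ∀ r : R, lam (algebraMap R (Localization.AtPrime Q) r) =
      algebraMap R (B ⧸ Ideal.span {β}) r := by
    intro r
    rw [IsScalarTower.algebraMap_apply R (E ⧸ Ideal.span {βE}) (Localization.AtPrime Q), hlam]
    have h1 : algebraMap R (E ⧸ Ideal.span {βE}) r =
        Ideal.Quotient.mk _ (algebraMap R E r) := rfl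
    rw [h1, hχS, hφalg]
    rfl
  let ℓ : Localization.AtPrime Q →ₗ[R] (B ⧸ Ideal.span {β}) :=
    { toFun := lam
      map_add' := map_add lam
      map_smul' := by
        intro r d
        rw [Algebra.smul_def, map_mul, hlamR, RingHom.id_apply, Algebra.smul_def] }
  exact Module.Finite.of_surjective ℓ hlamsurj

end Main

end Groth.Agent.Lib.Helper11.WPrep
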