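import Mathlib
import Groth.Agent.Lib.Helper11.WPrep4

/-!
# Weierstrass preparation in the henselization of `R[t]` along `(t)` for `β ≡ t ^ K` mod `𝔪 B`
(helper11, Weierstrass preparation project)
-/

set_option autoImplicit false
set_option linter.unusedSectionVars false
set_option linter.style.haveILetI false
universe u
open Polynomial TensorProduct

namespace Groth.Agent.Lib.Helper11.WPrep

open Groth.Agent.Lib.Helper12 Groth.Agent.Lib.Helper4

section Fin

variable {R : Type u} [CommRing R] [HenselianLocalRing R] {B : Type u} [CommRing B] [Algebra R B]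
  [Algebra R[X] B] [IsScalarTower R R[X] B]
  (hB : Hens2.IsPairHenselization R[X] (Ideal.span {(X : R[X])}) B)
include hB

/-- **finiteness of `B ⧸ (β)` over `R`** -/
theorem finite_quotient (β : B) (K : ℕ) (hK : 1 ≤ K)
    (hβ : β - (algebraMap R[X] B X) ^ K ∈ (IsLocalRing.maximalIdeal R).map (algebraMap R B)) :
    Module.Finite R (B ⧸ Ideal.span {β}) := by
  have hz' : β - (algebraMap R[X] B X) ^ K ∈
      ((IsLocalRing.maximalIdeal R).map (C : R →+* R[X])).map (algebraMap R[X] B) := by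
    rw [Ideal.map_map]
    have : (algebraMap R[X] B).comp (C : R →+* R[X]) = algebraMap R B := by
      ext r
      exact (IsScalarTower.algebraMap_apply R R[X] B r).symm
    rw [this]
    exact hβ
  obtain ⟨E, _, _, hE, φ, zE, hzE, hmE⟩ := exists_nbhd_of_mem_map hB
    ((IsLocalRing.maximalIdeal R).map (C : R →+* R[X])) _ hz'
  letI : Algebra R E := ((algebraMap R[X] E).comp (C : R →+* R[X])).toAlgebra
  haveI : IsScalarTower R R[X] E := IsScalarTower.of_algebraMap_eq (fun r => rfl)
  have hmE' : zE ∈ (IsLocalRing.maximalIdeal R).map (algebraMap R E) := by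
    rw [Ideal.map_map] at hmE
    exact hmE
  have h := finite_quotient_aux hB E hE φ K hK zE hmE'
  have hφ : φ ((algebraMap R[X] E X) ^ K + zE) = β := by
    rw [map_add, map_pow, φ.commutes, hzE]
    ring
  rwa [hφ] at h

end Fin

section Inj

variable {R : Type u} [CommRing R] {B : Type u} [CommRing B] [Algebra R B]
  [Algebra R[X] B] [IsScalarTower R R[X] B]
  (hB : Hens2.IsPairHenselization R[X] (Ideal.span {(X : R[X])}) B)

include hB in
/-- elements of `J B` are polynomials with coefficients in `J` modulo `t ^ n` -/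
lemma exists_poly_of_mem_map (J : Ideal R) (n : ℕ) (z : B) (hz : z ∈ J.map (algebraMap R B)) :
    ∃ p ∈ J.map (C : R →+* R[X]),
      z - algebraMap R[X] B p ∈ Ideal.span {(algebraMap R[X] B X) ^ n} := by
  rw [Ideal.map] at hz
  induction hz using Submodule.span_induction with
  | mem x hx =>
    obtain ⟨r, hr, rfl⟩ := hx
    refine ⟨C r, Ideal.mem_map_of_mem _ hr, ?_⟩
    have : algebraMap R[X] B (C r) = algebraMap R B r :=
      (IsScalarTower.algebraMap_apply R R[X] B r).symm
    rw [this, sub_self]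
    exact Ideal.zero_mem _
  | zero => exact ⟨0, Ideal.zero_mem _, by rw [map_zero, sub_self]; exact Ideal.zero_mem _⟩
  | add x y _ _ hx hy =>
    obtain ⟨p₁, hp₁, h₁⟩ := hx
    obtain ⟨p₂, hp₂, h₂⟩ := hy
    refine ⟨p₁ + p₂, Ideal.add_mem _ hp₁ hp₂, ?_⟩
    have : x + y - algebraMap R[X] B (p₁ + p₂) =
        (x - algebraMap R[X] B p₁) + (y - algebraMap R[X] B p₂) := by
      rw [map_add]; ring
    rw [this]
    exact Ideal.add_mem _ h₁ h₂
  | smul b x _ hx =>
    obtain ⟨p, hp, h⟩ := hx
    obtain ⟨a, ha⟩ := exists_sub_mem_span_pow hB n b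
    refine ⟨a * p, Ideal.mul_mem_left _ _ hp, ?_⟩
    have : b • x - algebraMap R[X] B (a * p) =
        b * (x - algebraMap R[X] B p) + (b - algebraMap R[X] B a) * algebraMap R[X] B p := by
      rw [map_mul, smul_eq_mul]; ring
    rw [this]
    exact Ideal.add_mem _ (Ideal.mul_mem_left _ _ h) (Ideal.mul_mem_right _ _ ha)

include hB in
/-- injectivity of `A ⧸ (J A + X ^ n) → B ⧸ (J B + t ^ n)` -/
theorem mem_of_algebraMap_mem_sup (J : Ideal R) (n : ℕ) (a : R[X])
    (ha : algebraMap R[X] B a ∈ J.map (algebraMap R B) ⊔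
      Ideal.span {(algebraMap R[X] B X) ^ n}) :
    a ∈ J.map (C : R →+* R[X]) ⊔ Ideal.span {(X : R[X]) ^ n} := by
  obtain ⟨z, hz, w, hw, hzw⟩ := Submodule.mem_sup.1 ha
  obtain ⟨p, hp, hzp⟩ := exists_poly_of_mem_map hB J n z hz
  have h1 : algebraMap R[X] B (a - p) ∈ Ideal.span {(algebraMap R[X] B X) ^ n} := by
    have : algebraMap R[X] B (a - p) = (z - algebraMap R[X] B p) + w := by
      rw [map_sub, ← hzw]; ring
    rw [this]
    exact Ideal.add_mem _ hzp hw
  have h2 := mem_span_X_pow_of_algebraMap_mem hB n (a - p) h1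
  have : a = p + (a - p) := by ring
  rw [this]
  exact Ideal.add_mem _ (Ideal.mem_sup_left hp) (Ideal.mem_sup_right h2)

omit [Algebra R B] [Algebra R[X] B] [IsScalarTower R R[X] B] [CommRing B] in
lemma coeff_mem_of_mem_sup (J : Ideal R) (n : ℕ) (p : R[X])
    (hp : p ∈ J.map (C : R →+* R[X]) ⊔ Ideal.span {(X : R[X]) ^ n}) (i : ℕ) (hi : i < n) :
    p.coeff i ∈ J := by
  obtain ⟨p₁, hp₁, w, hw, rfl⟩ := Submodule.mem_sup.1 hp
  obtain ⟨c, rfl⟩ := Ideal.mem_span_singleton'.1 hw
  rw [coeff_add, coeff_mul_X_pow', if_neg (not_le.2 hi), add_zero]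
  exact Ideal.mem_map_C_iff.1 hp₁ i

end Inj

end Groth.Agent.Lib.Helper11.WPrep
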