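import Mathlib
import Groth.Agent.Lib.Helper11.WPrep5

/-!
# Weierstrass preparation for `β ≡ t ^ K` mod `𝔪 B` (helper11)
-/

set_option autoImplicit false
set_option linter.unusedSectionVars false
set_option linter.style.haveILetI false
universe u
open Polynomial TensorProduct

namespace Groth.Agent.Lib.Helper11.WPrep

open Groth.Agent.Lib.Helper12 Groth.Agent.Lib.Helper4

section Prep

variable {R : Type u} [CommRing R] [HenselianLocalRing R] {B : Type u} [CommRing B] [Algebra R B]
  [Algebra R[X] B] [IsScalarTower R R[X] B]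
  (hB : Hens2.IsPairHenselization R[X] (Ideal.span {(X : R[X])}) B)

omit [HenselianLocalRing R] in
lemma algebraMap_C (r : R) : algebraMap R[X] B (C r) = algebraMap R B r :=
  (IsScalarTower.algebraMap_apply R R[X] B r).symm

omit [HenselianLocalRing R] in
lemma mk_mem_smul_top (𝔟 : Ideal B) (J : Ideal R) (w : B) (hw : w ∈ J.map (algebraMap R B)) :
    Ideal.Quotient.mk 𝔟 w ∈ J • (⊤ : Submodule R (B ⧸ 𝔟)) := by
  rw [Ideal.smul_top_eq_map]
  change Ideal.Quotient.mk 𝔟 w ∈ J.map (algebraMap R (B ⧸ 𝔟))
  have h1 := Ideal.mem_map_of_mem (Ideal.Quotient.mk 𝔟) hw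
  rw [Ideal.map_map] at h1
  exact h1

omit [HenselianLocalRing R] in
lemma mul_mem_sup_span_pow (P : Ideal B) (t : B) (K : ℕ) (x y : B)
    (hx : x ∈ P ⊔ Ideal.span {t}) (hy : y ∈ P ⊔ Ideal.span {t ^ K}) :
    x * y ∈ P ⊔ Ideal.span {t ^ (K + 1)} := by
  obtain ⟨p, hp, w, hw, rfl⟩ := Submodule.mem_sup.1 hx
  obtain ⟨p', hp', w', hw', rfl⟩ := Submodule.mem_sup.1 hy
  obtain ⟨c, rfl⟩ := Ideal.mem_span_singleton'.1 hw
  obtain ⟨c', rfl⟩ := Ideal.mem_span_singleton'.1 hw'
  have : (p + c * t) * (p' + c' * t ^ K) =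
      (p * (p' + c' * t ^ K) + c * t * p') + (c * c') * t ^ (K + 1) := by ring
  rw [this]
  refine Ideal.add_mem _ (Ideal.mem_sup_left ?_) (Ideal.mem_sup_right ?_)
  · exact Ideal.add_mem _ (Ideal.mul_mem_right _ _ hp) (Ideal.mul_mem_left _ _ hp')
  · exact Ideal.mul_mem_left _ _ (Ideal.mem_span_singleton_self _)

include hB in
theorem exists_weierstrass_of_congr (β : B) (K : ℕ)
    (hβ : β - (algebraMap R[X] B X) ^ K ∈ (IsLocalRing.maximalIdeal R).map (algebraMap R B)) :
    ∃ (W : R[X]) (u : Bˣ), W.Monic ∧ W.natDegree = K ∧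
      (∀ i, i < K → W.coeff i ∈ IsLocalRing.maximalIdeal R) ∧
      β = algebraMap R[X] B W * (u : B) := by
  classical
  haveI hBloc : IsLocalRing B := isLocalRing hB
  set t : B := algebraMap R[X] B X with ht
  set 𝔪 := IsLocalRing.maximalIdeal R with h𝔪
  rcases Nat.eq_zero_or_pos K with hK0 | hKpos
  · -- `K = 0`: `β` is a unit
    subst hK0
    rw [pow_zero] at hβ
    have hu : IsUnit β := by
      by_contra hnu
      have h1 : β ∈ IsLocalRing.maximalIdeal B := (IsLocalRing.mem_maximalIdeal _).2 hnu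
      have h2 : β - 1 ∈ IsLocalRing.maximalIdeal B := map_maximalIdeal_le hB hβ
      have h3 : (1 : B) ∈ IsLocalRing.maximalIdeal B := by
        have : (1 : B) = β - (β - 1) := by ring
        rw [this]
        exact Ideal.sub_mem _ h1 h2
      exact (IsLocalRing.maximalIdeal.isMaximal B).ne_top ((Ideal.eq_top_iff_one _).2 h3)
    refine ⟨1, hu.unit, monic_one, natDegree_one, fun i hi => absurd hi (Nat.not_lt_zero i), ?_⟩
    rw [map_one, one_mul, IsUnit.unit_spec]
  · have hK : 1 ≤ K := hKpos
    haveI hfin : Module.Finite R (B ⧸ Ideal.span {β}) := finite_quotient hB β K hK hβ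
    set z : B := β - t ^ K with hz
    let v : Fin K → B ⧸ Ideal.span {β} := fun i => Ideal.Quotient.mk _ (t ^ (i : ℕ))
    -- images of polynomials of degree `< K`
    have hpoly : ∀ p : R[X], p.natDegree < K →
        Ideal.Quotient.mk (Ideal.span {β}) (algebraMap R[X] B p) ∈
          Submodule.span R (Set.range v) := by
      intro p hp
      rw [Polynomial.as_sum_range' p K hp, map_sum, map_sum]
      refine Submodule.sum_mem _ fun i hi => ?_
      rw [Finset.mem_range] at hi
      have h1 : Ideal.Quotient.mk (Ideal.span {β}) (algebraMap R[X] B (monomial i (p.coeff i))) =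
          (p.coeff i) • v ⟨i, hi⟩ := by
        rw [← C_mul_X_pow_eq_monomial, map_mul, map_pow, ← ht, algebraMap_C, map_mul,
          Algebra.smul_def]
        rfl
      rw [h1]
      exact Submodule.smul_mem _ _ (Submodule.subset_span ⟨_, rfl⟩)
    have htK : ∀ y : B, Ideal.Quotient.mk (Ideal.span {β}) (t ^ K * y) ∈
        𝔪 • (⊤ : Submodule R (B ⧸ Ideal.span {β})) := by
      intro y
      have h1 : t ^ K * y = β * y - z * y := by rw [hz]; ring
      have h2 : Ideal.Quotient.mk (Ideal.span {β}) (β * y) = 0 :=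
        Ideal.Quotient.eq_zero_iff_mem.2
          (Ideal.mul_mem_right _ _ (Ideal.mem_span_singleton_self β))
      rw [h1, map_sub, h2, zero_sub, neg_mem_iff]
      exact mk_mem_smul_top _ 𝔪 _ (Ideal.mul_mem_right _ _ hβ)
    have htop : (⊤ : Submodule R (B ⧸ Ideal.span {β})) ≤
        Submodule.span R (Set.range v) ⊔ 𝔪 • (⊤ : Submodule R (B ⧸ Ideal.span {β})) := by
      intro x _
      obtain ⟨b, rfl⟩ := Ideal.Quotient.mk_surjective x
      obtain ⟨a, ha⟩ := exists_sub_mem_span_pow hB K b
      obtain ⟨c, hc⟩ := Ideal.mem_span_singleton'.1 ha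
      have hmod := Polynomial.modByMonic_add_div a ((X : R[X]) ^ K)
      have hdeg : (a %ₘ X ^ K).natDegree < K := by
        by_cases hR : Nontrivial R
        · have h1 := Polynomial.natDegree_modByMonic_lt a (monic_X_pow (R := R) K)
            (by
              intro h
              have := congrArg natDegree h
              rw [natDegree_X_pow, natDegree_one] at this
              omega)
          rwa [natDegree_X_pow] at h1
        · have : Subsingleton R := not_nontrivial_iff_subsingleton.1 hR
          rw [Subsingleton.elim (a %ₘ X ^ K) 0, natDegree_zero]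
          exact hKpos
      have hb : b = algebraMap R[X] B (a %ₘ X ^ K) +
          t ^ K * (algebraMap R[X] B (a /ₘ X ^ K) + c) := by
        have h1 : algebraMap R[X] B a = algebraMap R[X] B (a %ₘ X ^ K) +
            t ^ K * algebraMap R[X] B (a /ₘ X ^ K) := by
          conv_lhs => rw [← hmod]
          rw [map_add, map_mul, map_pow]
        have h2 : b = algebraMap R[X] B a + c * t ^ K := by rw [hc]; ring
        rw [h2, h1]; ring
      rw [hb, map_add]
      exact Submodule.add_mem_sup (hpoly _ hdeg) (htK _)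
    have hspan : (⊤ : Submodule R (B ⧸ Ideal.span {β})) ≤ Submodule.span R (Set.range v) :=
      Submodule.le_of_le_smul_of_le_jacobson_bot Module.Finite.fg_top
        (IsLocalRing.maximalIdeal_le_jacobson ⊥) htop
    have hmem : Ideal.Quotient.mk (Ideal.span {β}) (t ^ K) ∈ Submodule.span R (Set.range v) :=
      hspan trivial
    obtain ⟨c, hc⟩ := (Submodule.mem_span_range_iff_exists_fun R).1 hmem
    set p : R[X] := ∑ i : Fin K, C (c i) * X ^ (i : ℕ) with hp
    have hpdeg : p.degree < K := degree_sum_fin_lt c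
    set W : R[X] := X ^ K - p with hW
    have hWmonic : W.Monic := monic_X_pow_sub hpdeg
    have hWdeg : W.natDegree = K := by
      have hnt : Nontrivial R := inferInstance
      have h1 : W.degree = (K : WithBot ℕ) := by
        rw [hW, degree_sub_eq_left_of_degree_lt (by rwa [degree_X_pow]), degree_X_pow]
      exact natDegree_eq_of_degree_eq_some h1
    have hWmap : Ideal.Quotient.mk (Ideal.span {β}) (algebraMap R[X] B W) = 0 := by
      rw [hW, map_sub, map_sub, map_pow, ← ht, ← hc, hp, map_sum, map_sum]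
      rw [sub_eq_zero]
      refine Finset.sum_congr rfl fun i _ => ?_
      rw [map_mul, map_pow, ← ht, algebraMap_C, map_mul, Algebra.smul_def]
      rfl
    obtain ⟨q, hq⟩ := Ideal.mem_span_singleton'.1 (Ideal.Quotient.eq_zero_iff_mem.1 hWmap)
    have hβsup : β ∈ 𝔪.map (algebraMap R B) ⊔ Ideal.span {t ^ K} := by
      have : β = z + t ^ K := by rw [hz]; ring
      rw [this]
      exact Ideal.add_mem _ (Ideal.mem_sup_left hβ)
        (Ideal.mem_sup_right (Ideal.mem_span_singleton_self _))
    have hWcoeff : ∀ i, i < K → W.coeff i ∈ 𝔪 := by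
      intro i hi
      apply coeff_mem_of_mem_sup 𝔪 K W _ i hi
      apply mem_of_algebraMap_mem_sup hB
      rw [← hq]
      exact Ideal.mul_mem_left _ _ hβsup
    have hqunit : IsUnit q := by
      by_contra hnu
      have h1 : q ∈ IsLocalRing.maximalIdeal B := (IsLocalRing.mem_maximalIdeal _).2 hnu
      have h2 := maximalIdeal_le hB h1
      have h3 := mul_mem_sup_span_pow _ t K q β h2 hβsup
      rw [hq] at h3
      have h4 := coeff_mem_of_mem_sup 𝔪 (K + 1) W (mem_of_algebraMap_mem_sup hB 𝔪 (K + 1) W h3)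
        K (Nat.lt_succ_self K)
      rw [← hWdeg, hWmonic.coeff_natDegree] at h4
      exact (IsLocalRing.maximalIdeal.isMaximal R).ne_top ((Ideal.eq_top_iff_one _).2 h4)
    refine ⟨W, hqunit.unit⁻¹, hWmonic, hWdeg, hWcoeff, ?_⟩
    rw [← hq]
    have : q * β * ((hqunit.unit⁻¹ : Bˣ) : B) = β * (q * ((hqunit.unit⁻¹ : Bˣ) : B)) := by ring
    rw [this, IsUnit.mul_val_inv, mul_one]

end Prep

end Groth.Agent.Lib.Helper11.WPrep
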