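import Mathlib
import Groth.Agent.Lib.Helper11.WPrep6
import Groth.Agent.Lib.Helper12.HzPairNoethB

/-!
# Quotients of henselizations, `B ⧸ 𝔪 B` is noetherian, and `f ≡ t ^ d · unit` mod `𝔪 B`
(helper11, Weierstrass preparation project)
-/

set_option autoImplicit false
set_option linter.unusedSectionVars false
set_option linter.style.haveILetI false
universe u
open Polynomial TensorProduct

namespace Groth.Agent.Lib.Helper11.WPrep

open Groth.Agent.Lib.Helper12 Groth.Agent.Lib.Helper4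

section Quot

variable {A : Type u} [CommRing A] {I : Ideal A} {B : Type u} [CommRing B] [Algebra A B]

/-- the henselization commutes with quotients -/
theorem isPairHenselization_quotient (hB : Hens2.IsPairHenselization A I B) (𝔞 : Ideal A) :
    Hens2.IsPairHenselization (A ⧸ 𝔞) (I.map (Ideal.Quotient.mk 𝔞))
      (B ⧸ 𝔞.map (algebraMap A B)) := by
  constructor
  · have h1 := henselianRing_quotient_of_isPairHenselization hB (𝔞.map (algebraMap A B))
    rw [Ideal.map_map]
    have : (algebraMap (A ⧸ 𝔞) (B ⧸ 𝔞.map (algebraMap A B))).comp (Ideal.Quotient.mk 𝔞) =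
        (Ideal.Quotient.mk (𝔞.map (algebraMap A B))).comp (algebraMap A B) := by
      ext a; rfl
    rw [this]
    exact h1
  · intro C _ J f hC hJ
    have hJ' : I.map (f.comp (Ideal.Quotient.mk 𝔞)) ≤ J := by
      rw [← Ideal.map_map]; exact hJ
    obtain ⟨g', hg', huniq⟩ := hB.2 C J (f.comp (Ideal.Quotient.mk 𝔞)) hC hJ'
    have hg'alg : ∀ a, g' (algebraMap A B a) = f (Ideal.Quotient.mk 𝔞 a) :=
      fun a => congrArg (fun φ => φ a) hg'
    have hker : ∀ b ∈ 𝔞.map (algebraMap A B), g' b = 0 := by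
      have hle : 𝔞.map (algebraMap A B) ≤ RingHom.ker g' := by
        rw [Ideal.map_le_iff_le_comap]
        intro a ha
        rw [Ideal.mem_comap, RingHom.mem_ker, hg'alg, Ideal.Quotient.eq_zero_iff_mem.2 ha,
          map_zero]
      exact fun b hb => hle hb
    refine ⟨Ideal.Quotient.lift _ g' hker, ?_, ?_⟩
    · ext a
      exact hg'alg a
    · intro g₂ hg₂
      have h1 : g₂.comp (Ideal.Quotient.mk (𝔞.map (algebraMap A B))) = g' := by
        apply huniq
        ext a
        have := congrArg (fun φ => φ (Ideal.Quotient.mk 𝔞 a)) hg₂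
        exact this
      ext b
      have := congrArg (fun φ => φ b) h1
      exact this

end Quot

section Sep

variable {R : Type u} [CommRing R] [IsLocalRing R] {B : Type u} [CommRing B] [Algebra R B]
  [Algebra R[X] B] [IsScalarTower R R[X] B]
  (hB : Hens2.IsPairHenselization R[X] (Ideal.span {(X : R[X])}) B)

omit [IsLocalRing R] in
lemma map_C_map_eq (J : Ideal R) :
    (J.map (C : R →+* R[X])).map (algebraMap R[X] B) = J.map (algebraMap R B) := by
  rw [Ideal.map_map]
  congr 1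
  ext r
  exact (IsScalarTower.algebraMap_apply R R[X] B r).symm

include hB in
theorem isNoetherianRing_quotient_max :
    IsNoetherianRing (B ⧸ (IsLocalRing.maximalIdeal R).map (algebraMap R B)) := by
  rw [← map_C_map_eq (B := B)]
  have h := isPairHenselization_quotient hB ((IsLocalRing.maximalIdeal R).map (C : R →+* R[X]))
  letI : Field (R ⧸ IsLocalRing.maximalIdeal R) := Ideal.Quotient.field _
  haveI : IsNoetherianRing (R[X] ⧸ (IsLocalRing.maximalIdeal R).map (C : R →+* R[X])) :=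
    isNoetherianRing_of_ringEquiv _
      (Ideal.polynomialQuotientEquivQuotientPolynomial (IsLocalRing.maximalIdeal R))
  exact HzPair.isNoetherianRing_of_isPairHenselization _ _ h

include hB in
/-- every `f ∉ 𝔪 B` is `t ^ d · unit` modulo `𝔪 B` -/
theorem exists_pow_unit (f : B) (hf : f ∉ (IsLocalRing.maximalIdeal R).map (algebraMap R B)) :
    ∃ (d : ℕ) (g : B), IsUnit g ∧
      f - (algebraMap R[X] B X) ^ d * g ∈ (IsLocalRing.maximalIdeal R).map (algebraMap R B) := by
  classical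
  haveI hBloc : IsLocalRing B := isLocalRing hB
  set 𝔟 := (IsLocalRing.maximalIdeal R).map (algebraMap R B) with h𝔟
  set t := algebraMap R[X] B X with ht
  haveI := isNoetherianRing_quotient_max hB
  have h𝔟max : 𝔟 ≤ IsLocalRing.maximalIdeal B := map_maximalIdeal_le hB
  have h𝔟ne : 𝔟 ≠ ⊤ := fun h =>
    (IsLocalRing.maximalIdeal.isMaximal B).ne_top (top_le_iff.1 (h ▸ h𝔟max))
  haveI : Nontrivial (B ⧸ 𝔟) := Ideal.Quotient.nontrivial_iff.2 h𝔟ne
  haveI : IsLocalRing (B ⧸ 𝔟) :=
    IsLocalRing.of_surjective' (Ideal.Quotient.mk 𝔟) Ideal.Quotient.mk_surjective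
  set tb : B ⧸ 𝔟 := Ideal.Quotient.mk 𝔟 t with htb
  -- `t̄` is not a unit
  have htbne : Ideal.span {tb} ≠ ⊤ := by
    intro h
    have h1 : (1 : B ⧸ 𝔟) ∈ Ideal.span {tb} := by rw [h]; trivial
    obtain ⟨c, hc⟩ := Ideal.mem_span_singleton'.1 h1
    obtain ⟨c', rfl⟩ := Ideal.Quotient.mk_surjective c
    rw [htb, ← map_mul, ← map_one (Ideal.Quotient.mk 𝔟), Ideal.Quotient.eq] at hc
    have h2 : c' * t ∈ IsLocalRing.maximalIdeal B :=
      Ideal.mul_mem_left _ _ (t_mem_maximalIdeal hB)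
    have h3 : (1 : B) ∈ IsLocalRing.maximalIdeal B := by
      have : (1 : B) = c' * t - (c' * t - 1) := by ring
      rw [this]
      exact Ideal.sub_mem _ h2 (h𝔟max hc)
    exact (IsLocalRing.maximalIdeal.isMaximal B).ne_top ((Ideal.eq_top_iff_one _).2 h3)
  have hkrull := Ideal.iInf_pow_eq_bot_of_isLocalRing (Ideal.span {tb}) htbne
  have hfb : Ideal.Quotient.mk 𝔟 f ≠ 0 := fun h => hf (Ideal.Quotient.eq_zero_iff_mem.1 h)
  have hex : ∃ i : ℕ, Ideal.Quotient.mk 𝔟 f ∉ (Ideal.span {tb}) ^ i := by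
    by_contra hcon
    push Not at hcon
    have : Ideal.Quotient.mk 𝔟 f ∈ ⨅ i : ℕ, (Ideal.span {tb}) ^ i := by
      rw [Ideal.mem_iInf]; exact hcon
    rw [hkrull, Ideal.mem_bot] at this
    exact hfb this
  set d' := Nat.find hex with hd'
  have hd'spec : Ideal.Quotient.mk 𝔟 f ∉ (Ideal.span {tb}) ^ d' := Nat.find_spec hex
  have hd'pos : d' ≠ 0 := by
    intro h0
    rw [h0, pow_zero, Ideal.one_eq_top] at hd'spec
    exact hd'spec trivial
  obtain ⟨d, hd⟩ : ∃ d, d' = d + 1 := Nat.exists_eq_succ_of_ne_zero hd'pos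
  have hmem : Ideal.Quotient.mk 𝔟 f ∈ (Ideal.span {tb}) ^ d := by
    by_contra hcon
    exact Nat.find_min hex (by omega : d < d') hcon
  rw [Ideal.span_singleton_pow] at hmem
  obtain ⟨c, hc⟩ := Ideal.mem_span_singleton'.1 hmem
  obtain ⟨g, rfl⟩ := Ideal.Quotient.mk_surjective c
  refine ⟨d, g, ?_, ?_⟩
  · by_contra hnu
    have h1 : g ∈ IsLocalRing.maximalIdeal B := (IsLocalRing.mem_maximalIdeal _).2 hnu
    obtain ⟨p, hp, w, hw, hpw⟩ := Submodule.mem_sup.1 (maximalIdeal_le hB h1)
    obtain ⟨e, rfl⟩ := Ideal.mem_span_singleton'.1 hw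
    apply hd'spec
    rw [hd, Ideal.span_singleton_pow, ← hc, ← hpw, map_add,
      Ideal.Quotient.eq_zero_iff_mem.2 hp, zero_add, map_mul, ← htb]
    apply Ideal.mem_span_singleton'.2
    exact ⟨Ideal.Quotient.mk 𝔟 e, by ring⟩
  · rw [← Ideal.Quotient.eq, ← hc, map_mul, map_pow, ← htb]
    ring

end Sep

end Groth.Agent.Lib.Helper11.WPrep
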