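import Mathlib
import Groth.Agent.Lib.Helper11.WPrep7

/-!
# Weierstrass preparation in the henselization of `R[t]` along `(t)` (helper11)
-/

set_option autoImplicit false
set_option linter.unusedSectionVars false
set_option linter.style.haveILetI false
universe u
open Polynomial TensorProduct

namespace Groth.Agent.Lib.Helper11.WPrep

open Groth.Agent.Lib.Helper12 Groth.Agent.Lib.Helper4

section Final

variable {R : Type u} [CommRing R] [HenselianLocalRing R] {B : Type u} [CommRing B] [Algebra R B]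
  [Algebra R[X] B] [IsScalarTower R R[X] B]
  (hB : Hens2.IsPairHenselization R[X] (Ideal.span {(X : R[X])}) B)
include hB

theorem quot_props (f : B) (P : R[X]) (u : Bˣ) (hP : P.Monic)
    (hPc : ∀ i : ℕ, i < P.natDegree → P.coeff i ∈ IsLocalRing.maximalIdeal R)
    (hf : f = algebraMap R[X] B P * (u : B)) :
    (∀ b : B, ∃ q : R[X], algebraMap R[X] B q - b ∈ Ideal.span {f}) ∧
    (∀ q : R[X], algebraMap R[X] B q ∈ Ideal.span {f} → q ∈ Ideal.span {P}) := by
  have hspan : Ideal.span {f} = (Ideal.span {P}).map (algebraMap R[X] B) := by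
    rw [hf, Ideal.span_singleton_mul_right_unit u.isUnit, Ideal.map_span, Set.image_singleton]
  have hbij := weierstrass_quotient_bijective hB P hP hPc
  rw [hspan]
  constructor
  · intro b
    obtain ⟨x, hx⟩ := hbij.2 (Ideal.Quotient.mk _ b)
    obtain ⟨q, rfl⟩ := Ideal.Quotient.mk_surjective x
    rw [Ideal.quotientMap_mk, Ideal.Quotient.eq] at hx
    exact ⟨q, hx⟩
  · intro q hq
    have h1 : Ideal.quotientMap ((Ideal.span {P}).map (algebraMap R[X] B)) (algebraMap R[X] B)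
        Ideal.le_comap_map (Ideal.Quotient.mk _ q) = 0 := by
      rw [Ideal.quotientMap_mk]
      exact Ideal.Quotient.eq_zero_iff_mem.2 hq
    have h2 := hbij.1 (h1.trans (map_zero _).symm)
    exact Ideal.Quotient.eq_zero_iff_mem.1 h2

theorem weierstrass_exists (f : B)
    (hf : f ∉ (IsLocalRing.maximalIdeal R).map (algebraMap R B)) :
    ∃ Pu : R[X] × Bˣ, Pu.1.Monic ∧
      (∀ i : ℕ, i < Pu.1.natDegree → Pu.1.coeff i ∈ IsLocalRing.maximalIdeal R) ∧
      f = algebraMap R[X] B Pu.1 * (Pu.2 : B) := by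
  obtain ⟨d, g, hg, hfg⟩ := exists_pow_unit hB f hf
  obtain ⟨gi, hgi⟩ := hg.exists_right_inv
  set β : B := f * gi with hβ
  have hβc : β - (algebraMap R[X] B X) ^ d ∈
      (IsLocalRing.maximalIdeal R).map (algebraMap R B) := by
    have : β - (algebraMap R[X] B X) ^ d = (f - (algebraMap R[X] B X) ^ d * g) * gi := by
      rw [hβ]
      linear_combination ((algebraMap R[X] B X) ^ d) * hgi
    rw [this]
    exact Ideal.mul_mem_right _ _ hfg
  obtain ⟨W, u', hWm, hWdeg, hWc, hβW⟩ := exists_weierstrass_of_congr hB β d hβc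
  refine ⟨(W, u' * hg.unit), hWm, ?_, ?_⟩
  · intro i hi
    exact hWc i (hWdeg ▸ hi)
  · change f = algebraMap R[X] B W * ((u' * hg.unit : Bˣ) : B)
    rw [Units.val_mul, IsUnit.unit_spec, ← mul_assoc, ← hβW, hβ]
    linear_combination (-f) * hgi

theorem weierstrass_unique (f : B) (P₁ P₂ : R[X]) (u₁ u₂ : Bˣ)
    (hP₁ : P₁.Monic) (hP₂ : P₂.Monic)
    (hc₁ : ∀ i : ℕ, i < P₁.natDegree → P₁.coeff i ∈ IsLocalRing.maximalIdeal R)
    (hc₂ : ∀ i : ℕ, i < P₂.natDegree → P₂.coeff i ∈ IsLocalRing.maximalIdeal R)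
    (hf₁ : f = algebraMap R[X] B P₁ * (u₁ : B)) (hf₂ : f = algebraMap R[X] B P₂ * (u₂ : B)) :
    P₁ = P₂ ∧ u₁ = u₂ := by
  have hdvd : ∀ (P P' : R[X]) (u u' : Bˣ), P.Monic →
      (∀ i : ℕ, i < P.natDegree → P.coeff i ∈ IsLocalRing.maximalIdeal R) →
      f = algebraMap R[X] B P * (u : B) → f = algebraMap R[X] B P' * (u' : B) → P ∣ P' := by
    intro P P' u u' hP hc hf hf'
    have h1 := (quot_props hB f P u hP hc hf).2 P' (by
      apply Ideal.mem_span_singleton'.2
      refine ⟨((u'⁻¹ : Bˣ) : B), ?_⟩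
      rw [hf', mul_comm, mul_assoc, Units.mul_inv, mul_one])
    exact Ideal.mem_span_singleton.1 h1
  have h12 := hdvd P₁ P₂ u₁ u₂ hP₁ hc₁ hf₁ hf₂
  have h21 := hdvd P₂ P₁ u₂ u₁ hP₂ hc₂ hf₂ hf₁
  have hPeq : P₁ = P₂ := by
    rcases le_total P₂.natDegree P₁.natDegree with h | h
    · exact (eq_of_monic_of_dvd_of_natDegree_le hP₁ hP₂ h12 h).symm
    · exact eq_of_monic_of_dvd_of_natDegree_le hP₂ hP₁ h21 h
  refine ⟨hPeq, ?_⟩
  subst hPeq
  haveI : Module.Flat R[X] B := flat hB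
  have hreg : IsSMulRegular B (algebraMap R[X] B P₁) :=
    IsSMulRegular.of_flat (hP₁.isRegular.left.isSMulRegular)
  have h3 : algebraMap R[X] B P₁ • (u₁ : B) = algebraMap R[X] B P₁ • (u₂ : B) := by
    rw [smul_eq_mul, smul_eq_mul, ← hf₁, ← hf₂]
  exact Units.ext (hreg h3)

end Final

end Groth.Agent.Lib.Helper11.WPrep
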