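import Mathlib
import Groth.Agent.Lib.Helper4.HenselFactor

/-!
# The "Zariski Laurent" ring `R[t]_{t, 1+tR[t]}` as the localisation of `R[s]` (`s = t⁻¹`) at the
monic polynomials; ideals avoiding the special fibre (helper11)
-/

set_option autoImplicit false
set_option linter.unusedSectionVars false
set_option linter.style.haveILetI false
universe u
open Polynomial

namespace Groth.Agent.Lib.Helper11.ZLaur

section Basic

variable {R : Type u} [CommRing R] {L : Type u} [CommRing L] [Algebra R[X] L]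
  [Algebra R L] [IsScalarTower R R[X] L]
  (ψ : R[X] →ₐ[R] L) (hψ : ψ X * algebraMap R[X] L X = 1)

lemma algebraMap_eq_eval₂ (f : R[X]) :
    algebraMap R[X] L f = eval₂ (algebraMap R L) (algebraMap R[X] L X) f := by
  have := Polynomial.aeval_algHom_apply (IsScalarTower.toAlgHom R R[X] L) X f
  rw [aeval_X_left, AlgHom.id_apply] at this
  rw [← aeval_def]
  exact this.symm

lemma psi_eq_eval₂ (g : R[X]) : ψ g = eval₂ (algebraMap R L) (ψ X) g := by
  have := Polynomial.aeval_algHom_apply ψ X g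
  rw [aeval_X_left, AlgHom.id_apply] at this
  rw [← aeval_def]
  exact this.symm

include hψ in
lemma psi_reflect_mul (N : ℕ) (f : R[X]) (hf : f.natDegree ≤ N) :
    ψ (reflect N f) * (algebraMap R[X] L X) ^ N = algebraMap R[X] L f := by
  letI : Invertible (algebraMap R[X] L X) := ⟨ψ X, hψ, by rw [mul_comm]; exact hψ⟩
  have := eval₂_reflect_mul_pow (algebraMap R L) (algebraMap R[X] L X) N f hf
  rw [algebraMap_eq_eval₂ f, psi_eq_eval₂ ψ (reflect N f)]
  exact this

include hψ in
lemma algebraMap_reflect_mul (N : ℕ) (g : R[X]) (hg : g.natDegree ≤ N) :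
    algebraMap R[X] L (reflect N g) * (ψ X) ^ N = ψ g := by
  letI : Invertible (ψ X) := ⟨algebraMap R[X] L X, by rw [mul_comm]; exact hψ, hψ⟩
  have := eval₂_reflect_mul_pow (algebraMap R L) (ψ X) N g hg
  rw [algebraMap_eq_eval₂ (reflect N g), psi_eq_eval₂ ψ g]
  exact this

include hψ in
lemma pow_mul_pow (n : ℕ) : (algebraMap R[X] L X) ^ n * (ψ X) ^ n = 1 := by
  rw [← mul_pow, mul_comm, hψ, one_pow]

include hψ in
lemma isUnit_psi_X : IsUnit (ψ X) := IsUnit.of_mul_eq_one _ hψ

lemma monic_reflect_of_coeff_zero (u : R[X]) (hu : u.coeff 0 = 1) :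
    (reflect u.natDegree u).Monic := by
  apply Polynomial.monic_of_natDegree_le_of_coeff_eq_one u.natDegree
  · refine natDegree_reflect_le.trans ?_
    simp
  · rw [coeff_reflect, revAt_le le_rfl, Nat.sub_self, hu]

end Basic

section Loc

variable {R : Type u} [CommRing R] {L : Type u} [CommRing L] [Algebra R[X] L]
  [IsLocalization (Submonoid.closure ({f : R[X] | f.coeff 0 = 1} ∪ {X})) L]
  [Algebra R L] [IsScalarTower R R[X] L]
  (ψ : R[X] →ₐ[R] L) (hψ : ψ X * algebraMap R[X] L X = 1)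

lemma mem_closure_repr (τ : R[X])
    (hτ : τ ∈ Submonoid.closure ({f : R[X] | f.coeff 0 = 1} ∪ {X})) :
    ∃ (a : ℕ) (u : R[X]), u.coeff 0 = 1 ∧ τ = X ^ a * u := by
  induction hτ using Submonoid.closure_induction with
  | mem x hx =>
    rcases hx with hx | hx
    · exact ⟨0, x, hx, by simp⟩
    · rw [Set.mem_singleton_iff] at hx
      exact ⟨1, 1, coeff_one_zero, by simp [hx]⟩
  | one => exact ⟨0, 1, coeff_one_zero, by simp⟩
  | mul x y _ _ hx hy =>
    obtain ⟨a, u, hu, rfl⟩ := hx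
    obtain ⟨b, v, hv, rfl⟩ := hy
    refine ⟨a + b, u * v, ?_, by ring⟩
    rw [mul_coeff_zero, hu, hv, one_mul]

include hψ in
lemma isUnit_psi_of_monic (P : R[X]) (hP : P.Monic) : IsUnit (ψ P) := by
  rw [← algebraMap_reflect_mul ψ hψ P.natDegree P le_rfl]
  refine IsUnit.mul ?_ ((isUnit_psi_X ψ hψ).pow _)
  have hmem : reflect P.natDegree P ∈
      Submonoid.closure ({f : R[X] | f.coeff 0 = 1} ∪ {X}) := by
    apply Submonoid.subset_closure
    left
    change (reflect P.natDegree P).coeff 0 = 1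
    rw [coeff_reflect, revAt_zero]
    exact hP
  exact IsLocalization.map_units L (⟨_, hmem⟩ : Submonoid.closure ({f : R[X] | f.coeff 0 = 1} ∪ {X}))

include hψ in
lemma exists_psi_repr (l : L) : ∃ (g P : R[X]), P.Monic ∧ l * ψ P = ψ g := by
  obtain ⟨f, τ, rfl⟩ := IsLocalization.exists_mk'_eq
    (Submonoid.closure ({f : R[X] | f.coeff 0 = 1} ∪ {X})) l
  obtain ⟨a, u, hu, hτ⟩ := mem_closure_repr τ.1 τ.2
  have h0 : IsLocalization.mk' L f τ * algebraMap R[X] L (τ : R[X]) = algebraMap R[X] L f :=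
    IsLocalization.mk'_spec L f τ
  set l := IsLocalization.mk' L f τ with hl
  set n := f.natDegree with hn
  set m := u.natDegree with hm
  set t := algebraMap R[X] L X with ht
  set s := ψ X with hs
  have hf : ψ (reflect n f) * t ^ n = algebraMap R[X] L f := psi_reflect_mul ψ hψ n f le_rfl
  have hu' : ψ (reflect m u) * t ^ m = algebraMap R[X] L u := psi_reflect_mul ψ hψ m u le_rfl
  have hτ' : algebraMap R[X] L (τ : R[X]) = t ^ a * (ψ (reflect m u) * t ^ m) := by
    rw [hτ, map_mul, map_pow, hu']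
  rw [hτ', ← hf] at h0
  refine ⟨reflect n f * X ^ (a + m), reflect m u * X ^ n,
    (monic_reflect_of_coeff_zero u hu).mul (monic_X_pow n), ?_⟩
  rw [map_mul, map_mul, map_pow, map_pow]
  have h1 : t ^ n * s ^ n = 1 := pow_mul_pow ψ hψ n
  have h2 : t ^ (a + m) * s ^ (a + m) = 1 := pow_mul_pow ψ hψ (a + m)
  linear_combination (s ^ n * s ^ (a + m)) * h0 - (l * ψ (reflect m u) * s ^ n) * h2
    + (ψ (reflect n f) * s ^ (a + m)) * h1

include hψ in
lemma exists_monic_mul_eq_zero (g : R[X]) (hg : ψ g = 0) : ∃ P : R[X], P.Monic ∧ P * g = 0 := by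
  set n := g.natDegree with hn
  have h1 : algebraMap R[X] L (reflect n g) * (ψ X) ^ n = 0 := by
    rw [algebraMap_reflect_mul ψ hψ n g le_rfl, hg]
  have h2 : algebraMap R[X] L (reflect n g) = 0 :=
    ((isUnit_psi_X ψ hψ).pow n).mul_left_eq_zero.1 h1
  obtain ⟨τ, hτ0⟩ := (IsLocalization.map_eq_zero_iff
    (Submonoid.closure ({f : R[X] | f.coeff 0 = 1} ∪ {X})) L _).1 h2
  obtain ⟨a, u, hu, hτ⟩ := mem_closure_repr τ.1 τ.2
  rw [hτ, mul_assoc] at hτ0
  have h3 : u * reflect n g = 0 := by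
    apply (isRegular_X_pow (R := R) a).left
    simpa using hτ0
  refine ⟨reflect u.natDegree u, monic_reflect_of_coeff_zero u hu, ?_⟩
  have h4 := reflect_mul u (reflect n g) (F := u.natDegree) (G := n) le_rfl
    (natDegree_reflect_le.trans (by simp [hn]))
  rw [h3, reflect_zero, reflect_reflect] at h4
  exact h4.symm

end Loc

end Groth.Agent.Lib.Helper11.ZLaur
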