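import Mathlib
import Groth.Agent.Lib.Helper11.ZLaur1

/-!
# Ideals of `R[s]` avoiding the special fibre vs. ideals of the Zariski Laurent ring (helper11)
-/

set_option autoImplicit false
set_option linter.unusedSectionVars false
set_option linter.style.haveILetI false
universe u
open Polynomial

namespace Groth.Agent.Lib.Helper11.ZLaur

section Nak

variable {R : Type u} [CommRing R] [IsLocalRing R]

/-- a monic polynomial is a unit modulo an ideal comaximal with `𝔪 R[s]` (Nakayama) -/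
lemma sup_span_monic_eq_top (I : Ideal R[X])
    (hI : I ⊔ (IsLocalRing.maximalIdeal R).map (algebraMap R R[X]) = ⊤)
    (P : R[X]) (hP : P.Monic) : I ⊔ Ideal.span {P} = ⊤ := by
  set K : Ideal R[X] := I ⊔ Ideal.span {P} with hK
  have hPK : Ideal.span {P} ≤ K := le_sup_right
  haveI hfin0 : Module.Finite R (R[X] ⧸ Ideal.span {P}) := hP.finite_adjoinRoot
  haveI hfin : Module.Finite R (R[X] ⧸ K) :=
    Module.Finite.of_surjective (Ideal.Quotient.factorₐ R hPK).toLinearMap
      (Ideal.Quotient.factor_surjective hPK)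
  have h1 : (1 : R[X]) ∈ I ⊔ (IsLocalRing.maximalIdeal R).map (algebraMap R R[X]) := by
    rw [hI]; trivial
  obtain ⟨i, hi, z, hz, hiz⟩ := Submodule.mem_sup.1 h1
  have key : ∀ z ∈ (IsLocalRing.maximalIdeal R).map (algebraMap R R[X]), ∀ g : R[X],
      (Ideal.Quotient.mk K (g * z)) ∈
        (IsLocalRing.maximalIdeal R) • (⊤ : Submodule R (R[X] ⧸ K)) := by
    intro z hz
    rw [Ideal.map] at hz
    induction hz using Submodule.span_induction with
    | mem x hx =>
      obtain ⟨a, ha, rfl⟩ := hx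
      intro g
      have : Ideal.Quotient.mk K (g * algebraMap R R[X] a) = a • Ideal.Quotient.mk K g := by
        rw [Algebra.smul_def, mul_comm, map_mul]; rfl
      rw [this]
      exact Submodule.smul_mem_smul ha trivial
    | zero => intro g; simp
    | add x y _ _ hx hy =>
      intro g
      rw [mul_add, map_add]
      exact add_mem (hx g) (hy g)
    | smul a x _ hx =>
      intro g
      rw [smul_eq_mul, ← mul_assoc]
      exact hx (g * a)
  have htop : (⊤ : Submodule R (R[X] ⧸ K)) ≤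
      (IsLocalRing.maximalIdeal R) • (⊤ : Submodule R (R[X] ⧸ K)) := by
    intro x _
    obtain ⟨g, rfl⟩ := Ideal.Quotient.mk_surjective x
    have hg : g = g * i + g * z := by rw [← mul_add, hiz, mul_one]
    rw [hg, map_add]
    refine add_mem ?_ (key z hz g)
    have : Ideal.Quotient.mk K (g * i) = 0 :=
      Ideal.Quotient.eq_zero_iff_mem.2 (K.mul_mem_left g (le_sup_left (a := I) hi))
    rw [this]
    exact zero_mem _
  have hbot := Submodule.eq_bot_of_le_smul_of_le_jacobson_bot (IsLocalRing.maximalIdeal R)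
    (⊤ : Submodule R (R[X] ⧸ K)) Module.Finite.fg_top htop
    (IsLocalRing.maximalIdeal_le_jacobson ⊥)
  have hss : Subsingleton (R[X] ⧸ K) := by
    refine ⟨fun a b => ?_⟩
    have ha : a ∈ (⊤ : Submodule R (R[X] ⧸ K)) := trivial
    have hb : b ∈ (⊤ : Submodule R (R[X] ⧸ K)) := trivial
    rw [hbot, Submodule.mem_bot] at ha hb
    rw [ha, hb]
  exact Ideal.Quotient.subsingleton_iff.1 hss

lemma mem_of_monic_mul_mem (I : Ideal R[X])
    (hI : I ⊔ (IsLocalRing.maximalIdeal R).map (algebraMap R R[X]) = ⊤)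
    (P g : R[X]) (hP : P.Monic) (h : P * g ∈ I) : g ∈ I := by
  have h1 : (1 : R[X]) ∈ I ⊔ Ideal.span {P} := by
    rw [sup_span_monic_eq_top I hI P hP]; trivial
  obtain ⟨i, hi, z, hz, hiz⟩ := Submodule.mem_sup.1 h1
  obtain ⟨c, rfl⟩ := Ideal.mem_span_singleton'.1 hz
  have : g = g * i + c * (P * g) := by
    linear_combination (-g) * hiz
  rw [this]
  exact I.add_mem (I.mul_mem_left g hi) (I.mul_mem_left c h)

end Nak

section Main

variable {R : Type u} [CommRing R] [IsLocalRing R] {L : Type u} [CommRing L] [Algebra R[X] L]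
  [IsLocalization (Submonoid.closure ({f : R[X] | f.coeff 0 = 1} ∪ {X})) L]
  [Algebra R L] [IsScalarTower R R[X] L]
  (ψ : R[X] →ₐ[R] L) (hψ : ψ X * algebraMap R[X] L X = 1)

include hψ in
/-- elements of the extended ideal: up to a monic denominator they come from `I` -/
lemma exists_of_mem_map (I : Ideal R[X]) (y : L) (hy : y ∈ I.map ψ.toRingHom) :
    ∃ (P i : R[X]), P.Monic ∧ i ∈ I ∧ y * ψ P = ψ i := by
  rw [Ideal.map] at hy
  induction hy using Submodule.span_induction with
  | mem x hx =>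
    obtain ⟨i, hi, rfl⟩ := hx
    exact ⟨1, i, monic_one, hi, by simp⟩
  | zero => exact ⟨1, 0, monic_one, I.zero_mem, by simp⟩
  | add x y _ _ hx hy =>
    obtain ⟨P₁, i₁, hP₁, hi₁, h₁⟩ := hx
    obtain ⟨P₂, i₂, hP₂, hi₂, h₂⟩ := hy
    refine ⟨P₁ * P₂, i₁ * P₂ + i₂ * P₁, hP₁.mul hP₂,
      I.add_mem (I.mul_mem_right _ hi₁) (I.mul_mem_right _ hi₂), ?_⟩
    simp only [map_add, map_mul]
    linear_combination (ψ P₂) * h₁ + (ψ P₁) * h₂
  | smul l x _ hx =>
    obtain ⟨P, i, hP, hi, h⟩ := hx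
    obtain ⟨g, Q, hQ, hl⟩ := exists_psi_repr ψ hψ l
    refine ⟨Q * P, g * i, hQ.mul hP, I.mul_mem_left _ hi, ?_⟩
    simp only [map_mul, smul_eq_mul]
    linear_combination (x * ψ P) * hl + (ψ g) * h

include hψ in
lemma comap_map_eq (I : Ideal R[X])
    (hI : I ⊔ (IsLocalRing.maximalIdeal R).map (algebraMap R R[X]) = ⊤) :
    (I.map ψ.toRingHom).comap ψ.toRingHom = I := by
  refine le_antisymm ?_ Ideal.le_comap_map
  intro g hg
  rw [Ideal.mem_comap] at hg
  obtain ⟨P, i, hP, hi, h⟩ := exists_of_mem_map ψ hψ I _ hg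
  have h0 : ψ (g * P - i) = 0 := by
    rw [map_sub, map_mul]
    exact sub_eq_zero.2 h
  obtain ⟨Q, hQ, hQ0⟩ := exists_monic_mul_eq_zero ψ hψ _ h0
  have hmem : (Q * P) * g ∈ I := by
    have : (Q * P) * g = Q * i := by linear_combination hQ0
    rw [this]
    exact I.mul_mem_left _ hi
  exact mem_of_monic_mul_mem I hI (Q * P) g (hQ.mul hP) hmem

lemma map_sup_eq_top (I : Ideal R[X])
    (hI : I ⊔ (IsLocalRing.maximalIdeal R).map (algebraMap R R[X]) = ⊤) :
    I.map ψ.toRingHom ⊔ (IsLocalRing.maximalIdeal R).map (algebraMap R L) = ⊤ := by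
  have h := congrArg (Ideal.map ψ.toRingHom) hI
  rw [Ideal.map_sup, Ideal.map_map, Ideal.map_top] at h
  have hcomp : ψ.toRingHom.comp (algebraMap R R[X]) = algebraMap R L := by
    ext r
    exact ψ.commutes r
  rw [hcomp] at h
  exact h

include hψ in
lemma quotientMap_bijective (I : Ideal R[X])
    (hI : I ⊔ (IsLocalRing.maximalIdeal R).map (algebraMap R R[X]) = ⊤) :
    Function.Bijective
      (Ideal.quotientMap (I.map ψ.toRingHom) ψ.toRingHom Ideal.le_comap_map) := by
  constructor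
  · exact Ideal.quotientMap_injective' (comap_map_eq ψ hψ I hI).le
  · intro y
    obtain ⟨l, rfl⟩ := Ideal.Quotient.mk_surjective y
    obtain ⟨g, P, hP, hl⟩ := exists_psi_repr ψ hψ l
    have h1 : (1 : R[X]) ∈ I ⊔ Ideal.span {P} := by
      rw [sup_span_monic_eq_top I hI P hP]; trivial
    obtain ⟨i, hi, z, hz, hiz⟩ := Submodule.mem_sup.1 h1
    obtain ⟨c, rfl⟩ := Ideal.mem_span_singleton'.1 hz
    refine ⟨Ideal.Quotient.mk I (g * c), ?_⟩
    rw [Ideal.quotientMap_mk]
    apply Ideal.Quotient.eq.2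
    have hi' : ψ i ∈ I.map ψ.toRingHom := Ideal.mem_map_of_mem ψ.toRingHom hi
    have h2 : ψ i + ψ c * ψ P = 1 := by
      rw [← map_mul, ← map_add, hiz, map_one]
    have : ψ.toRingHom (g * c) - l = - l * ψ i := by
      change ψ (g * c) - l = - l * ψ i
      rw [map_mul]
      linear_combination (-(ψ c)) * hl + l * h2
    rw [this]
    exact Ideal.mul_mem_left _ _ hi'

include hψ in
lemma map_comap_eq (J : Ideal L) : (J.comap ψ.toRingHom).map ψ.toRingHom = J := by
  refine le_antisymm Ideal.map_comap_le ?_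
  intro l hl
  obtain ⟨g, P, hP, h⟩ := exists_psi_repr ψ hψ l
  have hg : g ∈ J.comap ψ.toRingHom := by
    rw [Ideal.mem_comap]
    change ψ g ∈ J
    rw [← h]
    exact J.mul_mem_right _ hl
  obtain ⟨v, hv⟩ := (isUnit_psi_of_monic ψ hψ P hP).exists_right_inv
  have : l = ψ g * v := by
    linear_combination v * h - l * hv
  rw [this]
  exact Ideal.mul_mem_right _ _ (Ideal.mem_map_of_mem ψ.toRingHom hg)

include hψ in
/-- elements of `𝔪 L`: up to a monic denominator they come from `𝔪 R[s]` -/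
lemma exists_of_mem_map_max (z : L)
    (hz : z ∈ (IsLocalRing.maximalIdeal R).map (algebraMap R L)) :
    ∃ (P w : R[X]), P.Monic ∧ w ∈ (IsLocalRing.maximalIdeal R).map (algebraMap R R[X]) ∧
      z * ψ P = ψ w := by
  rw [Ideal.map] at hz
  induction hz using Submodule.span_induction with
  | mem x hx =>
    obtain ⟨a, ha, rfl⟩ := hx
    refine ⟨1, algebraMap R R[X] a, monic_one, Ideal.mem_map_of_mem _ ha, ?_⟩
    rw [map_one, mul_one]
    exact (ψ.commutes a).symm
  | zero => exact ⟨1, 0, monic_one, Ideal.zero_mem _, by simp⟩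
  | add x y _ _ hx hy =>
    obtain ⟨P₁, i₁, hP₁, hi₁, h₁⟩ := hx
    obtain ⟨P₂, i₂, hP₂, hi₂, h₂⟩ := hy
    refine ⟨P₁ * P₂, i₁ * P₂ + i₂ * P₁, hP₁.mul hP₂,
      Ideal.add_mem _ (Ideal.mul_mem_right _ _ hi₁) (Ideal.mul_mem_right _ _ hi₂), ?_⟩
    simp only [map_add, map_mul]
    linear_combination (ψ P₂) * h₁ + (ψ P₁) * h₂
  | smul l x _ hx =>
    obtain ⟨P, i, hP, hi, h⟩ := hx
    obtain ⟨g, Q, hQ, hl⟩ := exists_psi_repr ψ hψ l
    refine ⟨Q * P, g * i, hQ.mul hP, Ideal.mul_mem_left _ _ hi, ?_⟩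
    simp only [map_mul, smul_eq_mul]
    linear_combination (x * ψ P) * hl + (ψ g) * h

end Main

section Hens

variable {R : Type u} [CommRing R] [HenselianLocalRing R] {L : Type u} [CommRing L]
  [Algebra R[X] L]
  [IsLocalization (Submonoid.closure ({f : R[X] | f.coeff 0 = 1} ∪ {X})) L]
  [Algebra R L] [IsScalarTower R R[X] L]
  (ψ : R[X] →ₐ[R] L) (hψ : ψ X * algebraMap R[X] L X = 1)

include hψ in
lemma comap_sup_eq_top (J : Ideal L)
    (hJ : J ⊔ (IsLocalRing.maximalIdeal R).map (algebraMap R L) = ⊤) :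
    J.comap ψ.toRingHom ⊔ (IsLocalRing.maximalIdeal R).map (algebraMap R R[X]) = ⊤ := by
  have h1 : (1 : L) ∈ J ⊔ (IsLocalRing.maximalIdeal R).map (algebraMap R L) := by
    rw [hJ]; trivial
  obtain ⟨j, hj, z, hz, hjz⟩ := Submodule.mem_sup.1 h1
  obtain ⟨P, w, hP, hw, hzP⟩ := exists_of_mem_map_max ψ hψ z hz
  set F : R[X] := P - w with hF
  have hFJ : F ∈ J.comap ψ.toRingHom := by
    rw [Ideal.mem_comap]
    change ψ F ∈ J
    have : ψ F = j * ψ P := by
      rw [hF, map_sub]
      linear_combination hzP - (ψ P) * hjz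
    rw [this]
    exact J.mul_mem_right _ hj
  have hw0 : w.map (IsLocalRing.residue R) = 0 := by
    ext n
    rw [coeff_map, coeff_zero]
    have := (Ideal.mem_map_C_iff (I := IsLocalRing.maximalIdeal R)).1 hw n
    exact (IsLocalRing.residue_eq_zero_iff _).2 this
  have hFmap : F.map (IsLocalRing.residue R) = P.map (IsLocalRing.residue R) * 1 := by
    rw [hF, Polynomial.map_sub, hw0, sub_zero, mul_one]
  obtain ⟨G, H, hFGH, hG, -, hH⟩ :=
    Groth.Agent.Lib.Helper4.HenselFactor.factor_lift R F (P.map (IsLocalRing.residue R)) 1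
      (hP.map _) isCoprime_one_right hFmap
  have hHJ : H ∈ J.comap ψ.toRingHom := by
    rw [Ideal.mem_comap]
    change ψ H ∈ J
    obtain ⟨v, hv⟩ := (isUnit_psi_of_monic ψ hψ G hG).exists_left_inv
    have hGH : ψ G * ψ H ∈ J := by
      rw [← map_mul, ← hFGH]
      exact hFJ
    have : ψ H = v * (ψ G * ψ H) := by
      linear_combination (-(ψ H)) * hv
    rw [this]
    exact J.mul_mem_left _ hGH
  have hH1 : H - 1 ∈ (IsLocalRing.maximalIdeal R).map (algebraMap R R[X]) := by
    apply (Ideal.mem_map_C_iff (I := IsLocalRing.maximalIdeal R)).2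
    intro n
    have : ((H - 1).map (IsLocalRing.residue R)).coeff n = 0 := by
      rw [Polynomial.map_sub, hH, Polynomial.map_one, sub_self, coeff_zero]
    rw [coeff_map] at this
    exact (IsLocalRing.residue_eq_zero_iff _).1 this
  rw [Ideal.eq_top_iff_one]
  have : (1 : R[X]) = H - (H - 1) := by ring
  rw [this]
  exact Ideal.sub_mem _ (Ideal.mem_sup_left hHJ) (Ideal.mem_sup_right hH1)

end Hens

end Groth.Agent.Lib.Helper11.ZLaur
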