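import Mathlib
import Groth.Agent.Lib.Helper11.WPrep6
import Groth.Agent.Lib.Helper11.ZLaur2

/-!
# The henselian Laurent ring `B[1/t]`, `B` the henselization of `R[t]` along `(t)`:
basic lemmas and the retraction `B[1/t] → R[s] ⧸ I` (helper11)
-/

set_option autoImplicit false
set_option linter.unusedSectionVars false
set_option linter.style.haveILetI false
universe u
open Polynomial TensorProduct

namespace Groth.Agent.Lib.Helper11.WPrep

open Groth.Agent.Lib.Helper12 Groth.Agent.Lib.Helper4 Groth.Agent.Lib.Helper11.ZLaur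

section HL

variable {R : Type u} [CommRing R] {B : Type u} [CommRing B] [Algebra R B]
  [Algebra R[X] B] [IsScalarTower R R[X] B]
  (hB : Hens2.IsPairHenselization R[X] (Ideal.span {(X : R[X])}) B)
  (ψ : R[X] →ₐ[R] Localization.Away (algebraMap R[X] B X))
  (hψ : ψ X * algebraMap B (Localization.Away (algebraMap R[X] B X)) (algebraMap R[X] B X) = 1)

local notation "L" => Localization.Away (algebraMap R[X] B X)

include hψ in
lemma hψ' : ψ X * algebraMap R[X] L X = 1 := by
  rw [IsScalarTower.algebraMap_apply R[X] B L]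
  exact hψ

include hB hψ in
/-- monic polynomials in `s = t⁻¹` become units of `B[1/t]` -/
lemma isUnit_psi_of_monic' (P : R[X]) (hP : P.Monic) : IsUnit (ψ P) := by
  rw [← algebraMap_reflect_mul ψ (hψ' ψ hψ) P.natDegree P le_rfl]
  refine IsUnit.mul ?_ ((isUnit_psi_X ψ (hψ' ψ hψ)).pow _)
  rw [IsScalarTower.algebraMap_apply R[X] B L]
  apply IsUnit.map
  obtain ⟨ev, h1, h2, h3⟩ := exists_ev hB
  apply isUnit_of_isUnit_ev hB ev h2 h3
  rw [h1, ← coeff_zero_eq_eval_zero, coeff_reflect, revAt_zero]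
  have : P.coeff P.natDegree = 1 := hP
  rw [this]
  exact isUnit_one

include hψ in
lemma exists_repr (l : L) : ∃ (b : B) (k : ℕ), l = algebraMap B L b * (ψ X) ^ k := by
  obtain ⟨b, ⟨_, k, rfl⟩, rfl⟩ := IsLocalization.exists_mk'_eq
    (Submonoid.powers (algebraMap R[X] B X)) l
  refine ⟨b, k, ?_⟩
  have h1 := IsLocalization.mk'_spec L b
    (⟨(algebraMap R[X] B X) ^ k, k, rfl⟩ : Submonoid.powers (algebraMap R[X] B X))
  set l := IsLocalization.mk' L b
    (⟨(algebraMap R[X] B X) ^ k, k, rfl⟩ : Submonoid.powers (algebraMap R[X] B X)) with hl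
  have h2 : (algebraMap B L (algebraMap R[X] B X)) ^ k * (ψ X) ^ k = 1 := by
    rw [← mul_pow, mul_comm, hψ, one_pow]
  simp only [map_pow] at h1
  rw [← h1]
  linear_combination (-l) * h2

include hψ in
/-- clearing denominators in `J L` -/
lemma exists_of_mem_map_L (J : Ideal R) (y : L) (hy : y ∈ J.map (algebraMap R L)) :
    ∃ K₀ : ℕ, ∀ K, K₀ ≤ K → ∃ b ∈ J.map (algebraMap R B),
      y * (algebraMap B L (algebraMap R[X] B X)) ^ K = algebraMap B L b := by
  rw [Ideal.map] at hy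
  induction hy using Submodule.span_induction with
  | mem x hx =>
    obtain ⟨r, hr, rfl⟩ := hx
    refine ⟨0, fun K _ => ⟨algebraMap R B r * (algebraMap R[X] B X) ^ K,
      Ideal.mul_mem_right _ _ (Ideal.mem_map_of_mem _ hr), ?_⟩⟩
    rw [map_mul, map_pow, ← IsScalarTower.algebraMap_apply R B L]
  | zero =>
    exact ⟨0, fun K _ => ⟨0, Ideal.zero_mem _, by rw [zero_mul, map_zero]⟩⟩
  | add x y _ _ hx hy =>
    obtain ⟨K₁, h₁⟩ := hx
    obtain ⟨K₂, h₂⟩ := hy
    refine ⟨max K₁ K₂, fun K hK => ?_⟩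
    obtain ⟨b₁, hb₁, e₁⟩ := h₁ K ((le_max_left _ _).trans hK)
    obtain ⟨b₂, hb₂, e₂⟩ := h₂ K ((le_max_right _ _).trans hK)
    exact ⟨b₁ + b₂, Ideal.add_mem _ hb₁ hb₂, by rw [add_mul, e₁, e₂, map_add]⟩
  | smul l x _ hx =>
    obtain ⟨K₁, h₁⟩ := hx
    obtain ⟨bl, k, hl⟩ := exists_repr ψ hψ l
    refine ⟨K₁ + k, fun K hK => ?_⟩
    obtain ⟨b, hb, e⟩ := h₁ (K - k) (by omega)
    refine ⟨bl * b, Ideal.mul_mem_left _ _ hb, ?_⟩
    have h2 : (algebraMap B L (algebraMap R[X] B X)) ^ k * (ψ X) ^ k = 1 := by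
      rw [← mul_pow, mul_comm, hψ, one_pow]
    have h3 : (algebraMap B L (algebraMap R[X] B X)) ^ K =
        (algebraMap B L (algebraMap R[X] B X)) ^ (K - k) *
          (algebraMap B L (algebraMap R[X] B X)) ^ k := by
      rw [← pow_add]
      congr 1
      omega
    rw [smul_eq_mul, hl, h3, map_mul, ← e]
    linear_combination (algebraMap B L bl * x *
      (algebraMap B L (algebraMap R[X] B X)) ^ (K - k)) * h2

end HL

end Groth.Agent.Lib.Helper11.WPrep
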