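import Mathlib
import Groth.Agent.Lib.Helper11.WPrepL1

/-!
# The retraction `B[1/t] → R[s] ⧸ I` for an ideal `I` avoiding the special fibre (helper11)
-/

set_option autoImplicit false
set_option linter.unusedSectionVars false
set_option linter.style.haveILetI false
universe u
open Polynomial TensorProduct

namespace Groth.Agent.Lib.Helper11.WPrep

open Groth.Agent.Lib.Helper12 Groth.Agent.Lib.Helper4 Groth.Agent.Lib.Helper11.ZLaur

section Norm

variable {R : Type u} [CommRing R] [IsLocalRing R]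

/-- an element `F ∈ I` with `F(0) = 1` and higher coefficients in `𝔪` -/
lemma exists_normalized (I : Ideal R[X])
    (hI : I ⊔ (IsLocalRing.maximalIdeal R).map (algebraMap R R[X]) = ⊤) :
    ∃ F ∈ I, F.coeff 0 = 1 ∧ ∀ k, 1 ≤ k → F.coeff k ∈ IsLocalRing.maximalIdeal R := by
  have h1 : (1 : R[X]) ∈ I ⊔ (IsLocalRing.maximalIdeal R).map (algebraMap R R[X]) := by
    rw [hI]; trivial
  obtain ⟨i, hi, z, hz, hiz⟩ := Submodule.mem_sup.1 h1
  have hzc : ∀ k, z.coeff k ∈ IsLocalRing.maximalIdeal R := fun k =>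
    (Ideal.mem_map_C_iff (I := IsLocalRing.maximalIdeal R)).1 hz k
  have hi0 : i.coeff 0 = 1 - z.coeff 0 := by
    have := congrArg (fun p => p.coeff 0) hiz
    simp only [coeff_add, coeff_one_zero] at this
    linear_combination this
  have hu : IsUnit (i.coeff 0) := by
    rw [hi0]
    exact IsLocalRing.isUnit_one_sub_self_of_mem_nonunits _ (hzc 0)
  obtain ⟨v, hv⟩ := hu.exists_left_inv
  refine ⟨C v * i, I.mul_mem_left _ hi, ?_, ?_⟩
  · rw [coeff_C_mul, hv]
  · intro k hk
    rw [coeff_C_mul]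
    have : i.coeff k = - z.coeff k := by
      have := congrArg (fun p => p.coeff k) hiz
      simp only [coeff_add, coeff_one] at this
      rw [if_neg (by omega)] at this
      linear_combination this
    rw [this]
    exact Ideal.mul_mem_left _ _ (neg_mem (hzc k))

lemma weier_of_normalized (F : R[X]) (h0 : F.coeff 0 = 1)
    (hk : ∀ k, 1 ≤ k → F.coeff k ∈ IsLocalRing.maximalIdeal R) :
    (reflect F.natDegree F).Monic ∧ (reflect F.natDegree F).natDegree ≤ F.natDegree ∧
      ∀ i, i < (reflect F.natDegree F).natDegree →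
        (reflect F.natDegree F).coeff i ∈ IsLocalRing.maximalIdeal R := by
  have hdeg : (reflect F.natDegree F).natDegree ≤ F.natDegree := by
    refine natDegree_reflect_le.trans ?_
    simp
  refine ⟨?_, hdeg, ?_⟩
  · apply Polynomial.monic_of_natDegree_le_of_coeff_eq_one F.natDegree hdeg
    rw [coeff_reflect, revAt_le le_rfl, Nat.sub_self, h0]
  · intro i hi
    have hi' : i < F.natDegree := lt_of_lt_of_le hi hdeg
    rw [coeff_reflect, revAt_le hi'.le]
    exact hk _ (by omega)

end Norm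

section Retr

variable {R : Type u} [CommRing R] [HenselianLocalRing R] {B : Type u} [CommRing B] [Algebra R B]
  [Algebra R[X] B] [IsScalarTower R R[X] B]
  (hB : Hens2.IsPairHenselization R[X] (Ideal.span {(X : R[X])}) B)
  (ψ : R[X] →ₐ[R] Localization.Away (algebraMap R[X] B X))
  (hψ : ψ X * algebraMap B (Localization.Away (algebraMap R[X] B X)) (algebraMap R[X] B X) = 1)

local notation "L" => Localization.Away (algebraMap R[X] B X)

include hB hψ in
theorem exists_retraction (I : Ideal R[X])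
    (hI : I ⊔ (IsLocalRing.maximalIdeal R).map (algebraMap R R[X]) = ⊤) :
    ∃ ρ : L →+* R[X] ⧸ I, (∀ g, ρ (ψ g) = Ideal.Quotient.mk I g) ∧
      ∀ l, Ideal.quotientMap (I.map ψ.toRingHom) ψ.toRingHom Ideal.le_comap_map (ρ l) =
        Ideal.Quotient.mk _ l := by
  classical
  obtain ⟨F, hFI, hF0, hFk⟩ := exists_normalized I hI
  obtain ⟨hWm, hWdeg, hWc⟩ := weier_of_normalized F hF0 hFk
  set n := F.natDegree with hn
  set W := reflect n F with hW
  have hbij := weierstrass_quotient_bijective hB W hWm hWc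
  -- `X` is a unit modulo `I`
  have h1 : (1 : R[X]) ∈ I ⊔ Ideal.span {(X : R[X])} := by
    rw [sup_span_monic_eq_top I hI X monic_X]; trivial
  obtain ⟨i, hi, w, hw, hiw⟩ := Submodule.mem_sup.1 h1
  obtain ⟨c, rfl⟩ := Ideal.mem_span_singleton'.1 hw
  set xbar : R[X] ⧸ I := Ideal.Quotient.mk I X with hxbar
  set y : R[X] ⧸ I := Ideal.Quotient.mk I c with hy
  have hyx : y * xbar = 1 := by
    rw [hy, hxbar, ← map_mul, ← map_one (Ideal.Quotient.mk I), eq_comm, Ideal.Quotient.eq]
    have : (1 : R[X]) - c * X = i := by linear_combination -hiw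
    rw [this]
    exact hi
  have hxy : xbar * y = 1 := by rw [mul_comm]; exact hyx
  let evy : R[X] →+* R[X] ⧸ I := Polynomial.eval₂RingHom (algebraMap R (R[X] ⧸ I)) y
  have hevyC : ∀ r : R, evy (C r) = algebraMap R (R[X] ⧸ I) r := fun r => eval₂_C _ _
  have hevyX : evy X = y := eval₂_X _ _
  have hmkF : eval₂ (algebraMap R (R[X] ⧸ I)) xbar F = Ideal.Quotient.mk I F := by
    have := Polynomial.hom_eval₂ F (C : R →+* R[X]) (Ideal.Quotient.mk I) X
    rw [eval₂_C_X] at this
    rw [this]
    rfl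
  have hevyW : evy W = 0 := by
    letI : Invertible xbar := ⟨y, hyx, hxy⟩
    have h2 := eval₂_reflect_mul_pow (algebraMap R (R[X] ⧸ I)) xbar n F le_rfl
    rw [hmkF, Ideal.Quotient.eq_zero_iff_mem.2 hFI] at h2
    have h3 : evy W * xbar ^ n = 0 := h2
    have h4 : xbar ^ n * y ^ n = 1 := by rw [← mul_pow, hxy, one_pow]
    calc evy W = evy W * (xbar ^ n * y ^ n) := by rw [h4, mul_one]
      _ = (evy W * xbar ^ n) * y ^ n := by ring
      _ = 0 := by rw [h3, zero_mul]
  let evybar : R[X] ⧸ Ideal.span {W} →+* R[X] ⧸ I :=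
    Ideal.Quotient.lift (Ideal.span {W}) evy (by
      intro a ha
      obtain ⟨d, rfl⟩ := Ideal.mem_span_singleton'.1 ha
      rw [map_mul, hevyW, mul_zero])
  let e : R[X] ⧸ Ideal.span {W} ≃+* B ⧸ (Ideal.span {W}).map (algebraMap R[X] B) :=
    RingEquiv.ofBijective _ hbij
  let ρB : B →+* R[X] ⧸ I :=
    evybar.comp (e.symm.toRingHom.comp
      (Ideal.Quotient.mk ((Ideal.span {W}).map (algebraMap R[X] B))))
  have hρB : ∀ a : R[X], ρB (algebraMap R[X] B a) = evy a := by
    intro a
    change evybar (e.symm (Ideal.Quotient.mk _ (algebraMap R[X] B a))) = evy a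
    have : e.symm (Ideal.Quotient.mk _ (algebraMap R[X] B a)) = Ideal.Quotient.mk _ a := by
      rw [RingEquiv.symm_apply_eq]
      rfl
    rw [this]
    rfl
  have hρBW : ∀ w ∈ (Ideal.span {W}).map (algebraMap R[X] B), ρB w = 0 := by
    intro w hw
    change evybar (e.symm (Ideal.Quotient.mk _ w)) = 0
    rw [Ideal.Quotient.eq_zero_iff_mem.2 hw, map_zero, map_zero]
  have hρBt : IsUnit (ρB (algebraMap R[X] B X)) := by
    rw [hρB, hevyX]
    exact IsUnit.of_mul_eq_one _ hyx
  let ρ : L →+* R[X] ⧸ I := IsLocalization.Away.lift (algebraMap R[X] B X) hρBt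
  have hρι : ∀ b : B, ρ (algebraMap B L b) = ρB b := fun b => IsLocalization.Away.lift_eq _ _ _
  have hψC : ∀ r : R, ψ (C r) = algebraMap B L (algebraMap R[X] B (C r)) := by
    intro r
    rw [← IsScalarTower.algebraMap_apply R[X] B L, ← Polynomial.algebraMap_eq,
      ← IsScalarTower.algebraMap_apply R R[X] L]
    exact ψ.commutes r
  have hρψX : ρ (ψ X) = xbar := by
    have h2 := congrArg ρ hψ
    rw [map_mul, hρι, hρB, hevyX, map_one] at h2
    calc ρ (ψ X) = ρ (ψ X) * (y * xbar) := by rw [hyx, mul_one]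
      _ = (ρ (ψ X) * y) * xbar := by ring
      _ = xbar := by rw [h2, one_mul]
  have hρψ : ρ.comp ψ.toRingHom = Ideal.Quotient.mk I := by
    apply Polynomial.ringHom_ext
    · intro r
      change ρ (ψ (C r)) = Ideal.Quotient.mk I (C r)
      rw [hψC, hρι, hρB, hevyC]
      rfl
    · exact hρψX
  refine ⟨ρ, fun g => congrArg (fun f => f g) hρψ, ?_⟩
  -- the second claim
  set Ψ := Ideal.quotientMap (I.map ψ.toRingHom) ψ.toRingHom Ideal.le_comap_map with hΨ
  have hΨmk : ∀ g, Ψ (Ideal.Quotient.mk I g) = Ideal.Quotient.mk _ (ψ g) := fun g => rfl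
  have hWL : algebraMap R[X] L W ∈ I.map ψ.toRingHom := by
    have h2 := psi_reflect_mul ψ (hψ' ψ hψ) n W hWdeg
    rw [hW, reflect_reflect] at h2
    rw [hW, ← h2]
    exact Ideal.mul_mem_right _ _ (Ideal.mem_map_of_mem ψ.toRingHom hFI)
  have hpoly : Ψ.comp evy = (Ideal.Quotient.mk (I.map ψ.toRingHom)).comp (algebraMap R[X] L) := by
    apply Polynomial.ringHom_ext
    · intro r
      change Ψ (evy (C r)) = Ideal.Quotient.mk _ (algebraMap R[X] L (C r))
      rw [hevyC]
      have : algebraMap R (R[X] ⧸ I) r = Ideal.Quotient.mk I (C r) := rfl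
      rw [this, hΨmk, hψC, ← IsScalarTower.algebraMap_apply R[X] B L]
    · change Ψ (evy X) = Ideal.Quotient.mk _ (algebraMap R[X] L X)
      rw [hevyX]
      have h2 : Ψ y * Ψ xbar = 1 := by rw [← map_mul, hyx, map_one]
      have h3 : Ψ xbar * Ideal.Quotient.mk (I.map ψ.toRingHom) (algebraMap R[X] L X) = 1 := by
        rw [hxbar, hΨmk, ← map_mul, hψ' ψ hψ, map_one]
      calc Ψ y = Ψ y * (Ψ xbar * Ideal.Quotient.mk (I.map ψ.toRingHom) (algebraMap R[X] L X)) := by
            rw [h3, mul_one]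
        _ = (Ψ y * Ψ xbar) * Ideal.Quotient.mk (I.map ψ.toRingHom) (algebraMap R[X] L X) := by
            ring
        _ = _ := by rw [h2, one_mul]
  have hmain : Ψ.comp ρ = Ideal.Quotient.mk (I.map ψ.toRingHom) := by
    apply IsLocalization.ringHom_ext (Submonoid.powers (algebraMap R[X] B X))
    refine RingHom.ext fun b => ?_
    change Ψ (ρ (algebraMap B L b)) = Ideal.Quotient.mk _ (algebraMap B L b)
    obtain ⟨x, hx⟩ := hbij.2 (Ideal.Quotient.mk _ b)
    obtain ⟨a, rfl⟩ := Ideal.Quotient.mk_surjective x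
    rw [Ideal.quotientMap_mk, Ideal.Quotient.eq] at hx
    obtain ⟨w, hw⟩ : ∃ w, w = algebraMap R[X] B a - b := ⟨_, rfl⟩
    rw [← hw] at hx
    have hb : b = algebraMap R[X] B a - w := by rw [hw]; ring
    have hwL : algebraMap B L w ∈ I.map ψ.toRingHom := by
      have h2 : w ∈ Ideal.span {algebraMap R[X] B W} := by
        rwa [Ideal.map_span, Set.image_singleton] at hx
      obtain ⟨d, hd⟩ := Ideal.mem_span_singleton'.1 h2
      rw [← hd, map_mul, ← IsScalarTower.algebraMap_apply R[X] B L]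
      exact Ideal.mul_mem_left _ _ hWL
    rw [hρι, hb, map_sub, map_sub, map_sub, map_sub, hρB, hρBW w hx, map_zero, sub_zero,
      Ideal.Quotient.eq_zero_iff_mem.2 hwL, sub_zero,
      ← IsScalarTower.algebraMap_apply R[X] B L]
    exact congrArg (fun f => f a) hpoly
  exact fun l => congrArg (fun f => f l) hmain

end Retr

end Groth.Agent.Lib.Helper11.WPrep
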