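import Mathlib
import Groth.Agent.Lib.Helper11.WPrepL2

/-!
# Ideals of `R[s]` avoiding the special fibre vs. ideals of the henselian Laurent ring (helper11)
-/

set_option autoImplicit false
set_option linter.unusedSectionVars false
set_option linter.style.haveILetI false
universe u
open Polynomial TensorProduct

namespace Groth.Agent.Lib.Helper11.WPrep

open Groth.Agent.Lib.Helper12 Groth.Agent.Lib.Helper4 Groth.Agent.Lib.Helper11.ZLaur

section Main

variable {R : Type u} [CommRing R] [HenselianLocalRing R] {B : Type u} [CommRing B] [Algebra R B]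
  [Algebra R[X] B] [IsScalarTower R R[X] B]
  (hB : Hens2.IsPairHenselization R[X] (Ideal.span {(X : R[X])}) B)
  (ψ : R[X] →ₐ[R] Localization.Away (algebraMap R[X] B X))
  (hψ : ψ X * algebraMap B (Localization.Away (algebraMap R[X] B X)) (algebraMap R[X] B X) = 1)

local notation "L" => Localization.Away (algebraMap R[X] B X)

include hB hψ in
theorem comap_map_eq' (I : Ideal R[X])
    (hI : I ⊔ (IsLocalRing.maximalIdeal R).map (algebraMap R R[X]) = ⊤) :
    (I.map ψ.toRingHom).comap ψ.toRingHom = I := by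
  refine le_antisymm ?_ Ideal.le_comap_map
  obtain ⟨ρ, hρ, -⟩ := exists_retraction hB ψ hψ I hI
  have hzero : ∀ y ∈ I.map ψ.toRingHom, ρ y = 0 := by
    intro y hy
    have h1 : I.map ψ.toRingHom ≤ RingHom.ker ρ := by
      rw [Ideal.map_le_iff_le_comap]
      intro i hi
      rw [Ideal.mem_comap, RingHom.mem_ker]
      change ρ (ψ i) = 0
      rw [hρ]
      exact Ideal.Quotient.eq_zero_iff_mem.2 hi
    exact h1 hy
  intro g hg
  rw [Ideal.mem_comap] at hg
  have := hzero _ hg
  change ρ (ψ g) = 0 at this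
  rw [hρ] at this
  exact Ideal.Quotient.eq_zero_iff_mem.1 this

theorem map_sup_eq_top' (I : Ideal R[X])
    (hI : I ⊔ (IsLocalRing.maximalIdeal R).map (algebraMap R R[X]) = ⊤) :
    I.map ψ.toRingHom ⊔ (IsLocalRing.maximalIdeal R).map (algebraMap R L) = ⊤ := by
  have h := congrArg (Ideal.map ψ.toRingHom) hI
  rw [Ideal.map_sup, Ideal.map_map, Ideal.map_top] at h
  have hcomp : ψ.toRingHom.comp (algebraMap R R[X]) = algebraMap R L := by
    ext r
    exact ψ.commutes r
  rw [hcomp] at h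
  exact h

include hB hψ in
theorem quotientMap_bijective' (I : Ideal R[X])
    (hI : I ⊔ (IsLocalRing.maximalIdeal R).map (algebraMap R R[X]) = ⊤) :
    Function.Bijective
      (Ideal.quotientMap (I.map ψ.toRingHom) ψ.toRingHom Ideal.le_comap_map) := by
  constructor
  · exact Ideal.quotientMap_injective' (comap_map_eq' hB ψ hψ I hI).le
  · intro y
    obtain ⟨l, rfl⟩ := Ideal.Quotient.mk_surjective y
    obtain ⟨ρ, -, hρ2⟩ := exists_retraction hB ψ hψ I hI
    exact ⟨ρ l, hρ2 l⟩

include hB hψ in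
theorem comap_sup_eq_top' (J : Ideal L)
    (hJ : J ⊔ (IsLocalRing.maximalIdeal R).map (algebraMap R L) = ⊤) :
    J.comap ψ.toRingHom ⊔ (IsLocalRing.maximalIdeal R).map (algebraMap R R[X]) = ⊤ := by
  have h1 : (1 : L) ∈ J ⊔ (IsLocalRing.maximalIdeal R).map (algebraMap R L) := by
    rw [hJ]; trivial
  obtain ⟨j, hj, y, hy, hjy⟩ := Submodule.mem_sup.1 h1
  obtain ⟨K₀, hK₀⟩ := exists_of_mem_map_L ψ hψ (IsLocalRing.maximalIdeal R) y hy
  obtain ⟨b, hb, hyb⟩ := hK₀ K₀ le_rfl
  set τ : L := algebraMap B L (algebraMap R[X] B X) with hτ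
  -- `β = t ^ K₀ - b`
  set β : B := (algebraMap R[X] B X) ^ K₀ - b with hβ
  have hβL : algebraMap B L β ∈ J := by
    have : algebraMap B L β = j * τ ^ K₀ := by
      rw [hβ, map_sub, map_pow, ← hyb]
      linear_combination (-(τ ^ K₀)) * hjy
    rw [this]
    exact J.mul_mem_right _ hj
  have hβc : β - (algebraMap R[X] B X) ^ K₀ ∈
      (IsLocalRing.maximalIdeal R).map (algebraMap R B) := by
    have : β - (algebraMap R[X] B X) ^ K₀ = -b := by rw [hβ]; ring
    rw [this]
    exact neg_mem hb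
  obtain ⟨W, u, hWm, hWdeg, hWc, hβW⟩ := exists_weierstrass_of_congr hB β K₀ hβc
  have hWJ : algebraMap R[X] L W ∈ J := by
    have h2 : algebraMap B L (algebraMap R[X] B W) =
        algebraMap B L β * algebraMap B L ((u⁻¹ : Bˣ) : B) := by
      rw [hβW, ← map_mul, mul_assoc, Units.mul_inv, mul_one]
    rw [IsScalarTower.algebraMap_apply R[X] B L, h2]
    exact J.mul_mem_right _ hβL
  set F := reflect K₀ W with hF
  have hFJ : F ∈ J.comap ψ.toRingHom := by
    rw [Ideal.mem_comap]
    change ψ F ∈ J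
    have h2 := psi_reflect_mul ψ (hψ' ψ hψ) K₀ W hWdeg.le
    have h3 : (algebraMap R[X] L X) ^ K₀ * (ψ X) ^ K₀ = 1 := pow_mul_pow ψ (hψ' ψ hψ) K₀
    have h4 : ψ F = algebraMap R[X] L W * (ψ X) ^ K₀ := by
      rw [← h2, hF]
      linear_combination (-(ψ (reflect K₀ W))) * h3
    rw [h4]
    exact J.mul_mem_right _ hWJ
  have hF1 : F - 1 ∈ (IsLocalRing.maximalIdeal R).map (algebraMap R R[X]) := by
    apply (Ideal.mem_map_C_iff (I := IsLocalRing.maximalIdeal R)).2
    intro k
    rw [coeff_sub, hF, coeff_reflect, coeff_one]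
    by_cases hk0 : k = 0
    · subst hk0
      rw [revAt_zero, if_pos rfl, ← hWdeg, hWm.coeff_natDegree, sub_self]
      exact Ideal.zero_mem _
    · rw [if_neg hk0, sub_zero]
      by_cases hk : k ≤ K₀
      · rw [revAt_le hk]
        exact hWc _ (by omega)
      · rw [revAt_eq_self_of_lt (not_le.1 hk),
          coeff_eq_zero_of_natDegree_lt (by rw [hWdeg]; exact not_le.1 hk)]
        exact Ideal.zero_mem _
  rw [Ideal.eq_top_iff_one]
  have : (1 : R[X]) = F - (F - 1) := by ring
  rw [this]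
  exact Ideal.sub_mem _ (Ideal.mem_sup_left hFJ) (Ideal.mem_sup_right hF1)

include hB hψ in
theorem map_comap_eq' (J : Ideal L)
    (hJ : J ⊔ (IsLocalRing.maximalIdeal R).map (algebraMap R L) = ⊤) :
    (J.comap ψ.toRingHom).map ψ.toRingHom = J := by
  refine le_antisymm Ideal.map_comap_le ?_
  set I := J.comap ψ.toRingHom with hIdef
  have hI := comap_sup_eq_top' hB ψ hψ J hJ
  intro l hl
  obtain ⟨x, hx⟩ := (quotientMap_bijective' hB ψ hψ I hI).2 (Ideal.Quotient.mk _ l)
  obtain ⟨g, rfl⟩ := Ideal.Quotient.mk_surjective x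
  rw [Ideal.quotientMap_mk, Ideal.Quotient.eq] at hx
  have hxJ : ψ.toRingHom g - l ∈ J := (Ideal.map_comap_le (f := ψ.toRingHom) (K := J)) hx
  have hgJ : ψ.toRingHom g ∈ J := by
    have : ψ.toRingHom g = (ψ.toRingHom g - l) + l := by ring
    rw [this]
    exact J.add_mem hxJ hl
  have hgI : g ∈ I := hgJ
  have : l = ψ.toRingHom g - (ψ.toRingHom g - l) := by ring
  rw [this]
  exact Ideal.sub_mem _ (Ideal.mem_map_of_mem _ hgI) hx

end Main

end Groth.Agent.Lib.Helper11.WPrep
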