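import Mathlib
import Groth.Prelude.Def_GrSyz
import Groth.Prelude.Def_GrLC
import Groth.Agent.Lib.Helper11.GrLCDecomp
import Groth.Agent.Lib.Helper16.Liaison2

/-!
# Linear actions of a group on a polynomial ring: degrees, the invariant subalgebra and its grading
-/

set_option autoImplicit false
set_option linter.unusedSectionVars false
set_option linter.unusedVariables false
set_option linter.style.haveILetI false
universe u

namespace Groth.Agent.Lib.Helper11.Wat

open MvPolynomial DirectSum

/-- A group acting on the polynomial ring by graded `k`-algebra automorphisms. -/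
class LinAct (k : Type u) [Field k] (n : ℕ) (G : Type u) [Group G]
    [MulSemiringAction G (MvPolynomial (Fin n) k)] : Prop where
  smul_C : ∀ (g : G) (c : k), g • (C c : MvPolynomial (Fin n) k) = C c
  smul_X_mem : ∀ (g : G) (i : Fin n),
    g • (X i : MvPolynomial (Fin n) k) ∈ GrSyz.stdGr k (Fin n) 1

variable (k : Type u) [Field k] (n : ℕ) (G : Type u) [Group G]
  [MulSemiringAction G (MvPolynomial (Fin n) k)] [hL : LinAct k n G]

local notation "S" => MvPolynomial (Fin n) k
local notation "𝒮" => GrSyz.stdGr k (Fin n)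

variable {k n G}

theorem smul_monomial_mem (g : G) (m : Fin n →₀ ℕ) (c : k) :
    g • (monomial m c : S) ∈ 𝒮 (Finsupp.weight (fun _ : Fin n => (1 : ℤ)) m) := by
  have h1 : (monomial m c : S) = C c * ∏ i, (X i : S) ^ (m i) := by
    rw [monomial_eq, Finsupp.prod_fintype]
    intro i
    exact pow_zero _
  have h2 : g • (monomial m c : S) = C c * ∏ i, (g • (X i : S)) ^ (m i) := by
    rw [h1, smul_mul', hL.smul_C, Finset.smul_prod']
    congr 1
    refine Finset.prod_congr rfl fun i _ => ?_
    rw [smul_pow']
  rw [h2]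
  have h3 : (∏ i, (g • (X i : S)) ^ (m i)) ∈ 𝒮 (∑ i, m i • (1 : ℤ)) :=
    SetLike.prod_pow_mem_graded 𝒮 (fun _ => (1 : ℤ)) (fun i => g • (X i : S)) (fun i => m i)
      (F := Finset.univ) (fun i _ => hL.smul_X_mem g i)
  have h4 : (C c : S) ∈ 𝒮 0 := isWeightedHomogeneous_C _ c
  have h5 := SetLike.mul_mem_graded h4 h3
  have h6 : Finsupp.weight (fun _ : Fin n => (1 : ℤ)) m = 0 + ∑ i, m i • (1 : ℤ) := by
    rw [zero_add, Finsupp.weight_apply, Finsupp.sum_fintype]
    intro i
    exact zero_smul _ _
  rw [h6]
  exact h5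

theorem smul_mem_stdGr (g : G) {d : ℤ} {p : S} (hp : p ∈ 𝒮 d) : g • p ∈ 𝒮 d := by
  rw [← support_sum_monomial_coeff p, Finset.smul_sum]
  refine Submodule.sum_mem _ fun m hm => ?_
  have h1 := smul_monomial_mem g m (coeff m p)
  have h2 : Finsupp.weight (fun _ : Fin n => (1 : ℤ)) m = d :=
    hp (mem_support_iff.mp hm)
  rwa [h2] at h1

theorem decompose_smul (g : G) (p : S) (d : ℤ) :
    (decompose 𝒮 (g • p) d : S) = g • (decompose 𝒮 p d : S) := by
  induction p using DirectSum.Decomposition.inductionOn 𝒮 with
  | zero => simp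
  | @homogeneous i x =>
    have hx : g • (x : S) ∈ 𝒮 i := smul_mem_stdGr g x.2
    by_cases hdi : d = i
    · subst hdi
      rw [decompose_of_mem_same 𝒮 hx, decompose_of_mem_same 𝒮 x.2]
    · rw [decompose_of_mem_ne 𝒮 hx (Ne.symm hdi), decompose_of_mem_ne 𝒮 x.2 (Ne.symm hdi),
        smul_zero]
  | add x y hx hy =>
    rw [smul_add, decompose_add, DirectSum.add_apply, Submodule.coe_add, hx, hy, decompose_add,
      DirectSum.add_apply, Submodule.coe_add, smul_add]

variable (k n G)

/-- The subalgebra of invariants. -/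
def invSub : Subalgebra k (MvPolynomial (Fin n) k) where
  carrier := {p | ∀ g : G, g • p = p}
  mul_mem' := by
    intro a b ha hb g
    rw [smul_mul', ha g, hb g]
  one_mem' := fun g => smul_one g
  add_mem' := by
    intro a b ha hb g
    rw [smul_add, ha g, hb g]
  zero_mem' := fun g => smul_zero g
  algebraMap_mem' := by
    intro c g
    rw [MvPolynomial.algebraMap_eq]
    exact hL.smul_C g c

variable {k n G}

theorem mem_invSub {p : S} : p ∈ invSub k n G ↔ ∀ g : G, g • p = p := Iff.rfl

theorem smul_coe (g : G) (b : invSub k n G) : g • (b : S) = b := b.2 g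

instance smulCommClass_base : SMulCommClass G k (MvPolynomial (Fin n) k) where
  smul_comm g c p := by
    rw [MvPolynomial.smul_eq_C_mul, smul_mul', hL.smul_C, MvPolynomial.smul_eq_C_mul]

instance smulCommClass_inv : SMulCommClass G (invSub k n G) (MvPolynomial (Fin n) k) where
  smul_comm g b p := by
    change g • ((b : S) * p) = (b : S) * g • p
    rw [smul_mul', smul_coe]

instance isInvariant_inv : Algebra.IsInvariant (invSub k n G) (MvPolynomial (Fin n) k) G where
  isInvariant p hp := ⟨⟨p, hp⟩, rfl⟩

instance faithfulSMul_inv : FaithfulSMul (invSub k n G) (MvPolynomial (Fin n) k) :=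
  (faithfulSMul_iff_algebraMap_injective _ _).mpr Subtype.val_injective

variable (k n G)

/-- The grading on the invariants. -/
noncomputable def invGr (d : ℤ) : AddSubgroup (invSub k n G) :=
  ((𝒮 d).toAddSubgroup).comap ((invSub k n G).val.toRingHom : invSub k n G →+* S).toAddMonoidHom

variable {k n G}

theorem mem_invGr {d : ℤ} {b : invSub k n G} : b ∈ invGr k n G d ↔ (b : S) ∈ 𝒮 d := Iff.rfl

variable (k n G)

/-- Component maps on the invariants. -/
noncomputable def invProj (d : ℤ) : invSub k n G →+ invSub k n G where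
  toFun b := ⟨(decompose 𝒮 (b : S) d : S), fun g => by rw [← decompose_smul, smul_coe]⟩
  map_zero' := by
    apply Subtype.ext
    simp
  map_add' x y := by
    apply Subtype.ext
    simp only [Subalgebra.coe_add, decompose_add, DirectSum.add_apply, Submodule.coe_add]

variable {k n G}

theorem coe_invProj (d : ℤ) (b : invSub k n G) :
    ((invProj k n G d b : invSub k n G) : S) = (decompose 𝒮 (b : S) d : S) := rfl

variable (k n G)

theorem invGr_isInternal : DirectSum.IsInternal (invGr k n G) := by
  classical
  refine Groth.Agent.Lib.Helper11.GrLCLib.isInternal_of_proj (invGr k n G) (invProj k n G)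
    ?_ ?_ ?_ ?_
  · intro d b
    exact mem_invGr.mpr (SetLike.coe_mem (decompose 𝒮 (b : S) d))
  · intro d b hb
    apply Subtype.ext
    exact decompose_of_mem_same 𝒮 (mem_invGr.mp hb)
  · intro d d' b hb hne
    apply Subtype.ext
    exact decompose_of_mem_ne 𝒮 (mem_invGr.mp hb) (Ne.symm hne)
  · intro b
    refine ⟨(decompose 𝒮 (b : S)).support, ?_⟩
    apply Subtype.ext
    rw [AddSubmonoidClass.coe_finsetSum]
    exact DirectSum.sum_support_decompose 𝒮 (b : S)

noncomputable instance invDecomposition : DirectSum.Decomposition (invGr k n G) :=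
  (invGr_isInternal k n G).chooseDecomposition

noncomputable instance invGradedRing : GradedRing (invGr k n G) where
  one_mem := by
    rw [mem_invGr]
    exact SetLike.GradedOne.one_mem
  mul_mem := by
    intro i j a b ha hb
    rw [mem_invGr]
    exact SetLike.GradedMul.mul_mem (mem_invGr.mp ha) (mem_invGr.mp hb)

variable {k n G}

theorem coe_decompose_inv (b : invSub k n G) (d : ℤ) :
    ((decompose (invGr k n G) b d : invSub k n G) : S) = (decompose 𝒮 (b : S) d : S) := by
  classical
  have h := Groth.Agent.Lib.Helper11.GrLCLib.decompose_eq_proj (invGr k n G) (invProj k n G)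
    (fun d b hb => Subtype.ext (decompose_of_mem_same 𝒮 (mem_invGr.mp hb)))
    (fun d d' b hb hne => Subtype.ext (decompose_of_mem_ne 𝒮 (mem_invGr.mp hb) (Ne.symm hne))) b d
  rw [h]
  rfl

section Irr

open Groth.Agent.Lib.Helper16.Liaison

theorem coe_decompose_eq (p : S) (d : ℤ) :
    (decompose 𝒮 p d : S) = weightedHomogeneousComponent (fun _ : Fin n => (1 : ℤ)) d p :=
  MvPolynomial.decompose'_apply k (fun _ : Fin n => (1 : ℤ)) p d

theorem weight_one_eq_zero_iff (m : Fin n →₀ ℕ) :
    Finsupp.weight (fun _ : Fin n => (1 : ℤ)) m = 0 ↔ m = 0 := by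
  constructor
  · intro h
    rw [Finsupp.weight_apply, Finsupp.sum] at h
    have h2 : ∀ i ∈ m.support, m i • (1 : ℤ) = 0 := by
      apply (Finset.sum_eq_zero_iff_of_nonneg ?_).mp h
      intro i _
      positivity
    ext i
    by_cases hi : i ∈ m.support
    · have := h2 i hi
      simpa using this
    · simpa using hi
  · rintro rfl
    simp

theorem coe_decompose_zero (p : S) : (decompose 𝒮 p 0 : S) = C (constantCoeff p) := by
  rw [coe_decompose_eq]
  ext m
  rw [coeff_weightedHomogeneousComponent, coeff_C]
  by_cases hm : m = 0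
  · subst hm
    simp [constantCoeff_eq]
  · rw [if_neg (fun h => hm ((weight_one_eq_zero_iff m).mp h)), if_neg (Ne.symm hm)]

theorem constantCoeff_decompose (p : S) (d : ℤ) (hd : d ≠ 0) :
    constantCoeff (decompose 𝒮 p d : S) = 0 := by
  rw [coe_decompose_eq, constantCoeff_eq, coeff_weightedHomogeneousComponent]
  rw [if_neg]
  intro h
  apply hd
  rw [← h]
  simp

theorem irr_isHomogeneous : (irr k n).IsHomogeneous 𝒮 := by
  intro d p hp
  change constantCoeff (decompose 𝒮 p d : S) = 0
  by_cases hd : d = 0
  · subst hd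
    rw [coe_decompose_zero]
    have : constantCoeff p = 0 := hp
    rw [this, map_zero, map_zero]
  · exact constantCoeff_decompose p d hd

variable (k n G)

/-- The maximal ideal of invariants with zero constant term. -/
noncomputable def invIrr : Ideal (invSub k n G) :=
  (irr k n).comap (algebraMap (invSub k n G) (MvPolynomial (Fin n) k))

variable {k n G}

theorem mem_invIrr {b : invSub k n G} : b ∈ invIrr k n G ↔ constantCoeff (b : S) = 0 := Iff.rfl

variable (k n G)

instance invIrr_isMaximal : (invIrr k n G).IsMaximal := by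
  have h : invIrr k n G = RingHom.ker ((constantCoeff : S →+* k).comp
      (algebraMap (invSub k n G) (MvPolynomial (Fin n) k))) := by
    ext b
    rfl
  rw [h]
  refine RingHom.ker_isMaximal_of_surjective _ (fun c => ⟨algebraMap k _ c, ?_⟩)
  change constantCoeff (((algebraMap k (invSub k n G) c : invSub k n G) : S)) = c
  rw [Subalgebra.coe_algebraMap, MvPolynomial.algebraMap_eq, constantCoeff_C]

theorem invIrr_isHomogeneous : (invIrr k n G).IsHomogeneous (invGr k n G) := by
  intro d b hb
  rw [mem_invIrr, coe_decompose_inv]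
  exact irr_isHomogeneous d hb

/-- the *maximal ideal of the invariant ring -/
noncomputable def invIrrH : HomogeneousIdeal (invGr k n G) :=
  ⟨invIrr k n G, invIrr_isHomogeneous k n G⟩

theorem invIrrH_toIdeal : (invIrrH k n G).toIdeal = invIrr k n G := rfl

theorem isStarLocal_invIrrH : GrLC.IsStarLocal (invGr k n G) (invIrrH k n G) := by
  have hne : invIrrH k n G ≠ ⊤ := by
    intro h
    have h1 : (invIrrH k n G).toIdeal = ⊤ := by rw [h]; rfl
    exact (invIrr_isMaximal k n G).ne_top h1
  have hco : IsCoatom (invIrrH k n G) := by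
    refine ⟨hne, fun b hb => ?_⟩
    have h1 : (invIrrH k n G).toIdeal < b.toIdeal := hb
    have h2 : b.toIdeal = ⊤ := (invIrr_isMaximal k n G).1.2 _ h1
    apply HomogeneousIdeal.toIdeal_injective
    exact h2
  refine ⟨hco, fun N hN => ?_⟩
  have hN1 : N.toIdeal ≠ ⊤ := by
    intro h
    apply hN.1
    apply HomogeneousIdeal.toIdeal_injective
    exact h
  have hle : N ≤ invIrrH k n G := by
    intro a ha
    change a ∈ invIrr k n G
    rw [mem_invIrr]
    by_contra hc
    have h0 : (decompose (invGr k n G) a 0 : invSub k n G) ∈ N.toIdeal := N.isHomogeneous 0 ha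
    have h1 : (decompose (invGr k n G) a 0 : invSub k n G) =
        algebraMap k (invSub k n G) (constantCoeff (a : S)) := by
      apply Subtype.ext
      rw [coe_decompose_inv, coe_decompose_zero, Subalgebra.coe_algebraMap,
        MvPolynomial.algebraMap_eq]
    rw [h1] at h0
    exact hN1 (Ideal.eq_top_of_isUnit_mem _ h0 ((IsUnit.mk0 _ hc).map _))
  rcases eq_or_lt_of_le hle with h | h
  · exact h
  · exact absurd (hN.2 _ h) hne

end Irr

end Groth.Agent.Lib.Helper11.Wat
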