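import Groth.Agent.Lib.Helper16.GorArt
import Groth.Agent.Lib.Helper16.GorArtDual

/-!
# Artinian retracts of Artinian Gorenstein local rings

If `A → T` is an injective map of Artinian local rings with an `A`-linear retraction, `T` is
Gorenstein and a nonzero element `σ` of `A` lands in the socle of `T`, then `A` is Gorenstein.
-/

set_option autoImplicit false
set_option linter.unusedSectionVars false
set_option linter.unusedVariables false
set_option linter.style.haveILetI false
universe u

namespace Groth.Agent.Lib.Helper11.Wat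

open IsLocalRing

theorem isGorenstein_of_retract {A T : Type u} [CommRing A] [CommRing T] [IsLocalRing A]
    [IsNoetherianRing A] [IsArtinianRing A] [hT : LocCoh.IsGorensteinLocalRing T] [Algebra A T]
    (hdimT : ringKrullDim T = 0)
    (hinj : Function.Injective (algebraMap A T))
    (E : T →ₗ[A] A) (hE : ∀ a, E (algebraMap A T a) = a)
    (σ : A) (hσ : σ ≠ 0) (hsoc : ∀ t ∈ maximalIdeal T, t * algebraMap A T σ = 0) :
    LocCoh.IsGorensteinLocalRing A := by
  -- the map is local
  have hloc : ∀ t ∈ maximalIdeal A, algebraMap A T t ∈ maximalIdeal T := by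
    intro t ht
    have hnil : IsNilpotent (maximalIdeal A) := by
      have := IsArtinianRing.isNilpotent_jacobson_bot (R := A)
      rwa [IsLocalRing.jacobson_eq_maximalIdeal ⊥ bot_ne_top] at this
    obtain ⟨c, hc⟩ := hnil
    have h1 : t ^ c = 0 := by
      have : t ^ c ∈ maximalIdeal A ^ c := Ideal.pow_mem_pow ht c
      rw [hc] at this
      exact this
    rw [IsLocalRing.mem_maximalIdeal, mem_nonunits_iff]
    intro hu
    have h2 : (algebraMap A T t) ^ c = 0 := by rw [← map_pow, h1, map_zero]
    have h3 : IsUnit ((algebraMap A T t) ^ c) := hu.pow c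
    rw [h2] at h3
    exact not_isUnit_zero h3
  -- `σ` lies in the socle of `A`
  have hσsoc : ∀ t ∈ maximalIdeal A, t * σ = 0 := by
    intro t ht
    apply hinj
    rw [map_mul, map_zero]
    exact hsoc _ (hloc t ht)
  have hσ' : algebraMap A T σ ≠ 0 := fun h => hσ (hinj (h.trans (map_zero _).symm))
  have hlenT := Groth.Agent.Lib.Helper16.GorArt.length_socle_eq_one_of_isGorenstein T hT hdimT
  have hsimpT : IsSimpleModule T (LocCoh.torsionBy (maximalIdeal T) T) :=
    Module.length_eq_one_iff.mp hlenT
  -- key: every nonzero socle element of `A` divides `σ` by a unit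
  have key : ∀ a : A, a ≠ 0 → (∀ t ∈ maximalIdeal A, t * a = 0) → ∃ u : A, IsUnit u ∧ σ = a * u := by
    intro a ha hasoc
    have ha' : algebraMap A T a ≠ 0 := fun h => ha (hinj (h.trans (map_zero _).symm))
    set a' := algebraMap A T a with ha'def
    have hnot : a' ∉ maximalIdeal T * Ideal.span {a'} := by
      intro hmem
      obtain ⟨t, ht, hta⟩ := Ideal.mem_mul_span_singleton.mp hmem
      have hu : IsUnit (1 - t) := by
        have := IsLocalRing.isUnit_one_sub_self_of_mem_nonunits t
          ((IsLocalRing.mem_maximalIdeal t).mp ht)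
        exact this
      have h0 : (1 - t) * a' = 0 := by rw [sub_mul, one_mul, hta, sub_self]
      exact ha' ((hu.mul_right_eq_zero).mp h0)
    obtain ⟨y, hy, hya⟩ := Groth.Agent.Lib.Helper16.GorArt.exists_mul_ne_zero_of_notMem T hT hdimT
      (maximalIdeal T * Ideal.span {a'}) hnot
    have hzsoc : y * a' ∈ LocCoh.torsionBy (maximalIdeal T) T := by
      rw [LocCoh.torsionBy, Submodule.mem_torsionBySet_iff]
      rintro ⟨t, ht⟩
      change t • (y * a') = 0
      rw [smul_eq_mul, mul_left_comm]
      exact hy _ (Ideal.mul_mem_mul ht (Ideal.mem_span_singleton_self a'))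
    have hσsocT : algebraMap A T σ ∈ LocCoh.torsionBy (maximalIdeal T) T := by
      rw [LocCoh.torsionBy, Submodule.mem_torsionBySet_iff]
      rintro ⟨t, ht⟩
      exact hsoc t ht
    have hzne : (⟨y * a', hzsoc⟩ : LocCoh.torsionBy (maximalIdeal T) T) ≠ 0 := by
      intro h
      exact hya (congrArg Subtype.val h)
    obtain ⟨c, hc⟩ := IsSimpleModule.toSpanSingleton_surjective T hzne ⟨_, hσsocT⟩
    have hc' : c * (y * a') = algebraMap A T σ := by
      have := congrArg Subtype.val hc
      simpa using this
    refine ⟨E (c * y), ?_, ?_⟩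
    · by_contra hnu
      have hm : E (c * y) ∈ maximalIdeal A := (IsLocalRing.mem_maximalIdeal _).mpr hnu
      have h1 : σ = a * E (c * y) := by
        rw [← hE σ, ← hc', ← smul_eq_mul a, ← map_smul, Algebra.smul_def]
        congr 1
        ring
      rw [mul_comm, hasoc _ hm] at h1
      exact hσ h1
    · rw [← hE σ, ← hc', ← smul_eq_mul a, ← map_smul, Algebra.smul_def]
      congr 1
      ring
  -- the socle of `A` is simple
  have hσmem : σ ∈ LocCoh.torsionBy (maximalIdeal A) A := by
    rw [LocCoh.torsionBy, Submodule.mem_torsionBySet_iff]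
    rintro ⟨t, ht⟩
    exact hσsoc t ht
  haveI hnt : Nontrivial (LocCoh.torsionBy (maximalIdeal A) A) :=
    ⟨⟨⟨σ, hσmem⟩, 0, fun h => hσ (congrArg Subtype.val h)⟩⟩
  have hsimp : IsSimpleModule A (LocCoh.torsionBy (maximalIdeal A) A) := by
    refine { toIsSimpleOrder := { eq_bot_or_eq_top := fun N => ?_ } }
    by_cases hN : N = ⊥
    · exact Or.inl hN
    · right
      obtain ⟨a, haN, ha0⟩ := (Submodule.ne_bot_iff N).mp hN
      have hasoc : ∀ t ∈ maximalIdeal A, t * (a : A) = 0 := by
        intro t ht
        have := (Submodule.mem_torsionBySet_iff _ _).mp a.2 ⟨t, ht⟩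
        exact this
      have ha0' : (a : A) ≠ 0 := fun h => ha0 (Subtype.ext h)
      obtain ⟨u, hu, hσu⟩ := key a ha0' hasoc
      have hσN : (⟨σ, hσmem⟩ : LocCoh.torsionBy (maximalIdeal A) A) ∈ N := by
        have : (⟨σ, hσmem⟩ : LocCoh.torsionBy (maximalIdeal A) A) = u • a := by
          apply Subtype.ext
          change σ = u • (a : A)
          rw [smul_eq_mul, mul_comm]
          exact hσu
        rw [this]
        exact N.smul_mem u haN
      rw [eq_top_iff]
      intro b _
      by_cases hb0 : b = 0
      · rw [hb0]; exact N.zero_mem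
      · have hbsoc : ∀ t ∈ maximalIdeal A, t * (b : A) = 0 := by
          intro t ht
          have := (Submodule.mem_torsionBySet_iff _ _).mp b.2 ⟨t, ht⟩
          exact this
        have hb0' : (b : A) ≠ 0 := fun h => hb0 (Subtype.ext h)
        obtain ⟨v, hv, hσv⟩ := key b hb0' hbsoc
        obtain ⟨w, hw⟩ := hv.exists_left_inv
        have : b = w • (⟨σ, hσmem⟩ : LocCoh.torsionBy (maximalIdeal A) A) := by
          apply Subtype.ext
          change (b : A) = w • σ
          rw [smul_eq_mul, hσv, mul_comm (b : A) v, ← mul_assoc, hw, one_mul]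
        rw [this]
        exact N.smul_mem w hσN
  exact Groth.Agent.Lib.Helper16.GorArt.isGorenstein_of_length_socle_eq_one A
    (Module.length_eq_one_iff.mpr hsimp)

end Groth.Agent.Lib.Helper11.Wat
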