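import Groth.Agent.Lib.Helper11.WatAct

/-!
# Averaging a transition matrix: an invariant determinant
-/

set_option autoImplicit false
set_option linter.unusedSectionVars false
set_option linter.unusedVariables false
set_option linter.style.haveILetI false
universe u

namespace Groth.Agent.Lib.Helper11.Wat

open MvPolynomial Matrix Groth.Agent.Lib.Helper16.Liaison

variable {k : Type u} [Field k] {n : ℕ}

local notation "S" => MvPolynomial (Fin n) k

theorem irr_eq_span_X : irr k n = Ideal.span (Set.range (X : Fin n → S)) := by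
  ext p
  rw [← Set.image_univ, mem_ideal_span_X_image]
  change constantCoeff p = 0 ↔ _
  rw [constantCoeff_eq]
  constructor
  · intro h m hm
    by_contra hcon
    push Not at hcon
    have : m = 0 := by
      ext i
      exact hcon i (Set.mem_univ i)
    subst this
    exact (mem_support_iff.mp hm) h
  · intro h
    by_contra hcon
    obtain ⟨i, -, hi⟩ := h 0 (mem_support_iff.mpr hcon)
    exact hi rfl

variable {G : Type u} [Group G] [Finite G] [MulSemiringAction G (MvPolynomial (Fin n) k)]

theorem exists_invariant_matrix (hG : IsUnit ((Nat.card G : ℕ) : k))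
    (ρ : G →* Matrix.GeneralLinearGroup (Fin n) k)
    (hdet : ∀ g : G, Matrix.det ((ρ g : Matrix (Fin n) (Fin n) k)) = 1)
    (hC : ∀ (g : G) (c : k), g • (C c : S) = C c)
    (hX : ∀ (g : G) (i : Fin n), g • (X i : S) =
      ∑ j : Fin n, (ρ g : Matrix (Fin n) (Fin n) k) j i • (X j : S))
    (θ : Fin n → S) (hθinv : ∀ i (g : G), g • θ i = θ i) (hθ : ∀ i, θ i ∈ irr k n) :
    ∃ A : Matrix (Fin n) (Fin n) S, A *ᵥ (fun i => (X i : S)) = θ ∧ ∀ g : G, g • A.det = A.det := by
  classical
  haveI : Fintype G := Fintype.ofFinite G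
  set x : Fin n → S := fun i => X i with hx
  -- a transition matrix
  have hex : ∀ i, ∃ c : Fin n → S, ∑ j, c j * x j = θ i := fun i => by
    have := hθ i
    rw [irr_eq_span_X] at this
    exact Ideal.mem_span_range_iff_exists_fun.mp this
  choose a0 ha0 using hex
  set a : Matrix (Fin n) (Fin n) S := Matrix.of a0 with ha
  have hax : a *ᵥ x = θ := by
    funext i
    exact ha0 i
  set φ : G → S →+* S := fun g => MulSemiringAction.toRingHom G S g with hφ
  have hφapp : ∀ g s, φ g s = g • s := fun g s => rfl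
  set M : G → Matrix (Fin n) (Fin n) S := fun g => ((ρ g : Matrix (Fin n) (Fin n) k)).map C with hM
  have hMmap : ∀ g h, (M g).map (φ h) = M g := by
    intro g h
    ext i j
    simp only [hM, Matrix.map_apply, hφapp, hC]
  have hMmul : ∀ g h, M (h * g) = M h * M g := by
    intro g h
    simp only [hM]
    rw [map_mul, Matrix.GeneralLinearGroup.coe_mul, Matrix.map_mul]
  have hMdet : ∀ g, (M g).det = 1 := by
    intro g
    simp only [hM]
    have := (RingHom.map_det (C : k →+* S) (ρ g : Matrix (Fin n) (Fin n) k)).symm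
    rw [RingHom.mapMatrix_apply] at this
    rw [this, hdet g, map_one]
  -- F1
  have hF1 : ∀ g, (φ g) ∘ x = (M g)ᵀ *ᵥ x := by
    intro g
    funext m
    change g • (X m : S) = _
    rw [hX g m]
    unfold Matrix.mulVec dotProduct
    refine Finset.sum_congr rfl fun j _ => ?_
    simp only [hM, Matrix.transpose_apply, Matrix.map_apply, hx, MvPolynomial.smul_eq_C_mul]
  have hMTmap : ∀ g h, ((M g)ᵀ).map (φ h) = (M g)ᵀ := by
    intro g h
    rw [Matrix.transpose_map, hMmap]
  have hφmul : ∀ g h, a.map (φ (h * g)) = (a.map (φ g)).map (φ h) := by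
    intro g h
    ext i j
    simp only [Matrix.map_apply, hφapp, mul_smul]
  clear_value M
  -- F3
  set ag : G → Matrix (Fin n) (Fin n) S := fun g => a.map (φ g) * (M g)ᵀ with hag
  have hF3 : ∀ g, ag g *ᵥ x = θ := by
    intro g
    simp only [hag]
    rw [← Matrix.mulVec_mulVec, ← hF1 g]
    funext i
    rw [← RingHom.map_mulVec, hax, hφapp, hθinv]
  -- F4
  have hF4 : ∀ g h, ag (h * g) = (ag g).map (φ h) * (M h)ᵀ := by
    intro g h
    simp only [hag]
    rw [hMmul, Matrix.transpose_mul, ← Matrix.mul_assoc, Matrix.map_mul, hMTmap, hφmul]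
  set c : k := ((Nat.card G : ℕ) : k)⁻¹ with hc
  have hcard : c * ((Nat.card G : ℕ) : k) = 1 := inv_mul_cancel₀ hG.ne_zero
  set T : Matrix (Fin n) (Fin n) S := ∑ g : G, ag g with hT
  refine ⟨(C c : S) • T, ?_, ?_⟩
  · rw [Matrix.smul_mulVec, hT, Matrix.sum_mulVec]
    simp_rw [hF3]
    rw [Finset.sum_const, Finset.card_univ, ← Nat.card_eq_fintype_card]
    funext i
    rw [Pi.smul_apply, Pi.smul_apply, smul_eq_mul, nsmul_eq_mul, ← mul_assoc,
      ← map_natCast (C : k →+* S), ← C_mul, hcard, C_1, one_mul]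
  · intro h
    have hTh : T.map (φ h) * (M h)ᵀ = T := by
      rw [hT]
      have h1 : (∑ g : G, ag g).map (φ h) = ∑ g : G, (ag g).map (φ h) := by
        rw [← RingHom.mapMatrix_apply, map_sum]
        simp only [RingHom.mapMatrix_apply]
      rw [h1, Matrix.sum_mul]
      simp_rw [← hF4]
      exact Fintype.sum_bijective (fun g => h * g) (Group.mulLeft_bijective h) _ _ (fun _ => rfl)
    have hAh : ((C c : S) • T).map (φ h) * (M h)ᵀ = (C c : S) • T := by
      rw [Matrix.map_smul' (φ h) (C c) T (map_mul (φ h)), hφapp, hC, Matrix.smul_mul, hTh]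
    have h2 := congrArg Matrix.det hAh
    rw [Matrix.det_mul, Matrix.det_transpose, hMdet, mul_one] at h2
    have h3 := RingHom.map_det (φ h) ((C c : S) • T)
    rw [RingHom.mapMatrix_apply] at h3
    rw [← hφapp, h3, h2]

end Groth.Agent.Lib.Helper11.Wat
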