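import Mathlib

/-!
# Determinant lemmas (Wiebe): Cramer, independence of the determinant of a transition matrix,
and monomial facts in polynomial rings
-/

set_option autoImplicit false
set_option linter.unusedSectionVars false
set_option linter.unusedVariables false
set_option linter.style.haveILetI false
universe u

namespace Groth.Agent.Lib.Helper11.Wat

open Matrix

section General

variable {R : Type*} [CommRing R] {n : Type*} [Fintype n] [DecidableEq n]

/-- `(M *ᵥ v) l` lies in the ideal generated by the entries of `v` indexed by a set containing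
all indices where `v` is nonzero. -/
theorem mulVec_apply_mem (M : Matrix n n R) (v : n → R) (I : Ideal R) (hv : ∀ m, v m ∈ I)
    (l : n) : (M *ᵥ v) l ∈ I := by
  unfold Matrix.mulVec dotProduct
  exact Ideal.sum_mem _ fun m _ => Ideal.mul_mem_left _ _ (hv m)

theorem det_smul_eq (M : Matrix n n R) (x : n → R) :
    M.adjugate *ᵥ (M *ᵥ x) = M.det • x := by
  rw [Matrix.mulVec_mulVec, Matrix.adjugate_mul, Matrix.smul_mulVec, Matrix.one_mulVec]

/-- **Cramer**: if `y = M x` then `det M * x_l ∈ (y)`. -/
theorem det_mul_mem_span_range (M : Matrix n n R) (x y : n → R) (h : M *ᵥ x = y) (l : n) :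
    M.det * x l ∈ Ideal.span (Set.range y) := by
  have h1 := congrFun (det_smul_eq M x) l
  rw [Pi.smul_apply, smul_eq_mul] at h1
  rw [← h1, h]
  exact mulVec_apply_mem M.adjugate y (Ideal.span (Set.range y))
    (fun m => Ideal.subset_span ⟨m, rfl⟩) l

/-- **Independence** of the determinant of a transition matrix modulo `(y)`. -/
theorem det_sub_det_mem (a a' : Matrix n n R) (x y : n → R) (ha : a *ᵥ x = y)
    (ha' : a' *ᵥ x = y)
    (hcolon : ∀ (l : n) (u : R), (∀ j, x j * u ∈ Ideal.span (y '' {m | m ≠ l})) →
      u ∈ Ideal.span (y '' {m | m ≠ l})) :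
    a.det - a'.det ∈ Ideal.span (Set.range y) := by
  classical
  set mix : Finset n → Matrix n n R := fun s => Matrix.of fun i => if i ∈ s then a' i else a i
    with hmix
  have hmixv : ∀ s, mix s *ᵥ x = y := by
    intro s
    ext m
    by_cases hm : m ∈ s
    · have : (mix s) m = a' m := by
        ext j
        simp [hmix, hm]
      change (mix s) m ⬝ᵥ x = y m
      rw [this, ← ha']
      rfl
    · have : (mix s) m = a m := by
        ext j
        simp [hmix, hm]
      change (mix s) m ⬝ᵥ x = y m
      rw [this, ← ha]
      rfl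
  have key : ∀ s : Finset n, a.det - (mix s).det ∈ Ideal.span (Set.range y) := by
    intro s
    induction s using Finset.induction_on with
    | empty =>
      have : mix ∅ = a := by
        ext i j
        simp [hmix]
      rw [this, sub_self]
      exact zero_mem _
    | insert t s ht ih =>
      have h1 : mix (insert t s) = (mix s).updateRow t (a' t) := by
        ext i j
        by_cases hi : i = t
        · subst hi
          simp [hmix]
        · rw [Matrix.updateRow_ne hi]
          simp [hmix, hi]
      have h2 : (mix s) t = a t := by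
        ext j
        simp [hmix, ht]
      set N := (mix s).updateRow t (a t - a' t) with hN
      have h3 : (mix s).det = N.det + (mix (insert t s)).det := by
        rw [h1, hN, ← Matrix.det_updateRow_add, sub_add_cancel, ← h2, Matrix.updateRow_eq_self]
      have h4 : N *ᵥ x = Function.update y t 0 := by
        rw [hN, Matrix.updateRow_mulVec, hmixv s]
        congr 1
        rw [sub_dotProduct]
        have e1 : a t ⬝ᵥ x = y t := by rw [← ha]; rfl
        have e2 : a' t ⬝ᵥ x = y t := by rw [← ha']; rfl
        rw [e1, e2, sub_self]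
      have h5 : ∀ j, x j * N.det ∈ Ideal.span (y '' {m | m ≠ t}) := by
        intro j
        have h6 := congrFun (det_smul_eq N x) j
        rw [Pi.smul_apply, smul_eq_mul] at h6
        rw [mul_comm, ← h6, h4]
        apply mulVec_apply_mem
        intro m
        by_cases hm : m = t
        · subst hm
          rw [Function.update_self]
          exact zero_mem _
        · rw [Function.update_of_ne hm]
          exact Ideal.subset_span ⟨m, hm, rfl⟩
      have h7 : N.det ∈ Ideal.span (Set.range y) :=
        Ideal.span_mono (Set.image_subset_range _ _) (hcolon t _ h5)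
      have : a.det - (mix (insert t s)).det = (a.det - (mix s).det) + N.det := by
        rw [h3]; ring
      rw [this]
      exact add_mem ih h7
  have hu : mix Finset.univ = a' := by
    ext i j
    simp [hmix]
  have := key Finset.univ
  rwa [hu] at this

end General

section Monomial

open MvPolynomial

variable {k : Type*} [CommRing k] [Nontrivial k] {σ : Type*} [Fintype σ] [DecidableEq σ]

theorem span_X_pow_eq (N : ℕ) (s : Set σ) :
    Ideal.span ((fun m => (X m : MvPolynomial σ k) ^ N) '' s) =
      Ideal.span ((fun e => monomial e (1 : k)) '' ((fun m => Finsupp.single m N) '' s)) := by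
  rw [Set.image_image]
  congr 1
  ext p
  simp only [Set.mem_image, X_pow_eq_monomial]

/-- colon property of pure powers -/
theorem X_pow_colon (N : ℕ) (l : σ) (u : MvPolynomial σ k)
    (h : X l * u ∈ Ideal.span ((fun m => (X m : MvPolynomial σ k) ^ N) '' {m | m ≠ l})) :
    u ∈ Ideal.span ((fun m => (X m : MvPolynomial σ k) ^ N) '' {m | m ≠ l}) := by
  rw [span_X_pow_eq, mem_ideal_span_monomial_image] at h ⊢
  intro xi hxi
  have hx : Finsupp.single l 1 + xi ∈ (X l * u).support := by
    rw [mem_support_iff, coeff_X_mul]
    exact mem_support_iff.mp hxi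
  obtain ⟨si, ⟨m, hm, rfl⟩, hle⟩ := h _ hx
  refine ⟨_, ⟨m, hm, rfl⟩, ?_⟩
  intro j
  have := hle j
  by_cases hj : j = m
  · subst hj
    have hjl : j ≠ l := hm
    simpa [Finsupp.single_apply, hjl.symm, hjl] using this
  · simp [Ne.symm hj]

/-- the product of the `N`-th powers of the variables is not in the ideal of `(N+1)`-st powers -/
theorem prod_X_pow_notMem (N : ℕ) :
    (∏ i : σ, (X i : MvPolynomial σ k) ^ N) ∉
      Ideal.span (Set.range fun m => (X m : MvPolynomial σ k) ^ (N + 1)) := by
  intro h
  have h0 : Set.range (fun m => (X m : MvPolynomial σ k) ^ (N + 1)) =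
      (fun m => (X m : MvPolynomial σ k) ^ (N + 1)) '' Set.univ := by
    rw [Set.image_univ]
  rw [h0, span_X_pow_eq, mem_ideal_span_monomial_image] at h
  have hprod : (∏ i : σ, (X i : MvPolynomial σ k) ^ N) =
      monomial (Finsupp.equivFunOnFinite.symm fun _ => N) (1 : k) := by
    rw [monomial_eq, C_1, one_mul, Finsupp.prod_fintype]
    · rfl
    · intro i; rw [pow_zero]
  rw [hprod] at h
  have hsupp : (Finsupp.equivFunOnFinite.symm fun _ : σ => N) ∈
      (monomial (Finsupp.equivFunOnFinite.symm fun _ : σ => N) (1 : k)).support := by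
    rw [mem_support_iff, coeff_monomial, if_pos rfl]
    exact one_ne_zero
  obtain ⟨si, ⟨m, -, rfl⟩, hle⟩ := h _ hsupp
  have := hle m
  simp at this

/-- **Non-vanishing**: if `θ = a x` and the ideal `(θ)` contains a power of every variable, then
`det a ∉ (θ)`. -/
theorem det_notMem_of_pow_mem (θ : σ → MvPolynomial σ k)
    (a : Matrix σ σ (MvPolynomial σ k)) (ha : a *ᵥ (fun i => (X i : MvPolynomial σ k)) = θ)
    (N : ℕ) (hN : ∀ l, (X l : MvPolynomial σ k) ^ (N + 1) ∈ Ideal.span (Set.range θ)) :
    a.det ∉ Ideal.span (Set.range θ) := by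
  intro hdet
  set y : σ → MvPolynomial σ k := fun m => (X m : MvPolynomial σ k) ^ (N + 1) with hy
  have hb : ∀ l, ∃ c : σ → MvPolynomial σ k, ∑ j, c j * θ j = y l := fun l =>
    Ideal.mem_span_range_iff_exists_fun.mp (hN l)
  choose b hb using hb
  set bM : Matrix σ σ (MvPolynomial σ k) := Matrix.of b with hbM
  have hbθ : bM *ᵥ θ = y := by
    funext l
    exact hb l
  have h1 : (bM * a) *ᵥ (fun i => (X i : MvPolynomial σ k)) = y := by
    rw [← Matrix.mulVec_mulVec, ha, hbθ]
  have h2 : (Matrix.diagonal fun i => (X i : MvPolynomial σ k) ^ N) *ᵥ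
      (fun i => (X i : MvPolynomial σ k)) = y := by
    funext l
    rw [Matrix.mulVec_diagonal, hy]
    exact (pow_succ _ _).symm
  have h3 := det_sub_det_mem (bM * a) (Matrix.diagonal fun i => (X i : MvPolynomial σ k) ^ N)
    (fun i => (X i : MvPolynomial σ k)) y h1 h2 (fun l u hu => X_pow_colon (N + 1) l u (hu l))
  have h4 : bM.det * a.det ∈ Ideal.span (Set.range y) := by
    obtain ⟨c, hc⟩ := Ideal.mem_span_range_iff_exists_fun.mp hdet
    rw [← hc, Finset.mul_sum]
    refine Ideal.sum_mem _ fun j _ => ?_
    rw [mul_left_comm]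
    exact Ideal.mul_mem_left _ _ (det_mul_mem_span_range bM θ y hbθ j)
  rw [Matrix.det_mul, Matrix.det_diagonal] at h3
  have h5 : (∏ i : σ, (X i : MvPolynomial σ k) ^ N) ∈ Ideal.span (Set.range y) := by
    have := sub_mem h4 h3
    rwa [sub_sub_cancel] at this
  exact prod_X_pow_notMem N h5

end Monomial

end Groth.Agent.Lib.Helper11.Wat
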