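import Groth.Agent.Lib.Helper11.WatAct
import Groth.Agent.Lib.Helper11.InvCM
import Groth.Agent.Lib.Helper11.GrPolyA
import Groth.Agent.S11137

/-!
# The invariant ring of a finite group acting linearly on a polynomial ring: finiteness,
Reynolds operator, heights, Cohen–Macaulayness
-/

set_option autoImplicit false
set_option linter.unusedSectionVars false
set_option linter.unusedVariables false
set_option linter.style.haveILetI false
universe u

namespace Groth.Agent.Lib.Helper11.Wat

open MvPolynomial DirectSum

section General

/-- integral + going-down: contraction preserves heights. -/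
theorem height_comap_eq_of_goingDown {A R : Type*} [CommRing A] [CommRing R] [Algebra A R]
    [Algebra.HasGoingDown A R] [Algebra.IsIntegral A R] (P : Ideal R) [hP : P.IsPrime] :
    (P.comap (algebraMap A R)).height = P.height := by
  apply le_antisymm
  · haveI hcp : (P.comap (algebraMap A R)).IsPrime := Ideal.comap_isPrime _ _
    rw [PrimeSpectrum.height_eq_orderHeight (⟨P.comap (algebraMap A R), hcp⟩ : PrimeSpectrum _),
      PrimeSpectrum.height_eq_orderHeight (⟨P, hP⟩ : PrimeSpectrum R)]
    apply Order.height_le
    intro l hl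
    haveI : P.LiesOver l.last.asIdeal := ⟨by rw [hl]⟩
    obtain ⟨L, hlen, hlast, -⟩ := Ideal.exists_ltSeries_of_hasGoingDown l P
    rw [← hlen]
    exact Order.length_le_height hlast.le
  · have hsm : StrictMono (PrimeSpectrum.comap (algebraMap A R)) := by
      intro I J hIJ
      have := I.2
      exact Ideal.IsIntegral.comap_lt_comap (R := A) (I := I.asIdeal) (J := J.asIdeal) hIJ
    have h := Order.height_le_height_apply_of_strictMono _ hsm (⟨P, hP⟩ : PrimeSpectrum R)
    rw [← PrimeSpectrum.height_eq_orderHeight, ← PrimeSpectrum.height_eq_orderHeight] at h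
    exact h

end General

variable (k : Type u) [Field k] (n : ℕ) (G : Type u) [Group G]
  [MulSemiringAction G (MvPolynomial (Fin n) k)] [hL : LinAct k n G] [Finite G]

local notation "S" => MvPolynomial (Fin n) k
local notation "𝒮" => GrSyz.stdGr k (Fin n)

instance isIntegral_inv : Algebra.IsIntegral (invSub k n G) (MvPolynomial (Fin n) k) :=
  Algebra.IsInvariant.isIntegral (invSub k n G) (MvPolynomial (Fin n) k) G

instance finiteType_inv : Algebra.FiniteType (invSub k n G) (MvPolynomial (Fin n) k) :=
  Algebra.FiniteType.of_restrictScalars_finiteType k (invSub k n G) (MvPolynomial (Fin n) k)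

instance finite_inv : Module.Finite (invSub k n G) (MvPolynomial (Fin n) k) :=
  Algebra.IsIntegral.finite

instance finiteType_base_inv : Algebra.FiniteType k (invSub k n G) :=
  ⟨fg_of_fg_of_fg k (invSub k n G) (MvPolynomial (Fin n) k)
    (Algebra.FiniteType.out) (Module.Finite.fg_top) Subtype.val_injective⟩

instance isNoetherianRing_inv : IsNoetherianRing (invSub k n G) :=
  Algebra.FiniteType.isNoetherianRing k (invSub k n G)

instance hasGoingDown_inv : Algebra.HasGoingDown (invSub k n G) (MvPolynomial (Fin n) k) :=
  Groth.Agent.S11137.result (invSub k n G) (MvPolynomial (Fin n) k) G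

variable {k n G}

/-- The Reynolds operator. -/
theorem exists_reynolds (hG : IsUnit ((Nat.card G : ℕ) : k)) :
    ∃ E : S →ₗ[invSub k n G] invSub k n G,
      ∀ a, E (algebraMap (invSub k n G) S a) = a := by
  classical
  haveI : Fintype G := Fintype.ofFinite G
  set c : k := ((Nat.card G : ℕ) : k)⁻¹ with hc
  have hcard : c * ((Nat.card G : ℕ) : k) = 1 := inv_mul_cancel₀ hG.ne_zero
  have hinv : ∀ (s : S) (h : G), h • (c • ∑ g : G, g • s) = c • ∑ g : G, g • s := by
    intro s h
    rw [smul_comm, Finset.smul_sum]
    congr 1
    simp_rw [smul_smul]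
    exact Fintype.sum_bijective (fun g => h * g) (Group.mulLeft_bijective h) _ _ (fun _ => rfl)
  refine ⟨{ toFun := fun s => ⟨c • ∑ g : G, g • s, hinv s⟩
            map_add' := ?_
            map_smul' := ?_ }, ?_⟩
  · intro x y
    apply Subtype.ext
    change c • ∑ g : G, g • (x + y) = c • ∑ g : G, g • x + c • ∑ g : G, g • y
    simp_rw [smul_add, Finset.sum_add_distrib, smul_add]
  · intro b x
    apply Subtype.ext
    change c • ∑ g : G, g • ((b : S) * x) = (b : S) * (c • ∑ g : G, g • x)
    simp_rw [smul_mul', smul_coe]
    rw [← Finset.mul_sum, mul_smul_comm]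
  · intro a
    apply Subtype.ext
    change c • ∑ g : G, g • (a : S) = a
    simp_rw [smul_coe]
    rw [Finset.sum_const, Finset.card_univ, ← Nat.card_eq_fintype_card, ← Nat.cast_smul_eq_nsmul k,
      smul_smul, hcard, one_smul]

variable (k n G)

theorem height_comap_inv (P : Ideal S) [P.IsPrime] :
    (P.comap (algebraMap (invSub k n G) S)).height = P.height :=
  height_comap_eq_of_goingDown P

variable {k n G}

theorem isCohenMacaulayRing_inv (hG : IsUnit ((Nat.card G : ℕ) : k)) :
    LocCoh.IsCohenMacaulayRing (invSub k n G) := by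
  obtain ⟨E, hE⟩ := exists_reynolds (k := k) (n := n) (G := G) hG
  exact (Groth.Agent.Lib.Helper11.InvCM.cm_of_retract
    (fun P _ => height_comap_inv k n G P) Subtype.val_injective E hE
    (Groth.Agent.Lib.Helper11.GrPoly.isCM k n)).1

end Groth.Agent.Lib.Helper11.Wat
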