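import Groth.Agent.Lib.Helper16.Liaison5
import Groth.Agent.Lib.Helper16.GorAnn

/-!
# Local lemmas for Watanabe's theorem: quotients with a single prime, Gorenstein rings that are local,
lifting the Gorenstein property along regular sequences
-/

set_option autoImplicit false
set_option linter.unusedSectionVars false
set_option linter.unusedVariables false
set_option linter.style.haveILetI false
universe u

namespace Groth.Agent.Lib.Helper11.Wat

open IsLocalRing RingTheory.Sequence

section Quot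

variable {R : Type u} [CommRing R] (I M : Ideal R) [hM : M.IsMaximal]

/-- every prime of `R/I` is the image of `M` when `M` is the only prime containing `I` -/
theorem prime_quot_eq (h : ∀ P : Ideal R, P.IsPrime → I ≤ P → P = M) (𝔭 : Ideal (R ⧸ I))
    [h𝔭 : 𝔭.IsPrime] : 𝔭 = M.map (Ideal.Quotient.mk I) := by
  have h1 : 𝔭.comap (Ideal.Quotient.mk I) = M := by
    apply h _ (Ideal.comap_isPrime _ _)
    intro x hx
    rw [Ideal.mem_comap, Ideal.Quotient.eq_zero_iff_mem.mpr hx]
    exact zero_mem _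
  rw [← h1, Ideal.map_comap_of_surjective _ Ideal.Quotient.mk_surjective]

theorem isLocalRing_quot (hIM : I ≤ M) (h : ∀ P : Ideal R, P.IsPrime → I ≤ P → P = M) :
    IsLocalRing (R ⧸ I) := by
  haveI : Nontrivial (R ⧸ I) :=
    Ideal.Quotient.nontrivial_iff.mpr (fun htop => hM.ne_top (top_le_iff.mp (htop ▸ hIM)))
  obtain ⟨𝔐, h𝔐⟩ := Ideal.exists_maximal (R ⧸ I)
  refine IsLocalRing.of_unique_max_ideal ⟨𝔐, h𝔐, fun 𝔑 h𝔑 => ?_⟩
  haveI := h𝔑.isPrime
  haveI := h𝔐.isPrime
  rw [prime_quot_eq I M h 𝔑, prime_quot_eq I M h 𝔐]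

theorem krullDimLE_quot (hIM : I ≤ M) (h : ∀ P : Ideal R, P.IsPrime → I ≤ P → P = M) :
    Ring.KrullDimLE 0 (R ⧸ I) := by
  haveI : Nontrivial (R ⧸ I) :=
    Ideal.Quotient.nontrivial_iff.mpr (fun htop => hM.ne_top (top_le_iff.mp (htop ▸ hIM)))
  obtain ⟨𝔐, h𝔐⟩ := Ideal.exists_maximal (R ⧸ I)
  rw [Ring.krullDimLE_zero_iff]
  intro 𝔭 h𝔭
  haveI := h𝔐.isPrime
  rw [prime_quot_eq I M h 𝔭, ← prime_quot_eq I M h 𝔐]
  exact h𝔐

theorem ringKrullDim_quot (hIM : I ≤ M) (h : ∀ P : Ideal R, P.IsPrime → I ≤ P → P = M) :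
    ringKrullDim (R ⧸ I) = 0 := by
  haveI : Nontrivial (R ⧸ I) :=
    Ideal.Quotient.nontrivial_iff.mpr (fun htop => hM.ne_top (top_le_iff.mp (htop ▸ hIM)))
  apply le_antisymm
  · exact Ring.krullDimLE_iff.mp (krullDimLE_quot I M hIM h)
  · exact ringKrullDim_nonneg_of_nontrivial

theorem isArtinianRing_quot [IsNoetherianRing R] (hIM : I ≤ M)
    (h : ∀ P : Ideal R, P.IsPrime → I ≤ P → P = M) : IsArtinianRing (R ⧸ I) :=
  isArtinianRing_iff_krullDimLE_zero.mpr (krullDimLE_quot I M hIM h)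

theorem comap_maximalIdeal_quot [IsLocalRing (R ⧸ I)]
    (h : ∀ P : Ideal R, P.IsPrime → I ≤ P → P = M) :
    (maximalIdeal (R ⧸ I)).comap (Ideal.Quotient.mk I) = M := by
  apply h _ (Ideal.comap_isPrime _ _)
  intro x hx
  rw [Ideal.mem_comap, Ideal.Quotient.eq_zero_iff_mem.mpr hx]
  exact zero_mem _

theorem height_eq_of_unique_prime (hIM : I ≤ M) (h : ∀ P : Ideal R, P.IsPrime → I ≤ P → P = M) :
    I.height = M.height := by
  apply le_antisymm (Ideal.height_mono hIM)
  rw [I.height_eq_inf_minimalPrimes]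
  refine le_iInf₂ fun P hP => ?_
  rw [h P hP.1.1 hP.1.2]

end Quot

section GorLocal

/-- a Gorenstein ring that is local is a Gorenstein local ring -/
theorem gorLocal_of_gorRing (T : Type u) [CommRing T] [IsLocalRing T]
    [hG : LocCoh.IsGorensteinRing T] : LocCoh.IsGorensteinLocalRing T := by
  have h1 := hG.isGorensteinLocalRing_localization (maximalIdeal T)
  have hu : (maximalIdeal T).primeCompl ≤ IsUnit.submonoid T := by
    intro x hx
    by_contra hnu
    exact hx ((IsLocalRing.mem_maximalIdeal x).mpr hnu)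
  have e : T ≃ₐ[T] Localization.AtPrime (maximalIdeal T) :=
    IsLocalization.atUnits T (maximalIdeal T).primeCompl hu
  exact Groth.Agent.Lib.Helper2.GK.gor_of_ringEquiv e.symm.toRingEquiv h1

end GorLocal

section Lift

open Groth.Agent.Lib.Helper16.GorQuot Groth.Agent.Lib.Helper16.Liaison

variable {T : Type u} [CommRing T] [IsLocalRing T] [IsNoetherianRing T]

theorem gor_of_quot_sup_ofList (gs : List T) (hgs : ∀ g ∈ gs, g ∈ maximalIdeal T) :
    ∀ (𝔞 : Ideal T), 𝔞 ≠ ⊤ → IsWeaklyRegular (T ⧸ 𝔞) gs →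
      LocCoh.IsGorensteinLocalRing (T ⧸ (𝔞 ⊔ Ideal.ofList gs)) →
      LocCoh.IsGorensteinLocalRing (T ⧸ 𝔞) := by
  induction gs with
  | nil =>
    intro 𝔞 _ _ hG
    exact gor_congr_ideal (by rw [Ideal.ofList_nil, sup_bot_eq]) hG
  | cons x gs ih =>
    intro 𝔞 h𝔞 hreg hG
    rw [isWeaklyRegular_cons_iff] at hreg
    have hx : x ∈ maximalIdeal T := hgs x List.mem_cons_self
    have hregx := (isSMulRegular_quotient_iff 𝔞 x).mp hreg.1
    have hreg' : IsWeaklyRegular (T ⧸ (𝔞 ⊔ Ideal.span {x})) gs :=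
      ((quotSMulTopEquiv 𝔞 x).isWeaklyRegular_congr gs).mp hreg.2
    have hG' : LocCoh.IsGorensteinLocalRing (T ⧸ ((𝔞 ⊔ Ideal.span {x}) ⊔ Ideal.ofList gs)) :=
      gor_congr_ideal (by rw [Ideal.ofList_cons, sup_assoc]) hG
    have := ih (fun g hg => hgs g (List.mem_cons_of_mem _ hg)) (𝔞 ⊔ Ideal.span {x})
      (sup_span_ne_top 𝔞 h𝔞 x hx) hreg' hG'
    exact (gor_sup_iff 𝔞 h𝔞 x hx hregx).mpr this

/-- A local ring is Gorenstein if its quotient by a regular sequence is. -/
theorem gor_of_quot_ofList (gs : List T) (hgs : ∀ g ∈ gs, g ∈ maximalIdeal T)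
    (hreg : IsWeaklyRegular T gs) (hG : LocCoh.IsGorensteinLocalRing (T ⧸ Ideal.ofList gs)) :
    LocCoh.IsGorensteinLocalRing T := by
  have h2 : IsWeaklyRegular (T ⧸ (⊥ : Ideal T)) gs :=
    ((Submodule.quotEquivOfEqBot (⊥ : Ideal T) rfl).isWeaklyRegular_congr gs).mpr hreg
  have h3 : LocCoh.IsGorensteinLocalRing (T ⧸ ((⊥ : Ideal T) ⊔ Ideal.ofList gs)) :=
    gor_congr_ideal (by rw [bot_sup_eq]) hG
  have h1 := gor_of_quot_sup_ofList gs hgs ⊥ bot_ne_top h2 h3
  exact Groth.Agent.Lib.Helper2.GK.gor_of_ringEquiv (RingEquiv.quotientBot T) h1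

end Lift

section Loc

open Groth.Agent.Lib.Helper16.GorQuot Groth.Agent.Lib.Helper16.Liaison
open Groth.Agent.Lib.Helper18.CM

variable {R : Type u} [CommRing R] [IsNoetherianRing R] (Q : Ideal R) [Q.IsPrime]

/-- Converse of `gor_quot_map_span_range` over a Cohen–Macaulay local ring. -/
theorem gor_of_quot_map_span_range
    (hCM : LocCoh.IsCohenMacaulayLocalRing (Localization.AtPrime Q))
    (c : ℕ) (g : Fin c → R) (hgQ : Ideal.span (Set.range g) ≤ Q)
    (hc : (Ideal.span (Set.range g)).height = c)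
    (hG : LocCoh.IsGorensteinLocalRing (Localization.AtPrime Q ⧸
      (Ideal.span (Set.range g)).map (algebraMap R (Localization.AtPrime Q)))) :
    LocCoh.IsGorensteinLocalRing (Localization.AtPrime Q) := by
  haveI : IsNoetherianRing (Localization.AtPrime Q) :=
    IsLocalization.isNoetherianRing Q.primeCompl _ inferInstance
  set gs : List (Localization.AtPrime Q) :=
    List.ofFn (fun i => algebraMap R (Localization.AtPrime Q) (g i)) with hgsdef
  have hgs : ∀ x ∈ gs, x ∈ maximalIdeal (Localization.AtPrime Q) := by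
    intro x hx
    rw [hgsdef, List.mem_ofFn] at hx
    obtain ⟨i, rfl⟩ := hx
    rw [IsLocalization.AtPrime.to_map_mem_maximal_iff (Localization.AtPrime Q) Q]
    exact hgQ (Ideal.subset_span ⟨i, rfl⟩)
  have hofList : Ideal.ofList gs =
      (Ideal.span (Set.range g)).map (algebraMap R (Localization.AtPrime Q)) := by
    rw [Ideal.map_span, Ideal.ofList]
    congr 1
    ext x
    simp only [Set.mem_ofPred_eq, hgsdef, List.mem_ofFn, Set.mem_image, Set.mem_range,
      exists_exists_eq_and]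
  have hdim := add_ringKrullDim_quot_map Q hCM _ hgQ c
    (fun P hP => height_eq_of_mem_minimalPrimes_span_range c g hc hP)
  have hreg : IsWeaklyRegular (Localization.AtPrime Q) gs := by
    rw [(isWeaklyRegular_iff_supportDim_and_isCohenMacaulayModule gs hgs (Localization.AtPrime Q)
      hCM.supportDim_eq_depth).1]
    have e : ((Localization.AtPrime Q) ⧸ (Ideal.ofList gs • ⊤ :
        Submodule (Localization.AtPrime Q) (Localization.AtPrime Q))) ≃ₗ[Localization.AtPrime Q]
        ((Localization.AtPrime Q) ⧸ Ideal.ofList gs) :=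
      Submodule.quotEquivOfEq _ _ (by rw [smul_eq_mul, Ideal.mul_top])
    rw [Module.supportDim_eq_of_equiv e, Module.supportDim_quotient_eq_ringKrullDim,
      Module.supportDim_self_eq_ringKrullDim, hgsdef, List.length_ofFn, ← hgsdef, ← hdim, add_comm,
      ringKrullDim_congr_ideal hofList]
  exact gor_of_quot_ofList gs hgs hreg (gor_congr_ideal hofList.symm hG)

end Loc

section QuotLoc

open Groth.Agent.Lib.Helper16.Liaison

variable {R : Type u} [CommRing R] (I M : Ideal R) [hM : M.IsMaximal]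

/-- If `R/I` is a Gorenstein local ring whose only prime comes from `M`, then `R_M/I R_M` is
Gorenstein. -/
theorem gor_localization_quot (h : ∀ P : Ideal R, P.IsPrime → I ≤ P → P = M)
    [hG : LocCoh.IsGorensteinLocalRing (R ⧸ I)] :
    haveI : M.IsPrime := hM.isPrime
    LocCoh.IsGorensteinLocalRing
      (Localization.AtPrime M ⧸ I.map (algebraMap R (Localization.AtPrime M))) := by
  haveI : M.IsPrime := hM.isPrime
  haveI hqprime : (maximalIdeal (R ⧸ I)).IsPrime := (maximalIdeal.isMaximal _).isPrime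
  have hq : M = (maximalIdeal (R ⧸ I)).comap (Ideal.Quotient.mk I) :=
    (comap_maximalIdeal_quot I M h).symm
  have hGq : LocCoh.IsGorensteinLocalRing (Localization.AtPrime (maximalIdeal (R ⧸ I))) :=
    Groth.Agent.Lib.Helper16.GorAnn.isGorensteinLocalRing_localization _
  exact Groth.Agent.Lib.Helper2.GK.gor_of_ringEquiv
    (locQuotEquiv I (maximalIdeal (R ⧸ I)) M hq) hGq

end QuotLoc

end Groth.Agent.Lib.Helper11.Wat
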