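import Groth.Agent.Lib.Helper11.WatFin
import Groth.Agent.Lib.Helper11.WatAvg
import Groth.Agent.Lib.Helper11.WatAvoid

/-!
# A homogeneous system of parameters consisting of invariants
-/

set_option autoImplicit false
set_option linter.unusedSectionVars false
set_option linter.unusedVariables false
set_option linter.style.haveILetI false
universe u

namespace Groth.Agent.Lib.Helper11.Wat

open MvPolynomial DirectSum Groth.Agent.Lib.Helper16.Liaison

variable (k : Type u) [Field k] (n : ℕ) (G : Type u) [Group G]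
  [MulSemiringAction G (MvPolynomial (Fin n) k)] [hL : LinAct k n G] [Finite G]

local notation "S" => MvPolynomial (Fin n) k
local notation "𝒮" => GrSyz.stdGr k (Fin n)

/-- invariant forms of degree `d` -/
noncomputable def Hinv (d : ℕ) : AddSubgroup (MvPolynomial (Fin n) k) where
  carrier := {p | p ∈ 𝒮 (d : ℤ) ∧ ∀ g : G, g • p = p}
  add_mem' := by
    rintro a b ⟨ha, ha'⟩ ⟨hb, hb'⟩
    exact ⟨Submodule.add_mem _ ha hb, fun g => by rw [smul_add, ha' g, hb' g]⟩
  zero_mem' := ⟨Submodule.zero_mem _, fun g => smul_zero g⟩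
  neg_mem' := by
    rintro a ⟨ha, ha'⟩
    exact ⟨Submodule.neg_mem _ ha, fun g => by rw [smul_neg, ha' g]⟩

variable {k n G}

theorem mem_Hinv {d : ℕ} {p : S} : p ∈ Hinv k n G d ↔ p ∈ 𝒮 (d : ℤ) ∧ ∀ g : G, g • p = p :=
  Iff.rfl

theorem one_mem_Hinv : (1 : S) ∈ Hinv k n G 0 := by
  refine ⟨?_, fun g => smul_one g⟩
  rw [Nat.cast_zero]
  exact SetLike.GradedOne.one_mem

theorem mul_mem_Hinv (a b : ℕ) (x y : S) (hx : x ∈ Hinv k n G a) (hy : y ∈ Hinv k n G b) :
    x * y ∈ Hinv k n G (a + b) := by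
  refine ⟨?_, fun g => by rw [smul_mul', hx.2 g, hy.2 g]⟩
  rw [Nat.cast_add]
  exact SetLike.GradedMul.mul_mem hx.1 hy.1

theorem X_pow_mem_stdGr (l : Fin n) (j : ℕ) : (X l : S) ^ j ∈ 𝒮 (j : ℤ) := by
  have h1 : (X l : S) ∈ 𝒮 1 := isWeightedHomogeneous_X k _ l
  have h2 := SetLike.pow_mem_graded j h1
  simpa using h2

/-- a prime missing a variable misses an invariant form of positive degree -/
theorem exists_invariant_notMem (P : Ideal S) [hP : P.IsPrime] (l : Fin n)
    (hl : (X l : S) ∉ P) : ∃ d, 0 < d ∧ ∃ w ∈ Hinv k n G d, w ∉ P := by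
  obtain ⟨p, hmonic, hp⟩ := Algebra.IsIntegral.isIntegral (R := invSub k n G) (X l : S)
  set m := p.natDegree with hm
  rw [Polynomial.eval₂_eq_sum_range] at hp
  -- take the component of degree `m`
  have h1 : ∀ j ∈ Finset.range (m + 1),
      (decompose 𝒮 (algebraMap (invSub k n G) S (p.coeff j) * (X l : S) ^ j) (m : ℤ) : S) =
        (decompose 𝒮 ((p.coeff j : invSub k n G) : S) ((m : ℤ) - j) : S) * (X l : S) ^ j := by
    intro j _
    have h2 : (m : ℤ) = ((m : ℤ) - j) + j := by ring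
    conv_lhs => rw [h2]
    exact coe_decompose_mul_add_of_right_mem 𝒮 (X_pow_mem_stdGr l j)
  have h3 : ∑ j ∈ Finset.range (m + 1),
      (decompose 𝒮 ((p.coeff j : invSub k n G) : S) ((m : ℤ) - j) : S) * (X l : S) ^ j = 0 := by
    have h4 := congrArg (fun s => (decompose 𝒮 s (m : ℤ) : S)) hp
    simp only [decompose_sum, decompose_zero] at h4
    rw [DFinsupp.finsetSum_apply, AddSubmonoidClass.coe_finsetSum] at h4
    rw [← Finset.sum_congr rfl h1]
    simpa using h4
  rw [Finset.sum_range_succ] at h3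
  have h5 : (decompose 𝒮 ((p.coeff m : invSub k n G) : S) ((m : ℤ) - m) : S) = 1 := by
    rw [hm, hmonic.coeff_natDegree, sub_self]
    exact decompose_of_mem_same 𝒮 SetLike.GradedOne.one_mem
  rw [h5, one_mul] at h3
  by_contra hcon
  push Not at hcon
  have h6 : ∀ j ∈ Finset.range m,
      (decompose 𝒮 ((p.coeff j : invSub k n G) : S) ((m : ℤ) - j) : S) ∈ P := by
    intro j hj
    have hjm : j < m := Finset.mem_range.mp hj
    apply hcon (m - j) (by omega)
    refine ⟨?_, fun g => ?_⟩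
    · have : ((m - j : ℕ) : ℤ) = (m : ℤ) - j := by omega
      rw [this]
      exact SetLike.coe_mem _
    · rw [← decompose_smul, smul_coe]
  have h7 : (X l : S) ^ m ∈ P := by
    have h8 : (X l : S) ^ m =
        -∑ j ∈ Finset.range m,
          (decompose 𝒮 ((p.coeff j : invSub k n G) : S) ((m : ℤ) - j) : S) * (X l : S) ^ j := by
      rw [eq_neg_iff_add_eq_zero, add_comm]
      exact h3
    rw [h8]
    exact P.neg_mem (P.sum_mem fun j hj => P.mul_mem_right _ (h6 j hj))
  exact hl (hP.mem_of_pow_mem m h7)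

variable (k n)

theorem height_irr : (irr k n).height = n := by
  have h1 := Groth.Agent.Lib.Helper7.DimFT.height_eq_ringKrullDim_of_isMaximal k
    (MvPolynomial (Fin n) k) (irr k n)
  rw [Groth.Agent.Lib.Helper11.GrPoly.krullDim] at h1
  exact_mod_cast h1

variable {k n}

theorem exists_X_notMem (P : Ideal S) (hP : P ≤ irr k n) (hne : P ≠ irr k n) :
    ∃ l, (X l : S) ∉ P := by
  by_contra hcon
  push Not at hcon
  apply hne
  apply le_antisymm hP
  rw [irr_eq_span_X, Ideal.span_le]
  rintro _ ⟨l, rfl⟩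
  exact hcon l

variable (k n G)

theorem exists_sop_aux (i : ℕ) (hi : i ≤ n) :
    ∃ θ : Fin i → S, (∀ j, ∃ d, 0 < d ∧ θ j ∈ Hinv k n G d) ∧
      ∀ P : Ideal S, P.IsPrime → Ideal.span (Set.range θ) ≤ P → (i : ℕ∞) ≤ P.height := by
  classical
  induction i with
  | zero => exact ⟨fun j => j.elim0, fun j => j.elim0, fun P _ _ => by simp⟩
  | succ i ih =>
    obtain ⟨θ, hθ, hht⟩ := ih (by omega)
    set J := Ideal.span (Set.range θ) with hJ
    have hJhom : J.IsHomogeneous 𝒮 := by
      apply Ideal.homogeneous_span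
      rintro _ ⟨j, rfl⟩
      obtain ⟨d, -, hd⟩ := hθ j
      exact ⟨(d : ℤ), hd.1⟩
    have hfin : J.minimalPrimes.Finite := Ideal.finite_minimalPrimes_of_isNoetherianRing S J
    set s : Finset (Ideal S) := hfin.toFinset.filter (fun P => P ≠ irr k n) with hs
    have hsmem : ∀ P, P ∈ s ↔ P ∈ J.minimalPrimes ∧ P ≠ irr k n := by
      intro P
      rw [hs, Finset.mem_filter, Set.Finite.mem_toFinset]
    obtain ⟨d, hd, w, hw, hwP⟩ := exists_graded_notMem (Hinv k n G) one_mem_Hinv mul_mem_Hinv s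
      (fun P hP => ((hsmem P).mp hP).1.1.1)
      (fun P hP => by
        have hPmin := ((hsmem P).mp hP).1
        haveI : P.IsPrime := hPmin.1.1
        obtain ⟨l, hl⟩ := exists_X_notMem P (le_irr_of_mem_minimalPrimes hJhom hPmin)
          ((hsmem P).mp hP).2
        exact exists_invariant_notMem P l hl)
    refine ⟨Fin.snoc θ w, ?_, ?_⟩
    · intro j
      induction j using Fin.lastCases with
      | last => rw [Fin.snoc_last]; exact ⟨d, hd, hw⟩
      | cast j => rw [Fin.snoc_castSucc]; exact hθ j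
    · intro Q hQ hle
      rw [Fin.range_snoc, Ideal.span_insert, sup_le_iff, Ideal.span_singleton_le_iff_mem] at hle
      obtain ⟨hwQ, hJQ⟩ := hle
      obtain ⟨P, hPmin, hPQ⟩ := Ideal.exists_minimalPrimes_le hJQ
      haveI : P.IsPrime := hPmin.1.1
      by_cases hPirr : P = irr k n
      · have hQirr : Q = irr k n := by
          rw [hPirr] at hPQ
          exact ((irr_isMaximal k n).eq_of_le hQ.ne_top hPQ).symm
        rw [hQirr, height_irr]
        exact_mod_cast hi
      · have hPs : P ∈ s := (hsmem P).mpr ⟨hPmin, hPirr⟩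
        have hlt : P < Q := lt_of_le_of_ne hPQ (fun h => hwP P hPs (h ▸ hwQ))
        have h1 := Ideal.height_add_one_le_of_lt_of_isPrime hlt
        have h2 := hht P inferInstance hPmin.1.2
        push_cast
        exact (add_le_add_left h2 1).trans h1

theorem exists_sop : ∃ θ : Fin n → S, (∀ j, ∃ d, 0 < d ∧ θ j ∈ Hinv k n G d) ∧
    ∀ P : Ideal S, P.IsPrime → Ideal.span (Set.range θ) ≤ P → P = irr k n := by
  obtain ⟨θ, hθ, hht⟩ := exists_sop_aux k n G n le_rfl
  refine ⟨θ, hθ, fun P hP hle => ?_⟩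
  have hJhom : (Ideal.span (Set.range θ)).IsHomogeneous 𝒮 := by
    apply Ideal.homogeneous_span
    rintro _ ⟨j, rfl⟩
    obtain ⟨d, -, hd⟩ := hθ j
    exact ⟨(d : ℤ), hd.1⟩
  obtain ⟨P0, hP0min, hP0P⟩ := Ideal.exists_minimalPrimes_le hle
  haveI : P0.IsPrime := hP0min.1.1
  have hP0irr : P0 = irr k n := by
    by_contra hne
    have hlt : P0 < irr k n := lt_of_le_of_ne (le_irr_of_mem_minimalPrimes hJhom hP0min) hne
    have h1 := Ideal.height_add_one_le_of_lt_of_isPrime hlt
    have h2 := hht P0 inferInstance hP0min.1.2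
    rw [height_irr] at h1
    have h3 : ((n : ℕ∞)) + 1 ≤ n := (add_le_add_left h2 1).trans h1
    have h4 : ((n + 1 : ℕ) : ℕ∞) ≤ n := by exact_mod_cast h3
    have h5 : n + 1 ≤ n := by exact_mod_cast h4
    omega
  rw [hP0irr] at hP0P
  exact ((irr_isMaximal k n).eq_of_le hP.ne_top hP0P).symm

end Groth.Agent.Lib.Helper11.Wat
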