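import Groth.Agent.Lib.Helper11.WatGlob
import Groth.Agent.Lib.Helper11.WatArt
import Groth.Agent.Lib.Helper11.WatDet
import Groth.Agent.Lib.Helper11.WatSop
import Groth.Agent.Lib.Helper11.WatLoc
import Groth.Agent.Lib.Helper11.GrSegOneA

/-!
# Watanabe's theorem: invariants of a finite subgroup of `SL_n` (order invertible) are Gorenstein
-/

set_option autoImplicit false
set_option linter.unusedSectionVars false
set_option linter.unusedVariables false
set_option linter.style.haveILetI false
universe u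

namespace Groth.Agent.Lib.Helper11.Wat

open MvPolynomial Matrix IsLocalRing Groth.Agent.Lib.Helper16.Liaison

variable {k : Type u} [Field k] {n : ℕ} {G : Type u} [Group G] [Finite G]
  [MulSemiringAction G (MvPolynomial (Fin n) k)]

local notation "S" => MvPolynomial (Fin n) k

section Retract

variable {B T : Type u} [CommRing B] [CommRing T] [Algebra B T]

/-- The quotient-level version of the Artinian retract lemma. -/
theorem gor_quot_of_retract (IB : Ideal B) (IT : Ideal T)
    (hcomap : IT.comap (algebraMap B T) = IB)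
    (E : T →ₗ[B] B) (hE : ∀ b, E (algebraMap B T b) = b) (hEI : ∀ s ∈ IT, E s ∈ IB)
    [IsNoetherianRing (B ⧸ IB)] [IsLocalRing (B ⧸ IB)] [IsArtinianRing (B ⧸ IB)]
    [hT : LocCoh.IsGorensteinLocalRing (T ⧸ IT)] (hdim : ringKrullDim (T ⧸ IT) = 0)
    (Δ : B) (hΔ : algebraMap B T Δ ∉ IT)
    (hsoc : ∀ s : T, Ideal.Quotient.mk IT s ∈ maximalIdeal (T ⧸ IT) →
      s * algebraMap B T Δ ∈ IT) :
    LocCoh.IsGorensteinLocalRing (B ⧸ IB) := by
  letI algRT : Algebra (B ⧸ IB) (T ⧸ IT) :=
    (Ideal.quotientMap IT (algebraMap B T) (le_of_eq hcomap.symm)).toAlgebra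
  have halg : ∀ b : B, algebraMap (B ⧸ IB) (T ⧸ IT) (Ideal.Quotient.mk IB b) =
      Ideal.Quotient.mk IT (algebraMap B T b) := fun b => by
    rw [RingHom.algebraMap_toAlgebra, Ideal.quotientMap_mk]
  have hinj : Function.Injective (algebraMap (B ⧸ IB) (T ⧸ IT)) := by
    rw [RingHom.algebraMap_toAlgebra]
    exact Ideal.quotientMap_injective' (le_of_eq hcomap)
  have hwell : ∀ s s' : T, Ideal.Quotient.mk IT s = Ideal.Quotient.mk IT s' →
      Ideal.Quotient.mk IB (E s) = Ideal.Quotient.mk IB (E s') := by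
    intro s s' h
    rw [Ideal.Quotient.eq] at h ⊢
    rw [← map_sub]
    exact hEI _ h
  let E0 : T ⧸ IT → B ⧸ IB := fun t =>
    Ideal.Quotient.mk IB (E (Function.surjInv Ideal.Quotient.mk_surjective t))
  have hE0 : ∀ s, E0 (Ideal.Quotient.mk IT s) = Ideal.Quotient.mk IB (E s) := fun s =>
    hwell _ _ (Function.surjInv_eq Ideal.Quotient.mk_surjective _)
  let Ebar : (T ⧸ IT) →ₗ[B ⧸ IB] (B ⧸ IB) :=
    { toFun := E0
      map_add' := by
        intro t t'
        obtain ⟨s, rfl⟩ := Ideal.Quotient.mk_surjective t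
        obtain ⟨s', rfl⟩ := Ideal.Quotient.mk_surjective t'
        rw [← map_add, hE0, hE0, hE0, map_add, map_add]
      map_smul' := by
        intro r t
        obtain ⟨b, rfl⟩ := Ideal.Quotient.mk_surjective r
        obtain ⟨s, rfl⟩ := Ideal.Quotient.mk_surjective t
        rw [Algebra.smul_def, halg, ← map_mul, hE0, hE0, RingHom.id_apply, smul_eq_mul, ← map_mul]
        congr 1
        rw [← Algebra.smul_def, map_smul, smul_eq_mul] }
  have hEbar1 : ∀ r, Ebar (algebraMap (B ⧸ IB) (T ⧸ IT) r) = r := by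
    intro r
    obtain ⟨b, rfl⟩ := Ideal.Quotient.mk_surjective r
    rw [halg]
    change E0 _ = _
    rw [hE0, hE b]
  have hσmap : algebraMap (B ⧸ IB) (T ⧸ IT) (Ideal.Quotient.mk IB Δ) =
      Ideal.Quotient.mk IT (algebraMap B T Δ) := halg Δ
  have hσne : Ideal.Quotient.mk IB Δ ≠ 0 := by
    intro h
    have h1 := congrArg (algebraMap (B ⧸ IB) (T ⧸ IT)) h
    rw [hσmap, map_zero, Ideal.Quotient.eq_zero_iff_mem] at h1
    exact hΔ h1
  have hsoc' : ∀ t ∈ maximalIdeal (T ⧸ IT),
      t * algebraMap (B ⧸ IB) (T ⧸ IT) (Ideal.Quotient.mk IB Δ) = 0 := by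
    intro t ht
    obtain ⟨s, rfl⟩ := Ideal.Quotient.mk_surjective t
    rw [hσmap, ← map_mul, Ideal.Quotient.eq_zero_iff_mem]
    exact hsoc s ht
  exact isGorenstein_of_retract hdim hinj Ebar hEbar1 _ hσne hsoc'

end Retract

set_option maxHeartbeats 1600000 in
set_option synthInstance.maxHeartbeats 400000 in
theorem isGorensteinRing_invSub [hL : LinAct k n G] (hG : IsUnit ((Nat.card G : ℕ) : k))
    (ρ : G →* Matrix.GeneralLinearGroup (Fin n) k)
    (hdet : ∀ g : G, Matrix.det ((ρ g : Matrix (Fin n) (Fin n) k)) = 1)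
    (hC : ∀ (g : G) (c : k), g • (C c : S) = C c)
    (hX : ∀ (g : G) (i : Fin n), g • (X i : S) =
      ∑ j : Fin n, (ρ g : Matrix (Fin n) (Fin n) k) j i • (X j : S)) :
    LocCoh.IsGorensteinRing (invSub k n G) := by
  classical
  obtain ⟨θ, hθH, hθP⟩ := exists_sop k n G
  have hθinv : ∀ i (g : G), g • θ i = θ i := fun i g => by
    obtain ⟨d, -, hd⟩ := hθH i
    exact hd.2 g
  have hθirr : ∀ i, θ i ∈ irr k n := by
    intro i
    obtain ⟨d, hdpos, hd⟩ := hθH i
    change constantCoeff (θ i) = 0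
    rw [constantCoeff_eq]
    apply MvPolynomial.IsWeightedHomogeneous.coeff_eq_zero hd.1
    rw [map_zero]
    exact_mod_cast hdpos.ne
  set IS : Ideal S := Ideal.span (Set.range θ) with hIS
  have hISirr : IS ≤ irr k n := Ideal.span_le.mpr (by rintro _ ⟨i, rfl⟩; exact hθirr i)
  -- the invariant determinant
  obtain ⟨Amat, hAx, hAinv⟩ := exists_invariant_matrix hG ρ hdet hC hX θ hθinv hθirr
  set Δ : S := Amat.det with hΔ
  have hΔsoc : ∀ l, Δ * (X l : S) ∈ IS := fun l =>
    det_mul_mem_span_range Amat (fun i => (X i : S)) θ hAx l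
  have hrad : ∀ l, ∃ e : ℕ, (X l : S) ^ e ∈ IS := by
    intro l
    have : (X l : S) ∈ IS.radical := by
      rw [Ideal.radical_eq_sInf, Ideal.mem_sInf]
      rintro P ⟨hle, hP⟩
      rw [hθP P hP hle]
      change constantCoeff (X l : S) = 0
      exact constantCoeff_X _ l
    exact this
  choose e he using hrad
  have hN : ∀ l, (X l : S) ^ (Finset.univ.sup e + 1) ∈ IS := fun l =>
    IS.pow_mem_of_pow_mem (he l) ((Finset.le_sup (Finset.mem_univ l)).trans (Nat.le_succ _))
  have hΔnot : Δ ∉ IS := det_notMem_of_pow_mem θ Amat hAx _ hN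
  -- the invariant side
  set θB : Fin n → invSub k n G := fun i => ⟨θ i, hθinv i⟩ with hθB
  set IB : Ideal (invSub k n G) := Ideal.span (Set.range θB) with hIB
  obtain ⟨E, hE⟩ := exists_reynolds (k := k) (n := n) (G := G) hG
  have hEmul : ∀ (c : S) (i : Fin n), E (c * θ i) = θB i * E c := by
    intro c i
    have : c * θ i = θB i • c := by
      rw [Algebra.smul_def, mul_comm]
      rfl
    rw [this, map_smul, smul_eq_mul]
  have hEIS : ∀ s ∈ IS, E s ∈ IB := by
    intro s hs
    obtain ⟨c, rfl⟩ := Ideal.mem_span_range_iff_exists_fun.mp hs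
    rw [map_sum]
    refine Ideal.sum_mem _ fun i _ => ?_
    rw [hEmul]
    exact Ideal.mul_mem_right _ _ (Ideal.subset_span ⟨i, rfl⟩)
  have hmapIB : IB.map (algebraMap (invSub k n G) S) = IS := by
    rw [hIB, Ideal.map_span, hIS]
    congr 1
    ext x
    constructor
    · rintro ⟨_, ⟨i, rfl⟩, rfl⟩
      exact ⟨i, rfl⟩
    · rintro ⟨i, rfl⟩
      exact ⟨θB i, ⟨i, rfl⟩, rfl⟩
  have hcomap : IS.comap (algebraMap (invSub k n G) S) = IB := by
    apply le_antisymm
    · intro b hb
      rw [Ideal.mem_comap] at hb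
      have := hEIS _ hb
      rwa [hE b] at this
    · rw [← Ideal.map_le_iff_le_comap, hmapIB]
  have hIBirr : IB ≤ invIrr k n G := by
    rw [hIB, Ideal.span_le]
    rintro _ ⟨i, rfl⟩
    exact hθirr i
  have hBP : ∀ P : Ideal (invSub k n G), P.IsPrime → IB ≤ P → P = invIrr k n G := by
    intro P hP hle
    obtain ⟨Q, -, hQprime, hQ⟩ := Ideal.exists_ideal_over_prime_of_isIntegral P (⊥ : Ideal S) (by
      intro a ha
      rw [Ideal.mem_comap, Ideal.mem_bot] at ha
      have : a = 0 := Subtype.ext ha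
      rw [this]
      exact zero_mem _)
    have hISQ : IS ≤ Q := by
      rw [← hmapIB, Ideal.map_le_iff_le_comap, hQ]
      exact hle
    have hQirr := hθP Q hQprime hISQ
    rw [← hQ, hQirr]
    rfl
  -- the Artinian quotients
  haveI hTloc : IsLocalRing (S ⧸ IS) := isLocalRing_quot IS (irr k n) hISirr hθP
  have hTdim : ringKrullDim (S ⧸ IS) = 0 := ringKrullDim_quot IS (irr k n) hISirr hθP
  have hISht : IS.height = n := by
    rw [height_eq_of_unique_prime IS (irr k n) hISirr hθP, height_irr]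
  haveI hTgorR : LocCoh.IsGorensteinRing (S ⧸ IS) := isGorensteinRing_quot_span_range n θ hISht
  haveI hTgor : LocCoh.IsGorensteinLocalRing (S ⧸ IS) := gorLocal_of_gorRing _
  haveI hRloc : IsLocalRing (invSub k n G ⧸ IB) :=
    isLocalRing_quot IB (invIrr k n G) hIBirr hBP
  haveI hRart : IsArtinianRing (invSub k n G ⧸ IB) :=
    isArtinianRing_quot IB (invIrr k n G) hIBirr hBP
  set ΔB : invSub k n G := ⟨Δ, hAinv⟩ with hΔB
  haveI hRgor : LocCoh.IsGorensteinLocalRing (invSub k n G ⧸ IB) := by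
    refine gor_quot_of_retract IB IS hcomap E hE hEIS hTdim ΔB hΔnot ?_
    intro s hs
    have hs' : s ∈ irr k n := by
      rw [← comap_maximalIdeal_quot IS (irr k n) hθP]
      exact hs
    rw [irr_eq_span_X] at hs'
    obtain ⟨c, rfl⟩ := Ideal.mem_span_range_iff_exists_fun.mp hs'
    rw [Finset.sum_mul]
    refine Ideal.sum_mem _ fun l _ => ?_
    rw [mul_assoc, mul_comm (X l : S)]
    exact Ideal.mul_mem_left _ _ (hΔsoc l)
  -- localize at the maximal ideal of the invariants
  haveI hmprime : (invIrr k n G).IsPrime := (invIrr_isMaximal k n G).isPrime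
  have hGquot := gor_localization_quot IB (invIrr k n G) hBP
  have hIBht : IB.height = n := by
    rw [height_eq_of_unique_prime IB (invIrr k n G) hIBirr hBP]
    have := height_comap_inv k n G (irr k n)
    rw [height_irr] at this
    exact this
  have hCMB := isCohenMacaulayRing_inv (k := k) (n := n) (G := G) hG
  have hCMloc := hCMB.isCohenMacaulayLocalRing_localization (invIrr k n G)
  have hGm : LocCoh.IsGorensteinLocalRing (Localization.AtPrime (invIrr k n G)) :=
    gor_of_quot_map_span_range (invIrr k n G) hCMloc n θB hIBirr hIBht hGquot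
  haveI : (invIrrH k n G).toIdeal.IsPrime := hmprime
  haveI : LocCoh.IsGorensteinLocalRing (Localization.AtPrime (invIrrH k n G).toIdeal) := hGm
  exact isGorensteinRing_of_local (invGr k n G) (invIrrH k n G) (isStarLocal_invIrrH k n G)

end Groth.Agent.Lib.Helper11.Wat
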